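import Mathlib
import Groth.Prelude.Def_CAlg
import Groth.Agent.Lib.Helper26.DepthLoc

/-!
# Spreading out weakly regular sequences (helper2)
* `isSMulRegular_localized_iff`, `spread_isSMulRegular`, `spread_isWeaklyRegular`: a sequence of elements
  of `A` weakly regular on `M_p` is weakly regular on `M_q` for all `q` in a basic open nbhd of `p`.
* `isWeaklyRegular_of_forall₂_unit`: unit multiples; `exists_lift_list`: lift from `I A_p` to `I`.
-/

set_option autoImplicit false
universe u v

open RingTheory.Sequence LocCoh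
open scoped Pointwise
open Groth.Agent.Lib.helper26.Depth

namespace Groth.Agent.Lib.helper2.SpreadOut

/-- weak regularity is insensitive to multiplying the entries by units -/
theorem isWeaklyRegular_of_forall₂_unit {B : Type u} [CommRing B] {rs rs' : List B}
    (h : List.Forall₂ (fun r r' : B => ∃ u : Bˣ, r' = u * r) rs rs') :
    ∀ (N : Type v) [AddCommGroup N] [Module B N], IsWeaklyRegular N rs → IsWeaklyRegular N rs' := by
  induction h with
  | nil => intro N _ _ h; exact h
  | @cons r r' rs rs' hr _ ih =>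
    intro N _ _ hreg
    obtain ⟨u, rfl⟩ := hr
    rw [isWeaklyRegular_cons_iff] at hreg ⊢
    obtain ⟨h1, h2⟩ := hreg
    have hsub : ((u : B) * r) • (⊤ : Submodule B N) = r • (⊤ : Submodule B N) := by
      apply le_antisymm
      · rintro _ ⟨n, -, rfl⟩
        exact ⟨(u : B) • n, Submodule.mem_top, by
          change r • (u : B) • n = ((u : B) * r) • n
          rw [smul_smul, mul_comm]⟩
      · rintro _ ⟨n, -, rfl⟩
        refine ⟨((u⁻¹ : Bˣ) : B) • n, Submodule.mem_top, ?_⟩
        change ((u : B) * r) • ((u⁻¹ : Bˣ) : B) • n = r • n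
        rw [smul_smul, mul_comm (u : B) r, mul_assoc, Units.mul_inv, mul_one]
    refine ⟨?_, ?_⟩
    · intro a b hab
      apply h1
      have : (u : B) • (r • a) = (u : B) • (r • b) := by
        simpa [mul_smul] using hab
      exact (u.isUnit.isSMulRegular N) this
    · have e : QuotSMulTop ((u : B) * r) N ≃ₗ[B] QuotSMulTop r N :=
        Submodule.quotEquivOfEq _ _ hsub
      exact (e.isWeaklyRegular_congr _).mpr (ih _ h2)

/-- elements of `I A_p` are unit multiples of images of elements of `I` -/
theorem exists_lift_list {A : Type u} [CommRing A] (p : Ideal A) [p.IsPrime] (I : Ideal A)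
    (rs' : List (Localization.AtPrime p))
    (h : ∀ r ∈ rs', r ∈ I.map (algebraMap A (Localization.AtPrime p))) :
    ∃ rs : List A, rs.length = rs'.length ∧ (∀ a ∈ rs, a ∈ I) ∧
      List.Forall₂ (fun (r r'' : Localization.AtPrime p) => ∃ u : (Localization.AtPrime p)ˣ,
        r'' = u * r) rs' (rs.map (algebraMap A (Localization.AtPrime p))) := by
  induction rs' with
  | nil => exact ⟨[], rfl, by simp, by simp⟩
  | cons r rs' ih =>
    obtain ⟨rs, hlen, hmem, hall⟩ := ih (fun r hr => h r (List.mem_cons_of_mem _ hr))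
    obtain ⟨⟨a, s⟩, hs⟩ := (IsLocalization.mem_map_algebraMap_iff p.primeCompl
      (Localization.AtPrime p)).mp (h r List.mem_cons_self)
    refine ⟨a.1 :: rs, by simp [hlen], ?_, ?_⟩
    · intro b hb
      rcases List.mem_cons.mp hb with rfl | hb
      · exact a.2
      · exact hmem b hb
    · rw [List.map_cons]
      refine List.Forall₂.cons ?_ hall
      have hu : IsUnit (algebraMap A (Localization.AtPrime p) s.1) :=
        IsLocalization.map_units _ s
      exact ⟨hu.unit, by rw [IsUnit.unit_spec, ← hs, mul_comm]⟩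

variable {A : Type u} [CommRing A]

/-- regularity of `x/1` on `M_q` in elementary terms -/
lemma isSMulRegular_localized_iff (q : Ideal A) [q.IsPrime] (M : Type u) [AddCommGroup M]
    [Module A M] (x : A) :
    IsSMulRegular (LocalizedModule q.primeCompl M) (algebraMap A (Localization.AtPrime q) x) ↔
      ∀ m : M, (∃ t : A, t ∉ q ∧ t • x • m = 0) → ∃ t : A, t ∉ q ∧ t • m = 0 := by
  constructor
  · intro h m ⟨t, ht, htm⟩
    have h0 : algebraMap A (Localization.AtPrime q) x •
        (LocalizedModule.mk m (1 : q.primeCompl)) = algebraMap A (Localization.AtPrime q) x • 0 := by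
      rw [smul_zero, algebraMap_smul, LocalizedModule.smul'_mk,
        ← LocalizedModule.zero_mk (1 : q.primeCompl), LocalizedModule.mk_eq]
      exact ⟨⟨t, ht⟩, by simpa [Submonoid.smul_def] using htm⟩
    have h1 := h h0
    rw [← LocalizedModule.zero_mk (1 : q.primeCompl), LocalizedModule.mk_eq] at h1
    obtain ⟨c, hc⟩ := h1
    exact ⟨c.1, c.2, by simpa [Submonoid.smul_def] using hc⟩
  · intro h a b hab
    rw [← sub_eq_zero] at hab ⊢
    rw [← smul_sub] at hab
    generalize a - b = z at hab ⊢
    induction z using LocalizedModule.induction_on with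
    | h m s =>
      rw [algebraMap_smul, LocalizedModule.smul'_mk, ← LocalizedModule.zero_mk s,
        LocalizedModule.mk_eq] at hab
      obtain ⟨c, hc⟩ := hab
      obtain ⟨t, ht, htm⟩ := h m ⟨c.1 * s.1, q.primeCompl.mul_mem c.2 s.2, by
        simpa [Submonoid.smul_def, mul_smul] using hc⟩
      rw [← LocalizedModule.zero_mk s, LocalizedModule.mk_eq]
      refine ⟨⟨t, ht⟩, ?_⟩
      simp only [Submonoid.smul_def, smul_zero]
      rw [smul_comm, htm, smul_zero]

variable [IsNoetherianRing A]

/-- spreading out regularity of one element -/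
theorem spread_isSMulRegular (p : Ideal A) [p.IsPrime] (M : Type u) [AddCommGroup M]
    [Module A M] [Module.Finite A M] (x : A)
    (h : IsSMulRegular (LocalizedModule p.primeCompl M)
      (algebraMap A (Localization.AtPrime p) x)) :
    ∃ g : A, g ∉ p ∧ ∀ (q : Ideal A) [q.IsPrime], g ∉ q →
      IsSMulRegular (LocalizedModule q.primeCompl M)
        (algebraMap A (Localization.AtPrime q) x) := by
  rw [isSMulRegular_localized_iff] at h
  let K : Submodule A M := LinearMap.ker (LinearMap.lsmul A M x)
  have hKmem : ∀ m : M, m ∈ K ↔ x • m = 0 := fun m => by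
    simp [K, LinearMap.mem_ker]
  have hsupp : (⟨p, inferInstance⟩ : PrimeSpectrum A) ∉ Module.support A K := by
    rw [Module.mem_support_iff']
    push Not
    intro k
    obtain ⟨t, ht, htk⟩ := h k.1 ⟨1, p.primeCompl.one_mem, by
      rw [one_smul]; exact (hKmem _).mp k.2⟩
    exact ⟨t, ht, Subtype.ext (by simpa using htk)⟩
  rw [Module.mem_support_iff_of_finite, SetLike.not_le_iff_exists] at hsupp
  obtain ⟨g, hgann, hgp⟩ := hsupp
  refine ⟨g, hgp, fun q _ hgq => ?_⟩
  rw [isSMulRegular_localized_iff]
  rintro m ⟨t, ht, htm⟩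
  have hmem : t • m ∈ K := by
    rw [hKmem, smul_comm]; exact htm
  have h0 : g • (⟨t • m, hmem⟩ : K) = 0 := (Module.mem_annihilator.mp hgann) _
  refine ⟨g * t, fun hmem' => ?_, ?_⟩
  · rcases (inferInstance : q.IsPrime).mem_or_mem hmem' with h' | h'
    · exact hgq h'
    · exact ht h'
  · rw [mul_smul]
    exact congrArg Subtype.val h0

/-- spreading out a weakly regular sequence from `M_p` to a neighbourhood of `p` -/
theorem spread_isWeaklyRegular (p : Ideal A) [p.IsPrime] (xs : List A) :
    ∀ (M : Type u) [AddCommGroup M] [Module A M] [Module.Finite A M],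
      IsWeaklyRegular (LocalizedModule p.primeCompl M)
        (xs.map (algebraMap A (Localization.AtPrime p))) →
      ∃ g : A, g ∉ p ∧ ∀ (q : Ideal A) [q.IsPrime], g ∉ q →
        IsWeaklyRegular (LocalizedModule q.primeCompl M)
          (xs.map (algebraMap A (Localization.AtPrime q))) := by
  induction xs with
  | nil =>
    intro M _ _ _ _
    exact ⟨1, fun h => (inferInstance : p.IsPrime).ne_top ((Ideal.eq_top_iff_one p).mpr h),
      fun q _ _ => IsWeaklyRegular.nil _ _⟩
  | cons x xs ih =>
    intro M _ _ _ h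
    rw [List.map_cons, isWeaklyRegular_cons_iff] at h
    obtain ⟨hx, hxs⟩ := h
    obtain ⟨g₁, hg₁p, hg₁⟩ := spread_isSMulRegular p M x hx
    have hxs' : IsWeaklyRegular (LocalizedModule p.primeCompl (QuotSMulTop x M))
        (xs.map (algebraMap A (Localization.AtPrime p))) :=
      ((localizedQuotSMulTopEquiv p M x).isWeaklyRegular_congr _).mp hxs
    obtain ⟨g₂, hg₂p, hg₂⟩ := ih (QuotSMulTop x M) hxs'
    refine ⟨g₁ * g₂, fun hmem => ?_, fun q _ hq => ?_⟩
    · rcases (inferInstance : p.IsPrime).mem_or_mem hmem with h' | h'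
      · exact hg₁p h'
      · exact hg₂p h'
    · have hq₁ : g₁ ∉ q := fun h' => hq (q.mul_mem_right g₂ h')
      have hq₂ : g₂ ∉ q := fun h' => hq (q.mul_mem_left g₁ h')
      rw [List.map_cons, isWeaklyRegular_cons_iff]
      exact ⟨hg₁ q hq₁, ((localizedQuotSMulTopEquiv q M x).isWeaklyRegular_congr _).mpr
        (hg₂ q hq₂)⟩


/-- EGA IV 12-type openness: the `I`-depth at `p` spreads to a neighbourhood. -/
theorem exists_open_idealDepth_ge (I : Ideal A) (M : Type u) [AddCommGroup M] [Module A M]
    [Module.Finite A M] (p : PrimeSpectrum A) (e : ℕ)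
    (he : LocCoh.idealDepth (I.map (algebraMap A (Localization.AtPrime p.asIdeal)))
      (LocalizedModule p.asIdeal.primeCompl M) = e) :
    ∃ g : A, g ∉ p.asIdeal ∧ ∀ q : PrimeSpectrum A, g ∉ q.asIdeal →
      (e : ℕ∞) ≤ LocCoh.idealDepth (I.map (algebraMap A (Localization.AtPrime q.asIdeal)))
        (LocalizedModule q.asIdeal.primeCompl M) := by
  have hIM : (I.map (algebraMap A (Localization.AtPrime p.asIdeal))) •
      (⊤ : Submodule (Localization.AtPrime p.asIdeal) (LocalizedModule p.asIdeal.primeCompl M)) ≠ ⊤ := by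
    intro htop
    rw [idealDepth_eq_top_of_smul_top_eq_top _ _ htop] at he
    exact ENat.top_ne_natCast e he
  obtain ⟨rs', hlen', hmem', hreg'⟩ := exists_isWeaklyRegular_of_le hIM (n := e) (le_of_eq he.symm)
  obtain ⟨rs, hlen, hmem, hall⟩ := exists_lift_list p.asIdeal I rs' hmem'
  have hreg := isWeaklyRegular_of_forall₂_unit hall _ hreg'
  obtain ⟨g, hgp, hg⟩ := spread_isWeaklyRegular p.asIdeal rs M hreg
  refine ⟨g, hgp, fun q hq => ?_⟩
  have h1 := length_le_idealDepth
    (I := I.map (algebraMap A (Localization.AtPrime q.asIdeal))) (hg q.asIdeal hq) (by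
      intro r hr
      obtain ⟨a, ha, rfl⟩ := List.mem_map.mp hr
      exact Ideal.mem_map_of_mem _ (hmem a ha))
  rw [List.length_map, hlen, hlen'] at h1
  exact h1

end Groth.Agent.Lib.helper2.SpreadOut
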