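import Groth.Agent.Lib.Helper2.QuotLib
import Mathlib

universe u
open CategoryTheory AlgebraicGeometry Opposite Limits

namespace Groth.Agent.Lib.helper2.QuotLib

/-- prime avoidance, topological form -/
theorem exists_basicOpen_of_finite {R : Type*} [CommRing R] (T : Set (PrimeSpectrum R))
    (hT : T.Finite) (V : Set (PrimeSpectrum R)) (hV : IsOpen V) (hTV : T ⊆ V) :
    ∃ f : R, T ⊆ (PrimeSpectrum.basicOpen f : Set (PrimeSpectrum R)) ∧
      (PrimeSpectrum.basicOpen f : Set (PrimeSpectrum R)) ⊆ V := by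
  classical
  rcases T.eq_empty_or_nonempty with rfl | ⟨p0, hp0⟩
  · refine ⟨0, Set.empty_subset _, ?_⟩
    rw [PrimeSpectrum.basicOpen_zero]
    exact Set.empty_subset _
  obtain ⟨I, hI⟩ : ∃ I : Ideal R, Vᶜ = PrimeSpectrum.zeroLocus (I : Set R) := by
    have hc : IsClosed Vᶜ := hV.isClosed_compl
    rw [PrimeSpectrum.isClosed_iff_zeroLocus_ideal] at hc
    exact hc
  have hnot : ¬ ((I : Set R) ⊆ ⋃ p ∈ (hT.toFinset : Set (PrimeSpectrum R)), (p.asIdeal : Set R)) := by
    intro hsub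
    have h1 := (Ideal.subset_union_prime (s := hT.toFinset)
      (f := fun p : PrimeSpectrum R => p.asIdeal) p0 p0
      (fun p _ _ _ => p.2) (I := I)).1 hsub
    obtain ⟨p, hp, hIp⟩ := h1
    have hpT : p ∈ T := hT.mem_toFinset.1 hp
    have : p ∈ Vᶜ := by
      rw [hI, PrimeSpectrum.mem_zeroLocus]
      exact hIp
    exact this (hTV hpT)
  rw [Set.not_subset] at hnot
  obtain ⟨f, hfI, hf⟩ := hnot
  refine ⟨f, fun p hp => ?_, fun p hp => ?_⟩
  · intro hfp
    apply hf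
    simp only [Set.mem_iUnion]
    exact ⟨p, hT.mem_toFinset.2 hp, hfp⟩
  · by_contra hpV
    have : p ∈ Vᶜ := hpV
    rw [hI, PrimeSpectrum.mem_zeroLocus] at this
    exact hp (this hfI)

/-- prime avoidance in an affine open of a scheme -/
theorem exists_basicOpen_of_finite_affine {X : Scheme.{u}} {U : X.Opens} (hU : IsAffineOpen U)
    (T : Set X) (hT : T.Finite) (V : X.Opens) (hTV : T ⊆ V) (hTU : T ⊆ U) :
    ∃ f : Γ(X, U), T ⊆ X.basicOpen f ∧ X.basicOpen f ≤ V := by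
  have hTfin : (hU.fromSpec ⁻¹' T).Finite :=
    hT.preimage (hU.fromSpec.isOpenEmbedding.injective.injOn)
  obtain ⟨f, hf1, hf2⟩ := exists_basicOpen_of_finite (hU.fromSpec ⁻¹' T) hTfin
    (hU.fromSpec ⁻¹' (V : Set X)) (hU.fromSpec ⁻¹ᵁ V).2
    (fun z hz => hTV hz)
  refine ⟨f, fun x hx => ?_, fun x hx => ?_⟩
  · have hxU : x ∈ U := hTU hx
    have e := hU.fromSpec_primeIdealOf ⟨x, hxU⟩
    have h1 : hU.primeIdealOf ⟨x, hxU⟩ ∈ hU.fromSpec ⁻¹' T := by
      show hU.fromSpec (hU.primeIdealOf ⟨x, hxU⟩) ∈ T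
      rw [e]; exact hx
    have h2 := hf1 h1
    rw [← hU.fromSpec_preimage_basicOpen] at h2
    have h3 : hU.fromSpec (hU.primeIdealOf ⟨x, hxU⟩) ∈ X.basicOpen f := h2
    rwa [e] at h3
  · have hxU : x ∈ U := X.basicOpen_le f hx
    have e := hU.fromSpec_primeIdealOf ⟨x, hxU⟩
    have h1 : hU.primeIdealOf ⟨x, hxU⟩ ∈ hU.fromSpec ⁻¹ᵁ X.basicOpen f := by
      show hU.fromSpec (hU.primeIdealOf ⟨x, hxU⟩) ∈ X.basicOpen f
      rw [e]; exact hx
    rw [hU.fromSpec_preimage_basicOpen] at h1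
    have h2 := hf2 h1
    have h3 : hU.fromSpec (hU.primeIdealOf ⟨x, hxU⟩) ∈ V := h2
    rwa [e] at h3

variable {X : Scheme.{u}} {G : Type u} [Group G] {ρ : G →* Aut X}

theorem rho_mul_apply (g h : G) (x : X) :
    (ρ (g * h)).hom.base x = (ρ g).hom.base ((ρ h).hom.base x) := by
  rw [rho_mul_hom]; rfl

theorem rho_one_apply (x : X) : (ρ 1).hom.base x = x := by
  rw [rho_one_hom]; rfl

/-- the basic open of `sig g s` is the preimage of the basic open of `s` -/
theorem basicOpen_sig {V : X.Opens} (hV : IsStable ρ V) (g : G) (s : Γ(X, V)) :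
    X.basicOpen (sig hV g s) = (ρ g).hom ⁻¹ᵁ X.basicOpen s := by
  have h1 : sig hV g s = X.presheaf.map (homOfLE (hV g)).op ((ρ g).hom.app V s) := rfl
  rw [h1, Scheme.basicOpen_res, ← Scheme.preimage_basicOpen]
  apply le_antisymm inf_le_right
  refine le_inf ?_ le_rfl
  intro x hx
  have h2 : (ρ g).hom.base x ∈ V := X.basicOpen_le s hx
  have h3 : x ∈ (ρ g).hom ⁻¹ᵁ V := h2
  rwa [hV.preimage_eq g] at h3

theorem mem_basicOpen_prod {V : X.Opens} {ι : Type*} (S : Finset ι) (a : ι → Γ(X, V)) (x : X) :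
    x ∈ X.basicOpen (∏ i ∈ S, a i) ↔ x ∈ V ∧ ∀ i ∈ S, x ∈ X.basicOpen (a i) := by
  classical
  induction S using Finset.induction_on with
  | empty =>
    simp only [Finset.prod_empty, Finset.notMem_empty, false_imp_iff, implies_true, and_true]
    rw [X.basicOpen_of_isUnit isUnit_one]
  | insert i S hi ih =>
    rw [Finset.prod_insert hi, Scheme.basicOpen_mul]
    constructor
    · rintro ⟨h1, h2⟩
      obtain ⟨h3, h4⟩ := ih.1 h2
      refine ⟨h3, fun j hj => ?_⟩
      rcases Finset.mem_insert.1 hj with rfl | hj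
      · exact h1
      · exact h4 j hj
    · rintro ⟨h1, h2⟩
      exact ⟨h2 i (Finset.mem_insert_self _ _),
        ih.2 ⟨h1, fun j hj => h2 j (Finset.mem_insert_of_mem hj)⟩⟩

variable [Finite G]

/-- Every point whose orbit lies in an affine open has arbitrarily small stable affine open
neighbourhoods (inside any given stable open neighbourhood). -/
theorem exists_stable_affine_nhd
    (x : X) (hx : ∃ U : X.Opens, IsAffineOpen U ∧ ∀ g : G, (ρ g).hom.base x ∈ U)
    (O : X.Opens) (hO : IsStable ρ O) (hxO : x ∈ O) :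
    ∃ W : X.Opens, IsAffineOpen W ∧ IsStable ρ W ∧ x ∈ W ∧ W ≤ O := by
  classical
  cases nonempty_fintype G
  obtain ⟨U, hU, hxU⟩ := hx
  -- the stable open `V = O ⊓ ⋂ g⁻¹ U`
  let V : X.Opens := ⟨{z | z ∈ O ∧ ∀ g : G, (ρ g).hom.base z ∈ U}, by
    have : {z : X | z ∈ O ∧ ∀ g : G, (ρ g).hom.base z ∈ U} =
        (O : Set X) ∩ ⋂ g : G, ((ρ g).hom ⁻¹ᵁ U : Set X) := by
      ext z
      simp only [Set.mem_setOf_eq, Set.mem_inter_iff, Set.mem_iInter]
      rfl
    rw [this]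
    exact O.2.inter (isOpen_iInter_of_finite fun g => ((ρ g).hom ⁻¹ᵁ U).2)⟩
  have hmemV : ∀ z : X, z ∈ V ↔ z ∈ O ∧ ∀ g : G, (ρ g).hom.base z ∈ U := fun z => Iff.rfl
  have hVst : IsStable ρ V := by
    intro h z hz
    rw [hmemV] at hz
    show (ρ h).hom.base z ∈ V
    rw [hmemV]
    refine ⟨hO h hz.1, fun g => ?_⟩
    rw [← rho_mul_apply]
    exact hz.2 _
  have hVU : V ≤ U := by
    intro z hz
    have := ((hmemV z).1 hz).2 1
    rwa [rho_one_apply] at this
  -- the orbit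
  let T : Set X := Set.range (fun g : G => (ρ g).hom.base x)
  have hTfin : T.Finite := Set.finite_range _
  have hTV : T ⊆ V := by
    rintro _ ⟨g, rfl⟩
    show (ρ g).hom.base x ∈ V
    rw [hmemV]
    refine ⟨hO g hxO, fun g' => ?_⟩
    rw [← rho_mul_apply]
    exact hxU _
  obtain ⟨f, hf1, hf2⟩ := exists_basicOpen_of_finite_affine hU T hTfin V hTV (hTV.trans hVU)
  -- the restriction of `f` to `V`
  let s : Γ(X, V) := X.presheaf.map (homOfLE hVU).op f
  have hs : X.basicOpen s = X.basicOpen f := by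
    rw [Scheme.basicOpen_res]
    exact inf_eq_right.2 hf2
  have hDaff : IsAffineOpen (X.basicOpen s) := by
    rw [hs]; exact hU.basicOpen f
  let N : Γ(X, V) := ∏ g : G, sig hVst g s
  have hmemN : ∀ z : X, z ∈ X.basicOpen N ↔ z ∈ V ∧ ∀ g : G, (ρ g).hom.base z ∈ X.basicOpen s := by
    intro z
    rw [mem_basicOpen_prod]
    simp only [Finset.mem_univ, true_imp_iff, basicOpen_sig]
    rfl
  have hNle : X.basicOpen N ≤ X.basicOpen s := by
    intro z hz
    have := ((hmemN z).1 hz).2 1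
    rwa [rho_one_apply] at this
  refine ⟨X.basicOpen N, ?_, ?_, ?_, ?_⟩
  · have h1 : X.basicOpen (X.presheaf.map (homOfLE (X.basicOpen_le s)).op N) = X.basicOpen N := by
      rw [Scheme.basicOpen_res]
      exact inf_eq_right.2 hNle
    rw [← h1]
    exact hDaff.basicOpen _
  · intro h z hz
    rw [hmemN] at hz
    show (ρ h).hom.base z ∈ X.basicOpen N
    rw [hmemN]
    refine ⟨hVst h hz.1, fun g => ?_⟩
    rw [← rho_mul_apply]
    exact hz.2 _
  · rw [hmemN]
    refine ⟨hTV ⟨1, rho_one_apply x⟩, fun g => ?_⟩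
    rw [hs]
    exact hf1 ⟨g, rfl⟩
  · exact fun z hz => ((hmemV z).1 ((hNle.trans (X.basicOpen_le s)) hz)).1

end Groth.Agent.Lib.helper2.QuotLib
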