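import Mathlib.RingTheory.Henselian
import Mathlib.RingTheory.Jacobson.Ideal
import Mathlib.Algebra.Polynomial.Identities
import Mathlib.RingTheory.Ideal.Quotient.Operations
import Mathlib.Algebra.Polynomial.Div
import Mathlib.Algebra.Polynomial.Lifts
import Mathlib.Dynamics.Newton
import Mathlib.RingTheory.Nilpotent.Basic
import Mathlib.RingTheory.Nilpotent.Lemmas

/-!
# Helper lemmas on `HenselianRing` (Mathlib's root-lifting definition)
-/

set_option autoImplicit false

namespace Groth.Agent.Lib.helper2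

open Polynomial

variable {A : Type*} [CommRing A]

/-- Under `I ≤ jacobson ⊥`, an element is a unit modulo `I` iff it is a unit. -/
lemma isUnit_mk_iff {I : Ideal A} (hI : I ≤ Ideal.jacobson ⊥) (x : A) :
    IsUnit (Ideal.Quotient.mk I x) ↔ IsUnit x := by
  have := isLocalHom_of_le_jacobson_bot I hI
  exact ⟨fun h => isUnit_of_map_unit (Ideal.Quotient.mk I) x h, fun h => h.map _⟩

/-- A unit plus an element of the Jacobson radical is a unit. -/
lemma isUnit_add_of_mem_jacobson {J : Ideal A} (hJ : J ≤ Ideal.jacobson ⊥) {u j : A}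
    (hu : IsUnit u) (hj : j ∈ J) : IsUnit (u + j) := by
  rw [← isUnit_mk_iff hJ]
  have : Ideal.Quotient.mk J (u + j) = Ideal.Quotient.mk J u := by
    rw [map_add, Ideal.Quotient.eq_zero_iff_mem.mpr hj, add_zero]
  rw [this]
  exact hu.map _

/-- Reformulation of `HenselianRing` with the derivative a genuine unit. -/
lemma henselianRing_iff (I : Ideal A) : HenselianRing A I ↔ I ≤ Ideal.jacobson ⊥ ∧
    ∀ (f : A[X]), f.Monic → ∀ a₀ : A, f.eval a₀ ∈ I → IsUnit (f.derivative.eval a₀) →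
      ∃ a : A, f.IsRoot a ∧ a - a₀ ∈ I := by
  constructor
  · intro h
    exact ⟨h.jac, fun f hf a₀ h1 h2 => h.is_henselian f hf a₀ h1 (h2.map _)⟩
  · rintro ⟨hj, h⟩
    exact ⟨hj, fun f hf a₀ h1 h2 => h f hf a₀ h1 ((isUnit_mk_iff hj _).mp h2)⟩

/-- Sharpening via Taylor expansion: if `a` is a root of `f` with `a - a₀ ∈ J ≤ jacobson ⊥`,
`f(a₀) ∈ I` and `f'(a₀)` a unit, then `a - a₀ ∈ I`. -/
lemma sub_mem_of_root {I J : Ideal A} (hJ : J ≤ Ideal.jacobson ⊥) (f : A[X]) (a a₀ : A)
    (hroot : f.IsRoot a) (haJ : a - a₀ ∈ J) (h0 : f.eval a₀ ∈ I)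
    (hu : IsUnit (f.derivative.eval a₀)) : a - a₀ ∈ I := by
  obtain ⟨k, hk⟩ := f.binomExpansion a₀ (a - a₀)
  rw [add_sub_cancel, hroot] at hk
  have hu' : IsUnit (f.derivative.eval a₀ + k * (a - a₀)) :=
    isUnit_add_of_mem_jacobson hJ hu (J.mul_mem_left k haJ)
  have h1 : (a - a₀) * (f.derivative.eval a₀ + k * (a - a₀)) = - f.eval a₀ := by
    linear_combination -hk
  have hmem : (a - a₀) * (f.derivative.eval a₀ + k * (a - a₀)) ∈ I := by
    rw [h1]; exact I.neg_mem h0
  obtain ⟨v, hv⟩ := hu'.exists_right_inv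
  have : a - a₀ = ((a - a₀) * (f.derivative.eval a₀ + k * (a - a₀))) * v := by
    rw [mul_assoc, hv, mul_one]
  rw [this]
  exact I.mul_mem_right v hmem

/-- If `f(a) = 0` and `a - b ∈ J`, then `f'(a) - f'(b) ∈ J`: derivative values are congruent. -/
lemma eval_sub_eval_mem {J : Ideal A} (g : A[X]) {a b : A} (h : a - b ∈ J) :
    g.eval a - g.eval b ∈ J := by
  obtain ⟨c, hc⟩ := Polynomial.sub_dvd_eval_sub a b g
  rw [hc]
  exact J.mul_mem_right c h

/-- The trivial ring case: if `1 ∈ jacobson ⊥` then the ring is trivial. -/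
lemma subsingleton_of_one_mem_jacobson (h : (1 : A) ∈ Ideal.jacobson (⊥ : Ideal A)) :
    Subsingleton A := by
  have := (Ideal.mem_jacobson_bot.mp h) (-1)
  simp only [mul_neg, mul_one, neg_add_cancel] at this
  exact subsingleton_of_zero_eq_one (isUnit_zero_iff.mp this)

/-- Downward: Henselian at `J` and `I ≤ J` implies Henselian at `I`. -/
lemma henselianRing_of_le {I J : Ideal A} (hIJ : I ≤ J) (hJ : HenselianRing A J) :
    HenselianRing A I := by
  rw [henselianRing_iff] at hJ ⊢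
  refine ⟨hIJ.trans hJ.1, fun f hf a₀ h0 hu => ?_⟩
  obtain ⟨a, ha, haJ⟩ := hJ.2 f hf a₀ (hIJ h0) hu
  exact ⟨a, ha, sub_mem_of_root hJ.1 f a a₀ ha haJ h0 hu⟩

/-- The image of the Jacobson radical under a quotient map lies in the Jacobson radical. -/
lemma map_mk_le_jacobson {I J : Ideal A} (hJ : J ≤ Ideal.jacobson ⊥) :
    J.map (Ideal.Quotient.mk I) ≤ Ideal.jacobson ⊥ := by
  intro x hx
  rw [Ideal.mem_map_iff_of_surjective _ Ideal.Quotient.mk_surjective] at hx
  obtain ⟨j, hj, rfl⟩ := hx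
  rw [Ideal.mem_jacobson_bot]
  intro y
  obtain ⟨y, rfl⟩ := Ideal.Quotient.mk_surjective y
  have := (Ideal.mem_jacobson_bot.mp (hJ hj)) y
  rw [← map_mul, ← map_one (Ideal.Quotient.mk I), ← map_add]
  exact this.map _

/-- Lifting a monic polynomial along a quotient map. -/
lemma exists_monic_lift (I : Ideal A) (f : (A ⧸ I)[X]) (hf : f.Monic) :
    ∃ g : A[X], g.Monic ∧ g.map (Ideal.Quotient.mk I) = f := by
  have hl : f ∈ Polynomial.lifts (Ideal.Quotient.mk I) := by
    rw [Polynomial.lifts_iff_coeff_lifts]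
    intro n
    exact Ideal.Quotient.mk_surjective _
  obtain ⟨g, hg, -, hgm⟩ := Polynomial.lifts_and_natDegree_eq_and_monic hl hf
  exact ⟨g, hgm, hg⟩

/-- Quotient part: Henselian at `J`, `I ≤ J` implies `A ⧸ I` Henselian at the image of `J`. -/
lemma henselianRing_quotient_of_le {I J : Ideal A} (hIJ : I ≤ J) (hJ : HenselianRing A J) :
    HenselianRing (A ⧸ I) (J.map (Ideal.Quotient.mk I)) := by
  rw [henselianRing_iff] at hJ ⊢
  refine ⟨map_mk_le_jacobson hJ.1, fun f hf a₀ h0 hu => ?_⟩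
  obtain ⟨g, hgm, rfl⟩ := exists_monic_lift I f hf
  obtain ⟨b₀, rfl⟩ := Ideal.Quotient.mk_surjective a₀
  rw [Polynomial.eval_map, Polynomial.eval₂_at_apply] at h0
  rw [Polynomial.derivative_map, Polynomial.eval_map, Polynomial.eval₂_at_apply] at hu
  have h0' : g.eval b₀ ∈ J := by
    rw [Ideal.mem_map_iff_of_surjective _ Ideal.Quotient.mk_surjective] at h0
    obtain ⟨j, hj, hjeq⟩ := h0
    have : j - g.eval b₀ ∈ I := Ideal.Quotient.eq.mp hjeq
    have h2 : g.eval b₀ = j - (j - g.eval b₀) := by ring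
    rw [h2]
    exact J.sub_mem hj (hIJ this)
  have hu' : IsUnit (g.derivative.eval b₀) := (isUnit_mk_iff (hIJ.trans hJ.1) _).mp hu
  obtain ⟨a, ha, haJ⟩ := hJ.2 g hgm b₀ h0' hu'
  refine ⟨Ideal.Quotient.mk I a, ?_, ?_⟩
  · rw [Polynomial.IsRoot.def, Polynomial.eval_map, Polynomial.eval₂_at_apply, ha.eq_zero, map_zero]
  · rw [← map_sub]
    exact Ideal.mem_map_of_mem _ haJ

/-- Upward: Henselian at `I` and `A ⧸ I` Henselian at the image of `J` (with `I ≤ J`)
implies Henselian at `J`. -/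
lemma henselianRing_of_quotient {I J : Ideal A} (hIJ : I ≤ J) (hI : HenselianRing A I)
    (hQ : HenselianRing (A ⧸ I) (J.map (Ideal.Quotient.mk I))) : HenselianRing A J := by
  rw [henselianRing_iff] at hI hQ ⊢
  have hjac : J ≤ Ideal.jacobson ⊥ := by
    intro x hx
    rw [Ideal.mem_jacobson_bot]
    intro y
    have h1 : Ideal.Quotient.mk I x ∈ Ideal.jacobson (⊥ : Ideal (A ⧸ I)) :=
      hQ.1 (Ideal.mem_map_of_mem _ hx)
    have h2 := (Ideal.mem_jacobson_bot.mp h1) (Ideal.Quotient.mk I y)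
    rw [← map_mul, ← map_one (Ideal.Quotient.mk I), ← map_add] at h2
    exact (isUnit_mk_iff hI.1 _).mp h2
  refine ⟨hjac, fun f hf a₀ h0 hu => ?_⟩
  -- solve modulo `I`
  have hfm : (f.map (Ideal.Quotient.mk I)).Monic := hf.map _
  have h0' : (f.map (Ideal.Quotient.mk I)).eval (Ideal.Quotient.mk I a₀) ∈
      J.map (Ideal.Quotient.mk I) := by
    rw [Polynomial.eval_map, Polynomial.eval₂_at_apply]
    exact Ideal.mem_map_of_mem _ h0
  have hu' : IsUnit ((f.map (Ideal.Quotient.mk I)).derivative.eval (Ideal.Quotient.mk I a₀)) := by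
    rw [Polynomial.derivative_map, Polynomial.eval_map, Polynomial.eval₂_at_apply]
    exact hu.map _
  obtain ⟨b, hb, hbJ⟩ := hQ.2 _ hfm _ h0' hu'
  obtain ⟨b, rfl⟩ := Ideal.Quotient.mk_surjective b
  rw [Polynomial.IsRoot.def, Polynomial.eval_map, Polynomial.eval₂_at_apply,
    Ideal.Quotient.eq_zero_iff_mem] at hb
  have hbJ' : b - a₀ ∈ J := by
    rw [← map_sub, Ideal.mem_map_iff_of_surjective _ Ideal.Quotient.mk_surjective] at hbJ
    obtain ⟨j, hj, hjeq⟩ := hbJ
    have : j - (b - a₀) ∈ I := Ideal.Quotient.eq.mp hjeq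
    have h2 : b - a₀ = j - (j - (b - a₀)) := by ring
    rw [h2]
    exact J.sub_mem hj (hIJ this)
  have hub : IsUnit (f.derivative.eval b) := by
    have h3 : f.derivative.eval b = f.derivative.eval a₀ + (f.derivative.eval b - f.derivative.eval a₀) := by
      ring
    rw [h3]
    exact isUnit_add_of_mem_jacobson hjac hu (eval_sub_eval_mem _ hbJ')
  obtain ⟨a, ha, haI⟩ := hI.2 f hf b hb hub
  refine ⟨a, ha, ?_⟩
  have h4 : a - a₀ = (a - b) + (b - a₀) := by ring
  rw [h4]
  exact J.add_mem (hIJ haI) hbJ'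

/-- Henselian at a locally nilpotent ideal. -/
lemma henselianRing_of_locally_nilpotent (I : Ideal A) (hI : ∀ x ∈ I, IsNilpotent x) :
    HenselianRing A I := by
  have hjac : I ≤ Ideal.jacobson ⊥ := by
    intro x hx
    rw [Ideal.mem_jacobson_bot]
    intro y
    have : IsNilpotent (x * y) := (Commute.all x y).isNilpotent_mul_right (hI x hx)
    exact this.isUnit_add_one
  rw [henselianRing_iff]
  refine ⟨hjac, fun f hf a₀ h0 hu => ?_⟩
  have hnil : IsNilpotent (Polynomial.aeval a₀ f) := by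
    rw [Polynomial.coe_aeval_eq_eval]; exact hI _ h0
  have hu' : IsUnit (Polynomial.aeval a₀ (Polynomial.derivative f)) := by
    rw [Polynomial.coe_aeval_eq_eval]; exact hu
  obtain ⟨r, ⟨hr1, hr2⟩, -⟩ := Polynomial.existsUnique_nilpotent_sub_and_aeval_eq_zero hnil hu'
  rw [Polynomial.coe_aeval_eq_eval] at hr2
  -- `r - a₀` is nilpotent; sharpen to `r - a₀ ∈ I` through the nilradical
  have hnilJ : (nilradical A) ≤ Ideal.jacobson ⊥ := by
    intro x hx
    rw [Ideal.mem_jacobson_bot]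
    intro y
    have : IsNilpotent (x * y) := (Commute.all x y).isNilpotent_mul_right (mem_nilradical.mp hx)
    exact this.isUnit_add_one
  have hmem : r - a₀ ∈ nilradical A := by
    rw [mem_nilradical]
    have : r - a₀ = -(a₀ - r) := by ring
    rw [this]
    exact hr1.neg
  exact ⟨r, hr2, sub_mem_of_root hnilJ f r a₀ hr2 hmem h0 hu⟩

end Groth.Agent.Lib.helper2

namespace Groth.Agent.Lib.helper2

open Polynomial

variable {A : Type*} [CommRing A]

/-- The sum of two Henselian ideals is Henselian. -/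
lemma henselianRing_sup {I I' : Ideal A} (hI : HenselianRing A I) (hI' : HenselianRing A I') :
    HenselianRing A (I ⊔ I') := by
  rw [henselianRing_iff] at hI hI' ⊢
  have hjac : I ⊔ I' ≤ Ideal.jacobson ⊥ := sup_le hI.1 hI'.1
  refine ⟨hjac, fun f hf a₀ h0 hu => ?_⟩
  rcases Nat.eq_zero_or_pos f.natDegree with hdeg | hdeg
  · -- `f = 1`, so the ring is trivial
    have hf1 : f = 1 := hf.natDegree_eq_zero.mp hdeg
    rw [hf1, Polynomial.eval_one] at h0
    have := subsingleton_of_one_mem_jacobson (hjac h0)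
    exact ⟨a₀, Subsingleton.elim _ _, by rw [sub_self]; exact zero_mem _⟩
  · obtain ⟨i, hi, i', hi', hsum⟩ := Submodule.mem_sup.mp h0
    have hdegC : (C i').degree < f.degree := by
      refine lt_of_le_of_lt Polynomial.degree_C_le ?_
      exact Polynomial.natDegree_pos_iff_degree_pos.mp hdeg
    have hgm : (f - C i').Monic := hf.sub_of_left hdegC
    have hg0 : (f - C i').eval a₀ ∈ I := by
      rw [Polynomial.eval_sub, Polynomial.eval_C, ← hsum, add_sub_cancel_right]
      exact hi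
    have hgu : IsUnit ((f - C i').derivative.eval a₀) := by
      rw [Polynomial.derivative_sub, Polynomial.derivative_C, sub_zero]
      exact hu
    obtain ⟨a₁, ha₁, ha₁I⟩ := hI.2 _ hgm a₀ hg0 hgu
    rw [Polynomial.IsRoot.def, Polynomial.eval_sub, Polynomial.eval_C, sub_eq_zero] at ha₁
    have hu₁ : IsUnit (f.derivative.eval a₁) := by
      have h3 : f.derivative.eval a₁ =
          f.derivative.eval a₀ + (f.derivative.eval a₁ - f.derivative.eval a₀) := by ring
      rw [h3]
      exact isUnit_add_of_mem_jacobson hI.1 hu (eval_sub_eval_mem _ ha₁I)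
    obtain ⟨a, ha, haI'⟩ := hI'.2 f hf a₁ (ha₁ ▸ hi') hu₁
    refine ⟨a, ha, ?_⟩
    have h4 : a - a₀ = (a₁ - a₀) + (a - a₁) := by ring
    rw [h4]
    exact Submodule.add_mem_sup ha₁I haI'

/-- Every ring is Henselian at the zero ideal. -/
lemma henselianRing_bot : HenselianRing A (⊥ : Ideal A) :=
  henselianRing_of_locally_nilpotent ⊥ fun x hx => by
    rw [Ideal.mem_bot] at hx; subst hx; exact IsNilpotent.zero

/-- There is a largest ideal at which the ring is Henselian. -/
lemma exists_largest_henselian (A : Type*) [CommRing A] :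
    ∃ I : Ideal A, HenselianRing A I ∧ ∀ J : Ideal A, HenselianRing A J → J ≤ I := by
  let S : Set (Ideal A) := {J | HenselianRing A J}
  have hne : S.Nonempty := ⟨⊥, henselianRing_bot⟩
  have hdir : DirectedOn (· ≤ ·) S := fun J hJ J' hJ' =>
    ⟨J ⊔ J', henselianRing_sup hJ hJ', le_sup_left, le_sup_right⟩
  refine ⟨sSup S, ?_, fun J hJ => le_sSup hJ⟩
  rw [henselianRing_iff]
  have hjac : sSup S ≤ Ideal.jacobson ⊥ := sSup_le fun J hJ => HenselianRing.jac (self := hJ)
  refine ⟨hjac, fun f hf a₀ h0 hu => ?_⟩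
  obtain ⟨J, hJ, h0J⟩ := (Submodule.mem_sSup_of_directed hne hdir).mp h0
  obtain ⟨a, ha, haJ⟩ := ((henselianRing_iff J).mp hJ).2 f hf a₀ h0J hu
  exact ⟨a, ha, le_sSup hJ haJ⟩

end Groth.Agent.Lib.helper2
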