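import Mathlib
import Groth.Prelude.Def_DualLC
import Groth.Agent.Lib.Helper19.LCBridge
import Groth.Agent.Lib.Helper19.LCLes2
import Groth.Agent.Lib.Helper19.LCZero

/-!
# helper2: naturality of local cohomology in the ideal (`Dual2.HmapOfLE`)
-/

set_option autoImplicit false
universe u

open CategoryTheory CategoryTheory.Limits Opposite

namespace Groth.Agent.Lib.helper2.LCNat

open Groth.Agent.Lib.helper19.LCBridge Groth.Agent.Lib.helper19.LCLes
  Groth.Agent.Lib.helper19.LCLes2 Groth.Agent.Lib.helper19.LCZero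

variable {R : Type u} [CommRing R] {I I' : Ideal R} (h : I ≤ I')

/-- the surjection `R/I^n → R/I'^n` -/
noncomputable def qLE (n : ℕ) : Q I n ⟶ Q I' n :=
  ModuleCat.ofHom (Submodule.mapQ (I ^ n) (I' ^ n) LinearMap.id
    (by simpa using Ideal.pow_right_mono h n))

lemma qLE_mk (n : ℕ) (r : R) :
    (qLE h n).hom (Ideal.Quotient.mk (I ^ n) r) = Ideal.Quotient.mk (I' ^ n) r := rfl

lemma HmapOfLE_toH (i : ℕ) (M : ModuleCat.{u} R) (n : ℕ) (y : stage I' i M n) :
    ((Dual2.HmapOfLE h i).app M).hom (toH I' i M n y) =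
      toH I i M n ((((Ext R (ModuleCat.{u} R) i).map (qLE h n).op).app M).hom y) := by
  have h1 := ι_colimMap (Functor.whiskerRight (NatTrans.op (Dual2.quotMapOfLE h))
    (Ext R (ModuleCat.{u} R) i)) (op (op n))
  have h2 := congrArg (fun t => (t.app M).hom y) h1
  exact h2

lemma HmapOfLE_toH' (i : ℕ) (M : ModuleCat.{u} R) (n : ℕ) (z : Abelian.Ext.{u} (Q I' n) M i) :
    ((Dual2.HmapOfLE h i).app M).hom (toH' I' i M n z) =
      toH' I i M n ((Abelian.Ext.mk₀ (qLE h n)).comp z (zero_add i)) := by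
  obtain ⟨y, rfl⟩ := (stageEquiv I' i M n).surjective z
  have h1 : toH' I' i M n (stageEquiv I' i M n y) = toH I' i M n y := by simp [toH']
  rw [h1, HmapOfLE_toH]
  have h2 := oldExtEquiv_naturality_X (qLE h n) M i y
  have h3 : (Abelian.Ext.mk₀ (qLE h n)).comp (stageEquiv I' i M n y) (zero_add i) =
      stageEquiv I i M n ((((Ext R (ModuleCat.{u} R) i).map (qLE h n).op).app M).hom y) := h2.symm
  rw [h3]
  simp [toH']

/-- N1: compatibility with `Γ → H^0` -/
lemma HmapOfLE_gammaToH (M : ModuleCat.{u} R) (x : DRing.torsionSub I' M)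
    (hx : x.1 ∈ DRing.torsionSub I M) :
    ((Dual2.HmapOfLE h 0).app M).hom (gammaToH I' M x) = gammaToH I M ⟨x.1, hx⟩ := by
  obtain ⟨n, hn⟩ := x.2
  have hn' : ∀ a ∈ I ^ n, a • x.1 = 0 := fun a ha => hn a (Ideal.pow_right_mono h n ha)
  rw [gammaToH_apply I' M x n hn, gammaToH_apply I M ⟨x.1, hx⟩ n hn']
  unfold zeroClass
  rw [HmapOfLE_toH', Abelian.Ext.mk₀_comp_mk₀]
  congr 2
  apply hom_ext_Q
  rw [ModuleCat.hom_comp, LinearMap.comp_apply, qLE_mk, homOfKill_mk, homOfKill_mk]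

/-- N2: compatibility with connecting maps -/
lemma HmapOfLE_δH (i : ℕ) {S : ShortComplex (ModuleCat.{u} R)} (hS : S.ShortExact)
    (y : ((localCohomology I' i).obj S.X₃ : ModuleCat.{u} R)) :
    ((Dual2.HmapOfLE h (i + 1)).app S.X₁).hom (δH I' i hS y) =
      δH I i hS (((Dual2.HmapOfLE h i).app S.X₃).hom y) := by
  obtain ⟨n, v, rfl⟩ := toH'_surj I' i S.X₃ y
  rw [δH_toH', HmapOfLE_toH', HmapOfLE_toH', δH_toH']
  congr 1
  exact (Abelian.Ext.comp_assoc (Abelian.Ext.mk₀ (qLE h n)) v hS.extClass (zero_add i) rfl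
    (by lia)).symm

/-- N3: naturality in the module -/
lemma HmapOfLE_map (i : ℕ) {M N : ModuleCat.{u} R} (f : M ⟶ N)
    (y : ((localCohomology I' i).obj M : ModuleCat.{u} R)) :
    ((Dual2.HmapOfLE h i).app N).hom (((localCohomology I' i).map f).hom y) =
      ((localCohomology I i).map f).hom (((Dual2.HmapOfLE h i).app M).hom y) := by
  have := (Dual2.HmapOfLE h i).naturality f
  exact congrArg (fun t => t.hom y) this

end Groth.Agent.Lib.helper2.LCNat
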