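import Mathlib
import Groth.Agent.Lib.Helper2.LCNat1
import Groth.Agent.Lib.Helper19.LCAcyclic

/-!
# helper2: local cohomology via acyclic resolutions, compatibly in the ideal
-/

set_option autoImplicit false
universe u

open CategoryTheory CategoryTheory.Limits Opposite

namespace Groth.Agent.Lib.helper2.LCNat

open Groth.Agent.Lib.helper19.LCBridge Groth.Agent.Lib.helper19.LCLes
  Groth.Agent.Lib.helper19.LCLes2 Groth.Agent.Lib.helper19.LCZero
  Groth.Agent.Lib.helper19.LCAcyclic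

section Res

variable {R : Type u} [CommRing R]
variable (X : ℕ → Type u) [∀ n, AddCommGroup (X n)] [∀ n, Module R (X n)]
  (d : ∀ n, X n →ₗ[R] X (n + 1))
  (hs : ∀ n, LinearMap.ker (d (n + 1)) = LinearMap.range (d n))

/-- torsion part of the resolution -/
abbrev Γ (K : Ideal R) (n : ℕ) : Submodule R (X n) := DRing.torsionSub K (X n)

/-- cocycles of the torsion subcomplex -/
abbrev Coc (K : Ideal R) (n : ℕ) : Submodule R (X n) := Γ X K n ⊓ LinearMap.ker (d n)

/-- coboundaries of the torsion subcomplex -/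
def Cob (K : Ideal R) : (n : ℕ) → Submodule R (X n)
  | 0 => ⊥
  | n + 1 => (Γ X K n).map (d n)

lemma torsionSub_mono {K K' : Ideal R} (h : K ≤ K') (N : Type u) [AddCommGroup N] [Module R N] :
    DRing.torsionSub K' N ≤ DRing.torsionSub K N := by
  rintro x ⟨n, hn⟩
  exact ⟨n, fun a ha => hn a (Ideal.pow_right_mono h n ha)⟩

lemma Coc_mono {K K' : Ideal R} (h : K ≤ K') (n : ℕ) : Coc X d K' n ≤ Coc X d K n :=
  inf_le_inf_right _ (torsionSub_mono h (X n))

/-- the inclusion of cocycles -/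
def incl {K K' : Ideal R} (h : K ≤ K') (n : ℕ) : ↥(Coc X d K' n) →ₗ[R] ↥(Coc X d K n) :=
  Submodule.inclusion (Coc_mono X d h n)

lemma hΓ (K : Ideal R) : ∀ n (x : X n), x ∈ Γ X K n ↔ ∃ k : ℕ, ∀ r ∈ K ^ k, r • x = 0 :=
  fun _ _ => Iff.rfl

lemma h0Equiv_incl {K K' : Ideal R} (h : K ≤ K') (n : ℕ) (z : ↥(Coc X d K' n)) :
    h0Equiv K X d (Γ X K) (hΓ X K) n (incl X d h n z) =
      ((Dual2.HmapOfLE h 0).app (ZZ X d n)).hom (h0Equiv K' X d (Γ X K') (hΓ X K') n z) := by
  rw [h0Equiv_apply, h0Equiv_apply]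
  have hx : (cocycEquiv K' X d (Γ X K') (hΓ X K') n z).1 ∈ DRing.torsionSub K (ZZ X d n) :=
    torsionSub_mono h _ (cocycEquiv K' X d (Γ X K') (hΓ X K') n z).2
  rw [HmapOfLE_gammaToH h (ZZ X d n) _ hx]
  rfl

lemma φ_incl {K K' : Ideal R} (h : K ≤ K') (n : ℕ) (z : ↥(Coc X d K' (n + 1))) :
    φ K X d hs (Γ X K) (hΓ X K) n (incl X d h (n + 1) z) =
      ((Dual2.HmapOfLE h 1).app (ZZ X d n)).hom (φ K' X d hs (Γ X K') (hΓ X K') n z) := by
  show δH K 0 (ses_shortExact X d hs n) (h0Equiv K X d (Γ X K) (hΓ X K) (n + 1)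
      (incl X d h (n + 1) z)) =
    ((Dual2.HmapOfLE h (0 + 1)).app (ses X d hs n).X₁).hom (δH K' 0 (ses_shortExact X d hs n)
      (h0Equiv K' X d (Γ X K') (hΓ X K') (n + 1) z))
  rw [h0Equiv_incl X d h (n + 1) z]
  exact (HmapOfLE_δH h 0 (ses_shortExact X d hs n) _).symm

variable (hacyc : ∀ (K : Ideal R) (n j : ℕ), 1 ≤ j →
  Subsingleton ((localCohomology K j).obj (ModuleCat.of R (X n)) : ModuleCat.{u} R))

/-- the dimension shift with clean types -/
noncomputable def shiftL (K : Ideal R) (j n : ℕ) :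
    ((localCohomology K (j + 1)).obj (ZZ X d (n + 1)) : ModuleCat.{u} R) ≃ₗ[R]
      ((localCohomology K (j + 1 + 1)).obj (ZZ X d n) : ModuleCat.{u} R) :=
  Groth.Agent.Lib.helper19.LCLes2.shiftEquiv K (j + 1) (ses_shortExact X d hs n)
    (hacyc K n (j + 1) (by lia)) (hacyc K n (j + 1 + 1) (by lia))

lemma shiftL_apply (K : Ideal R) (j n : ℕ)
    (y : ((localCohomology K (j + 1)).obj (ZZ X d (n + 1)) : ModuleCat.{u} R)) :
    shiftL X d hs hacyc K j n y = δH K (j + 1) (ses_shortExact X d hs n) y := rfl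

include hacyc hs in
lemma exists_Theta_succ : ∀ (j n k : ℕ), k = n + j + 1 →
    ∃ Θ : ∀ K : Ideal R, ↥(Coc X d K k) →ₗ[R]
        ((localCohomology K (j + 1)).obj (ZZ X d n) : ModuleCat.{u} R),
      (∀ K, Function.Surjective (Θ K)) ∧
      (∀ K, LinearMap.ker (Θ K) = (Cob X d K k).comap (Coc X d K k).subtype) ∧
      ∀ (K K' : Ideal R) (h : K ≤ K') (z : ↥(Coc X d K' k)),
        Θ K (incl X d h k z) = ((Dual2.HmapOfLE h (j + 1)).app (ZZ X d n)).hom (Θ K' z) := by
  intro j
  induction j with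
  | zero =>
    intro n k hk
    obtain rfl : k = n + 1 := by lia
    refine ⟨fun K => φ K X d hs (Γ X K) (hΓ X K) n, ?_, ?_, ?_⟩
    · intro K
      exact φ_surjective K X d hs (Γ X K) (hΓ X K) (hacyc K) n
    · intro K
      exact φ_ker K X d hs (Γ X K) (hΓ X K) n
    · intro K K' h z
      exact φ_incl X d hs h n z
  | succ j ih =>
    intro n k hk
    obtain ⟨Θ', hsurj, hker, hcompat⟩ := ih (n + 1) k (by lia)
    refine ⟨fun K => (shiftL X d hs hacyc K j n).toLinearMap ∘ₗ Θ' K, ?_, ?_, ?_⟩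
    · intro K
      show Function.Surjective ⇑((shiftL X d hs hacyc K j n).toLinearMap ∘ₗ Θ' K)
      rw [LinearMap.coe_comp]
      exact (LinearEquiv.surjective _).comp (hsurj K)
    · intro K
      show LinearMap.ker ((shiftL X d hs hacyc K j n).toLinearMap ∘ₗ Θ' K) = _
      rw [LinearEquiv.ker_comp]
      exact hker K
    · intro K K' h z
      show shiftL X d hs hacyc K j n (Θ' K (incl X d h k z)) = 
        ((Dual2.HmapOfLE h (j + 1 + 1)).app (ZZ X d n)).hom (shiftL X d hs hacyc K' j n (Θ' K' z))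
      rw [hcompat K K' h z, shiftL_apply, shiftL_apply]
      exact (HmapOfLE_δH h (j + 1) (ses_shortExact X d hs n) _).symm

variable {M : Type u} [AddCommGroup M] [Module R M] (ε : M →ₗ[R] X 0)
  (hε : Function.Injective ε) (h0 : LinearMap.ker (d 0) = LinearMap.range ε)

/-- the augmentation iso `M ≅ Z^0` -/
noncomputable def augIso : ModuleCat.of R M ≅ ZZ X d 0 :=
  (LinearEquiv.ofInjective ε hε ≪≫ₗ LinearEquiv.ofEq _ _ h0.symm).toModuleIso

/-- the induced iso on local cohomology -/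
noncomputable def augL (K : Ideal R) (i : ℕ) :
    ((localCohomology K i).obj (ZZ X d 0) : ModuleCat.{u} R) ≃ₗ[R]
      ((localCohomology K i).obj (ModuleCat.of R M) : ModuleCat.{u} R) :=
  ((localCohomology K i).mapIso (augIso X d ε hε h0)).symm.toLinearEquiv

lemma augL_apply (K : Ideal R) (i : ℕ) (y : ((localCohomology K i).obj (ZZ X d 0) : ModuleCat.{u} R)) :
    augL X d ε hε h0 K i y = ((localCohomology K i).map (augIso X d ε hε h0).inv).hom y := rfl

include hacyc hs hε h0 in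
theorem exists_Theta (i : ℕ) :
    ∃ Θ : ∀ K : Ideal R, ↥(Coc X d K i) →ₗ[R]
        ((localCohomology K i).obj (ModuleCat.of R M) : ModuleCat.{u} R),
      (∀ K, Function.Surjective (Θ K)) ∧
      (∀ K, LinearMap.ker (Θ K) = (Cob X d K i).comap (Coc X d K i).subtype) ∧
      ∀ (K K' : Ideal R) (h : K ≤ K') (z : ↥(Coc X d K' i)),
        Θ K (incl X d h i z) = ((Dual2.HmapOfLE h i).app (ModuleCat.of R M)).hom (Θ K' z) := by
  cases i with
  | zero =>
    refine ⟨fun K => (augL X d ε hε h0 K 0).toLinearMap ∘ₗ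
      (h0Equiv K X d (Γ X K) (hΓ X K) 0).toLinearMap, ?_, ?_, ?_⟩
    · intro K
      show Function.Surjective ⇑((augL X d ε hε h0 K 0).toLinearMap ∘ₗ
        (h0Equiv K X d (Γ X K) (hΓ X K) 0).toLinearMap)
      rw [LinearMap.coe_comp]
      exact (LinearEquiv.surjective _).comp (LinearEquiv.surjective _)
    · intro K
      show LinearMap.ker ((augL X d ε hε h0 K 0).toLinearMap ∘ₗ
        (h0Equiv K X d (Γ X K) (hΓ X K) 0).toLinearMap) = _
      rw [LinearEquiv.ker_comp, LinearEquiv.ker]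
      show ⊥ = Submodule.comap _ ⊥
      rw [Submodule.comap_bot, Submodule.ker_subtype]
    · intro K K' h z
      show augL X d ε hε h0 K 0 (h0Equiv K X d (Γ X K) (hΓ X K) 0 (incl X d h 0 z)) =
        ((Dual2.HmapOfLE h 0).app (ModuleCat.of R M)).hom
          (augL X d ε hε h0 K' 0 (h0Equiv K' X d (Γ X K') (hΓ X K') 0 z))
      rw [h0Equiv_incl X d h 0 z, augL_apply, augL_apply]
      exact (HmapOfLE_map h 0 _ _).symm
  | succ j =>
    obtain ⟨Θ', hsurj, hker, hcompat⟩ := exists_Theta_succ X d hs hacyc j 0 (j + 1) (by lia)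
    refine ⟨fun K => (augL X d ε hε h0 K (j + 1)).toLinearMap ∘ₗ Θ' K, ?_, ?_, ?_⟩
    · intro K
      show Function.Surjective ⇑((augL X d ε hε h0 K (j + 1)).toLinearMap ∘ₗ Θ' K)
      rw [LinearMap.coe_comp]
      exact (LinearEquiv.surjective _).comp (hsurj K)
    · intro K
      show LinearMap.ker ((augL X d ε hε h0 K (j + 1)).toLinearMap ∘ₗ Θ' K) = _
      rw [LinearEquiv.ker_comp]
      exact hker K
    · intro K K' h z
      show augL X d ε hε h0 K (j + 1) (Θ' K (incl X d h (j + 1) z)) =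
        ((Dual2.HmapOfLE h (j + 1)).app (ModuleCat.of R M)).hom
          (augL X d ε hε h0 K' (j + 1) (Θ' K' z))
      rw [hcompat K K' h z, augL_apply, augL_apply]
      exact (HmapOfLE_map h (j + 1) _ _).symm

end Res

end Groth.Agent.Lib.helper2.LCNat
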