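import Mathlib
import Groth.Agent.Lib.Helper2.LCNat2
import Groth.Agent.Lib.Helper19.LCRes

/-!
# helper2: the Brodmann sequence, part (i): the image of `H^{i+1}_{a+Rb}(M) → H^{i+1}_a(M)`
-/

set_option autoImplicit false
universe u

open CategoryTheory CategoryTheory.Limits Opposite

namespace Groth.Agent.Lib.helper2.LCNat

open Groth.Agent.Lib.helper19.LCBridge Groth.Agent.Lib.helper19.LCLes
  Groth.Agent.Lib.helper19.LCLes2 Groth.Agent.Lib.helper19.LCZero
  Groth.Agent.Lib.helper19.LCAcyclic Groth.Agent.Lib.helper19.LCRes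

variable (R : Type u) [CommRing R] (M : Type u) [AddCommGroup M] [Module R M]

/-- the terms of the standard injective resolution -/
abbrev rE (n : ℕ) : Type u := (resX (ModuleCat.of R M) n : Type u)

/-- the differential -/
noncomputable abbrev rD (n : ℕ) : rE R M n →ₗ[R] rE R M (n + 1) := resD (ModuleCat.of R M) n

lemma rD_comp (n : ℕ) (x : rE R M n) : rD R M (n + 1) (rD R M n x) = 0 :=
  resD_comp (ModuleCat.of R M) n x

/-- the comparison maps from cocycles of `Γ_K(E)` to `H^i_K(M)`, compatible in `K`. -/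
theorem exists_Theta_res (i : ℕ) :
    ∃ Θ : ∀ K : Ideal R, ↥(Coc (rE R M) (rD R M) K i) →ₗ[R]
        ((localCohomology K i).obj (ModuleCat.of R M) : ModuleCat.{u} R),
      (∀ K, Function.Surjective (Θ K)) ∧
      (∀ K, LinearMap.ker (Θ K) =
        (Cob (rE R M) (rD R M) K i).comap (Coc (rE R M) (rD R M) K i).subtype) ∧
      ∀ (K K' : Ideal R) (h : K ≤ K') (z : ↥(Coc (rE R M) (rD R M) K' i)),
        Θ K (incl (rE R M) (rD R M) h i z) =
          ((Dual2.HmapOfLE h i).app (ModuleCat.of R M)).hom (Θ K' z) :=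
  exists_Theta (rE R M) (rD R M) (res_exact_succ (ModuleCat.of R M))
    (fun K n j hj => H_subsingleton_of_injective K (resX (ModuleCat.of R M) n) j hj)
    (resε (ModuleCat.of R M)) (resε_injective (ModuleCat.of R M))
    (res_exact_zero (ModuleCat.of R M)) i

variable [IsNoetherianRing R]

lemma map_mem_torsionSub (K : Ideal R) {A B : Type u} [AddCommGroup A] [Module R A]
    [AddCommGroup B] [Module R B] (f : A →ₗ[R] B) {x : A} (hx : x ∈ DRing.torsionSub K A) :
    f x ∈ DRing.torsionSub K B := by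
  obtain ⟨n, hn⟩ := hx
  exact ⟨n, fun r hr => by rw [← map_smul, hn r hr, map_zero]⟩

/-- divisibility by `b^k` up to `b`-torsion in `Γ_a(E^n)` -/
lemma exists_div_Gamma (a : Ideal R) (b : R) (n k : ℕ) (y : rE R M n)
    (hy : y ∈ DRing.torsionSub a (rE R M n)) :
    ∃ (y' : rE R M n) (m : ℕ), y' ∈ DRing.torsionSub a (rE R M n) ∧
      b ^ m • (b ^ k • y' - y) = 0 := by
  have hinj : Module.Injective R (DRing.torsionSub a (rE R M n)) :=
    torsionSub_injective a _ (resX_injective (ModuleCat.of R M) n)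
  obtain ⟨w', m, hw'⟩ := exists_div_of_injective _ hinj b k
    (⟨y, hy⟩ : DRing.torsionSub a (rE R M n))
  exact ⟨w'.1, m, w'.2, congrArg Subtype.val hw'⟩

/-- the image of `H^{i+1}_{a+Rb}(M) → H^{i+1}_a(M)` is the `b`-power torsion. -/
theorem mem_range_HmapOfLE_iff (a : Ideal R) (b : R) (i : ℕ)
    (x : ((localCohomology a (i + 1)).obj (ModuleCat.of R M) : ModuleCat.{u} R)) :
    x ∈ LinearMap.range ((Dual2.HmapOfLE (le_sup_left : a ≤ a ⊔ Ideal.span {b})
        (i + 1)).app (ModuleCat.of R M)).hom ↔ ∃ n : ℕ, b ^ n • x = 0 := by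
  constructor
  · rintro ⟨y, rfl⟩
    obtain ⟨n, hn⟩ := H_powerTorsion (a ⊔ Ideal.span {b}) (i + 1) (ModuleCat.of R M) y
    refine ⟨n, ?_⟩
    rw [← map_smul, hn _ (Ideal.pow_mem_pow (Ideal.mem_sup_right
      (Ideal.mem_span_singleton_self b)) n), map_zero]
  · rintro ⟨n, hn⟩
    obtain ⟨Θ, hsurj, hker, hcompat⟩ := exists_Theta_res R M (i + 1)
    obtain ⟨z, rfl⟩ := hsurj a x
    have h1 : b ^ n • z ∈ LinearMap.ker (Θ a) := by
      rw [LinearMap.mem_ker, map_smul, hn]
    rw [hker a, Submodule.mem_comap] at h1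
    obtain ⟨y, hy, hyz⟩ := h1
    obtain ⟨y', m, hy', hdiv⟩ := exists_div_Gamma R M a b i n y hy
    -- the new cocycle
    have hz'a : z.1 - rD R M i y' ∈ DRing.torsionSub a (rE R M (i + 1)) :=
      Submodule.sub_mem _ z.2.1 (map_mem_torsionSub R a (rD R M i) hy')
    have hz'b : b ^ (m + n) • (z.1 - rD R M i y') = 0 := by
      have h2 : b ^ n • z.1 = rD R M i y := hyz.symm
      rw [pow_add, mul_smul, smul_sub, h2, ← map_smul (rD R M i) (b ^ n), ← map_sub, ← map_smul,
        ← neg_sub, smul_neg, hdiv, neg_zero, map_zero]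
    have hz'd : rD R M (i + 1) (z.1 - rD R M i y') = 0 := by
      rw [map_sub, rD_comp, sub_zero]
      exact z.2.2
    have hz'ab : z.1 - rD R M i y' ∈ DRing.torsionSub (a ⊔ Ideal.span {b}) (rE R M (i + 1)) :=
      (mem_torsionSub_sup_span_iff a b _).2 ⟨hz'a, m + n, hz'b⟩
    let z' : ↥(Coc (rE R M) (rD R M) (a ⊔ Ideal.span {b}) (i + 1)) :=
      ⟨z.1 - rD R M i y', hz'ab, hz'd⟩
    refine ⟨Θ (a ⊔ Ideal.span {b}) z', ?_⟩
    rw [← hcompat a (a ⊔ Ideal.span {b}) le_sup_left z']
    -- difference is a coboundary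
    have hdiff : z - incl (rE R M) (rD R M) (le_sup_left : a ≤ a ⊔ Ideal.span {b}) (i + 1) z' ∈
        LinearMap.ker (Θ a) := by
      rw [hker a, Submodule.mem_comap]
      refine ⟨y', hy', ?_⟩
      show rD R M i y' = z.1 - (z.1 - rD R M i y')
      abel
    rw [LinearMap.mem_ker, map_sub, sub_eq_zero] at hdiff
    exact hdiff.symm

end Groth.Agent.Lib.helper2.LCNat
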