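import Mathlib
import Groth.Agent.Lib.Helper2.LCNat3
import Groth.Agent.Lib.Helper19.LCTors
import Groth.Agent.Lib.Helper19.LCFactor

/-!
# helper2: `H^1_I(N)` as a cokernel of `N → T` with `T` acyclic
-/

set_option autoImplicit false
universe u

open CategoryTheory CategoryTheory.Limits Opposite

namespace Groth.Agent.Lib.helper2.LCNat

open Groth.Agent.Lib.helper19.LCBridge Groth.Agent.Lib.helper19.LCLes
  Groth.Agent.Lib.helper19.LCLes2 Groth.Agent.Lib.helper19.LCZero
  Groth.Agent.Lib.helper19.LCTors Groth.Agent.Lib.helper19.LCFactor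

variable {R : Type u} [CommRing R]

/-- if some `b ∈ I` acts bijectively on `T` then `H^j_I(T) = 0`. -/
lemma H_subsingleton_of_smul_bijective (I : Ideal R) (b : R) (hb : b ∈ I)
    (T : Type u) [AddCommGroup T] [Module R T]
    (hT : Function.Bijective (fun t : T => b • t)) (j : ℕ) :
    Subsingleton ((localCohomology I j).obj (ModuleCat.of R T) : ModuleCat.{u} R) := by
  -- `b • 𝟙` is an iso
  have hiso : IsIso (b • 𝟙 (ModuleCat.of R T)) := by
    rw [ConcreteCategory.isIso_iff_bijective]
    exact hT
  have hiso' : IsIso ((localCohomology I j).map (b • 𝟙 (ModuleCat.of R T))) := inferInstance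
  have hinj : Function.Injective
      (fun x : ((localCohomology I j).obj (ModuleCat.of R T) : ModuleCat.{u} R) => b • x) := by
    have h1 := ((ConcreteCategory.isIso_iff_bijective _).1 hiso').1
    intro x y hxy
    apply h1
    show ((localCohomology I j).map (b • 𝟙 (ModuleCat.of R T))).hom x =
      ((localCohomology I j).map (b • 𝟙 (ModuleCat.of R T))).hom y
    rw [H_map_smul_id, H_map_smul_id]
    exact hxy
  have hinjn : ∀ n : ℕ, ∀ x : ((localCohomology I j).obj (ModuleCat.of R T) : ModuleCat.{u} R),
      b ^ n • x = 0 → x = 0 := by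
    intro n
    induction n with
    | zero => intro x hx; simpa using hx
    | succ n ih =>
      intro x hx
      apply ih
      apply hinj
      show b • b ^ n • x = b • 0
      rw [smul_zero, smul_smul, ← pow_succ']
      exact hx
  refine ⟨fun x y => ?_⟩
  have hz : ∀ w : ((localCohomology I j).obj (ModuleCat.of R T) : ModuleCat.{u} R), w = 0 := by
    intro w
    obtain ⟨n, hn⟩ := H_powerTorsion I j (ModuleCat.of R T) w
    exact hinjn n w (hn _ (Ideal.pow_mem_pow hb n))
  rw [hz x, hz y]

/-- `H^1_I(N)` is the cokernel of `N → T` when the kernel and cokernel are torsion and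
`H^0_I(T) = H^1_I(T) = 0`. -/
theorem coker_equiv_H1 [IsNoetherianRing R] (I : Ideal R) {N T : Type u} [AddCommGroup N]
    [Module R N] [AddCommGroup T] [Module R T] (l : N →ₗ[R] T)
    (hker : LinearMap.ker l ≤ DRing.torsionSub I N)
    (hcoker : IsTors I (T ⧸ LinearMap.range l))
    (hT0 : Subsingleton ((localCohomology I 0).obj (ModuleCat.of R T) : ModuleCat.{u} R))
    (hT1 : Subsingleton ((localCohomology I 1).obj (ModuleCat.of R T) : ModuleCat.{u} R)) :
    Nonempty ((T ⧸ LinearMap.range l) ≃ₗ[R]
      ((localCohomology I 1).obj (ModuleCat.of R N) : ModuleCat.{u} R)) := by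
  let S : ShortComplex (ModuleCat.{u} R) :=
    ShortComplex.mk (ModuleCat.ofHom (LinearMap.range l).subtype)
      (ModuleCat.ofHom (LinearMap.range l).mkQ) (by
        ext x
        exact (Submodule.Quotient.mk_eq_zero _).2 x.2)
  have hS : S.ShortExact := ModuleCat.shortComplex_shortExact S
    (LinearMap.exact_subtype_mkQ _) (Submodule.injective_subtype _) (Submodule.mkQ_surjective _)
  have e1 := cokerEquivOfVanish I 0 hS hT1
  have hbot : LinearMap.range ((localCohomology I 0).map S.g).hom = ⊥ := by
    rw [LinearMap.range_eq_bot]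
    apply LinearMap.ext
    intro x
    rw [hT0.elim x 0, map_zero, map_zero]
  have e2 := zeroEquivOfTorsion I (T ⧸ LinearMap.range l) hcoker
  have e3 := LinearEquiv.ofBijective ((localCohomology I 1).map
    (ModuleCat.ofHom l.rangeRestrict)).hom (H_rangeRestrict_bijective I l hker 1 one_pos)
  exact ⟨e2.symm ≪≫ₗ (Submodule.quotEquivOfEqBot _ hbot).symm ≪≫ₗ e1 ≪≫ₗ e3.symm⟩

end Groth.Agent.Lib.helper2.LCNat
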