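import Mathlib
import Groth.Agent.Lib.Helper2.LCNat4

/-!
# helper2: the Brodmann sequence, part (ii): the kernel of `H^{i+1}_{a+Rb}(M) → H^{i+1}_a(M)`
-/

set_option autoImplicit false
universe u

open CategoryTheory CategoryTheory.Limits Opposite

namespace Groth.Agent.Lib.helper2.LCNat

open Groth.Agent.Lib.helper19.LCBridge Groth.Agent.Lib.helper19.LCLes
  Groth.Agent.Lib.helper19.LCLes2 Groth.Agent.Lib.helper19.LCZero
  Groth.Agent.Lib.helper19.LCAcyclic Groth.Agent.Lib.helper19.LCRes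

section Tors

variable {R : Type u} [CommRing R]

lemma mem_torsionSub_span_singleton_iff (b : R) {N : Type u} [AddCommGroup N] [Module R N]
    (x : N) : x ∈ DRing.torsionSub (Ideal.span {b}) N ↔ ∃ k : ℕ, b ^ k • x = 0 := by
  constructor
  · rintro ⟨n, hn⟩
    exact ⟨n, hn _ (Ideal.pow_mem_pow (Ideal.mem_span_singleton_self b) n)⟩
  · rintro ⟨k, hk⟩
    refine ⟨k, fun r hr => ?_⟩
    rw [Ideal.span_singleton_pow] at hr
    obtain ⟨c, rfl⟩ := Ideal.mem_span_singleton'.1 hr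
    rw [mul_smul, hk, smul_zero]

end Tors

section Model

variable (R : Type u) [CommRing R] [IsNoetherianRing R] (M : Type u) [AddCommGroup M] [Module R M]
  (a : Ideal R) (b : R) (i : ℕ)

/-- `Γ_a(E^n)` -/
noncomputable abbrev Ea (n : ℕ) : Submodule R (rE R M n) := DRing.torsionSub a (rE R M n)

/-- `Γ_{a+Rb}(E^n)` -/
noncomputable abbrev Eab (n : ℕ) : Submodule R (rE R M n) := DRing.torsionSub (a ⊔ Ideal.span {b}) (rE R M n)

lemma Eab_le_Ea (n : ℕ) : Eab R M a b n ≤ Ea R M a n := torsionSub_mono le_sup_left _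

lemma mem_Eab_iff (n : ℕ) (x : rE R M n) :
    x ∈ Eab R M a b n ↔ x ∈ Ea R M a n ∧ ∃ k : ℕ, b ^ k • x = 0 :=
  mem_torsionSub_sup_span_iff a b x

/-- cocycles of `Γ_a(E)` in degree `i` -/
noncomputable abbrev Zc : Submodule R (rE R M i) := Coc (rE R M) (rD R M) a i

/-- coboundaries of `Γ_a(E)` in degree `i` -/
noncomputable abbrev Bc : Submodule R (rE R M i) := Cob (rE R M) (rD R M) a i

lemma Bc_le_Ea : Bc R M a i ≤ Ea R M a i := by
  cases i with
  | zero => exact bot_le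
  | succ j =>
    rintro x ⟨y, hy, rfl⟩
    exact map_mem_torsionSub R a (rD R M j) hy

lemma Bc_le_ker : Bc R M a i ≤ LinearMap.ker (rD R M i) := by
  cases i with
  | zero => exact bot_le
  | succ j =>
    rintro x ⟨y, hy, rfl⟩
    exact rD_comp R M j y

lemma Bc_le_Zc : Bc R M a i ≤ Zc R M a i := le_inf (Bc_le_Ea R M a i) (Bc_le_ker R M a i)

/-- the module `P = {y ∈ Γ_a(E^i) : dy ∈ Γ_{a+Rb}(E^{i+1})}` -/
noncomputable def Pm : Submodule R (rE R M i) := Ea R M a i ⊓ (Eab R M a b (i + 1)).comap (rD R M i)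

lemma mem_Pm_iff (y : rE R M i) :
    y ∈ Pm R M a b i ↔ y ∈ Ea R M a i ∧ ∃ k : ℕ, b ^ k • rD R M i y = 0 := by
  unfold Pm
  rw [Submodule.mem_inf, Submodule.mem_comap, mem_Eab_iff]
  constructor
  · rintro ⟨h1, _, h3⟩
    exact ⟨h1, h3⟩
  · rintro ⟨h1, h3⟩
    exact ⟨h1, map_mem_torsionSub R a (rD R M i) h1, h3⟩

lemma Zc_le_Pm : Zc R M a i ≤ Pm R M a b i := by
  intro z hz
  rw [mem_Pm_iff]
  exact ⟨hz.1, 0, by rw [LinearMap.mem_ker.1 hz.2, smul_zero]⟩

lemma Eab_le_Pm : Eab R M a b i ≤ Pm R M a b i := by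
  intro u hu
  rw [mem_Pm_iff]
  obtain ⟨h1, k, hk⟩ := (mem_Eab_iff R M a b i u).1 hu
  exact ⟨h1, k, by rw [← map_smul, hk, map_zero]⟩

/-- divisibility up to torsion inside the coboundaries -/
lemma Bc_div (k : ℕ) (c : rE R M i) (hc : c ∈ Bc R M a i) :
    ∃ c' ∈ Bc R M a i, ∃ m : ℕ, b ^ m • (b ^ k • c' - c) = 0 := by
  cases i with
  | zero =>
    have hc0 : c = 0 := (Submodule.mem_bot R).1 hc
    exact ⟨0, Submodule.zero_mem _, 0, by rw [hc0]; simp⟩
  | succ j =>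
    obtain ⟨w, hw, rfl⟩ := hc
    obtain ⟨w', m, hw', hdiv⟩ := exists_div_Gamma R M a b j k w hw
    refine ⟨rD R M j w', ⟨w', hw', rfl⟩, m, ?_⟩
    rw [← map_smul (rD R M j) (b ^ k), ← map_sub, ← map_smul, hdiv, map_zero]

/-- the submodule `B + Γ_{a+Rb}(E^i)` -/
noncomputable def B0 : Submodule R (rE R M i) := Bc R M a i ⊔ Eab R M a b i

/-- `T = P / (B + Γ_{a+Rb}(E^i))`, a model of `H^i(Γ_a(E)_b)` -/
abbrev Tm : Type u := ↥(Pm R M a b i) ⧸ (B0 R M a b i).comap (Pm R M a b i).subtype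

/-- `N = Z / B`, a model of `H^i_a(M)` -/
abbrev Nm : Type u := ↥(Zc R M a i) ⧸ (Bc R M a i).comap (Zc R M a i).subtype

/-- the map `N → T` -/
noncomputable def lam : Nm R M a i →ₗ[R] Tm R M a b i :=
  Submodule.mapQ _ _ (Submodule.inclusion (Zc_le_Pm R M a b i)) (by
    intro z hz
    exact Submodule.mem_sup_left hz)

lemma lam_mk (z : ↥(Zc R M a i)) :
    lam R M a b i (Submodule.Quotient.mk z) =
      Submodule.Quotient.mk (Submodule.inclusion (Zc_le_Pm R M a b i) z) := rfl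

lemma Tm_mk_eq_zero_iff (y : ↥(Pm R M a b i)) :
    (Submodule.Quotient.mk y : Tm R M a b i) = 0 ↔ y.1 ∈ B0 R M a b i := by
  rw [Submodule.Quotient.mk_eq_zero, Submodule.mem_comap, Submodule.subtype_apply]

lemma ker_lam_le : LinearMap.ker (lam R M a b i) ≤
    DRing.torsionSub (Ideal.span {b}) (Nm R M a i) := by
  intro n hn
  obtain ⟨z, rfl⟩ := Submodule.Quotient.mk_surjective _ n
  rw [LinearMap.mem_ker, lam_mk, Tm_mk_eq_zero_iff] at hn
  obtain ⟨c, hc, u, hu, hcu⟩ := Submodule.mem_sup.1 hn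
  obtain ⟨_, k, hk⟩ := (mem_Eab_iff R M a b i u).1 hu
  rw [mem_torsionSub_span_singleton_iff]
  refine ⟨k, ?_⟩
  rw [← Submodule.Quotient.mk_smul, Submodule.Quotient.mk_eq_zero, Submodule.mem_comap]
  have h1 : (Zc R M a i).subtype (b ^ k • z) = b ^ k • c := by
    show b ^ k • (Submodule.inclusion (Zc_le_Pm R M a b i) z).1 = _
    rw [← hcu, smul_add, hk, add_zero]
  rw [h1]
  exact Submodule.smul_mem _ _ hc

lemma isTors_coker_lam :
    IsTors (Ideal.span {b}) (Tm R M a b i ⧸ LinearMap.range (lam R M a b i)) := by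
  intro x
  obtain ⟨t, rfl⟩ := Submodule.Quotient.mk_surjective _ x
  obtain ⟨y, rfl⟩ := Submodule.Quotient.mk_surjective _ t
  obtain ⟨hy1, k, hk⟩ := (mem_Pm_iff R M a b i y.1).1 y.2
  have hmem : Submodule.Quotient.mk
      (Submodule.Quotient.mk y : Tm R M a b i) ∈
      DRing.torsionSub (Ideal.span {b}) (Tm R M a b i ⧸ LinearMap.range (lam R M a b i)) := by
    rw [mem_torsionSub_span_singleton_iff]
    refine ⟨k, ?_⟩
    rw [← Submodule.Quotient.mk_smul, Submodule.Quotient.mk_eq_zero]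
    have hz : b ^ k • y.1 ∈ Zc R M a i :=
      ⟨Submodule.smul_mem _ _ hy1, by
        show b ^ k • y.1 ∈ LinearMap.ker (rD R M i)
        rw [LinearMap.mem_ker, map_smul, hk]⟩
    refine ⟨Submodule.Quotient.mk ⟨b ^ k • y.1, hz⟩, ?_⟩
    rw [lam_mk, ← Submodule.Quotient.mk_smul]
    rfl
  exact hmem

lemma smul_Tm_injective : Function.Injective (fun t : Tm R M a b i => b • t) := by
  intro t t' htt'
  have h0 : b • (t - t') = 0 := by
    rw [smul_sub]
    exact sub_eq_zero.2 htt'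
  suffices hz : t - t' = 0 from sub_eq_zero.1 hz
  obtain ⟨y, hy⟩ := Submodule.Quotient.mk_surjective _ (t - t')
  rw [← hy] at h0 ⊢
  rw [← Submodule.Quotient.mk_smul, Tm_mk_eq_zero_iff] at h0
  rw [Tm_mk_eq_zero_iff]
  obtain ⟨c, hc, u, hu, hcu⟩ := Submodule.mem_sup.1 h0
  obtain ⟨hu1, k, hk⟩ := (mem_Eab_iff R M a b i u).1 hu
  obtain ⟨c', hc', m, hdiv⟩ := Bc_div R M a b i 1 c hc
  have hy1 : y.1 ∈ Ea R M a i := ((mem_Pm_iff R M a b i y.1).1 y.2).1
  have hbz : b ^ (m + k + 1) • (y.1 - c') = 0 := by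
    have h1 : b • (y.1 - c') = (c - b ^ 1 • c') + u := by
      have : b • y.1 = c + u := hcu.symm
      rw [smul_sub, this, pow_one]
      abel
    have h2 : b ^ m • (c - b ^ 1 • c') = 0 := by
      rw [← neg_sub, smul_neg, hdiv, neg_zero]
    rw [pow_succ, mul_smul, h1, smul_add, pow_add, mul_comm, mul_smul, h2, smul_zero, zero_add,
      mul_smul, smul_comm, hk, smul_zero]
  have hmem : y.1 - c' ∈ Eab R M a b i :=
    (mem_Eab_iff R M a b i _).2 ⟨Submodule.sub_mem _ hy1 (Bc_le_Ea R M a i hc'), _, hbz⟩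
  have : y.1 = c' + (y.1 - c') := by abel
  rw [this]
  exact Submodule.add_mem _ (Submodule.mem_sup_left hc') (Submodule.mem_sup_right hmem)

lemma smul_Tm_surjective : Function.Surjective (fun t : Tm R M a b i => b • t) := by
  intro t
  obtain ⟨y, rfl⟩ := Submodule.Quotient.mk_surjective _ t
  obtain ⟨hy1, k, hk⟩ := (mem_Pm_iff R M a b i y.1).1 y.2
  obtain ⟨y', m, hy', hdiv⟩ := exists_div_Gamma R M a b i 1 y.1 hy1
  have hy'P : y' ∈ Pm R M a b i := by
    rw [mem_Pm_iff]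
    refine ⟨hy', m + 1 + k, ?_⟩
    have h1 : b ^ m • (b ^ 1 • rD R M i y' - rD R M i y.1) = 0 := by
      rw [← map_smul (rD R M i) (b ^ 1), ← map_sub, ← map_smul, hdiv, map_zero]
    rw [smul_sub, sub_eq_zero, smul_smul, ← pow_add] at h1
    rw [pow_add, mul_comm, mul_smul, h1, smul_comm, hk, smul_zero]
  refine ⟨Submodule.Quotient.mk ⟨y', hy'P⟩, ?_⟩
  show b • (Submodule.Quotient.mk ⟨y', hy'P⟩ : Tm R M a b i) = Submodule.Quotient.mk y
  rw [← Submodule.Quotient.mk_smul, ← sub_eq_zero, ← Submodule.Quotient.mk_sub, Tm_mk_eq_zero_iff]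
  apply Submodule.mem_sup_right
  rw [mem_Eab_iff]
  refine ⟨Submodule.sub_mem _ (Submodule.smul_mem _ _ hy') hy1, m, ?_⟩
  have : ((b • (⟨y', hy'P⟩ : ↥(Pm R M a b i)) - y : ↥(Pm R M a b i)) : rE R M i) =
      b ^ 1 • y' - y.1 := by
    rw [pow_one]
    rfl
  rw [this, hdiv]

/-- `H^1_{Rb}` of the model `N` is the cokernel of `N → T` -/
theorem coker_lam_equiv : Nonempty ((Tm R M a b i ⧸ LinearMap.range (lam R M a b i)) ≃ₗ[R]
    ((localCohomology (Ideal.span {b}) 1).obj (ModuleCat.of R (Nm R M a i)) : ModuleCat.{u} R)) :=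
  coker_equiv_H1 (Ideal.span {b}) (lam R M a b i) (ker_lam_le R M a b i) (isTors_coker_lam R M a b i)
    (H_subsingleton_of_smul_bijective _ b (Ideal.mem_span_singleton_self b) _
      ⟨smul_Tm_injective R M a b i, smul_Tm_surjective R M a b i⟩ 0)
    (H_subsingleton_of_smul_bijective _ b (Ideal.mem_span_singleton_self b) _
      ⟨smul_Tm_injective R M a b i, smul_Tm_surjective R M a b i⟩ 1)

/-- `y ↦ dy` from `P` to the cocycles of `Γ_{a+Rb}(E)` in degree `i+1` -/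
noncomputable def mu0 : ↥(Pm R M a b i) →ₗ[R]
    ↥(Coc (rE R M) (rD R M) (a ⊔ Ideal.span {b}) (i + 1)) :=
  LinearMap.codRestrict _ (rD R M i ∘ₗ (Pm R M a b i).subtype) (by
    intro y
    exact ⟨y.2.2, rD_comp R M i y.1⟩)

lemma mu0_coe (y : ↥(Pm R M a b i)) : ((mu0 R M a b i y : ↥(Coc (rE R M) (rD R M)
    (a ⊔ Ideal.span {b}) (i + 1))) : rE R M (i + 1)) = rD R M i y.1 := rfl

lemma mem_Zc_sup_Eab_iff (y : ↥(Pm R M a b i)) :
    y.1 ∈ Zc R M a i ⊔ Eab R M a b i ↔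
      rD R M i y.1 ∈ (Eab R M a b i).map (rD R M i) := by
  constructor
  · intro h
    obtain ⟨z, hz, u, hu, hzu⟩ := Submodule.mem_sup.1 h
    refine ⟨u, hu, ?_⟩
    rw [← hzu, map_add, LinearMap.mem_ker.1 hz.2, zero_add]
  · rintro ⟨u, hu, hDu⟩
    have hy1 : y.1 ∈ Ea R M a i := ((mem_Pm_iff R M a b i y.1).1 y.2).1
    have hz : y.1 - u ∈ Zc R M a i :=
      ⟨Submodule.sub_mem _ hy1 (Eab_le_Ea R M a b i hu), by
        show y.1 - u ∈ LinearMap.ker (rD R M i)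
        rw [LinearMap.mem_ker, map_sub, hDu, sub_self]⟩
    have : y.1 = (y.1 - u) + u := by abel
    rw [this]
    exact Submodule.add_mem _ (Submodule.mem_sup_left hz) (Submodule.mem_sup_right hu)

/-- the kernel of `H^{i+1}_{a+Rb}(M) → H^{i+1}_a(M)` is `H^1_{Rb}(H^i_a(M))`. -/
theorem ker_HmapOfLE_equiv :
    Nonempty (LinearMap.ker ((Dual2.HmapOfLE (le_sup_left : a ≤ a ⊔ Ideal.span {b})
        (i + 1)).app (ModuleCat.of R M)).hom ≃ₗ[R]
      ((localCohomology (Ideal.span {b}) 1).obj (ModuleCat.of R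
        ((localCohomology a i).obj (ModuleCat.of R M) : ModuleCat.{u} R)) : ModuleCat.{u} R)) := by
  obtain ⟨Θi, hsurji, hkeri, -⟩ := exists_Theta_res R M i
  obtain ⟨Θ, hsurj, hker, hcompat⟩ := exists_Theta_res R M (i + 1)
  set Hm := ((Dual2.HmapOfLE (le_sup_left : a ≤ a ⊔ Ideal.span {b})
        (i + 1)).app (ModuleCat.of R M)).hom with hHm
  -- (A)
  let eN : Nm R M a i ≃ₗ[R]
      ((localCohomology a i).obj (ModuleCat.of R M) : ModuleCat.{u} R) :=
    (Submodule.quotEquivOfEq _ _ (hkeri a).symm) ≪≫ₗ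
      (Θi a).quotKerEquivOfSurjective (hsurji a)
  -- (B), (C)
  obtain ⟨eB⟩ := coker_lam_equiv R M a b i
  let eC := ((localCohomology (Ideal.span {b}) 1).mapIso eN.toModuleIso).toLinearEquiv
  -- (D)
  let mu1 : ↥(Pm R M a b i) →ₗ[R]
      ((localCohomology (a ⊔ Ideal.span {b}) (i + 1)).obj (ModuleCat.of R M) : ModuleCat.{u} R) :=
    Θ (a ⊔ Ideal.span {b}) ∘ₗ mu0 R M a b i
  have hmu1 : ∀ y, mu1 y ∈ LinearMap.ker Hm := by
    intro y
    rw [LinearMap.mem_ker]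
    show Hm (Θ (a ⊔ Ideal.span {b}) (mu0 R M a b i y)) = 0
    rw [hHm, ← hcompat a (a ⊔ Ideal.span {b}) le_sup_left]
    have : incl (rE R M) (rD R M) (le_sup_left : a ≤ a ⊔ Ideal.span {b}) (i + 1)
        (mu0 R M a b i y) ∈ LinearMap.ker (Θ a) := by
      rw [hker a, Submodule.mem_comap]
      exact ⟨y.1, ((mem_Pm_iff R M a b i y.1).1 y.2).1, rfl⟩
    exact this
  let mu : ↥(Pm R M a b i) →ₗ[R] LinearMap.ker Hm := LinearMap.codRestrict _ mu1 hmu1
  have hmu_surj : Function.Surjective mu := by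
    rintro ⟨x, hx⟩
    obtain ⟨w, rfl⟩ := hsurj (a ⊔ Ideal.span {b}) x
    rw [LinearMap.mem_ker, hHm, ← hcompat a (a ⊔ Ideal.span {b}) le_sup_left] at hx
    have hx' : incl (rE R M) (rD R M) (le_sup_left : a ≤ a ⊔ Ideal.span {b}) (i + 1) w ∈
        LinearMap.ker (Θ a) := hx
    rw [hker a, Submodule.mem_comap] at hx'
    obtain ⟨y, hy, hyw⟩ := hx'
    have hyw' : rD R M i y = w.1 := hyw
    have hyP : y ∈ Pm R M a b i := ⟨hy, by
      show rD R M i y ∈ Eab R M a b (i + 1)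
      rw [hyw']
      exact w.2.1⟩
    refine ⟨⟨y, hyP⟩, ?_⟩
    apply Subtype.ext
    show Θ (a ⊔ Ideal.span {b}) (mu0 R M a b i ⟨y, hyP⟩) = Θ (a ⊔ Ideal.span {b}) w
    congr 1
    exact Subtype.ext hyw'
  have hmu_ker : ∀ y : ↥(Pm R M a b i), mu y = 0 ↔ y.1 ∈ Zc R M a i ⊔ Eab R M a b i := by
    intro y
    rw [mem_Zc_sup_Eab_iff]
    have h1 : mu y = 0 ↔ mu0 R M a b i y ∈ LinearMap.ker (Θ (a ⊔ Ideal.span {b})) := by
      constructor
      · intro h
        exact congrArg Subtype.val h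
      · intro h
        exact Subtype.ext h
    rw [h1, hker (a ⊔ Ideal.span {b}), Submodule.mem_comap]
    rfl
  -- (E)
  have hB0 : (B0 R M a b i).comap (Pm R M a b i).subtype ≤ LinearMap.ker mu := by
    intro y hy
    rw [LinearMap.mem_ker, hmu_ker]
    exact sup_le_sup_right (Bc_le_Zc R M a i) _ hy
  let mu' : Tm R M a b i →ₗ[R] LinearMap.ker Hm := Submodule.liftQ _ mu hB0
  have hmu'_surj : Function.Surjective mu' := by
    intro x
    obtain ⟨y, rfl⟩ := hmu_surj x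
    exact ⟨Submodule.Quotient.mk y, rfl⟩
  have hmu'_ker : LinearMap.ker mu' = LinearMap.range (lam R M a b i) := by
    ext t
    obtain ⟨y, rfl⟩ := Submodule.Quotient.mk_surjective _ t
    rw [LinearMap.mem_ker]
    have h2 : mu' (Submodule.Quotient.mk y) = mu y := rfl
    rw [h2, hmu_ker]
    constructor
    · intro h
      obtain ⟨z, hz, u, hu, hzu⟩ := Submodule.mem_sup.1 h
      refine ⟨Submodule.Quotient.mk ⟨z, hz⟩, ?_⟩
      rw [lam_mk, eq_comm, ← sub_eq_zero, ← Submodule.Quotient.mk_sub, Tm_mk_eq_zero_iff]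
      apply Submodule.mem_sup_right
      have : ((y - Submodule.inclusion (Zc_le_Pm R M a b i) ⟨z, hz⟩ : ↥(Pm R M a b i)) :
          rE R M i) = u := by
        show y.1 - z = u
        rw [← hzu]
        abel
      rw [this]
      exact hu
    · rintro ⟨n, hn⟩
      obtain ⟨z, rfl⟩ := Submodule.Quotient.mk_surjective _ n
      rw [lam_mk, ← sub_eq_zero, ← Submodule.Quotient.mk_sub, Tm_mk_eq_zero_iff] at hn
      have h3 : z.1 - y.1 ∈ B0 R M a b i := hn
      have h4 : z.1 - y.1 ∈ Zc R M a i ⊔ Eab R M a b i :=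
        sup_le_sup_right (Bc_le_Zc R M a i) _ h3
      have : y.1 = z.1 - (z.1 - y.1) := by abel
      rw [this]
      exact Submodule.sub_mem _ (Submodule.mem_sup_left z.2) h4
  let eE : (Tm R M a b i ⧸ LinearMap.range (lam R M a b i)) ≃ₗ[R] LinearMap.ker Hm :=
    (Submodule.quotEquivOfEq _ _ hmu'_ker.symm) ≪≫ₗ mu'.quotKerEquivOfSurjective hmu'_surj
  exact ⟨eE.symm ≪≫ₗ eB ≪≫ₗ eC⟩

end Model

end Groth.Agent.Lib.helper2.LCNat
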