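import Mathlib
import Groth.Agent.Lib.Helper2.LCNat5
import Groth.Agent.Lib.Helper19.LCGroth

/-!
# helper2: maps with `b`-power torsion kernel and cokernel, on local cohomology
-/

set_option autoImplicit false
universe u

open CategoryTheory CategoryTheory.Limits Opposite

namespace Groth.Agent.Lib.helper2.LCNat

open Groth.Agent.Lib.helper19.LCBridge Groth.Agent.Lib.helper19.LCLes
  Groth.Agent.Lib.helper19.LCLes2 Groth.Agent.Lib.helper19.LCZero

variable {R : Type u} [CommRing R] [IsNoetherianRing R] (a : Ideal R) (b : R)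

/-- `b`-power torsion modules -/
def BTors (N : Type u) [AddCommGroup N] [Module R N] : Prop := ∀ x : N, ∃ k : ℕ, b ^ k • x = 0

omit [IsNoetherianRing R] in
lemma exists_pow_kill_finset (K : Type u) [AddCommGroup K] [Module R K] (hK : BTors b K)
    (s : Finset K) : ∃ k : ℕ, ∀ y ∈ s, b ^ k • y = 0 := by
  classical
  induction s using Finset.induction_on with
  | empty => exact ⟨0, fun y hy => by simp at hy⟩
  | insert c s hc ih =>
    obtain ⟨k, hk⟩ := ih
    obtain ⟨k', hk'⟩ := hK c
    refine ⟨k + k', fun y hy => ?_⟩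
    rcases Finset.mem_insert.1 hy with rfl | hy
    · rw [pow_add, mul_smul, hk', smul_zero]
    · rw [pow_add, mul_comm, mul_smul, hk y hy, smul_zero]

/-- local cohomology of a `b`-power torsion module is `b`-power torsion -/
lemma BTors_H (K : Type u) [AddCommGroup K] [Module R K] (hK : BTors b K) (i : ℕ) :
    BTors b ((localCohomology a i).obj (ModuleCat.of R K) : ModuleCat.{u} R) := by
  intro x
  obtain ⟨K', hK', x', rfl⟩ := Groth.Agent.Lib.helper19.LCGroth.H_from_fg a K i x
  obtain ⟨s, hs⟩ := hK'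
  obtain ⟨k, hk⟩ := exists_pow_kill_finset b K hK s
  have h2 : ∀ y ∈ K', b ^ k • y = 0 := by
    intro y hy
    rw [← hs] at hy
    refine Submodule.span_induction ?_ ?_ ?_ ?_ hy
    · intro z hz
      exact hk z hz
    · exact smul_zero _
    · intro z w _ _ hz hw
      rw [smul_add, hz, hw, add_zero]
    · intro r z _ hz
      rw [smul_comm, hz, smul_zero]
  have h3 : b ^ k • 𝟙 (ModuleCat.of R K') = 0 := by
    apply ModuleCat.hom_ext
    apply LinearMap.ext
    intro y
    apply Subtype.ext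
    exact h2 y.1 y.2
  refine ⟨k, ?_⟩
  rw [← map_smul, H_smul_eq_zero a i _ (b ^ k) h3 x', map_zero]

section SES

variable {S : ShortComplex (ModuleCat.{u} R)} (hS : S.ShortExact)

include hS in
/-- kernel of `H^i(g)` is torsion when `X₁` is -/
lemma ker_g_tors (h1 : BTors b S.X₁) (i : ℕ)
    (x : ((localCohomology a i).obj S.X₂ : ModuleCat.{u} R))
    (hx : ((localCohomology a i).map S.g) x = 0) : ∃ k : ℕ, b ^ k • x = 0 := by
  obtain ⟨κ, rfl⟩ := H_exact_mid a i hS x hx
  obtain ⟨k, hk⟩ := BTors_H a b S.X₁ h1 i κ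
  exact ⟨k, by rw [← map_smul, hk, map_zero]⟩

include hS in
/-- cokernel of `H^i(g)` is torsion when `X₁` is -/
lemma coker_g_tors (h1 : BTors b S.X₁) (i : ℕ)
    (y : ((localCohomology a i).obj S.X₃ : ModuleCat.{u} R)) :
    ∃ (k : ℕ) (x : ((localCohomology a i).obj S.X₂ : ModuleCat.{u} R)),
      ((localCohomology a i).map S.g) x = b ^ k • y := by
  obtain ⟨k, hk⟩ := BTors_H a b S.X₁ h1 (i + 1) (δH a i hS y)
  rw [← map_smul] at hk
  obtain ⟨x, hx⟩ := exact_at_X₃ a i hS _ hk
  exact ⟨k, x, hx⟩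

include hS in
/-- kernel of `H^i(f)` is torsion when `X₃` is -/
lemma ker_f_tors (h3 : BTors b S.X₃) (i : ℕ)
    (x : ((localCohomology a i).obj S.X₁ : ModuleCat.{u} R))
    (hx : ((localCohomology a i).map S.f) x = 0) : ∃ k : ℕ, b ^ k • x = 0 := by
  cases i with
  | zero =>
    refine ⟨0, ?_⟩
    rw [pow_zero, one_smul]
    exact H_zero_injective a hS (hx.trans (map_zero _).symm)
  | succ j =>
    obtain ⟨c, rfl⟩ := exact_at_X₁ a j hS x hx
    obtain ⟨k, hk⟩ := BTors_H a b S.X₃ h3 j c
    exact ⟨k, by rw [← map_smul, hk, map_zero]⟩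

include hS in
/-- cokernel of `H^i(f)` is torsion when `X₃` is -/
lemma coker_f_tors (h3 : BTors b S.X₃) (i : ℕ)
    (y : ((localCohomology a i).obj S.X₂ : ModuleCat.{u} R)) :
    ∃ (k : ℕ) (x : ((localCohomology a i).obj S.X₁ : ModuleCat.{u} R)),
      ((localCohomology a i).map S.f) x = b ^ k • y := by
  obtain ⟨k, hk⟩ := BTors_H a b S.X₃ h3 i (((localCohomology a i).map S.g) y)
  have hk' : ((localCohomology a i).map S.g) (b ^ k • y) = 0 := by
    rw [map_smul]
    exact hk
  obtain ⟨x, hx⟩ := H_exact_mid a i hS _ hk'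
  exact ⟨k, x, hx⟩

end SES

/-- a map with `b`-torsion kernel and cokernel induces maps with `b`-torsion kernel and
cokernel on local cohomology -/
theorem ker_coker_tors {M M'' : Type u} [AddCommGroup M] [Module R M] [AddCommGroup M'']
    [Module R M''] (f : M →ₗ[R] M'')
    (hk : ∀ x ∈ LinearMap.ker f, ∃ k : ℕ, b ^ k • x = 0)
    (hc : ∀ y : M'', ∃ k : ℕ, b ^ k • y ∈ LinearMap.range f) (i : ℕ) :
    (∀ x : ((localCohomology a i).obj (ModuleCat.of R M) : ModuleCat.{u} R),
      ((localCohomology a i).map (ModuleCat.ofHom f)).hom x = 0 → ∃ k : ℕ, b ^ k • x = 0) ∧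
    (∀ y : ((localCohomology a i).obj (ModuleCat.of R M'') : ModuleCat.{u} R),
      ∃ (k : ℕ) (x : ((localCohomology a i).obj (ModuleCat.of R M) : ModuleCat.{u} R)),
        ((localCohomology a i).map (ModuleCat.ofHom f)).hom x = b ^ k • y) := by
  let S1 : ShortComplex (ModuleCat.{u} R) :=
    ShortComplex.mk (ModuleCat.ofHom (LinearMap.ker f).subtype)
      (ModuleCat.ofHom f.rangeRestrict) (by
        apply ModuleCat.hom_ext
        apply LinearMap.ext
        intro x
        apply Subtype.ext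
        exact LinearMap.mem_ker.1 x.2)
  have hS1 : S1.ShortExact := ModuleCat.shortComplex_shortExact S1
    (by
      intro y
      constructor
      · intro hy
        exact ⟨⟨y, congrArg Subtype.val hy⟩, rfl⟩
      · rintro ⟨z, rfl⟩
        exact Subtype.ext (LinearMap.mem_ker.1 z.2))
    (Submodule.injective_subtype _) f.surjective_rangeRestrict
  let S2 : ShortComplex (ModuleCat.{u} R) :=
    ShortComplex.mk (ModuleCat.ofHom (LinearMap.range f).subtype)
      (ModuleCat.ofHom (LinearMap.range f).mkQ) (by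
        ext x
        exact (Submodule.Quotient.mk_eq_zero _).2 x.2)
  have hS2 : S2.ShortExact := ModuleCat.shortComplex_shortExact S2
    (LinearMap.exact_subtype_mkQ _) (Submodule.injective_subtype _) (Submodule.mkQ_surjective _)
  have hT1 : BTors b S1.X₁ := by
    rintro ⟨x, hx⟩
    obtain ⟨k, hk'⟩ := hk x hx
    exact ⟨k, Subtype.ext hk'⟩
  have hT2 : BTors b S2.X₃ := by
    intro y
    obtain ⟨y, rfl⟩ := Submodule.Quotient.mk_surjective _ y
    obtain ⟨k, hk'⟩ := hc y
    refine ⟨k, ?_⟩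
    show b ^ k • (Submodule.Quotient.mk y : M'' ⧸ LinearMap.range f) = 0
    rw [← Submodule.Quotient.mk_smul, Submodule.Quotient.mk_eq_zero]
    exact hk'
  have hfac : ModuleCat.ofHom f = S1.g ≫ S2.f := by
    ext x; rfl
  have hmap : ∀ x : ((localCohomology a i).obj (ModuleCat.of R M) : ModuleCat.{u} R),
      ((localCohomology a i).map (ModuleCat.ofHom f)).hom x =
        ((localCohomology a i).map S2.f) (((localCohomology a i).map S1.g) x) := by
    intro x
    rw [hfac, Functor.map_comp]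
    rfl
  constructor
  · intro x hx
    rw [hmap] at hx
    obtain ⟨k, hk1⟩ := ker_f_tors a b hS2 hT2 i _ hx
    rw [← map_smul] at hk1
    obtain ⟨l, hl⟩ := ker_g_tors a b hS1 hT1 i _ hk1
    exact ⟨l + k, by rw [pow_add, mul_smul, hl]⟩
  · intro y
    obtain ⟨k, y', hy'⟩ := coker_f_tors a b hS2 hT2 i y
    obtain ⟨l, x, hx⟩ := coker_g_tors a b hS1 hT1 i y'
    refine ⟨l + k, x, ?_⟩
    rw [hmap, hx, map_smul, hy', pow_add, mul_smul]

end Groth.Agent.Lib.helper2.LCNat
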