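import Mathlib
import Groth.Agent.Lib.Helper2.LCNat6

/-!
# helper2: the sequence `H^i_{a+Rb}(M) → H^i_a(M) → H^i_a(M_b)`
-/

set_option autoImplicit false
universe u

open CategoryTheory CategoryTheory.Limits Opposite

namespace Groth.Agent.Lib.helper2.LCNat

open Groth.Agent.Lib.helper19.LCBridge Groth.Agent.Lib.helper19.LCLes
  Groth.Agent.Lib.helper19.LCLes2 Groth.Agent.Lib.helper19.LCZero
  Groth.Agent.Lib.helper19.LCFactor

variable {R : Type u} [CommRing R]

/-- if `b` acts bijectively on `T` then it acts bijectively on `H^j_I(T)` -/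
lemma smul_H_bijective (I : Ideal R) (b : R) (T : Type u) [AddCommGroup T] [Module R T]
    (hT : Function.Bijective (fun t : T => b • t)) (j : ℕ) :
    Function.Bijective
      (fun x : ((localCohomology I j).obj (ModuleCat.of R T) : ModuleCat.{u} R) => b • x) := by
  have hiso : IsIso (b • 𝟙 (ModuleCat.of R T)) := by
    rw [ConcreteCategory.isIso_iff_bijective]
    exact hT
  have hiso' : IsIso ((localCohomology I j).map (b • 𝟙 (ModuleCat.of R T))) := inferInstance
  have h1 := (ConcreteCategory.isIso_iff_bijective _).1 hiso'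
  have h2 : (fun x : ((localCohomology I j).obj (ModuleCat.of R T) : ModuleCat.{u} R) => b • x) =
      ((localCohomology I j).map (b • 𝟙 (ModuleCat.of R T))).hom := by
    funext x
    exact (H_map_smul_id I j _ b x).symm
  rw [h2]
  exact h1

lemma eq_zero_of_pow_smul_eq_zero {N : Type*} [AddCommGroup N] [Module R N] (b : R)
    (hinj : Function.Injective (fun x : N => b • x)) (k : ℕ) (x : N) (hx : b ^ k • x = 0) :
    x = 0 := by
  induction k with
  | zero => simpa using hx
  | succ k ih =>
    apply ih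
    apply hinj
    show b • b ^ k • x = b • 0
    rw [smul_zero, smul_smul, ← pow_succ']
    exact hx

variable (a : Ideal R) (b : R) (M : Type u) [AddCommGroup M] [Module R M]

/-- elements in the image of `H^i_{a+Rb}(M) → H^i_a(M)` are `b`-power torsion -/
lemma pow_smul_HmapOfLE (i : ℕ)
    (y : ((localCohomology (a ⊔ Ideal.span {b}) i).obj (ModuleCat.of R M) : ModuleCat.{u} R)) :
    ∃ k : ℕ, b ^ k • ((Dual2.HmapOfLE (le_sup_left : a ≤ a ⊔ Ideal.span {b}) i).app
      (ModuleCat.of R M)).hom y = 0 := by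
  obtain ⟨n, hn⟩ := H_powerTorsion (a ⊔ Ideal.span {b}) i (ModuleCat.of R M) y
  refine ⟨n, ?_⟩
  rw [← map_smul, hn _ (Ideal.pow_mem_pow (Ideal.mem_sup_right
    (Ideal.mem_span_singleton_self b)) n), map_zero]

/-- degree zero: the image of `H^0_{a+Rb}(M) → H^0_a(M)` is the `b`-power torsion -/
lemma mem_range_HmapOfLE_zero (x : ((localCohomology a 0).obj (ModuleCat.of R M) : ModuleCat.{u} R))
    (k : ℕ) (hx : b ^ k • x = 0) :
    x ∈ LinearMap.range ((Dual2.HmapOfLE (le_sup_left : a ≤ a ⊔ Ideal.span {b}) 0).app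
      (ModuleCat.of R M)).hom := by
  obtain ⟨⟨m, hm⟩, rfl⟩ := (gammaToH_bijective a (ModuleCat.of R M)).2 x
  rw [← map_smul] at hx
  have h1 := (gammaToH_bijective a (ModuleCat.of R M)).1 (hx.trans (map_zero _).symm)
  have h2 : b ^ k • m = 0 := congrArg Subtype.val h1
  have hm' : m ∈ DRing.torsionSub (a ⊔ Ideal.span {b}) (ModuleCat.of R M) :=
    (Groth.Agent.Lib.helper19.LCRes.mem_torsionSub_sup_span_iff a b m).2 ⟨hm, k, h2⟩
  exact ⟨gammaToH (a ⊔ Ideal.span {b}) (ModuleCat.of R M) ⟨m, hm'⟩,
    HmapOfLE_gammaToH le_sup_left (ModuleCat.of R M) ⟨m, hm'⟩ hm⟩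

/-- degree zero: injectivity -/
lemma HmapOfLE_zero_injective {I I' : Ideal R} (h : I ≤ I') :
    Function.Injective ((Dual2.HmapOfLE h 0).app (ModuleCat.of R M)).hom := by
  rw [injective_iff_map_eq_zero]
  intro x hx
  obtain ⟨⟨m, hm⟩, rfl⟩ := (gammaToH_bijective I' (ModuleCat.of R M)).2 x
  have hm' : m ∈ DRing.torsionSub I (ModuleCat.of R M) := torsionSub_mono h _ hm
  rw [HmapOfLE_gammaToH h (ModuleCat.of R M) ⟨m, hm⟩ hm'] at hx
  have h1 := (gammaToH_bijective I (ModuleCat.of R M)).1 (hx.trans (map_zero _).symm)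
  have h2 : m = 0 := congrArg Subtype.val h1
  subst h2
  exact map_zero _

section Main

variable [IsNoetherianRing R]

lemma ker_mkLinearMap_tors (x : M)
    (hx : x ∈ LinearMap.ker (LocalizedModule.mkLinearMap (Submonoid.powers b) M)) :
    ∃ k : ℕ, b ^ k • x = 0 := by
  rw [LinearMap.mem_ker, LocalizedModule.mkLinearMap_apply, ← LocalizedModule.zero_mk 1,
    LocalizedModule.mk_eq] at hx
  obtain ⟨⟨s, k, rfl⟩, hs⟩ := hx
  refine ⟨k, ?_⟩
  have h2 : (⟨b ^ k, k, rfl⟩ : Submonoid.powers b) • (1 : Submonoid.powers b) • x =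
      (⟨b ^ k, k, rfl⟩ : Submonoid.powers b) • (1 : Submonoid.powers b) • (0 : M) := hs
  rw [one_smul, one_smul, smul_zero] at h2
  exact h2

lemma coker_mkLinearMap_tors (y : LocalizedModule (Submonoid.powers b) M) :
    ∃ k : ℕ, b ^ k • y ∈ LinearMap.range (LocalizedModule.mkLinearMap (Submonoid.powers b) M) := by
  induction y using LocalizedModule.induction_on with
  | h m s =>
    obtain ⟨s, k, rfl⟩ := s
    refine ⟨k, m, ?_⟩
    rw [LocalizedModule.mkLinearMap_apply, LocalizedModule.smul'_mk]
    exact (LocalizedModule.mk_cancel (⟨b ^ k, k, rfl⟩ : Submonoid.powers b) m).symm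

lemma smul_localized_bijective :
    Function.Bijective (fun t : LocalizedModule (Submonoid.powers b) M => b • t) := by
  have h := IsLocalizedModule.map_units (LocalizedModule.mkLinearMap (Submonoid.powers b) M)
    (⟨b, Submonoid.mem_powers b⟩ : Submonoid.powers b)
  have h2 := (Module.End.isUnit_iff _).1 h
  exact h2

/-- the three assertions of the sequence `H^i_{a+Rb}(M) → H^i_a(M) → H^i_a(M_b)` -/
theorem brodmann_localization (i : ℕ) :
    Function.Exact ((Dual2.HmapOfLE (le_sup_left : a ≤ a ⊔ Ideal.span {b}) i).app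
        (ModuleCat.of R M)).hom
      ((localCohomology a i).map (ModuleCat.ofHom
        (LocalizedModule.mkLinearMap (Submonoid.powers b) M))).hom ∧
    Function.Injective ((Dual2.HmapOfLE (le_sup_left : a ≤ a ⊔ Ideal.span {b}) 0).app
        (ModuleCat.of R M)).hom ∧
    Nonempty ((LocCoh.H a i (LocalizedModule (Submonoid.powers b) M) ⧸
        LinearMap.range ((localCohomology a i).map (ModuleCat.ofHom
          (LocalizedModule.mkLinearMap (Submonoid.powers b) M))).hom) ≃ₗ[R]
      LinearMap.ker ((Dual2.HmapOfLE (le_sup_left : a ≤ a ⊔ Ideal.span {b}) (i + 1)).app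
        (ModuleCat.of R M)).hom) := by
  obtain ⟨hkt, hct⟩ := ker_coker_tors a b (LocalizedModule.mkLinearMap (Submonoid.powers b) M)
    (ker_mkLinearMap_tors b M) (coker_mkLinearMap_tors b M) i
  have hbij := smul_H_bijective a b (LocalizedModule (Submonoid.powers b) M)
    (smul_localized_bijective b M) i
  refine ⟨?_, HmapOfLE_zero_injective M le_sup_left, ?_⟩
  · intro x
    constructor
    · intro hx
      obtain ⟨k, hk⟩ := hkt x hx
      cases i with
      | zero => exact mem_range_HmapOfLE_zero a b M x k hk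
      | succ j => exact (mem_range_HmapOfLE_iff R M a b j x).2 ⟨k, hk⟩
    · rintro ⟨y, rfl⟩
      obtain ⟨k, hk⟩ := pow_smul_HmapOfLE a b M i y
      apply eq_zero_of_pow_smul_eq_zero b hbij.1 k
      rw [← map_smul, hk, map_zero]
  · obtain ⟨e1⟩ := coker_equiv_H1 (Ideal.span {b})
      ((localCohomology a i).map (ModuleCat.ofHom
        (LocalizedModule.mkLinearMap (Submonoid.powers b) M))).hom
      (by
        intro x hx
        rw [mem_torsionSub_span_singleton_iff]
        exact hkt x hx)
      (by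
        intro t
        obtain ⟨y, rfl⟩ := Submodule.Quotient.mk_surjective _ t
        have : Submodule.Quotient.mk y ∈ DRing.torsionSub (Ideal.span {b})
            (LocCoh.H a i (LocalizedModule (Submonoid.powers b) M) ⧸
              LinearMap.range ((localCohomology a i).map (ModuleCat.ofHom
                (LocalizedModule.mkLinearMap (Submonoid.powers b) M))).hom) := by
          rw [mem_torsionSub_span_singleton_iff]
          obtain ⟨k, x, hx⟩ := hct y
          refine ⟨k, ?_⟩
          rw [← Submodule.Quotient.mk_smul, Submodule.Quotient.mk_eq_zero]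
          exact ⟨x, hx⟩
        exact this)
      (H_subsingleton_of_smul_bijective _ b (Ideal.mem_span_singleton_self b) _ hbij 0)
      (H_subsingleton_of_smul_bijective _ b (Ideal.mem_span_singleton_self b) _ hbij 1)
    obtain ⟨e2⟩ := ker_HmapOfLE_equiv R M a b i
    exact ⟨e1 ≪≫ₗ e2.symm⟩

end Main

end Groth.Agent.Lib.helper2.LCNat
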