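import Mathlib
import Groth.Agent.Lib.Helper2.LCNat7

/-!
# helper2: `Γ_{I+J} = Γ_I ∩ Γ_J` and `Γ_{I∩J}(E) = Γ_I(E) + Γ_J(E)` for injective `E`
-/

set_option autoImplicit false
universe u

namespace Groth.Agent.Lib.helper2.LCNat

variable {R : Type u} [CommRing R]

lemma mem_torsionSub_sup_iff (I J : Ideal R) {N : Type u} [AddCommGroup N] [Module R N] (x : N) :
    x ∈ DRing.torsionSub (I ⊔ J) N ↔ x ∈ DRing.torsionSub I N ∧ x ∈ DRing.torsionSub J N := by
  constructor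
  · intro h
    exact ⟨torsionSub_mono le_sup_left N h, torsionSub_mono le_sup_right N h⟩
  · rintro ⟨⟨n, hn⟩, m, hm⟩
    refine ⟨n + m, fun r hr => ?_⟩
    have h1 := Ideal.sup_pow_add_le_pow_sup_pow (I := I) (J := J) (n := n) (m := m) hr
    obtain ⟨u, hu, v, hv, rfl⟩ := Submodule.mem_sup.1 h1
    rw [add_smul, hn u hu, hm v hv, add_zero]

/-- Artin–Rees consequence: `I^k ∩ J^k ≤ (I ∩ J)^n` for `k ≫ 0` -/
lemma exists_pow_inf_pow_le [IsNoetherianRing R] (I J : Ideal R) (n : ℕ) :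
    ∃ k : ℕ, I ^ k ⊓ J ^ k ≤ (I ⊓ J) ^ n := by
  obtain ⟨c, hc⟩ := Ideal.exists_pow_inf_eq_pow_smul I (J ^ n : Submodule R R)
  refine ⟨n + c, ?_⟩
  have h1 := hc (n + c) (Nat.le_add_left c n)
  have h2 : I ^ (n + c) ⊓ J ^ (n + c) ≤ I ^ (n + c) ⊓ J ^ n :=
    inf_le_inf_left _ (Ideal.pow_le_pow_right (Nat.le_add_right n c))
  refine h2.trans ?_
  have h3 : (I ^ (n + c) ⊓ J ^ n : Ideal R) = I ^ (n + c) • (⊤ : Submodule R R) ⊓ (J ^ n : Submodule R R) := by
    rw [Ideal.smul_top_eq_map]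
    simp
  rw [h3, h1, Nat.add_sub_cancel]
  have h4 : I ^ n • (I ^ c • (⊤ : Submodule R R) ⊓ (J ^ n : Submodule R R)) ≤ I ^ n • (J ^ n : Submodule R R) :=
    Submodule.smul_mono le_rfl inf_le_right
  refine h4.trans ?_
  rw [smul_eq_mul, ← mul_pow]
  exact Ideal.pow_right_mono Ideal.mul_le_inf n

/-- in an injective module, an element killed by `A ∩ B` is a sum of an element killed by `A`
and one killed by `B` -/
lemma exists_add_of_inf_kill (E : Type u) [AddCommGroup E] [Module R E] [Module.Injective R E]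
    (A B : Ideal R) (x : E) (hx : ∀ r ∈ A ⊓ B, r • x = 0) :
    ∃ u v : E, u + v = x ∧ (∀ r ∈ A, r • u = 0) ∧ (∀ r ∈ B, r • v = 0) := by
  -- the diagonal embedding
  let i : (R ⧸ (A ⊓ B)) →ₗ[R] (R ⧸ A) × (R ⧸ B) :=
    LinearMap.prod (Submodule.mapQ (A ⊓ B) A LinearMap.id (fun r hr => hr.1))
      (Submodule.mapQ (A ⊓ B) B LinearMap.id (fun r hr => hr.2))
  have hi : Function.Injective i := by
    rw [injective_iff_map_eq_zero]
    intro q hq
    obtain ⟨r, rfl⟩ := Submodule.Quotient.mk_surjective _ q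
    have h1 : (Submodule.Quotient.mk r : R ⧸ A) = 0 := congrArg Prod.fst hq
    have h2 : (Submodule.Quotient.mk r : R ⧸ B) = 0 := congrArg Prod.snd hq
    rw [Submodule.Quotient.mk_eq_zero] at h1 h2 ⊢
    exact ⟨h1, h2⟩
  let g : (R ⧸ (A ⊓ B)) →ₗ[R] E := Submodule.liftQ _ (LinearMap.toSpanSingleton R E x) (by
    intro r hr
    rw [LinearMap.mem_ker, LinearMap.toSpanSingleton_apply]
    exact hx r hr)
  obtain ⟨H, hH⟩ := Module.Injective.out (R := R) (Q := E) i hi g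
  refine ⟨H (Submodule.Quotient.mk 1, 0), H (0, Submodule.Quotient.mk 1), ?_, ?_, ?_⟩
  · rw [← map_add]
    have h1 : ((Submodule.Quotient.mk 1 : R ⧸ A), (0 : R ⧸ B)) + (0, Submodule.Quotient.mk 1) =
        i (Submodule.Quotient.mk 1) := by
      simp [i]
    rw [h1, hH]
    show (Submodule.liftQ (A ⊓ B) (LinearMap.toSpanSingleton R E x) _)
      (Submodule.Quotient.mk 1) = x
    rw [Submodule.liftQ_apply, LinearMap.toSpanSingleton_apply, one_smul]
  · intro r hr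
    rw [← map_smul]
    have : r • ((Submodule.Quotient.mk 1 : R ⧸ A), (0 : R ⧸ B)) = 0 := by
      rw [Prod.smul_mk, smul_zero, ← Submodule.Quotient.mk_smul, smul_eq_mul, mul_one,
        (Submodule.Quotient.mk_eq_zero A).2 hr]
      rfl
    rw [this, map_zero]
  · intro r hr
    rw [← map_smul]
    have : r • ((0 : R ⧸ A), (Submodule.Quotient.mk 1 : R ⧸ B)) = 0 := by
      rw [Prod.smul_mk, smul_zero, ← Submodule.Quotient.mk_smul, smul_eq_mul, mul_one,
        (Submodule.Quotient.mk_eq_zero B).2 hr]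
      rfl
    rw [this, map_zero]

/-- `Γ_{I∩J}(E) ≤ Γ_I(E) + Γ_J(E)` for `E` injective over a Noetherian ring -/
lemma torsionSub_inf_le_sup [IsNoetherianRing R] (E : Type u) [AddCommGroup E] [Module R E]
    [Module.Injective R E] (I J : Ideal R) :
    DRing.torsionSub (I ⊓ J) E ≤ DRing.torsionSub I E ⊔ DRing.torsionSub J E := by
  rintro x ⟨n, hn⟩
  obtain ⟨k, hk⟩ := exists_pow_inf_pow_le I J n
  obtain ⟨u, v, huv, hu, hv⟩ := exists_add_of_inf_kill E (I ^ k) (J ^ k) x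
    (fun r hr => hn r (hk hr))
  rw [← huv]
  exact Submodule.add_mem _ (Submodule.mem_sup_left ⟨k, hu⟩) (Submodule.mem_sup_right ⟨k, hv⟩)

end Groth.Agent.Lib.helper2.LCNat
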