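import Mathlib
import Groth.Agent.Lib.Helper2.LCNat8

/-!
# helper2: the Mayer–Vietoris sequence for local cohomology
-/

set_option autoImplicit false
universe u

open CategoryTheory CategoryTheory.Limits Opposite

namespace Groth.Agent.Lib.helper2.LCNat

open Groth.Agent.Lib.helper19.LCRes

variable (R : Type u) [CommRing R] [IsNoetherianRing R] (M : Type u) [AddCommGroup M] [Module R M]

instance rE_injective (n : ℕ) : Module.Injective R (rE R M n) :=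
  resX_injective (ModuleCat.of R M) n

/-- `Γ_K(E^n)` -/
noncomputable abbrev G (K : Ideal R) (n : ℕ) : Submodule R (rE R M n) :=
  DRing.torsionSub K (rE R M n)

lemma G_sup (I J : Ideal R) (n : ℕ) (x : rE R M n) :
    x ∈ G R M (I ⊔ J) n ↔ x ∈ G R M I n ∧ x ∈ G R M J n := mem_torsionSub_sup_iff I J x

lemma G_inf (I J : Ideal R) (n : ℕ) (x : rE R M n) (hx : x ∈ G R M (I ⊓ J) n) :
    ∃ u ∈ G R M I n, ∃ v ∈ G R M J n, u - v = x := by
  obtain ⟨u, hu, v, hv, huv⟩ := Submodule.mem_sup.1 (torsionSub_inf_le_sup (rE R M n) I J hx)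
  exact ⟨u, hu, -v, Submodule.neg_mem _ hv, by rw [sub_neg_eq_add, huv]⟩

lemma G_mono {K K' : Ideal R} (h : K ≤ K') (n : ℕ) : G R M K' n ≤ G R M K n :=
  torsionSub_mono h _

lemma D_mem_G (K : Ideal R) (n : ℕ) {x : rE R M n} (hx : x ∈ G R M K n) :
    rD R M n x ∈ G R M K (n + 1) := map_mem_torsionSub R K (rD R M n) hx

/-- the package of comparison maps in a fixed degree, in elementwise form -/
structure ThetaPack (i : ℕ) where
  Θ : ∀ K : Ideal R, ↥(Coc (rE R M) (rD R M) K i) →ₗ[R]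
        ((localCohomology K i).obj (ModuleCat.of R M) : ModuleCat.{u} R)
  surj : ∀ K, Function.Surjective (Θ K)
  zero_iff : ∀ K (e : rE R M i) (he : e ∈ Coc (rE R M) (rD R M) K i),
    Θ K ⟨e, he⟩ = 0 ↔ e ∈ Cob (rE R M) (rD R M) K i
  compat : ∀ (K K' : Ideal R) (h : K ≤ K') (e : rE R M i)
    (he' : e ∈ Coc (rE R M) (rD R M) K' i) (he : e ∈ Coc (rE R M) (rD R M) K i),
    Θ K ⟨e, he⟩ = ((Dual2.HmapOfLE h i).app (ModuleCat.of R M)).hom (Θ K' ⟨e, he'⟩)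

lemma exists_thetaPack (i : ℕ) : Nonempty (ThetaPack R M i) := by
  obtain ⟨Θ, hsurj, hker, hcompat⟩ := exists_Theta_res R M i
  refine ⟨⟨Θ, hsurj, ?_, ?_⟩⟩
  · intro K e he
    rw [← LinearMap.mem_ker, hker K, Submodule.mem_comap]
    rfl
  · intro K K' h e he' he
    exact hcompat K K' h ⟨e, he'⟩

lemma Cob_mono {K K' : Ideal R} (h : K ≤ K') (n : ℕ) :
    Cob (rE R M) (rD R M) K' n ≤ Cob (rE R M) (rD R M) K n := by
  cases n with
  | zero => exact le_rfl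
  | succ j => exact Submodule.map_mono (G_mono R M h j)

lemma Cob_inf_split (I J : Ideal R) (n : ℕ) (e : rE R M n)
    (he : e ∈ Cob (rE R M) (rD R M) (I ⊓ J) n) :
    ∃ c1 ∈ Cob (rE R M) (rD R M) I n, ∃ c2 ∈ Cob (rE R M) (rD R M) J n, e = c1 - c2 := by
  cases n with
  | zero =>
    have : e = 0 := (Submodule.mem_bot R).1 he
    exact ⟨0, Submodule.zero_mem _, 0, Submodule.zero_mem _, by rw [this, sub_zero]⟩
  | succ j =>
    obtain ⟨t, ht, rfl⟩ := he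
    obtain ⟨t1, ht1, t2, ht2, rfl⟩ := G_inf R M I J j t ht
    exact ⟨rD R M j t1, ⟨t1, ht1, rfl⟩, rD R M j t2, ⟨t2, ht2, rfl⟩, map_sub _ _ _⟩

lemma Coc_mem_iff (K : Ideal R) (n : ℕ) (e : rE R M n) :
    e ∈ Coc (rE R M) (rD R M) K n ↔ e ∈ G R M K n ∧ rD R M n e = 0 := Iff.rfl

section MV

variable (I J : Ideal R) (i : ℕ)

/-- the map `α_i` of the Mayer–Vietoris sequence -/
noncomputable abbrev mvα : LocCoh.H (I ⊔ J) i M →ₗ[R] LocCoh.H I i M × LocCoh.H J i M :=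
  LinearMap.prod ((Dual2.HmapOfLE (le_sup_left : I ≤ I ⊔ J) i).app (ModuleCat.of R M)).hom
    ((Dual2.HmapOfLE (le_sup_right : J ≤ I ⊔ J) i).app (ModuleCat.of R M)).hom

/-- the map `β_i` of the Mayer–Vietoris sequence -/
noncomputable abbrev mvβ : LocCoh.H I i M × LocCoh.H J i M →ₗ[R] LocCoh.H (I ⊓ J) i M :=
  ((Dual2.HmapOfLE (inf_le_left : I ⊓ J ≤ I) i).app (ModuleCat.of R M)).hom ∘ₗ
      LinearMap.fst R (LocCoh.H I i M) (LocCoh.H J i M) -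
    ((Dual2.HmapOfLE (inf_le_right : I ⊓ J ≤ J) i).app (ModuleCat.of R M)).hom ∘ₗ
      LinearMap.snd R (LocCoh.H I i M) (LocCoh.H J i M)

variable {R M i} in
lemma ThetaPack.map_sub' (P : ThetaPack R M i) (K : Ideal R) (e e' : rE R M i)
    (he : e ∈ Coc (rE R M) (rD R M) K i) (he' : e' ∈ Coc (rE R M) (rD R M) K i) :
    P.Θ K ⟨e - e', Submodule.sub_mem _ he he'⟩ = P.Θ K ⟨e, he⟩ - P.Θ K ⟨e', he'⟩ := by
  rw [← map_sub]
  rfl

/-- exactness at `H^i_I ⊕ H^i_J` -/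
theorem mv_exact_mid : LinearMap.ker (mvβ R M I J i) = LinearMap.range (mvα R M I J i) := by
  obtain ⟨P⟩ := exists_thetaPack R M i
  apply le_antisymm
  · rintro ⟨x, y⟩ hxy
    obtain ⟨⟨u, hu⟩, rfl⟩ := P.surj I x
    obtain ⟨⟨v, hv⟩, rfl⟩ := P.surj J y
    have hu1 : u ∈ Coc (rE R M) (rD R M) (I ⊓ J) i := ⟨G_mono R M inf_le_left i hu.1, hu.2⟩
    have hv1 : v ∈ Coc (rE R M) (rD R M) (I ⊓ J) i := ⟨G_mono R M inf_le_right i hv.1, hv.2⟩
    have h1 : P.Θ (I ⊓ J) ⟨u - v, Submodule.sub_mem _ hu1 hv1⟩ = 0 := by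
      rw [P.map_sub' (I ⊓ J) u v hu1 hv1, P.compat (I ⊓ J) I inf_le_left u hu hu1,
        P.compat (I ⊓ J) J inf_le_right v hv hv1]
      exact hxy
    rw [P.zero_iff] at h1
    obtain ⟨c1, hc1, c2, hc2, hc⟩ := Cob_inf_split R M I J i _ h1
    have hc1' : c1 ∈ Coc (rE R M) (rD R M) I i := Bc_le_Zc R M I i hc1
    have hc2' : c2 ∈ Coc (rE R M) (rD R M) J i := Bc_le_Zc R M J i hc2
    have hw : u - c1 = v - c2 := by
      have : u - v = c1 - c2 := hc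
      rw [sub_eq_sub_iff_add_eq_add] at this ⊢
      rw [add_comm u c2, add_comm v c1]
      rw [add_comm] at this
      exact this.symm ▸ rfl
    have hwI : u - c1 ∈ Coc (rE R M) (rD R M) I i := Submodule.sub_mem _ hu hc1'
    have hwJ : u - c1 ∈ Coc (rE R M) (rD R M) J i := hw ▸ Submodule.sub_mem _ hv hc2'
    have hw0 : u - c1 ∈ Coc (rE R M) (rD R M) (I ⊔ J) i :=
      ⟨(G_sup R M I J i _).2 ⟨hwI.1, hwJ.1⟩, hwI.2⟩
    refine ⟨P.Θ (I ⊔ J) ⟨u - c1, hw0⟩, ?_⟩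
    apply Prod.ext
    · show ((Dual2.HmapOfLE (le_sup_left : I ≤ I ⊔ J) i).app (ModuleCat.of R M)).hom
        (P.Θ (I ⊔ J) ⟨u - c1, hw0⟩) = P.Θ I ⟨u, hu⟩
      rw [← P.compat I (I ⊔ J) le_sup_left _ hw0 hwI, P.map_sub' I u c1 hu hc1',
        (P.zero_iff I c1 hc1').2 hc1, sub_zero]
    · show ((Dual2.HmapOfLE (le_sup_right : J ≤ I ⊔ J) i).app (ModuleCat.of R M)).hom
        (P.Θ (I ⊔ J) ⟨u - c1, hw0⟩) = P.Θ J ⟨v, hv⟩
      rw [← P.compat J (I ⊔ J) le_sup_right _ hw0 hwJ]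
      have : (⟨u - c1, hwJ⟩ : ↥(Coc (rE R M) (rD R M) J i)) =
          ⟨v - c2, Submodule.sub_mem _ hv hc2'⟩ := Subtype.ext hw
      rw [this, P.map_sub' J v c2 hv hc2', (P.zero_iff J c2 hc2').2 hc2, sub_zero]
  · rintro _ ⟨x, rfl⟩
    obtain ⟨⟨w, hw⟩, rfl⟩ := P.surj (I ⊔ J) x
    have hwI : w ∈ Coc (rE R M) (rD R M) I i := ⟨G_mono R M le_sup_left i hw.1, hw.2⟩
    have hwJ : w ∈ Coc (rE R M) (rD R M) J i := ⟨G_mono R M le_sup_right i hw.1, hw.2⟩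
    have hw1 : w ∈ Coc (rE R M) (rD R M) (I ⊓ J) i := ⟨G_mono R M inf_le_left i hwI.1, hw.2⟩
    rw [LinearMap.mem_ker]
    show ((Dual2.HmapOfLE (inf_le_left : I ⊓ J ≤ I) i).app (ModuleCat.of R M)).hom
        (((Dual2.HmapOfLE (le_sup_left : I ≤ I ⊔ J) i).app (ModuleCat.of R M)).hom
          (P.Θ (I ⊔ J) ⟨w, hw⟩)) -
      ((Dual2.HmapOfLE (inf_le_right : I ⊓ J ≤ J) i).app (ModuleCat.of R M)).hom
        (((Dual2.HmapOfLE (le_sup_right : J ≤ I ⊔ J) i).app (ModuleCat.of R M)).hom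
          (P.Θ (I ⊔ J) ⟨w, hw⟩)) = 0
    rw [← P.compat I (I ⊔ J) le_sup_left w hw hwI, ← P.compat J (I ⊔ J) le_sup_right w hw hwJ,
      ← P.compat (I ⊓ J) I inf_le_left w hwI hw1, ← P.compat (I ⊓ J) J inf_le_right w hwJ hw1,
      sub_self]

/-- pairs `(u, v) ∈ Γ_I(E^i) × Γ_J(E^i)` with `du = dv` -/
noncomputable def Wm : Submodule R (rE R M i × rE R M i) where
  carrier := {p | p.1 ∈ G R M I i ∧ p.2 ∈ G R M J i ∧ rD R M i p.1 = rD R M i p.2}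
  zero_mem' := ⟨Submodule.zero_mem _, Submodule.zero_mem _, rfl⟩
  add_mem' := by
    rintro p q ⟨h1, h2, h3⟩ ⟨h1', h2', h3'⟩
    exact ⟨Submodule.add_mem _ h1 h1', Submodule.add_mem _ h2 h2', by
      show rD R M i (p.1 + q.1) = rD R M i (p.2 + q.2)
      rw [map_add, map_add, h3, h3']⟩
  smul_mem' := by
    rintro c p ⟨h1, h2, h3⟩
    exact ⟨Submodule.smul_mem _ _ h1, Submodule.smul_mem _ _ h2, by
      show rD R M i (c • p.1) = rD R M i (c • p.2)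
      rw [map_smul, map_smul, h3]⟩

lemma Wm_sub_mem (p : ↥(Wm R M I J i)) :
    p.1.1 - p.1.2 ∈ Coc (rE R M) (rD R M) (I ⊓ J) i := by
  obtain ⟨h1, h2, h3⟩ := p.2
  refine ⟨Submodule.sub_mem _ (G_mono R M inf_le_left i h1) (G_mono R M inf_le_right i h2), ?_⟩
  show p.1.1 - p.1.2 ∈ LinearMap.ker (rD R M i)
  rw [LinearMap.mem_ker, map_sub, h3, sub_self]

lemma Wm_D_mem (p : ↥(Wm R M I J i)) :
    rD R M i p.1.1 ∈ Coc (rE R M) (rD R M) (I ⊔ J) (i + 1) := by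
  obtain ⟨h1, h2, h3⟩ := p.2
  refine ⟨(G_sup R M I J (i + 1) _).2 ⟨D_mem_G R M I i h1, h3 ▸ D_mem_G R M J i h2⟩, ?_⟩
  exact rD_comp R M i p.1.1

/-- `(u, v) ↦ u - v` into the cocycles of `Γ_{I∩J}(E)` -/
noncomputable def Wsub : ↥(Wm R M I J i) →ₗ[R] ↥(Coc (rE R M) (rD R M) (I ⊓ J) i) :=
  LinearMap.codRestrict _ ((LinearMap.fst R _ _ - LinearMap.snd R _ _) ∘ₗ (Wm R M I J i).subtype)
    (fun p => Wm_sub_mem R M I J i p)

/-- `(u, v) ↦ du` into the cocycles of `Γ_{I+J}(E)` -/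
noncomputable def WD : ↥(Wm R M I J i) →ₗ[R] ↥(Coc (rE R M) (rD R M) (I ⊔ J) (i + 1)) :=
  LinearMap.codRestrict _ (rD R M i ∘ₗ LinearMap.fst R _ _ ∘ₗ (Wm R M I J i).subtype)
    (fun p => Wm_D_mem R M I J i p)

lemma Wsub_surjective : Function.Surjective (Wsub R M I J i) := by
  rintro ⟨z, hz⟩
  obtain ⟨u, hu, v, hv, huv⟩ := G_inf R M I J i z hz.1
  have hD : rD R M i u = rD R M i v := by
    have h0 : rD R M i z = 0 := hz.2
    rw [← huv, map_sub, sub_eq_zero] at h0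
    exact h0
  exact ⟨⟨(u, v), hu, hv, hD⟩, Subtype.ext huv⟩

/-- the connecting map and exactness around it -/
theorem exists_mv_delta : ∃ δ : LocCoh.H (I ⊓ J) i M →ₗ[R] LocCoh.H (I ⊔ J) (i + 1) M,
    LinearMap.ker (mvα R M I J (i + 1)) = LinearMap.range δ ∧
    LinearMap.ker δ = LinearMap.range (mvβ R M I J i) := by
  obtain ⟨P⟩ := exists_thetaPack R M i
  obtain ⟨P'⟩ := exists_thetaPack R M (i + 1)
  let π : ↥(Wm R M I J i) →ₗ[R] LocCoh.H (I ⊓ J) i M := P.Θ (I ⊓ J) ∘ₗ Wsub R M I J i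
  let σ : ↥(Wm R M I J i) →ₗ[R] LocCoh.H (I ⊔ J) (i + 1) M := P'.Θ (I ⊔ J) ∘ₗ WD R M I J i
  have hπ : Function.Surjective π := (P.surj (I ⊓ J)).comp (Wsub_surjective R M I J i)
  have hπ_apply : ∀ p : ↥(Wm R M I J i),
      π p = P.Θ (I ⊓ J) ⟨p.1.1 - p.1.2, Wm_sub_mem R M I J i p⟩ := fun p => rfl
  have hσ_apply : ∀ p : ↥(Wm R M I J i),
      σ p = P'.Θ (I ⊔ J) ⟨rD R M i p.1.1, Wm_D_mem R M I J i p⟩ := fun p => rfl
  have hle : LinearMap.ker π ≤ LinearMap.ker σ := by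
    intro p hp
    rw [LinearMap.mem_ker, hπ_apply, P.zero_iff] at hp
    rw [LinearMap.mem_ker, hσ_apply, P'.zero_iff]
    obtain ⟨h1, h2, h3⟩ := p.2
    obtain ⟨c1, hc1, c2, hc2, hc⟩ := Cob_inf_split R M I J i _ hp
    -- w = u - c1 = v - c2 lies in Γ_{I+J}
    have hw : p.1.1 - c1 = p.1.2 - c2 := by
      rw [sub_eq_sub_iff_add_eq_add] at hc ⊢
      rw [add_comm p.1.1 c2, add_comm p.1.2 c1]
      rw [add_comm] at hc
      exact hc.symm ▸ rfl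
    have hwI : p.1.1 - c1 ∈ G R M I i := Submodule.sub_mem _ h1 (Bc_le_Ea R M I i hc1)
    have hwJ : p.1.1 - c1 ∈ G R M J i := hw ▸ Submodule.sub_mem _ h2 (Bc_le_Ea R M J i hc2)
    refine ⟨p.1.1 - c1, (G_sup R M I J i _).2 ⟨hwI, hwJ⟩, ?_⟩
    rw [map_sub, LinearMap.mem_ker.1 (Bc_le_ker R M I i hc1), sub_zero]
  let δ : LocCoh.H (I ⊓ J) i M →ₗ[R] LocCoh.H (I ⊔ J) (i + 1) M :=
    (Submodule.liftQ (LinearMap.ker π) σ hle) ∘ₗ (π.quotKerEquivOfSurjective hπ).symm.toLinearMap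
  have hδ : ∀ p : ↥(Wm R M I J i), δ (π p) = σ p := by
    intro p
    show (Submodule.liftQ (LinearMap.ker π) σ hle) ((π.quotKerEquivOfSurjective hπ).symm (π p)) = _
    have : (π.quotKerEquivOfSurjective hπ).symm (π p) = Submodule.Quotient.mk p := by
      rw [LinearEquiv.symm_apply_eq]
      rfl
    rw [this, Submodule.liftQ_apply]
  refine ⟨δ, ?_, ?_⟩
  · apply le_antisymm
    · intro x hx
      obtain ⟨⟨w, hw⟩, rfl⟩ := P'.surj (I ⊔ J) x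
      have hwI : w ∈ Coc (rE R M) (rD R M) I (i + 1) := ⟨G_mono R M le_sup_left _ hw.1, hw.2⟩
      have hwJ : w ∈ Coc (rE R M) (rD R M) J (i + 1) := ⟨G_mono R M le_sup_right _ hw.1, hw.2⟩
      have h1 : P'.Θ I ⟨w, hwI⟩ = 0 := by
        rw [P'.compat I (I ⊔ J) le_sup_left w hw hwI]
        exact congrArg Prod.fst hx
      have h2 : P'.Θ J ⟨w, hwJ⟩ = 0 := by
        rw [P'.compat J (I ⊔ J) le_sup_right w hw hwJ]
        exact congrArg Prod.snd hx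
      rw [P'.zero_iff] at h1 h2
      obtain ⟨u, hu, huw⟩ := h1
      obtain ⟨v, hv, hvw⟩ := h2
      refine ⟨π ⟨(u, v), hu, hv, huw.trans hvw.symm⟩, ?_⟩
      rw [hδ, hσ_apply]
      congr 1
      exact Subtype.ext huw
    · rintro _ ⟨y, rfl⟩
      obtain ⟨p, rfl⟩ := hπ y
      rw [hδ, hσ_apply, LinearMap.mem_ker]
      obtain ⟨h1, h2, h3⟩ := p.2
      have hm := Wm_D_mem R M I J i p
      have hmI : rD R M i p.1.1 ∈ Coc (rE R M) (rD R M) I (i + 1) :=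
        ⟨G_mono R M le_sup_left _ hm.1, hm.2⟩
      have hmJ : rD R M i p.1.1 ∈ Coc (rE R M) (rD R M) J (i + 1) :=
        ⟨G_mono R M le_sup_right _ hm.1, hm.2⟩
      apply Prod.ext
      · show ((Dual2.HmapOfLE (le_sup_left : I ≤ I ⊔ J) (i + 1)).app (ModuleCat.of R M)).hom
          (P'.Θ (I ⊔ J) ⟨rD R M i p.1.1, hm⟩) = 0
        rw [← P'.compat I (I ⊔ J) le_sup_left _ hm hmI, P'.zero_iff]
        exact ⟨p.1.1, h1, rfl⟩
      · show ((Dual2.HmapOfLE (le_sup_right : J ≤ I ⊔ J) (i + 1)).app (ModuleCat.of R M)).hom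
          (P'.Θ (I ⊔ J) ⟨rD R M i p.1.1, hm⟩) = 0
        rw [← P'.compat J (I ⊔ J) le_sup_right _ hm hmJ, P'.zero_iff]
        exact ⟨p.1.2, h2, h3.symm⟩
  · apply le_antisymm
    · intro y hy
      obtain ⟨p, rfl⟩ := hπ y
      rw [LinearMap.mem_ker, hδ, hσ_apply, P'.zero_iff] at hy
      obtain ⟨h1, h2, h3⟩ := p.2
      obtain ⟨w, hw, hDw⟩ := hy
      have hwIJ := (G_sup R M I J i w).1 hw
      have huw : p.1.1 - w ∈ Coc (rE R M) (rD R M) I i :=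
        ⟨Submodule.sub_mem _ h1 hwIJ.1, by
          show p.1.1 - w ∈ LinearMap.ker (rD R M i)
          rw [LinearMap.mem_ker, map_sub, hDw, sub_self]⟩
      have hvw : p.1.2 - w ∈ Coc (rE R M) (rD R M) J i :=
        ⟨Submodule.sub_mem _ h2 hwIJ.2, by
          show p.1.2 - w ∈ LinearMap.ker (rD R M i)
          rw [LinearMap.mem_ker, map_sub, hDw, ← h3, sub_self]⟩
      refine ⟨(P.Θ I ⟨p.1.1 - w, huw⟩, P.Θ J ⟨p.1.2 - w, hvw⟩), ?_⟩
      have huw1 : p.1.1 - w ∈ Coc (rE R M) (rD R M) (I ⊓ J) i :=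
        ⟨G_mono R M inf_le_left i huw.1, huw.2⟩
      have hvw1 : p.1.2 - w ∈ Coc (rE R M) (rD R M) (I ⊓ J) i :=
        ⟨G_mono R M inf_le_right i hvw.1, hvw.2⟩
      show ((Dual2.HmapOfLE (inf_le_left : I ⊓ J ≤ I) i).app (ModuleCat.of R M)).hom
          (P.Θ I ⟨p.1.1 - w, huw⟩) -
        ((Dual2.HmapOfLE (inf_le_right : I ⊓ J ≤ J) i).app (ModuleCat.of R M)).hom
          (P.Θ J ⟨p.1.2 - w, hvw⟩) = π p
      rw [← P.compat (I ⊓ J) I inf_le_left _ huw huw1, ← P.compat (I ⊓ J) J inf_le_right _ hvw hvw1,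
        ← P.map_sub' (I ⊓ J) _ _ huw1 hvw1, hπ_apply]
      congr 1
      apply Subtype.ext
      show p.1.1 - w - (p.1.2 - w) = p.1.1 - p.1.2
      abel
    · rintro _ ⟨⟨x1, x2⟩, rfl⟩
      obtain ⟨⟨u, hu⟩, rfl⟩ := P.surj I x1
      obtain ⟨⟨v, hv⟩, rfl⟩ := P.surj J x2
      have hu1 : u ∈ Coc (rE R M) (rD R M) (I ⊓ J) i := ⟨G_mono R M inf_le_left i hu.1, hu.2⟩
      have hv1 : v ∈ Coc (rE R M) (rD R M) (I ⊓ J) i := ⟨G_mono R M inf_le_right i hv.1, hv.2⟩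
      have hDu : rD R M i u = 0 := hu.2
      have hDv : rD R M i v = 0 := hv.2
      let p : ↥(Wm R M I J i) := ⟨(u, v), hu.1, hv.1, hDu.trans hDv.symm⟩
      have hβ : mvβ R M I J i (P.Θ I ⟨u, hu⟩, P.Θ J ⟨v, hv⟩) = π p := by
        show ((Dual2.HmapOfLE (inf_le_left : I ⊓ J ≤ I) i).app (ModuleCat.of R M)).hom
            (P.Θ I ⟨u, hu⟩) -
          ((Dual2.HmapOfLE (inf_le_right : I ⊓ J ≤ J) i).app (ModuleCat.of R M)).hom
            (P.Θ J ⟨v, hv⟩) = π p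
        rw [← P.compat (I ⊓ J) I inf_le_left _ hu hu1, ← P.compat (I ⊓ J) J inf_le_right _ hv hv1,
          ← P.map_sub' (I ⊓ J) _ _ hu1 hv1, hπ_apply]
      rw [LinearMap.mem_ker, hβ, hδ, hσ_apply, P'.zero_iff]
      show rD R M i u ∈ Cob (rE R M) (rD R M) (I ⊔ J) (i + 1)
      rw [hDu]
      exact Submodule.zero_mem _

end MV

/-- the Mayer–Vietoris sequence -/
theorem mayer_vietoris (I J : Ideal R) :
    ∃ δ : ∀ i : ℕ, LocCoh.H (I ⊓ J) i M →ₗ[R] LocCoh.H (I ⊔ J) (i + 1) M,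
      Function.Injective (mvα R M I J 0) ∧
      (∀ i : ℕ, LinearMap.ker (mvα R M I J (i + 1)) = LinearMap.range (δ i)) ∧
      (∀ i : ℕ, LinearMap.ker (mvβ R M I J i) = LinearMap.range (mvα R M I J i)) ∧
      (∀ i : ℕ, LinearMap.ker (δ i) = LinearMap.range (mvβ R M I J i)) := by
  choose δ h1 h2 using fun i => exists_mv_delta R M I J i
  refine ⟨δ, ?_, h1, fun i => mv_exact_mid R M I J i, h2⟩
  intro x y hxy
  exact HmapOfLE_zero_injective M le_sup_left (congrArg Prod.fst hxy)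

end Groth.Agent.Lib.helper2.LCNat
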