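import Mathlib

/-!
# helper2: concrete description of the homology of a cochain complex of modules
-/

set_option autoImplicit false
universe u

open CategoryTheory CategoryTheory.Limits

namespace Groth.Agent.Lib.helper2.CxH

variable {R : Type u} [Ring R]

/-- cocycles in degree `q` (with `r = q + 1`) -/
def Zc (K : CochainComplex (ModuleCat.{u} R) ℤ) (q r : ℤ) : Submodule R (K.X q) :=
  LinearMap.ker (K.d q r).hom

lemma mem_Zc {K : CochainComplex (ModuleCat.{u} R) ℤ} {q r : ℤ} (x : K.X q) :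
    x ∈ Zc K q r ↔ (K.d q r).hom x = 0 := LinearMap.mem_ker

/-- the inclusion of cocycles as a morphism -/
noncomputable def ZcIncl (K : CochainComplex (ModuleCat.{u} R) ℤ) (q r : ℤ) :
    ModuleCat.of R (Zc K q r) ⟶ K.X q := ModuleCat.ofHom (Zc K q r).subtype

lemma ZcIncl_d (K : CochainComplex (ModuleCat.{u} R) ℤ) (q r : ℤ) :
    ZcIncl K q r ≫ K.d q r = 0 := by
  ext z
  exact z.2

/-- cocycles to the abstract cycles object -/
noncomputable def toCyc (K : CochainComplex (ModuleCat.{u} R) ℤ) (q r : ℤ) (hqr : q + 1 = r) :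
    ModuleCat.of R (Zc K q r) ⟶ K.cycles q :=
  K.liftCycles (ZcIncl K q r) r (by simp [hqr]) (ZcIncl_d K q r)

lemma toCyc_i (K : CochainComplex (ModuleCat.{u} R) ℤ) (q r : ℤ) (hqr : q + 1 = r) :
    toCyc K q r hqr ≫ K.iCycles q = ZcIncl K q r := K.liftCycles_i _ _ _ _

/-- the class of a cocycle -/
noncomputable def cls (K : CochainComplex (ModuleCat.{u} R) ℤ) (q r : ℤ) (hqr : q + 1 = r) :
    Zc K q r →ₗ[R] K.homology q :=
  (toCyc K q r hqr ≫ K.homologyπ q).hom

lemma iCycles_mem (K : CochainComplex (ModuleCat.{u} R) ℤ) (q r : ℤ) (c : K.cycles q) :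
    (K.iCycles q).hom c ∈ Zc K q r := by
  rw [mem_Zc]
  have := K.iCycles_d q r
  exact congrArg (fun t => t.hom c) this

lemma toCyc_iCycles (K : CochainComplex (ModuleCat.{u} R) ℤ) (q r : ℤ) (hqr : q + 1 = r)
    (c : K.cycles q) :
    (toCyc K q r hqr).hom ⟨(K.iCycles q).hom c, iCycles_mem K q r c⟩ = c := by
  have hmono : Function.Injective (K.iCycles q).hom :=
    (ModuleCat.mono_iff_injective _).1 inferInstance
  apply hmono
  have := toCyc_i K q r hqr
  exact congrArg (fun t => t.hom (⟨(K.iCycles q).hom c, iCycles_mem K q r c⟩ : Zc K q r)) this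

lemma cls_surjective (K : CochainComplex (ModuleCat.{u} R) ℤ) (q r : ℤ) (hqr : q + 1 = r) :
    Function.Surjective (cls K q r hqr) := by
  intro h
  have hepi : Function.Surjective (K.homologyπ q).hom :=
    (ModuleCat.epi_iff_surjective _).1 inferInstance
  obtain ⟨c, rfl⟩ := hepi h
  refine ⟨⟨(K.iCycles q).hom c, iCycles_mem K q r c⟩, ?_⟩
  show (K.homologyπ q).hom ((toCyc K q r hqr).hom _) = _
  rw [toCyc_iCycles]

lemma cls_eq_zero_iff (K : CochainComplex (ModuleCat.{u} R) ℤ) (p q r : ℤ) (hpq : p + 1 = q)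
    (hqr : q + 1 = r) (z : Zc K q r) :
    cls K q r hqr z = 0 ↔ ∃ y : K.X p, (K.d p q).hom y = z.1 := by
  have hprev : (ComplexShape.up ℤ).prev q = p := by simp [← hpq]
  have hex : (ShortComplex.mk (K.toCycles p q) (K.homologyπ q)
      (K.toCycles_comp_homologyπ p q)).Exact :=
    ShortComplex.exact_of_g_is_cokernel _ (K.homologyIsCokernel p q hprev)
  rw [ShortComplex.moduleCat_exact_iff] at hex
  have hmono : Function.Injective (K.iCycles q).hom :=
    (ModuleCat.mono_iff_injective _).1 inferInstance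
  constructor
  · intro h
    obtain ⟨y, hy⟩ := hex ((toCyc K q r hqr).hom z) h
    refine ⟨y, ?_⟩
    have h1 := congrArg (K.iCycles q).hom hy
    have h2 : (K.iCycles q).hom ((K.toCycles p q).hom y) = (K.d p q).hom y :=
      congrArg (fun t => t.hom y) (K.toCycles_i p q)
    have h3 : (K.iCycles q).hom ((toCyc K q r hqr).hom z) = z.1 :=
      congrArg (fun t => t.hom z) (toCyc_i K q r hqr)
    rw [← h2, ← h3]
    exact h1
  · rintro ⟨y, hy⟩
    have h1 : (toCyc K q r hqr).hom z = (K.toCycles p q).hom y := by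
      apply hmono
      have h2 : (K.iCycles q).hom ((K.toCycles p q).hom y) = (K.d p q).hom y :=
        congrArg (fun t => t.hom y) (K.toCycles_i p q)
      have h3 : (K.iCycles q).hom ((toCyc K q r hqr).hom z) = z.1 :=
        congrArg (fun t => t.hom z) (toCyc_i K q r hqr)
      rw [h2, h3, hy]
    show (K.homologyπ q).hom ((toCyc K q r hqr).hom z) = 0
    rw [h1]
    exact congrArg (fun t => t.hom y) (K.toCycles_comp_homologyπ p q)

lemma map_mem_Zc {K L : CochainComplex (ModuleCat.{u} R) ℤ} (ψ : K ⟶ L) (q r : ℤ)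
    (z : Zc K q r) : (ψ.f q).hom z.1 ∈ Zc L q r := by
  rw [mem_Zc]
  have h := congrArg (fun t => t.hom z.1) (ψ.comm q r)
  have h' : (L.d q r).hom ((ψ.f q).hom z.1) = (ψ.f r).hom ((K.d q r).hom z.1) := h
  rw [h', (mem_Zc z.1).1 z.2, map_zero]

lemma homologyMap_cls {K L : CochainComplex (ModuleCat.{u} R) ℤ} (ψ : K ⟶ L) (q r : ℤ)
    (hqr : q + 1 = r) (z : Zc K q r) :
    (HomologicalComplex.homologyMap ψ q).hom (cls K q r hqr z) =
      cls L q r hqr ⟨(ψ.f q).hom z.1, map_mem_Zc ψ q r z⟩ := by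
  have hmono : Function.Injective (L.iCycles q).hom :=
    (ModuleCat.mono_iff_injective _).1 inferInstance
  have h1 : (HomologicalComplex.homologyMap ψ q).hom ((K.homologyπ q).hom
      ((toCyc K q r hqr).hom z)) = (L.homologyπ q).hom
        ((HomologicalComplex.cyclesMap ψ q).hom ((toCyc K q r hqr).hom z)) :=
    congrArg (fun t => t.hom ((toCyc K q r hqr).hom z))
      (HomologicalComplex.homologyπ_naturality ψ q)
  show (HomologicalComplex.homologyMap ψ q).hom ((K.homologyπ q).hom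
      ((toCyc K q r hqr).hom z)) = (L.homologyπ q).hom ((toCyc L q r hqr).hom _)
  rw [h1]
  congr 1
  apply hmono
  have h2 : (L.iCycles q).hom ((HomologicalComplex.cyclesMap ψ q).hom
      ((toCyc K q r hqr).hom z)) = (ψ.f q).hom ((K.iCycles q).hom ((toCyc K q r hqr).hom z)) :=
    congrArg (fun t => t.hom ((toCyc K q r hqr).hom z)) (HomologicalComplex.cyclesMap_i ψ q)
  have h3 : (K.iCycles q).hom ((toCyc K q r hqr).hom z) = z.1 :=
    congrArg (fun t => t.hom z) (toCyc_i K q r hqr)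
  have h4 : (L.iCycles q).hom ((toCyc L q r hqr).hom
      ⟨(ψ.f q).hom z.1, map_mem_Zc ψ q r z⟩) = (ψ.f q).hom z.1 :=
    congrArg (fun t => t.hom (⟨(ψ.f q).hom z.1, map_mem_Zc ψ q r z⟩ : Zc L q r))
      (toCyc_i L q r hqr)
  rw [h2, h3, h4]

/-- two cocycles with the same class differ by a coboundary -/
lemma cls_eq_iff (K : CochainComplex (ModuleCat.{u} R) ℤ) (p q r : ℤ) (hpq : p + 1 = q)
    (hqr : q + 1 = r) (z z' : Zc K q r) :
    cls K q r hqr z = cls K q r hqr z' ↔ ∃ y : K.X p, (K.d p q).hom y = z.1 - z'.1 := by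
  rw [← sub_eq_zero, ← map_sub, cls_eq_zero_iff K p q r hpq hqr]
  rfl

/-- vanishing of homology in concrete terms -/
lemma isZero_homology_iff (K : CochainComplex (ModuleCat.{u} R) ℤ) (p q r : ℤ) (hpq : p + 1 = q)
    (hqr : q + 1 = r) :
    IsZero (K.homology q) ↔ ∀ x : K.X q, (K.d q r).hom x = 0 → ∃ y : K.X p, (K.d p q).hom y = x := by
  constructor
  · intro h x hx
    have : cls K q r hqr ⟨x, (mem_Zc x).2 hx⟩ = 0 :=
      (ModuleCat.subsingleton_of_isZero h).elim _ _
    exact (cls_eq_zero_iff K p q r hpq hqr _).1 this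
  · intro h
    haveI : Subsingleton (K.homology q) := by
      refine ⟨fun a b => ?_⟩
      obtain ⟨za, rfl⟩ := cls_surjective K q r hqr a
      obtain ⟨zb, rfl⟩ := cls_surjective K q r hqr b
      rw [cls_eq_iff K p q r hpq hqr]
      apply h
      rw [map_sub, (mem_Zc za.1).1 za.2, (mem_Zc zb.1).1 zb.2, sub_zero]
    exact ModuleCat.isZero_of_subsingleton _

end Groth.Agent.Lib.helper2.CxH
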