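import Mathlib
import Groth.Agent.Lib.Helper2.ExtCech1

/-!
# helper2: the mapping cocone of a map of complexes of modules, elementwise
-/

set_option autoImplicit false
universe u

open CategoryTheory CategoryTheory.Limits HomologicalComplex CochainComplex HomComplex

namespace Groth.Agent.Lib.helper2.Cocone

section General

variable {C : Type*} [Category* C] [Preadditive C] [HasBinaryBiproducts C]
  {K L : CochainComplex C ℤ} (φ : K ⟶ L)

set_option backward.defeqAttrib.useBackward true in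
set_option backward.isDefEq.respectTransparency false in
lemma d_snd_v (p q r : ℤ) (hpq : p + 1 = q) (hr : p + -1 = r) :
    (mappingCocone φ).d p q ≫ (mappingCocone.snd φ).v q p (by lia) =
      -(mappingCocone.fst φ).f p ≫ φ.f p - (mappingCocone.snd φ).v p r hr ≫ L.d r p := by
  subst hpq
  obtain rfl : r = p + -1 := by lia
  simp [mappingCocone, mappingCocone.fst, mappingCocone.snd,
    Cochain.leftShift_v (n := 1) _ _ _ _ p p _ (p + -1) (by lia),
    Cochain.leftShift_v (n := 0) _ (-1) (-1) _ (p + 1) p (by lia) p (by lia),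
    Cochain.leftShift_v (n := 0) _ (-1) (-1) _ p (p + -1) (by lia) (p + -1) (by lia),
    Int.negOnePow_even 2 ⟨1, rfl⟩, mappingCone.d_snd_v φ (p + -1) p (by lia)]
  abel

end General

open CxH

variable {R : Type u} [Ring R] {K L : CochainComplex (ModuleCat.{u} R) ℤ} (φ : K ⟶ L)

/-- first projection -/
noncomputable def fE (p : ℤ) : (mappingCocone φ).X p →ₗ[R] K.X p :=
  ((mappingCocone.fst φ).f p).hom

/-- second projection -/
noncomputable def sE (p q : ℤ) (h : p + -1 = q) : (mappingCocone φ).X p →ₗ[R] L.X q :=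
  ((mappingCocone.snd φ).v p q h).hom

/-- first inclusion -/
noncomputable def iL (p : ℤ) : K.X p →ₗ[R] (mappingCocone φ).X p :=
  ((mappingCocone.inl φ).v p p (add_zero p)).hom

/-- second inclusion -/
noncomputable def iR (p q : ℤ) (h : p + 1 = q) : L.X p →ₗ[R] (mappingCocone φ).X q :=
  ((mappingCocone.inr φ).1.v p q h).hom

@[simp] lemma fE_iL (p : ℤ) (k : K.X p) : fE φ p (iL φ p k) = k :=
  congrArg (fun t => t.hom k) (mappingCocone.inl_v_fst_f φ p)

@[simp] lemma sE_iL (p q : ℤ) (h : p + -1 = q) (k : K.X p) : sE φ p q h (iL φ p k) = 0 :=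
  congrArg (fun t => t.hom k) (mappingCocone.inl_v_snd_v φ p q h)

@[simp] lemma fE_iR (p q : ℤ) (h : p + 1 = q) (l : L.X p) : fE φ q (iR φ p q h l) = 0 :=
  congrArg (fun t => t.hom l) (mappingCocone.inr_v_fst_f φ p q h)

@[simp] lemma sE_iR (p q : ℤ) (h : p + 1 = q) (h' : q + -1 = p) (l : L.X p) :
    sE φ q p h' (iR φ p q h l) = l :=
  congrArg (fun t => t.hom l) (mappingCocone.inr_v_snd_v φ p q h)

lemma iL_fE_add_iR_sE (p q : ℤ) (h : p + -1 = q) (c : (mappingCocone φ).X p) :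
    iL φ p (fE φ p c) + iR φ q p (by lia) (sE φ p q h c) = c :=
  congrArg (fun t => t.hom c) (mappingCocone.id_X φ p q h)

lemma ext_elem (p q : ℤ) (h : p + -1 = q) {c c' : (mappingCocone φ).X p}
    (h1 : fE φ p c = fE φ p c') (h2 : sE φ p q h c = sE φ p q h c') : c = c' := by
  rw [← iL_fE_add_iR_sE φ p q h c, ← iL_fE_add_iR_sE φ p q h c', h1, h2]

lemma fE_d (p q : ℤ) (c : (mappingCocone φ).X p) :
    fE φ q (((mappingCocone φ).d p q).hom c) = (K.d p q).hom (fE φ p c) :=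
  congrArg (fun t => t.hom c) ((mappingCocone.fst φ).comm p q).symm

lemma sE_d (p q r : ℤ) (hpq : p + 1 = q) (hr : p + -1 = r) (c : (mappingCocone φ).X p) :
    sE φ q p (by lia) (((mappingCocone φ).d p q).hom c) =
      -(φ.f p).hom (fE φ p c) - (L.d r p).hom (sE φ p r hr c) :=
  congrArg (fun t => t.hom c) (d_snd_v φ p q r hpq hr)

lemma d_iR (p q r : ℤ) (hpq : p + 1 = q) (hqr : q + 1 = r) (l : L.X p) :
    ((mappingCocone φ).d q r).hom (iR φ p q hpq l) = -iR φ q r hqr ((L.d p q).hom l) := by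
  apply ext_elem φ r q (by lia)
  · rw [fE_d, fE_iR, map_zero, map_neg, fE_iR, neg_zero]
  · rw [sE_d φ q r p hqr (by lia), fE_iR, map_zero, neg_zero, zero_sub, sE_iR, map_neg, sE_iR]

lemma d_iL (o p q : ℤ) (hop : o + 1 = p) (hpq : p + 1 = q) (k : K.X p) :
    ((mappingCocone φ).d p q).hom (iL φ p k) =
      iL φ q ((K.d p q).hom k) - iR φ p q hpq ((φ.f p).hom k) := by
  apply ext_elem φ q p (by lia)
  · rw [fE_d, fE_iL, map_sub, fE_iL, fE_iR, sub_zero]
  · rw [sE_d φ p q o hpq (by lia), fE_iL, sE_iL, map_zero, sub_zero, map_sub, sE_iL, sE_iR,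
      zero_sub]

/-- cocycle condition in the cocone -/
lemma mem_Zc_iff (o p q : ℤ) (hop : o + 1 = p) (hpq : p + 1 = q) (c : (mappingCocone φ).X p) :
    c ∈ Zc (mappingCocone φ) p q ↔
      (K.d p q).hom (fE φ p c) = 0 ∧
        (φ.f p).hom (fE φ p c) = -(L.d o p).hom (sE φ p o (by lia) c) := by
  rw [mem_Zc]
  constructor
  · intro h
    constructor
    · rw [← fE_d, h, map_zero]
    · have := sE_d φ p q o hpq (by lia) c
      rw [h, map_zero] at this
      have h2 : (φ.f p).hom (fE φ p c) + (L.d o p).hom (sE φ p o (by lia) c) = 0 := by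
        rw [← neg_eq_zero, neg_add, ← sub_eq_add_neg]
        exact this.symm
      exact eq_neg_of_add_eq_zero_left h2
  · rintro ⟨h1, h2⟩
    apply ext_elem φ q p (by lia)
    · rw [fE_d, h1, map_zero]
    · rw [sE_d φ p q o hpq (by lia), h2, map_zero, neg_neg, sub_self]

lemma fE_mem_Zc (p q : ℤ) (c : Zc (mappingCocone φ) p q) : fE φ p c.1 ∈ Zc K p q := by
  rw [mem_Zc, ← fE_d, (mem_Zc c.1).1 c.2, map_zero]

lemma iR_mem_Zc (p q r : ℤ) (hpq : p + 1 = q) (hqr : q + 1 = r) (l : Zc L p q) :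
    iR φ p q hpq l.1 ∈ Zc (mappingCocone φ) q r := by
  rw [mem_Zc, d_iR φ p q r hpq hqr, (mem_Zc l.1).1 l.2, map_zero, neg_zero]

/-- exactness at `H^q(K)` of `H^q(C) → H^q(K) → H^q(L)` -/
lemma homologyMap_phi_eq_zero_iff (p q r : ℤ) (hpq : p + 1 = q) (hqr : q + 1 = r)
    (x : K.homology q) :
    (homologyMap φ q).hom x = 0 ↔
      ∃ y : (mappingCocone φ).homology q, (homologyMap (mappingCocone.fst φ) q).hom y = x := by
  obtain ⟨z, rfl⟩ := cls_surjective K q r hqr x
  rw [homologyMap_cls, cls_eq_zero_iff L p q r hpq hqr]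
  constructor
  · rintro ⟨l, hl⟩
    have hc : iL φ q z.1 - iR φ p q hpq l ∈ Zc (mappingCocone φ) q r := by
      rw [mem_Zc_iff φ p q r hpq hqr]
      constructor
      · rw [map_sub, fE_iL, fE_iR, sub_zero]
        exact (mem_Zc z.1).1 z.2
      · simp only [map_sub, fE_iL, fE_iR, sE_iL, sE_iR, map_zero, sub_zero, zero_sub, map_neg,
          neg_neg]
        exact hl.symm
    refine ⟨cls _ q r hqr ⟨_, hc⟩, ?_⟩
    rw [homologyMap_cls]
    congr 1
    apply Subtype.ext
    show fE φ q (iL φ q z.1 - iR φ p q hpq l) = z.1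
    rw [map_sub, fE_iL, fE_iR, sub_zero]
  · rintro ⟨y, hy⟩
    obtain ⟨c, rfl⟩ := cls_surjective _ q r hqr y
    rw [homologyMap_cls, cls_eq_iff K p q r hpq hqr] at hy
    obtain ⟨k', hk'⟩ := hy
    have hc := (mem_Zc_iff φ p q r hpq hqr c.1).1 c.2
    refine ⟨-sE φ q p (by lia) c.1 - (φ.f p).hom k', ?_⟩
    have hz : z.1 = fE φ q c.1 - (K.d p q).hom k' := by
      have : (K.d p q).hom k' = fE φ q c.1 - z.1 := hk'
      rw [this]; abel
    have hcomm : (L.d p q).hom ((φ.f p).hom k') = (φ.f q).hom ((K.d p q).hom k') :=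
      (congrArg (fun t => t.hom k') (φ.comm p q))
    show _ = (φ.f q).hom z.1
    rw [map_sub, map_neg, hcomm, hz, map_sub, hc.2]

/-- exactness at `H^q(C)` of `H^{q-1}(L) → H^q(C) → H^q(K)` -/
lemma homologyMap_fst_eq_zero_iff (p q r : ℤ) (hpq : p + 1 = q) (hqr : q + 1 = r)
    (x : (mappingCocone φ).homology q) :
    (homologyMap (mappingCocone.fst φ) q).hom x = 0 ↔
      ∃ l : Zc L p q, x = cls _ q r hqr ⟨iR φ p q hpq l.1, iR_mem_Zc φ p q r hpq hqr l⟩ := by
  constructor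
  · intro hx
    obtain ⟨c, rfl⟩ := cls_surjective _ q r hqr x
    rw [homologyMap_cls, cls_eq_zero_iff K p q r hpq hqr] at hx
    obtain ⟨k', hk'⟩ := hx
    have hk'' : (K.d p q).hom k' = fE φ q c.1 := hk'
    -- c' = c - d (iL k')
    set c' := c.1 - ((mappingCocone φ).d p q).hom (iL φ p k') with hc'
    have hfc' : fE φ q c' = 0 := by
      rw [hc', map_sub, fE_d, fE_iL, hk'', sub_self]
    have hc'Z : c' ∈ Zc (mappingCocone φ) q r := by
      rw [mem_Zc, hc', map_sub, (mem_Zc c.1).1 c.2, zero_sub, neg_eq_zero]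
      exact congrArg (fun t => t.hom (iL φ p k')) ((mappingCocone φ).d_comp_d p q r)
    have hl : sE φ q p (by lia) c' ∈ Zc L p q := by
      have h2 := ((mem_Zc_iff φ p q r hpq hqr c').1 hc'Z).2
      rw [hfc', map_zero] at h2
      rw [mem_Zc]
      exact neg_eq_zero.1 h2.symm
    refine ⟨⟨_, hl⟩, ?_⟩
    rw [cls_eq_iff _ p q r hpq hqr]
    refine ⟨iL φ p k', ?_⟩
    show _ = c.1 - iR φ p q hpq (sE φ q p (by lia) c')
    have h3 := iL_fE_add_iR_sE φ q p (by lia) c'
    rw [hfc', map_zero, zero_add] at h3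
    rw [h3, hc']
    abel
  · rintro ⟨l, rfl⟩
    rw [homologyMap_cls]
    rw [cls_eq_zero_iff K p q r hpq hqr]
    refine ⟨0, ?_⟩
    rw [map_zero]
    exact (fE_iR φ p q hpq l.1).symm

/-- exactness at `H^{q-1}(L)` of `H^{q-1}(K) → H^{q-1}(L) → H^q(C)` -/
lemma cls_iR_eq_zero_iff (o p q r : ℤ) (hop : o + 1 = p) (hpq : p + 1 = q) (hqr : q + 1 = r)
    (l : Zc L p q) :
    cls _ q r hqr ⟨iR φ p q hpq l.1, iR_mem_Zc φ p q r hpq hqr l⟩ = 0 ↔
      ∃ y : K.homology p, (homologyMap φ p).hom y = cls L p q hpq l := by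
  rw [cls_eq_zero_iff _ p q r hpq hqr]
  constructor
  · rintro ⟨c'', hc''⟩
    have hc3 : ((mappingCocone φ).d p q).hom c'' = iR φ p q hpq l.1 := hc''
    have hk : fE φ p c'' ∈ Zc K p q := by
      rw [mem_Zc, ← fE_d, hc3, fE_iR]
    refine ⟨cls K p q hpq ⟨-fE φ p c'', Submodule.neg_mem _ hk⟩, ?_⟩
    rw [homologyMap_cls, cls_eq_iff L o p q hop hpq]
    refine ⟨sE φ p o (by lia) c'', ?_⟩
    have h1 := sE_d φ p q o hpq (by lia) c''
    rw [hc3, sE_iR] at h1
    show _ = (φ.f p).hom (-fE φ p c'') - l.1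
    rw [h1, map_neg]
    abel
  · rintro ⟨y, hy⟩
    obtain ⟨k, rfl⟩ := cls_surjective K p q hpq y
    rw [homologyMap_cls, cls_eq_iff L o p q hop hpq] at hy
    obtain ⟨l'', hl''⟩ := hy
    have hl3 : (L.d o p).hom l'' = (φ.f p).hom k.1 - l.1 := hl''
    refine ⟨iL φ p (-k.1) + iR φ o p hop l'', ?_⟩
    show _ = iR φ p q hpq l.1
    apply ext_elem φ q p (by lia)
    · rw [fE_d, map_add, fE_iL, fE_iR, add_zero, map_neg, (mem_Zc k.1).1 k.2, neg_zero, fE_iR]
    · rw [sE_d φ p q o hpq (by lia)]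
      simp only [map_add, fE_iL, fE_iR, sE_iL, sE_iR, add_zero, zero_add, map_neg, hl3, map_zero]
      abel

end Groth.Agent.Lib.helper2.Cocone
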