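import Mathlib
import Groth.Prelude.Def_DerCA
import Groth.Agent.Lib.Helper2.ExtCech2
import Groth.Agent.Lib.Helper8.ExtCechContr

/-!
# helper2: extended Čech complex — torsion of the cohomology
-/

set_option autoImplicit false
universe u

open CategoryTheory CategoryTheory.Limits HomologicalComplex CochainComplex HomComplex

namespace Groth.Agent.Lib.helper2.ExtCech

open DerCA Groth.Agent.Lib.helper2.CxH Groth.Agent.Lib.helper2.Cocone

variable {R : Type u} [CommRing R]

section Loc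

variable (S : Submonoid R) (K : DRing.Cx R)

/-- elements of the localized complex -/
def lmk (p : ℤ) (z : K.X p) (s : S) : ((locCx S).obj K).X p :=
  (LocalizedModule.mk z s : LocalizedModule S (K.X p))

lemma exists_lmk (p : ℤ) (l : ((locCx S).obj K).X p) : ∃ (z : K.X p) (s : S), l = lmk S K p z s := by
  have : ∀ l' : LocalizedModule S (K.X p), ∃ (z : K.X p) (s : S),
      l' = (LocalizedModule.mk z s : LocalizedModule S (K.X p)) := by
    intro l'
    induction l' using LocalizedModule.induction_on with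
    | h z s => exact ⟨z, s, rfl⟩
  exact this l

lemma loc_d_lmk (p q : ℤ) (z : K.X p) (s : S) :
    (((locCx S).obj K).d p q).hom (lmk S K p z s) = lmk S K q ((K.d p q).hom z) s := by
  show (IsLocalizedModule.map S (LocalizedModule.mkLinearMap S (K.X p))
    (LocalizedModule.mkLinearMap S (K.X q)) (K.d p q).hom) (LocalizedModule.mk z s) =
      (LocalizedModule.mk ((K.d p q).hom z) s : LocalizedModule S (K.X q))
  rw [IsLocalizedModule.mk_eq_mk', IsLocalizedModule.map_mk', ← IsLocalizedModule.mk_eq_mk']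

lemma locCxUnit_apply (p : ℤ) (z : K.X p) :
    ((locCxUnit S K).f p).hom z = lmk S K p z 1 := rfl

lemma smul_lmk (p : ℤ) (r : R) (z : K.X p) (s : S) :
    r • lmk S K p z s = lmk S K p (r • z) s :=
  LocalizedModule.smul'_mk r z s

lemma lmk_neg (p : ℤ) (z : K.X p) (s : S) : lmk S K p (-z) s = -lmk S K p z s :=
  LocalizedModule.mk_neg

lemma lmk_eq_iff (p : ℤ) (z z' : K.X p) (s s' : S) :
    lmk S K p z s = lmk S K p z' s' ↔ ∃ u : S, u • s' • z = u • s • z' :=
  LocalizedModule.mk_eq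

lemma lmk_eq_zero_iff (p : ℤ) (z : K.X p) (s : S) :
    lmk S K p z s = 0 ↔ ∃ t : S, t • z = 0 := by
  have h0 : (0 : ((locCx S).obj K).X p) = lmk S K p 0 s := (LocalizedModule.zero_mk s).symm
  rw [h0, lmk_eq_iff]
  constructor
  · rintro ⟨t, ht⟩
    rw [smul_zero, smul_zero] at ht
    exact ⟨t * s, by rw [mul_smul]; exact ht⟩
  · rintro ⟨t, ht⟩
    exact ⟨t, by rw [smul_zero, smul_zero, smul_comm, ht, smul_zero]⟩

lemma lmk_cancel (p : ℤ) (z : K.X p) (s t : S) :
    lmk S K p (t • z) (t * s) = lmk S K p z s :=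
  LocalizedModule.mk_cancel_common_left t s z

lemma smul_lmk_self (p : ℤ) (z : K.X p) (s : S) :
    (s : R) • lmk S K p z s = lmk S K p z 1 := by
  rw [smul_lmk]
  exact LocalizedModule.mk_cancel s z

/-- cocycles of the localized complex come from cocycles -/
lemma loc_cocycle (p q : ℤ)
    (l : ((locCx S).obj K).X p) (hl : (((locCx S).obj K).d p q).hom l = 0) :
    ∃ (z : K.X p) (s : S), (K.d p q).hom z = 0 ∧ l = lmk S K p z s := by
  obtain ⟨z₀, s₀, rfl⟩ := exists_lmk S K p l
  rw [loc_d_lmk, lmk_eq_zero_iff] at hl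
  obtain ⟨t, ht⟩ := hl
  refine ⟨t • z₀, t * s₀, ?_, (lmk_cancel S K p z₀ s₀ t).symm⟩
  rw [Submonoid.smul_def, map_smul, ← Submonoid.smul_def]
  exact ht

end Loc

/-- `g`-power torsion of the cohomology, in cocycle form -/
def Kills (g : R) (K : DRing.Cx R) : Prop :=
  ∀ (p q r : ℤ) (_ : p + 1 = q) (_ : q + 1 = r) (z : K.X q), (K.d q r).hom z = 0 →
    ∃ (n : ℕ) (y : K.X p), (K.d p q).hom y = g ^ n • z

lemma Kills.homology {g : R} {K : DRing.Cx R} (h : Kills g K) (q : ℤ) (x : K.homology q) :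
    ∃ n : ℕ, g ^ n • x = 0 := by
  obtain ⟨z, rfl⟩ := cls_surjective K q (q + 1) rfl x
  obtain ⟨n, y, hy⟩ := h (q - 1) q (q + 1) (by ring) rfl z.1 ((mem_Zc z.1).1 z.2)
  refine ⟨n, ?_⟩
  rw [← map_smul, cls_eq_zero_iff K (q - 1) q (q + 1) (by ring) rfl]
  exact ⟨y, hy⟩

section Cocone

variable {K L : DRing.Cx R} (φ : K ⟶ L)

/-- a cocycle of the cocone with zero first component is `iR` of a cocycle -/
lemma eq_iR_of_fE_eq_zero (p q r : ℤ) (hpq : p + 1 = q) (hqr : q + 1 = r)
    (c : (mappingCocone φ).X q) (hc : ((mappingCocone φ).d q r).hom c = 0)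
    (hf : fE φ q c = 0) :
    (L.d p q).hom (sE φ q p (by lia) c) = 0 ∧ c = iR φ p q hpq (sE φ q p (by lia) c) := by
  constructor
  · have h2 := ((mem_Zc_iff φ p q r hpq hqr c).1 ((mem_Zc c).2 hc)).2
    rw [hf, map_zero] at h2
    exact neg_eq_zero.1 h2.symm
  · have h3 := iL_fE_add_iR_sE φ q p (by lia) c
    rw [hf, map_zero, zero_add] at h3
    exact h3.symm

end Cocone

section Steps

variable (K : DRing.Cx R) (f : R)

local notation "φf" => locCxUnit (Submonoid.powers f) K
local notation "Sf" => Submonoid.powers f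

/-- Step A: torsion is inherited by the cocone of the localization map -/
lemma Kills.cocone {g : R} (h : Kills g K) :
    Kills g (mappingCocone (locCxUnit (Submonoid.powers f) K)) := by
  intro p q r hpq hqr c hc
  have hcZ : c ∈ Zc (mappingCocone φf) q r := (mem_Zc c).2 hc
  have hk : (K.d q r).hom (fE φf q c) = 0 := ((mem_Zc_iff φf p q r hpq hqr c).1 hcZ).1
  obtain ⟨n, k', hk'⟩ := h p q r hpq hqr _ hk
  -- c₁ = g^n c - d (iL k')
  obtain ⟨c₁, hc₁⟩ : ∃ c₁, c₁ = g ^ n • c - ((mappingCocone φf).d p q).hom (iL φf p k') :=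
    ⟨_, rfl⟩
  have hc₁d : ((mappingCocone φf).d q r).hom c₁ = 0 := by
    rw [hc₁, map_sub, map_smul, hc, smul_zero, zero_sub, neg_eq_zero]
    exact congrArg (fun t => t.hom (iL φf p k')) ((mappingCocone φf).d_comp_d p q r)
  have hc₁f : fE φf q c₁ = 0 := by
    rw [hc₁, map_sub, map_smul, fE_d, fE_iL, hk', sub_self]
  obtain ⟨hl, hc₁eq⟩ := eq_iR_of_fE_eq_zero φf p q r hpq hqr c₁ hc₁d hc₁f
  obtain ⟨z, s, hz, hzs⟩ := loc_cocycle Sf K p q _ hl
  obtain ⟨n', w, hw⟩ := h (p - 1) p q (by ring) hpq z hz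
  refine ⟨n' + n, g ^ n' • iL φf p k' - iR φf (p - 1) p (by ring) (lmk Sf K (p - 1) w s), ?_⟩
  rw [map_sub, map_smul, d_iR φf (p - 1) p q (by ring) hpq, loc_d_lmk, hw, sub_neg_eq_add,
    ← smul_lmk, ← hzs, map_smul, ← hc₁eq, ← smul_add, hc₁, add_sub_cancel, pow_add, mul_smul]

/-- Step B: `f` itself kills the cohomology of the cocone of the localization map at `f` -/
lemma Kills.cocone_self :
    Kills f (mappingCocone (locCxUnit (Submonoid.powers f) K)) := by
  intro p q r hpq hqr c hc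
  have hcZ : c ∈ Zc (mappingCocone φf) q r := (mem_Zc c).2 hc
  obtain ⟨hk, hkl⟩ := (mem_Zc_iff φf p q r hpq hqr c).1 hcZ
  obtain ⟨z, s, hzs⟩ := exists_lmk Sf K p (sE φf q p (by lia) c)
  rw [hzs, loc_d_lmk, locCxUnit_apply, ← lmk_neg, lmk_eq_iff] at hkl
  obtain ⟨u, hu⟩ := hkl
  rw [one_smul] at hu
  -- (u s) k = d (-u z)
  have hu' : (K.d p q).hom (-(u • z)) = ((u * s : Sf) : R) • fE φf q c := by
    rw [map_neg, Submonoid.smul_def, map_smul, ← Submonoid.smul_def, ← smul_neg, ← hu,
      ← Submonoid.smul_def, mul_smul]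
  obtain ⟨c₁, hc₁⟩ : ∃ c₁, c₁ = ((u * s : Sf) : R) • c -
      ((mappingCocone φf).d p q).hom (iL φf p (-(u • z))) := ⟨_, rfl⟩
  have hc₁d : ((mappingCocone φf).d q r).hom c₁ = 0 := by
    rw [hc₁, map_sub, map_smul, hc, smul_zero, zero_sub, neg_eq_zero]
    exact congrArg (fun t => t.hom (iL φf p (-(u • z)))) ((mappingCocone φf).d_comp_d p q r)
  have hc₁f : fE φf q c₁ = 0 := by
    rw [hc₁, map_sub, map_smul, fE_d, fE_iL, hu', sub_self]
  obtain ⟨hl, hc₁eq⟩ := eq_iR_of_fE_eq_zero φf p q r hpq hqr c₁ hc₁d hc₁f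
  obtain ⟨z₁, s₁, hz₁, hzs₁⟩ := loc_cocycle Sf K p q _ hl
  obtain ⟨N, hN⟩ : ∃ N : ℕ, f ^ N = ((s₁ * (u * s) : Sf) : R) := (s₁ * (u * s)).2
  refine ⟨N, iL φf p (-z₁) + (s₁ : R) • iL φf p (-(u • z)), ?_⟩
  have h7 : ((mappingCocone φf).d p q).hom (iL φf p (-z₁)) = (s₁ : R) • c₁ := by
    rw [d_iL φf (p - 1) p q (by ring) hpq, map_neg, hz₁, neg_zero, map_zero, zero_sub,
      map_neg, map_neg, neg_neg, locCxUnit_apply, ← smul_lmk_self Sf K p z₁ s₁, ← hzs₁, map_smul,
      ← hc₁eq]
  rw [map_add, h7, map_smul, ← smul_add, hc₁, sub_add_cancel, hN]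
  simp only [Submonoid.coe_mul, mul_smul]

end Steps

/-- every element of the list kills (a power of) the cohomology of the extended Čech complex -/
theorem kills_extCech (M : ModuleCat.{u} R) :
    ∀ (fs : List R) (g : R), g ∈ fs → Kills g (extCech M fs) := by
  intro fs
  induction fs with
  | nil => intro g hg; simp at hg
  | cons f fs ih =>
    intro g hg
    by_cases hgf : g = f
    · subst hgf
      exact Kills.cocone_self (extCech M fs) g
    · have hmem : g ∈ fs := by
        rcases List.mem_cons.mp hg with h | h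
        · exact absurd h hgf
        · exact h
      exact Kills.cocone (extCech M fs) f (ih g hmem)

lemma exists_uniform_pow {N : Type*} [AddCommGroup N] [Module R N] (x : N) :
    ∀ l : List R, (∀ g ∈ l, ∃ n : ℕ, g ^ n • x = 0) →
      ∃ n : ℕ, 1 ≤ n ∧ ∀ g ∈ l, g ^ n • x = 0 := by
  intro l
  induction l with
  | nil => intro _; exact ⟨1, le_refl 1, fun g hg => by simp at hg⟩
  | cons a l ih =>
    intro h
    obtain ⟨n, hn1, hn⟩ := ih (fun g hg => h g (List.mem_cons_of_mem a hg))
    obtain ⟨m, hm⟩ := h a List.mem_cons_self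
    refine ⟨n + m, le_trans hn1 (Nat.le_add_right n m), ?_⟩
    intro g hg
    rcases List.mem_cons.mp hg with rfl | hg'
    · rw [pow_add, mul_smul, hm, smul_zero]
    · rw [pow_add, mul_comm, mul_smul, hn g hg', smul_zero]

/-- S9265 -/
theorem extCechH_pow_smul_eq_zero (fs : List R) (M : ModuleCat.{u} R) (q : ℤ)
    (x : extCechH fs M q) : ∃ n : ℕ, 1 ≤ n ∧ ∀ f ∈ fs, (f ^ n) • x = 0 :=
  exists_uniform_pow x fs (fun g hg => (kills_extCech M fs g hg).homology q x)

/-- if `f` acts bijectively on all terms then it acts bijectively on the homology -/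
lemma smul_homology_injective (K : DRing.Cx R) (f : R)
    (hK : ∀ q : ℤ, Function.Bijective (fun m : K.X q => f • m)) (q : ℤ)
    (x : K.homology q) (hx : f • x = 0) : x = 0 := by
  obtain ⟨z, rfl⟩ := cls_surjective K q (q + 1) rfl x
  rw [← map_smul, cls_eq_zero_iff K (q - 1) q (q + 1) (by ring) rfl] at hx
  obtain ⟨y, hy⟩ := hx
  obtain ⟨y', rfl⟩ := (hK (q - 1)).2 y
  rw [cls_eq_zero_iff K (q - 1) q (q + 1) (by ring) rfl]
  refine ⟨y', (hK q).1 ?_⟩
  show f • (K.d (q - 1) q).hom y' = f • z.1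
  rw [← map_smul]
  exact hy

/-- S9266 -/
theorem extCechH_isZero_of_bijective (fs : List R) (M : ModuleCat.{u} R) (f : R)
    (hf : f ∈ Ideal.span {a : R | a ∈ fs})
    (hbij : Function.Bijective (fun m : M => f • m)) (q : ℤ) :
    IsZero (extCechH fs M q) := by
  have hK : ∀ q : ℤ, Function.Bijective (fun m : (extCech M fs).X q => f • m) :=
    fun q => Groth.Agent.Lib.Helper8.ExtCechContr.SB_extCech hbij fs q
  haveI : Subsingleton (extCechH fs M q) := by
    refine ⟨fun a b => ?_⟩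
    have hz : ∀ x : extCechH fs M q, x = 0 := by
      intro x
      obtain ⟨n, -, hn⟩ := extCechH_pow_smul_eq_zero fs M q x
      -- the annihilator of `x` contains all `g^n`
      have hle : Ideal.span {a : R | a ∈ fs} ≤
          (Submodule.colon (⊥ : Submodule R (extCechH fs M q)) {x}).radical := by
        rw [Ideal.span_le]
        intro g hg
        refine ⟨n, ?_⟩
        rw [Submodule.mem_colon_singleton]
        exact (Submodule.mem_bot R).2 (hn g hg)
      obtain ⟨N, hN⟩ := hle hf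
      rw [Submodule.mem_colon_singleton, Submodule.mem_bot] at hN
      clear hn
      induction N with
      | zero => simpa using hN
      | succ N ih =>
        apply ih
        apply smul_homology_injective (extCech M fs) f hK q
        rw [smul_smul, ← pow_succ']
        exact hN
    rw [hz a, hz b]
  exact ModuleCat.isZero_of_subsingleton _

end Groth.Agent.Lib.helper2.ExtCech
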