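import Mathlib
import Groth.Prelude.Def_DerCA
import Groth.Prelude.Def_DRing3
import Groth.Agent.Lib.Helper2.ExtCech3
import Groth.Agent.Lib.Helper19.LCRes

/-!
# helper2: extended Čech complex — functoriality and degree zero
-/

set_option autoImplicit false
universe u

open CategoryTheory CategoryTheory.Limits HomologicalComplex CochainComplex HomComplex

namespace Groth.Agent.Lib.helper2.ExtCech

open DerCA Groth.Agent.Lib.helper2.CxH Groth.Agent.Lib.helper2.Cocone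

variable {R : Type u} [CommRing R]

section CoconeMap

variable {K₁ L₁ K₂ L₂ : DRing.Cx R} (φ₁ : K₁ ⟶ L₁) (φ₂ : K₂ ⟶ L₂) (a : K₁ ⟶ K₂) (b : L₁ ⟶ L₂)

/-- the map on degree-`p` terms -/
noncomputable def coconeMapX (p : ℤ) : (mappingCocone φ₁).X p →ₗ[R] (mappingCocone φ₂).X p :=
  iL φ₂ p ∘ₗ (a.f p).hom ∘ₗ fE φ₁ p +
    iR φ₂ (p - 1) p (by ring) ∘ₗ (b.f (p - 1)).hom ∘ₗ sE φ₁ p (p - 1) (by ring)

lemma fE_coconeMapX (p : ℤ) (c : (mappingCocone φ₁).X p) :
    fE φ₂ p (coconeMapX φ₁ φ₂ a b p c) = (a.f p).hom (fE φ₁ p c) := by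
  simp [coconeMapX]

lemma sE_coconeMapX (p q : ℤ) (h : p + -1 = q) (c : (mappingCocone φ₁).X p) :
    sE φ₂ p q h (coconeMapX φ₁ φ₂ a b p c) = (b.f q).hom (sE φ₁ p q h c) := by
  obtain rfl : q = p - 1 := by lia
  simp [coconeMapX]

lemma coconeMapX_d (comm : φ₁ ≫ b = a ≫ φ₂) (p q : ℤ) (hpq : p + 1 = q)
    (c : (mappingCocone φ₁).X p) :
    ((mappingCocone φ₂).d p q).hom (coconeMapX φ₁ φ₂ a b p c) =
      coconeMapX φ₁ φ₂ a b q (((mappingCocone φ₁).d p q).hom c) := by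
  apply ext_elem φ₂ q p (by lia)
  · rw [fE_d, fE_coconeMapX, fE_coconeMapX, fE_d]
    exact (congrArg (fun t => t.hom (fE φ₁ p c)) (a.comm p q))
  · rw [sE_d φ₂ p q (p - 1) hpq (by ring), sE_coconeMapX, fE_coconeMapX, sE_coconeMapX,
      sE_d φ₁ p q (p - 1) hpq (by ring), map_sub, map_neg]
    have h1 : (b.f p).hom ((φ₁.f p).hom (fE φ₁ p c)) = (φ₂.f p).hom ((a.f p).hom (fE φ₁ p c)) :=
      congrArg (fun t => (t.f p).hom (fE φ₁ p c)) comm
    have h2 : (b.f p).hom ((L₁.d (p - 1) p).hom (sE φ₁ p (p - 1) (by ring) c)) =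
        (L₂.d (p - 1) p).hom ((b.f (p - 1)).hom (sE φ₁ p (p - 1) (by ring) c)) :=
      (congrArg (fun t => t.hom (sE φ₁ p (p - 1) (by ring) c)) (b.comm (p - 1) p)).symm
    rw [h1, h2]

/-- the induced map of mapping cocones -/
noncomputable def coconeMap (comm : φ₁ ≫ b = a ≫ φ₂) : mappingCocone φ₁ ⟶ mappingCocone φ₂ where
  f p := ModuleCat.ofHom (coconeMapX φ₁ φ₂ a b p)
  comm' p q hpq := by
    ext c
    exact (coconeMapX_d φ₁ φ₂ a b comm p q hpq c)

lemma fE_coconeMap (comm : φ₁ ≫ b = a ≫ φ₂) (p : ℤ) (c : (mappingCocone φ₁).X p) :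
    fE φ₂ p (((coconeMap φ₁ φ₂ a b comm).f p).hom c) = (a.f p).hom (fE φ₁ p c) :=
  fE_coconeMapX φ₁ φ₂ a b p c

lemma sE_coconeMap (comm : φ₁ ≫ b = a ≫ φ₂) (p q : ℤ) (h : p + -1 = q)
    (c : (mappingCocone φ₁).X p) :
    sE φ₂ p q h (((coconeMap φ₁ φ₂ a b comm).f p).hom c) = (b.f q).hom (sE φ₁ p q h c) :=
  sE_coconeMapX φ₁ φ₂ a b p q h c

end CoconeMap

section CoconeMapComp

variable {K₁ L₁ K₂ L₂ K₃ L₃ : DRing.Cx R} (φ₁ : K₁ ⟶ L₁) (φ₂ : K₂ ⟶ L₂) (φ₃ : K₃ ⟶ L₃)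
  (a : K₁ ⟶ K₂) (b : L₁ ⟶ L₂) (comm : φ₁ ≫ b = a ≫ φ₂)
  (a' : K₂ ⟶ K₃) (b' : L₂ ⟶ L₃) (comm' : φ₂ ≫ b' = a' ≫ φ₃)

lemma coconeMap_comp :
    coconeMap φ₁ φ₂ a b comm ≫ coconeMap φ₂ φ₃ a' b' comm' =
      coconeMap φ₁ φ₃ (a ≫ a') (b ≫ b') (by rw [← Category.assoc, comm, Category.assoc, comm',
        Category.assoc]) := by
  ext p c
  apply ext_elem φ₃ p (p - 1) (by ring)
  · show fE φ₃ p (((coconeMap φ₂ φ₃ a' b' comm').f p).hom
      (((coconeMap φ₁ φ₂ a b comm).f p).hom c)) = _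
    rw [fE_coconeMap, fE_coconeMap, fE_coconeMap]
    rfl
  · show sE φ₃ p (p - 1) _ (((coconeMap φ₂ φ₃ a' b' comm').f p).hom
      (((coconeMap φ₁ φ₂ a b comm).f p).hom c)) = _
    rw [sE_coconeMap, sE_coconeMap, sE_coconeMap]
    rfl

lemma coconeMap_zero :
    coconeMap φ₁ φ₂ (0 : K₁ ⟶ K₂) (0 : L₁ ⟶ L₂) (by simp) = 0 := by
  ext p c
  apply ext_elem φ₂ p (p - 1) (by ring)
  · rw [fE_coconeMap]
    simp
  · rw [sE_coconeMap]
    simp

end CoconeMapComp

section LocMap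

variable (S : Submonoid R) {K K' : DRing.Cx R} (a : K ⟶ K')

lemma locCx_map_lmk (p : ℤ) (z : K.X p) (s : S) :
    (((locCx S).map a).f p).hom (lmk S K p z s) = lmk S K' p ((a.f p).hom z) s := by
  show (IsLocalizedModule.map S (LocalizedModule.mkLinearMap S (K.X p))
    (LocalizedModule.mkLinearMap S (K'.X p)) (a.f p).hom) (LocalizedModule.mk z s) =
      (LocalizedModule.mk ((a.f p).hom z) s : LocalizedModule S (K'.X p))
  rw [IsLocalizedModule.mk_eq_mk', IsLocalizedModule.map_mk', ← IsLocalizedModule.mk_eq_mk']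

lemma locCxUnit_naturality :
    locCxUnit S K ≫ (locCx S).map a = a ≫ locCxUnit S K' := by
  ext p z
  show (((locCx S).map a).f p).hom (((locCxUnit S K).f p).hom z) =
    ((locCxUnit S K').f p).hom ((a.f p).hom z)
  rw [locCxUnit_apply, locCxUnit_apply, locCx_map_lmk]

end LocMap

/-- functoriality of the extended Čech complex in the module -/
noncomputable def extCechMap {M N : ModuleCat.{u} R} (g : M ⟶ N) :
    ∀ fs : List R, extCech M fs ⟶ extCech N fs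
  | [] => (HomologicalComplex.single (ModuleCat.{u} R) (ComplexShape.up ℤ) 0).map g
  | f :: fs => coconeMap (locCxUnit (Submonoid.powers f) (extCech M fs))
      (locCxUnit (Submonoid.powers f) (extCech N fs)) (extCechMap g fs)
      ((locCx (Submonoid.powers f)).map (extCechMap g fs))
      (locCxUnit_naturality _ _)

lemma extCechMap_comp {M N P : ModuleCat.{u} R} (g : M ⟶ N) (g' : N ⟶ P) :
    ∀ fs : List R, extCechMap (g ≫ g') fs = extCechMap g fs ≫ extCechMap g' fs := by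
  intro fs
  induction fs with
  | nil => exact Functor.map_comp _ _ _
  | cons f fs ih =>
    show coconeMap _ _ _ _ _ = coconeMap _ _ _ _ _ ≫ coconeMap _ _ _ _ _
    rw [coconeMap_comp]
    congr 1
    · rw [ih, Functor.map_comp]

lemma extCechMap_zero {M N : ModuleCat.{u} R} :
    ∀ fs : List R, extCechMap (0 : M ⟶ N) fs = 0 := by
  intro fs
  induction fs with
  | nil => exact Functor.map_zero _ _ _
  | cons f fs ih =>
    show coconeMap _ _ _ _ _ = 0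
    rw [← coconeMap_zero]
    congr 1
    · rw [ih, Functor.map_zero]

end Groth.Agent.Lib.helper2.ExtCech
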