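import Mathlib
import Groth.Agent.Lib.Helper2.ExtCech4

/-!
# helper2: extended Čech complex — degree zero
-/

set_option autoImplicit false
universe u

open CategoryTheory CategoryTheory.Limits HomologicalComplex CochainComplex HomComplex

namespace Groth.Agent.Lib.helper2.ExtCech

open DerCA Groth.Agent.Lib.helper2.CxH Groth.Agent.Lib.helper2.Cocone

variable {R : Type u} [CommRing R]

/-- an identification of the degree-zero term with `M`, with vanishing negative terms -/
structure Aug (K : DRing.Cx R) (M : ModuleCat.{u} R) where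
  e : K.X 0 ≃ₗ[R] M
  neg : ∀ q : ℤ, q < 0 → Subsingleton (K.X q)

/-- the augmentation of `M[0]` -/
noncomputable def augNil (M : ModuleCat.{u} R) : Aug (extCech M []) M where
  e := (HomologicalComplex.singleObjXSelf (ComplexShape.up ℤ) 0 M).toLinearEquiv
  neg q hq := ModuleCat.subsingleton_of_isZero
    (HomologicalComplex.isZero_single_obj_X (ComplexShape.up ℤ) 0 M q (by lia))

lemma subsingleton_loc (S : Submonoid R) (K : DRing.Cx R) (q : ℤ) (h : Subsingleton (K.X q)) :
    Subsingleton (((locCx S).obj K).X q) := by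
  refine ⟨fun a b => ?_⟩
  obtain ⟨z, s, rfl⟩ := exists_lmk S K q a
  obtain ⟨z', s', rfl⟩ := exists_lmk S K q b
  rw [lmk_eq_iff]
  exact ⟨1, Subsingleton.elim _ _⟩

section Step

variable {K : DRing.Cx R} {M : ModuleCat.{u} R}

lemma fE_zero_bijective (A : Aug K M) (f : R) :
    Function.Bijective (fE (locCxUnit (Submonoid.powers f) K) 0) := by
  haveI := subsingleton_loc (Submonoid.powers f) K (-1) (A.neg (-1) (by lia))
  constructor
  · intro c c' h
    exact ext_elem (locCxUnit (Submonoid.powers f) K) 0 (-1) (by lia) h (Subsingleton.elim _ _)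
  · intro k
    exact ⟨iL (locCxUnit (Submonoid.powers f) K) 0 k, fE_iL _ 0 k⟩

/-- the augmentation of the cocone -/
noncomputable def Aug.cocone (A : Aug K M) (f : R) :
    Aug (mappingCocone (locCxUnit (Submonoid.powers f) K)) M where
  e := (LinearEquiv.ofBijective (fE (locCxUnit (Submonoid.powers f) K) 0)
    (fE_zero_bijective A f)) ≪≫ₗ A.e
  neg q hq := by
    haveI := A.neg q hq
    haveI := subsingleton_loc (Submonoid.powers f) K (q - 1) (A.neg (q - 1) (by lia))
    refine ⟨fun c c' => ?_⟩
    exact ext_elem (locCxUnit (Submonoid.powers f) K) q (q - 1) (by ring)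
      (Subsingleton.elim _ _) (Subsingleton.elim _ _)

lemma Aug.cocone_e (A : Aug K M) (f : R)
    (c : (mappingCocone (locCxUnit (Submonoid.powers f) K)).X 0) :
    (A.cocone f).e c = A.e (fE (locCxUnit (Submonoid.powers f) K) 0 c) := rfl

lemma Aug.cocone_natural {K' : DRing.Cx R} {N : ModuleCat.{u} R} (A : Aug K M) (A' : Aug K' N)
    (a : K ⟶ K') (g : M ⟶ N) (h : ∀ x : K.X 0, A'.e ((a.f 0).hom x) = g.hom (A.e x)) (f : R)
    (c : (mappingCocone (locCxUnit (Submonoid.powers f) K)).X 0) :
    (A'.cocone f).e (((coconeMap (locCxUnit (Submonoid.powers f) K)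
      (locCxUnit (Submonoid.powers f) K') a ((locCx (Submonoid.powers f)).map a)
      (locCxUnit_naturality _ _)).f 0).hom c) = g.hom ((A.cocone f).e c) := by
  rw [Aug.cocone_e, Aug.cocone_e, fE_coconeMap, h]

lemma Aug.cocone_d_zero (A : Aug K M) (a : Ideal R)
    (h : ∀ x : K.X 0, (K.d 0 1).hom x = 0 ↔ A.e x ∈ DRing.torsionSub a M) (f : R)
    (c : (mappingCocone (locCxUnit (Submonoid.powers f) K)).X 0) :
    ((mappingCocone (locCxUnit (Submonoid.powers f) K)).d 0 1).hom c = 0 ↔
      (A.cocone f).e c ∈ DRing.torsionSub (a ⊔ Ideal.span {f}) M := by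
  rw [Groth.Agent.Lib.helper19.LCRes.mem_torsionSub_sup_span_iff]
  haveI := subsingleton_loc (Submonoid.powers f) K (-1) (A.neg (-1) (by lia))
  have h1 := mem_Zc_iff (locCxUnit (Submonoid.powers f) K) (-1) 0 1 (by lia) (by lia) c
  rw [mem_Zc] at h1
  rw [h1, h (fE _ 0 c)]
  have h2 : sE (locCxUnit (Submonoid.powers f) K) 0 (-1) (by lia) c = 0 :=
    Subsingleton.elim _ _
  rw [h2, map_zero, neg_zero, locCxUnit_apply, lmk_eq_zero_iff, Aug.cocone_e]
  refine and_congr Iff.rfl ?_
  constructor
  · rintro ⟨⟨t, k, rfl⟩, ht⟩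
    refine ⟨k, ?_⟩
    rw [← map_smul]
    have ht' : f ^ k • fE (locCxUnit (Submonoid.powers f) K) 0 c = 0 := ht
    rw [ht', map_zero]
  · rintro ⟨k, hk⟩
    refine ⟨⟨f ^ k, k, rfl⟩, ?_⟩
    rw [← map_smul] at hk
    exact A.e.injective (hk.trans (map_zero _).symm)

end Step

/-- the canonical augmentation of the extended Čech complex -/
noncomputable def aug (M : ModuleCat.{u} R) : ∀ fs : List R, Aug (extCech M fs) M
  | [] => augNil M
  | f :: fs => (aug M fs).cocone f

/-- naturality of the augmentation -/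
lemma aug_natural {M N : ModuleCat.{u} R} (g : M ⟶ N) :
    ∀ (fs : List R) (x : (extCech M fs).X 0),
      (aug N fs).e (((extCechMap g fs).f 0).hom x) = g.hom ((aug M fs).e x) := by
  intro fs
  induction fs with
  | nil =>
    intro x
    have h2 : ((HomologicalComplex.single (ModuleCat.{u} R) (ComplexShape.up ℤ) 0).map g).f 0 ≫
        (HomologicalComplex.singleObjXSelf (ComplexShape.up ℤ) 0 N).hom =
        (HomologicalComplex.singleObjXSelf (ComplexShape.up ℤ) 0 M).hom ≫ g := by
      simp [HomologicalComplex.single_map_f_self]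
    exact congrArg (fun t => t.hom x) h2
  | cons f fs ih =>
    intro x
    exact Aug.cocone_natural (aug M fs) (aug N fs) (extCechMap g fs) g ih f x

lemma span_cons (f : R) (fs : List R) :
    Ideal.span {a | a ∈ f :: fs} = Ideal.span {a | a ∈ fs} ⊔ Ideal.span {f} := by
  have : {a | a ∈ f :: fs} = {a | a ∈ fs} ∪ {f} := by
    ext a
    simp [or_comm]
  rw [this, Ideal.span_union]

/-- the degree-zero cocycles are the torsion elements -/
theorem d_zero_eq_zero_iff (M : ModuleCat.{u} R) :
    ∀ (fs : List R) (x : (extCech M fs).X 0),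
      ((extCech M fs).d 0 1).hom x = 0 ↔
        (aug M fs).e x ∈ DRing.torsionSub (Ideal.span {a | a ∈ fs}) M := by
  intro fs
  induction fs with
  | nil =>
    intro x
    constructor
    · intro _
      refine ⟨1, fun a ha => ?_⟩
      have : a = 0 := by simpa using ha
      rw [this, zero_smul]
    · intro _
      haveI : Subsingleton ((extCech M []).X 1) := ModuleCat.subsingleton_of_isZero
        (HomologicalComplex.isZero_single_obj_X (ComplexShape.up ℤ) 0 M 1 (by lia))
      exact Subsingleton.elim _ _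
  | cons f fs ih =>
    intro c
    rw [span_cons]
    exact Aug.cocone_d_zero (aug M fs) _ ih f c

/-- `H^0` of a complex with an augmentation is the module of degree-zero cocycles -/
noncomputable def Aug.h0Equiv {K : DRing.Cx R} {M : ModuleCat.{u} R} (A : Aug K M) :
    Zc K 0 1 ≃ₗ[R] K.homology 0 :=
  LinearEquiv.ofBijective (cls K 0 1 (by lia)) (by
    haveI := A.neg (-1) (by lia)
    constructor
    · rw [injective_iff_map_eq_zero]
      intro z hz
      rw [cls_eq_zero_iff K (-1) 0 1 (by lia) (by lia)] at hz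
      obtain ⟨y, hy⟩ := hz
      apply Subtype.ext
      rw [← hy, Subsingleton.elim y 0, map_zero]
      rfl
    · exact cls_surjective K 0 1 (by lia))

/-- S17776 -/
theorem extCechH_zero_iso (fs : List R) (M : ModuleCat.{u} R) :
    Nonempty (extCechH fs M 0 ≅ (DRing.gammaI (Ideal.span {x | x ∈ fs})).obj M) := by
  let e1 := (aug M fs).h0Equiv
  let e2 : Zc (extCech M fs) 0 1 ≃ₗ[R] DRing.torsionSub (Ideal.span {x | x ∈ fs}) M :=
    { toFun := fun z => ⟨(aug M fs).e z.1, (d_zero_eq_zero_iff M fs z.1).1 ((mem_Zc z.1).1 z.2)⟩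
      map_add' := fun z z' => Subtype.ext (map_add _ _ _)
      map_smul' := fun r z => Subtype.ext (map_smul _ _ _)
      invFun := fun m => ⟨(aug M fs).e.symm m.1, (mem_Zc _).2
        ((d_zero_eq_zero_iff M fs _).2 (by rw [LinearEquiv.apply_symm_apply]; exact m.2))⟩
      left_inv := fun z => Subtype.ext ((aug M fs).e.symm_apply_apply z.1)
      right_inv := fun m => Subtype.ext ((aug M fs).e.apply_symm_apply m.1) }
  exact ⟨(e1.symm ≪≫ₗ e2).toModuleIso⟩

end Groth.Agent.Lib.helper2.ExtCech
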