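import Mathlib
import Groth.Agent.Lib.Helper2.ExtCech5
import Groth.Agent.Lib.Helper19.LCZero

/-!
# helper2: extended Čech complex of an injective module over a Noetherian ring
-/

set_option autoImplicit false
universe u

open CategoryTheory CategoryTheory.Limits HomologicalComplex CochainComplex HomComplex

namespace Groth.Agent.Lib.helper2.ExtCech

open DerCA Groth.Agent.Lib.helper2.CxH Groth.Agent.Lib.helper2.Cocone

variable {R : Type u} [CommRing R]

/-- acyclicity in positive degrees, in cocycle form -/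
def PosAcyclic (K : DRing.Cx R) : Prop :=
  ∀ (p q r : ℤ) (_ : p + 1 = q) (_ : q + 1 = r), 1 ≤ q → ∀ z : K.X q, (K.d q r).hom z = 0 →
    ∃ y : K.X p, (K.d p q).hom y = z

lemma PosAcyclic.isZero {K : DRing.Cx R} (h : PosAcyclic K) (q : ℤ) (hq : 1 ≤ q) :
    IsZero (K.homology q) := by
  rw [isZero_homology_iff K (q - 1) q (q + 1) (by ring) rfl]
  exact h (q - 1) q (q + 1) (by ring) rfl hq

theorem PosAcyclic.cocone [IsNoetherianRing R] {K : DRing.Cx R} {E : ModuleCat.{u} R}
    (hE : Module.Injective R E) (A : Aug K E) (a : Ideal R)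
    (h0 : ∀ x : K.X 0, (K.d 0 1).hom x = 0 ↔ A.e x ∈ DRing.torsionSub a E)
    (hK : PosAcyclic K) (f : R) :
    PosAcyclic (mappingCocone (locCxUnit (Submonoid.powers f) K)) := by
  intro p q r hpq hqr hq c hc
  have hcZ : c ∈ Zc (mappingCocone (locCxUnit (Submonoid.powers f) K)) q r := (mem_Zc c).2 hc
  have hk : (K.d q r).hom (fE (locCxUnit (Submonoid.powers f) K) q c) = 0 :=
    ((mem_Zc_iff _ p q r hpq hqr c).1 hcZ).1
  obtain ⟨k', hk'⟩ := hK p q r hpq hqr hq _ hk
  obtain ⟨c₁, hc₁⟩ : ∃ c₁, c₁ = c - ((mappingCocone (locCxUnit (Submonoid.powers f) K)).d p q).hom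
    (iL (locCxUnit (Submonoid.powers f) K) p k') := ⟨_, rfl⟩
  have hc₁d : ((mappingCocone (locCxUnit (Submonoid.powers f) K)).d q r).hom c₁ = 0 := by
    rw [hc₁, map_sub, hc, zero_sub, neg_eq_zero]
    exact congrArg (fun t => t.hom (iL (locCxUnit (Submonoid.powers f) K) p k'))
      ((mappingCocone (locCxUnit (Submonoid.powers f) K)).d_comp_d p q r)
  have hc₁f : fE (locCxUnit (Submonoid.powers f) K) q c₁ = 0 := by
    rw [hc₁, map_sub, fE_d, fE_iL, hk', sub_self]
  obtain ⟨hl, hc₁eq⟩ := eq_iR_of_fE_eq_zero (locCxUnit (Submonoid.powers f) K) p q r hpq hqr c₁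
    hc₁d hc₁f
  obtain ⟨z, s, hz, hzs⟩ := loc_cocycle (Submonoid.powers f) K p q _ hl
  by_cases hp : 1 ≤ p
  · obtain ⟨w, hw⟩ := hK (p - 1) p q (by ring) hpq hp z hz
    refine ⟨iL (locCxUnit (Submonoid.powers f) K) p k' -
      iR (locCxUnit (Submonoid.powers f) K) (p - 1) p (by ring)
        (lmk (Submonoid.powers f) K (p - 1) w s), ?_⟩
    rw [map_sub, d_iR _ (p - 1) p q (by ring) hpq, loc_d_lmk, hw, ← hzs, ← hc₁eq, hc₁]
    abel
  · obtain rfl : p = 0 := by lia
    obtain rfl : q = 1 := by lia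
    -- `z` is a degree-zero cocycle, i.e. a torsion element of `E`
    have hzt : A.e z ∈ DRing.torsionSub a E := (h0 z).1 hz
    have hinj : Module.Injective R (DRing.torsionSub a E) :=
      Groth.Agent.Lib.helper19.LCZero.torsionSub_injective a E hE
    obtain ⟨⟨s, j, rfl⟩, rfl⟩ : ∃ s' : Submonoid.powers f, s' = s := ⟨s, rfl⟩
    obtain ⟨y₀, m, hy₀⟩ := Groth.Agent.Lib.helper19.LCRes.exists_div_of_injective _ hinj f j
      (⟨A.e z, hzt⟩ : DRing.torsionSub a E)
    have hy₀' : f ^ m • (f ^ j • (y₀ : E) - A.e z) = 0 := congrArg Subtype.val hy₀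
    obtain ⟨k₀, hk₀⟩ : ∃ k₀ : K.X 0, A.e k₀ = y₀.1 := ⟨A.e.symm y₀.1, A.e.apply_symm_apply _⟩
    have hk₀d : (K.d 0 1).hom k₀ = 0 := (h0 k₀).2 (by rw [hk₀]; exact y₀.2)
    have hlmk : lmk (Submonoid.powers f) K 0 z ⟨f ^ j, j, rfl⟩ =
        lmk (Submonoid.powers f) K 0 k₀ 1 := by
      rw [lmk_eq_iff]
      refine ⟨⟨f ^ m, m, rfl⟩, ?_⟩
      rw [one_smul]
      apply A.e.injective
      show A.e (f ^ m • z) = A.e (f ^ m • f ^ j • k₀)
      rw [map_smul, map_smul, map_smul, hk₀]
      have := hy₀'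
      rw [smul_sub, sub_eq_zero] at this
      exact this.symm
    refine ⟨iL (locCxUnit (Submonoid.powers f) K) 0 k' +
      iL (locCxUnit (Submonoid.powers f) K) 0 (-k₀), ?_⟩
    rw [map_add, d_iL _ (-1) 0 1 (by lia) (by lia) (-k₀), map_neg, hk₀d, neg_zero, map_zero,
      zero_sub, map_neg, map_neg, neg_neg, locCxUnit_apply, ← hlmk, ← hzs, ← hc₁eq, hc₁]
    abel

/-- S17778: vanishing of the positive Čech cohomology of an injective module -/
theorem posAcyclic_extCech [IsNoetherianRing R] (E : ModuleCat.{u} R) (hE : Module.Injective R E) :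
    ∀ fs : List R, PosAcyclic (extCech E fs) := by
  intro fs
  induction fs with
  | nil =>
    intro p q r hpq hqr hq z hz
    haveI : Subsingleton ((extCech E []).X q) := ModuleCat.subsingleton_of_isZero
      (HomologicalComplex.isZero_single_obj_X (ComplexShape.up ℤ) 0 E q (by lia))
    exact ⟨0, Subsingleton.elim _ _⟩
  | cons f fs ih =>
    exact PosAcyclic.cocone hE (aug E fs) _ (d_zero_eq_zero_iff E fs) ih f

theorem isZero_extCechH_pos_of_injective [IsNoetherianRing R] (fs : List R) (E : Type u)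
    [AddCommGroup E] [Module R E] [Module.Injective R E] (q : ℤ) (hq : 1 ≤ q) :
    IsZero (extCechH fs (ModuleCat.of R E) q) :=
  (posAcyclic_extCech (ModuleCat.of R E) (inferInstanceAs (Module.Injective R E)) fs).isZero q hq

end Groth.Agent.Lib.helper2.ExtCech
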