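import Mathlib
import Groth.Agent.Lib.Helper2.ExtCech6
import Groth.Agent.Lib.Helper19.LCLes2
import Groth.Agent.Lib.Helper19.LCAcyclic

/-!
# helper2: extended Čech cohomology is local cohomology (Noetherian case)
-/

set_option autoImplicit false
universe u

open CategoryTheory CategoryTheory.Limits HomologicalComplex CochainComplex HomComplex

namespace Groth.Agent.Lib.helper2.ExtCech

open DerCA Groth.Agent.Lib.helper2.CxH Groth.Agent.Lib.helper2.Cocone

variable {R : Type u} [CommRing R]

/-- degreewise short exactness, elementwise -/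
def DwSES {K' K K'' : DRing.Cx R} (a : K' ⟶ K) (b : K ⟶ K'') : Prop :=
  ∀ q : ℤ, Function.Injective (a.f q).hom ∧ Function.Surjective (b.f q).hom ∧
    Function.Exact (a.f q).hom (b.f q).hom

section Dw

variable {K' K K'' : DRing.Cx R} {a : K' ⟶ K} {b : K ⟶ K''}

lemma DwSES.loc (S : Submonoid R) (h : DwSES a b) :
    DwSES ((locCx S).map a) ((locCx S).map b) := by
  intro q
  obtain ⟨hi, hs, he⟩ := h q
  refine ⟨?_, ?_, ?_⟩
  · rw [injective_iff_map_eq_zero]
    intro l hl
    obtain ⟨z, s, rfl⟩ := exists_lmk S K' q l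
    rw [locCx_map_lmk, lmk_eq_zero_iff] at hl
    obtain ⟨t, ht⟩ := hl
    rw [lmk_eq_zero_iff]
    refine ⟨t, hi ?_⟩
    rw [Submonoid.smul_def, map_smul, ← Submonoid.smul_def, ht, map_zero]
  · intro l
    obtain ⟨z, s, rfl⟩ := exists_lmk S K'' q l
    obtain ⟨y, rfl⟩ := hs z
    exact ⟨lmk S K q y s, locCx_map_lmk S b q y s⟩
  · intro l
    obtain ⟨z, s, rfl⟩ := exists_lmk S K q l
    rw [locCx_map_lmk, lmk_eq_zero_iff]
    constructor
    · rintro ⟨t, ht⟩
      have h1 : (b.f q).hom (t • z) = 0 := by
        rw [Submonoid.smul_def, map_smul, ← Submonoid.smul_def, ht]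
      obtain ⟨y, hy⟩ := (he (t • z)).1 h1
      refine ⟨lmk S K' q y (t * s), ?_⟩
      rw [locCx_map_lmk, hy, lmk_cancel]
    · rintro ⟨l', hl'⟩
      obtain ⟨y, s', rfl⟩ := exists_lmk S K' q l'
      rw [locCx_map_lmk, lmk_eq_iff] at hl'
      obtain ⟨u, hu⟩ := hl'
      refine ⟨u * s', ?_⟩
      have h2 : (b.f q).hom ((a.f q).hom y) = 0 := (he _).2 ⟨y, rfl⟩
      have h3 : (b.f q).hom (u • s • (a.f q).hom y) = 0 := by
        rw [Submonoid.smul_def, map_smul, Submonoid.smul_def, map_smul, h2, smul_zero, smul_zero]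
      rw [hu, Submonoid.smul_def, map_smul, Submonoid.smul_def, map_smul,
        ← Submonoid.smul_def, ← Submonoid.smul_def] at h3
      rw [mul_smul]
      exact h3

lemma DwSES.cocone (h : DwSES a b) (f : R) :
    DwSES (coconeMap (locCxUnit (Submonoid.powers f) K') (locCxUnit (Submonoid.powers f) K) a
        ((locCx (Submonoid.powers f)).map a) (locCxUnit_naturality _ _))
      (coconeMap (locCxUnit (Submonoid.powers f) K) (locCxUnit (Submonoid.powers f) K'') b
        ((locCx (Submonoid.powers f)).map b) (locCxUnit_naturality _ _)) := by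
  have hl := h.loc (Submonoid.powers f)
  intro q
  obtain ⟨hi, hs, he⟩ := h q
  obtain ⟨hi', hs', he'⟩ := hl (q - 1)
  refine ⟨?_, ?_, ?_⟩
  · rw [injective_iff_map_eq_zero]
    intro c hc
    apply ext_elem _ q (q - 1) (by ring)
    · apply hi
      have h1 := fE_coconeMap _ _ a _ (locCxUnit_naturality (Submonoid.powers f) a) q c
      rw [hc, map_zero] at h1
      rw [← h1, map_zero, map_zero]
    · apply hi'
      have h1 := sE_coconeMap _ _ a _ (locCxUnit_naturality (Submonoid.powers f) a) q (q - 1)
        (by ring) c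
      rw [hc, map_zero] at h1
      rw [← h1, map_zero, map_zero]
  · intro c
    obtain ⟨k, hk⟩ := hs (fE _ q c)
    obtain ⟨l, hl⟩ := hs' (sE _ q (q - 1) (by ring) c)
    refine ⟨iL _ q k + iR _ (q - 1) q (by ring) l, ?_⟩
    apply ext_elem _ q (q - 1) (by ring)
    · rw [fE_coconeMap, map_add, fE_iL, fE_iR, add_zero, hk]
    · rw [sE_coconeMap, map_add, sE_iL, sE_iR, zero_add, hl]
  · intro c
    constructor
    · intro hc
      have h1 : (b.f q).hom (fE _ q c) = 0 := by
        have h1 := fE_coconeMap _ _ b _ (locCxUnit_naturality (Submonoid.powers f) b) q c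
        rw [hc, map_zero] at h1
        exact h1.symm
      have h2 : (((locCx (Submonoid.powers f)).map b).f (q - 1)).hom
          (sE _ q (q - 1) (by ring) c) = 0 := by
        have h1 := sE_coconeMap _ _ b _ (locCxUnit_naturality (Submonoid.powers f) b) q (q - 1)
          (by ring) c
        rw [hc, map_zero] at h1
        exact h1.symm
      obtain ⟨k, hk⟩ := (he _).1 h1
      obtain ⟨l, hl⟩ := (he' _).1 h2
      refine ⟨iL _ q k + iR _ (q - 1) q (by ring) l, ?_⟩
      apply ext_elem _ q (q - 1) (by ring)
      · rw [fE_coconeMap, map_add, fE_iL, fE_iR, add_zero, hk]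
      · rw [sE_coconeMap, map_add, sE_iL, sE_iR, zero_add, hl]
    · rintro ⟨c', rfl⟩
      apply ext_elem _ q (q - 1) (by ring)
      · rw [fE_coconeMap, fE_coconeMap, map_zero]
        exact (he _).2 ⟨_, rfl⟩
      · rw [sE_coconeMap, sE_coconeMap, map_zero]
        exact (he' _).2 ⟨_, rfl⟩

end Dw

/-- a short exact sequence of modules gives a degreewise short exact sequence of extended Čech
complexes -/
theorem dwSES_extCech {S : ShortComplex (ModuleCat.{u} R)} (hS : S.ShortExact) :
    ∀ fs : List R, DwSES (extCechMap S.f fs) (extCechMap S.g fs) := by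
  intro fs
  induction fs with
  | nil =>
    intro q
    by_cases hq : q = 0
    · subst hq
      have hi : Function.Injective S.f.hom := hS.moduleCat_injective_f
      have hs : Function.Surjective S.g.hom := hS.moduleCat_surjective_g
      have he : Function.Exact S.f.hom S.g.hom :=
        (ShortComplex.ShortExact.moduleCat_exact_iff_function_exact S).1 hS.exact
      have n1 := aug_natural S.f []
      have n2 := aug_natural S.g []
      refine ⟨?_, ?_, ?_⟩
      · intro x y hxy
        apply (aug S.X₁ []).e.injective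
        apply hi
        rw [← n1, ← n1, hxy]
      · intro z
        obtain ⟨y, hy⟩ := hs ((aug S.X₃ []).e z)
        refine ⟨(aug S.X₂ []).e.symm y, ?_⟩
        apply (aug S.X₃ []).e.injective
        rw [n2, LinearEquiv.apply_symm_apply, hy]
      · intro y
        constructor
        · intro hy
          have h1 : S.g.hom ((aug S.X₂ []).e y) = 0 := by
            rw [← n2, hy, map_zero]
          obtain ⟨x, hx⟩ := (he _).1 h1
          refine ⟨(aug S.X₁ []).e.symm x, ?_⟩
          apply (aug S.X₂ []).e.injective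
          rw [n1, LinearEquiv.apply_symm_apply, hx]
        · rintro ⟨x, rfl⟩
          apply (aug S.X₃ []).e.injective
          rw [n2, n1, map_zero]
          exact (he _).2 ⟨_, rfl⟩
    · haveI h1 : Subsingleton ((extCech S.X₁ []).X q) := ModuleCat.subsingleton_of_isZero
        (HomologicalComplex.isZero_single_obj_X (ComplexShape.up ℤ) 0 S.X₁ q hq)
      haveI h2 : Subsingleton ((extCech S.X₂ []).X q) := ModuleCat.subsingleton_of_isZero
        (HomologicalComplex.isZero_single_obj_X (ComplexShape.up ℤ) 0 S.X₂ q hq)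
      haveI h3 : Subsingleton ((extCech S.X₃ []).X q) := ModuleCat.subsingleton_of_isZero
        (HomologicalComplex.isZero_single_obj_X (ComplexShape.up ℤ) 0 S.X₃ q hq)
      refine ⟨fun x y _ => Subsingleton.elim _ _, fun z => ⟨0, Subsingleton.elim _ _⟩, ?_⟩
      intro y
      exact ⟨fun _ => ⟨0, Subsingleton.elim _ _⟩, fun _ => Subsingleton.elim _ _⟩
  | cons f fs ih => exact ih.cocone f

/-- the short complex of extended Čech complexes -/
noncomputable def cechSC (S : ShortComplex (ModuleCat.{u} R)) (fs : List R) :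
    ShortComplex (DRing.Cx R) :=
  ShortComplex.mk (extCechMap S.f fs) (extCechMap S.g fs)
    (by rw [← extCechMap_comp, S.zero, extCechMap_zero])

lemma cechSC_shortExact {S : ShortComplex (ModuleCat.{u} R)} (hS : S.ShortExact) (fs : List R) :
    (cechSC S fs).ShortExact := by
  apply HomologicalComplex.shortExact_of_degreewise_shortExact
  intro q
  obtain ⟨hi, hs, he⟩ := dwSES_extCech hS fs q
  exact ModuleCat.shortComplex_shortExact _ he hi hs

end Groth.Agent.Lib.helper2.ExtCech
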