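import Mathlib
import Groth.Agent.Lib.Helper2.ExtCech7

/-!
# helper2: extended Čech cohomology is local cohomology (Noetherian case), main theorem
-/

set_option autoImplicit false
universe u

open CategoryTheory CategoryTheory.Limits HomologicalComplex CochainComplex HomComplex

namespace Groth.Agent.Lib.helper2.ExtCech

open DerCA Groth.Agent.Lib.helper2.CxH Groth.Agent.Lib.helper2.Cocone
  Groth.Agent.Lib.helper19.LCZero Groth.Agent.Lib.helper19.LCLes2
  Groth.Agent.Lib.helper19.LCAcyclic Groth.Agent.Lib.helper19.LCRes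

variable {R : Type u} [CommRing R]

/-- the ideal generated by a list -/
abbrev spanL (fs : List R) : Ideal R := Ideal.span {x | x ∈ fs}

/-- degree-zero cocycles are the torsion submodule -/
noncomputable def zcEquiv (fs : List R) (M : ModuleCat.{u} R) :
    Zc (extCech M fs) 0 1 ≃ₗ[R] DRing.torsionSub (spanL fs) M where
  toFun := fun z => ⟨(aug M fs).e z.1, (d_zero_eq_zero_iff M fs z.1).1 ((mem_Zc z.1).1 z.2)⟩
  map_add' := fun z z' => Subtype.ext (map_add _ _ _)
  map_smul' := fun r z => Subtype.ext (map_smul _ _ _)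
  invFun := fun m => ⟨(aug M fs).e.symm m.1, (mem_Zc _).2
    ((d_zero_eq_zero_iff M fs _).2 (by rw [LinearEquiv.apply_symm_apply]; exact m.2))⟩
  left_inv := fun z => Subtype.ext ((aug M fs).e.symm_apply_apply z.1)
  right_inv := fun m => Subtype.ext ((aug M fs).e.apply_symm_apply m.1)

/-- the degree-zero comparison -/
noncomputable def theta (fs : List R) (M : ModuleCat.{u} R) :
    extCechH fs M 0 ≃ₗ[R] ((localCohomology (spanL fs) 0).obj M : ModuleCat.{u} R) :=
  (aug M fs).h0Equiv.symm ≪≫ₗ zcEquiv fs M ≪≫ₗ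
    LinearEquiv.ofBijective (gammaToH (spanL fs) M) (gammaToH_bijective (spanL fs) M)

lemma theta_cls (fs : List R) (M : ModuleCat.{u} R) (z : Zc (extCech M fs) 0 1) :
    theta fs M (cls (extCech M fs) 0 1 (by lia) z) = gammaToH (spanL fs) M (zcEquiv fs M z) := by
  have h1 : (aug M fs).h0Equiv.symm (cls (extCech M fs) 0 1 (by lia) z) = z :=
    (aug M fs).h0Equiv.symm_apply_apply z
  show gammaToH (spanL fs) M (zcEquiv fs M ((aug M fs).h0Equiv.symm _)) = _
  rw [h1]

lemma theta_natural (fs : List R) {M N : ModuleCat.{u} R} (g : M ⟶ N) (x : extCechH fs M 0) :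
    ((localCohomology (spanL fs) 0).map g).hom (theta fs M x) =
      theta fs N ((homologyMap (extCechMap g fs) 0).hom x) := by
  obtain ⟨z, rfl⟩ := cls_surjective (extCech M fs) 0 1 (by lia) x
  rw [homologyMap_cls, theta_cls, theta_cls]
  have hmem : g.hom (zcEquiv fs M z).1 ∈ DRing.torsionSub (spanL fs) N :=
    DRing.map_mem_torsionSub _ g.hom (zcEquiv fs M z).2
  rw [gammaToH_naturality (spanL fs) g (zcEquiv fs M z) hmem]
  congr 1
  apply Subtype.ext
  exact (aug_natural g fs z.1).symm

section Main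

/-- the standard short exact sequence `0 → M → E → Q → 0` with `E` injective -/
noncomputable def injSC (M : ModuleCat.{u} R) : ShortComplex (ModuleCat.{u} R) :=
  ShortComplex.mk (Injective.ι M)
    (ModuleCat.ofHom (LinearMap.range (Injective.ι M).hom).mkQ) (by
      ext x
      exact (Submodule.Quotient.mk_eq_zero _).2 ⟨x, rfl⟩)

lemma injSC_shortExact (M : ModuleCat.{u} R) : (injSC M).ShortExact := by
  apply ModuleCat.shortComplex_shortExact
  · intro y
    exact (Submodule.Quotient.mk_eq_zero _)
  · exact (ModuleCat.mono_iff_injective (Injective.ι M)).1 inferInstance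
  · exact Submodule.mkQ_surjective _

instance (M : ModuleCat.{u} R) : Injective (injSC M).X₂ :=
  inferInstanceAs (Injective (Injective.under M))

lemma injSC_X₁ (M : ModuleCat.{u} R) : (injSC M).X₁ = M := rfl

variable [IsNoetherianRing R]

lemma cech_injSC_isZero (fs : List R) (M : ModuleCat.{u} R) (q : ℤ) (hq : 1 ≤ q) :
    IsZero ((cechSC (injSC M) fs).X₂.homology q) := by
  have hE : Module.Injective R (injSC M).X₂ :=
    @Module.injective_module_of_injective_object R (injSC M).X₂ _ _ _
      (inferInstanceAs (Injective (Injective.under M)))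
  exact (posAcyclic_extCech (injSC M).X₂ hE fs).isZero q hq

/-- the case of degree one -/
theorem cech_iso_one (fs : List R) (M : ModuleCat.{u} R) :
    Nonempty (extCechH fs M 1 ≃ₗ[R] ((localCohomology (spanL fs) 1).obj M : ModuleCat.{u} R)) := by
  have hS := injSC_shortExact M
  have hSC := cechSC_shortExact hS fs
  have hz1 := cech_injSC_isZero fs M 1 (le_refl 1)
  -- δ is surjective
  have hsurj : Function.Surjective (hSC.δ 0 1 rfl).hom := by
    intro y
    have hex := hSC.homology_exact₁ 0 1 rfl
    rw [ShortComplex.moduleCat_exact_iff] at hex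
    exact hex y ((ModuleCat.subsingleton_of_isZero hz1).elim _ _)
  have hker : LinearMap.ker (hSC.δ 0 1 rfl).hom =
      LinearMap.range (homologyMap (cechSC (injSC M) fs).g 0).hom := by
    have hex := hSC.homology_exact₃ 0 1 rfl
    exact (hex.moduleCat_range_eq_ker).symm
  let e1 : ((cechSC (injSC M) fs).X₃.homology 0 ⧸
      LinearMap.range (homologyMap (cechSC (injSC M) fs).g 0).hom) ≃ₗ[R]
      (cechSC (injSC M) fs).X₁.homology 1 :=
    (Submodule.quotEquivOfEq _ _ hker.symm) ≪≫ₗ
      (hSC.δ 0 1 rfl).hom.quotKerEquivOfSurjective hsurj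
  -- transport the cokernel
  have hmap : Submodule.map (theta fs (injSC M).X₃).toLinearMap
      (LinearMap.range (homologyMap (cechSC (injSC M) fs).g 0).hom) =
      LinearMap.range ((localCohomology (spanL fs) 0).map (injSC M).g).hom := by
    ext y
    constructor
    · rintro ⟨_, ⟨x, rfl⟩, rfl⟩
      refine ⟨theta fs (injSC M).X₂ x, ?_⟩
      exact theta_natural fs (injSC M).g x
    · rintro ⟨x, rfl⟩
      refine ⟨_, ⟨(theta fs (injSC M).X₂).symm x, rfl⟩, ?_⟩
      have := theta_natural fs (injSC M).g ((theta fs (injSC M).X₂).symm x)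
      rw [LinearEquiv.apply_symm_apply] at this
      exact this.symm
  let e2 := Submodule.Quotient.equiv _ _ (theta fs (injSC M).X₃) hmap
  have h2' : Subsingleton ((localCohomology (spanL fs) (0 + 1)).obj (injSC M).X₂ :
      ModuleCat.{u} R) := H_subsingleton_of_injective (spanL fs) (injSC M).X₂ 1 (by lia)
  let e3 := cokerEquivOfVanish (spanL fs) 0 hS h2'
  exact ⟨e1.symm ≪≫ₗ e2 ≪≫ₗ e3⟩

/-- **extended Čech cohomology is local cohomology** -/
theorem cech_iso (fs : List R) : ∀ (q : ℕ) (M : ModuleCat.{u} R),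
    Nonempty (extCechH fs M (q : ℤ) ≃ₗ[R]
      ((localCohomology (spanL fs) q).obj M : ModuleCat.{u} R)) := by
  intro q
  induction q using Nat.twoStepInduction with
  | zero => intro M; exact ⟨theta fs M⟩
  | one => intro M; exact cech_iso_one fs M
  | more j _ ih =>
    intro M
    have hS := injSC_shortExact M
    have hSC := cechSC_shortExact hS fs
    have hz1 := cech_injSC_isZero fs M ((j + 1 : ℕ) : ℤ) (by push_cast; lia)
    have hz2 := cech_injSC_isZero fs M ((j + 2 : ℕ) : ℤ) (by push_cast; lia)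
    have e1 := hSC.δIso ((j + 1 : ℕ) : ℤ) ((j + 2 : ℕ) : ℤ) (by
      show ((j + 1 : ℕ) : ℤ) + 1 = ((j + 2 : ℕ) : ℤ)
      push_cast; ring) hz1 hz2
    obtain ⟨e2⟩ := ih (injSC M).X₃
    have h2 : Subsingleton ((localCohomology (spanL fs) (j + 1)).obj (injSC M).X₂ :
      ModuleCat.{u} R) := H_subsingleton_of_injective (spanL fs) (injSC M).X₂ (j + 1) (by lia)
    have h2' : Subsingleton ((localCohomology (spanL fs) (j + 1 + 1)).obj (injSC M).X₂ :
      ModuleCat.{u} R) := H_subsingleton_of_injective (spanL fs) (injSC M).X₂ (j + 1 + 1) (by lia)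
    let e3 := shiftEquiv (spanL fs) (j + 1) hS h2 h2'
    exact ⟨e1.symm.toLinearEquiv ≪≫ₗ e2 ≪≫ₗ e3⟩

end Main

end Groth.Agent.Lib.helper2.ExtCech
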