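import Mathlib
import Groth.Agent.Lib.Helper2.ExtCech1

/-!
# helper2: the mapping cone of a map of complexes of modules, elementwise
-/

set_option autoImplicit false
universe u

open CategoryTheory CategoryTheory.Limits HomologicalComplex CochainComplex HomComplex

namespace Groth.Agent.Lib.helper2.Cone

variable {R : Type u} [Ring R] {K L : CochainComplex (ModuleCat.{u} R) ℤ} (φ : K ⟶ L)

/-- first projection (degree `+1`) -/
noncomputable def cF (p q : ℤ) (h : p + 1 = q) : (mappingCone φ).X p →ₗ[R] K.X q :=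
  ((mappingCone.fst φ).1.v p q h).hom

/-- second projection -/
noncomputable def cS (p : ℤ) : (mappingCone φ).X p →ₗ[R] L.X p :=
  ((mappingCone.snd φ).v p p (add_zero p)).hom

/-- first inclusion (degree `-1`) -/
noncomputable def cL (q p : ℤ) (h : q + (-1) = p) : K.X q →ₗ[R] (mappingCone φ).X p :=
  ((mappingCone.inl φ).v q p h).hom

/-- second inclusion -/
noncomputable def cR (p : ℤ) : L.X p →ₗ[R] (mappingCone φ).X p :=
  ((mappingCone.inr φ).f p).hom

@[simp] lemma cF_cL (p q : ℤ) (h : p + 1 = q) (h' : q + (-1) = p) (k : K.X q) :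
    cF φ p q h (cL φ q p h' k) = k :=
  congrArg (fun t => t.hom k) (mappingCone.inl_v_fst_v φ q p h)

@[simp] lemma cS_cL (q p : ℤ) (h : q + (-1) = p) (k : K.X q) : cS φ p (cL φ q p h k) = 0 :=
  congrArg (fun t => t.hom k) (mappingCone.inl_v_snd_v φ q p h)

@[simp] lemma cF_cR (p q : ℤ) (h : p + 1 = q) (l : L.X p) : cF φ p q h (cR φ p l) = 0 :=
  congrArg (fun t => t.hom l) (mappingCone.inr_f_fst_v φ p q h)

@[simp] lemma cS_cR (p : ℤ) (l : L.X p) : cS φ p (cR φ p l) = l :=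
  congrArg (fun t => t.hom l) (mappingCone.inr_f_snd_v φ p)

lemma cL_cF_add_cR_cS (p q : ℤ) (h : p + 1 = q) (c : (mappingCone φ).X p) :
    cL φ q p (by lia) (cF φ p q h c) + cR φ p (cS φ p c) = c :=
  congrArg (fun t => t.hom c) (mappingCone.id_X φ p q h)

lemma ext_elem (p q : ℤ) (h : p + 1 = q) {c c' : (mappingCone φ).X p}
    (h1 : cF φ p q h c = cF φ p q h c') (h2 : cS φ p c = cS φ p c') : c = c' := by
  rw [← cL_cF_add_cR_cS φ p q h c, ← cL_cF_add_cR_cS φ p q h c', h1, h2]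

lemma cF_d (p q r : ℤ) (hpq : p + 1 = q) (hqr : q + 1 = r) (c : (mappingCone φ).X p) :
    cF φ q r hqr (((mappingCone φ).d p q).hom c) = -(K.d q r).hom (cF φ p q hpq c) :=
  congrArg (fun t => t.hom c) (mappingCone.d_fst_v φ p q r hpq hqr)

lemma cS_d (p q : ℤ) (hpq : p + 1 = q) (c : (mappingCone φ).X p) :
    cS φ q (((mappingCone φ).d p q).hom c) =
      (φ.f q).hom (cF φ p q hpq c) + (L.d p q).hom (cS φ p c) :=
  congrArg (fun t => t.hom c) (mappingCone.d_snd_v φ p q hpq)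

section Map

variable {K₁ L₁ K₂ L₂ : CochainComplex (ModuleCat.{u} R) ℤ} (φ₁ : K₁ ⟶ L₁) (φ₂ : K₂ ⟶ L₂)
  (a : K₁ ⟶ K₂) (b : L₁ ⟶ L₂) (comm : φ₁ ≫ b = a ≫ φ₂)

lemma map_cR (p : ℤ) (l : L₁.X p) :
    ((mappingCone.map φ₁ φ₂ a b comm).f p).hom (cR φ₁ p l) = cR φ₂ p ((b.f p).hom l) := by
  have : (mappingCone.inr φ₁).f p ≫ (mappingCone.map φ₁ φ₂ a b comm).f p =
      b.f p ≫ (mappingCone.inr φ₂).f p := by
    simp [mappingCone.map]
  exact congrArg (fun t => t.hom l) this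

lemma map_cL (q p : ℤ) (h : q + (-1) = p) (k : K₁.X q) :
    ((mappingCone.map φ₁ φ₂ a b comm).f p).hom (cL φ₁ q p h k) = cL φ₂ q p h ((a.f q).hom k) := by
  have : (mappingCone.inl φ₁).v q p h ≫ (mappingCone.map φ₁ φ₂ a b comm).f p =
      a.f q ≫ (mappingCone.inl φ₂).v q p h := by
    simp [mappingCone.map]
  exact congrArg (fun t => t.hom k) this

lemma cF_map (p q : ℤ) (h : p + 1 = q) (c : (mappingCone φ₁).X p) :
    cF φ₂ p q h (((mappingCone.map φ₁ φ₂ a b comm).f p).hom c) =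
      (a.f q).hom (cF φ₁ p q h c) := by
  rw [← cL_cF_add_cR_cS φ₁ p q h c, map_add, map_add, map_cL, map_cR, cF_cL, cF_cR, add_zero,
    map_add, cF_cL, cF_cR, add_zero]

lemma cS_map (p q : ℤ) (h : p + 1 = q) (c : (mappingCone φ₁).X p) :
    cS φ₂ p (((mappingCone.map φ₁ φ₂ a b comm).f p).hom c) = (b.f p).hom (cS φ₁ p c) := by
  rw [← cL_cF_add_cR_cS φ₁ p q h c, map_add, map_add, map_cL, map_cR, cS_cL, cS_cR, zero_add,
    map_add, cS_cL, cS_cR, zero_add]

end Map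

end Groth.Agent.Lib.helper2.Cone
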