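import Mathlib
import Groth.Prelude.Def_ega3
import Groth.Prelude.Def_DerCA
import Groth.Agent.Lib.Helper2.KC1
import Groth.Agent.Lib.Helper2.ExtCech3

/-!
# helper2: comparison of the Koszul complexes of powers with the extended Čech complex, termwise
-/

set_option autoImplicit false
universe u

open CategoryTheory CategoryTheory.Limits HomologicalComplex CochainComplex HomComplex

namespace Groth.Agent.Lib.helper2.KC

open CohIII DerCA Groth.Agent.Lib.helper2.CxH Groth.Agent.Lib.helper2.Cocone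
  Groth.Agent.Lib.helper2.Cone Groth.Agent.Lib.helper2.ExtCech

variable {A : Type u} [CommRing A]

section Loc

variable (S : Submonoid A) (K : DRing.Cx A)

/-- division by `s` as a linear map into the localized complex -/
noncomputable def ldiv (p : ℤ) (s : S) : K.X p →ₗ[A] ((locCx S).obj K).X p where
  toFun z := lmk S K p z s
  map_add' z z' := by
    show (LocalizedModule.mk (z + z') s : LocalizedModule S (K.X p)) =
      LocalizedModule.mk z s + LocalizedModule.mk z' s
    rw [LocalizedModule.mk_add_mk, LocalizedModule.mk_eq]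
    refine ⟨1, ?_⟩
    simp only [one_smul, smul_add, Submonoid.smul_def, mul_smul]
  map_smul' r z := (smul_lmk S K p r z s).symm

@[simp] lemma ldiv_apply (p : ℤ) (s : S) (z : K.X p) : ldiv S K p s z = lmk S K p z s := rfl

end Loc

/-- the power `f^n` as an element of the submonoid of powers -/
def pw (f : A) (n : ℕ) : Submonoid.powers f := ⟨f ^ n, n, rfl⟩

lemma pw_mul (f : A) (a b : ℕ) : pw f a * pw f b = pw f (a + b) :=
  Subtype.ext (pow_add f a b).symm

@[simp] lemma coe_pw (f : A) (n : ℕ) : ((pw f n : Submonoid.powers f) : A) = f ^ n := rfl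

/-- the sign -/
def eps (r : ℕ) : A := (-1) ^ r

lemma eps_succ (r : ℕ) : (eps (r + 1) : A) = -eps r := by
  unfold eps; rw [pow_succ]; ring

lemma eps_mul_eps (r : ℕ) : (eps r : A) * eps r = 1 := by
  unfold eps; rw [← pow_add, ← two_mul, pow_mul]; simp

variable (M : ModuleCat.{u} A)

/-- the Koszul complex of the `n`-th powers -/
noncomputable abbrev Kn (n : ℕ) (fs : List A) : CochainComplex (ModuleCat.{u} A) ℤ :=
  koszulCx M (fs.map (· ^ n))

section Wrappers

variable (n : ℕ) (f : A) (fs : List A)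

/-- the localization map of the extended Čech complex -/
noncomputable abbrev psi : extCech M fs ⟶ (locCx (Submonoid.powers f)).obj (extCech M fs) :=
  locCxUnit (Submonoid.powers f) (extCech M fs)

/-- Koszul side: first projection -/
noncomputable def kF (j j1 : ℤ) (hj : j + 1 = j1) :
    (Kn M n (f :: fs)).X j →ₗ[A] (Kn M n fs).X j1 :=
  cF (f ^ n • 𝟙 (Kn M n fs)) j j1 hj

/-- Koszul side: second projection -/
noncomputable def kS (j : ℤ) : (Kn M n (f :: fs)).X j →ₗ[A] (Kn M n fs).X j :=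
  cS (f ^ n • 𝟙 (Kn M n fs)) j

/-- Koszul side: first inclusion -/
noncomputable def kL (j1 j : ℤ) (hj : j1 + (-1) = j) :
    (Kn M n fs).X j1 →ₗ[A] (Kn M n (f :: fs)).X j :=
  cL (f ^ n • 𝟙 (Kn M n fs)) j1 j hj

/-- Koszul side: second inclusion -/
noncomputable def kR (j : ℤ) : (Kn M n fs).X j →ₗ[A] (Kn M n (f :: fs)).X j :=
  cR (f ^ n • 𝟙 (Kn M n fs)) j

@[simp] lemma kF_kL (j j1 : ℤ) (h : j + 1 = j1) (h' : j1 + (-1) = j) (k : (Kn M n fs).X j1) :
    kF M n f fs j j1 h (kL M n f fs j1 j h' k) = k := cF_cL _ j j1 h h' k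

@[simp] lemma kS_kL (j1 j : ℤ) (h : j1 + (-1) = j) (k : (Kn M n fs).X j1) :
    kS M n f fs j (kL M n f fs j1 j h k) = 0 := cS_cL _ j1 j h k

@[simp] lemma kF_kR (j j1 : ℤ) (h : j + 1 = j1) (l : (Kn M n fs).X j) :
    kF M n f fs j j1 h (kR M n f fs j l) = 0 := cF_cR _ j j1 h l

@[simp] lemma kS_kR (j : ℤ) (l : (Kn M n fs).X j) : kS M n f fs j (kR M n f fs j l) = l :=
  cS_cR _ j l

lemma k_ext (j j1 : ℤ) (h : j + 1 = j1) {c c' : (Kn M n (f :: fs)).X j}
    (h1 : kF M n f fs j j1 h c = kF M n f fs j j1 h c')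
    (h2 : kS M n f fs j c = kS M n f fs j c') : c = c' :=
  Cone.ext_elem (f ^ n • 𝟙 (Kn M n fs)) j j1 h h1 h2

lemma kF_d (j j' j'' : ℤ) (h : j + 1 = j') (h' : j' + 1 = j'') (c : (Kn M n (f :: fs)).X j) :
    kF M n f fs j' j'' h' (((Kn M n (f :: fs)).d j j').hom c) =
      -((Kn M n fs).d j' j'').hom (kF M n f fs j j' h c) :=
  cF_d (f ^ n • 𝟙 (Kn M n fs)) j j' j'' h h' c

lemma kS_d (j j' : ℤ) (h : j + 1 = j') (c : (Kn M n (f :: fs)).X j) :
    kS M n f fs j' (((Kn M n (f :: fs)).d j j').hom c) =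
      f ^ n • kF M n f fs j j' h c + ((Kn M n fs).d j j').hom (kS M n f fs j c) :=
  cS_d (f ^ n • 𝟙 (Kn M n fs)) j j' h c

variable {n} in
lemma kF_trans (m : ℕ) (h : n ≤ m) (j j1 : ℤ) (hj : j + 1 = j1) (x : (Kn M n (f :: fs)).X j) :
    kF M m f fs j j1 hj (((koszulTrans M n m h (f :: fs)).f j).hom x) =
      ((koszulTrans M n m h fs).f j1).hom (kF M n f fs j j1 hj x) :=
  cF_map (f ^ n • 𝟙 (Kn M n fs)) (f ^ m • 𝟙 (Kn M m fs)) (koszulTrans M n m h fs)
    (f ^ (m - n) • koszulTrans M n m h fs) _ j j1 hj x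

variable {n} in
lemma kS_trans (m : ℕ) (h : n ≤ m) (j : ℤ) (x : (Kn M n (f :: fs)).X j) :
    kS M m f fs j (((koszulTrans M n m h (f :: fs)).f j).hom x) =
      f ^ (m - n) • ((koszulTrans M n m h fs).f j).hom (kS M n f fs j x) :=
  cS_map (f ^ n • 𝟙 (Kn M n fs)) (f ^ m • 𝟙 (Kn M m fs)) (koszulTrans M n m h fs)
    (f ^ (m - n) • koszulTrans M n m h fs) _ j (j + 1) rfl x

/-- Čech side: first projection -/
noncomputable def eF (i : ℤ) : (extCech M (f :: fs)).X i →ₗ[A] (extCech M fs).X i :=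
  fE (psi M f fs) i

/-- Čech side: second projection -/
noncomputable def eS (i i0 : ℤ) (h : i + -1 = i0) :
    (extCech M (f :: fs)).X i →ₗ[A] ((locCx (Submonoid.powers f)).obj (extCech M fs)).X i0 :=
  sE (psi M f fs) i i0 h

/-- Čech side: first inclusion -/
noncomputable def eL (i : ℤ) : (extCech M fs).X i →ₗ[A] (extCech M (f :: fs)).X i :=
  iL (psi M f fs) i

/-- Čech side: second inclusion -/
noncomputable def eR (i0 i : ℤ) (h : i0 + 1 = i) :
    ((locCx (Submonoid.powers f)).obj (extCech M fs)).X i0 →ₗ[A] (extCech M (f :: fs)).X i :=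
  iR (psi M f fs) i0 i h

@[simp] lemma eF_eL (i : ℤ) (k : (extCech M fs).X i) : eF M f fs i (eL M f fs i k) = k :=
  fE_iL _ i k

@[simp] lemma eS_eL (i i0 : ℤ) (h : i + -1 = i0) (k : (extCech M fs).X i) :
    eS M f fs i i0 h (eL M f fs i k) = 0 := sE_iL _ i i0 h k

@[simp] lemma eF_eR (i0 i : ℤ) (h : i0 + 1 = i)
    (l : ((locCx (Submonoid.powers f)).obj (extCech M fs)).X i0) :
    eF M f fs i (eR M f fs i0 i h l) = 0 := fE_iR _ i0 i h l

@[simp] lemma eS_eR (i0 i : ℤ) (h : i0 + 1 = i) (h' : i + -1 = i0)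
    (l : ((locCx (Submonoid.powers f)).obj (extCech M fs)).X i0) :
    eS M f fs i i0 h' (eR M f fs i0 i h l) = l := sE_iR _ i0 i h h' l

lemma e_ext (i i0 : ℤ) (h : i + -1 = i0) {c c' : (extCech M (f :: fs)).X i}
    (h1 : eF M f fs i c = eF M f fs i c') (h2 : eS M f fs i i0 h c = eS M f fs i i0 h c') :
    c = c' :=
  Cocone.ext_elem (psi M f fs) i i0 h h1 h2

lemma eL_eF_add_eR_eS (i i0 : ℤ) (h : i + -1 = i0) (c : (extCech M (f :: fs)).X i) :
    eL M f fs i (eF M f fs i c) + eR M f fs i0 i (by lia) (eS M f fs i i0 h c) = c :=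
  iL_fE_add_iR_sE (psi M f fs) i i0 h c

lemma d_eR (i0 i i' : ℤ) (h : i0 + 1 = i) (h' : i + 1 = i')
    (l : ((locCx (Submonoid.powers f)).obj (extCech M fs)).X i0) :
    ((extCech M (f :: fs)).d i i').hom (eR M f fs i0 i h l) =
      -eR M f fs i i' h' ((((locCx (Submonoid.powers f)).obj (extCech M fs)).d i0 i).hom l) :=
  d_iR (psi M f fs) i0 i i' h h' l

lemma d_eL (i i' : ℤ) (h : i + 1 = i') (k : (extCech M fs).X i) :
    ((extCech M (f :: fs)).d i i').hom (eL M f fs i k) =
      eL M f fs i' (((extCech M fs).d i i').hom k) -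
        eR M f fs i i' h (lmk (Submonoid.powers f) (extCech M fs) i k 1) :=
  d_iL (psi M f fs) (i - 1) i i' (by lia) h k

end Wrappers

/-- the comparison maps `K(f^n; M)^j → Č(f; M)^{j+r}` -/
noncomputable def theta (n : ℕ) : (fs : List A) → (j i : ℤ) → (i = j + fs.length) →
    ((Kn M n fs).X j →ₗ[A] (extCech M fs).X i)
  | [], j, i, h =>
      (HomologicalComplex.XIsoOfEq
        ((HomologicalComplex.single (ModuleCat.{u} A) (ComplexShape.up ℤ) 0).obj M)
        (show j = i by simpa using h.symm)).hom.hom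
  | f :: fs, j, i, h =>
      (eL M f fs i) ∘ₗ
          (theta n fs (j + 1) i (by simp only [List.length_cons, Nat.cast_succ] at h; lia)) ∘ₗ
          (kF M n f fs j (j + 1) rfl) +
        (eps fs.length : A) •
          ((eR M f fs (i - 1) i (by lia)) ∘ₗ
            (ldiv (Submonoid.powers f) (extCech M fs) (i - 1) (pw f n)) ∘ₗ
            (theta n fs j (i - 1) (by simp only [List.length_cons, Nat.cast_succ] at h; lia)) ∘ₗ
            (kS M n f fs j))

lemma theta_cons (n : ℕ) (f : A) (fs : List A) (j j1 i i0 : ℤ) (hj : j + 1 = j1) (hi : i0 + 1 = i)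
    (h : i = j + (f :: fs).length) (x : (Kn M n (f :: fs)).X j) :
    theta M n (f :: fs) j i h x =
      eL M f fs i
          (theta M n fs j1 i (by simp only [List.length_cons, Nat.cast_succ] at h; lia)
            (kF M n f fs j j1 hj x)) +
        (eps fs.length : A) •
          eR M f fs i0 i hi
            (lmk (Submonoid.powers f) (extCech M fs) i0
              (theta M n fs j i0 (by simp only [List.length_cons, Nat.cast_succ] at h; lia)
                (kS M n f fs j x)) (pw f n)) := by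
  obtain rfl : j1 = j + 1 := hj.symm
  obtain rfl : i0 = i - 1 := by lia
  rfl

end Groth.Agent.Lib.helper2.KC
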