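import Mathlib
import Groth.Agent.Lib.Helper2.KC2

/-!
# helper2: comparison of the Koszul complexes of powers with the extended Čech complex, part 2
-/

set_option autoImplicit false
universe u

open CategoryTheory CategoryTheory.Limits HomologicalComplex CochainComplex HomComplex

namespace Groth.Agent.Lib.helper2.KC

open CohIII DerCA Groth.Agent.Lib.helper2.CxH Groth.Agent.Lib.helper2.Cocone
  Groth.Agent.Lib.helper2.Cone Groth.Agent.Lib.helper2.ExtCech

variable {A : Type u} [CommRing A] (M : ModuleCat.{u} A)

/-- transitivity of the transition maps, elementwise -/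
lemma koszulTrans_trans (n m l : ℕ) (h : n ≤ m) (h' : m ≤ l) :
    ∀ (fs : List A) (j : ℤ) (x : (Kn M n fs).X j),
      ((koszulTrans M m l h' fs).f j).hom (((koszulTrans M n m h fs).f j).hom x) =
        ((koszulTrans M n l (h.trans h') fs).f j).hom x := by
  intro fs
  induction fs with
  | nil => intro j x; rfl
  | cons f fs ih =>
    intro j x
    apply k_ext M l f fs j (j + 1) rfl
    · rw [kF_trans, kF_trans, kF_trans, ih]
    · rw [kS_trans, kS_trans, kS_trans, map_smul, ih, smul_smul, ← pow_add]
      congr 2
      lia

lemma koszulTrans_self (n : ℕ) :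
    ∀ (fs : List A) (j : ℤ) (x : (Kn M n fs).X j),
      ((koszulTrans M n n le_rfl fs).f j).hom x = x := by
  intro fs
  induction fs with
  | nil => intro j x; rfl
  | cons f fs ih =>
    intro j x
    apply k_ext M n f fs j (j + 1) rfl
    · rw [kF_trans, ih]
    · rw [kS_trans, ih, Nat.sub_self, pow_zero, one_smul]

/-- the comparison maps commute with the transition maps -/
lemma theta_trans (n m : ℕ) (hnm : n ≤ m) :
    ∀ (fs : List A) (j i : ℤ) (h : i = j + fs.length) (x : (Kn M n fs).X j),
      theta M m fs j i h (((koszulTrans M n m hnm fs).f j).hom x) = theta M n fs j i h x := by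
  intro fs
  induction fs with
  | nil => intro j i h x; rfl
  | cons f fs ih =>
    intro j i h x
    rw [theta_cons M m f fs j (j + 1) i (i - 1) rfl (by lia) h,
      theta_cons M n f fs j (j + 1) i (i - 1) rfl (by lia) h, kF_trans, kS_trans, ih, map_smul, ih]
    congr 3
    have hp : pw f m = pw f (m - n) * pw f n := by
      rw [pw_mul, Nat.sub_add_cancel hnm]
    rw [hp]
    exact lmk_cancel (Submonoid.powers f) (extCech M fs) (i - 1) _ (pw f n) (pw f (m - n))

/-- the comparison maps commute with the differentials up to the sign -/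
lemma theta_d (n : ℕ) :
    ∀ (fs : List A) (j j' i i' : ℤ) (hj : j + 1 = j') (hi : i + 1 = i') (h : i = j + fs.length)
      (x : (Kn M n fs).X j),
      theta M n fs j' i' (by lia) (((Kn M n fs).d j j').hom x) =
        (eps fs.length : A) • ((extCech M fs).d i i').hom (theta M n fs j i h x) := by
  intro fs
  induction fs with
  | nil =>
    intro j j' i i' hj hi h x
    have h1 : (Kn M n []).d j j' = 0 := HomologicalComplex.single_obj_d _ _ _ _ _
    have h2 : (extCech M []).d i i' = 0 := HomologicalComplex.single_obj_d _ _ _ _ _
    rw [h1, h2]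
    simp
  | cons f fs ih =>
    intro j j' i i' hj hi h x
    have hr : i = j' + fs.length := by
      simp only [List.length_cons, Nat.cast_succ] at h; lia
    have hr0 : i - 1 = j + fs.length := by lia
    have hε : (eps (f :: fs).length : A) = -eps fs.length := eps_succ fs.length
    rw [theta_cons M n f fs j' (j' + 1) i' i rfl hi (by lia),
      theta_cons M n f fs j j' i (i - 1) hj (by lia) h, hε,
      kF_d M n f fs j j' (j' + 1) hj rfl, kS_d M n f fs j j' hj, map_neg,
      ih j' (j' + 1) i i' rfl hi hr, map_add (theta M n fs j' i hr),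
      map_smul (theta M n fs j' i hr), ih j j' (i - 1) i hj (by lia) hr0]
    obtain ⟨a', ha'⟩ : ∃ a', theta M n fs j' i hr (kF M n f fs j j' hj x) = a' := ⟨_, rfl⟩
    obtain ⟨b', hb'⟩ : ∃ b', theta M n fs j (i - 1) hr0 (kS M n f fs j x) = b' := ⟨_, rfl⟩
    rw [ha', hb']
    -- the localization identities
    have h3 : lmk (Submonoid.powers f) (extCech M fs) i
        (f ^ n • a' + (eps fs.length : A) • ((extCech M fs).d (i - 1) i).hom b') (pw f n) =
        lmk (Submonoid.powers f) (extCech M fs) i a' 1 + (eps fs.length : A) •
          lmk (Submonoid.powers f) (extCech M fs) i (((extCech M fs).d (i - 1) i).hom b')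
            (pw f n) := by
      rw [← ldiv_apply, map_add, map_smul, map_smul, ldiv_apply, ldiv_apply]
      congr 1
      exact smul_lmk_self (Submonoid.powers f) (extCech M fs) i a' (pw f n)
    rw [h3]
    simp only [map_add, map_smul, map_neg]
    rw [d_eL M f fs i i' hi, d_eR M f fs (i - 1) i i' (by lia) hi, loc_d_lmk]
    module

end Groth.Agent.Lib.helper2.KC
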