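import Mathlib
import Groth.Agent.Lib.Helper2.KC3

/-!
# helper2: the Koszul complexes of powers have the extended Čech complex as termwise colimit
-/

set_option autoImplicit false
universe u

open CategoryTheory CategoryTheory.Limits HomologicalComplex CochainComplex HomComplex

namespace Groth.Agent.Lib.helper2.KC

open CohIII DerCA Groth.Agent.Lib.helper2.CxH Groth.Agent.Lib.helper2.Cocone
  Groth.Agent.Lib.helper2.Cone Groth.Agent.Lib.helper2.ExtCech

variable {A : Type u} [CommRing A] (M : ModuleCat.{u} A)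

/-- every element of the extended Čech complex comes from some Koszul complex -/
lemma theta_surj :
    ∀ (fs : List A) (j i : ℤ) (h : i = j + fs.length) (c : (extCech M fs).X i),
      ∃ (n : ℕ) (x : (Kn M n fs).X j), theta M n fs j i h x = c := by
  intro fs
  induction fs with
  | nil =>
    intro j i h c
    have hji : j = i := by simpa using h.symm
    subst hji
    exact ⟨0, c, by simp [theta]; rfl⟩
  | cons f fs ih =>
    intro j i h c
    have hr : i = (j + 1) + fs.length := by
      simp only [List.length_cons, Nat.cast_succ] at h; lia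
    have hr0 : i - 1 = j + fs.length := by lia
    obtain ⟨n1, a1, ha1⟩ := ih (j + 1) i hr (eF M f fs i c)
    obtain ⟨z, s, hzs⟩ := exists_lmk (Submonoid.powers f) (extCech M fs) (i - 1)
      (eS M f fs i (i - 1) (by lia) c)
    obtain ⟨k, hk⟩ : ∃ k : ℕ, s = pw f k := by
      obtain ⟨k, hk⟩ := s.2
      exact ⟨k, Subtype.ext hk.symm⟩
    obtain ⟨n2, b2, hb2⟩ := ih j (i - 1) hr0 z
    -- the common stage
    obtain ⟨N, hN1, hN2, hNk⟩ : ∃ N : ℕ, n1 ≤ N ∧ n2 ≤ N ∧ k ≤ N :=
      ⟨max n1 (max n2 k), le_max_left _ _, (le_max_left _ _).trans (le_max_right _ _),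
        (le_max_right _ _).trans (le_max_right _ _)⟩
    obtain ⟨x, hx⟩ : ∃ x : (Kn M N (f :: fs)).X j, x =
        kL M N f fs (j + 1) j (by lia) (((koszulTrans M n1 N hN1 fs).f (j + 1)).hom a1) +
        kR M N f fs j ((eps fs.length : A) • f ^ (N - k) •
          ((koszulTrans M n2 N hN2 fs).f j).hom b2) := ⟨_, rfl⟩
    have hF : kF M N f fs j (j + 1) rfl x = ((koszulTrans M n1 N hN1 fs).f (j + 1)).hom a1 := by
      rw [hx, map_add, kF_kL, kF_kR, add_zero]
    have hS : kS M N f fs j x =
        (eps fs.length : A) • f ^ (N - k) • ((koszulTrans M n2 N hN2 fs).f j).hom b2 := by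
      rw [hx, map_add, kS_kL, kS_kR, zero_add]
    refine ⟨N, x, ?_⟩
    rw [theta_cons M N f fs j (j + 1) i (i - 1) rfl (by lia) h, hF, hS, theta_trans, ha1,
      map_smul, map_smul, theta_trans, hb2]
    have h1 : lmk (Submonoid.powers f) (extCech M fs) (i - 1)
        ((eps fs.length : A) • f ^ (N - k) • z) (pw f N) =
        (eps fs.length : A) • eS M f fs i (i - 1) (by lia) c := by
      rw [← smul_lmk, hzs, hk]
      congr 1
      have hp : pw f N = pw f (N - k) * pw f k := by
        rw [pw_mul, Nat.sub_add_cancel hNk]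
      rw [hp]
      exact lmk_cancel (Submonoid.powers f) (extCech M fs) (i - 1) z (pw f k) (pw f (N - k))
    rw [h1, map_smul, smul_smul, eps_mul_eps, one_smul]
    exact eL_eF_add_eR_eS M f fs i (i - 1) (by lia) c

/-- an element of a Koszul complex dying in the extended Čech complex dies at a later stage -/
lemma theta_inj (n : ℕ) :
    ∀ (fs : List A) (j i : ℤ) (h : i = j + fs.length) (x : (Kn M n fs).X j),
      theta M n fs j i h x = 0 →
        ∃ (m : ℕ) (hm : n ≤ m), ((koszulTrans M n m hm fs).f j).hom x = 0 := by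
  intro fs
  induction fs with
  | nil =>
    intro j i h x hx
    have hji : j = i := by simpa using h.symm
    subst hji
    refine ⟨n, le_rfl, ?_⟩
    have : x = 0 := by
      simp [theta] at hx
      exact hx
    rw [this, map_zero]
  | cons f fs ih =>
    intro j i h x hx
    have hr : i = (j + 1) + fs.length := by
      simp only [List.length_cons, Nat.cast_succ] at h; lia
    have hr0 : i - 1 = j + fs.length := by lia
    rw [theta_cons M n f fs j (j + 1) i (i - 1) rfl (by lia) h] at hx
    have hx1 := congrArg (eF M f fs i) hx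
    have hx2 := congrArg (eS M f fs i (i - 1) (by lia)) hx
    simp only [map_add, map_smul, eF_eL, eF_eR, eS_eL, eS_eR, smul_zero, add_zero, zero_add,
      map_zero] at hx1 hx2
    -- the second component
    have hx3 : lmk (Submonoid.powers f) (extCech M fs) (i - 1)
        (theta M n fs j (i - 1) hr0 (kS M n f fs j x)) (pw f n) = 0 := by
      have := congrArg (fun t => (eps fs.length : A) • t) hx2
      simpa only [smul_smul, eps_mul_eps, one_smul, smul_zero] using this
    rw [lmk_eq_zero_iff] at hx3
    obtain ⟨t, ht⟩ := hx3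
    obtain ⟨k, hk⟩ : ∃ k : ℕ, t = pw f k := by
      obtain ⟨k, hk⟩ := t.2
      exact ⟨k, Subtype.ext hk.symm⟩
    have ht' : theta M n fs j (i - 1) hr0 (f ^ k • kS M n f fs j x) = 0 := by
      rw [map_smul]
      rw [hk] at ht
      exact ht
    obtain ⟨m1, hm1, h1⟩ := ih (j + 1) i hr _ hx1
    obtain ⟨m2, hm2, h2⟩ := ih j (i - 1) hr0 _ ht'
    obtain ⟨N, hN1, hN2, hNk⟩ : ∃ N : ℕ, m1 ≤ N ∧ m2 ≤ N ∧ n + k ≤ N :=
      ⟨max m1 (max m2 (n + k)), le_max_left _ _, (le_max_left _ _).trans (le_max_right _ _),
        (le_max_right _ _).trans (le_max_right _ _)⟩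
    have hnN : n ≤ N := hm1.trans hN1
    refine ⟨N, hnN, ?_⟩
    apply k_ext M N f fs j (j + 1) rfl
    · rw [kF_trans, map_zero, ← koszulTrans_trans M n m1 N hm1 hN1, h1, map_zero]
    · rw [kS_trans, map_zero, ← koszulTrans_trans M n m2 N hm2 hN2]
      have hpow : f ^ (N - n) = f ^ (N - n - k) * f ^ k := by
        rw [← pow_add]; congr 1; lia
      have h2' : f ^ k • ((koszulTrans M n m2 hm2 fs).f j).hom (kS M n f fs j x) = 0 := by
        rw [← map_smul]; exact h2
      rw [hpow, mul_smul, ← map_smul ((koszulTrans M m2 N hN2 fs).f j).hom, h2', map_zero, smul_zero]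

end Groth.Agent.Lib.helper2.KC
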