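import Mathlib
import Groth.Agent.Lib.Helper2.KC4

/-!
# helper2: the colimit of the Koszul cohomology of powers is the extended Čech cohomology
-/

set_option autoImplicit false
universe u

open CategoryTheory CategoryTheory.Limits HomologicalComplex CochainComplex HomComplex

namespace Groth.Agent.Lib.helper2.KC

open CohIII DerCA Groth.Agent.Lib.helper2.CxH Groth.Agent.Lib.helper2.Cocone
  Groth.Agent.Lib.helper2.Cone Groth.Agent.Lib.helper2.ExtCech

variable {A : Type u} [CommRing A]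

section Twisted

variable {K C : CochainComplex (ModuleCat.{u} A) ℤ} (jm j jp im i ip : ℤ)
  (hjm : jm + 1 = j) (hjp : j + 1 = jp) (him : im + 1 = i) (hip : i + 1 = ip)
  (tm : K.X jm →ₗ[A] C.X im) (t0 : K.X j →ₗ[A] C.X i) (tp : K.X jp →ₗ[A] C.X ip) (ε : A)
  (hε : ε * ε = 1)
  (c1 : ∀ y, t0 ((K.d jm j).hom y) = ε • (C.d im i).hom (tm y))
  (c2 : ∀ x, tp ((K.d j jp).hom x) = ε • (C.d i ip).hom (t0 x))

include hε c2 in
lemma twisted_mem_Zc (z : Zc K j jp) : t0 z.1 ∈ Zc C i ip := by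
  rw [mem_Zc]
  have h := c2 z.1
  rw [(mem_Zc z.1).1 z.2, map_zero] at h
  have h2 := congrArg (fun t => ε • t) h
  simp only [smul_zero, smul_smul, hε, one_smul] at h2
  exact h2.symm

/-- the map on cocycles -/
noncomputable def twistedZ : Zc K j jp →ₗ[A] Zc C i ip :=
  (t0.comp (Zc K j jp).subtype).codRestrict (Zc C i ip)
    (fun z => twisted_mem_Zc j jp i ip t0 tp ε hε c2 z)

include hjm him c1 in
lemma twisted_ker_le :
    LinearMap.ker (cls K j jp hjp) ≤
      LinearMap.ker ((cls C i ip hip).comp (twistedZ j jp i ip t0 tp ε hε c2)) := by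
  intro z hz
  rw [LinearMap.mem_ker] at hz ⊢
  rw [cls_eq_zero_iff K jm j jp hjm hjp] at hz
  obtain ⟨y, hy⟩ := hz
  rw [LinearMap.comp_apply, cls_eq_zero_iff C im i ip him hip]
  refine ⟨ε • tm y, ?_⟩
  rw [map_smul, ← c1 y, hy]
  rfl

/-- the induced map on homology -/
noncomputable def twistedH : K.homology j →ₗ[A] C.homology i :=
  ((LinearMap.ker (cls K j jp hjp)).liftQ
      ((cls C i ip hip).comp (twistedZ j jp i ip t0 tp ε hε c2))
      (twisted_ker_le jm j jp im i ip hjm hjp him hip tm t0 tp ε hε c1 c2)).comp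
    (LinearMap.quotKerEquivOfSurjective (cls K j jp hjp)
      (cls_surjective K j jp hjp)).symm.toLinearMap

lemma twistedH_cls (z : Zc K j jp) :
    twistedH jm j jp im i ip hjm hjp him hip tm t0 tp ε hε c1 c2 (cls K j jp hjp z) =
      cls C i ip hip ⟨t0 z.1, twisted_mem_Zc j jp i ip t0 tp ε hε c2 z⟩ := by
  have h : (LinearMap.quotKerEquivOfSurjective (cls K j jp hjp)
      (cls_surjective K j jp hjp)).symm (cls K j jp hjp z) = Submodule.Quotient.mk z := by
    rw [LinearEquiv.symm_apply_eq]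
    rfl
  unfold twistedH
  rw [LinearMap.comp_apply, LinearEquiv.coe_coe, h, Submodule.liftQ_apply]
  rfl

end Twisted


variable (M : ModuleCat.{u} A)

/-- the maps `H^j(K(f^n; M)) → H^i(Č(f; M))` -/
noncomputable def kcH (fs : List A) (n : ℕ) (j i : ℤ) (h : i = j + fs.length) :
    (Kn M n fs).homology j →ₗ[A] (extCech M fs).homology i :=
  twistedH (j - 1) j (j + 1) (i - 1) i (i + 1) (by ring) rfl (by ring) rfl
    (theta M n fs (j - 1) (i - 1) (by lia)) (theta M n fs j i h)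
    (theta M n fs (j + 1) (i + 1) (by lia))
    (eps fs.length) (eps_mul_eps _)
    (fun y => theta_d M n fs (j - 1) j (i - 1) i (by ring) (by ring) (by lia) y)
    (fun x => theta_d M n fs j (j + 1) i (i + 1) rfl rfl h x)

lemma theta_mem_Zc (fs : List A) (n : ℕ) (j i : ℤ) (h : i = j + fs.length)
    (z : Zc (Kn M n fs) j (j + 1)) : theta M n fs j i h z.1 ∈ Zc (extCech M fs) i (i + 1) :=
  twisted_mem_Zc j (j + 1) i (i + 1) (theta M n fs j i h) (theta M n fs (j + 1) (i + 1) (by lia))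
    (eps fs.length) (eps_mul_eps _) (fun x => theta_d M n fs j (j + 1) i (i + 1) rfl rfl h x) z

lemma kcH_cls (fs : List A) (n : ℕ) (j i : ℤ) (h : i = j + fs.length)
    (z : Zc (Kn M n fs) j (j + 1)) :
    kcH M fs n j i h (cls (Kn M n fs) j (j + 1) rfl z) =
      cls (extCech M fs) i (i + 1) rfl ⟨theta M n fs j i h z.1, theta_mem_Zc M fs n j i h z⟩ :=
  twistedH_cls _ _ _ _ _ _ _ _ _ _ _ _ _ _ _ _ _ z

lemma kcH_trans (fs : List A) (n m : ℕ) (hnm : n ≤ m) (j i : ℤ) (h : i = j + fs.length)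
    (x : (Kn M n fs).homology j) :
    kcH M fs m j i h ((HomologicalComplex.homologyMap (koszulTrans M n m hnm fs) j).hom x) =
      kcH M fs n j i h x := by
  obtain ⟨z, rfl⟩ := cls_surjective (Kn M n fs) j (j + 1) rfl x
  rw [homologyMap_cls, kcH_cls, kcH_cls]
  congr 1
  apply Subtype.ext
  exact theta_trans M n m hnm fs j i h z.1

lemma kcH_surj (fs : List A) (j i : ℤ) (h : i = j + fs.length)
    (y : (extCech M fs).homology i) :
    ∃ (n : ℕ) (x : (Kn M n fs).homology j), kcH M fs n j i h x = y := by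
  obtain ⟨c, rfl⟩ := cls_surjective (extCech M fs) i (i + 1) rfl y
  obtain ⟨n, x₀, hx₀⟩ := theta_surj M fs j i h c.1
  have h1 : theta M n fs (j + 1) (i + 1) (by lia) (((Kn M n fs).d j (j + 1)).hom x₀) = 0 := by
    rw [theta_d M n fs j (j + 1) i (i + 1) rfl rfl h, hx₀, (mem_Zc c.1).1 c.2, smul_zero]
  obtain ⟨m, hm, h2⟩ := theta_inj M n fs (j + 1) (i + 1) (by lia) _ h1
  have hz : ((koszulTrans M n m hm fs).f j).hom x₀ ∈ Zc (Kn M m fs) j (j + 1) := by
    rw [mem_Zc]
    have hc := congrArg (fun t => t.hom x₀) ((koszulTrans M n m hm fs).comm j (j + 1))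
    have hc' : ((Kn M m fs).d j (j + 1)).hom (((koszulTrans M n m hm fs).f j).hom x₀) =
        ((koszulTrans M n m hm fs).f (j + 1)).hom (((Kn M n fs).d j (j + 1)).hom x₀) := hc
    rw [hc', h2]
  refine ⟨m, cls (Kn M m fs) j (j + 1) rfl ⟨_, hz⟩, ?_⟩
  rw [kcH_cls]
  congr 1
  apply Subtype.ext
  show theta M m fs j i h (((koszulTrans M n m hm fs).f j).hom x₀) = c.1
  rw [theta_trans, hx₀]

lemma kcH_inj (fs : List A) (n : ℕ) (j i : ℤ) (h : i = j + fs.length)
    (x : (Kn M n fs).homology j) (hx : kcH M fs n j i h x = 0) :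
    ∃ (m : ℕ) (hm : n ≤ m),
      (HomologicalComplex.homologyMap (koszulTrans M n m hm fs) j).hom x = 0 := by
  obtain ⟨z, rfl⟩ := cls_surjective (Kn M n fs) j (j + 1) rfl x
  rw [kcH_cls, cls_eq_zero_iff (extCech M fs) (i - 1) i (i + 1) (by ring) rfl] at hx
  obtain ⟨c', hc'⟩ := hx
  have hc'' : ((extCech M fs).d (i - 1) i).hom c' = theta M n fs j i h z.1 := hc'
  obtain ⟨n', w, hw⟩ := theta_surj M fs (j - 1) (i - 1) (by lia) c'
  obtain ⟨N, hN, hN'⟩ : ∃ N : ℕ, n ≤ N ∧ n' ≤ N := ⟨max n n', le_max_left _ _, le_max_right _ _⟩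
  have h1 : theta M N fs j i h (((koszulTrans M n N hN fs).f j).hom z.1 -
      (eps fs.length : A) • ((Kn M N fs).d (j - 1) j).hom
        (((koszulTrans M n' N hN' fs).f (j - 1)).hom w)) = 0 := by
    rw [map_sub, map_smul, theta_trans,
      theta_d M N fs (j - 1) j (i - 1) i (by ring) (by ring) (by lia), theta_trans, hw, smul_smul,
      eps_mul_eps, one_smul, hc'', sub_self]
  obtain ⟨m, hm, h2⟩ := theta_inj M N fs j i h _ h1
  refine ⟨m, hN.trans hm, ?_⟩
  rw [homologyMap_cls, cls_eq_zero_iff (Kn M m fs) (j - 1) j (j + 1) (by ring) rfl]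
  refine ⟨(eps fs.length : A) • ((koszulTrans M n' m (hN'.trans hm) fs).f (j - 1)).hom w, ?_⟩
  show _ = ((koszulTrans M n m (hN.trans hm) fs).f j).hom z.1
  rw [map_sub, map_smul, koszulTrans_trans, sub_eq_zero] at h2
  rw [h2, map_smul]
  congr 1
  have hc := congrArg (fun t => t.hom (((koszulTrans M n' N hN' fs).f (j - 1)).hom w))
    ((koszulTrans M N m hm fs).comm (j - 1) j)
  have hc2 : ((Kn M m fs).d (j - 1) j).hom (((koszulTrans M N m hm fs).f (j - 1)).hom
      (((koszulTrans M n' N hN' fs).f (j - 1)).hom w)) =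
      ((koszulTrans M N m hm fs).f j).hom (((Kn M N fs).d (j - 1) j).hom
        (((koszulTrans M n' N hN' fs).f (j - 1)).hom w)) := hc
  rw [← hc2, koszulTrans_trans]

end Groth.Agent.Lib.helper2.KC
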