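import Mathlib
import Groth.Prelude.Def_Wider
import Groth.Agent.Lib.Helper2.KC5
import Groth.Agent.Lib.Helper2.ExtCech8

/-!
# helper2: the colimit of the Koszul cohomology of powers is the extended Čech cohomology (final)
-/

set_option autoImplicit false
universe u

open CategoryTheory CategoryTheory.Limits HomologicalComplex CochainComplex HomComplex

namespace Groth.Agent.Lib.helper2.KC

open CohIII DerCA Groth.Agent.Lib.helper2.CxH Groth.Agent.Lib.helper2.ExtCech

variable {A : Type u} [CommRing A] (M : ModuleCat.{u} A)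

/-- the comparison map from the colimit of Koszul cohomology to extended Čech cohomology -/
noncomputable def kcLim (fs : List A) (p : ℕ) :
    koszulHLim fs M p →ₗ[A] extCechH fs M (p : ℤ) :=
  Module.DirectLimit.lift A ℕ (fun n : ℕ => (koszulHPow fs M p n : Type u))
    (fun n m h => (HomologicalComplex.homologyMap (koszulTrans M n m h fs)
      ((p : ℤ) - fs.length)).hom)
    (fun n => kcH M fs n ((p : ℤ) - fs.length) (p : ℤ) (by ring))
    (fun n m h x => kcH_trans M fs n m h _ _ _ x)

lemma kcLim_bijective (fs : List A) (p : ℕ) : Function.Bijective (kcLim M fs p) := by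
  constructor
  · rw [← LinearMap.ker_eq_bot, LinearMap.ker_eq_bot']
    intro z hz
    obtain ⟨n, x, rfl⟩ := Module.DirectLimit.exists_of z
    have hx : kcH M fs n ((p : ℤ) - fs.length) (p : ℤ) (by ring) x = 0 := by
      have := Module.DirectLimit.lift_of (R := A) (ι := ℕ)
        (G := fun n : ℕ => (koszulHPow fs M p n : Type u))
        (f := fun n m h => (HomologicalComplex.homologyMap (koszulTrans M n m h fs)
          ((p : ℤ) - fs.length)).hom)
        (fun n => kcH M fs n ((p : ℤ) - fs.length) (p : ℤ) (by ring))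
        (fun n m h x => kcH_trans M fs n m h _ _ _ x) x
      rw [← this]
      exact hz
    obtain ⟨m, hm, h0⟩ := kcH_inj M fs n _ _ _ x hx
    rw [← Module.DirectLimit.of_f (hij := hm), h0, map_zero]
    rfl
  · intro y
    obtain ⟨n, x, hx⟩ := kcH_surj M fs ((p : ℤ) - fs.length) (p : ℤ) (by ring) y
    refine ⟨Module.DirectLimit.of A ℕ (fun n : ℕ => (koszulHPow fs M p n : Type u))
      (fun n m h => (HomologicalComplex.homologyMap (koszulTrans M n m h fs)
        ((p : ℤ) - fs.length)).hom) n x, ?_⟩
    rw [← hx]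
    exact Module.DirectLimit.lift_of (R := A) (ι := ℕ)
      (G := fun n : ℕ => (koszulHPow fs M p n : Type u))
      (f := fun n m h => (HomologicalComplex.homologyMap (koszulTrans M n m h fs)
        ((p : ℤ) - fs.length)).hom)
      (fun n => kcH M fs n ((p : ℤ) - fs.length) (p : ℤ) (by ring))
      (fun n m h x => kcH_trans M fs n m h _ _ _ x) x

/-- `colim_n H^p(f^n; M) ≃ H^p(Č(f; M))` -/
noncomputable def kcEquiv (fs : List A) (p : ℕ) :
    koszulHLim fs M p ≃ₗ[A] extCechH fs M (p : ℤ) :=
  LinearEquiv.ofBijective (kcLim M fs p) (kcLim_bijective M fs p)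

/-- S5173 -/
theorem localCohomology_equiv_koszulHLim [IsNoetherianRing A] (fs : List A) (N : Type u)
    [AddCommGroup N] [Module A N] (i : ℕ) :
    Nonempty (LocCoh.H (Ideal.span {a | a ∈ fs}) i N ≃ₗ[A]
      koszulHLim fs (ModuleCat.of A N) i) := by
  obtain ⟨e⟩ := cech_iso fs i (ModuleCat.of A N)
  exact ⟨e.symm.trans (kcEquiv (ModuleCat.of A N) fs i).symm⟩

/-- S5169 -/
theorem koszulHLim_subsingleton_of_injective [IsNoetherianRing A] (fs : List A) (E : Type u)
    [AddCommGroup E] [Module A E] [Module.Injective A E] (i : ℕ) (hi : 0 < i) :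
    Subsingleton (koszulHLim fs (ModuleCat.of A E) i) := by
  have hz := isZero_extCechH_pos_of_injective fs E (i : ℤ) (by exact_mod_cast hi)
  haveI : Subsingleton (extCechH fs (ModuleCat.of A E) (i : ℤ)) :=
    ModuleCat.subsingleton_of_isZero hz
  exact (kcEquiv (ModuleCat.of A E) fs i).toEquiv.subsingleton

end Groth.Agent.Lib.helper2.KC
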