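import Mathlib
import Groth.Agent.S0318
import Groth.Agent.S5152
import Groth.Agent.Lib.Helper2.KC6

/-!
# helper2: vanishing of local cohomology / Koszul colimits below `n` and depth of localizations
-/

set_option autoImplicit false
universe u

open CategoryTheory

namespace Groth.Agent.Lib.helper2.DepthLC

variable {A : Type u} [CommRing A] [IsNoetherianRing A] (I : Ideal A)
  (N : Type u) [AddCommGroup N] [Module A N] [Module.Finite A N]

theorem vanish_iff_le_idealDepth (n : ℕ) :
    (∀ i : ℕ, i < n → Subsingleton (LocCoh.H I i N)) ↔ (n : ℕ∞) ≤ LocCoh.idealDepth I N := by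
  constructor
  · intro h
    by_cases hIN : I • (⊤ : Submodule A N) = ⊤
    · unfold LocCoh.idealDepth
      rw [if_pos hIN]
      exact le_top
    · by_contra hlt
      rw [not_le] at hlt
      obtain ⟨m, hm⟩ := ENat.ne_top_iff_exists.1 (ne_top_of_lt hlt)
      rw [← hm] at hlt
      have hmn : m < n := by exact_mod_cast hlt
      have h2 := ((Groth.Agent.S0318.result A I N hIN m).1 hm.symm).2
      have h3 := h m hmn
      exact not_subsingleton _ h3
  · intro h i hi
    apply Groth.Agent.S0318.H_vanish_below I N i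
    exact lt_of_lt_of_le (by exact_mod_cast hi) h

theorem vanish_iff_depth_localization (n : ℕ) :
    (∀ i : ℕ, i < n → Subsingleton (LocCoh.H I i N)) ↔
      ∀ p : PrimeSpectrum A, I ≤ p.asIdeal →
        (n : ℕ∞) ≤ LocCoh.depth (Localization.AtPrime p.asIdeal)
          (LocalizedModule p.asIdeal.primeCompl N) := by
  rw [vanish_iff_le_idealDepth, Groth.Agent.S5152.result A I N]
  simp only [le_iInf_iff]

theorem koszul_vanish_iff_depth_localization (fs : List A) (n : ℕ) :
    (∀ i : ℕ, i < n → Subsingleton (CohIII.koszulHLim fs (ModuleCat.of A N) i)) ↔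
      ∀ p : PrimeSpectrum A, (∀ a ∈ fs, a ∈ p.asIdeal) →
        (n : ℕ∞) ≤ LocCoh.depth (Localization.AtPrime p.asIdeal)
          (LocalizedModule p.asIdeal.primeCompl N) := by
  have h1 : (∀ i : ℕ, i < n → Subsingleton (CohIII.koszulHLim fs (ModuleCat.of A N) i)) ↔
      (∀ i : ℕ, i < n → Subsingleton (LocCoh.H (Ideal.span {a | a ∈ fs}) i N)) := by
    refine forall_congr' fun i => forall_congr' fun _ => ?_
    obtain ⟨e⟩ := Groth.Agent.Lib.helper2.KC.localCohomology_equiv_koszulHLim fs N i
    exact ⟨fun h => e.toEquiv.subsingleton, fun h => e.symm.toEquiv.subsingleton⟩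
  rw [h1, vanish_iff_depth_localization]
  refine forall_congr' fun p => ?_
  have : Ideal.span {a | a ∈ fs} ≤ p.asIdeal ↔ ∀ a ∈ fs, a ∈ p.asIdeal := by
    rw [Ideal.span_le]
    exact Iff.rfl
  rw [this]

end Groth.Agent.Lib.helper2.DepthLC
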