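import Groth.Agent.Lib.Helper2.ModSec

/-!
# Gluing sections of `𝒪_X`-modules (helper2)
-/

universe u
open CategoryTheory CategoryTheory.Limits AlgebraicGeometry TopologicalSpace Opposite

namespace Groth.Agent.Lib.helper2.ModSec

variable {X : Scheme.{u}}

theorem res_comp (M : X.Modules) {U V W : X.Opens} (i : U ⟶ V) (j : V ⟶ W) (k : U ⟶ W)
    (s : Γ(M, W)) :
    M.presheaf.map i.op (M.presheaf.map j.op s) = M.presheaf.map k.op s := by
  rw [Subsingleton.elim k (i ≫ j), op_comp, Functor.map_comp]; rfl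

theorem res_id (M : X.Modules) {U : X.Opens} (i : U ⟶ U) (s : Γ(M, U)) :
    M.presheaf.map i.op s = s := by
  rw [Subsingleton.elim i (𝟙 U), op_id, M.presheaf.map_id]; rfl

theorem sec_ext_cover (M : X.Modules) {ι : Type*} (U : ι → X.Opens) (V : X.Opens)
    (hU : ∀ i, U i ≤ V) (hcov : V ≤ iSup U) (s t : Γ(M, V))
    (h : ∀ i, M.presheaf.map (homOfLE (hU i)).op s = M.presheaf.map (homOfLE (hU i)).op t) :
    s = t :=
  (sheaf M).eq_of_locally_eq' U V (fun i => homOfLE (hU i)) hcov s t h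

theorem sec_bot (M : X.Modules) (s t : Γ(M, (⊥ : X.Opens))) : s = t :=
  sec_ext_cover M (fun i : PEmpty.{1} => i.elim) ⊥ (fun i => i.elim) (by simp) s t (fun i => i.elim)

theorem sec_ext₂ (M : X.Modules) {W₁ W₂ V : X.Opens} (h₁ : W₁ ≤ V) (h₂ : W₂ ≤ V)
    (hcov : V ≤ W₁ ⊔ W₂) (s t : Γ(M, V))
    (e₁ : M.presheaf.map (homOfLE h₁).op s = M.presheaf.map (homOfLE h₁).op t)
    (e₂ : M.presheaf.map (homOfLE h₂).op s = M.presheaf.map (homOfLE h₂).op t) : s = t :=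
  (sheaf M).eq_of_locally_eq₂ (homOfLE h₁) (homOfLE h₂) hcov s t e₁ e₂

theorem glue₂ (M : X.Modules) {W₁ W₂ : X.Opens} (s₁ : Γ(M, W₁)) (s₂ : Γ(M, W₂))
    (h : M.presheaf.map (homOfLE (inf_le_left : W₁ ⊓ W₂ ≤ W₁)).op s₁ =
      M.presheaf.map (homOfLE (inf_le_right : W₁ ⊓ W₂ ≤ W₂)).op s₂) :
    ∃ s : Γ(M, W₁ ⊔ W₂), M.presheaf.map (homOfLE (le_sup_left : W₁ ≤ W₁ ⊔ W₂)).op s = s₁ ∧
      M.presheaf.map (homOfLE (le_sup_right : W₂ ≤ W₁ ⊔ W₂)).op s = s₂ := by
  let U : Bool → X.Opens := fun b => bif b then W₁ else W₂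
  let sf : ∀ b : Bool, Γ(M, U b) := fun b => match b with
    | true => s₁
    | false => s₂
  have hU : ∀ b, U b ≤ W₁ ⊔ W₂ := fun b => by cases b <;> simp [U]
  have hcomp : TopCat.Presheaf.IsCompatible (sheaf M).1 U sf := by
    intro a b
    cases a <;> cases b
    · change M.presheaf.map _ s₂ = M.presheaf.map _ s₂
      rw [Subsingleton.elim (Opens.infLELeft (U false) (U false)) (Opens.infLERight (U false) (U false))]
    · change M.presheaf.map (homOfLE (inf_le_left : W₂ ⊓ W₁ ≤ W₂)).op s₂ =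
        M.presheaf.map (homOfLE (inf_le_right : W₂ ⊓ W₁ ≤ W₁)).op s₁
      have e : W₂ ⊓ W₁ ≤ W₁ ⊓ W₂ := by rw [inf_comm]
      rw [← res_comp M (homOfLE e) (homOfLE inf_le_right) _ s₂,
        ← res_comp M (homOfLE e) (homOfLE inf_le_left) _ s₁, h]
    · exact h
    · change M.presheaf.map _ s₁ = M.presheaf.map _ s₁
      rw [Subsingleton.elim (Opens.infLELeft (U true) (U true)) (Opens.infLERight (U true) (U true))]
  obtain ⟨s, hs, -⟩ := (sheaf M).existsUnique_gluing' U (W₁ ⊔ W₂) (fun b => homOfLE (hU b))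
    (by
      intro x hx
      rcases hx with hx | hx
      · exact Opens.mem_iSup.mpr ⟨true, hx⟩
      · exact Opens.mem_iSup.mpr ⟨false, hx⟩) sf hcomp
  exact ⟨s, hs true, hs false⟩

end Groth.Agent.Lib.helper2.ModSec
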