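import Mathlib
import Groth.Prelude.Def_CohB1
import Groth.Prelude.Def_SecTwist

/-!
# tilde (M ⊗ N) ≅ tensorMod (tilde M) (tilde N)   (helper2, LT5)

* `isIso_sheafify_map_of_bijective_on_basis`: basis criterion for a map of presheaves of modules to be
  inverted by sheafification.
* `bil`, `pairFun`, `pairHom`: the pointwise pairing `M^~(U) ⊗ N^~(U) → (M ⊗ N)^~(U)`.
* `pairHomApp_bijective`: it is bijective on basic opens.
* `tildeTensorIso`.
-/

set_option autoImplicit false
universe u
open CategoryTheory CategoryTheory.Limits AlgebraicGeometry Opposite TopologicalSpace TensorProduct MonoidalCategory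

namespace Groth.Agent.Lib.helper2.TildeTensor

noncomputable section


variable {X : Scheme.{u}}

/-- Basis criterion: a morphism of presheaves of modules which is bijective on a basis of opens
is inverted by sheafification. -/
theorem isIso_sheafify_map_of_bijective_on_basis
    {P Q : X.PresheafOfModules} (φ : P ⟶ Q)
    (B : Set X.Opens) (hB : Opens.IsBasis B)
    (hφ : ∀ V ∈ B, Function.Bijective (φ.app (op V)).hom) :
    IsIso ((CohB1.sheafifyMod X).map φ) := by
  let J := Opens.grothendieckTopology X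
  let ψ := (PresheafOfModules.toPresheaf _).map φ
  have hnat : ∀ {U V : X.Opens} (i : V ⟶ U) (x : P.obj (op U)),
      (φ.app (op V)).hom (P.map i.op x) = Q.map i.op ((φ.app (op U)).hom x) := by
    intro U V i x
    exact (PresheafOfModules.naturality_apply φ i.op x)
  rw [Opens.isBasis_iff_nbhd] at hB
  have h1 : Presheaf.IsLocallyInjective J ψ := by
    constructor
    intro U x y h
    intro pt hpt
    obtain ⟨V, hVB, hptV, hVU⟩ := hB hpt
    refine ⟨V, homOfLE hVU, ?_, hptV⟩
    apply (hφ V hVB).1
    have e1 := hnat (homOfLE hVU) x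
    have e2 := hnat (homOfLE hVU) y
    have h' : (φ.app U).hom x = (φ.app U).hom y := h
    refine e1.trans (Eq.trans ?_ e2.symm)
    exact congrArg _ h'
  have h2 : Presheaf.IsLocallySurjective J ψ := by
    constructor
    intro U s
    intro pt hpt
    obtain ⟨V, hVB, hptV, hVU⟩ := hB hpt
    refine ⟨V, homOfLE hVU, ?_, hptV⟩
    obtain ⟨t, ht⟩ := (hφ V hVB).2 (Q.map (homOfLE hVU).op s)
    exact ⟨t, ht⟩
  have hW : J.W ψ := GrothendieckTopology.W_of_isLocallyBijective J ψ
  have h3 : IsIso ((presheafToSheaf J AddCommGrpCat).map ψ) := (J.W_iff ψ).1 hW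
  have h4 : IsIso ((Scheme.Modules.toPresheaf X).map ((CohB1.sheafifyMod X).map φ)) :=
    (inferInstance : IsIso ((sheafToPresheaf J AddCommGrpCat).map
      ((presheafToSheaf J AddCommGrpCat).map ψ)))
  exact isIso_of_reflects_iso _ (Scheme.Modules.toPresheaf X)



section Bil
variable {R : Type u} [CommRing R] (S : Submonoid R) (M N : Type u) [AddCommGroup M] [Module R M]
  [AddCommGroup N] [Module R N]

def locTensorEquiv : LocalizedModule S M ⊗[R] LocalizedModule S N ≃ₗ[R] LocalizedModule S (M ⊗[R] N) :=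
  IsLocalizedModule.linearEquiv S
    (TensorProduct.map (LocalizedModule.mkLinearMap S M) (LocalizedModule.mkLinearMap S N))
    (LocalizedModule.mkLinearMap S (M ⊗[R] N))

def bil : LocalizedModule S M →ₗ[R] LocalizedModule S N →ₗ[R] LocalizedModule S (M ⊗[R] N) :=
  (TensorProduct.mk R _ _).compr₂ (locTensorEquiv S M N).toLinearMap

lemma bil_mk_one (m : M) (n : N) :
    bil S M N (LocalizedModule.mk m 1) (LocalizedModule.mk n 1) = LocalizedModule.mk (m ⊗ₜ[R] n) 1 := by
  unfold bil locTensorEquiv
  simp only [LinearMap.compr₂_apply, TensorProduct.mk_apply, LinearEquiv.coe_coe]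
  have := IsLocalizedModule.linearEquiv_apply S
    (TensorProduct.map (LocalizedModule.mkLinearMap S M) (LocalizedModule.mkLinearMap S N))
    (LocalizedModule.mkLinearMap S (M ⊗[R] N)) (m ⊗ₜ n)
  exact this

lemma bil_mk (m : M) (n : N) (s t : S) :
    bil S M N (LocalizedModule.mk m s) (LocalizedModule.mk n t) =
      LocalizedModule.mk (m ⊗ₜ[R] n) (s * t) := by
  apply IsLocalizedModule.smul_injective (LocalizedModule.mkLinearMap S (M ⊗[R] N)) (s * t)
  dsimp only
  have e1 : (s * t) • LocalizedModule.mk (m ⊗ₜ[R] n) (s * t) = LocalizedModule.mk (m ⊗ₜ[R] n) 1 := by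
    rw [Submonoid.smul_def, LocalizedModule.smul'_mk, ← Submonoid.smul_def,
      LocalizedModule.mk_cancel]
  have e2 : (s : R) • LocalizedModule.mk m s = LocalizedModule.mk m (1 : S) := by
    rw [LocalizedModule.smul'_mk, ← Submonoid.smul_def, LocalizedModule.mk_cancel]
  have e3 : (t : R) • LocalizedModule.mk n t = LocalizedModule.mk n (1 : S) := by
    rw [LocalizedModule.smul'_mk, ← Submonoid.smul_def, LocalizedModule.mk_cancel]
  rw [e1, ← bil_mk_one, ← e2, ← e3, LinearMap.map_smul, LinearMap.map_smul₂, smul_smul,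
    Submonoid.smul_def, Submonoid.coe_mul, mul_comm]

lemma bil_smul_left (a : Localization S) (x : LocalizedModule S M) (y : LocalizedModule S N) :
    bil S M N (a • x) y = a • bil S M N x y := by
  have := (LinearMap.extendScalarsOfIsLocalization S (Localization S) ((bil S M N).flip y)).map_smul a x
  exact this

lemma bil_smul_right (a : Localization S) (x : LocalizedModule S M) (y : LocalizedModule S N) :
    bil S M N x (a • y) = a • bil S M N x y := by
  have := (LinearMap.extendScalarsOfIsLocalization S (Localization S) (bil S M N x)).map_smul a y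
  exact this

end Bil

section Pair
open AlgebraicGeometry.StructureSheaf
variable {R : Type u} [CommRing R] (M N : Type u) [AddCommGroup M] [Module R M]
  [AddCommGroup N] [Module R N]

/-- pointwise pairing of sections of `M^~` and `N^~` into `(M ⊗ N)^~`. -/
def pairFun (U : Opens (PrimeSpectrum.Top R))
    (s : (structureSheafInType R M).obj.obj (op U)) (t : (structureSheafInType R N).obj.obj (op U)) :
    (structureSheafInType R (M ⊗[R] N)).obj.obj (op U) :=
  ⟨fun x => bil x.1.asIdeal.primeCompl M N (s.1 x) (t.1 x), by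
    intro x
    obtain ⟨Va, ma, ia, ra, sa, wa⟩ := s.2 x
    obtain ⟨Vb, mb, ib, rb, sb, wb⟩ := t.2 x
    refine ⟨Va ⊓ Vb, ⟨ma, mb⟩, Opens.infLELeft _ _ ≫ ia, ra ⊗ₜ[R] rb, sa * sb, fun y ↦ ?_⟩
    obtain ⟨hsay, hsa⟩ := wa ⟨y.1, y.2.1⟩
    obtain ⟨hsby, hsb⟩ := wb ⟨y.1, y.2.2⟩
    refine ⟨y.1.asIdeal.primeCompl.mul_mem hsay hsby, ?_⟩
    have := bil_mk y.1.asIdeal.primeCompl M N ra rb ⟨sa, hsay⟩ ⟨sb, hsby⟩
    refine Eq.trans ?_ this
    exact congr(bil y.1.asIdeal.primeCompl M N $hsa $hsb)⟩

@[simp] lemma pairFun_apply (U : Opens (PrimeSpectrum.Top R))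
    (s : (structureSheafInType R M).obj.obj (op U)) (t : (structureSheafInType R N).obj.obj (op U))
    (x : U) : (pairFun M N U s t).1 x = bil x.1.asIdeal.primeCompl M N (s.1 x) (t.1 x) := rfl

lemma pairFun_add_left (U : Opens (PrimeSpectrum.Top R))
    (s s' : (structureSheafInType R M).obj.obj (op U)) (t : (structureSheafInType R N).obj.obj (op U)) :
    pairFun M N U (s + s') t = pairFun M N U s t + pairFun M N U s' t :=
  Subtype.ext <| funext fun x => by simp

lemma pairFun_add_right (U : Opens (PrimeSpectrum.Top R))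
    (s : (structureSheafInType R M).obj.obj (op U)) (t t' : (structureSheafInType R N).obj.obj (op U)) :
    pairFun M N U s (t + t') = pairFun M N U s t + pairFun M N U s t' :=
  Subtype.ext <| funext fun x => by simp

lemma pairFun_smul_left (U : Opens (PrimeSpectrum.Top R))
    (r : (structureSheafInType R R).obj.obj (op U))
    (s : (structureSheafInType R M).obj.obj (op U)) (t : (structureSheafInType R N).obj.obj (op U)) :
    pairFun M N U (r • s) t = r • pairFun M N U s t :=
  Subtype.ext <| funext fun x => bil_smul_left x.1.asIdeal.primeCompl M N (r.1 x) (s.1 x) (t.1 x)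

lemma pairFun_smul_right (U : Opens (PrimeSpectrum.Top R))
    (r : (structureSheafInType R R).obj.obj (op U))
    (s : (structureSheafInType R M).obj.obj (op U)) (t : (structureSheafInType R N).obj.obj (op U)) :
    pairFun M N U s (r • t) = r • pairFun M N U s t :=
  Subtype.ext <| funext fun x => bil_smul_right x.1.asIdeal.primeCompl M N (r.1 x) (s.1 x) (t.1 x)

lemma pairFun_res {U V : Opens (PrimeSpectrum.Top R)} (i : V ⟶ U)
    (s : (structureSheafInType R M).obj.obj (op U)) (t : (structureSheafInType R N).obj.obj (op U)) :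
    (structureSheafInType R (M ⊗[R] N)).obj.map i.op (pairFun M N U s t) =
      pairFun M N V ((structureSheafInType R M).obj.map i.op s)
        ((structureSheafInType R N).obj.map i.op t) := rfl

lemma pairFun_const (U : Opens (PrimeSpectrum.Top R)) (m : M) (n : N) (f g : R)
    (hf : U ≤ PrimeSpectrum.basicOpen f) (hg : U ≤ PrimeSpectrum.basicOpen g) :
    pairFun M N U (const m f U hf) (const n g U hg) =
      const (m ⊗ₜ[R] n) (f * g) U (by rw [PrimeSpectrum.basicOpen_mul]; exact le_inf hf hg) :=
  Subtype.ext <| funext fun x => bil_mk x.1.asIdeal.primeCompl M N m n ⟨f, hf x.2⟩ ⟨g, hg x.2⟩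

end Pair



variable {R : CommRingCat.{u}} (M N : ModuleCat.{u} R)



def pairHomApp (U : (Opens (PrimeSpectrum.Top R))ᵒᵖ) :
    (CohB1.tensorPre (tilde M) (tilde N)).obj U ⟶
      (CohB1.toPMod (tilde (ModuleCat.of R (M ⊗[R] N)))).obj U :=
  ModuleCat.MonoidalCategory.tensorLift (M₁ := (CohB1.toPMod (tilde M)).obj U)
    (M₂ := (CohB1.toPMod (tilde N)).obj U)
    (fun s t => pairFun M N U.unop s t)
    (fun s s' t => pairFun_add_left M N U.unop s s' t)
    (fun r s t => pairFun_smul_left M N U.unop r s t)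
    (fun s t t' => pairFun_add_right M N U.unop s t t')
    (fun r s t => pairFun_smul_right M N U.unop r s t)

lemma pairHomApp_tmul (U : (Opens (PrimeSpectrum.Top R))ᵒᵖ)
    (s : (CohB1.toPMod (tilde M)).obj U) (t : (CohB1.toPMod (tilde N)).obj U) :
    (pairHomApp M N U).hom (s ⊗ₜ t) = pairFun M N U.unop s t := rfl

def pairHom : (CohB1.tensorPre (tilde M) (tilde N) : (Spec R).PresheafOfModules) ⟶
    (tilde (ModuleCat.of R (M ⊗[R] N))).val where
  app U := pairHomApp M N U
  naturality {U V} f := by
    refine ModuleCat.MonoidalCategory.tensor_ext (fun s t => ?_)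
    rfl

section Bij

lemma bijective_of_isLocalizedModule {R₀ : Type*} [CommRing R₀] (S : Submonoid R₀)
    {X Y Z : Type*} [AddCommGroup X] [Module R₀ X] [AddCommGroup Y] [Module R₀ Y]
    [AddCommGroup Z] [Module R₀ Z] (F : X →ₗ[R₀] Y) (G : X →ₗ[R₀] Z)
    [IsLocalizedModule S F] [IsLocalizedModule S G] (P : Y →ₗ[R₀] Z) (h : P ∘ₗ F = G) :
    Function.Bijective P := by
  have : P = (IsLocalizedModule.linearEquiv S F G).toLinearMap :=
    IsLocalizedModule.ext S F (IsLocalizedModule.map_units G) (by
      rw [h]; ext x; simp [IsLocalizedModule.linearEquiv_apply])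
  rw [this]; exact LinearEquiv.bijective _

open AlgebraicGeometry.StructureSheaf in
theorem pairHomApp_bijective (f : R) :
    Function.Bijective (pairHomApp M N (op (PrimeSpectrum.basicOpen f))).hom := by
  let U : Opens (PrimeSpectrum.Top R) := PrimeSpectrum.basicOpen f
  let A := (structureSheafInType R R).obj.obj (op U)
  let Mf := (structureSheafInType R M).obj.obj (op U)
  let Nf := (structureSheafInType R N).obj.obj (op U)
  let Tf := (structureSheafInType R (M ⊗[R] N)).obj.obj (op U)
  let S := Submonoid.powers (f : R)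
  haveI : IsLocalization S A := inferInstanceAs (IsLocalization.Away (f : R) A)
  let e : Mf ⊗[A] Nf ≃ₗ[A] Mf ⊗[R] Nf := IsLocalization.moduleTensorEquiv S A Mf Nf
  let P : Mf ⊗[A] Nf →ₗ[A] Tf := (pairHomApp M N (op U)).hom
  let P' : Mf ⊗[R] Nf →ₗ[R] Tf :=
    (P.restrictScalars R) ∘ₗ (e.symm.restrictScalars R).toLinearMap
  haveI : IsLocalizedModule S (toOpenₗ R M U) :=
    inferInstanceAs (IsLocalizedModule.Away (f : R) (toOpenₗ R M (PrimeSpectrum.basicOpen f)))
  haveI : IsLocalizedModule S (toOpenₗ R N U) :=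
    inferInstanceAs (IsLocalizedModule.Away (f : R) (toOpenₗ R N (PrimeSpectrum.basicOpen f)))
  haveI : IsLocalizedModule S (toOpenₗ R (M ⊗[R] N) U) :=
    inferInstanceAs (IsLocalizedModule.Away (f : R)
      (toOpenₗ R (M ⊗[R] N) (PrimeSpectrum.basicOpen f)))
  have hP' : P' ∘ₗ TensorProduct.map (toOpenₗ R M U) (toOpenₗ R N U) =
      toOpenₗ R (M ⊗[R] N) U := by
    ext m n
    have h1 : e.symm ((toOpenₗ R M U m) ⊗ₜ[R] (toOpenₗ R N U n)) =
        (toOpenₗ R M U m) ⊗ₜ[A] (toOpenₗ R N U n) := rfl
    simp only [TensorProduct.AlgebraTensorModule.curry_apply, LinearMap.restrictScalars_self,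
      TensorProduct.curry_apply, LinearMap.coe_comp, Function.comp_apply, TensorProduct.map_tmul,
      P', LinearEquiv.coe_coe, LinearEquiv.restrictScalars_apply, LinearMap.coe_restrictScalars, h1]
    change pairFun M N U (toOpenₗ R M U m) (toOpenₗ R N U n) = _
    rw [toOpenₗ_eq_const, toOpenₗ_eq_const, toOpenₗ_eq_const, pairFun_const]
    exact Subtype.ext <| funext fun x => by simp
  have hbij' : Function.Bijective P' := bijective_of_isLocalizedModule S _ _ P' hP'
  have hPe : (P : Mf ⊗[A] Nf → Tf) = P' ∘ e := by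
    funext z
    simp [P']
  change Function.Bijective (P : Mf ⊗[A] Nf → Tf)
  rw [hPe]
  exact hbij'.comp e.bijective

end Bij


section Iso

variable {R : CommRingCat.{u}} (M N : ModuleCat.{u} R)

instance isIso_sheafify_pairHom : IsIso ((CohB1.sheafifyMod (Spec R)).map (pairHom M N)) := by
  refine isIso_sheafify_map_of_bijective_on_basis (X := Spec R) (pairHom M N)
    (Set.range (@PrimeSpectrum.basicOpen R _)) PrimeSpectrum.isBasis_basic_opens ?_
  rintro _ ⟨f, rfl⟩
  exact pairHomApp_bijective M N f

/-- `M^~ ⊗ N^~ ≅ (M ⊗ N)^~`. -/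
def tildeTensorIso :
    CohB1.tensorMod (tilde M) (tilde N) ≅ tilde (ModuleCat.of R (M ⊗[R] N)) :=
  @asIso _ _ _ _ _ (isIso_sheafify_pairHom M N) ≪≫
    (asIso (PresheafOfModules.sheafificationAdjunction.{u, u, u, u}
      (J := Opens.grothendieckTopology (Spec R)) (𝟙 (Spec R).ringCatSheaf.obj)).counit).app
        (tilde (ModuleCat.of R (M ⊗[R] N)))

end Iso

end

end Groth.Agent.Lib.helper2.TildeTensor
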