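import Mathlib
import Groth.Prelude.Def_CohB1
import Groth.Prelude.Def_SecTwist
import Groth.Prelude.Def_PicGrp
import Groth.Agent.Lib.Helper2.TildeTensor
import Groth.Agent.Lib.Helper12.TensorRestrict
import Groth.Agent.Lib.Helper16.CohFinite
import Groth.Agent.Lib.Helper16.QCohPullback

set_option autoImplicit false
universe u
open CategoryTheory CategoryTheory.Limits AlgebraicGeometry Opposite TopologicalSpace TensorProduct

namespace Groth.Agent.Lib.helper2.TensorQCoh

open Groth.Agent.Lib.helper2.TildeTensor Groth.Agent.Lib.helper12.TensorRestrict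
  Groth.Agent.Lib.helper16.CohFinite Groth.Agent.Lib.helper16.QCohPullback Scheme.Modules

noncomputable section

variable {X : Scheme.{u}} (F G : X.Modules)

/-- global sections module of `F|_{Spec Γ(X,U)}` -/
abbrev secMod {U : X.Opens} (hU : IsAffineOpen U) : ModuleCat.{u} Γ(X, U) :=
  (modulesSpecToSheaf.obj (F.restrict hU.fromSpec)).presheaf.obj (.op ⊤)

/-- For quasi-coherent `F`, `G` and `U` affine: `(F ⊗ G)|_{Spec Γ(X,U)} ≅ (Γ(F,U) ⊗ Γ(G,U))^~`. -/
def affineTensorIso [F.IsQuasicoherent] [G.IsQuasicoherent] {U : X.Opens} (hU : IsAffineOpen U) :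
    (CohB1.tensorMod F G).restrict hU.fromSpec ≅
      tilde (ModuleCat.of Γ(X, U) (secMod F hU ⊗[Γ(X, U)] secMod G hU)) :=
  haveI h1 : IsIso (F.restrict hU.fromSpec).fromTildeΓ :=
    Scheme.Modules.isIso_fromTildeΓ_of_isQuasicoherent _
  haveI h2 : IsIso (G.restrict hU.fromSpec).fromTildeΓ :=
    Scheme.Modules.isIso_fromTildeΓ_of_isQuasicoherent _
  restrictTensorIso hU.fromSpec F G ≪≫
    PicGrp.tensorModIso (asIso (F.restrict hU.fromSpec).fromTildeΓ).symm
      (asIso (G.restrict hU.fromSpec).fromTildeΓ).symm ≪≫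
    tildeTensorIso (secMod F hU) (secMod G hU)

theorem isQuasicoherent_tensorMod [F.IsQuasicoherent] [G.IsQuasicoherent] :
    (CohB1.tensorMod F G).IsQuasicoherent := by
  refine isQuasicoherent_of_cover _ (fun U : X.affineOpens => U.1) (iSup_affineOpens_eq_top X)
    (fun U => ?_)
  exact nonempty_presentation_restrict_of_iso_tilde _ U.2 _ (affineTensorIso F G U.2)

theorem finite_secMod [F.IsQuasicoherent] (hF : CohB1.IsFT F) {U : X.Opens} (hU : IsAffineOpen U) :
    Module.Finite Γ(X, U) (secMod F hU) := by
  haveI := finite_sections_of_isFiniteType F hF hU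
  exact Module.Finite.of_surjective (toSpecSections F hU) (toSpecSections_surjective F hU)

set_option backward.isDefEq.respectTransparency false in
theorem isFiniteType_tensorMod [F.IsQuasicoherent] [G.IsQuasicoherent]
    (hF : CohB1.IsFT F) (hG : CohB1.IsFT G) : CohB1.IsFT (CohB1.tensorMod F G) := by
  have key : ∀ U : X.affineOpens, ∃ G' : SheafOfModules.GeneratingSections
      ((CohB1.tensorMod F G).restrict U.1.ι), Finite G'.I := by
    intro U
    have hU := U.2
    haveI := finite_secMod F hF hU
    haveI := finite_secMod G hG hU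
    obtain ⟨G0, hG0⟩ := exists_generatingSections_tilde
      (ModuleCat.of Γ(X, U.1) (secMod F hU ⊗[Γ(X, U.1)] secMod G hU))
    let G1 : SheafOfModules.GeneratingSections ((CohB1.tensorMod F G).restrict hU.fromSpec) :=
      SheafOfModules.GeneratingSections.equivOfIso (affineTensorIso F G hU).symm G0
    let G2 := genRestrict hU.isoSpec.hom G1
    let iso : ((CohB1.tensorMod F G).restrict hU.fromSpec).restrict hU.isoSpec.hom ≅
        (CohB1.tensorMod F G).restrict U.1.ι :=
      ((restrictFunctorComp hU.isoSpec.hom hU.fromSpec).app _).symm ≪≫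
        (restrictFunctorCongr (by simp)).app _
    exact ⟨SheafOfModules.GeneratingSections.equivOfIso iso G2, hG0⟩
  choose G' hG' using key
  exact isFiniteType_of_cover _ (fun U : X.affineOpens => U.1) (iSup_affineOpens_eq_top X) G' hG'

end

end Groth.Agent.Lib.helper2.TensorQCoh
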