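import Mathlib
import Groth.Prelude.Def_ega3

/-!
# The functors `T_p(M) = H_p(P ⊗ M)` (EGA III §7) — helper2

* `shortExact_tensor`: a short exact sequence of modules gives a short exact sequence of complexes
  `P ⊗ -` when `P` is termwise flat.
* `epi_iff_mono`: `T_i(M → M'')` epi iff `T_j(M' → M)` mono (`j + 1 = i`).
* `preservesMono_iff_preservesEpi`.
-/

set_option autoImplicit false
universe u
open CategoryTheory CategoryTheory.Limits MonoidalCategory TensorProduct

namespace Groth.Agent.Lib.helper2.TpLib

noncomputable section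

variable {A : Type u} [CommRing A]

section LES
variable (P : ChainComplex (ModuleCat.{u} A) ℤ)

/-- the short complex of complexes `P ⊗ S` -/
abbrev tensorSC (S : ShortComplex (ModuleCat.{u} A)) :
    ShortComplex (ChainComplex (ModuleCat.{u} A) ℤ) :=
  ShortComplex.mk (CohIII.tensorMap P S.f) (CohIII.tensorMap P S.g) (by
    unfold CohIII.tensorMap
    rw [← NatTrans.comp_app, ← NatTrans.mapHomologicalComplex_comp, ← Functor.map_comp, S.zero]
    ext i : 1
    simp
    rfl)


lemma tensorMap_f_hom {M N : ModuleCat.{u} A} (g : M ⟶ N) (i : ℤ) :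
    ((CohIII.tensorMap P g).f i).hom = LinearMap.lTensor (P.X i) g.hom := rfl

lemma tensorObj_d_hom (M : ModuleCat.{u} A) (i j : ℤ) :
    ((CohIII.tensorObj P M).d i j).hom = LinearMap.rTensor M (P.d i j).hom := rfl

lemma shortExact_tensor (hP : ∀ i, Module.Flat A (P.X i)) (S : ShortComplex (ModuleCat.{u} A))
    (hS : S.ShortExact) : (tensorSC P S).ShortExact := by
  apply HomologicalComplex.shortExact_of_degreewise_shortExact
  intro i
  haveI := hP i
  have hex : Function.Exact S.f.hom S.g.hom :=
    (ShortComplex.ShortExact.moduleCat_exact_iff_function_exact S).mp hS.exact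
  have hinj : Function.Injective S.f.hom := hS.moduleCat_injective_f
  have hsurj : Function.Surjective S.g.hom := hS.moduleCat_surjective_g
  apply ModuleCat.shortComplex_shortExact
  · exact Module.Flat.lTensor_exact (P.X i) hex
  · exact Module.Flat.lTensor_preserves_injective_linearMap (M := P.X i) S.f.hom hinj
  · exact LinearMap.lTensor_surjective (P.X i) hsurj


/-- (A') for a short exact sequence `0 → M' → M → M'' → 0` and `j + 1 = i`:
`T_i(M) → T_i(M'')` is epi iff `T_j(M') → T_j(M)` is mono. -/
lemma epi_iff_mono (hP : ∀ i, Module.Flat A (P.X i)) (S : ShortComplex (ModuleCat.{u} A))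
    (hS : S.ShortExact) (i j : ℤ) (hij : j + 1 = i) :
    Epi ((CohIII.TFun P i).map S.g) ↔ Mono ((CohIII.TFun P j).map S.f) := by
  have hT := shortExact_tensor P hP S hS
  have hrel : (ComplexShape.down ℤ).Rel i j := hij
  have e1 := hT.homology_exact₁ i j hrel
  have e3 := hT.homology_exact₃ i j hrel
  exact (e3.epi_f_iff).trans (e1.mono_g_iff).symm

/-- (A) `T_j` preserves monos iff `T_i` preserves epis (`j + 1 = i`). -/
lemma preservesMono_iff_preservesEpi (hP : ∀ i, Module.Flat A (P.X i)) (i j : ℤ) (hij : j + 1 = i) :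
    (CohIII.TFun P j).PreservesMonomorphisms ↔ (CohIII.TFun P i).PreservesEpimorphisms := by
  constructor
  · intro h
    refine ⟨fun {M M''} g hg => ?_⟩
    -- kernel short exact sequence
    let S : ShortComplex (ModuleCat.{u} A) := ShortComplex.mk (kernel.ι g) g (kernel.condition g)
    have hS : S.ShortExact :=
      { exact := ShortComplex.exact_of_f_is_kernel _ (kernelIsKernel g)
        mono_f := inferInstance
        epi_g := hg }
    have : Mono ((CohIII.TFun P j).map S.f) := h.preserves S.f
    exact (epi_iff_mono P hP S hS i j hij).mpr this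
  · intro h
    refine ⟨fun {M' M} f hf => ?_⟩
    let S : ShortComplex (ModuleCat.{u} A) := ShortComplex.mk f (cokernel.π f) (cokernel.condition f)
    have hS : S.ShortExact :=
      { exact := ShortComplex.exact_of_g_is_cokernel _ (cokernelIsCokernel f)
        mono_f := hf
        epi_g := inferInstance }
    have : Epi ((CohIII.TFun P i).map S.g) := h.preserves S.g
    exact (epi_iff_mono P hP S hS i j hij).mp this

end LES

section Cat
variable {C : Type*} [Category C] [Abelian C] {ι : Type*} {c : ComplexShape ι}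

lemma fromOpcycles_naturality {K L : HomologicalComplex C c} (φ : K ⟶ L) (i j : ι) :
    HomologicalComplex.opcyclesMap φ i ≫ L.fromOpcycles i j = K.fromOpcycles i j ≫ φ.f j := by
  rw [← cancel_epi (K.pOpcycles i), HomologicalComplex.p_opcyclesMap_assoc,
    HomologicalComplex.p_fromOpcycles, HomologicalComplex.p_fromOpcycles_assoc, φ.comm]

/-- (B'a) For a chain map `φ : K ⟶ L` with `φ.f j` mono for `j = c.next p`:
`H_p(φ)` is mono iff `opcyclesMap φ p` is mono. -/
lemma mono_homologyMap_iff_mono_opcyclesMap {K L : HomologicalComplex C c} (φ : K ⟶ L) (p j : ι)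
    (hj : c.next p = j) [Mono (φ.f j)] :
    Mono (HomologicalComplex.homologyMap φ p) ↔ Mono (HomologicalComplex.opcyclesMap φ p) := by
  constructor
  · intro h
    apply Preadditive.mono_of_cancel_zero
    intro Z x hx
    have h1 : (x ≫ K.fromOpcycles p j) ≫ φ.f j = 0 := by
      rw [Category.assoc, ← fromOpcycles_naturality, reassoc_of% hx, zero_comp]
    have h2 : x ≫ K.fromOpcycles p j = 0 := by
      rw [← cancel_mono (φ.f j), h1, zero_comp]
    -- lift to homology
    let y : Z ⟶ K.homology p := (K.homologyIsKernel p j hj).lift (KernelFork.ofι x h2)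
    have hy : y ≫ K.homologyι p = x := (K.homologyIsKernel p j hj).fac (KernelFork.ofι x h2) WalkingParallelPair.zero
    have h3 : y ≫ HomologicalComplex.homologyMap φ p = 0 := by
      rw [← cancel_mono (L.homologyι p), Category.assoc, HomologicalComplex.homologyι_naturality,
        reassoc_of% hy, hx, zero_comp]
    have h4 : y = 0 := by
      rw [← cancel_mono (HomologicalComplex.homologyMap φ p), h3, zero_comp]
    rw [← hy, h4, zero_comp]
  · intro h
    have : Mono (HomologicalComplex.homologyMap φ p ≫ L.homologyι p) := by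
      rw [HomologicalComplex.homologyι_naturality]
      infer_instance
    exact mono_of_mono _ (L.homologyι p)

end Cat

section Mod
variable {A : Type u} [CommRing A]

lemma injective_iff_of_surjective {X' X Q' Q : Type*} [AddCommGroup X'] [AddCommGroup X]
    [AddCommGroup Q'] [AddCommGroup Q] [Module A X'] [Module A X] [Module A Q'] [Module A Q]
    (π' : X' →ₗ[A] Q') (π : X →ₗ[A] Q) (f : X' →ₗ[A] X) (fbar : Q' →ₗ[A] Q)
    (hπ' : Function.Surjective π') (hcomm : ∀ y, fbar (π' y) = π (f y)) :
    Function.Injective fbar ↔ ∀ y, π (f y) = 0 → π' y = 0 := by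
  rw [injective_iff_map_eq_zero]
  constructor
  · intro h y hy
    exact h _ (by rw [hcomm, hy])
  · intro h z hz
    obtain ⟨y, rfl⟩ := hπ' z
    exact h y (by rw [← hcomm, hz])

variable (P : ChainComplex (ModuleCat.{u} A) ℤ)

/-- (B'b+c) `opcyclesMap (P ⊗ g) p` is mono iff `W_p ⊗ g` is injective, where
`W_p = coker (P_i → P_p)`, `i = prev p`. -/
lemma mono_opcyclesMap_iff {M N : ModuleCat.{u} A} (g : M ⟶ N) (i p : ℤ)
    (hip : (ComplexShape.down ℤ).prev p = i) :
    Mono (HomologicalComplex.opcyclesMap (CohIII.tensorMap P g) p) ↔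
      Function.Injective
        (LinearMap.lTensor (P.X p ⧸ LinearMap.range (P.d i p).hom) g.hom) := by
  subst hip
  rw [ModuleCat.mono_iff_injective]
  set W := P.X p ⧸ LinearMap.range (P.d ((ComplexShape.down ℤ).prev p) p).hom with hW
  have hex : ∀ (L : ModuleCat.{u} A), Function.Exact
      (LinearMap.rTensor L (P.d ((ComplexShape.down ℤ).prev p) p).hom)
      (LinearMap.rTensor L (LinearMap.range (P.d ((ComplexShape.down ℤ).prev p) p).hom).mkQ) := by
    intro L
    exact rTensor_exact L (LinearMap.exact_map_mkQ_range _) (Submodule.mkQ_surjective _)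
  have key1 := injective_iff_of_surjective
    ((CohIII.tensorObj P M).pOpcycles p).hom ((CohIII.tensorObj P N).pOpcycles p).hom
    ((CohIII.tensorMap P g).f p).hom (HomologicalComplex.opcyclesMap (CohIII.tensorMap P g) p).hom
    ((ModuleCat.epi_iff_surjective _).mp inferInstance)
    (fun y => by
      have := HomologicalComplex.p_opcyclesMap (CohIII.tensorMap P g) p
      exact congrArg (fun h => h.hom y) this)
  have key2 := injective_iff_of_surjective
    (LinearMap.rTensor M (LinearMap.range (P.d ((ComplexShape.down ℤ).prev p) p).hom).mkQ)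
    (LinearMap.rTensor N (LinearMap.range (P.d ((ComplexShape.down ℤ).prev p) p).hom).mkQ)
    (LinearMap.lTensor (P.X p) g.hom) (LinearMap.lTensor W g.hom)
    (LinearMap.rTensor_surjective _ (Submodule.mkQ_surjective _))
    (fun y => by
      rw [← LinearMap.comp_apply, ← LinearMap.comp_apply, LinearMap.lTensor_comp_rTensor,
        LinearMap.rTensor_comp_lTensor])
  rw [key1, key2]
  refine forall_congr' fun y => ?_
  have e1 : ∀ (L : ModuleCat.{u} A) (x : P.X p ⊗[A] L),
      ((CohIII.tensorObj P L).pOpcycles p).hom x = 0 ↔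
        LinearMap.rTensor L (LinearMap.range (P.d ((ComplexShape.down ℤ).prev p) p).hom).mkQ x = 0 := by
    intro L x
    refine Iff.trans (ShortComplex.moduleCat_pOpcycles_eq_zero_iff ((CohIII.tensorObj P L).sc p) x) ?_
    show x ∈ LinearMap.range (LinearMap.rTensor L (P.d ((ComplexShape.down ℤ).prev p) p).hom) ↔ _
    rw [← (hex L).linearMap_ker_eq, LinearMap.mem_ker]
  exact Iff.imp (e1 N _) (e1 M _)

/-- the cokernel `W_p` of `P_{prev p} → P_p` as a quotient module -/
abbrev W (p : ℤ) : Type u := P.X p ⧸ LinearMap.range (P.d ((ComplexShape.down ℤ).prev p) p).hom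

lemma TFun_map {M N : ModuleCat.{u} A} (g : M ⟶ N) (p : ℤ) :
    (CohIII.TFun P p).map g = HomologicalComplex.homologyMap (CohIII.tensorMap P g) p := rfl

lemma mono_tensorMap_f (hP : ∀ i, Module.Flat A (P.X i)) {M N : ModuleCat.{u} A} (g : M ⟶ N)
    [Mono g] (j : ℤ) : Mono ((CohIII.tensorMap P g).f j) := by
  rw [ModuleCat.mono_iff_injective]
  haveI := hP j
  exact Module.Flat.lTensor_preserves_injective_linearMap (M := P.X j) g.hom
    ((ModuleCat.mono_iff_injective g).mp inferInstance)

/-- (B') for `g` mono: `T_p(g)` is mono iff `W_p ⊗ g` is injective. -/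
lemma mono_TFun_map_iff (hP : ∀ i, Module.Flat A (P.X i)) {M N : ModuleCat.{u} A} (g : M ⟶ N)
    [Mono g] (p : ℤ) :
    Mono ((CohIII.TFun P p).map g) ↔ Function.Injective (LinearMap.lTensor (W P p) g.hom) := by
  haveI := mono_tensorMap_f P hP g ((ComplexShape.down ℤ).next p)
  exact (mono_homologyMap_iff_mono_opcyclesMap (CohIII.tensorMap P g) p _ rfl).trans
    (mono_opcyclesMap_iff P g _ p rfl)

/-- `W_p ≃ P.opcycles p`. -/
def opcyclesEquivW (p : ℤ) : P.opcycles p ≃ₗ[A] W P p :=
  (ShortComplex.moduleCatOpcyclesIso (P.sc p)).toLinearEquiv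

/-- S2375: `T_p` preserves monos iff `W_p` is flat. -/
lemma preservesMono_iff_flat_W (hP : ∀ i, Module.Flat A (P.X i)) (p : ℤ) :
    (CohIII.TFun P p).PreservesMonomorphisms ↔ Module.Flat A (W P p) := by
  constructor
  · intro h
    rw [Module.Flat.iff_lTensor_preserves_injective_linearMap]
    intro N N' _ _ _ _ f hf
    haveI : Mono (ModuleCat.ofHom f) := (ModuleCat.mono_iff_injective _).mpr hf
    have := h.preserves (ModuleCat.ofHom f)
    exact (mono_TFun_map_iff P hP (ModuleCat.ofHom f) p).mp this
  · intro h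
    refine ⟨fun {M N} g hg => ?_⟩
    rw [mono_TFun_map_iff P hP g p]
    exact Module.Flat.lTensor_preserves_injective_linearMap (M := W P p) g.hom
      ((ModuleCat.mono_iff_injective g).mp hg)

lemma preservesMono_iff_flat_opcycles (hP : ∀ i, Module.Flat A (P.X i)) (p : ℤ) :
    (CohIII.TFun P p).PreservesMonomorphisms ↔ Module.Flat A (P.opcycles p) :=
  (preservesMono_iff_flat_W P hP p).trans (Module.Flat.equiv_iff (opcyclesEquivW P p)).symm

end Mod

end

end Groth.Agent.Lib.helper2.TpLib
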