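import Mathlib
import Groth.Prelude.Def_ega3
import Groth.Agent.Lib.Helper2.TpLib

set_option autoImplicit false
universe u
open CategoryTheory CategoryTheory.Limits MonoidalCategory TensorProduct

namespace Groth.Agent.Lib.helper2.TpLib

noncomputable section

section Local
variable {A : Type u} [CommRing A] [IsLocalRing A]

variable (A) in
/-- `A → k` as a morphism of `A`-modules -/
abbrev resMap : ModuleCat.of A A ⟶ ModuleCat.of A (IsLocalRing.ResidueField A) :=
  ModuleCat.ofHom (Algebra.linearMap A (IsLocalRing.ResidueField A))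

variable (A) in
/-- `0 → m → A → k → 0` -/
def resSC : ShortComplex (ModuleCat.{u} A) :=
  ShortComplex.mk (ModuleCat.ofHom (IsLocalRing.maximalIdeal A).subtype) (resMap A) (by
    ext x
    simp [IsLocalRing.ResidueField.algebraMap_eq])

lemma resSC_shortExact : (resSC A).ShortExact := by
  apply ModuleCat.shortComplex_shortExact
  · intro y
    show (algebraMap A (IsLocalRing.ResidueField A)) y = 0 ↔ y ∈ Set.range (IsLocalRing.maximalIdeal A).subtype
    rw [IsLocalRing.ResidueField.algebraMap_eq, IsLocalRing.residue_eq_zero_iff]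
    constructor
    · intro hy; exact ⟨⟨y, hy⟩, rfl⟩
    · rintro ⟨z, rfl⟩; exact z.2
  · exact Subtype.val_injective
  · exact (IsLocalRing.residue_surjective (R := A))

variable [IsNoetherianRing A] (P : ChainComplex (ModuleCat.{u} A) ℤ)

/-- local criterion: if `T_i(A) → T_i(k)` is surjective then `W_j` is free (`j + 1 = i`). -/
lemma free_W_of_surjective (hP : ∀ i, Module.Finite A (P.X i) ∧ Module.Flat A (P.X i)) (i j : ℤ)
    (hij : j + 1 = i)
    (h : Function.Surjective ((CohIII.TFun P i).map (resMap A)).hom) : Module.Free A (W P j) := by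
  have hfl : ∀ i, Module.Flat A (P.X i) := fun i => (hP i).2
  have h1 : Epi ((CohIII.TFun P i).map (resSC A).g) := (ModuleCat.epi_iff_surjective _).mpr h
  have h2 : Mono ((CohIII.TFun P j).map (resSC A).f) :=
    (epi_iff_mono P hfl (resSC A) resSC_shortExact i j hij).mp h1
  haveI : Mono (resSC A).f := resSC_shortExact.mono_f
  have h3 := (mono_TFun_map_iff P hfl (resSC A).f j).mp h2
  haveI := (hP j).1
  haveI : Module.FinitePresentation A (W P j) := Module.finitePresentation_of_finite A (W P j)
  apply Module.free_of_maximalIdeal_rTensor_injective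
  rw [← LinearMap.lTensor_inj_iff_rTensor_inj]
  exact h3

lemma preservesMono_of_surjective (hP : ∀ i, Module.Finite A (P.X i) ∧ Module.Flat A (P.X i))
    (i j : ℤ) (hij : j + 1 = i)
    (h : Function.Surjective ((CohIII.TFun P i).map (resMap A)).hom) :
    (CohIII.TFun P j).PreservesMonomorphisms := by
  haveI := free_W_of_surjective P hP i j hij h
  exact (preservesMono_iff_flat_W P (fun i => (hP i).2) j).mpr inferInstance

omit [IsNoetherianRing A] in
lemma surjective_of_preservesEpi (i : ℤ) (h : (CohIII.TFun P i).PreservesEpimorphisms) :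
    Function.Surjective ((CohIII.TFun P i).map (resMap A)).hom := by
  haveI : Epi (resMap A) := (ModuleCat.epi_iff_surjective _).mpr IsLocalRing.residue_surjective
  exact (ModuleCat.epi_iff_surjective _).mp (h.preserves (resMap A))

/-- S2409 -/
lemma exact_iff_surjective (hP : ∀ i, Module.Finite A (P.X i) ∧ Module.Flat A (P.X i)) (p q : ℤ)
    (hpq : p + 1 = q) :
    ((CohIII.TFun P p).PreservesMonomorphisms ∧ (CohIII.TFun P p).PreservesEpimorphisms) ↔
      Function.Surjective ((CohIII.TFun P q).map (resMap A)).hom ∧
        Function.Surjective ((CohIII.TFun P p).map (resMap A)).hom := by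
  have hfl : ∀ i, Module.Flat A (P.X i) := fun i => (hP i).2
  constructor
  · rintro ⟨hm, he⟩
    exact ⟨surjective_of_preservesEpi P q ((preservesMono_iff_preservesEpi P hfl q p hpq).mp hm),
      surjective_of_preservesEpi P p he⟩
  · rintro ⟨hq, hp⟩
    refine ⟨preservesMono_of_surjective P hP q p hpq hq, ?_⟩
    have := preservesMono_of_surjective P hP p (p - 1) (by ring) hp
    exact (preservesMono_iff_preservesEpi P hfl p (p - 1) (by ring)).mp this

end Local

end

end Groth.Agent.Lib.helper2.TpLib
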