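import Mathlib
import Groth.Prelude.Def_ega3
import Groth.Agent.Lib.Helper2.TpLocal

set_option autoImplicit false
universe u
open CategoryTheory CategoryTheory.Limits MonoidalCategory TensorProduct

namespace Groth.Agent.Lib.helper2.TpLib

noncomputable section

section Zero
variable {A : Type u} [CommRing A] (P : ChainComplex (ModuleCat.{u} A) ℤ)

/-- the map `W_p → P_{next p}` induced by the differential -/
def fromW (p : ℤ) : W P p →ₗ[A] P.X ((ComplexShape.down ℤ).next p) :=
  (LinearMap.range (P.d ((ComplexShape.down ℤ).prev p) p).hom).liftQ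
    (P.d p ((ComplexShape.down ℤ).next p)).hom (by
      rintro _ ⟨x, rfl⟩
      have := P.d_comp_d ((ComplexShape.down ℤ).prev p) p ((ComplexShape.down ℤ).next p)
      exact congrArg (fun h => h.hom x) this)

lemma fromW_comp_mkQ (p : ℤ) :
    fromW P p ∘ₗ (LinearMap.range (P.d ((ComplexShape.down ℤ).prev p) p).hom).mkQ =
      (P.d p ((ComplexShape.down ℤ).next p)).hom :=
  Submodule.liftQ_mkQ _ _ _

lemma isZero_T_iff (M : ModuleCat.{u} A) (p : ℤ) :
    IsZero ((CohIII.TFun P p).obj M) ↔ Function.Injective (LinearMap.rTensor M (fromW P p)) := by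
  have hex : Function.Exact
      (LinearMap.rTensor M (P.d ((ComplexShape.down ℤ).prev p) p).hom)
      (LinearMap.rTensor M (LinearMap.range (P.d ((ComplexShape.down ℤ).prev p) p).hom).mkQ) :=
    rTensor_exact M (LinearMap.exact_map_mkQ_range _) (Submodule.mkQ_surjective _)
  have key := injective_iff_of_surjective
    (LinearMap.rTensor M (LinearMap.range (P.d ((ComplexShape.down ℤ).prev p) p).hom).mkQ)
    (LinearMap.id (M := P.X ((ComplexShape.down ℤ).next p) ⊗[A] M))
    (LinearMap.rTensor M (P.d p ((ComplexShape.down ℤ).next p)).hom)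
    (LinearMap.rTensor M (fromW P p))
    (LinearMap.rTensor_surjective _ (Submodule.mkQ_surjective _))
    (fun y => by
      rw [← LinearMap.comp_apply, ← LinearMap.rTensor_comp, fromW_comp_mkQ]; rfl)
  rw [key]
  show IsZero ((CohIII.tensorObj P M).homology p) ↔ _
  rw [← HomologicalComplex.exactAt_iff_isZero_homology, HomologicalComplex.exactAt_iff,
    ShortComplex.moduleCat_exact_iff]
  refine forall_congr' fun y => ?_
  refine Iff.imp Iff.rfl ?_
  rw [← LinearMap.mem_ker, hex.linearMap_ker_eq]
  rfl

end Zero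

section Local
variable {A : Type u} [CommRing A] [IsLocalRing A] (P : ChainComplex (ModuleCat.{u} A) ℤ)

/-- S2408 -/
lemma isZero_T_of_isZero_residue (hP : ∀ i, Module.Finite A (P.X i) ∧ Module.Flat A (P.X i)) (p : ℤ)
    (hk : IsZero ((CohIII.TFun P p).obj (ModuleCat.of A (IsLocalRing.ResidueField A))))
    (M : ModuleCat.{u} A) : IsZero ((CohIII.TFun P p).obj M) := by
  rw [isZero_T_iff] at hk ⊢
  haveI := (hP p).1
  haveI := (hP ((ComplexShape.down ℤ).next p)).1
  haveI := (hP ((ComplexShape.down ℤ).next p)).2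
  haveI : Module.Free A (P.X ((ComplexShape.down ℤ).next p)) := Module.free_of_flat_of_isLocalRing
  have h1 : Function.Injective (LinearMap.lTensor (IsLocalRing.ResidueField A) (fromW P p)) :=
    (LinearMap.lTensor_inj_iff_rTensor_inj _ _).mpr hk
  obtain ⟨l', hl'⟩ := (IsLocalRing.split_injective_iff_lTensor_residueField_injective (fromW P p)).mpr h1
  have : LinearMap.rTensor M l' ∘ₗ LinearMap.rTensor M (fromW P p) = LinearMap.id := by
    rw [← LinearMap.rTensor_comp, hl', LinearMap.rTensor_id]
  exact Function.HasLeftInverse.injective ⟨_, LinearMap.congr_fun this⟩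

end Local

end

end Groth.Agent.Lib.helper2.TpLib
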