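import Mathlib
import Groth.Prelude.Def_ega3
import Groth.Agent.Lib.Helper2.TpZero

set_option autoImplicit false
universe u
open CategoryTheory CategoryTheory.Limits MonoidalCategory TensorProduct

namespace Groth.Agent.Lib.helper2.TpLib

noncomputable section

section RHD
variable {A : Type u} [CommRing A]

/-- the induced map `X₂ / range f → X₃` of a short complex of modules -/
def scFromQ (S : ShortComplex (ModuleCat.{u} A)) :
    (S.X₂ ⧸ LinearMap.range S.f.hom) →ₗ[A] S.X₃ :=
  (LinearMap.range S.f.hom).liftQ S.g.hom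
    (LinearMap.range_le_ker_iff.2 <| ModuleCat.hom_ext_iff.mp S.zero)

/-- a right homology data with `Q = X₂/range f` and `H = ker (Q → X₃)` -/
def rhd (S : ShortComplex (ModuleCat.{u} A)) : S.RightHomologyData where
  Q := ModuleCat.of A (S.X₂ ⧸ LinearMap.range S.f.hom)
  H := ModuleCat.of A (LinearMap.ker (scFromQ S))
  p := ModuleCat.ofHom (LinearMap.range S.f.hom).mkQ
  ι := ModuleCat.ofHom (LinearMap.ker (scFromQ S)).subtype
  wp := ModuleCat.hom_ext <| LinearMap.range_mkQ_comp _
  hp := ModuleCat.cokernelIsColimit S.f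
  wι := by
    ext x
    exact x.2
  hι := ModuleCat.kernelIsLimit (ModuleCat.ofHom (scFromQ S))

/-- `H(S) ≃ ker (X₂/range f → X₃)` -/
def scHomologyEquivKer (S : ShortComplex (ModuleCat.{u} A)) :
    S.homology ≃ₗ[A] LinearMap.ker (scFromQ S) :=
  (rhd S).homologyIso.toLinearEquiv

end RHD

section ModLemmas
variable {A : Type u} [CommRing A]

lemma projective_range_of_projective_quot {W X : Type u} [AddCommGroup W] [AddCommGroup X]
    [Module A W] [Module A X] (l : W →ₗ[A] X) [Module.Projective A X]
    [Module.Projective A (X ⧸ LinearMap.range l)] : Module.Projective A (LinearMap.range l) := by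
  obtain ⟨s, hs⟩ := Module.projective_lifting_property (LinearMap.range l).mkQ LinearMap.id
    (Submodule.mkQ_surjective _)
  have hmem : ∀ x : X, x - s ((LinearMap.range l).mkQ x) ∈ LinearMap.range l := by
    intro x
    have h0 : (LinearMap.range l).mkQ (x - s ((LinearMap.range l).mkQ x)) = 0 := by
      rw [map_sub]
      have := LinearMap.congr_fun hs ((LinearMap.range l).mkQ x)
      simp only [LinearMap.comp_apply, LinearMap.id_apply] at this
      rw [this, sub_self]
    exact (Submodule.Quotient.mk_eq_zero _).mp h0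
  let r : X →ₗ[A] LinearMap.range l :=
    LinearMap.codRestrict (LinearMap.range l) (LinearMap.id - s ∘ₗ (LinearMap.range l).mkQ) hmem
  refine Module.Projective.of_split (LinearMap.range l).subtype r ?_
  ext ⟨y, hy⟩
  have : (LinearMap.range l).mkQ y = 0 := (Submodule.Quotient.mk_eq_zero _).mpr hy
  simp [r, this]

lemma projective_iff_projective_ker {W X : Type u} [AddCommGroup W] [AddCommGroup X]
    [Module A W] [Module A X] (l : W →ₗ[A] X) [Module.Projective A (LinearMap.range l)] :
    Module.Projective A W ↔ Module.Projective A (LinearMap.ker l) := by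
  obtain ⟨t, ht⟩ := Module.projective_lifting_property l.rangeRestrict LinearMap.id
    l.surjective_rangeRestrict
  have ht' : ∀ b, l (t b) = b := fun b => by
    have := LinearMap.congr_fun ht b
    simp only [LinearMap.comp_apply, LinearMap.id_apply] at this
    exact congrArg Subtype.val this
  have hmem : ∀ w : W, w - t (l.rangeRestrict w) ∈ LinearMap.ker l := by
    intro w
    rw [LinearMap.mem_ker, map_sub, ht']
    simp
  let ρ : W →ₗ[A] LinearMap.ker l :=
    LinearMap.codRestrict (LinearMap.ker l) (LinearMap.id - t ∘ₗ l.rangeRestrict) hmem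
  constructor
  · intro h
    refine Module.Projective.of_split (LinearMap.ker l).subtype ρ ?_
    ext ⟨y, hy⟩
    have : l.rangeRestrict y = 0 := by
      ext; simpa using hy
    simp [ρ, this]
  · intro h
    refine Module.Projective.of_split (ρ.prod l.rangeRestrict)
      ((LinearMap.ker l).subtype.coprod t) ?_
    ext w
    simp [ρ]


end ModLemmas

section Hom
variable {A : Type u} [CommRing A] (P : ChainComplex (ModuleCat.{u} A) ℤ)

lemma fromW_eq_scFromQ (p : ℤ) : fromW P p = scFromQ (P.sc p) := rfl

/-- `H_p(P) ≃ ker (W_p → P_{p-1})` -/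
def homologyEquivKer (p : ℤ) : P.homology p ≃ₗ[A] LinearMap.ker (fromW P p) :=
  scHomologyEquivKer (P.sc p)

lemma range_fromW (p : ℤ) :
    LinearMap.range (fromW P p) = LinearMap.range (P.d p ((ComplexShape.down ℤ).next p)).hom := by
  rw [← fromW_comp_mkQ, LinearMap.range_comp, Submodule.range_mkQ, Submodule.map_top]

/-- `W` with a general source index -/
def WEquiv (i j : ℤ) (h : (ComplexShape.down ℤ).prev j = i) :
    W P j ≃ₗ[A] (P.X j ⧸ LinearMap.range (P.d i j).hom) := by
  subst h
  exact LinearEquiv.refl _ _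

/-- `coker (W_p → P_{p-1}) ≃ W_{p-1}` -/
def cokerFromWEquiv (p : ℤ) :
    (P.X ((ComplexShape.down ℤ).next p) ⧸ LinearMap.range (fromW P p)) ≃ₗ[A]
      W P ((ComplexShape.down ℤ).next p) :=
  (Submodule.quotEquivOfEq _ _ (range_fromW P p)).trans
    (WEquiv P p ((ComplexShape.down ℤ).next p) (by simp)).symm

/-- `P ⊗ A ≅ P` -/
def tensorUnitIso : CohIII.tensorObj P (ModuleCat.of A A) ≅ P :=
  HomologicalComplex.Hom.isoOfComponents (fun i => ρ_ (P.X i)) (by
    intro i j _
    exact (rightUnitor_naturality (P.d i j)).symm)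

/-- `T_p(A) ≃ H_p(P)` -/
def TAEquiv (p : ℤ) : (CohIII.TFun P p).obj (ModuleCat.of A A) ≃ₗ[A] P.homology p :=
  ((HomologicalComplex.homologyFunctor _ _ p).mapIso (tensorUnitIso P)).toLinearEquiv

end Hom

section LocalFree
variable {A : Type u} [CommRing A] [IsNoetherianRing A] [IsLocalRing A]
  (P : ChainComplex (ModuleCat.{u} A) ℤ)

omit [IsNoetherianRing A] in
lemma projective_iff_flat_of_finite (M : Type u) [AddCommGroup M] [Module A M] [Module.Finite A M] :
    Module.Projective A M ↔ Module.Flat A M := by
  constructor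
  · intro h; infer_instance
  · intro h
    haveI : Module.Free A M := Module.free_of_flat_of_isLocalRing
    infer_instance

omit [IsNoetherianRing A] in
lemma free_iff_projective_of_finite (M : Type u) [AddCommGroup M] [Module A M] [Module.Finite A M] :
    Module.Free A M ↔ Module.Projective A M := by
  constructor
  · intro h; infer_instance
  · intro h
    exact Module.free_of_flat_of_isLocalRing

/-- given that `T_p` preserves epis: `W_p` flat iff `T_p(A)` free. -/
lemma flat_W_iff_free_TA (hP : ∀ i, Module.Finite A (P.X i) ∧ Module.Flat A (P.X i)) (p : ℤ)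
    (he : (CohIII.TFun P p).PreservesEpimorphisms) :
    Module.Flat A (W P p) ↔ Module.Free A ((CohIII.TFun P p).obj (ModuleCat.of A A)) := by
  have hfl : ∀ i, Module.Flat A (P.X i) := fun i => (hP i).2
  have hm' : (CohIII.TFun P ((ComplexShape.down ℤ).next p)).PreservesMonomorphisms :=
    (preservesMono_iff_preservesEpi P hfl p _ (by simp)).mpr he
  haveI := (hP p).1
  haveI := (hP ((ComplexShape.down ℤ).next p)).1
  haveI := (hP ((ComplexShape.down ℤ).next p)).2
  haveI : Module.Flat A (W P ((ComplexShape.down ℤ).next p)) :=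
    (preservesMono_iff_flat_W P hfl _).mp hm'
  haveI : Module.Projective A (P.X ((ComplexShape.down ℤ).next p)) :=
    (projective_iff_flat_of_finite _).mpr inferInstance
  haveI : Module.Projective A (W P ((ComplexShape.down ℤ).next p)) :=
    (projective_iff_flat_of_finite _).mpr inferInstance
  haveI : Module.Projective A
      (P.X ((ComplexShape.down ℤ).next p) ⧸ LinearMap.range (fromW P p)) :=
    Module.Projective.of_equiv' (cokerFromWEquiv P p).symm
  haveI := projective_range_of_projective_quot (fromW P p)
  rw [← projective_iff_flat_of_finite, projective_iff_projective_ker (fromW P p)]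
  haveI : Module.Finite A (LinearMap.ker (fromW P p)) := inferInstance
  rw [← free_iff_projective_of_finite]
  exact ⟨fun h => Module.Free.of_equiv ((TAEquiv P p).trans (homologyEquivKer P p)).symm,
    fun h => Module.Free.of_equiv ((TAEquiv P p).trans (homologyEquivKer P p))⟩

/-- S2410 -/
lemma exact_iff_epi_and_free (hP : ∀ i, Module.Finite A (P.X i) ∧ Module.Flat A (P.X i)) (p : ℤ) :
    ((CohIII.TFun P p).PreservesMonomorphisms ∧ (CohIII.TFun P p).PreservesEpimorphisms) ↔
      ((CohIII.TFun P p).PreservesEpimorphisms ∧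
        Module.Free A ((CohIII.TFun P p).obj (ModuleCat.of A A))) := by
  have hfl : ∀ i, Module.Flat A (P.X i) := fun i => (hP i).2
  constructor
  · rintro ⟨hm, he⟩
    exact ⟨he, (flat_W_iff_free_TA P hP p he).mp ((preservesMono_iff_flat_W P hfl p).mp hm)⟩
  · rintro ⟨he, hf⟩
    exact ⟨(preservesMono_iff_flat_W P hfl p).mpr ((flat_W_iff_free_TA P hP p he).mpr hf), he⟩

/-- S2411 -/
lemma exact_and_free_of_isZero (hP : ∀ i, Module.Finite A (P.X i) ∧ Module.Flat A (P.X i))
    (p q r : ℤ) (hqp : q + 1 = p) (hpr : p + 1 = r)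
    (hq : IsZero ((CohIII.TFun P q).obj (ModuleCat.of A (IsLocalRing.ResidueField A))))
    (hr : IsZero ((CohIII.TFun P r).obj (ModuleCat.of A (IsLocalRing.ResidueField A)))) :
    ((CohIII.TFun P p).PreservesMonomorphisms ∧ (CohIII.TFun P p).PreservesEpimorphisms) ∧
      Module.Free A ((CohIII.TFun P p).obj (ModuleCat.of A A)) := by
  have hfl : ∀ i, Module.Flat A (P.X i) := fun i => (hP i).2
  have hm : (CohIII.TFun P p).PreservesMonomorphisms := by
    apply preservesMono_of_surjective P hP r p hpr
    intro y
    exact ⟨0, (ModuleCat.isZero_iff_subsingleton.mp hr).elim _ _⟩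
  have hqm : (CohIII.TFun P q).PreservesMonomorphisms := by
    refine ⟨fun {M N} g hg => ?_⟩
    have := isZero_T_of_isZero_residue P hP q hq M
    exact ⟨fun a b _ => this.eq_of_tgt _ _⟩
  have he : (CohIII.TFun P p).PreservesEpimorphisms :=
    (preservesMono_iff_preservesEpi P hfl p q hqp).mp hqm
  exact ⟨⟨hm, he⟩, ((exact_iff_epi_and_free P hP p).mp ⟨hm, he⟩).2⟩

end LocalFree

end

end Groth.Agent.Lib.helper2.TpLib
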