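import Mathlib
import Groth.Prelude.Def_ega3
import Groth.Agent.Lib.Helper2.TpLib
import Groth.Agent.S2380

set_option autoImplicit false
universe u
open CategoryTheory CategoryTheory.Limits MonoidalCategory TensorProduct

namespace Groth.Agent.Lib.helper2.TpLib

noncomputable section

section FF
variable {A : Type u} [CommRing A] {B : Type u} [CommRing B] [Algebra A B]

/-- base change commutes with cokernels (as `B`-modules) -/
def cokerBCEquiv {M N : ModuleCat.{u} A} (d : M ⟶ N) :
    (((ModuleCat.extendScalars (algebraMap A B)).obj N) ⧸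
      LinearMap.range ((ModuleCat.extendScalars (algebraMap A B)).map d).hom) ≃ₗ[B]
    ((ModuleCat.extendScalars (algebraMap A B)).obj
      (ModuleCat.of A (N ⧸ LinearMap.range d.hom))) := by
  set F := ModuleCat.extendScalars.{u, u, u} (algebraMap A B) with hF
  haveI : F.IsLeftAdjoint := (ModuleCat.extendRestrictScalarsAdj.{u, u, u} (algebraMap A B)).isLeftAdjoint
  haveI : F.Additive := (ModuleCat.extendRestrictScalarsAdj.{u, u, u} (algebraMap A B)).left_adjoint_additive
  let π : N ⟶ ModuleCat.of A (N ⧸ LinearMap.range d.hom) :=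
    ModuleCat.ofHom (LinearMap.range d.hom).mkQ
  have hdπ : d ≫ π = 0 := by
    ext x
    simp [π]
  let S₀ : ShortComplex (ModuleCat.{u} A) := ShortComplex.mk d π hdπ
  have hS₀ : S₀.Exact := by
    rw [ShortComplex.moduleCat_exact_iff_range_eq_ker]
    simp [S₀, π, Submodule.ker_mkQ]
  haveI : Epi S₀.g := (ModuleCat.epi_iff_surjective _).mpr (Submodule.mkQ_surjective _)
  have hex : (S₀.map F).Exact := hS₀.map_of_epi_of_preservesCokernel F inferInstance inferInstance
  rw [ShortComplex.moduleCat_exact_iff_range_eq_ker] at hex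
  have hsurj : Function.Surjective (F.map π).hom :=
    (ModuleCat.epi_iff_surjective _).mp (inferInstance : Epi (F.map S₀.g))
  exact (Submodule.quotEquivOfEq _ _ hex).trans ((F.map π).hom.quotKerEquivOfSurjective hsurj)

variable (P : ChainComplex (ModuleCat.{u} A) ℤ)

/-- `W_p(P_B) ≃ B ⊗ W_p(P)` -/
def WBCEquiv (p : ℤ) : W (CohIII.bcCx (algebraMap A B) P) p ≃ₗ[B] B ⊗[A] W P p :=
  (cokerBCEquiv (B := B) (P.d ((ComplexShape.down ℤ).prev p) p)).trans
    (Groth.Agent.S2380.eM (κ := B) (ModuleCat.of A (W P p)))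

lemma flat_bcCx (hP : ∀ i, Module.Flat A (P.X i)) (i : ℤ) :
    Module.Flat B ((CohIII.bcCx (algebraMap A B) P).X i) := by
  haveI := hP i
  exact Module.Flat.of_linearEquiv (Groth.Agent.S2380.eM (κ := B) (P.X i))

lemma ff_mono_iff [Module.FaithfullyFlat A B] (hP : ∀ i, Module.Flat A (P.X i)) (p : ℤ) :
    (CohIII.TFun (CohIII.bcCx (algebraMap A B) P) p).PreservesMonomorphisms ↔
      (CohIII.TFun P p).PreservesMonomorphisms := by
  rw [preservesMono_iff_flat_W _ (flat_bcCx P hP) p, preservesMono_iff_flat_W P hP p,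
    Module.Flat.equiv_iff (WBCEquiv (B := B) P p)]
  exact Module.Flat.iff_flat_tensorProduct A (W P p) B

/-- S2377 -/
lemma ff_main [Module.FaithfullyFlat A B] (hP : ∀ i, Module.Flat A (P.X i)) (p : ℤ) :
    ((CohIII.TFun (CohIII.bcCx (algebraMap A B) P) p).PreservesEpimorphisms ↔
        (CohIII.TFun P p).PreservesEpimorphisms) ∧
      ((CohIII.TFun (CohIII.bcCx (algebraMap A B) P) p).PreservesMonomorphisms ↔
        (CohIII.TFun P p).PreservesMonomorphisms) := by
  refine ⟨?_, ff_mono_iff P hP p⟩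
  rw [← preservesMono_iff_preservesEpi _ (flat_bcCx P hP) p (p - 1) (by ring),
    ← preservesMono_iff_preservesEpi P hP p (p - 1) (by ring)]
  exact ff_mono_iff P hP (p - 1)

end FF

end

end Groth.Agent.Lib.helper2.TpLib
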