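import Mathlib
import Groth.Prelude.Def_ega3
import Groth.Agent.Lib.Helper2.TpFF

set_option autoImplicit false
universe u
open CategoryTheory CategoryTheory.Limits MonoidalCategory TensorProduct

namespace Groth.Agent.Lib.helper2.TpLib

noncomputable section

section BC
variable {A : Type u} [CommRing A] {B : Type u} [CommRing B] [Algebra A B]
  (P : ChainComplex (ModuleCat.{u} A) ℤ)

lemma bc_mono (hP : ∀ i, Module.Flat A (P.X i)) (p : ℤ)
    (h : (CohIII.TFun P p).PreservesMonomorphisms) :
    (CohIII.TFun (CohIII.bcCx (algebraMap A B) P) p).PreservesMonomorphisms := by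
  rw [preservesMono_iff_flat_W _ (flat_bcCx P hP) p, Module.Flat.equiv_iff (WBCEquiv (B := B) P p)]
  haveI := (preservesMono_iff_flat_W P hP p).mp h
  infer_instance

/-- S12120 -/
lemma bc_main (hP : ∀ i, Module.Flat A (P.X i)) (p : ℤ) :
    ((CohIII.TFun P p).PreservesEpimorphisms →
        (CohIII.TFun (CohIII.bcCx (algebraMap A B) P) p).PreservesEpimorphisms) ∧
      ((CohIII.TFun P p).PreservesMonomorphisms →
        (CohIII.TFun (CohIII.bcCx (algebraMap A B) P) p).PreservesMonomorphisms) := by
  refine ⟨fun h => ?_, bc_mono P hP p⟩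
  rw [← preservesMono_iff_preservesEpi _ (flat_bcCx P hP) p (p - 1) (by ring)]
  rw [← preservesMono_iff_preservesEpi P hP p (p - 1) (by ring)] at h
  exact bc_mono P hP (p - 1) h

end BC

section FreeBot
lemma free_of_maximalIdeal_eq_bot {R : Type u} [CommRing R] [IsLocalRing R]
    (h : IsLocalRing.maximalIdeal R = ⊥) (M : Type u) [AddCommGroup M] [Module R M]
    [Module.FinitePresentation R M] : Module.Free R M := by
  apply Module.free_of_maximalIdeal_rTensor_injective
  haveI : Subsingleton (IsLocalRing.maximalIdeal R) := by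
    rw [h]; infer_instance
  haveI : Subsingleton ((IsLocalRing.maximalIdeal R) ⊗[R] M) := inferInstance
  exact Function.injective_of_subsingleton _

lemma bot_mem_freeLocus {A : Type u} [CommRing A] [IsDomain A] (M : Type u) [AddCommGroup M]
    [Module A M] [Module.FinitePresentation A M] :
    (⟨⊥, Ideal.isPrime_bot⟩ : PrimeSpectrum A) ∈ Module.freeLocus A M := by
  rw [Module.mem_freeLocus]
  apply free_of_maximalIdeal_eq_bot
  rw [← Localization.AtPrime.map_eq_maximalIdeal]
  exact Ideal.map_bot

end FreeBot

section Locus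
variable {A : Type u} [CommRing A] [IsNoetherianRing A] (P : ChainComplex (ModuleCat.{u} A) ℤ)

omit [IsNoetherianRing A] in
lemma mono_locus_eq (hP : ∀ i, Module.Finite A (P.X i) ∧ Module.Flat A (P.X i)) (p : ℤ) :
    {y : PrimeSpectrum A |
      (CohIII.TFun (CohIII.bcCx (algebraMap A (Localization.AtPrime y.asIdeal)) P) p).PreservesMonomorphisms} =
      Module.freeLocus A (W P p) := by
  ext y
  have hfl : ∀ i, Module.Flat A (P.X i) := fun i => (hP i).2
  haveI := (hP p).1
  rw [Set.mem_ofPred_eq, preservesMono_iff_flat_W _ (flat_bcCx P hfl) p,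
    Module.Flat.equiv_iff (WBCEquiv (B := Localization.AtPrime y.asIdeal) P p),
    Module.mem_freeLocus_iff_tensor y (Localization.AtPrime y.asIdeal)]
  constructor
  · intro h
    exact Module.free_of_flat_of_isLocalRing
  · intro h
    infer_instance

omit [IsNoetherianRing A] in
lemma epi_locus_eq (hP : ∀ i, Module.Finite A (P.X i) ∧ Module.Flat A (P.X i)) (p : ℤ) :
    {y : PrimeSpectrum A |
      (CohIII.TFun (CohIII.bcCx (algebraMap A (Localization.AtPrime y.asIdeal)) P) p).PreservesEpimorphisms} =
      Module.freeLocus A (W P (p - 1)) := by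
  rw [← mono_locus_eq P hP (p - 1)]
  ext y
  have hfl : ∀ i, Module.Flat A (P.X i) := fun i => (hP i).2
  simp only [Set.mem_ofPred_eq]
  exact (preservesMono_iff_preservesEpi _ (flat_bcCx P hfl) p (p - 1) (by ring)).symm

/-- S2418 -/
lemma isOpen_epi_locus (hP : ∀ i, Module.Finite A (P.X i) ∧ Module.Flat A (P.X i)) (p : ℤ) :
    IsOpen {y : PrimeSpectrum A |
      (CohIII.TFun (CohIII.bcCx (algebraMap A (Localization.AtPrime y.asIdeal)) P) p).PreservesEpimorphisms} := by
  rw [epi_locus_eq P hP p]
  haveI := (hP (p - 1)).1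
  haveI : Module.FinitePresentation A (W P (p - 1)) := Module.finitePresentation_of_finite A _
  exact Module.isOpen_freeLocus


/-- S4501 -/
lemma exact_locus [IsDomain A] (hP : ∀ i, Module.Finite A (P.X i) ∧ Module.Flat A (P.X i)) (p : ℤ) :
    IsOpen {y : PrimeSpectrum A |
        (CohIII.TFun (CohIII.bcCx (algebraMap A (Localization.AtPrime y.asIdeal)) P) p).PreservesMonomorphisms ∧
          (CohIII.TFun (CohIII.bcCx (algebraMap A (Localization.AtPrime y.asIdeal)) P) p).PreservesEpimorphisms} ∧
      {y : PrimeSpectrum A |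
        (CohIII.TFun (CohIII.bcCx (algebraMap A (Localization.AtPrime y.asIdeal)) P) p).PreservesMonomorphisms ∧
          (CohIII.TFun (CohIII.bcCx (algebraMap A (Localization.AtPrime y.asIdeal)) P) p).PreservesEpimorphisms}.Nonempty := by
  have hset : {y : PrimeSpectrum A |
        (CohIII.TFun (CohIII.bcCx (algebraMap A (Localization.AtPrime y.asIdeal)) P) p).PreservesMonomorphisms ∧
          (CohIII.TFun (CohIII.bcCx (algebraMap A (Localization.AtPrime y.asIdeal)) P) p).PreservesEpimorphisms} =
      Module.freeLocus A (W P p) ∩ Module.freeLocus A (W P (p - 1)) := by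
    rw [← mono_locus_eq P hP p, ← epi_locus_eq P hP p]
    rfl
  rw [hset]
  haveI := (hP p).1
  haveI := (hP (p - 1)).1
  haveI : Module.FinitePresentation A (W P p) := Module.finitePresentation_of_finite A _
  haveI : Module.FinitePresentation A (W P (p - 1)) := Module.finitePresentation_of_finite A _
  exact ⟨Module.isOpen_freeLocus.inter Module.isOpen_freeLocus,
    ⟨⟨⊥, Ideal.isPrime_bot⟩, bot_mem_freeLocus _, bot_mem_freeLocus _⟩⟩

end Locus

end

end Groth.Agent.Lib.helper2.TpLib
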