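import Mathlib
set_option autoImplicit false
universe u
open TensorProduct

namespace Groth.Agent.Lib.helper2.FlatSeq

section
variable {A : Type u} [CommRing A] {M N P : Type u} [AddCommGroup M] [AddCommGroup N] [AddCommGroup P]
  [Module A M] [Module A N] [Module A P]

/-- kernel of a surjection of flat modules is flat -/
lemma flat_of_exact_left (f : M →ₗ[A] N) (g : N →ₗ[A] P) (hf : Function.Injective f)
    (hg : Function.Surjective g) (H : Function.Exact f g) [Module.Flat A N] [Module.Flat A P] :
    Module.Flat A M := by
  rw [Module.Flat.iff_rTensor_preserves_injective_linearMap]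
  intro N' N'' _ _ _ _ h hh
  have h1 : Function.Injective (LinearMap.lTensor N' f) :=
    LinearMap.lTensor_injective_of_exact_of_flat g hg f hf H N'
  have h2 : Function.Injective (LinearMap.rTensor N h) :=
    Module.Flat.rTensor_preserves_injective_linearMap h hh
  have hcomm : LinearMap.lTensor N'' f ∘ₗ LinearMap.rTensor M h =
      LinearMap.rTensor N h ∘ₗ LinearMap.lTensor N' f := by
    rw [LinearMap.lTensor_comp_rTensor, LinearMap.rTensor_comp_lTensor]
  have : Function.Injective (LinearMap.lTensor N'' f ∘ₗ LinearMap.rTensor M h) := by
    rw [hcomm]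
    exact h2.comp h1
  exact Function.Injective.of_comp this

/-- extension of flat modules is flat -/
lemma flat_of_exact_mid (f : M →ₗ[A] N) (g : N →ₗ[A] P) (hf : Function.Injective f)
    (hg : Function.Surjective g) (H : Function.Exact f g) [Module.Flat A M] [Module.Flat A P] :
    Module.Flat A N := by
  rw [Module.Flat.iff_rTensor_preserves_injective_linearMap]
  intro N' N'' _ _ _ _ h hh
  rw [injective_iff_map_eq_zero]
  intro x hx
  have hP : Function.Injective (LinearMap.rTensor P h) :=
    Module.Flat.rTensor_preserves_injective_linearMap h hh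
  have hM : Function.Injective (LinearMap.rTensor M h) :=
    Module.Flat.rTensor_preserves_injective_linearMap h hh
  have h1 : LinearMap.lTensor N' g x = 0 := by
    apply hP
    rw [map_zero, ← LinearMap.comp_apply, LinearMap.rTensor_comp_lTensor,
      ← LinearMap.lTensor_comp_rTensor, LinearMap.comp_apply, hx, map_zero]
  obtain ⟨y, rfl⟩ := (lTensor_exact N' H hg x).mp h1
  have h2 : Function.Injective (LinearMap.lTensor N'' f) :=
    LinearMap.lTensor_injective_of_exact_of_flat g hg f hf H N''
  have h3 : LinearMap.rTensor M h y = 0 := by
    apply h2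
    rw [map_zero, ← LinearMap.comp_apply, LinearMap.lTensor_comp_rTensor,
      ← LinearMap.rTensor_comp_lTensor, LinearMap.comp_apply, hx]
  have : y = 0 := hM (by rw [h3, map_zero])
  rw [this, map_zero]

/-- for `l : W → X` with `X` and `X / range l` flat: `W` flat iff `ker l` flat. -/
lemma flat_iff_flat_ker {W X : Type u} [AddCommGroup W] [AddCommGroup X] [Module A W] [Module A X]
    (l : W →ₗ[A] X) [Module.Flat A X] [Module.Flat A (X ⧸ LinearMap.range l)] :
    Module.Flat A W ↔ Module.Flat A (LinearMap.ker l) := by
  haveI : Module.Flat A (LinearMap.range l) :=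
    flat_of_exact_left (LinearMap.range l).subtype (LinearMap.range l).mkQ Subtype.val_injective
      (Submodule.mkQ_surjective _) (LinearMap.exact_subtype_mkQ _)
  have hex : Function.Exact (LinearMap.ker l).subtype l.rangeRestrict := by
    intro w
    rw [Submodule.coe_subtype, Subtype.range_coe]
    exact ⟨fun hw => congrArg Subtype.val hw, fun hw => Subtype.ext hw⟩
  constructor
  · intro h
    exact flat_of_exact_left (LinearMap.ker l).subtype l.rangeRestrict Subtype.val_injective
      l.surjective_rangeRestrict hex
  · intro h
    exact flat_of_exact_mid (LinearMap.ker l).subtype l.rangeRestrict Subtype.val_injective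
      l.surjective_rangeRestrict hex

end

end Groth.Agent.Lib.helper2.FlatSeq
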