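import Mathlib
import Groth.Prelude.Def_ega3
import Groth.Agent.Lib.Helper2.TpHom
import Groth.Agent.Lib.Helper2.FlatSeq
import Groth.Agent.S2380

set_option autoImplicit false
universe u
open CategoryTheory CategoryTheory.Limits MonoidalCategory TensorProduct

namespace Groth.Agent.Lib.helper2.TpLib

noncomputable section

section KerBC
open Groth.Agent.Lib.helper2.FlatSeq
variable {A : Type u} [CommRing A] (κ : Type u) [CommRing κ] [Algebra A κ]
  {W X : Type u} [AddCommGroup W] [AddCommGroup X] [Module A W] [Module A X]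

lemma range_baseChange_ker_subtype (l : W →ₗ[A] X) [Module.Flat A (X ⧸ LinearMap.range l)] :
    LinearMap.range ((LinearMap.ker l).subtype.baseChange κ) = LinearMap.ker (l.baseChange κ) := by
  have hex : Function.Exact (LinearMap.ker l).subtype l.rangeRestrict := by
    intro w
    rw [Submodule.coe_subtype, Subtype.range_coe]
    exact ⟨fun hw => congrArg Subtype.val hw, fun hw => Subtype.ext hw⟩
  have hex' := lTensor_exact κ hex l.surjective_rangeRestrict
  have hinj : Function.Injective ((LinearMap.range l).subtype.lTensor κ) :=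
    LinearMap.lTensor_injective_of_exact_of_flat (LinearMap.range l).mkQ
      (Submodule.mkQ_surjective _) (LinearMap.range l).subtype Subtype.val_injective
      (LinearMap.exact_subtype_mkQ _) κ
  have hcomp : l.lTensor κ = (LinearMap.range l).subtype.lTensor κ ∘ₗ l.rangeRestrict.lTensor κ := by
    rw [← LinearMap.lTensor_comp]
    rfl
  ext x
  rw [LinearMap.mem_ker]
  show x ∈ Set.range ((LinearMap.ker l).subtype.lTensor κ) ↔ l.lTensor κ x = 0
  rw [← hex' x, hcomp, LinearMap.comp_apply]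
  constructor
  · intro h; rw [h, map_zero]
  · intro h; exact hinj (by rw [h, map_zero])

/-- `κ ⊗ ker l ≃ ker (κ ⊗ l)` when `range l` and `coker l` are flat. -/
def kerBCEquiv (l : W →ₗ[A] X) [Module.Flat A (LinearMap.range l)]
    [Module.Flat A (X ⧸ LinearMap.range l)] :
    (κ ⊗[A] LinearMap.ker l) ≃ₗ[κ] LinearMap.ker (l.baseChange κ) :=
  (LinearEquiv.ofInjective ((LinearMap.ker l).subtype.baseChange κ) (by
    have hex : Function.Exact (LinearMap.ker l).subtype l.rangeRestrict := by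
      intro w
      rw [Submodule.coe_subtype, Subtype.range_coe]
      exact ⟨fun hw => congrArg Subtype.val hw, fun hw => Subtype.ext hw⟩
    exact LinearMap.lTensor_injective_of_exact_of_flat l.rangeRestrict
      l.surjective_rangeRestrict (LinearMap.ker l).subtype Subtype.val_injective hex κ)).trans
    (LinearEquiv.ofEq _ _ (range_baseChange_ker_subtype κ l))

end KerBC

section HomBC
open Groth.Agent.S2380
variable {A : Type u} [CommRing A] (κ : Type u) [CommRing κ] [Algebra A κ]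

lemma eM_naturality_cat {M N : ModuleCat.{u} A} (g : M ⟶ N) :
    (ModuleCat.extendScalars (algebraMap A κ)).map g ≫ (eM (κ := κ) N).toModuleIso.hom =
      (eM (κ := κ) M).toModuleIso.hom ≫ ModuleCat.ofHom (g.hom.baseChange κ) := by
  apply ModuleCat.ExtendScalars.hom_ext
  intro m
  rfl

/-- the concrete base-changed short complex `κ⊗M₁ → κ⊗M₂ → κ⊗M₃` -/
def bcSC (S : ShortComplex (ModuleCat.{u} A)) : ShortComplex (ModuleCat.{u} κ) :=
  ShortComplex.mk (ModuleCat.ofHom (S.f.hom.baseChange κ)) (ModuleCat.ofHom (S.g.hom.baseChange κ)) (by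
    rw [← ModuleCat.ofHom_comp, ← LinearMap.baseChange_comp]
    have : S.g.hom ∘ₗ S.f.hom = 0 := by
      rw [← ModuleCat.hom_comp, S.zero]; rfl
    rw [this, LinearMap.baseChange_zero]; rfl)

/-- `F(S) ≅ bcSC S` -/
def bcSCIso (S : ShortComplex (ModuleCat.{u} A)) :
    S.map (ModuleCat.extendScalars (algebraMap A κ)) ≅ bcSC κ S :=
  ShortComplex.isoMk (eM (κ := κ) S.X₁).toModuleIso (eM (κ := κ) S.X₂).toModuleIso
    (eM (κ := κ) S.X₃).toModuleIso
    (eM_naturality_cat κ S.f).symm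
    (eM_naturality_cat κ S.g).symm

end HomBC

section ModBC
variable {A : Type u} [CommRing A] (κ : Type u) [CommRing κ] [Algebra A κ]
  {M₁ M₂ M₃ : Type u} [AddCommGroup M₁] [AddCommGroup M₂] [AddCommGroup M₃]
  [Module A M₁] [Module A M₂] [Module A M₃]

/-- induced map on the cokernel -/
def fromQ {R : Type u} [CommRing R] {N₁ N₂ N₃ : Type u} [AddCommGroup N₁] [AddCommGroup N₂]
    [AddCommGroup N₃] [Module R N₁] [Module R N₂] [Module R N₃]
    (f : N₁ →ₗ[R] N₂) (g : N₂ →ₗ[R] N₃) (h : g ∘ₗ f = 0) : (N₂ ⧸ LinearMap.range f) →ₗ[R] N₃ :=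
  (LinearMap.range f).liftQ g (LinearMap.range_le_ker_iff.2 h)

lemma bc_comp_zero (f : M₁ →ₗ[A] M₂) (g : M₂ →ₗ[A] M₃) (h : g ∘ₗ f = 0) :
    g.baseChange κ ∘ₗ f.baseChange κ = 0 := by
  rw [← LinearMap.baseChange_comp, h, LinearMap.baseChange_zero]

/-- `(κ⊗M₂)/range ≃ κ⊗(M₂/range)` -/
def quotBCEquiv (f : M₁ →ₗ[A] M₂) :
    ((κ ⊗[A] M₂) ⧸ LinearMap.range (f.baseChange κ)) ≃ₗ[κ] κ ⊗[A] (M₂ ⧸ LinearMap.range f) :=
  (Submodule.quotEquivOfEq _ _ (by
    have hex := lTensor_exact κ (LinearMap.exact_map_mkQ_range f) (Submodule.mkQ_surjective _)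
    ext x
    rw [LinearMap.mem_ker]
    exact (hex x).symm)).trans
  (((LinearMap.range f).mkQ.baseChange κ).quotKerEquivOfSurjective
    (LinearMap.lTensor_surjective κ (Submodule.mkQ_surjective _)))

lemma baseChange_fromQ_comp_quotBCEquiv (f : M₁ →ₗ[A] M₂) (g : M₂ →ₗ[A] M₃) (h : g ∘ₗ f = 0) :
    ((fromQ f g h).baseChange κ) ∘ₗ (quotBCEquiv κ f).toLinearMap =
      fromQ (f.baseChange κ) (g.baseChange κ) (bc_comp_zero κ f g h) := by
  apply Submodule.linearMap_qext
  ext x
  rfl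

/-- `ker (fromQ (κ⊗f) (κ⊗g)) ≃ ker (κ ⊗ fromQ f g)` -/
def kerFromQBCEquiv (f : M₁ →ₗ[A] M₂) (g : M₂ →ₗ[A] M₃) (h : g ∘ₗ f = 0) :
    LinearMap.ker (fromQ (f.baseChange κ) (g.baseChange κ) (bc_comp_zero κ f g h)) ≃ₗ[κ]
      LinearMap.ker ((fromQ f g h).baseChange κ) :=
  (quotBCEquiv κ f).ofSubmodules _ _ (by
    rw [← baseChange_fromQ_comp_quotBCEquiv, LinearMap.ker_comp,
      Submodule.map_comap_eq_of_surjective (quotBCEquiv κ f).surjective])

end ModBC

section HomBC2
open Groth.Agent.S2380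
variable {A : Type u} [CommRing A] (κ : Type u) [CommRing κ] [Algebra A κ]
  (P : ChainComplex (ModuleCat.{u} A) ℤ)

lemma sc_zero_hom (S : ShortComplex (ModuleCat.{u} A)) : S.g.hom ∘ₗ S.f.hom = 0 := by
  rw [← ModuleCat.hom_comp, S.zero]; rfl

/-- `H(bcSC S) ≃ ker (κ ⊗ scFromQ S)` -/
def homologyBCEquivKer (S : ShortComplex (ModuleCat.{u} A)) :
    (bcSC κ S).homology ≃ₗ[κ] LinearMap.ker ((scFromQ S).baseChange κ) :=
  (scHomologyEquivKer (bcSC κ S)).trans (kerFromQBCEquiv κ S.f.hom S.g.hom (sc_zero_hom S))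

/-- `H_q(P_κ) ≃ ker (κ ⊗ (W_q → P_{q-1}))` -/
def homologyBcCxEquivKer (q : ℤ) :
    ((CohIII.bcCx (algebraMap A κ) P).homology q) ≃ₗ[κ]
      LinearMap.ker ((fromW P q).baseChange κ) :=
  ((ShortComplex.homologyMapIso (bcSCIso κ (P.sc q))).toLinearEquiv).trans
    (homologyBCEquivKer κ (P.sc q))

end HomBC2

section LemmaBC
open Groth.Agent.Lib.helper2.FlatSeq
variable {A : Type u} [CommRing A] (P : ChainComplex (ModuleCat.{u} A) ℤ)

/-- **Lemma BC**: if `W_{q-1}` is flat, the homology of the base change is the base change of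
the homology: `H_q(P_κ) ≃ κ ⊗ T_q(A)`. -/
def homologyBcCxEquiv (κ : Type u) [CommRing κ] [Algebra A κ]
    (hP : ∀ i, Module.Flat A (P.X i)) (q : ℤ) (h : Module.Flat A (W P (q - 1))) :
    ((CohIII.bcCx (algebraMap A κ) P).homology q) ≃ₗ[κ]
      κ ⊗[A] ((CohIII.TFun P q).obj (ModuleCat.of A A)) := by
  have hn : (ComplexShape.down ℤ).next q = q - 1 := by simp
  haveI := hP ((ComplexShape.down ℤ).next q)
  haveI : Module.Flat A (W P ((ComplexShape.down ℤ).next q)) := by rw [hn]; exact h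
  haveI : Module.Flat A
      (P.X ((ComplexShape.down ℤ).next q) ⧸ LinearMap.range (fromW P q)) :=
    Module.Flat.of_linearEquiv (cokerFromWEquiv P q)
  haveI : Module.Flat A (LinearMap.range (fromW P q)) :=
    flat_of_exact_left (LinearMap.range (fromW P q)).subtype (LinearMap.range (fromW P q)).mkQ
      Subtype.val_injective (Submodule.mkQ_surjective _) (LinearMap.exact_subtype_mkQ _)
  exact (homologyBcCxEquivKer κ P q).trans ((kerBCEquiv κ (fromW P q)).symm.trans
    (LinearEquiv.baseChange A κ _ _ ((TAEquiv P q).trans (homologyEquivKer P q)).symm))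

lemma dRank_eq_finrank_TA (hP : ∀ i, Module.Flat A (P.X i)) (q : ℤ)
    (h : Module.Flat A (W P (q - 1))) (x : PrimeSpectrum A) :
    CohIII.dRank P q x = Module.finrank x.asIdeal.ResidueField
      (x.asIdeal.ResidueField ⊗[A] ((CohIII.TFun P q).obj (ModuleCat.of A A))) :=
  (homologyBcCxEquiv P x.asIdeal.ResidueField hP q h).finrank_eq

end LemmaBC

end

end Groth.Agent.Lib.helper2.TpLib
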