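import Mathlib
import Groth.Prelude.Def_ega3
import Groth.Agent.Lib.Helper2.TpHom
import Groth.Agent.Lib.Helper2.FlatSeq

set_option autoImplicit false
universe u
open CategoryTheory CategoryTheory.Limits MonoidalCategory TensorProduct

namespace Groth.Agent.Lib.helper2.TpLib

noncomputable section

section UpTo
open Groth.Agent.Lib.helper2.FlatSeq
variable {A : Type u} [CommRing A] (P : ChainComplex (ModuleCat.{u} A) ℤ)

/-- given `W_{q-1}` flat: `W_q` flat iff `T_q(A)` flat -/
lemma flat_W_iff_flat_TA (hP : ∀ i, Module.Flat A (P.X i)) (q : ℤ)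
    (h : Module.Flat A (W P (q - 1))) :
    Module.Flat A (W P q) ↔ Module.Flat A ((CohIII.TFun P q).obj (ModuleCat.of A A)) := by
  have hn : (ComplexShape.down ℤ).next q = q - 1 := by simp
  haveI := hP ((ComplexShape.down ℤ).next q)
  haveI : Module.Flat A (W P ((ComplexShape.down ℤ).next q)) := by rw [hn]; exact h
  haveI : Module.Flat A
      (P.X ((ComplexShape.down ℤ).next q) ⧸ LinearMap.range (fromW P q)) :=
    Module.Flat.of_linearEquiv (cokerFromWEquiv P q)
  rw [flat_iff_flat_ker (fromW P q)]
  exact (Module.Flat.equiv_iff ((TAEquiv P q).trans (homologyEquivKer P q))).symm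

/-- S2446 -/
lemma upTo_main (hP : ∀ i, Module.Flat A (P.X i)) (i₀ : ℤ)
    (hb : ∀ i < i₀, IsZero (P.X i)) (p : ℤ) :
    (∀ q ≤ p, (CohIII.TFun P q).PreservesMonomorphisms ∧ (CohIII.TFun P q).PreservesEpimorphisms) ↔
      ∀ q ≤ p, Module.Flat A ((CohIII.TFun P q).obj (ModuleCat.of A A)) := by
  have hlow : ∀ q < i₀, Module.Flat A (W P q) := by
    intro q hq
    haveI : Subsingleton (P.X q) := ModuleCat.subsingleton_of_isZero (hb q hq)
    haveI : Subsingleton (W P q) := inferInstance
    infer_instance
  constructor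
  · intro h q hq
    have h1 : Module.Flat A (W P q) := (preservesMono_iff_flat_W P hP q).mp (h q hq).1
    have h2 : Module.Flat A (W P (q - 1)) :=
      (preservesMono_iff_flat_W P hP (q - 1)).mp (h (q - 1) (by omega)).1
    exact (flat_W_iff_flat_TA P hP q h2).mp h1
  · intro h
    -- all `W_q` with `q ≤ p` are flat, by induction upward from `i₀`
    have hW : ∀ n : ℕ, ∀ q : ℤ, q ≤ p → q < i₀ + n → Module.Flat A (W P q) := by
      intro n
      induction n with
      | zero =>
        intro q _ hq
        exact hlow q (by simpa using hq)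
      | succ n ih =>
        intro q hqp hq
        have h2 : Module.Flat A (W P (q - 1)) := ih (q - 1) (by omega) (by push_cast at hq; omega)
        exact (flat_W_iff_flat_TA P hP q h2).mpr (h q hqp)
    have hW' : ∀ q ≤ p, Module.Flat A (W P q) := by
      intro q hq
      exact hW (q - i₀ + 1).toNat q hq (by omega)
    intro q hq
    refine ⟨(preservesMono_iff_flat_W P hP q).mpr (hW' q hq), ?_⟩
    rw [← preservesMono_iff_preservesEpi P hP q (q - 1) (by ring)]
    exact (preservesMono_iff_flat_W P hP (q - 1)).mpr (hW' (q - 1) (by omega))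

end UpTo

end

end Groth.Agent.Lib.helper2.TpLib
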