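import Mathlib
import Groth.Prelude.Def_ega3
import Groth.Agent.Lib.Helper2.TpBC
import Groth.Agent.Lib.Helper2.TpUpTo
import Groth.Agent.Lib.Helper2.TpLocus

set_option autoImplicit false
universe u
open CategoryTheory CategoryTheory.Limits MonoidalCategory TensorProduct

namespace Groth.Agent.Lib.helper2.TpLib

noncomputable section

section FlatBC
variable {A : Type u} [CommRing A] (B : Type u) [CommRing B] [Algebra A B] [Module.Flat A B]
  (P : ChainComplex (ModuleCat.{u} A) ℤ)

/-- flat base change of homology -/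
def homologyBcCxFlatEquiv (q : ℤ) :
    (CohIII.bcCx (algebraMap A B) P).homology q ≃ₗ[B] B ⊗[A] P.homology q := by
  have hflat : (algebraMap A B).Flat := RingHom.flat_algebraMap_iff.mpr inferInstance
  haveI := ModuleCat.preservesFiniteLimits_extendScalars_of_flat.{u} hflat
  haveI : (ModuleCat.extendScalars.{u, u, u} (algebraMap A B)).IsLeftAdjoint :=
    ⟨_, ⟨ModuleCat.extendRestrictScalarsAdj (algebraMap A B)⟩⟩
  haveI : (ModuleCat.extendScalars.{u, u, u} (algebraMap A B)).PreservesHomology := inferInstance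
  let e : (CohIII.bcCx (algebraMap A B) P).homology q ≅
      (ModuleCat.extendScalars (algebraMap A B)).obj (P.homology q) :=
    (P.sc q).mapHomologyIso (ModuleCat.extendScalars (algebraMap A B))
  exact e.toLinearEquiv.trans (Groth.Agent.S2380.eM (A := A) (κ := B) (P.homology q))

/-- `T_q^{P_B}(B) ≃ B ⊗ T_q^P(A)` for flat `B`. -/
def TABcCxFlatEquiv (q : ℤ) :
    ((CohIII.TFun (CohIII.bcCx (algebraMap A B) P) q).obj (ModuleCat.of B B)) ≃ₗ[B]
      B ⊗[A] ((CohIII.TFun P q).obj (ModuleCat.of A A)) :=
  (TAEquiv (CohIII.bcCx (algebraMap A B) P) q).trans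
    ((homologyBcCxFlatEquiv B P q).trans
      (LinearEquiv.baseChange A B _ _ (TAEquiv P q).symm))

end FlatBC

section Generic
variable {A : Type u} [CommRing A] [IsDomain A]

lemma exists_basicOpen_subset_freeLocus (M : Type u) [AddCommGroup M] [Module A M]
    [Module.FinitePresentation A M] :
    ∃ f : A, f ≠ 0 ∧
      (PrimeSpectrum.basicOpen f : Set (PrimeSpectrum A)) ⊆ Module.freeLocus A M := by
  have ho := Module.isOpen_freeLocus (R := A) (M := M)
  have hb := bot_mem_freeLocus (A := A) M
  obtain ⟨U, ⟨f, rfl⟩, hfU, hU⟩ :=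
    PrimeSpectrum.isTopologicalBasis_basic_opens.exists_subset_of_mem_open hb ho
  refine ⟨f, ?_, hU⟩
  rintro rfl
  simp at hfU

lemma exists_basicOpen_subset_freeLocus_finset {ι : Type} (s : Finset ι) (M : ι → Type u)
    [∀ i, AddCommGroup (M i)] [∀ i, Module A (M i)]
    (h : ∀ i, Module.FinitePresentation A (M i)) :
    ∃ f : A, f ≠ 0 ∧ ∀ i ∈ s,
      (PrimeSpectrum.basicOpen f : Set (PrimeSpectrum A)) ⊆ Module.freeLocus A (M i) := by
  classical
  choose g hg0 hg using fun i => exists_basicOpen_subset_freeLocus (A := A) (M i)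
  refine ⟨∏ i ∈ s, g i, Finset.prod_ne_zero_iff.mpr (fun i _ => hg0 i), fun i hi => ?_⟩
  refine subset_trans ?_ (hg i)
  obtain ⟨c, hc⟩ := Finset.dvd_prod_of_mem g hi
  rw [hc]
  exact PrimeSpectrum.basicOpen_mul_le_left _ _

omit [IsDomain A] in
lemma flat_tensor_away_of_subset_freeLocus (M : Type u) [AddCommGroup M] [Module A M]
    [Module.FinitePresentation A M] (f : A)
    (h : (PrimeSpectrum.basicOpen f : Set (PrimeSpectrum A)) ⊆ Module.freeLocus A M) :
    Module.Flat (Localization.Away f) (Localization.Away f ⊗[A] M) := by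
  haveI : Module.Projective (Localization.Away f) (LocalizedModule.Away f M) :=
    Module.basicOpen_subset_freeLocus_iff.mp h
  exact Module.Flat.of_linearEquiv
    (IsLocalizedModule.isBaseChange (Submonoid.powers f) (Localization.Away f)
      (LocalizedModule.mkLinearMap (Submonoid.powers f) M)).equiv

variable (P : ChainComplex (ModuleCat.{u} A) ℤ)

omit [IsDomain A] in
lemma subsingleton_TA_of_isZero (q : ℤ) (h : IsZero (P.X q)) :
    Subsingleton ((CohIII.TFun P q).obj (ModuleCat.of A A)) := by
  haveI : Subsingleton (P.X q) := ModuleCat.subsingleton_of_isZero h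
  haveI : Subsingleton (W P q) := inferInstance
  haveI : Subsingleton (LinearMap.ker (fromW P q)) := inferInstance
  exact ((TAEquiv P q).trans (homologyEquivKer P q)).toEquiv.subsingleton

/-- S4486 -/
lemma generic_main (hP : ∀ i, Module.Flat A (P.X i)) (i₀ : ℤ)
    (hb : ∀ i < i₀, IsZero (P.X i))
    (hfp : ∀ n : ℤ, Module.FinitePresentation A (CohIII.T P n (ModuleCat.of A A))) (N : ℤ) :
    ∃ f : A, f ≠ 0 ∧ ∀ p ≤ N,
      (CohIII.TFun (CohIII.bcCx (algebraMap A (Localization.Away f)) P) p).PreservesMonomorphisms ∧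
        (CohIII.TFun (CohIII.bcCx (algebraMap A (Localization.Away f)) P) p).PreservesEpimorphisms := by
  obtain ⟨f, hf0, hf⟩ := exists_basicOpen_subset_freeLocus_finset (A := A) (Finset.Icc i₀ N)
    (fun q => (CohIII.TFun P q).obj (ModuleCat.of A A)) hfp
  refine ⟨f, hf0, ?_⟩
  have hPB := flat_bcCx (B := Localization.Away f) P hP
  have hbB : ∀ i < i₀, IsZero ((CohIII.bcCx (algebraMap A (Localization.Away f)) P).X i) := by
    intro i hi
    exact (ModuleCat.extendScalars (algebraMap A (Localization.Away f))).map_isZero (hb i hi)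
  rw [upTo_main (CohIII.bcCx (algebraMap A (Localization.Away f)) P) hPB i₀ hbB N]
  intro q hq
  have hflat : Module.Flat (Localization.Away f)
      (Localization.Away f ⊗[A] ((CohIII.TFun P q).obj (ModuleCat.of A A))) := by
    by_cases hq0 : q < i₀
    · haveI := subsingleton_TA_of_isZero P q (hb q hq0)
      infer_instance
    · haveI : Module.FinitePresentation A ((CohIII.TFun P q).obj (ModuleCat.of A A)) := hfp q
      exact flat_tensor_away_of_subset_freeLocus _ f
        (hf q (Finset.mem_Icc.mpr ⟨not_lt.mp hq0, hq⟩))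
  exact Module.Flat.of_linearEquiv (TABcCxFlatEquiv (Localization.Away f) P q)

end Generic

end

end Groth.Agent.Lib.helper2.TpLib
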