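import Mathlib
set_option autoImplicit false
universe u
open TensorProduct IsLocalRing Function

namespace Groth.Agent.Lib.helper2.RedLocal

section
variable {R : Type u} [CommRing R] [IsLocalRing R] [IsReduced R]
  {W : Type u} [AddCommGroup W] [Module R W] [Module.Finite R W]

local notation "k" => ResidueField R

/-- coordinate functional after base change: `κ ⊗ (Fin n →₀ R) → κ` -/
noncomputable def coordBC (κ : Type u) [Field κ] [Algebra R κ] (n : ℕ) (j : Fin n) :
    κ ⊗[R] (Fin n →₀ R) →ₗ[R] κ :=
  (TensorProduct.rid R κ).toLinearMap ∘ₗ LinearMap.lTensor κ (Finsupp.lapply j)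

omit [IsLocalRing R] [IsReduced R] in
lemma coordBC_tmul (κ : Type u) [Field κ] [Algebra R κ] (n : ℕ) (j : Fin n) (z : Fin n →₀ R) :
    coordBC κ n j ((1 : κ) ⊗ₜ[R] z) = algebraMap R κ (z j) := by
  simp [coordBC, Algebra.algebraMap_eq_smul_one]

/-- Key lemma: a finite module over a reduced local ring whose fibre dimension at every minimal
prime equals the fibre dimension at the closed point is free. -/
theorem free_of_finrank_minimalPrimes
    (h : ∀ q : PrimeSpectrum R, q.asIdeal ∈ minimalPrimes R →
      Module.finrank q.asIdeal.ResidueField (q.asIdeal.ResidueField ⊗[R] W) =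
        Module.finrank k (k ⊗[R] W)) : Module.Free R W := by
  set n := Module.finrank k (k ⊗[R] W) with hn
  let bk : Module.Basis (Fin n) k (k ⊗[R] W) := Module.finBasis k (k ⊗[R] W)
  have hsurj : Function.Surjective (TensorProduct.mk R k W 1) :=
    TensorProduct.mk_surjective R W k Ideal.Quotient.mk_surjective
  choose v hv using fun j : Fin n => hsurj (bk j)
  let i := Finsupp.linearCombination R v
  have hi : Surjective i := by
    rw [← LinearMap.range_eq_top, Finsupp.range_linearCombination]
    exact IsLocalRing.span_eq_top_of_tmul_eq_basis (R := R) (f := v) bk (fun j => hv j)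
  have hinj : Function.Injective i := by
    rw [injective_iff_map_eq_zero]
    intro z hz
    -- every coordinate lies in every minimal prime
    have hcoord : ∀ j : Fin n, ∀ q ∈ minimalPrimes R, z j ∈ q := by
      intro j q hq
      haveI : q.IsPrime := hq.1.1
      set κ := q.ResidueField with hκ
      have hfr : Module.finrank κ (κ ⊗[R] W) = n := h ⟨q, inferInstance⟩ hq
      -- `κ ⊗ i` is surjective between spaces of the same finite dimension, hence injective
      have hs : Function.Surjective (i.baseChange κ) := i.lTensor_surjective _ hi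
      have hdim : Module.finrank κ (κ ⊗[R] (Fin n →₀ R)) = Module.finrank κ (κ ⊗[R] W) := by
        rw [hfr]
        simp
      have hinjκ : Function.Injective (i.baseChange κ) :=
        (LinearMap.injective_iff_surjective_of_finrank_eq_finrank hdim).mpr hs
      have h0 : i.baseChange κ ((1 : κ) ⊗ₜ[R] z) = 0 := by
        rw [LinearMap.baseChange_tmul, hz, TensorProduct.tmul_zero]
      have h1 : ((1 : κ) ⊗ₜ[R] z : κ ⊗[R] (Fin n →₀ R)) = 0 := hinjκ (by rw [h0, map_zero])
      have h2 := coordBC_tmul κ n j z
      rw [h1, map_zero] at h2
      rw [← Ideal.ker_algebraMap_residueField q, RingHom.mem_ker]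
      exact h2.symm
    ext j
    have : z j ∈ nilradical R := by
      show z j ∈ (⊥ : Ideal R).radical
      rw [← Ideal.sInf_minimalPrimes, Ideal.mem_sInf]
      intro q hq
      exact hcoord j q hq
    rw [nilradical_eq_zero] at this
    simpa using this
  exact Module.Free.of_equiv (LinearEquiv.ofBijective i ⟨hinj, hi⟩)

end

end Groth.Agent.Lib.helper2.RedLocal
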