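import Mathlib
import Groth.Prelude.Def_ega3
import Groth.Agent.Lib.Helper2.TpHom
import Groth.Agent.Lib.Helper2.RedLocal
import Groth.Agent.S16288

set_option autoImplicit false
universe u
open CategoryTheory CategoryTheory.Limits MonoidalCategory TensorProduct

namespace Groth.Agent.Lib.helper2.TpLib

noncomputable section

section FieldExt
variable {A : Type u} [CommRing A]

/-- fibre dimension is invariant under extension of the field -/
lemma finrank_field_ext (κ κ' : Type u) [Field κ] [Field κ'] [Algebra A κ] [Algebra A κ']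
    [Algebra κ κ'] [IsScalarTower A κ κ'] (W : Type u) [AddCommGroup W] [Module A W] :
    Module.finrank κ' (κ' ⊗[A] W) = Module.finrank κ (κ ⊗[A] W) :=
  (TensorProduct.AlgebraTensorModule.cancelBaseChange A κ κ' κ' W).finrank_eq.symm.trans
    Module.finrank_baseChange

/-- fibre rank at a point -/
abbrev fr (y : PrimeSpectrum A) (M : Type u) [AddCommGroup M] [Module A M] : ℕ :=
  Module.finrank y.asIdeal.ResidueField (y.asIdeal.ResidueField ⊗[A] M)

lemma fr_closedPoint [IsLocalRing A] (W : Type u) [AddCommGroup W] [Module A W] :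
    fr (IsLocalRing.closedPoint A) W =
      Module.finrank (IsLocalRing.ResidueField A) (IsLocalRing.ResidueField A ⊗[A] W) := by
  letI : Algebra (IsLocalRing.ResidueField A) (IsLocalRing.maximalIdeal A).ResidueField :=
    inferInstanceAs (Algebra (A ⧸ IsLocalRing.maximalIdeal A) (IsLocalRing.maximalIdeal A).ResidueField)
  haveI : IsScalarTower A (IsLocalRing.ResidueField A) (IsLocalRing.maximalIdeal A).ResidueField :=
    inferInstanceAs (IsScalarTower A (A ⧸ IsLocalRing.maximalIdeal A)
      (IsLocalRing.maximalIdeal A).ResidueField)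
  exact finrank_field_ext (IsLocalRing.ResidueField A) (IsLocalRing.maximalIdeal A).ResidueField W

lemma forall_of_eventually_closedPoint [IsLocalRing A] {p : PrimeSpectrum A → Prop}
    (h : ∀ᶠ y in nhds (IsLocalRing.closedPoint A), p y) : ∀ y, p y := fun y =>
  (h.filter_mono (IsLocalRing.specializes_closedPoint y)).self_of_nhds

end FieldExt

section Reduced
variable {A : Type u} [CommRing A] [IsNoetherianRing A] [IsLocalRing A]
  (P : ChainComplex (ModuleCat.{u} A) ℤ)

lemma fr_const_of_flat (M : Type u) [AddCommGroup M] [Module A M] [Module.Finite A M]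
    [Module.Flat A M] (q : PrimeSpectrum A) : fr q M = fr (IsLocalRing.closedPoint A) M :=
  forall_of_eventually_closedPoint
    ((Groth.Agent.S16288.locConst_rank (A := A) M).eventually_eq (IsLocalRing.closedPoint A)) q

omit [IsNoetherianRing A] in
lemma fr_le_closedPoint (M : Type u) [AddCommGroup M] [Module A M] [Module.Finite A M]
    (q : PrimeSpectrum A) : fr q M ≤ fr (IsLocalRing.closedPoint A) M := by
  have h := Groth.Agent.S2380.fibre_finrank_usc (A := A) M (IsLocalRing.closedPoint A)
    (fr (IsLocalRing.closedPoint A) M + 1) (Nat.lt_succ_self _)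
  exact Nat.lt_succ_iff.mp (forall_of_eventually_closedPoint h q)

omit [IsNoetherianRing A] [IsLocalRing A] in
/-- `W_p` flat iff the quotient `P_p / im(P_{p+1})` is flat -/
lemma flat_W_iff (p : ℤ) :
    Module.Flat A (W P p) ↔ Module.Flat A (P.X p ⧸ LinearMap.range (P.d (p + 1) p).hom) :=
  Module.Flat.equiv_iff (WEquiv P (p + 1) p (by simp))

/-- if `T_p` is exact, then `dRank` is constant -/
lemma dRank_const_of_exact (hP : ∀ i, Module.Finite A (P.X i) ∧ Module.Flat A (P.X i)) (p : ℤ)
    (hm : (CohIII.TFun P p).PreservesMonomorphisms) (he : (CohIII.TFun P p).PreservesEpimorphisms)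
    (q : PrimeSpectrum A) :
    CohIII.dRank P p q = CohIII.dRank P p (IsLocalRing.closedPoint A) := by
  have hfl : ∀ i, Module.Flat A (P.X i) := fun i => (hP i).2
  have hfin : ∀ i, Module.Finite A (P.X i) := fun i => (hP i).1
  have hm' : (CohIII.TFun P (p - 1)).PreservesMonomorphisms :=
    (preservesMono_iff_preservesEpi P hfl p (p - 1) (by ring)).mpr he
  haveI := hfin p
  haveI := hfin (p - 1)
  haveI := hfl (p - 1)
  haveI : Module.Flat A (P.X p ⧸ LinearMap.range (P.d (p + 1) p).hom) :=
    (flat_W_iff P p).mp ((preservesMono_iff_flat_W P hfl p).mp hm)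
  haveI : Module.Flat A (P.X (p - 1) ⧸ LinearMap.range (P.d (p - 1 + 1) (p - 1)).hom) :=
    (flat_W_iff P (p - 1)).mp ((preservesMono_iff_flat_W P hfl (p - 1)).mp hm')
  have e1 := Groth.Agent.S16288.rank_formula' P hfin (p - 1 + 1 + 1) (p - 1 + 1) (p - 1) rfl rfl q
  have e2 := Groth.Agent.S16288.rank_formula' P hfin (p - 1 + 1 + 1) (p - 1 + 1) (p - 1) rfl rfl
    (IsLocalRing.closedPoint A)
  have hpp : p - 1 + 1 = p := by ring
  rw [hpp] at e1 e2
  have c1 := fr_const_of_flat (A := A) (P.X (p - 1)) q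
  have c2 := fr_const_of_flat (A := A) (P.X p ⧸ LinearMap.range (P.d (p + 1) p).hom) q
  have c3 := fr_const_of_flat (A := A)
    (P.X (p - 1) ⧸ LinearMap.range (P.d (p - 1 + 1) (p - 1)).hom) q
  rw [hpp] at c3
  unfold fr at c1 c2 c3
  omega


/-- S2382 (⇐) -/
lemma exact_of_dRank_minimalPrimes [IsReduced A]
    (hP : ∀ i, Module.Finite A (P.X i) ∧ Module.Flat A (P.X i)) (p : ℤ)
    (h : ∀ q : PrimeSpectrum A, q.asIdeal ∈ minimalPrimes A →
        CohIII.dRank P p q = CohIII.dRank P p (IsLocalRing.closedPoint A)) :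
    (CohIII.TFun P p).PreservesMonomorphisms ∧ (CohIII.TFun P p).PreservesEpimorphisms := by
  have hfl : ∀ i, Module.Flat A (P.X i) := fun i => (hP i).2
  have hfin : ∀ i, Module.Finite A (P.X i) := fun i => (hP i).1
  haveI := hfin p
  haveI := hfin (p - 1)
  haveI := hfl (p - 1)
  have hpp : p - 1 + 1 = p := by ring
  -- fibre ranks of the two cokernels agree at minimal primes and the closed point
  have key : ∀ q : PrimeSpectrum A, q.asIdeal ∈ minimalPrimes A →
      fr q (P.X p ⧸ LinearMap.range (P.d (p + 1) p).hom) =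
          fr (IsLocalRing.closedPoint A) (P.X p ⧸ LinearMap.range (P.d (p + 1) p).hom) ∧
        fr q (P.X (p - 1) ⧸ LinearMap.range (P.d p (p - 1)).hom) =
          fr (IsLocalRing.closedPoint A) (P.X (p - 1) ⧸ LinearMap.range (P.d p (p - 1)).hom) := by
    intro q hq
    have e1 := Groth.Agent.S16288.rank_formula' P hfin (p - 1 + 1 + 1) (p - 1 + 1) (p - 1) rfl rfl q
    have e2 := Groth.Agent.S16288.rank_formula' P hfin (p - 1 + 1 + 1) (p - 1 + 1) (p - 1) rfl rfl
      (IsLocalRing.closedPoint A)
    rw [hpp] at e1 e2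
    have c1 := fr_const_of_flat (A := A) (P.X (p - 1)) q
    have c2 := fr_le_closedPoint (A := A) (P.X p ⧸ LinearMap.range (P.d (p + 1) p).hom) q
    have c3 := fr_le_closedPoint (A := A) (P.X (p - 1) ⧸ LinearMap.range (P.d p (p - 1)).hom) q
    have c4 := h q hq
    unfold fr at c1 c2 c3 ⊢
    omega
  haveI : Module.Free A (P.X p ⧸ LinearMap.range (P.d (p + 1) p).hom) := by
    apply Groth.Agent.Lib.helper2.RedLocal.free_of_finrank_minimalPrimes
    intro q hq
    rw [← fr_closedPoint]
    exact (key q hq).1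
  haveI : Module.Free A (P.X (p - 1) ⧸ LinearMap.range (P.d p (p - 1)).hom) := by
    apply Groth.Agent.Lib.helper2.RedLocal.free_of_finrank_minimalPrimes
    intro q hq
    rw [← fr_closedPoint]
    exact (key q hq).2
  have hm : (CohIII.TFun P p).PreservesMonomorphisms :=
    (preservesMono_iff_flat_W P hfl p).mpr ((flat_W_iff P p).mpr inferInstance)
  have hm' : (CohIII.TFun P (p - 1)).PreservesMonomorphisms := by
    refine (preservesMono_iff_flat_W P hfl (p - 1)).mpr ((flat_W_iff P (p - 1)).mpr ?_)
    rw [hpp]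
    infer_instance
  exact ⟨hm, (preservesMono_iff_preservesEpi P hfl p (p - 1) (by ring)).mp hm'⟩

/-- S2382 -/
lemma reduced_local_main [IsReduced A]
    (hP : ∀ i, Module.Finite A (P.X i) ∧ Module.Flat A (P.X i)) (p : ℤ) :
    ((CohIII.TFun P p).PreservesMonomorphisms ∧ (CohIII.TFun P p).PreservesEpimorphisms) ↔
      ∀ q : PrimeSpectrum A, q.asIdeal ∈ minimalPrimes A →
        CohIII.dRank P p q = CohIII.dRank P p (IsLocalRing.closedPoint A) :=
  ⟨fun ⟨hm, he⟩ q _ => dRank_const_of_exact P hP p hm he q, exact_of_dRank_minimalPrimes P hP p⟩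

end Reduced

end

end Groth.Agent.Lib.helper2.TpLib
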