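import Mathlib
import Groth.Prelude.Def_ega3
import Groth.Agent.Lib.Helper2.TpReduced
import Groth.Agent.Lib.Helper2.TpFF
import Groth.Agent.S2440

set_option autoImplicit false
universe u
open CategoryTheory CategoryTheory.Limits MonoidalCategory TensorProduct

namespace Groth.Agent.Lib.helper2.TpLib

noncomputable section

section Global
variable {A : Type u} [CommRing A] [IsNoetherianRing A] (P : ChainComplex (ModuleCat.{u} A) ℤ)

/-- S2381 (1) -/
lemma locConst_dRank_of_exact (hP : ∀ i, Module.Finite A (P.X i) ∧ Module.Flat A (P.X i)) (p : ℤ)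
    (hm : (CohIII.TFun P p).PreservesMonomorphisms) (he : (CohIII.TFun P p).PreservesEpimorphisms) :
    IsLocallyConstant (CohIII.dRank P p) := by
  have hfl : ∀ i, Module.Flat A (P.X i) := fun i => (hP i).2
  have hfin : ∀ i, Module.Finite A (P.X i) := fun i => (hP i).1
  have hm' : (CohIII.TFun P (p - 1)).PreservesMonomorphisms :=
    (preservesMono_iff_preservesEpi P hfl p (p - 1) (by ring)).mpr he
  haveI := hfin p
  haveI := hfin (p - 1)
  haveI := hfl (p - 1)
  have hpp : p - 1 + 1 = p := by ring
  haveI : Module.Flat A (P.X p ⧸ LinearMap.range (P.d (p + 1) p).hom) :=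
    (flat_W_iff P p).mp ((preservesMono_iff_flat_W P hfl p).mp hm)
  haveI : Module.Flat A (P.X (p - 1) ⧸ LinearMap.range (P.d (p - 1 + 1) (p - 1)).hom) :=
    (flat_W_iff P (p - 1)).mp ((preservesMono_iff_flat_W P hfl (p - 1)).mp hm')
  rw [IsLocallyConstant.iff_eventually_eq]
  intro x
  have c1 := (Groth.Agent.S16288.locConst_rank (A := A) (P.X (p - 1))).eventually_eq x
  have c2 := (Groth.Agent.S16288.locConst_rank (A := A)
    (P.X p ⧸ LinearMap.range (P.d (p + 1) p).hom)).eventually_eq x
  have c3 := (Groth.Agent.S16288.locConst_rank (A := A)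
    (P.X (p - 1) ⧸ LinearMap.range (P.d (p - 1 + 1) (p - 1)).hom)).eventually_eq x
  rw [hpp] at c3
  filter_upwards [c1, c2, c3] with y h1 h2 h3
  have e1 := Groth.Agent.S16288.rank_formula' P hfin (p - 1 + 1 + 1) (p - 1 + 1) (p - 1) rfl rfl y
  have e2 := Groth.Agent.S16288.rank_formula' P hfin (p - 1 + 1 + 1) (p - 1 + 1) (p - 1) rfl rfl x
  rw [hpp] at e1 e2
  omega


omit [IsNoetherianRing A] in
lemma finite_bcCx {B : Type u} [CommRing B] [Algebra A B]
    (hP : ∀ i, Module.Finite A (P.X i)) (i : ℤ) :
    Module.Finite B ((CohIII.bcCx (algebraMap A B) P).X i) := by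
  haveI := hP i
  exact Module.Finite.equiv (Groth.Agent.S2380.eM (κ := B) (P.X i)).symm

omit [IsNoetherianRing A] in
/-- flatness is local at maximal ideals, tensor form -/
lemma flat_of_forall_maximal (W : Type u) [AddCommGroup W] [Module A W]
    (h : ∀ (m : Ideal A) [m.IsMaximal],
      Module.Flat (Localization.AtPrime m) (Localization.AtPrime m ⊗[A] W)) : Module.Flat A W := by
  apply Module.flat_of_localized_maximal
  intro m hm
  haveI := h m
  haveI : Module.Flat A (Localization.AtPrime m ⊗[A] W) :=
    Module.Flat.trans A (Localization.AtPrime m) _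
  exact Module.Flat.of_linearEquiv
    ((LocalizedModule.equivTensorProduct m.primeCompl W).restrictScalars A)

/-- S2381 (2) -/
lemma exact_of_locConst_dRank [IsReduced A]
    (hP : ∀ i, Module.Finite A (P.X i) ∧ Module.Flat A (P.X i)) (p : ℤ)
    (hc : IsLocallyConstant (CohIII.dRank P p)) :
    (CohIII.TFun P p).PreservesMonomorphisms ∧ (CohIII.TFun P p).PreservesEpimorphisms := by
  have hfl : ∀ i, Module.Flat A (P.X i) := fun i => (hP i).2
  have hfin : ∀ i, Module.Finite A (P.X i) := fun i => (hP i).1
  -- local statement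
  have hloc : ∀ (m : Ideal A) [m.IsMaximal],
      (CohIII.TFun (CohIII.bcCx (algebraMap A (Localization.AtPrime m)) P) p).PreservesMonomorphisms ∧
      (CohIII.TFun (CohIII.bcCx (algebraMap A (Localization.AtPrime m)) P) p).PreservesEpimorphisms := by
    intro m hm
    apply exact_of_dRank_minimalPrimes _ (fun i => ⟨finite_bcCx P hfin i, flat_bcCx P hfl i⟩) p
    intro q _
    rw [Groth.Agent.S2440.main P p q,
      Groth.Agent.S2440.main P p (IsLocalRing.closedPoint (Localization.AtPrime m))]
    -- `comap q` specializes to `comap closedPoint`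
    have hs : PrimeSpectrum.comap (algebraMap A (Localization.AtPrime m)) q ⤳
        PrimeSpectrum.comap (algebraMap A (Localization.AtPrime m))
          (IsLocalRing.closedPoint (Localization.AtPrime m)) :=
      (IsLocalRing.specializes_closedPoint q).map (PrimeSpectrum.continuous_comap _)
    have hopen : IsOpen {y | CohIII.dRank P p y = CohIII.dRank P p
        (PrimeSpectrum.comap (algebraMap A (Localization.AtPrime m))
          (IsLocalRing.closedPoint (Localization.AtPrime m)))} :=
      hc.isOpen_fiber _
    exact hs.mem_open hopen rfl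
  have hmono : ∀ j : ℤ, (∀ (m : Ideal A) [m.IsMaximal],
      (CohIII.TFun (CohIII.bcCx (algebraMap A (Localization.AtPrime m)) P) j).PreservesMonomorphisms) →
      (CohIII.TFun P j).PreservesMonomorphisms := by
    intro j hj
    rw [preservesMono_iff_flat_W P hfl j]
    apply flat_of_forall_maximal
    intro m hm
    have := (preservesMono_iff_flat_W _ (flat_bcCx P hfl) j).mp (hj m)
    exact (Module.Flat.equiv_iff (WBCEquiv (B := Localization.AtPrime m) P j)).mp this
  refine ⟨hmono p (fun m hm => (hloc m).1), ?_⟩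
  rw [← preservesMono_iff_preservesEpi P hfl p (p - 1) (by ring)]
  apply hmono (p - 1)
  intro m hm
  exact (preservesMono_iff_preservesEpi _ (flat_bcCx P hfl) p (p - 1) (by ring)).mpr (hloc m).2

/-- S2381 -/
lemma global_main (hP : ∀ i, Module.Finite A (P.X i) ∧ Module.Flat A (P.X i)) (p : ℤ) :
    ((CohIII.TFun P p).PreservesMonomorphisms ∧ (CohIII.TFun P p).PreservesEpimorphisms →
        IsLocallyConstant (CohIII.dRank P p)) ∧
      (IsReduced A → IsLocallyConstant (CohIII.dRank P p) →
        (CohIII.TFun P p).PreservesMonomorphisms ∧ (CohIII.TFun P p).PreservesEpimorphisms) :=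
  ⟨fun ⟨hm, he⟩ => locConst_dRank_of_exact P hP p hm he,
    fun _ hc => exact_of_locConst_dRank P hP p hc⟩

end Global

end

end Groth.Agent.Lib.helper2.TpLib
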