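import Mathlib
import Groth.Prelude.Def_ega3
import Groth.Agent.Lib.Helper2.TpBC

set_option autoImplicit false
universe u
open CategoryTheory CategoryTheory.Limits MonoidalCategory TensorProduct

namespace Groth.Agent.Lib.helper2.TpLib

noncomputable section

section ResExt
open Groth.Agent.S2380
variable {A : Type u} [CommRing A] (R : Type u) [CommRing R] [Algebra A R]

/-- `Res(R ⊗ M) ≃ M ⊗ R` as `A`-modules. -/
def resExtEquiv (M : ModuleCat.{u} A) :
    ((ModuleCat.restrictScalars (algebraMap A R)).obj
      ((ModuleCat.extendScalars (algebraMap A R)).obj M)) ≃ₗ[A] (M ⊗[A] R) :=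
  { toFun := fun x => TensorProduct.comm A R M (eM (κ := R) M x)
    invFun := fun y => (eM (κ := R) M).symm ((TensorProduct.comm A R M).symm y)
    map_add' := fun x y =>
      ((TensorProduct.comm A R M).toLinearMap.toAddMonoidHom.comp
        (eM (κ := R) M).toLinearMap.toAddMonoidHom).map_add x y
    map_smul' := fun a x => by
      simp only [RingHom.id_apply]
      rw [ModuleCat.restrictScalars.smul_def, (eM (κ := R) M).map_smul, algebraMap_smul,
        map_smul]
    left_inv := fun x => by simp
    right_inv := fun y => by simp }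

lemma comm_baseChange {M N : Type u} [AddCommGroup M] [AddCommGroup N] [Module A M] [Module A N]
    (g : M →ₗ[A] N) (y : R ⊗[A] M) :
    TensorProduct.comm A R N (g.baseChange R y) = g.rTensor R (TensorProduct.comm A R M y) := by
  induction y using TensorProduct.induction_on with
  | zero => simp
  | tmul r m => rfl
  | add x y hx hy => rw [map_add, map_add, map_add, map_add, hx, hy]

lemma resExtEquiv_naturality {M N : ModuleCat.{u} A} (g : M ⟶ N) :
    (ModuleCat.restrictScalars (algebraMap A R)).map
        ((ModuleCat.extendScalars (algebraMap A R)).map g) ≫ (resExtEquiv R N).toModuleIso.hom =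
      (resExtEquiv R M).toModuleIso.hom ≫ (g ▷ ModuleCat.of A R) := by
  ext x
  have h := congrArg (fun k => k.hom x) (eM_naturality_cat R g)
  show TensorProduct.comm A R N (eM (κ := R) N (((ModuleCat.extendScalars (algebraMap A R)).map g).hom x)) =
    g.hom.rTensor R (TensorProduct.comm A R M (eM (κ := R) M x))
  rw [← comm_baseChange]
  exact congrArg _ h

variable (P : ChainComplex (ModuleCat.{u} A) ℤ)

/-- `Res(P_R) ≅ P ⊗_A R` as complexes of `A`-modules -/
def resBcCxIso :
    ((ModuleCat.restrictScalars (algebraMap A R)).mapHomologicalComplex _).obj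
      (CohIII.bcCx (algebraMap A R) P) ≅ CohIII.tensorObj P (ModuleCat.of A R) :=
  HomologicalComplex.Hom.isoOfComponents (fun i => (resExtEquiv R (P.X i)).toModuleIso)
    (fun i j _ => (resExtEquiv_naturality R (P.d i j)).symm)

/-- `Res(H_q(P_R)) ≅ T_q(R)` -/
def resHomologyIso (q : ℤ) :
    (ModuleCat.restrictScalars (algebraMap A R)).obj ((CohIII.bcCx (algebraMap A R) P).homology q) ≅
      CohIII.T P q (ModuleCat.of A R) :=
  (((CohIII.bcCx (algebraMap A R) P).sc q).mapHomologyIso
      (ModuleCat.restrictScalars (algebraMap A R))).symm ≪≫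
    (HomologicalComplex.homologyFunctor _ _ q).mapIso (resBcCxIso R P)

lemma finite_of_finite_restrictScalars (M : ModuleCat.{u} R)
    (h : Module.Finite A ((ModuleCat.restrictScalars (algebraMap A R)).obj M)) :
    Module.Finite R M := by
  obtain ⟨s, hs⟩ := h.fg_top
  let toM : (ModuleCat.restrictScalars (algebraMap A R)).obj M → M := fun x => x
  have key : ∀ x : (ModuleCat.restrictScalars (algebraMap A R)).obj M,
      x ∈ Submodule.span A (s : Set ((ModuleCat.restrictScalars (algebraMap A R)).obj M)) →
      toM x ∈ Submodule.span R (toM '' (s : Set _)) := by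
    intro x hx
    induction hx using Submodule.span_induction with
    | mem y hy => exact Submodule.subset_span ⟨y, hy, rfl⟩
    | zero => exact Submodule.zero_mem _
    | add y z _ _ hy hz => exact Submodule.add_mem _ hy hz
    | smul a y _ hy =>
      show algebraMap A R a • toM y ∈ _
      exact Submodule.smul_mem _ _ hy
  constructor
  rw [Submodule.fg_def]
  refine ⟨toM '' (s : Set _), s.finite_toSet.image _, ?_⟩
  rw [eq_top_iff]
  intro x _
  exact key x (by rw [hs]; trivial)

lemma finite_homology_bcCx (q : ℤ) (h : Module.Finite A (CohIII.T P q (ModuleCat.of A R))) :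
    Module.Finite R ((CohIII.bcCx (algebraMap A R) P).homology q) := by
  apply finite_of_finite_restrictScalars (A := A)
  exact Module.Finite.equiv (resHomologyIso R P q).toLinearEquiv.symm

lemma finite_TA_bcCx (q : ℤ) (h : Module.Finite A (CohIII.T P q (ModuleCat.of A R))) :
    Module.Finite R (CohIII.T (CohIII.bcCx (algebraMap A R) P) q (ModuleCat.of R R)) := by
  haveI := finite_homology_bcCx R P q h
  exact Module.Finite.equiv (TAEquiv (CohIII.bcCx (algebraMap A R) P) q).symm

end ResExt

end

end Groth.Agent.Lib.helper2.TpLib
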