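import Mathlib
import Groth.Prelude.Def_ega3
import Groth.Agent.Lib.Helper2.FlatSeq

set_option autoImplicit false
universe u
open CategoryTheory CategoryTheory.Limits

namespace Groth.Agent.Lib.helper2.FlatCyc

noncomputable section
open Groth.Agent.Lib.helper2.FlatSeq

variable {A : Type u} [CommRing A] (F : CochainComplex (ModuleCat.{u} A) ℤ)

/-- concrete cycles -/
abbrev Z (i j : ℤ) : Submodule A (F.X i) := LinearMap.ker (F.d i j).hom

/-- `F^i → Z^{j}` -/
def toZ (i j k : ℤ) : F.X i →ₗ[A] Z F j k :=
  LinearMap.codRestrict _ (F.d i j).hom (fun x => by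
    rw [LinearMap.mem_ker]
    exact congrArg (fun h => h.hom x) (F.d_comp_d i j k))

lemma toZ_exact (i j k : ℤ) : Function.Exact (Z F i j).subtype (toZ F i j k) := by
  intro x
  rw [Submodule.coe_subtype, Subtype.range_coe]
  constructor
  · intro hx
    exact congrArg Subtype.val hx
  · intro hx
    exact Subtype.ext hx

lemma toZ_surjective (i j k : ℤ) (hij : i + 1 = j) (hjk : j + 1 = k)
    (h : IsZero (F.homology j)) : Function.Surjective (toZ F i j k) := by
  rw [← HomologicalComplex.exactAt_iff_isZero_homology,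
    HomologicalComplex.exactAt_iff' F i j k (by simp [← hij]) (by simp [← hjk]),
    ShortComplex.moduleCat_exact_iff] at h
  rintro ⟨y, hy⟩
  obtain ⟨x, hx⟩ := h y hy
  exact ⟨x, Subtype.ext hx⟩

lemma flat_Z_step (hF : ∀ i, Module.Flat A (F.X i)) (i j k : ℤ) (hij : i + 1 = j) (hjk : j + 1 = k)
    (h : IsZero (F.homology j)) (hZ : Module.Flat A (Z F j k)) : Module.Flat A (Z F i j) := by
  haveI := hF i
  exact flat_of_exact_left (Z F i j).subtype (toZ F i j k) Subtype.val_injective
    (toZ_surjective F i j k hij hjk h) (toZ_exact F i j k)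

lemma flat_Z (hF : ∀ i, Module.Flat A (F.X i))
    (hb : ∃ b : ℤ, ∀ i, b < i → IsZero (F.X i)) (d : ℤ) (hac : ∀ p, d < p → IsZero (F.homology p)) :
    Module.Flat A (Z F d (d + 1)) := by
  obtain ⟨b, hb⟩ := hb
  have key : ∀ n : ℕ, ∀ i : ℤ, d ≤ i → b < i + n → Module.Flat A (Z F i (i + 1)) := by
    intro n
    induction n with
    | zero =>
      intro i _ hi
      haveI : Subsingleton (F.X i) := ModuleCat.subsingleton_of_isZero (hb i (by simpa using hi))
      haveI : Subsingleton (Z F i (i + 1)) := inferInstance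
      infer_instance
    | succ n ih =>
      intro i hdi hi
      have h1 := ih (i + 1) (by omega) (by push_cast at hi; omega)
      exact flat_Z_step F hF i (i + 1) (i + 1 + 1) rfl rfl (hac (i + 1) (by omega)) h1
  exact key (b - d + 1).toNat d le_rfl (by omega)

/-- abstract cycles are the concrete kernel -/
def cyclesEquivZ (d j : ℤ) (hj : (ComplexShape.up ℤ).next d = j) : F.cycles d ≃ₗ[A] Z F d j := by
  subst hj
  exact (ShortComplex.moduleCatCyclesIso (F.sc d)).toLinearEquiv

/-- S14612 -/
lemma flat_cycles (hF : ∀ i, Module.Flat A (F.X i))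
    (hb : ∃ b : ℤ, ∀ i, b < i → IsZero (F.X i)) (d : ℤ) (hac : ∀ p, d < p → IsZero (F.homology p)) :
    Module.Flat A (F.cycles d) := by
  haveI := flat_Z F hF hb d hac
  exact Module.Flat.of_linearEquiv (cyclesEquivZ F d (d + 1) (by simp))

end

end Groth.Agent.Lib.helper2.FlatCyc
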