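import Mathlib
import Groth.Prelude.Def_ega3
import Groth.Agent.Lib.Helper2.FlatCyc

set_option autoImplicit false
universe u
open CategoryTheory CategoryTheory.Limits MonoidalCategory TensorProduct

namespace Groth.Agent.Lib.helper2.FlatCyc

noncomputable section

section Cone
variable {C : Type*} [Category C] [Abelian C]

lemma quasiIso_iff_mappingCone_exactAt {K L : CochainComplex C ℤ} (φ : K ⟶ L) :
    QuasiIso φ ↔ ∀ n, (CochainComplex.mappingCone φ).ExactAt n := by
  rw [← HomologicalComplex.mem_quasiIso_iff, ← HomotopyCategory.quotient_map_mem_quasiIso_iff φ,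
    HomotopyCategory.quasiIso_eq_trW_subcategoryAcyclic]
  have h := (HomotopyCategory.subcategoryAcyclic C).trW_iff_of_distinguished _
    (HomotopyCategory.mappingCone_triangleh_distinguished φ)
  exact h.trans (HomotopyCategory.quotient_obj_mem_subcategoryAcyclic_iff_exactAt _)

end Cone

section Tensor
variable {A : Type u} [CommRing A] (F : CochainComplex (ModuleCat.{u} A) ℤ)

lemma subtype_comp_toZ (i j k : ℤ) :
    (Z F j k).subtype ∘ₗ toZ F i j k = (F.d i j).hom := rfl

/-- an acyclic bounded-above complex of flat modules stays acyclic after tensoring -/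
lemma exactAt_tensor_of_acyclic (hF : ∀ i, Module.Flat A (F.X i))
    (hb : ∃ b : ℤ, ∀ i, b < i → IsZero (F.X i)) (hac : ∀ p, IsZero (F.homology p))
    (M : ModuleCat.{u} A) (j : ℤ) :
    (((tensorRight M).mapHomologicalComplex (ComplexShape.up ℤ)).obj F).ExactAt j := by
  rw [HomologicalComplex.exactAt_iff' _ (j - 1) j (j + 1) (by simp) (by simp),
    ShortComplex.moduleCat_exact_iff]
  intro x hx
  -- unfold the maps
  change LinearMap.rTensor M (F.d j (j + 1)).hom x = 0 at hx
  show ∃ w, LinearMap.rTensor M (F.d (j - 1) j).hom w = x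
  haveI : Module.Flat A (Z F (j + 1 + 1) (j + 1 + 1 + 1)) :=
    flat_Z F hF hb (j + 1 + 1) (fun p _ => hac p)
  -- injectivity of `Z^{j+1} ⊗ M → F^{j+1} ⊗ M`
  have hinj : Function.Injective (LinearMap.rTensor M (Z F (j + 1) (j + 1 + 1)).subtype) := by
    rw [← LinearMap.lTensor_inj_iff_rTensor_inj]
    exact LinearMap.lTensor_injective_of_exact_of_flat (toZ F (j + 1) (j + 1 + 1) (j + 1 + 1 + 1))
      (toZ_surjective F (j + 1) (j + 1 + 1) (j + 1 + 1 + 1) rfl rfl (hac _))
      (Z F (j + 1) (j + 1 + 1)).subtype Subtype.val_injective (toZ_exact F _ _ _) M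
  have h1 : LinearMap.rTensor M (toZ F j (j + 1) (j + 1 + 1)) x = 0 := by
    apply hinj
    rw [map_zero, ← LinearMap.comp_apply, ← LinearMap.rTensor_comp, subtype_comp_toZ]
    exact hx
  have hex := rTensor_exact M (toZ_exact F j (j + 1) (j + 1 + 1))
    (toZ_surjective F j (j + 1) (j + 1 + 1) rfl rfl (hac _))
  obtain ⟨z, rfl⟩ := (hex x).mp h1
  have hsurj : Function.Surjective (LinearMap.rTensor M (toZ F (j - 1) j (j + 1))) :=
    LinearMap.rTensor_surjective M
      (toZ_surjective F (j - 1) j (j + 1) (by ring) rfl (hac _))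
  obtain ⟨w, rfl⟩ := hsurj z
  refine ⟨w, ?_⟩
  rw [← LinearMap.comp_apply, ← LinearMap.rTensor_comp, subtype_comp_toZ]

end Tensor

section Main
variable {A : Type u} [CommRing A]

lemma flat_of_iso_biprod (K X Y : ModuleCat.{u} A) (e : K ≅ X ⊞ Y) (hX : Module.Flat A X)
    (hY : Module.Flat A Y) : Module.Flat A K := by
  haveI := hX
  haveI := hY
  haveI : Module.Flat A (X × Y) :=
    Groth.Agent.Lib.helper2.FlatSeq.flat_of_exact_mid (LinearMap.inl A X Y) (LinearMap.snd A X Y)
      LinearMap.inl_injective LinearMap.snd_surjective (by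
        intro z
        constructor
        · intro hz
          exact ⟨z.1, Prod.ext rfl hz.symm⟩
        · rintro ⟨x, rfl⟩
          rfl)
  exact Module.Flat.of_linearEquiv (e ≪≫ ModuleCat.biprodIsoProd X Y).toLinearEquiv

lemma isZero_of_iso_biprod (K X Y : ModuleCat.{u} A) (e : K ≅ X ⊞ Y) (hX : IsZero X)
    (hY : IsZero Y) : IsZero K := by
  haveI := ModuleCat.subsingleton_of_isZero hX
  haveI := ModuleCat.subsingleton_of_isZero hY
  haveI : Subsingleton (X × Y) := inferInstance
  haveI : Subsingleton K := (e ≪≫ ModuleCat.biprodIsoProd X Y).toLinearEquiv.toEquiv.subsingleton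
  exact ModuleCat.isZero_of_subsingleton K

/-- S14613 -/
lemma quasiIso_tensor (C D : CochainComplex (ModuleCat.{u} A) ℤ)
    (hC : ∀ i, Module.Flat A (C.X i)) (hD : ∀ i, Module.Flat A (D.X i))
    (bC : ∃ b : ℤ, ∀ i, b < i → IsZero (C.X i)) (bD : ∃ b : ℤ, ∀ i, b < i → IsZero (D.X i))
    (φ : C ⟶ D) [QuasiIso φ] (M : ModuleCat.{u} A) :
    QuasiIso (((MonoidalCategory.tensorRight M).mapHomologicalComplex (ComplexShape.up ℤ)).map φ) := by
  obtain ⟨b₁, hb₁⟩ := bC
  obtain ⟨b₂, hb₂⟩ := bD
  have hflat : ∀ n, Module.Flat A ((CochainComplex.mappingCone φ).X n) := fun n =>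
    flat_of_iso_biprod _ _ _ (HomologicalComplex.homotopyCofiber.XIsoBiprod φ n (n + 1) rfl)
      (hC _) (hD _)
  have hbd : ∃ b : ℤ, ∀ i, b < i → IsZero ((CochainComplex.mappingCone φ).X i) :=
    ⟨max b₁ b₂, fun i hi => isZero_of_iso_biprod _ _ _
      (HomologicalComplex.homotopyCofiber.XIsoBiprod φ i (i + 1) rfl)
      (hb₁ _ (by omega)) (hb₂ _ (by omega))⟩
  have hac : ∀ p, IsZero ((CochainComplex.mappingCone φ).homology p) := fun p =>
    (HomologicalComplex.exactAt_iff_isZero_homology _ _).mp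
      ((quasiIso_iff_mappingCone_exactAt φ).mp inferInstance p)
  rw [quasiIso_iff_mappingCone_exactAt]
  intro n
  exact (exactAt_tensor_of_acyclic _ hflat hbd hac M n).of_iso
    (CochainComplex.mappingCone.mapHomologicalComplexIso φ (tensorRight M))

end Main

end

end Groth.Agent.Lib.helper2.FlatCyc
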