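import Mathlib

set_option autoImplicit false
universe u
open TensorProduct

namespace Groth.Agent.Lib.helper2.SuppAlg

section
variable {A : Type u} [CommRing A]

lemma finrank_field_ext (κ κ' : Type u) [Field κ] [Field κ'] [Algebra A κ] [Algebra A κ']
    [Algebra κ κ'] [IsScalarTower A κ κ'] (W : Type u) [AddCommGroup W] [Module A W] :
    Module.finrank κ' (κ' ⊗[A] W) = Module.finrank κ (κ ⊗[A] W) :=
  (TensorProduct.AlgebraTensorModule.cancelBaseChange A κ κ' κ' W).finrank_eq.symm.trans
    Module.finrank_baseChange

/-- fibre rank at a point -/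
noncomputable abbrev fr (y : PrimeSpectrum A) (M : Type u) [AddCommGroup M] [Module A M] : ℕ :=
  Module.finrank y.asIdeal.ResidueField (y.asIdeal.ResidueField ⊗[A] M)

lemma fr_baseChange {A' : Type u} [CommRing A'] [Algebra A A'] (W : Type u) [AddCommGroup W]
    [Module A W] (x' : PrimeSpectrum A') :
    fr x' (A' ⊗[A] W) = fr (PrimeSpectrum.comap (algebraMap A A') x') W := by
  set x := PrimeSpectrum.comap (algebraMap A A') x' with hx
  let ψ : x.asIdeal.ResidueField →+* x'.asIdeal.ResidueField :=
    Ideal.ResidueField.map x.asIdeal x'.asIdeal (algebraMap A A') rfl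
  letI : Algebra x.asIdeal.ResidueField x'.asIdeal.ResidueField := ψ.toAlgebra
  haveI : IsScalarTower A x.asIdeal.ResidueField x'.asIdeal.ResidueField :=
    IsScalarTower.of_algebraMap_eq' (by
      ext r
      rw [IsScalarTower.algebraMap_eq A A' x'.asIdeal.ResidueField]
      simp [ψ, RingHom.algebraMap_toAlgebra])
  unfold fr
  rw [← finrank_field_ext x.asIdeal.ResidueField x'.asIdeal.ResidueField W]
  exact (TensorProduct.AlgebraTensorModule.cancelBaseChange A A' x'.asIdeal.ResidueField
    x'.asIdeal.ResidueField W).finrank_eq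

lemma mem_support_iff_fr_pos (M : Type u) [AddCommGroup M] [Module A M] [Module.Finite A M]
    (p : PrimeSpectrum A) : p ∈ Module.support A M ↔ 0 < fr p M := by
  rw [Module.mem_support_iff_nontrivial_residueField_tensorProduct, Module.finrank_pos_iff]

lemma fr_tensor (M N : Type u) [AddCommGroup M] [Module A M] [AddCommGroup N] [Module A N]
    (p : PrimeSpectrum A) : fr p (M ⊗[A] N) = fr p M * fr p N := by
  unfold fr
  rw [← Module.finrank_tensorProduct]
  exact (TensorProduct.AlgebraTensorModule.distribBaseChange A p.asIdeal.ResidueField M N).finrank_eq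

theorem support_tensorProduct (M N : Type u) [AddCommGroup M] [Module A M] [AddCommGroup N]
    [Module A N] [Module.Finite A M] [Module.Finite A N] :
    Module.support A (M ⊗[A] N) = Module.support A M ∩ Module.support A N := by
  ext p
  rw [Set.mem_inter_iff, mem_support_iff_fr_pos, mem_support_iff_fr_pos, mem_support_iff_fr_pos,
    fr_tensor]
  exact Nat.pos_iff_ne_zero.trans (mul_ne_zero_iff.trans
    (and_congr Nat.pos_iff_ne_zero.symm Nat.pos_iff_ne_zero.symm))

theorem support_baseChange {A' : Type u} [CommRing A'] [Algebra A A'] (M : Type u)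
    [AddCommGroup M] [Module A M] [Module.Finite A M] :
    Module.support A' (A' ⊗[A] M) =
      PrimeSpectrum.comap (algebraMap A A') ⁻¹' Module.support A M := by
  ext p
  rw [Set.mem_preimage, mem_support_iff_fr_pos, mem_support_iff_fr_pos, fr_baseChange]

end

end Groth.Agent.Lib.helper2.SuppAlg
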