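import Mathlib
import Groth.Prelude.Def_CohB1
import Groth.Agent.Lib.Helper2.TensorQCoh
import Groth.Agent.Lib.Helper2.SuppAlg
import Groth.Agent.Lib.Helper28.QCohSupport
import Groth.Agent.Lib.Helper16.QCohPullback2

set_option autoImplicit false
universe u
open CategoryTheory CategoryTheory.Limits AlgebraicGeometry Opposite TopologicalSpace TensorProduct

namespace Groth.Agent.Lib.helper2.TensorSupp

open Groth.Agent.Lib.helper2.TildeTensor Groth.Agent.Lib.helper2.TensorQCoh
  Groth.Agent.Lib.helper2.SuppAlg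
  Groth.Agent.Lib.helper16.CohFinite Groth.Agent.Lib.helper16.QCohPullback Scheme.Modules

noncomputable section

variable {X : Scheme.{u}} (F G : X.Modules)

/-- `Γ(F,U) ≃ secMod F hU`, linear over `Γ(X,U)`. -/
def sectionsEquiv {U : X.Opens} (hU : IsAffineOpen U) :
    Γ(F, U) ≃ₗ[Γ(X, U)] TensorQCoh.secMod F hU :=
  LinearEquiv.ofBijective (toSpecSections F hU)
    ⟨toSpecSections_injective F hU, toSpecSections_surjective F hU⟩

theorem mem_support_iff [F.IsQuasicoherent] {U : X.Opens} (hU : IsAffineOpen U) (x : X)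
    (hx : x ∈ U) :
    x ∈ CohB1.support F ↔
      hU.primeIdealOf ⟨x, hx⟩ ∈ Module.support Γ(X, U) (TensorQCoh.secMod F hU) := by
  rw [← (sectionsEquiv F hU).support_eq]
  exact (Groth.Agent.Lib.helper28.primeIdealOf_mem_support_iff F hU x hx).symm

/-- sections of `F ⊗ G` over an affine open: `Γ(F,U) ⊗ Γ(G,U)` (in the `secMod` form). -/
def secModTensorIso [F.IsQuasicoherent] [G.IsQuasicoherent] {U : X.Opens} (hU : IsAffineOpen U) :
    TensorQCoh.secMod (CohB1.tensorMod F G) hU ≅
      ModuleCat.of Γ(X, U) (TensorQCoh.secMod F hU ⊗[Γ(X, U)] TensorQCoh.secMod G hU) :=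
  moduleSpecΓFunctor.mapIso (affineTensorIso F G hU) ≪≫ (tilde.isoTop _).symm

theorem support_tensorMod [F.IsQuasicoherent] [G.IsQuasicoherent]
    (hF : CohB1.IsFT F) (hG : CohB1.IsFT G) :
    CohB1.support (CohB1.tensorMod F G) = CohB1.support F ∩ CohB1.support G := by
  haveI := isQuasicoherent_tensorMod F G
  ext x
  obtain ⟨U, hU, hxU, -⟩ := Opens.isBasis_iff_nbhd.mp X.isBasis_affineOpens
    (show x ∈ (⊤ : X.Opens) from trivial)
  haveI := finite_secMod F hF hU
  haveI := finite_secMod G hG hU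
  rw [Set.mem_inter_iff, mem_support_iff _ hU x hxU, mem_support_iff F hU x hxU,
    mem_support_iff G hU x hxU, (secModTensorIso F G hU).toLinearEquiv.support_eq,
    ← Set.mem_inter_iff]
  exact Set.ext_iff.mp (support_tensorProduct _ _) _

section Pull

variable {Y : Scheme.{u}} (f : Y ⟶ X) (M : X.Modules)

/-- the underlying module of `extendScalars` is the base change along `φ.toAlgebra`. -/
def extendScalarsEquiv {R S : CommRingCat.{u}} (φ : R ⟶ S) (N : ModuleCat.{u} R) :
    letI := φ.hom.toAlgebra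
    ((ModuleCat.extendScalars φ.hom).obj N) ≃ₗ[S] (S ⊗[R] N) :=
  letI := φ.hom.toAlgebra
  { toFun := fun x => x
    invFun := fun x => x
    map_add' := fun _ _ => rfl
    map_smul' := fun s x => rfl
    left_inv := fun _ => rfl
    right_inv := fun _ => rfl }

theorem comap_primeIdealOf {U : X.Opens} (hU : IsAffineOpen U) {V : Y.Opens} (hV : IsAffineOpen V)
    (e : V ≤ f ⁻¹ᵁ U) (y : Y) (hy : y ∈ V) :
    PrimeSpectrum.comap (f.appLE U V e).hom (hV.primeIdealOf ⟨y, hy⟩) =
      hU.primeIdealOf ⟨f y, e hy⟩ := by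
  have hinj : Function.Injective hU.fromSpec :=
    (Scheme.Hom.isOpenEmbedding hU.fromSpec).injective
  apply hinj
  have h1 : hU.fromSpec (hU.primeIdealOf ⟨f y, e hy⟩) = f y := hU.fromSpec_primeIdealOf ⟨f y, e hy⟩
  have h2 : hV.fromSpec (hV.primeIdealOf ⟨y, hy⟩) = y := hV.fromSpec_primeIdealOf ⟨y, hy⟩
  have h3 := IsAffineOpen.SpecMap_appLE_fromSpec f hU hV e
  rw [h1]
  have h4 : hU.fromSpec (PrimeSpectrum.comap (f.appLE U V e).hom (hV.primeIdealOf ⟨y, hy⟩)) =
      (Spec.map (f.appLE U V e) ≫ hU.fromSpec) (hV.primeIdealOf ⟨y, hy⟩) := rfl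
  rw [h4, h3]
  change f (hV.fromSpec (hV.primeIdealOf ⟨y, hy⟩)) = f y
  rw [h2]

theorem support_pullback [M.IsQuasicoherent] (hM : CohB1.IsFT M) :
    CohB1.support ((Scheme.Modules.pullback f).obj M) = f ⁻¹' CohB1.support M := by
  haveI := isQuasicoherent_pullback f M
  ext y
  obtain ⟨U, hU, hxU, -⟩ := Opens.isBasis_iff_nbhd.mp X.isBasis_affineOpens
    (show f y ∈ (⊤ : X.Opens) from trivial)
  obtain ⟨V, hV, hyV, hVU⟩ := Opens.isBasis_iff_nbhd.mp Y.isBasis_affineOpens
    (show y ∈ f ⁻¹ᵁ U from hxU)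
  haveI := finite_secMod M hM hU
  letI := (f.appLE U V hVU).hom.toAlgebra
  rw [Set.mem_preimage, mem_support_iff _ hV y hyV, mem_support_iff M hU (f y) hxU,
    (pullbackSectionsIso f M hU hV hVU).toLinearEquiv.support_eq,
    (extendScalarsEquiv (f.appLE U V hVU) _).support_eq, support_baseChange, Set.mem_preimage]
  have := comap_primeIdealOf f hU hV hVU y hyV
  rw [← this]
  rfl

end Pull

theorem support_tensorMod_pullback {S X Y : Scheme.{u}} (f : X ⟶ S) (g : Y ⟶ S)
    (F : X.Modules) (G : Y.Modules) [F.IsQuasicoherent] [G.IsQuasicoherent]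
    (hF : CohB1.IsFT F) (hG : CohB1.IsFT G) :
    CohB1.support (CohB1.tensorMod ((Scheme.Modules.pullback (pullback.fst f g)).obj F)
        ((Scheme.Modules.pullback (pullback.snd f g)).obj G)) =
      (pullback.fst f g) ⁻¹' CohB1.support F ∩ (pullback.snd f g) ⁻¹' CohB1.support G := by
  haveI := isQuasicoherent_pullback (pullback.fst f g) F
  haveI := isQuasicoherent_pullback (pullback.snd f g) G
  rw [support_tensorMod _ _
    (Groth.Agent.Lib.helper16.QCohPullback2.isFiniteType_pullback (pullback.fst f g) F hF)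
    (Groth.Agent.Lib.helper16.QCohPullback2.isFiniteType_pullback (pullback.snd f g) G hG),
    support_pullback _ _ hF, support_pullback _ _ hG]

end

end Groth.Agent.Lib.helper2.TensorSupp
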