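import Groth.Agent.Lib.Helper2.ModSec2

/-!
# Sectionwise criteria on a basis (helper2)
-/

universe u
open CategoryTheory CategoryTheory.Limits AlgebraicGeometry TopologicalSpace Opposite

namespace Groth.Agent.Lib.helper2.ModSec

variable {X : Scheme.{u}} {M N : X.Modules}

theorem section_ext_basis (M : X.Modules) (B : Set X.Opens) (hB : Opens.IsBasis B)
    {V : X.Opens} (s t : Γ(M, V))
    (h : ∀ W ∈ B, ∀ (i : W ⟶ V), M.presheaf.map i.op s = M.presheaf.map i.op t) :
    s = t := by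
  let ι := {W : X.Opens // W ∈ B ∧ W ≤ V}
  refine (sheaf M).eq_of_locally_eq' (fun W : ι => W.1) V (fun W => homOfLE W.2.2) ?_ s t
    (fun W => h W.1 W.2.1 _)
  intro x hx
  obtain ⟨W, hW, hxW, hWV⟩ := Opens.isBasis_iff_nbhd.mp hB hx
  exact Opens.mem_iSup.mpr ⟨⟨W, hW, hWV⟩, hxW⟩

theorem mono_of_injective_basis (φ : M ⟶ N) (B : Set X.Opens) (hB : Opens.IsBasis B)
    (h : ∀ U ∈ B, Function.Injective (φ.app U)) : Mono φ := by
  rw [mono_iff_injective_app]
  intro V
  rw [injective_iff_map_eq_zero]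
  intro s hs
  apply section_ext_basis M B hB
  intro W hW i
  rw [map_zero]
  apply (injective_iff_map_eq_zero _).mp (h W hW)
  rw [← map_app_apply, hs, map_zero]

theorem isIso_of_bijective_basis (φ : M ⟶ N) (B : Set X.Opens) (hB : Opens.IsBasis B)
    (h : ∀ U ∈ B, Function.Bijective (φ.app U)) : IsIso φ := by
  let ψ : sheaf M ⟶ sheaf N := ⟨φ.mapPresheaf⟩
  have hψ : IsIso ψ := by
    refine TopCat.Sheaf.isIso_iff_isIso_basis (B := fun W : B => W.1) ?_ ?_
    · rw [Subtype.range_coe]; exact hB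
    · intro W
      exact (ConcreteCategory.isIso_iff_bijective _).mpr (h W.1 W.2)
  have h2 : IsIso ((TopCat.Sheaf.forget _ _).map ψ) := inferInstance
  have h3 : IsIso ((Scheme.Modules.toPresheaf X).map φ) := h2
  exact isIso_of_reflects_iso φ (Scheme.Modules.toPresheaf X)

/-- the affine opens contained in a member of an open cover form a basis -/
theorem isBasis_affine_le {ι : Type*} (V : ι → X.Opens) (hV : iSup V = ⊤) :
    Opens.IsBasis {W : X.Opens | IsAffineOpen W ∧ ∃ i, W ≤ V i} := by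
  rw [Opens.isBasis_iff_nbhd]
  intro U x hx
  have hx' : x ∈ iSup V := by rw [hV]; trivial
  obtain ⟨i, hi⟩ := Opens.mem_iSup.mp hx'
  obtain ⟨W, hW, hxW, hWU⟩ := Opens.isBasis_iff_nbhd.mp (X.isBasis_affineOpens)
    (show x ∈ U ⊓ V i from ⟨hx, hi⟩)
  exact ⟨W, ⟨hW, i, hWU.trans inf_le_right⟩, hxW, hWU.trans inf_le_left⟩

end Groth.Agent.Lib.helper2.ModSec
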