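import Mathlib.AlgebraicGeometry.Modules.Sheaf
import Mathlib.AlgebraicGeometry.AffineScheme
import Mathlib.Topology.Sheaves.SheafCondition.UniqueGluing
import Mathlib.Topology.Sheaves.SheafCondition.Sites
import Mathlib.Algebra.Category.Grp.Limits
import Mathlib.Algebra.Category.Grp.EpiMono

/-!
# Sectionwise criteria for morphisms of `𝒪_X`-modules (helper2)
-/

universe u
open CategoryTheory CategoryTheory.Limits AlgebraicGeometry TopologicalSpace Opposite

namespace Groth.Agent.Lib.helper2.ModSec

variable {X : Scheme.{u}} {M N : X.Modules}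

/-- the underlying sheaf of abelian groups -/
noncomputable def sheaf (M : X.Modules) : TopCat.Sheaf Ab.{u} X := ⟨M.presheaf, M.isSheaf⟩

theorem mono_iff_injective_app (φ : M ⟶ N) :
    Mono φ ↔ ∀ U : X.Opens, Function.Injective (φ.app U) := by
  constructor
  · intro h U
    have h1 : Mono ((Scheme.Modules.toPresheaf X).map φ) := inferInstance
    have h2 : Mono (((Scheme.Modules.toPresheaf X).map φ).app (op U)) := inferInstance
    exact (AddCommGrpCat.mono_iff_injective _).mp h2
  · intro h
    apply (Scheme.Modules.toPresheaf X).mono_of_mono_map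
    apply (config := { allowSynthFailures := true }) NatTrans.mono_of_mono_app
    intro U
    exact (AddCommGrpCat.mono_iff_injective _).mpr (h U.unop)

theorem isIso_iff_bijective_app (φ : M ⟶ N) :
    IsIso φ ↔ ∀ U : X.Opens, Function.Bijective (φ.app U) := by
  rw [Scheme.Modules.Hom.isIso_iff_isIso_app]
  exact forall_congr' fun U => ConcreteCategory.isIso_iff_bijective _

theorem map_app_apply (φ : M ⟶ N) {U V : X.Opens} (i : U ⟶ V) (s : Γ(M, V)) :
    N.presheaf.map i.op (φ.app V s) = φ.app U (M.presheaf.map i.op s) := by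
  have := φ.mapPresheaf.naturality i.op
  exact (congr($this s)).symm

/-- locality of equality of sections, for the affine opens contained in `V` -/
theorem section_ext (M : X.Modules) {V : X.Opens} (s t : Γ(M, V))
    (h : ∀ (W : X.affineOpens) (i : W.1 ⟶ V), M.presheaf.map i.op s = M.presheaf.map i.op t) :
    s = t := by
  let ι := {W : X.affineOpens // W.1 ≤ V}
  refine (sheaf M).eq_of_locally_eq' (fun W : ι => W.1.1) V (fun W => homOfLE W.2) ?_ s t
    (fun W => h W.1 _)
  intro x hx
  obtain ⟨W, hW, hxW, hWV⟩ := Opens.isBasis_iff_nbhd.mp (X.isBasis_affineOpens) hx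
  exact Opens.mem_iSup.mpr ⟨⟨⟨W, hW⟩, hWV⟩, hxW⟩

theorem mono_of_injective_affine (φ : M ⟶ N)
    (h : ∀ U : X.affineOpens, Function.Injective (φ.app U.1)) : Mono φ := by
  rw [mono_iff_injective_app]
  intro V
  rw [injective_iff_map_eq_zero]
  intro s hs
  apply section_ext
  intro W i
  rw [map_zero]
  apply (injective_iff_map_eq_zero _).mp (h W)
  rw [← map_app_apply, hs, map_zero]

theorem isIso_of_bijective_affine (φ : M ⟶ N)
    (h : ∀ U : X.affineOpens, Function.Bijective (φ.app U.1)) : IsIso φ := by
  let ψ : sheaf M ⟶ sheaf N := ⟨φ.mapPresheaf⟩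
  have hψ : IsIso ψ := by
    refine TopCat.Sheaf.isIso_iff_isIso_basis (B := fun W : X.affineOpens => W.1) ?_ ?_
    · rw [Subtype.range_coe]; exact X.isBasis_affineOpens
    · intro W
      exact (ConcreteCategory.isIso_iff_bijective _).mpr (h W)
  have h2 : IsIso ((TopCat.Sheaf.forget _ _).map ψ) := inferInstance
  have h3 : IsIso ((Scheme.Modules.toPresheaf X).map φ) := h2
  exact isIso_of_reflects_iso φ (Scheme.Modules.toPresheaf X)

end Groth.Agent.Lib.helper2.ModSec
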