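import Mathlib
import Groth.Prelude.Def_DerCA
import Groth.Prelude.Def_DRing3
import Groth.Agent.Lib.Helper2.ExtCech8

/-!
# helper2: extended Čech cohomology in low degrees (algebraic part)
-/

set_option autoImplicit false
universe u

open CategoryTheory CategoryTheory.Limits HomologicalComplex CochainComplex HomComplex

namespace Groth.Agent.Lib.helper2.CechLow

open DerCA Groth.Agent.Lib.helper2.CxH Groth.Agent.Lib.helper2.Cocone
  Groth.Agent.Lib.helper2.ExtCech

variable {R : Type u} [CommRing R]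

section Additive

variable {K₁ L₁ K₂ L₂ : DRing.Cx R} (φ₁ : K₁ ⟶ L₁) (φ₂ : K₂ ⟶ L₂) (a a' : K₁ ⟶ K₂) (b b' : L₁ ⟶ L₂)

lemma coconeMap_add (comm : φ₁ ≫ b = a ≫ φ₂) (comm' : φ₁ ≫ b' = a' ≫ φ₂) :
    coconeMap φ₁ φ₂ (a + a') (b + b') (by
      rw [Preadditive.comp_add, Preadditive.add_comp, comm, comm']) =
      coconeMap φ₁ φ₂ a b comm + coconeMap φ₁ φ₂ a' b' comm' := by
  ext p c
  apply ext_elem φ₂ p (p - 1) (by ring)
  · rw [fE_coconeMap]
    show _ = fE φ₂ p (((coconeMap φ₁ φ₂ a b comm).f p).hom c +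
      ((coconeMap φ₁ φ₂ a' b' comm').f p).hom c)
    rw [map_add, fE_coconeMap, fE_coconeMap]
    rfl
  · rw [sE_coconeMap]
    show _ = sE φ₂ p (p - 1) _ (((coconeMap φ₁ φ₂ a b comm).f p).hom c +
      ((coconeMap φ₁ φ₂ a' b' comm').f p).hom c)
    rw [map_add, sE_coconeMap, sE_coconeMap]
    rfl

lemma coconeMap_id (φ : K₁ ⟶ L₁) :
    coconeMap φ φ (𝟙 K₁) (𝟙 L₁) (by simp) = 𝟙 _ := by
  ext p c
  apply ext_elem φ p (p - 1) (by ring)
  · rw [fE_coconeMap]
    rfl
  · rw [sE_coconeMap]
    rfl

lemma locCx_map_add (S : Submonoid R) {K K' : DRing.Cx R} (a a' : K ⟶ K') :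
    (locCx S).map (a + a') = (locCx S).map a + (locCx S).map a' := by
  ext p l
  obtain ⟨z, s, rfl⟩ := exists_lmk S K p l
  show (((locCx S).map (a + a')).f p).hom (lmk S K p z s) =
    (((locCx S).map a).f p).hom (lmk S K p z s) + (((locCx S).map a').f p).hom (lmk S K p z s)
  rw [locCx_map_lmk, locCx_map_lmk, locCx_map_lmk]
  show (LocalizedModule.mk ((a.f p).hom z + (a'.f p).hom z) s : LocalizedModule S (K'.X p)) =
    LocalizedModule.mk ((a.f p).hom z) s + LocalizedModule.mk ((a'.f p).hom z) s
  rw [IsLocalizedModule.mk_eq_mk', IsLocalizedModule.mk_eq_mk', IsLocalizedModule.mk_eq_mk',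
    IsLocalizedModule.mk'_add]

lemma extCechMap_add {M N : ModuleCat.{u} R} (g g' : M ⟶ N) :
    ∀ fs : List R, extCechMap (g + g') fs = extCechMap g fs + extCechMap g' fs := by
  intro fs
  induction fs with
  | nil => exact Functor.map_add _
  | cons f fs ih =>
    have h1 := coconeMap_add (locCxUnit (Submonoid.powers f) (extCech M fs))
      (locCxUnit (Submonoid.powers f) (extCech N fs)) (extCechMap g fs) (extCechMap g' fs)
      ((locCx (Submonoid.powers f)).map (extCechMap g fs))
      ((locCx (Submonoid.powers f)).map (extCechMap g' fs))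
      (locCxUnit_naturality _ _) (locCxUnit_naturality _ _)
    refine Eq.trans ?_ h1
    show coconeMap _ _ _ _ _ = coconeMap _ _ _ _ _
    congr 1
    · rw [ih, locCx_map_add]

lemma extCechMap_id (M : ModuleCat.{u} R) :
    ∀ fs : List R, extCechMap (𝟙 M) fs = 𝟙 _ := by
  intro fs
  induction fs with
  | nil => exact CategoryTheory.Functor.map_id _ _
  | cons f fs ih =>
    refine Eq.trans ?_ (coconeMap_id (locCxUnit (Submonoid.powers f) (extCech M fs)))
    show coconeMap _ _ _ _ _ = coconeMap _ _ _ _ _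
    congr 1
    · rw [ih, CategoryTheory.Functor.map_id]

lemma extCechMap_sum {M N : ModuleCat.{u} R} {ι : Type*} (s : Finset ι) (g : ι → (M ⟶ N))
    (fs : List R) : extCechMap (∑ i ∈ s, g i) fs = ∑ i ∈ s, extCechMap (g i) fs := by
  classical
  induction s using Finset.induction_on with
  | empty => simp [extCechMap_zero]
  | insert a s ha ih => rw [Finset.sum_insert ha, Finset.sum_insert ha, extCechMap_add, ih]

end Additive

section Vanish

/-- if the identity of `N` is a finite sum of maps factoring through modules with vanishing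
extended Čech cohomology, then the extended Čech cohomology of `N` vanishes -/
theorem isZero_of_sum_factor (fs : List R) (q : ℤ) (N : ModuleCat.{u} R) {ι : Type*} [Fintype ι]
    (P : ι → ModuleCat.{u} R) (p : ∀ i, N ⟶ P i) (j : ∀ i, P i ⟶ N)
    (hsum : ∑ i, p i ≫ j i = 𝟙 N) (hP : ∀ i, IsZero (extCechH fs (P i) q)) :
    IsZero (extCechH fs N q) := by
  rw [IsZero.iff_id_eq_zero]
  have h1 : 𝟙 (extCechH fs N q) = homologyMap (extCechMap (𝟙 N) fs) q := by
    rw [extCechMap_id, homologyMap_id]
  rw [h1, ← hsum, extCechMap_sum]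
  have h2 : homologyMap (∑ i, extCechMap (p i ≫ j i) fs) q =
      ∑ i, homologyMap (extCechMap (p i ≫ j i) fs) q :=
    (HomologicalComplex.homologyFunctor (ModuleCat.{u} R) (ComplexShape.up ℤ) q).map_sum _ _
  rw [h2]
  apply Finset.sum_eq_zero
  intro i _
  rw [extCechMap_comp, homologyMap_comp]
  rw [(hP i).eq_of_tgt (homologyMap (extCechMap (p i) fs) q) 0, zero_comp]

/-- torsion modules have extended Čech complex concentrated in degree `0` -/
theorem subsingleton_X_of_torsion (T : ModuleCat.{u} R) :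
    ∀ (fs : List R), (∀ f ∈ fs, ∀ t : T, ∃ n : ℕ, f ^ n • t = 0) →
      ∀ q : ℤ, q ≠ 0 → Subsingleton ((extCech T fs).X q) := by
  intro fs
  induction fs with
  | nil =>
    intro _ q hq
    exact ModuleCat.subsingleton_of_isZero
      (HomologicalComplex.isZero_single_obj_X (ComplexShape.up ℤ) 0 T q hq)
  | cons f fs ih =>
    intro hT q hq
    have ih' := ih (fun g hg => hT g (List.mem_cons_of_mem f hg))
    haveI := ih' q hq
    refine ⟨fun c c' => ?_⟩
    apply ext_elem (locCxUnit (Submonoid.powers f) (extCech T fs)) q (q - 1) (by ring)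
    · exact Subsingleton.elim _ _
    · by_cases hq1 : q - 1 = 0
      · -- the localization of `T` at `f` vanishes
        have key : ∀ l : ((locCx (Submonoid.powers f)).obj (extCech T fs)).X (q - 1), l = 0 := by
          intro l
          obtain ⟨z, s, rfl⟩ := exists_lmk (Submonoid.powers f) (extCech T fs) (q - 1) l
          rw [lmk_eq_zero_iff]
          have hz : ∃ n : ℕ, f ^ n • z = 0 := by
            clear c c'
            revert z
            rw [hq1]
            intro z
            obtain ⟨n, hn⟩ := hT f (List.mem_cons_self) ((aug T fs).e z)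
            refine ⟨n, ?_⟩
            apply (aug T fs).e.injective
            rw [map_smul, hn, map_zero]
          obtain ⟨n, hn⟩ := hz
          exact ⟨⟨f ^ n, n, rfl⟩, hn⟩
        rw [key (sE _ q (q - 1) _ c), key (sE _ q (q - 1) _ c')]
      · haveI := subsingleton_loc (Submonoid.powers f) (extCech T fs) (q - 1) (ih' (q - 1) hq1)
        exact Subsingleton.elim _ _

theorem isZero_extCechH_of_torsion (T : ModuleCat.{u} R) (fs : List R)
    (hT : ∀ f ∈ fs, ∀ t : T, ∃ n : ℕ, f ^ n • t = 0) (q : ℤ) (hq : q ≠ 0) :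
    IsZero (extCechH fs T q) := by
  haveI := subsingleton_X_of_torsion T fs hT q hq
  exact (HomologicalComplex.ExactAt.of_isZero
    (ModuleCat.isZero_of_subsingleton ((extCech T fs).X q))).isZero_homology

lemma mem_torsionSub_spanL_iff {X : Type u} [AddCommGroup X] [Module R X] (x : X) :
    ∀ fs : List R, x ∈ DRing.torsionSub (spanL fs) X ↔ ∀ f ∈ fs, ∃ k : ℕ, f ^ k • x = 0 := by
  intro fs
  induction fs with
  | nil =>
    constructor
    · intro _ f hf
      simp at hf
    · intro _
      refine ⟨1, fun a ha => ?_⟩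
      have : spanL ([] : List R) = ⊥ := by
        unfold spanL
        simp
      rw [this, pow_one, Ideal.mem_bot] at ha
      rw [ha, zero_smul]
  | cons f fs ih =>
    unfold spanL at ih ⊢
    rw [span_cons, Groth.Agent.Lib.helper19.LCRes.mem_torsionSub_sup_span_iff, ih]
    constructor
    · rintro ⟨h1, h2⟩ g hg
      rcases List.mem_cons.mp hg with rfl | hg
      · exact h2
      · exact h1 g hg
    · intro h
      exact ⟨fun g hg => h g (List.mem_cons_of_mem f hg), h f List.mem_cons_self⟩

end Vanish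

section Main

/-- `H⁰` of the extended Čech complex is the torsion submodule -/
noncomputable def H0Equiv (fs : List R) (M : ModuleCat.{u} R) :
    extCechH fs M 0 ≃ₗ[R] DRing.torsionSub (spanL fs) M :=
  (aug M fs).h0Equiv.symm ≪≫ₗ zcEquiv fs M

/-- the quotient short complex of a submodule -/
noncomputable def quotSC {N : ModuleCat.{u} R} (P : Submodule R N) :
    ShortComplex (ModuleCat.{u} R) :=
  ShortComplex.mk (ModuleCat.ofHom P.subtype) (ModuleCat.ofHom P.mkQ) (by
    ext x
    exact (Submodule.Quotient.mk_eq_zero _).2 x.2)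

lemma quotSC_shortExact {N : ModuleCat.{u} R} (P : Submodule R N) : (quotSC P).ShortExact := by
  apply ModuleCat.shortComplex_shortExact
  · intro y
    constructor
    · intro hy
      exact ⟨⟨y, (Submodule.Quotient.mk_eq_zero _).1 hy⟩, rfl⟩
    · rintro ⟨x, rfl⟩
      exact (Submodule.Quotient.mk_eq_zero _).2 x.2
  · exact Submodule.injective_subtype _
  · exact Submodule.mkQ_surjective _

/-- **`H¹` of the extended Čech complex as a cokernel**: if `ε : M ⟶ N` has kernel the torsion
submodule and `N` has vanishing `H⁰` and `H¹`, then `H¹(fs; M)` is the torsion of `N / ε(M)`. -/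
theorem H1_equiv (fs : List R) {M N : ModuleCat.{u} R} (ε : M ⟶ N)
    (hker : ∀ m : M, ε.hom m = 0 → ∀ f ∈ fs, ∃ n : ℕ, f ^ n • m = 0)
    (hN0 : IsZero (extCechH fs N 0)) (hN1 : IsZero (extCechH fs N 1)) :
    Nonempty (extCechH fs M 1 ≃ₗ[R]
      DRing.torsionSub (spanL fs) (N ⧸ LinearMap.range ε.hom)) := by
  -- first sequence `0 → ker ε → M → range ε → 0`
  have hsurj : Function.Surjective ε.hom.rangeRestrict := LinearMap.surjective_rangeRestrict _
  let S1 := ε.hom.rangeRestrict.shortComplexKer
  have hS1 : S1.ShortExact := LinearMap.shortExact_shortComplexKer hsurj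
  have hSC1 := cechSC_shortExact hS1 fs
  have hT : ∀ f ∈ fs, ∀ t : S1.X₁, ∃ n : ℕ, f ^ n • t = 0 := by
    intro f hf t
    have ht : ε.hom.rangeRestrict t.1 = 0 := t.2
    have ht' : ε.hom t.1 = 0 := congrArg Subtype.val ht
    obtain ⟨n, hn⟩ := hker t.1 ht' f hf
    exact ⟨n, Subtype.ext hn⟩
  have hz1 : IsZero ((cechSC S1 fs).X₁.homology 1) :=
    isZero_extCechH_of_torsion S1.X₁ fs hT 1 one_ne_zero
  have hz2 : IsZero ((cechSC S1 fs).X₁.homology 2) :=
    isZero_extCechH_of_torsion S1.X₁ fs hT 2 (by norm_num)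
  have hinj : Function.Injective (homologyMap (cechSC S1 fs).g 1).hom := by
    rw [injective_iff_map_eq_zero]
    intro x hx
    have hex := hSC1.homology_exact₂ 1
    rw [ShortComplex.moduleCat_exact_iff] at hex
    obtain ⟨y, rfl⟩ := hex x hx
    rw [(ModuleCat.subsingleton_of_isZero hz1).elim y 0, map_zero]
  have hsur : Function.Surjective (homologyMap (cechSC S1 fs).g 1).hom := by
    intro y
    have hex := hSC1.homology_exact₃ 1 2 rfl
    rw [ShortComplex.moduleCat_exact_iff] at hex
    exact hex y ((ModuleCat.subsingleton_of_isZero hz2).elim _ _)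
  let e1 : extCechH fs M 1 ≃ₗ[R] extCechH fs S1.X₃ 1 :=
    LinearEquiv.ofBijective (homologyMap (cechSC S1 fs).g 1).hom ⟨hinj, hsur⟩
  -- second sequence `0 → range ε → N → N / range ε → 0`
  have hS2 := quotSC_shortExact (LinearMap.range ε.hom)
  have hSC2 := cechSC_shortExact hS2 fs
  have e2 := hSC2.δIso 0 1 rfl hN0 hN1
  exact ⟨e1 ≪≫ₗ e2.symm.toLinearEquiv ≪≫ₗ H0Equiv fs _⟩

end Main

end Groth.Agent.Lib.helper2.CechLow
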