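import Mathlib
import Groth.Prelude.Def_DerCA
import Groth.Prelude.Def_DRing3
import Groth.Agent.Lib.Helper2.CechLow1

/-!
# helper2: abstract dimension shifting for "cohomology theories on modules killed by localization"

`DimShift fs Θ` packages the properties of a family of groups `Θ L q` (for `L` an `R`-module, `q : ℕ`)
needed to identify it with the cohomology of the extended Čech complex: long exact sequence
consequences, vanishing on torsion modules in positive degrees, vanishing on the product of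
localizations `NL fs L`, and `Θ L 0 ≅ Γ_I(L)`.  Two such families are (non-canonically) isomorphic.
-/

set_option autoImplicit false
universe u

open CategoryTheory CategoryTheory.Limits HomologicalComplex

namespace Groth.Agent.Lib.helper2.CechDS

open DerCA Groth.Agent.Lib.helper2.ExtCech Groth.Agent.Lib.helper2.CechLow

section General

variable {C : Type*} [Category C] [Abelian C] {ι : Type*} {c : ComplexShape ι}

/-- if the homology of `X₁` vanishes in degrees `i` and `j = i + 1` then `H^i(X₂) → H^i(X₃)` is an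
isomorphism -/
lemma isIso_homologyMap_g {S : ShortComplex (HomologicalComplex C c)} (hS : S.ShortExact)
    (i j : ι) (hij : c.Rel i j) (h₁ : IsZero (S.X₁.homology i)) (h₂ : IsZero (S.X₁.homology j)) :
    IsIso (HomologicalComplex.homologyMap S.g i) := by
  have hm : Mono (HomologicalComplex.homologyMap S.g i) :=
    (hS.homology_exact₂ i).mono_g (h₁.eq_of_src _ _)
  have he : Epi (HomologicalComplex.homologyMap S.g i) :=
    (hS.homology_exact₃ i j hij).epi_f (h₂.eq_of_tgt _ _)
  exact isIso_of_mono_of_epi _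

/-- an additive functor kills a finite product of modules if it kills each factor -/
lemma isZero_obj_pi {R : Type u} [CommRing R] {D : Type*} [Category D] [Preadditive D]
    (G : ModuleCat.{u} R ⥤ D) [G.Additive] {κ : Type} [Fintype κ] [DecidableEq κ]
    (P : κ → Type u) [∀ i, AddCommGroup (P i)] [∀ i, Module R (P i)]
    (h : ∀ i, IsZero (G.obj (ModuleCat.of R (P i)))) :
    IsZero (G.obj (ModuleCat.of R (∀ i, P i))) := by
  rw [IsZero.iff_id_eq_zero]
  have hsum : ∑ i, (ModuleCat.ofHom (LinearMap.proj (R := R) (φ := P) i) ≫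
      ModuleCat.ofHom (LinearMap.single R P i)) = 𝟙 (ModuleCat.of R (∀ i, P i)) := by
    apply ModuleCat.hom_ext
    rw [ModuleCat.hom_sum]
    apply LinearMap.ext
    intro y
    rw [LinearMap.sum_apply]
    show ∑ i, Pi.single i (y i) = y
    exact Finset.univ_sum_single y
  rw [← G.map_id, ← hsum, G.map_sum]
  apply Finset.sum_eq_zero
  intro i _
  rw [G.map_comp, (h i).eq_of_tgt (G.map _) 0, zero_comp]

end General

variable {R : Type u} [CommRing R]

/-- the localization of `L` at `f` -/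
abbrev Lf (f : R) (L : ModuleCat.{u} R) : Type u := LocalizedModule (Submonoid.powers f) L

/-- the product of the localizations of `L` at the elements of `fs` -/
abbrev NL (fs : List R) (L : ModuleCat.{u} R) : ModuleCat.{u} R :=
  ModuleCat.of R (∀ i : Fin fs.length, Lf (fs.get i) L)

/-- the canonical map to the product of localizations -/
noncomputable def epsL (fs : List R) (L : ModuleCat.{u} R) : L ⟶ NL fs L :=
  ModuleCat.ofHom (LinearMap.pi fun i => LocalizedModule.mkLinearMap (Submonoid.powers (fs.get i)) L)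

lemma epsL_apply (fs : List R) (L : ModuleCat.{u} R) (m : L) (i : Fin fs.length) :
    (epsL fs L).hom m i = LocalizedModule.mk m 1 := rfl

lemma epsL_ker (fs : List R) (L : ModuleCat.{u} R) (m : L) (hm : (epsL fs L).hom m = 0) :
    ∀ f ∈ fs, ∃ n : ℕ, f ^ n • m = 0 := by
  intro f hf
  obtain ⟨i, rfl⟩ := List.mem_iff_get.mp hf
  have h1 : (LocalizedModule.mk m 1 : Lf (fs.get i) L) = 0 := by
    rw [← epsL_apply, hm]
    rfl
  rw [← LocalizedModule.zero_mk 1, LocalizedModule.mk_eq] at h1
  obtain ⟨⟨_, n, rfl⟩, hu⟩ := h1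
  refine ⟨n, ?_⟩
  rw [one_smul, one_smul, smul_zero] at hu
  exact hu

lemma bijective_smul_Lf (f : R) (L : ModuleCat.{u} R) :
    Function.Bijective (fun x : Lf f L => f • x) := by
  have := IsLocalizedModule.map_units (LocalizedModule.mkLinearMap (Submonoid.powers f) L)
    ⟨f, Submonoid.mem_powers f⟩
  rw [Module.End.isUnit_iff] at this
  exact this

/-- the axioms for dimension shifting -/
structure DimShift (fs : List R) (Θ : ModuleCat.{u} R → ℕ → Type u)
    [∀ L q, AddCommGroup (Θ L q)] : Prop where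
  iso₂₃ : ∀ (S : ShortComplex (ModuleCat.{u} R)), S.ShortExact → ∀ q : ℕ,
    Subsingleton (Θ S.X₁ q) → Subsingleton (Θ S.X₁ (q + 1)) → Nonempty (Θ S.X₂ q ≃+ Θ S.X₃ q)
  iso₃₁ : ∀ (S : ShortComplex (ModuleCat.{u} R)), S.ShortExact → ∀ q : ℕ,
    Subsingleton (Θ S.X₂ q) → Subsingleton (Θ S.X₂ (q + 1)) →
      Nonempty (Θ S.X₃ q ≃+ Θ S.X₁ (q + 1))
  torsion : ∀ (T : ModuleCat.{u} R), (∀ f ∈ fs, ∀ t : T, ∃ n : ℕ, f ^ n • t = 0) →
    ∀ q : ℕ, 1 ≤ q → Subsingleton (Θ T q)
  vanishN : ∀ (L : ModuleCat.{u} R) (q : ℕ), Subsingleton (Θ (NL fs L) q)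
  zero : ∀ L : ModuleCat.{u} R, Nonempty (Θ L 0 ≃+ DRing.torsionSub (spanL fs) L)

/-- two families satisfying the dimension shifting axioms are isomorphic -/
theorem DimShift.equiv {fs : List R} {Θ₁ Θ₂ : ModuleCat.{u} R → ℕ → Type u}
    [∀ L q, AddCommGroup (Θ₁ L q)] [∀ L q, AddCommGroup (Θ₂ L q)]
    (h₁ : DimShift fs Θ₁) (h₂ : DimShift fs Θ₂) (q : ℕ) :
    ∀ L : ModuleCat.{u} R, Nonempty (Θ₁ L q ≃+ Θ₂ L q) := by
  induction q with
  | zero =>
    intro L
    obtain ⟨e₁⟩ := h₁.zero L
    obtain ⟨e₂⟩ := h₂.zero L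
    exact ⟨e₁.trans e₂.symm⟩
  | succ q ih =>
    intro L
    set ε := epsL fs L with hε
    have hsurj : Function.Surjective ε.hom.rangeRestrict := LinearMap.surjective_rangeRestrict _
    let S1 := ε.hom.rangeRestrict.shortComplexKer
    have hS1 : S1.ShortExact := LinearMap.shortExact_shortComplexKer hsurj
    have hT : ∀ f ∈ fs, ∀ t : S1.X₁, ∃ n : ℕ, f ^ n • t = 0 := by
      intro f hf t
      have ht : ε.hom.rangeRestrict t.1 = 0 := t.2
      have ht' : ε.hom t.1 = 0 := congrArg Subtype.val ht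
      obtain ⟨n, hn⟩ := epsL_ker fs L t.1 ht' f hf
      exact ⟨n, Subtype.ext hn⟩
    have hS2 := quotSC_shortExact (LinearMap.range ε.hom)
    obtain ⟨a₁⟩ := h₁.iso₂₃ S1 hS1 (q + 1) (h₁.torsion _ hT _ (by omega))
      (h₁.torsion _ hT _ (by omega))
    obtain ⟨a₂⟩ := h₂.iso₂₃ S1 hS1 (q + 1) (h₂.torsion _ hT _ (by omega))
      (h₂.torsion _ hT _ (by omega))
    obtain ⟨b₁⟩ := h₁.iso₃₁ _ hS2 q (h₁.vanishN L q) (h₁.vanishN L (q + 1))
    obtain ⟨b₂⟩ := h₂.iso₃₁ _ hS2 q (h₂.vanishN L q) (h₂.vanishN L (q + 1))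
    obtain ⟨c⟩ := ih (quotSC (LinearMap.range ε.hom)).X₃
    exact ⟨a₁.trans (b₁.symm.trans (c.trans (b₂.trans a₂.symm)))⟩

/-! ### The extended Čech complex satisfies the axioms -/

theorem dimShift_extCech (fs : List R) :
    DimShift fs (fun L q => extCechH fs L (q : ℤ)) where
  iso₂₃ S hS q h1 h2 := by
    have hSC := cechSC_shortExact hS fs
    have := isIso_homologyMap_g hSC (q : ℤ) ((q + 1 : ℕ) : ℤ) (by
      show (q : ℤ) + 1 = ((q + 1 : ℕ) : ℤ)
      push_cast; ring) (@ModuleCat.isZero_of_subsingleton _ _ _ h1)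
      (@ModuleCat.isZero_of_subsingleton _ _ _ h2)
    exact ⟨(asIso (HomologicalComplex.homologyMap (cechSC S fs).g (q : ℤ))).toLinearEquiv.toAddEquiv⟩
  iso₃₁ S hS q h1 h2 := by
    have hSC := cechSC_shortExact hS fs
    have e := hSC.δIso (q : ℤ) ((q + 1 : ℕ) : ℤ) (by
      show (q : ℤ) + 1 = ((q + 1 : ℕ) : ℤ)
      push_cast; ring) (@ModuleCat.isZero_of_subsingleton _ _ _ h1)
      (@ModuleCat.isZero_of_subsingleton _ _ _ h2)
    exact ⟨e.toLinearEquiv.toAddEquiv⟩
  torsion T hT q hq :=
    ModuleCat.subsingleton_of_isZero (isZero_extCechH_of_torsion T fs hT (q : ℤ) (by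
      have : (0 : ℤ) < q := by exact_mod_cast hq
      omega))
  vanishN L q := by
    classical
    apply ModuleCat.subsingleton_of_isZero
    refine isZero_of_sum_factor fs (q : ℤ) (NL fs L)
      (fun i : Fin fs.length => ModuleCat.of R (Lf (fs.get i) L))
      (fun i => ModuleCat.ofHom (LinearMap.proj (φ := fun i => Lf (fs.get i) L) i))
      (fun i => ModuleCat.ofHom (LinearMap.single R (fun i => Lf (fs.get i) L) i)) ?_ ?_
    · apply ModuleCat.hom_ext
      rw [ModuleCat.hom_sum]
      apply LinearMap.ext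
      intro y
      rw [LinearMap.sum_apply]
      show ∑ i, Pi.single i (y i) = y
      exact Finset.univ_sum_single y
    · intro i
      exact extCechH_isZero_of_bijective fs _ (fs.get i)
        (Ideal.subset_span (List.get_mem fs i)) (bijective_smul_Lf (fs.get i) L) (q : ℤ)
  zero L := ⟨(H0Equiv fs L).toAddEquiv⟩

end Groth.Agent.Lib.helper2.CechDS
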