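import Mathlib

/-!
# helper2: maps and homology of augmented cochain complexes
-/

set_option autoImplicit false
universe u v

open CategoryTheory CategoryTheory.Limits HomologicalComplex

namespace Groth.Agent.Lib.helper2.AugCx

section Map

variable {V : Type*} [Category V] [HasZeroMorphisms V]
  {C C' C'' : CochainComplex V ℕ} {X X' X'' : V}

/-- the map between augmented complexes -/
def augmentMap (f : X ⟶ C.X 0) (w : f ≫ C.d 0 1 = 0) (f' : X' ⟶ C'.X 0) (w' : f' ≫ C'.d 0 1 = 0)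
    (g : C ⟶ C') (x : X ⟶ X') (comm : f ≫ g.f 0 = x ≫ f') :
    CochainComplex.augment C f w ⟶ CochainComplex.augment C' f' w' where
  f
    | 0 => x
    | (n + 1) => g.f n
  comm' i j hij := by
    obtain rfl : i + 1 = j := hij
    cases i with
    | zero => exact comm.symm
    | succ n => exact g.comm n (n + 1)

@[simp]
lemma augmentMap_f_zero (f : X ⟶ C.X 0) (w : f ≫ C.d 0 1 = 0) (f' : X' ⟶ C'.X 0)
    (w' : f' ≫ C'.d 0 1 = 0) (g : C ⟶ C') (x : X ⟶ X') (comm : f ≫ g.f 0 = x ≫ f') :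
    (augmentMap f w f' w' g x comm).f 0 = x := rfl

@[simp]
lemma augmentMap_f_succ (f : X ⟶ C.X 0) (w : f ≫ C.d 0 1 = 0) (f' : X' ⟶ C'.X 0)
    (w' : f' ≫ C'.d 0 1 = 0) (g : C ⟶ C') (x : X ⟶ X') (comm : f ≫ g.f 0 = x ≫ f') (n : ℕ) :
    (augmentMap f w f' w' g x comm).f (n + 1) = g.f n := rfl

lemma augmentMap_id (f : X ⟶ C.X 0) (w : f ≫ C.d 0 1 = 0) :
    augmentMap f w f w (𝟙 C) (𝟙 X) (by simp) = 𝟙 _ := by
  ext i
  cases i <;> rfl

lemma augmentMap_comp (f : X ⟶ C.X 0) (w : f ≫ C.d 0 1 = 0) (f' : X' ⟶ C'.X 0)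
    (w' : f' ≫ C'.d 0 1 = 0) (f'' : X'' ⟶ C''.X 0) (w'' : f'' ≫ C''.d 0 1 = 0)
    (g : C ⟶ C') (x : X ⟶ X') (comm : f ≫ g.f 0 = x ≫ f')
    (g' : C' ⟶ C'') (x' : X' ⟶ X'') (comm' : f' ≫ g'.f 0 = x' ≫ f'') :
    augmentMap f w f'' w'' (g ≫ g') (x ≫ x') (by
      rw [HomologicalComplex.comp_f, ← Category.assoc, comm, Category.assoc, comm',
        Category.assoc]) =
      augmentMap f w f' w' g x comm ≫ augmentMap f' w' f'' w'' g' x' comm' := by
  ext i
  cases i <;> rfl

end Map

section Add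

variable {V : Type*} [Category V] [Preadditive V]
  {C C' : CochainComplex V ℕ} {X X' : V}

lemma augmentMap_add (f : X ⟶ C.X 0) (w : f ≫ C.d 0 1 = 0) (f' : X' ⟶ C'.X 0)
    (w' : f' ≫ C'.d 0 1 = 0) (g g' : C ⟶ C') (x x' : X ⟶ X') (comm : f ≫ g.f 0 = x ≫ f')
    (comm' : f ≫ g'.f 0 = x' ≫ f') :
    augmentMap f w f' w' (g + g') (x + x') (by
      rw [HomologicalComplex.add_f_apply, Preadditive.comp_add, Preadditive.add_comp, comm,
        comm']) =
      augmentMap f w f' w' g x comm + augmentMap f w f' w' g' x' comm' := by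
  ext i
  cases i <;> rfl

end Add

section Homology

variable {V : Type*} [Category V] [Abelian V]
  (C : CochainComplex V ℕ) {X : V} (f : X ⟶ C.X 0) (w : f ≫ C.d 0 1 = 0)

/-- the homology of the augmented complex in degrees `≥ 2` -/
noncomputable def augmentHomologyIso (n : ℕ) :
    (CochainComplex.augment C f w).homology (n + 2) ≅ C.homology (n + 1) :=
  (CochainComplex.augment C f w).homologyIsoSc' (n + 1) (n + 2) (n + 3) (by simp) (by simp) ≪≫
    (C.homologyIsoSc' n (n + 1) (n + 2) (by simp) (by simp)).symm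

lemma augment_exactAt_succ_succ (n : ℕ) :
    (CochainComplex.augment C f w).ExactAt (n + 2) ↔ C.ExactAt (n + 1) := by
  rw [HomologicalComplex.exactAt_iff' _ (n + 1) (n + 2) (n + 3) (by simp) (by simp),
    HomologicalComplex.exactAt_iff' C n (n + 1) (n + 2) (by simp) (by simp)]
  rfl

end Homology

section Ab

variable (C : CochainComplex AddCommGrpCat.{u} ℕ) {X : AddCommGrpCat.{u}} (f : X ⟶ C.X 0)
  (w : f ≫ C.d 0 1 = 0)

lemma augment_exactAt_zero (hf : Function.Injective f) :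
    (CochainComplex.augment C f w).ExactAt 0 := by
  rw [HomologicalComplex.exactAt_iff' _ 0 0 1 (by simp) (by simp), ShortComplex.ab_exact_iff]
  intro x hx
  refine ⟨0, ?_⟩
  have hx' : f x = f 0 := by
    have : f x = 0 := hx
    rw [this, map_zero]
  have : x = (0 : X) := hf hx'
  rw [this]
  exact map_zero _

lemma augment_exactAt_one (hf : ∀ c : C.X 0, C.d 0 1 c = 0 → ∃ x, f x = c) :
    (CochainComplex.augment C f w).ExactAt 1 := by
  rw [HomologicalComplex.exactAt_iff' _ 0 1 2 (by simp) (by simp), ShortComplex.ab_exact_iff]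
  intro c hc
  exact hf c hc

/-- the degree zero homology of the augmented complex is the kernel of the augmentation -/
noncomputable def augmentH0Equiv :
    (CochainComplex.augment C f w).homology 0 ≃+ f.hom.ker := by
  let K := CochainComplex.augment C f w
  let e1 : K.homology 0 ≅ (K.sc' 0 0 1).homology :=
    K.homologyIsoSc' 0 0 1 (by simp) (by simp)
  let e2 := (K.sc' 0 0 1).abHomologyIso
  have hbot : AddMonoidHom.range (K.sc' 0 0 1).abToCycles = ⊥ := by
    rw [eq_bot_iff]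
    rintro _ ⟨x, rfl⟩
    rw [AddSubgroup.mem_bot]
    apply Subtype.ext
    show (K.d 0 0) x = 0
    rw [K.shape 0 0 (by simp)]
    rfl
  exact (e1 ≪≫ e2).addCommGroupIsoToAddEquiv.trans
    ((QuotientAddGroup.quotientAddEquivOfEq hbot).trans
      (QuotientAddGroup.quotientBot (G := AddMonoidHom.ker (K.sc' 0 0 1).g.hom)))

end Ab

end Groth.Agent.Lib.helper2.AugCx
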