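import Mathlib
import Groth.Agent.Lib.Helper2.AugCx
import Groth.Agent.Lib.Helper27.CechSpec
import Groth.Agent.Lib.Helper27.CechContract
import Groth.Agent.Lib.Helper8.CechQcqs

/-!
# helper2: the augmented Čech complex of `M~` on `Spec R` as an exact functor of `M`
-/

set_option autoImplicit false
universe u

open CategoryTheory CategoryTheory.Limits HomologicalComplex Opposite TopologicalSpace
  AlgebraicGeometry

namespace Groth.Agent.Lib.helper2.CechDS

open Groth.Agent.Lib.helper27 Groth.Agent.Lib.helper2.AugCx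

variable (R : CommRingCat.{u})

/-- the presheaf of abelian groups underlying `L~`, as a functor of `L` -/
noncomputable def PF : ModuleCat.{u} R ⥤ TopCat.Presheaf AddCommGrpCat.{u} (Spec R) :=
  tilde.functor R ⋙ Scheme.Modules.toPresheaf (Spec R)

variable {R}

lemma PF_obj (L : ModuleCat.{u} R) : (PF R).obj L = (tilde L).presheaf := rfl

lemma PF_map_app {L L' : ModuleCat.{u} R} (φ : L ⟶ L') (V : (Spec R).Opens) :
    ((PF R).map φ).app (op V) = (tilde.map φ).app V := rfl

variable {ι : Type u} (f : ι → R)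

/-- the covering family -/
abbrev UU : ι → (Spec R).Opens := fun i => CechSpec.Dr (f i)

/-- the Čech complex functor -/
noncomputable def cechF : ModuleCat.{u} R ⥤ CochainComplex AddCommGrpCat.{u} ℕ :=
  PF R ⋙ cechComplexFunctor (UU f)

lemma cechF_obj (L : ModuleCat.{u} R) :
    (cechF f).obj L = (cechComplexFunctor (UU f)).obj (tilde L).presheaf :=
  rfl

/-! ### Sections of `L~` -/

/-- the localization map `L → Γ(L~, V)` -/
noncomputable def toOpenL (L : ModuleCat.{u} R) (V : (Spec R).Opens) :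
    L →ₗ[R] Γ(tilde L, V) :=
  (tilde.toOpen L V).hom

/-- the localization map as a morphism of abelian groups -/
noncomputable def toOpenAb (L : ModuleCat.{u} R) (V : (Spec R).Opens) :
    (forget₂ (ModuleCat.{u} R) AddCommGrpCat.{u}).obj L ⟶ ((PF R).obj L).obj (op V) :=
  AddCommGrpCat.ofHom (toOpenL L V).toAddMonoidHom

lemma toOpenAb_apply (L : ModuleCat.{u} R) (V : (Spec R).Opens) (x : L) :
    toOpenAb L V x = toOpenL L V x := rfl

lemma toOpenL_res (L : ModuleCat.{u} R) {V V' : (Spec R).Opens} (i : V' ⟶ V)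
    (x : L) :
    (tilde L).presheaf.map i.op (toOpenL L V x) = toOpenL L V' x := rfl

lemma toOpenAb_res (L : ModuleCat.{u} R) {V V' : (Spec R).Opens} (i : V' ⟶ V) :
    toOpenAb L V ≫ ((PF R).obj L).map i.op = toOpenAb L V' := by
  ext x
  exact toOpenL_res L i x

/-- the section map of `φ~` as a linear map -/
noncomputable def secMapL {L L' : ModuleCat.{u} R} (φ : L ⟶ L') (V : (Spec R).Opens) :
    Γ(tilde L, V) →ₗ[R] Γ(tilde L', V) :=
  ((modulesSpecToSheaf.map (tilde.map φ)).1.app (op V)).hom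

lemma secMapL_apply {L L' : ModuleCat.{u} R} (φ : L ⟶ L')
    (V : (Spec R).Opens) (x : Γ(tilde L, V)) :
    secMapL φ V x = ((PF R).map φ).app (op V) x := rfl

lemma secMapL_toOpenL {L L' : ModuleCat.{u} R} (φ : L ⟶ L') (V : (Spec R).Opens) (x : L) :
    secMapL φ V (toOpenL L V x) = toOpenL L' V (φ.hom x) := by
  have h := tilde.toOpen_map_app φ V
  exact congrArg (fun ψ => ψ.hom x) h

lemma toOpenAb_naturality {L L' : ModuleCat.{u} R} (φ : L ⟶ L') (V : (Spec R).Opens) :
    toOpenAb L V ≫ ((PF R).map φ).app (op V) =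
      (forget₂ (ModuleCat.{u} R) AddCommGrpCat.{u}).map φ ≫ toOpenAb L' V := by
  ext x
  exact secMapL_toOpenL φ V x

instance (L : ModuleCat.{u} R) (g : R) :
    IsLocalizedModule (Submonoid.powers g) (toOpenL L (CechSpec.Dr g)) :=
  inferInstanceAs (IsLocalizedModule.Away g (tilde.toOpen L (CechSpec.Dr g)).hom)

lemma secMapL_eq_map {L L' : ModuleCat.{u} R} (φ : L ⟶ L') (g : R) :
    secMapL φ (CechSpec.Dr g) =
      IsLocalizedModule.map (Submonoid.powers g) (toOpenL L (CechSpec.Dr g))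
        (toOpenL L' (CechSpec.Dr g)) φ.hom := by
  apply IsLocalizedModule.linearMap_ext (Submonoid.powers g)
    (toOpenL L (CechSpec.Dr g)) (toOpenL L' (CechSpec.Dr g))
  ext x
  rw [LinearMap.comp_apply, LinearMap.comp_apply, IsLocalizedModule.map_apply]
  exact secMapL_toOpenL φ _ x


/-! ### Exactness of sections over basic opens -/

instance : (PF R).Additive where
  map_add {L L' φ ψ} := by
    unfold PF
    rw [Functor.comp_map, Functor.map_add]
    rfl

lemma PF_map_zero (L L' : ModuleCat.{u} R) : (PF R).map (0 : L ⟶ L') = 0 := by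
  have h := (PF R).map_add (f := (0 : L ⟶ L')) (g := 0)
  rw [add_zero] at h
  exact left_eq_add.mp h

lemma PF_comp_zero (S : ShortComplex (ModuleCat.{u} R)) (V : (Spec R).Opens) :
    ((PF R).map S.f).app (op V) ≫ ((PF R).map S.g).app (op V) = 0 := by
  rw [← NatTrans.comp_app, ← Functor.map_comp, S.zero, PF_map_zero]
  rfl

lemma sec_shortExact (S : ShortComplex (ModuleCat.{u} R)) (hS : S.ShortExact)
    (V : (Spec R).Opens) (hV : ∃ g : R, V = CechSpec.Dr g) :
    (ShortComplex.mk (((PF R).map S.f).app (op V)) (((PF R).map S.g).app (op V))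
      (PF_comp_zero S V)).ShortExact := by
  obtain ⟨g, rfl⟩ := hV
  have hf : Function.Injective S.f.hom := (ModuleCat.mono_iff_injective _).1 hS.mono_f
  have hg : Function.Surjective S.g.hom := (ModuleCat.epi_iff_surjective _).1 hS.epi_g
  have hex : Function.Exact S.f.hom S.g.hom :=
    (ShortComplex.ShortExact.moduleCat_exact_iff_function_exact S).1 hS.exact
  have h1 := IsLocalizedModule.map_injective (Submonoid.powers g)
    (toOpenL S.X₁ (CechSpec.Dr g)) (toOpenL S.X₂ (CechSpec.Dr g)) S.f.hom hf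
  have h2 := IsLocalizedModule.map_surjective (Submonoid.powers g)
    (toOpenL S.X₂ (CechSpec.Dr g)) (toOpenL S.X₃ (CechSpec.Dr g)) S.g.hom hg
  have h3 := IsLocalizedModule.map_exact (Submonoid.powers g)
    (toOpenL S.X₁ (CechSpec.Dr g)) (toOpenL S.X₂ (CechSpec.Dr g)) (toOpenL S.X₃ (CechSpec.Dr g))
    S.f.hom S.g.hom hex
  rw [← secMapL_eq_map] at h1 h2 h3
  rw [← secMapL_eq_map] at h3
  refine ShortComplex.ShortExact.mk' ?_ ?_ ?_
  · rw [ShortComplex.ab_exact_iff]
    intro x hx
    exact (h3 x).1 hx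
  · rw [AddCommGrpCat.mono_iff_injective]
    exact h1
  · rw [AddCommGrpCat.epi_iff_surjective]
    exact h2


/-! ### The Čech complex functor is exact -/

instance : (cechF f).Additive where
  map_add {L L' φ ψ} := by
    unfold cechF
    rw [Functor.comp_map, Functor.comp_map, Functor.comp_map, Functor.map_add]
    exact (cechComplexFunctor (UU f)).map_add

lemma prod_eq {n : ℕ} (a : Fin n → ι) :
    (∏ᶜ (UU f ∘ a) : (Spec R).Opens) = CechSpec.Dr (∏ k, f (a k)) :=
  (CechSpec.isLoc (tilde (ModuleCat.of R R)) (isLocalizing_tilde _)).prod_eq f a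

lemma cechF_map_f {L L' : ModuleCat.{u} R} (φ : L ⟶ L') (n : ℕ) :
    ((cechF f).map φ).f n =
      (Limits.Pi.map fun a : Fin (n + 1) → ι => ((PF R).map φ).app (op (∏ᶜ (UU f ∘ a))) :
        (∏ᶜ Cech.Z (UU f) ((PF R).obj L) n : AddCommGrpCat.{u}) ⟶
          ∏ᶜ Cech.Z (UU f) ((PF R).obj L') n) := rfl

lemma cechF_shortExact (S : ShortComplex (ModuleCat.{u} R)) (hS : S.ShortExact) :
    (S.map (cechF f)).ShortExact := by
  apply HomologicalComplex.shortExact_of_degreewise_shortExact
  intro n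
  exact CechLeray.prod_shortExact _ _ _
    (fun a : Fin (n + 1) → ι => ((PF R).map S.f).app (op (∏ᶜ (UU f ∘ a))))
    (fun a : Fin (n + 1) → ι => ((PF R).map S.g).app (op (∏ᶜ (UU f ∘ a))))
    (fun a => PF_comp_zero S _) _ (fun a => sec_shortExact S hS _ ⟨_, prod_eq f a⟩)

/-! ### The augmentation -/

/-- the augmentation `L → Č⁰(L~)` -/
noncomputable def eta (L : ModuleCat.{u} R) :
    (forget₂ (ModuleCat.{u} R) AddCommGrpCat.{u}).obj L ⟶
      (∏ᶜ Cech.Z (UU f) ((PF R).obj L) 0 : AddCommGrpCat.{u}) :=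
  toOpenAb L ⊤ ≫ Cech.ε (UU f) ((PF R).obj L) ⊤ (fun _ => homOfLE le_top)

lemma eta_π (L : ModuleCat.{u} R) (a : Fin 1 → ι) :
    eta f L ≫ Pi.π (Cech.Z (UU f) ((PF R).obj L) 0) a = toOpenAb L (∏ᶜ (UU f ∘ a)) := by
  rw [eta, Category.assoc]
  have h : Cech.ε (UU f) ((PF R).obj L) ⊤ (fun _ => homOfLE le_top) ≫
      Pi.π (Cech.Z (UU f) ((PF R).obj L) 0) a = _ := Pi.lift_π _ _
  rw [h]
  exact toOpenAb_res L _

lemma eta_d' (L : ModuleCat.{u} R) : eta f L ≫ Cech.d' (UU f) ((PF R).obj L) 0 = 0 := by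
  rw [eta, Category.assoc]
  have := Cech.ε_d (UU f) ((PF R).obj L) ⊤ (fun _ => homOfLE le_top)
  rw [show Cech.d' (UU f) ((PF R).obj L) 0 = (Cech.K (UU f) ((PF R).obj L)).d 0 1 from rfl]
  exact (congrArg (fun z => toOpenAb L ⊤ ≫ z) this).trans comp_zero

lemma eta_naturality' {L L' : ModuleCat.{u} R} (φ : L ⟶ L') :
    eta f L ≫ (Limits.Pi.map fun a : Fin 1 → ι => ((PF R).map φ).app (op (∏ᶜ (UU f ∘ a))) :
        (∏ᶜ Cech.Z (UU f) ((PF R).obj L) 0 : AddCommGrpCat.{u}) ⟶
          ∏ᶜ Cech.Z (UU f) ((PF R).obj L') 0) =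
      (forget₂ (ModuleCat.{u} R) AddCommGrpCat.{u}).map φ ≫ eta f L' := by
  apply Pi.hom_ext
  intro a
  rw [Category.assoc, Category.assoc, Limits.Pi.map_π, ← Category.assoc, eta_π, eta_π,
    toOpenAb_naturality]

/-- the augmentation, with target the degree zero part of the Čech complex -/
noncomputable def etaX (L : ModuleCat.{u} R) :
    (forget₂ (ModuleCat.{u} R) AddCommGrpCat.{u}).obj L ⟶ ((cechF f).obj L).X 0 :=
  eta f L

lemma etaX_d (L : ModuleCat.{u} R) : etaX f L ≫ ((cechF f).obj L).d 0 1 = 0 :=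
  eta_d' f L

lemma etaX_naturality {L L' : ModuleCat.{u} R} (φ : L ⟶ L') :
    etaX f L ≫ ((cechF f).map φ).f 0 =
      (forget₂ (ModuleCat.{u} R) AddCommGrpCat.{u}).map φ ≫ etaX f L' :=
  eta_naturality' f φ

/-- the augmented Čech complex functor -/
noncomputable def augF : ModuleCat.{u} R ⥤ CochainComplex AddCommGrpCat.{u} ℕ where
  obj L := CochainComplex.augment ((cechF f).obj L) (etaX f L) (etaX_d f L)
  map φ := augmentMap _ _ _ _ ((cechF f).map φ)
    ((forget₂ (ModuleCat.{u} R) AddCommGrpCat.{u}).map φ) (etaX_naturality f φ)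
  map_id L := by
    refine HomologicalComplex.hom_ext _ _ (fun i => ?_)
    cases i with
    | zero => exact (forget₂ (ModuleCat.{u} R) AddCommGrpCat.{u}).map_id L
    | succ n =>
      show ((cechF f).map (𝟙 L)).f n = 𝟙 _
      rw [CategoryTheory.Functor.map_id]
      rfl
  map_comp φ ψ := by
    refine HomologicalComplex.hom_ext _ _ (fun i => ?_)
    cases i with
    | zero => exact (forget₂ (ModuleCat.{u} R) AddCommGrpCat.{u}).map_comp φ ψ
    | succ n =>
      show ((cechF f).map (φ ≫ ψ)).f n = ((cechF f).map φ).f n ≫ ((cechF f).map ψ).f n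
      rw [CategoryTheory.Functor.map_comp]
      rfl

lemma augF_obj_X_succ (L : ModuleCat.{u} R) (n : ℕ) :
    ((augF f).obj L).X (n + 1) = ((cechF f).obj L).X n := rfl

lemma augF_map_f_zero {L L' : ModuleCat.{u} R} (φ : L ⟶ L') :
    ((augF f).map φ).f 0 = (forget₂ (ModuleCat.{u} R) AddCommGrpCat.{u}).map φ := rfl

lemma augF_map_f_succ {L L' : ModuleCat.{u} R} (φ : L ⟶ L') (n : ℕ) :
    ((augF f).map φ).f (n + 1) = ((cechF f).map φ).f n := rfl

instance : (augF f).Additive where
  map_add {L L' φ ψ} := by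
    refine HomologicalComplex.hom_ext _ _ (fun i => ?_)
    cases i with
    | zero => exact (forget₂ (ModuleCat.{u} R) AddCommGrpCat.{u}).map_add
    | succ n =>
      show ((cechF f).map (φ + ψ)).f n = ((cechF f).map φ).f n + ((cechF f).map ψ).f n
      rw [Functor.map_add]
      rfl

lemma augF_shortExact (S : ShortComplex (ModuleCat.{u} R)) (hS : S.ShortExact) :
    (S.map (augF f)).ShortExact := by
  apply HomologicalComplex.shortExact_of_degreewise_shortExact
  intro i
  cases i with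
  | zero =>
    exact hS.map_of_exact (forget₂ (ModuleCat.{u} R) AddCommGrpCat.{u})
  | succ n =>
    exact (cechF_shortExact f S hS).map_of_exact (HomologicalComplex.eval _ _ n)

end Groth.Agent.Lib.helper2.CechDS
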