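import Mathlib
import Groth.Agent.Lib.Helper2.CechDS2

/-!
# helper2: the augmented Čech complex of `L~` — vanishing results
-/

set_option autoImplicit false
universe u

open CategoryTheory CategoryTheory.Limits HomologicalComplex Opposite TopologicalSpace
  AlgebraicGeometry

namespace Groth.Agent.Lib.helper2.CechDS

open Groth.Agent.Lib.helper27 Groth.Agent.Lib.helper2.AugCx

variable {R : CommRingCat.{u}}

section Sections

variable (L : ModuleCat.{u} R)

/-- the localizing structure of `L~` -/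
lemma hLoc : CechAffine.IsLoc (tilde L).presheaf (CechSpec.μ (tilde L))
    (fun r : R => CechSpec.Dr r) :=
  CechSpec.isLoc (tilde L) (isLocalizing_tilde L)

lemma toOpenL_eq_zero_iff (V : (Spec R).Opens) (g : R) (hV : V = CechSpec.Dr g) (x : L) :
    toOpenL L V x = 0 ↔ ∃ k : ℕ, g ^ k • x = 0 := by
  subst hV
  rw [IsLocalizedModule.eq_zero_iff (Submonoid.powers g)]
  constructor
  · rintro ⟨⟨_, k, rfl⟩, h⟩
    exact ⟨k, h⟩
  · rintro ⟨k, h⟩
    exact ⟨⟨g ^ k, k, rfl⟩, h⟩

lemma bijective_smul_sec (r : R) (hr : Function.Bijective (fun x : L => r • x))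
    (V : (Spec R).Opens) (hV : ∃ g : R, V = CechSpec.Dr g) :
    Function.Bijective (fun y : Γ(tilde L, V) => r • y) := by
  obtain ⟨g, rfl⟩ := hV
  have h : (r • LinearMap.id : Γ(tilde L, CechSpec.Dr g) →ₗ[R] Γ(tilde L, CechSpec.Dr g)) =
      IsLocalizedModule.map (Submonoid.powers g) (toOpenL L (CechSpec.Dr g))
        (toOpenL L (CechSpec.Dr g)) (r • LinearMap.id) := by
    apply IsLocalizedModule.linearMap_ext (Submonoid.powers g)
      (toOpenL L (CechSpec.Dr g)) (toOpenL L (CechSpec.Dr g))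
    ext x
    rw [LinearMap.comp_apply, LinearMap.comp_apply, IsLocalizedModule.map_apply,
      LinearMap.smul_apply, LinearMap.smul_apply, LinearMap.id_apply, LinearMap.id_apply, map_smul]
  have hi : Function.Injective (r • LinearMap.id : L →ₗ[R] L) := hr.1
  have hs : Function.Surjective (r • LinearMap.id : L →ₗ[R] L) := hr.2
  have h1 := IsLocalizedModule.map_injective (Submonoid.powers g) (toOpenL L (CechSpec.Dr g))
    (toOpenL L (CechSpec.Dr g)) _ hi
  have h2 := IsLocalizedModule.map_surjective (Submonoid.powers g) (toOpenL L (CechSpec.Dr g))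
    (toOpenL L (CechSpec.Dr g)) _ hs
  rw [← h] at h1 h2
  exact ⟨h1, h2⟩

lemma bijective_pow_smul (r : R) (hr : Function.Bijective (fun x : L => r • x)) (N : ℕ) :
    Function.Bijective (fun x : L => r ^ N • x) := by
  induction N with
  | zero =>
    have : (fun x : L => r ^ 0 • x) = id := by
      funext x
      simp
    rw [this]
    exact Function.bijective_id
  | succ N ih =>
    have : (fun x : L => r ^ (N + 1) • x) = (fun x : L => r ^ N • x) ∘ (fun x : L => r • x) := by
      funext x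
      simp [pow_succ, mul_smul]
    rw [this]
    exact ih.comp hr

/-- `L → Γ(L~, D(g))` is bijective if `g` acts bijectively on `L` -/
lemma toOpenL_bijective (g : R) (hg : Function.Bijective (fun x : L => g • x))
    (V : (Spec R).Opens) (hV : V = CechSpec.Dr g) : Function.Bijective (toOpenL L V) := by
  subst hV
  have hu : ∀ s : Submonoid.powers g, IsUnit (algebraMap R (Module.End R L) s) := by
    rintro ⟨_, k, rfl⟩
    rw [Module.End.isUnit_iff]
    exact bijective_pow_smul L g hg k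
  haveI : IsLocalizedModule (Submonoid.powers g) (LinearMap.id : L →ₗ[R] L) :=
    { map_units := hu
      surj := fun m => ⟨(m, 1), one_smul _ _⟩
      exists_of_eq := fun h => ⟨1, congr_arg _ h⟩ }
  have e := IsLocalizedModule.linearEquiv (Submonoid.powers g) (LinearMap.id : L →ₗ[R] L)
    (toOpenL L (CechSpec.Dr g))
  have he : ∀ x, IsLocalizedModule.linearEquiv (Submonoid.powers g) (LinearMap.id : L →ₗ[R] L)
      (toOpenL L (CechSpec.Dr g)) x = toOpenL L (CechSpec.Dr g) x := fun x =>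
    IsLocalizedModule.linearEquiv_apply (Submonoid.powers g) LinearMap.id _ x
  have : ⇑(toOpenL L (CechSpec.Dr g)) = ⇑(IsLocalizedModule.linearEquiv (Submonoid.powers g)
      (LinearMap.id : L →ₗ[R] L) (toOpenL L (CechSpec.Dr g))) := by
    funext x
    exact (he x).symm
  rw [this]
  exact LinearEquiv.bijective _

/-- restriction to `V ⊓ D(r)` is injective on sections over a basic open if `r` acts bijectively -/
lemma res_injective (r : R) (hr : Function.Bijective (fun x : L => r • x))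
    (V V' : (Spec R).Opens) (g : R) (hV : V = CechSpec.Dr g) (hV' : V' = CechSpec.Dr (g * r))
    (le : V' ≤ V) : Function.Injective ((tilde L).presheaf.map (homOfLE le).op) := by
  rw [injective_iff_map_eq_zero]
  intro t ht
  obtain ⟨N, hN⟩ := (hLoc L).ker g r V V' hV hV' le t ht
  have hb := bijective_smul_sec L (r ^ N) (bijective_pow_smul L r hr N) V ⟨g, hV⟩
  apply hb.1
  show r ^ N • t = r ^ N • (0 : Γ(tilde L, V))
  rw [smul_zero]
  exact hN

/-- sections of `T~` over `D(g)` vanish if `T` is `r`-power torsion and `r ∣ g` -/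
lemma subsingleton_sec_of_torsion (r g : R) (hdiv : r ∣ g)
    (hT : ∀ t : L, ∃ n : ℕ, r ^ n • t = 0) (V : (Spec R).Opens) (hV : V = CechSpec.Dr g) :
    Subsingleton Γ(tilde L, V) := by
  subst hV
  refine ⟨fun x y => ?_⟩
  suffices h : ∀ z : Γ(tilde L, CechSpec.Dr g), z = 0 by rw [h x, h y]
  intro z
  obtain ⟨⟨m, s⟩, rfl⟩ := IsLocalizedModule.mk'_surjective (Submonoid.powers g)
    (toOpenL L (CechSpec.Dr g)) z
  rw [Function.uncurry_apply_pair, IsLocalizedModule.mk'_eq_zero']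
  obtain ⟨n, hn⟩ := hT m
  obtain ⟨c, rfl⟩ := hdiv
  refine ⟨⟨(r * c) ^ n, n, rfl⟩, ?_⟩
  show (r * c) ^ n • m = 0
  rw [mul_pow, mul_comm, mul_smul, hn, smul_zero]

end Sections


section Exact

variable {ι : Type u} (f : ι → R) (L : ModuleCat.{u} R)

lemma prod_eq_one (a : Fin 1 → ι) :
    (∏ᶜ (UU f ∘ a) : (Spec R).Opens) = CechSpec.Dr (f (a 0)) := by
  rw [prod_eq]
  simp

lemma eta_apply_π (x : L) (a : Fin 1 → ι) :
    Pi.π (Cech.Z (UU f) ((PF R).obj L) 0) a (eta f L x) = toOpenL L (∏ᶜ (UU f ∘ a)) x := by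
  have h := ConcreteCategory.congr_hom (eta_π f L a) x
  rw [ConcreteCategory.comp_apply] at h
  exact h

lemma eta_injective (i : ι) (hb : Function.Bijective (fun x : L => f i • x)) :
    Function.Injective (eta f L) := by
  intro (x : L) (y : L) hxy
  have h1 := congrArg (Pi.π (Cech.Z (UU f) ((PF R).obj L) 0) (fun _ => i)) hxy
  rw [eta_apply_π, eta_apply_π] at h1
  have h2 : toOpenL L (∏ᶜ (UU f ∘ fun _ : Fin 1 => i)) (x - y) = 0 := by
    rw [map_sub, h1, sub_self]
  obtain ⟨k, hk⟩ := (toOpenL_eq_zero_iff L _ (f i) (prod_eq_one f _) (x - y)).1 h2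
  have h3 := (bijective_pow_smul L (f i) hb k).1
  have h4 : x - y = 0 := h3 (by
    show f i ^ k • (x - y) = f i ^ k • (0 : L)
    rw [hk, smul_zero])
  exact sub_eq_zero.1 h4

lemma ΦQ_canon (Q : (Spec R).Opensᵒᵖ ⥤ AddCommGrpCat.{u}) (n : ℕ)
    (z : (∏ᶜ Cech.Z (UU f) Q n : AddCommGrpCat.{u})) (a : Fin (n + 1) → ι) :
    Cech.ΦQ (UU f) Q n z (∏ᶜ (UU f ∘ a)) (Cech.canon (UU f) a) =
      Pi.π (Cech.Z (UU f) Q n) a z := by
  rw [Cech.ΦQ_apply]
  have e : Cech.tup (UU f) (Cech.canon (UU f) a) = 𝟙 _ := Subsingleton.elim _ _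
  show Q.map (Cech.tup (UU f) (Cech.canon (UU f) a)).op (Pi.π (Cech.Z (UU f) Q n) a z) = _
  rw [e, op_id, Q.map_id]
  rfl

lemma cons_comp_succAbove_one {α : Type*} (s : α) (t : Fin 1 → α) :
    (Fin.cons s t : Fin 2 → α) ∘ Fin.succAbove 1 = fun _ => s := by
  funext k
  fin_cases k
  rfl

/-- exactness in degree one of the augmented complex -/
lemma exists_eta_eq (i : ι) (hb : Function.Bijective (fun x : L => f i • x))
    (c : (∏ᶜ Cech.Z (UU f) (tilde L).presheaf 0 : AddCommGrpCat.{u}))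
    (hc : Cech.d' (UU f) (tilde L).presheaf 0 c = 0) : ∃ x, eta f L x = c := by
  have hV₀ : (∏ᶜ (UU f ∘ fun _ : Fin 1 => i) : (Spec R).Opens) = CechSpec.Dr (f i) :=
    prod_eq_one f _
  obtain ⟨x, hx⟩ := (toOpenL_bijective L (f i) hb _ hV₀).2
    (Pi.π (Cech.Z (UU f) (tilde L).presheaf 0) (fun _ => i) c)
  refine ⟨x, ?_⟩
  apply CechLeray.prod_ext
  intro a
  have hη : Pi.π (Cech.Z (UU f) (tilde L).presheaf 0) a (eta f L x) =
      toOpenL L (∏ᶜ (UU f ∘ a)) x := eta_apply_π f L x a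
  refine hη.trans ?_
  -- the open `V_a ⊓ D(f i)`
  have hVa' : (∏ᶜ (UU f ∘ a) : (Spec R).Opens) = CechSpec.Dr (f (a 0)) := prod_eq_one f a
  have hT'' : (∏ᶜ (UU f ∘ a) : (Spec R).Opens) ⊓ UU f i = CechSpec.Dr (f (a 0) * f i) := by
    rw [hVa']
    exact (PrimeSpectrum.basicOpen_mul (f (a 0)) (f i)).symm
  have le₀ : (∏ᶜ (UU f ∘ a) : (Spec R).Opens) ⊓ UU f i ≤ ∏ᶜ (UU f ∘ fun _ : Fin 1 => i) := by
    rw [hV₀]
    exact inf_le_right
  let s : Cech.Sec (UU f) ((∏ᶜ (UU f ∘ a) : (Spec R).Opens) ⊓ UU f i) :=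
    ⟨i, homOfLE inf_le_right⟩
  let τ : Fin 2 → Cech.Sec (UU f) ((∏ᶜ (UU f ∘ a) : (Spec R).Opens) ⊓ UU f i) :=
    Fin.cons s (Cech.pull (UU f) (homOfLE inf_le_left) (Cech.canon (UU f) a))
  have h0 : Cech.ΦQ (UU f) (tilde L).presheaf 1 (Cech.d' (UU f) (tilde L).presheaf 0 c) _ τ = 0 := by
    rw [hc, map_zero]
    rfl
  rw [Cech.ΦQ_d'] at h0
  simp only [Cech.dFam] at h0
  rw [Fin.sum_univ_two] at h0
  have e0 : τ ∘ Fin.succAbove 0 =
      Cech.pull (UU f) (homOfLE inf_le_left) (Cech.canon (UU f) a) :=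
    Cech.cons_comp_succAbove_zero _ _
  have e1 : τ ∘ Fin.succAbove 1 =
      Cech.pull (UU f) (homOfLE le₀) (Cech.canon (UU f) (fun _ : Fin 1 => i)) := by
    rw [show τ ∘ Fin.succAbove 1 = fun _ => s from cons_comp_succAbove_one _ _]
    funext k
    exact Cech.sec_ext (UU f) _ _ rfl
  rw [e0, e1, ← Cech.ΦQ_isNat, ← Cech.ΦQ_isNat, ΦQ_canon, ΦQ_canon, ← hx] at h0
  simp only [Fin.val_zero, pow_zero, one_smul, Fin.val_one, pow_one, neg_smul] at h0
  have h1 : (tilde L).presheaf.map (homOfLE (inf_le_left :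
        (∏ᶜ (UU f ∘ a) : (Spec R).Opens) ⊓ UU f i ≤ ∏ᶜ (UU f ∘ a))).op
        (Pi.π (Cech.Z (UU f) (tilde L).presheaf 0) a c) =
      (tilde L).presheaf.map (homOfLE (inf_le_left :
        (∏ᶜ (UU f ∘ a) : (Spec R).Opens) ⊓ UU f i ≤ ∏ᶜ (UU f ∘ a))).op
        (toOpenL L (∏ᶜ (UU f ∘ a)) x) := by
    have h2 : (tilde L).presheaf.map (homOfLE le₀).op
        (toOpenL L (∏ᶜ (UU f ∘ fun _ : Fin 1 => i)) x) =
        (tilde L).presheaf.map (homOfLE (inf_le_left :
          (∏ᶜ (UU f ∘ a) : (Spec R).Opens) ⊓ UU f i ≤ ∏ᶜ (UU f ∘ a))).op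
          (toOpenL L (∏ᶜ (UU f ∘ a)) x) := by
      rw [toOpenL_res, toOpenL_res]
    rw [← h2]
    exact add_neg_eq_zero.1 h0
  exact (res_injective L (f i) hb _ _ (f (a 0)) hVa' hT'' inf_le_left h1).symm

/-- exactness of the Čech complex in positive degrees when some `f i` acts bijectively -/
lemma cechF_exactAt_of_bijective [Finite ι] (i : ι)
    (hb : Function.Bijective (fun x : L => f i • x)) (n : ℕ) :
    ((cechF f).obj L).ExactAt (n + 1) := by
  classical
  have hL := hLoc L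
  suffices h : ∀ x : (∏ᶜ Cech.Z (UU f) (tilde L).presheaf (n + 1) : AddCommGrpCat.{u}),
      Cech.d' (UU f) (tilde L).presheaf (n + 1) x = 0 →
        ∃ y : (∏ᶜ Cech.Z (UU f) (tilde L).presheaf n : AddCommGrpCat.{u}),
          Cech.d' (UU f) (tilde L).presheaf n y = x from
    Cech.exactAt_of_forall n h
  intro x hx
  obtain ⟨N, y, hy⟩ := CechAffine.step1 (fun r : R => CechSpec.Dr r) f hL i n x hx
  have hbij : ∀ {m : ℕ} (b : Fin (m + 1) → ι), Function.Bijective
      (CechAffine.sm (tilde L).presheaf (CechSpec.μ (tilde L)) (f i ^ N)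
        (CechAffine.Vo (fun r : R => CechSpec.Dr r) f b)) := fun b =>
    bijective_smul_sec L (f i ^ N) (bijective_pow_smul L (f i) hb N) _ ⟨_, prod_eq f b⟩
  have hsurj : ∀ b : Fin (n + 1) → ι, ∃ w : (tilde L).presheaf.obj
      (op (CechAffine.Vo (fun r : R => CechSpec.Dr r) f b)),
      CechAffine.sm (tilde L).presheaf (CechSpec.μ (tilde L)) (f i ^ N)
        (CechAffine.Vo (fun r : R => CechSpec.Dr r) f b) w =
        Pi.π (Cech.Z (UU f) (tilde L).presheaf n) b y :=
    fun b => (hbij b).2 _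
  choose w hw using hsurj
  let y' : (∏ᶜ Cech.Z (UU f) (tilde L).presheaf n : AddCommGrpCat.{u}) :=
    (Concrete.productEquiv (Cech.Z (UU f) (tilde L).presheaf n)).symm w
  have hy' : CechAffine.mf (tilde L).presheaf (CechSpec.μ (tilde L))
      (fun r : R => CechSpec.Dr r) f (f i ^ N) n y' = y := by
    apply CechLeray.prod_ext
    intro b
    rw [CechAffine.π_mf, ← hw]
    congr 1
    exact Concrete.productEquiv_symm_apply_π (Cech.Z (UU f) (tilde L).presheaf n) w b
  refine ⟨y', ?_⟩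
  have hinj : Function.Injective (CechAffine.mf (tilde L).presheaf (CechSpec.μ (tilde L))
      (fun r : R => CechSpec.Dr r) f (f i ^ N) (n + 1)) := by
    intro z z' hzz
    apply CechLeray.prod_ext
    intro a
    apply (hbij a).1
    rw [← CechAffine.π_mf, ← CechAffine.π_mf, hzz]
  apply hinj
  rw [← CechAffine.mf_d', hy', hy]

/-- the augmented Čech complex is exact when some `f i` acts bijectively -/
theorem augF_exactAt_of_bijective [Finite ι] (i : ι)
    (hb : Function.Bijective (fun x : L => f i • x)) (q : ℕ) :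
    ((augF f).obj L).ExactAt q := by
  match q with
  | 0 =>
    exact augment_exactAt_zero ((cechF f).obj L) (etaX f L) (etaX_d f L)
      (eta_injective f L i hb)
  | 1 =>
    exact augment_exactAt_one ((cechF f).obj L) (etaX f L) (etaX_d f L)
      (exists_eta_eq f L i hb)
  | (n + 2) =>
    exact (augment_exactAt_succ_succ ((cechF f).obj L) (etaX f L) (etaX_d f L) n).2
      (cechF_exactAt_of_bijective f L i hb n)

end Exact

end Groth.Agent.Lib.helper2.CechDS
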