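import Mathlib
import Groth.Agent.Lib.Helper2.CechDS1
import Groth.Agent.Lib.Helper2.CechDS3

/-!
# helper2: Čech cohomology of `L~` for the covering `D(f_i)` is extended Čech cohomology
-/

set_option autoImplicit false
universe u

open CategoryTheory CategoryTheory.Limits HomologicalComplex Opposite TopologicalSpace
  AlgebraicGeometry

namespace Groth.Agent.Lib.helper2.CechDS

open Groth.Agent.Lib.helper27 Groth.Agent.Lib.helper2.AugCx DerCA
  Groth.Agent.Lib.helper2.ExtCech Groth.Agent.Lib.helper2.CechLow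

variable {R : CommRingCat.{u}} (fs : List R)

/-- the index type -/
abbrev ιf : Type u := ULift.{u} (Fin fs.length)

/-- the family of functions -/
abbrev ff : ιf fs → R := fun i => fs.get i.down

lemma ff_mem (i : ιf fs) : ff fs i ∈ fs := List.get_mem fs i.down

/-- the kernel of the augmentation is the torsion submodule -/
lemma eta_eq_zero_iff (L : ModuleCat.{u} R) (x : L) :
    eta (ff fs) L x = 0 ↔ x ∈ DRing.torsionSub (spanL fs) L := by
  rw [mem_torsionSub_spanL_iff]
  constructor
  · intro h g hg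
    obtain ⟨i, rfl⟩ := List.mem_iff_get.mp hg
    have h1 := congrArg (Pi.π (Cech.Z (UU (ff fs)) ((PF R).obj L) 0) (fun _ => ⟨i⟩)) h
    rw [eta_apply_π, map_zero] at h1
    exact (toOpenL_eq_zero_iff L _ (fs.get i) (prod_eq_one (ff fs) _) x).1 h1
  · intro h
    apply CechLeray.prod_ext
    intro a
    rw [eta_apply_π, map_zero]
    exact (toOpenL_eq_zero_iff L _ (ff fs (a 0)) (prod_eq_one (ff fs) a) x).2
      (h _ (ff_mem fs (a 0)))

/-- the kernel of the augmentation, as an additive group, is the torsion submodule -/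
noncomputable def kerEtaEquiv (L : ModuleCat.{u} R) :
    (etaX (ff fs) L).hom.ker ≃+ DRing.torsionSub (spanL fs) L where
  toFun x := ⟨(x.1 : L), (eta_eq_zero_iff fs L x.1).1 x.2⟩
  invFun x := ⟨x.1, (eta_eq_zero_iff fs L x.1).2 x.2⟩
  left_inv _ := rfl
  right_inv _ := rfl
  map_add' _ _ := rfl

lemma subsingleton_X_succ_of_torsion (T : ModuleCat.{u} R)
    (hT : ∀ f ∈ fs, ∀ t : T, ∃ n : ℕ, f ^ n • t = 0) (n : ℕ) :
    Subsingleton (((cechF (ff fs)).obj T).X n) := by
  refine ⟨fun x y => ?_⟩
  apply CechLeray.prod_ext (X₁ := Cech.Z (UU (ff fs)) ((PF R).obj T) n)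
  intro a
  have hsub : Subsingleton Γ(tilde T, ∏ᶜ (UU (ff fs) ∘ a)) :=
    subsingleton_sec_of_torsion T (ff fs (a 0)) (∏ k, ff fs (a k))
      (Finset.dvd_prod_of_mem _ (Finset.mem_univ 0)) (hT _ (ff_mem fs (a 0))) _
      (prod_eq (ff fs) a)
  exact hsub.elim _ _

theorem dimShift_aug :
    DimShift fs (fun (L : ModuleCat.{u} R) q => ((augF (ff fs)).obj L).homology q) where
  iso₂₃ S hS q h1 h2 := by
    have hSC := augF_shortExact (ff fs) S hS
    have := isIso_homologyMap_g hSC q (q + 1) rfl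
      (@AddCommGrpCat.isZero_of_subsingleton _ h1) (@AddCommGrpCat.isZero_of_subsingleton _ h2)
    exact ⟨(asIso (HomologicalComplex.homologyMap (S.map (augF (ff fs))).g q)).addCommGroupIsoToAddEquiv⟩
  iso₃₁ S hS q h1 h2 := by
    have hSC := augF_shortExact (ff fs) S hS
    have e := hSC.δIso q (q + 1) rfl
      (@AddCommGrpCat.isZero_of_subsingleton _ h1) (@AddCommGrpCat.isZero_of_subsingleton _ h2)
    exact ⟨e.addCommGroupIsoToAddEquiv⟩
  torsion T hT q hq := by
    obtain ⟨n, rfl⟩ : ∃ n, q = n + 1 := ⟨q - 1, by omega⟩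
    haveI : Subsingleton (((augF (ff fs)).obj T).X (n + 1)) :=
      subsingleton_X_succ_of_torsion fs T hT n
    exact AddCommGrpCat.subsingleton_of_isZero
      (HomologicalComplex.ExactAt.of_isZero
        (AddCommGrpCat.isZero_of_subsingleton _)).isZero_homology
  vanishN L q := by
    classical
    apply AddCommGrpCat.subsingleton_of_isZero
    refine isZero_obj_pi (augF (ff fs) ⋙ HomologicalComplex.homologyFunctor _ _ q)
      (fun i : Fin fs.length => Lf (fs.get i) L) (fun i => ?_)
    exact (augF_exactAt_of_bijective (ff fs) (ModuleCat.of R (Lf (fs.get i) L)) ⟨i⟩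
      (bijective_smul_Lf (fs.get i) L) q).isZero_homology
  zero L :=
    ⟨(augmentH0Equiv ((cechF (ff fs)).obj L) (etaX (ff fs) L) (etaX_d (ff fs) L)).trans
      (kerEtaEquiv fs L)⟩

/-- **the augmented Čech complex computes extended Čech cohomology** -/
theorem aug_equiv_extCech (L : ModuleCat.{u} R) (q : ℕ) :
    Nonempty (((augF (ff fs)).obj L).homology q ≃+ extCechH fs L (q : ℤ)) :=
  (dimShift_aug fs).equiv (dimShift_extCech fs) q L

/-- **Čech cohomology of `L~` for the covering `D(f_i)`** in positive degrees -/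
theorem cech_equiv_extCech (L : ModuleCat.{u} R) (p : ℕ) :
    Nonempty (((cechComplexFunctor (UU (ff fs))).obj (tilde L).presheaf).homology (p + 1) ≃+
      extCechH fs L ((p + 2 : ℕ) : ℤ)) := by
  obtain ⟨e⟩ := aug_equiv_extCech fs L (p + 2)
  exact ⟨(augmentHomologyIso ((cechF (ff fs)).obj L) (etaX (ff fs) L)
    (etaX_d (ff fs) L) p).symm.addCommGroupIsoToAddEquiv.trans e⟩

end Groth.Agent.Lib.helper2.CechDS
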