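import Mathlib
import Groth.Prelude.Def_DerCA
import Groth.Prelude.Def_DRing3
import Groth.Prelude.Def_ega3
import Groth.Agent.Lib.Helper2.CechLow1
import Groth.Agent.Lib.Helper2.ModSec2
import Groth.Agent.Lib.Helper8.CechQcqs

/-!
# helper2: sections over a union of basic opens on a qcqs scheme (kernel and cokernel of
restriction) — geometric part
-/

set_option autoImplicit false
universe u

open CategoryTheory CategoryTheory.Limits Opposite TopologicalSpace AlgebraicGeometry

namespace Groth.Agent.Lib.helper2.CechLow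

open DerCA Groth.Agent.Lib.helper2.ExtCech Groth.Agent.Lib.helper2.ModSec
  Groth.Agent.Lib.helper27 Groth.Agent.Lib.helper7 Groth.Agent.Lib.helper8.CechQcqs

variable {Y : Scheme.{u}} (M : Y.Modules)

lemma res_top (r : Γ(Y, ⊤)) : res r (⊤ : Y.Opens) = r := by
  unfold res
  rw [Subsingleton.elim (homOfLE (le_top : (⊤ : Y.Opens) ≤ ⊤)) (𝟙 _), op_id, Y.presheaf.map_id]
  rfl

/-- sections over `V`, as a type synonym carrying a module structure over the global functions -/
def SecT (V : Y.Opens) : Type u := Γ(M, V)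

noncomputable instance (V : Y.Opens) : AddCommGroup (SecT M V) :=
  inferInstanceAs (AddCommGroup Γ(M, V))

noncomputable instance (V : Y.Opens) : Module Γ(Y, ⊤) (SecT M V) :=
  Module.compHom Γ(M, V) (Y.presheaf.map (homOfLE (le_top : V ≤ ⊤)).op).hom

/-- sections over `V` as a module over the global functions -/
noncomputable def secMod (V : Y.Opens) : ModuleCat.{u} Γ(Y, ⊤) := ModuleCat.of Γ(Y, ⊤) (SecT M V)

/-- the underlying element -/
def secMod.out {V : Y.Opens} (x : secMod M V) : Γ(M, V) := x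

/-- an element of `secMod` from a section -/
def secMod.mk {V : Y.Opens} (x : Γ(M, V)) : secMod M V := x

lemma secMod.out_smul {V : Y.Opens} (r : Γ(Y, ⊤)) (x : secMod M V) :
    secMod.out M (r • x) = res r V • secMod.out M x := rfl

lemma secMod.out_add {V : Y.Opens} (x y : secMod M V) :
    secMod.out M (x + y) = secMod.out M x + secMod.out M y := rfl

lemma secMod.out_zero {V : Y.Opens} : secMod.out M (0 : secMod M V) = 0 := rfl

lemma secMod.out_mk {V : Y.Opens} (x : Γ(M, V)) : secMod.out M (secMod.mk M x) = x := rfl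

lemma secMod.mk_out {V : Y.Opens} (x : secMod M V) : secMod.mk M (secMod.out M x) = x := rfl

lemma secMod.out_injective {V : Y.Opens} : Function.Injective (secMod.out M (V := V)) :=
  fun _ _ h => h

/-- the global sections, with their own module structure -/
noncomputable abbrev M0 : ModuleCat.{u} Γ(Y, ⊤) := ModuleCat.of Γ(Y, ⊤) (M.val.obj (op ⊤))

variable (fs : List Γ(Y, ⊤))

/-- the basic opens -/
noncomputable abbrev DD (i : Fin fs.length) : Y.Opens := Y.basicOpen (fs.get i)

/-- the union -/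
noncomputable abbrev UU : Y.Opens := ⨆ i : Fin fs.length, Y.basicOpen (fs.get i)

/-- the product of the sections over the basic opens -/
noncomputable abbrev NN : ModuleCat.{u} Γ(Y, ⊤) :=
  ModuleCat.of Γ(Y, ⊤) (∀ i : Fin fs.length, SecT M (DD fs i))

/-- the restriction map to the product -/
noncomputable def eps : M0 M ⟶ NN M fs :=
  ModuleCat.ofHom
    { toFun := fun m i => secMod.mk M (M.presheaf.map (homOfLE (le_top : DD fs i ≤ ⊤)).op
        (show Γ(M, ⊤) from m))
      map_add' := fun m m' => by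
        funext i
        exact map_add (M.presheaf.map (homOfLE (le_top : DD fs i ≤ ⊤)).op).hom _ _
      map_smul' := fun r m => by
        funext i
        exact Scheme.Modules.map_smul M (homOfLE (le_top : DD fs i ≤ ⊤)) r _ }

lemma eps_apply (m : M0 M) (i : Fin fs.length) :
    secMod.out M ((eps M fs).hom m i) =
      M.presheaf.map (homOfLE (le_top : DD fs i ≤ ⊤)).op (show Γ(M, ⊤) from m) := rfl

section Qcqs

variable [CompactSpace Y] [QuasiSeparatedSpace Y] [M.IsQuasicoherent]

lemma res_eq_zero_iff (g : Γ(Y, ⊤)) (m : Γ(M, ⊤)) :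
    M.presheaf.map (homOfLE (le_top : Y.basicOpen g ≤ ⊤)).op m = 0 ↔ ∃ k : ℕ, g ^ k • m = 0 := by
  have hL := isLoc M
  constructor
  · intro h
    obtain ⟨N, hN⟩ := hL.ker 1 g ⊤ (Y.basicOpen g) hL.D_one.symm (by rw [one_mul]) le_top m h
    refine ⟨N, ?_⟩
    rw [sm_eq, res_top] at hN
    exact hN
  · rintro ⟨k, hk⟩
    have h1 : res (g ^ k) (Y.basicOpen g) • M.presheaf.map (homOfLE (le_top : Y.basicOpen g ≤ ⊤)).op m
        = 0 := by
      have := Scheme.Modules.map_smul M (homOfLE (le_top : Y.basicOpen g ≤ ⊤)) (g ^ k) m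
      rw [hk, map_zero] at this
      exact this.symm
    have hb := hL.bij (g ^ k) (Y.basicOpen g) (le_basicOpen_pow g k)
    apply hb.1
    rw [sm_eq, sm_eq, h1, smul_zero]

lemma eps_ker (m : M0 M) (hm : (eps M fs).hom m = 0) :
    ∀ f ∈ fs, ∃ n : ℕ, f ^ n • m = 0 := by
  intro f hf
  obtain ⟨i, rfl⟩ := List.mem_iff_get.mp hf
  have h1 : M.presheaf.map (homOfLE (le_top : DD fs i ≤ ⊤)).op (show Γ(M, ⊤) from m) = 0 := by
    rw [← eps_apply, hm]
    rfl
  exact (res_eq_zero_iff M (fs.get i) _).mp h1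

lemma isZero_extCechH_NN (q : ℤ) : IsZero (extCechH fs (NN M fs) q) := by
  classical
  have hL := isLoc M
  refine isZero_of_sum_factor fs q (NN M fs) (fun i : Fin fs.length => secMod M (DD fs i))
    (fun i => ModuleCat.ofHom (LinearMap.proj (φ := fun i => SecT M (DD fs i)) i))
    (fun i => ModuleCat.ofHom (LinearMap.single Γ(Y, ⊤) (fun i => SecT M (DD fs i)) i)) ?_ ?_
  · apply ModuleCat.hom_ext
    rw [ModuleCat.hom_sum]
    apply LinearMap.ext
    intro y
    rw [LinearMap.sum_apply]
    show ∑ i, Pi.single i (y i) = y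
    exact Finset.univ_sum_single y
  · intro i
    apply extCechH_isZero_of_bijective fs (secMod M (DD fs i)) (fs.get i)
      (Ideal.subset_span (List.get_mem fs i))
    exact hL.bij (fs.get i) (DD fs i) le_rfl

/-- a section over the union, multiplied by a power of `f_i`, extends to a global section -/
lemma exists_pow_smul_eq_res (s : Γ(M, UU fs)) (i : Fin fs.length) :
    ∃ (k : ℕ) (m : Γ(M, ⊤)), M.presheaf.map (homOfLE (le_top : UU fs ≤ ⊤)).op m =
      res ((fs.get i) ^ k) (UU fs) • s := by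
  classical
  have hL := isLoc M
  set g := fs.get i with hg
  have hD : ∀ j, DD fs j ≤ UU fs := fun j => le_iSup (fun i : Fin fs.length => DD fs i) j
  obtain ⟨N₁, t, ht⟩ := hL.ext 1 g ⊤ (DD fs i) hL.D_one.symm (by rw [one_mul]) le_top
    (M.presheaf.map (homOfLE (hD i)).op s)
  rw [sm_eq] at ht
  set d : Γ(M, UU fs) := res (g ^ N₁) (UU fs) • s -
    M.presheaf.map (homOfLE (le_top : UU fs ≤ ⊤)).op t with hd
  have hdi : M.presheaf.map (homOfLE (hD i)).op d = 0 := by
    rw [hd, map_sub, Scheme.Modules.map_smul, res_res, res_comp M (homOfLE (hD i))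
      (homOfLE (le_top : UU fs ≤ ⊤)) (homOfLE le_top) t, ht, sub_self]
  have hker : ∀ j, ∃ N₀ : ℕ, ∀ N, N₀ ≤ N →
      res (g ^ N) (DD fs j) • M.presheaf.map (homOfLE (hD j)).op d = 0 := by
    intro j
    have hle : Y.basicOpen (fs.get j * g) ≤ DD fs j := by
      rw [Scheme.basicOpen_mul]; exact inf_le_left
    have hle' : Y.basicOpen (fs.get j * g) ≤ DD fs i := by
      rw [Scheme.basicOpen_mul]; exact inf_le_right
    have h0 : M.presheaf.map (homOfLE hle).op (M.presheaf.map (homOfLE (hD j)).op d) = 0 := by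
      rw [res_comp M (homOfLE hle) (homOfLE (hD j)) (homOfLE (hle.trans (hD j))) d,
        ← res_comp M (homOfLE hle') (homOfLE (hD i)) (homOfLE (hle.trans (hD j))) d, hdi, map_zero]
    obtain ⟨N₀, hN₀⟩ := hL.ker_ge (fs.get j) g (DD fs j) (Y.basicOpen (fs.get j * g)) rfl rfl hle
      (M.presheaf.map (homOfLE (hD j)).op d) h0
    refine ⟨N₀, fun N hN => ?_⟩
    have := hN₀ N hN
    rw [sm_eq] at this
    exact this
  choose N₀ hN₀ using hker
  set N₂ := Finset.univ.sup N₀ with hN₂
  have hz : res (g ^ N₂) (UU fs) • d = 0 := by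
    apply sec_ext_cover M (fun j => DD fs j) (UU fs) hD le_rfl
    intro j
    rw [Scheme.Modules.map_smul, res_res, map_zero]
    exact hN₀ j N₂ (Finset.le_sup (Finset.mem_univ j))
  refine ⟨N₂ + N₁, g ^ N₂ • t, ?_⟩
  rw [Scheme.Modules.map_smul, pow_add, res_mul, mul_smul]
  have h1 : res (g ^ N₁) (UU fs) • s = d + M.presheaf.map (homOfLE (le_top : UU fs ≤ ⊤)).op t := by
    rw [hd]; abel
  rw [h1, smul_add, hz, zero_add]

/-- gluing a family which becomes global after multiplication by powers -/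
lemma exists_glue (y : ∀ i : Fin fs.length, Γ(M, DD fs i))
    (h : ∀ i : Fin fs.length, ∃ (k : ℕ) (m : Γ(M, ⊤)), ∀ j : Fin fs.length,
      M.presheaf.map (homOfLE (le_top : DD fs j ≤ ⊤)).op m = res ((fs.get i) ^ k) (DD fs j) • y j) :
    ∃ s : Γ(M, UU fs), ∀ i, M.presheaf.map
      (homOfLE (le_iSup (fun i : Fin fs.length => DD fs i) i)).op s = y i := by
  have hL := isLoc M
  have hcomp : TopCat.Presheaf.IsCompatible (sheaf M).1 (fun i : Fin fs.length => DD fs i) y := by
    intro i j
    obtain ⟨k, m, hm⟩ := h i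
    have hW : DD fs i ⊓ DD fs j ≤ Y.basicOpen ((fs.get i) ^ k) :=
      inf_le_left.trans (le_basicOpen_pow _ k)
    have hb := hL.bij ((fs.get i) ^ k) (DD fs i ⊓ DD fs j) hW
    apply hb.1
    change res (fs.get i ^ k) (DD fs i ⊓ DD fs j) •
        M.presheaf.map (homOfLE (inf_le_left : DD fs i ⊓ DD fs j ≤ DD fs i)).op (y i) =
      res (fs.get i ^ k) (DD fs i ⊓ DD fs j) •
        M.presheaf.map (homOfLE (inf_le_right : DD fs i ⊓ DD fs j ≤ DD fs j)).op (y j)
    have h1 : res (fs.get i ^ k) (DD fs i ⊓ DD fs j) •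
        M.presheaf.map (homOfLE (inf_le_left : DD fs i ⊓ DD fs j ≤ DD fs i)).op (y i) =
        M.presheaf.map (homOfLE (le_top : DD fs i ⊓ DD fs j ≤ ⊤)).op m := by
      rw [← res_res (fs.get i ^ k) (inf_le_left : DD fs i ⊓ DD fs j ≤ DD fs i),
        ← Scheme.Modules.map_smul, ← hm i, res_comp M _ _ (homOfLE le_top) m]
    have h2 : res (fs.get i ^ k) (DD fs i ⊓ DD fs j) •
        M.presheaf.map (homOfLE (inf_le_right : DD fs i ⊓ DD fs j ≤ DD fs j)).op (y j) =
        M.presheaf.map (homOfLE (le_top : DD fs i ⊓ DD fs j ≤ ⊤)).op m := by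
      rw [← res_res (fs.get i ^ k) (inf_le_right : DD fs i ⊓ DD fs j ≤ DD fs j),
        ← Scheme.Modules.map_smul, ← hm j, res_comp M _ _ (homOfLE le_top) m]
    exact h1.trans h2.symm
  obtain ⟨s, hs, -⟩ := (sheaf M).existsUnique_gluing' (fun i : Fin fs.length => DD fs i) (UU fs)
    (fun i => homOfLE (le_iSup (fun i : Fin fs.length => DD fs i) i)) le_rfl y hcomp
  exact ⟨s, hs⟩

end Qcqs

end Groth.Agent.Lib.helper2.CechLow
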