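import Mathlib
import Groth.Agent.Lib.Helper2.CechDS4
import Groth.Agent.Lib.Helper2.CechLow2
import Groth.Agent.Lib.Helper2.KC6
import Groth.Prelude.Def_ega3

/-!
# helper2: transfer of Čech complexes along termwise isomorphisms; the Čech complex of a
quasi-coherent module on a qcqs scheme for basic opens is that of `Γ(X, F)~` on `Spec Γ(X, O)`
-/

set_option autoImplicit false
universe u

open CategoryTheory CategoryTheory.Limits HomologicalComplex Opposite TopologicalSpace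
  AlgebraicGeometry

namespace Groth.Agent.Lib.helper2.CechTr

open Groth.Agent.Lib.helper27 Groth.Agent.Lib.helper7 Groth.Agent.Lib.helper8.CechQcqs
  Groth.Agent.Lib.helper2.CechDS Groth.Agent.Lib.helper2.CechLow Groth.Agent.Lib.helper2.ModSec

section transfer

variable {D₁ D₂ : Type u} [SmallCategory D₁] [SmallCategory D₂] [HasFiniteProducts D₁]
  [HasFiniteProducts D₂] {ι : Type u} (U₁ : ι → D₁) (U₂ : ι → D₂)
  (Q₁ : D₁ᵒᵖ ⥤ AddCommGrpCat.{u}) (Q₂ : D₂ᵒᵖ ⥤ AddCommGrpCat.{u})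

/-- Isomorphism of Čech complexes from termwise isomorphisms compatible with the faces. -/
noncomputable def cechIso
    (e : ∀ (n : ℕ) (a : Fin (n + 1) → ι), Cech.Z U₁ Q₁ n a ≅ Cech.Z U₂ Q₂ n a)
    (he : ∀ (n : ℕ) (b : Fin (n + 2) → ι) (i : Fin (n + 2)),
      Q₁.map (Cech.face U₁ b i).op ≫ (e (n + 1) b).hom =
        (e n (b ∘ Fin.succAbove i)).hom ≫ Q₂.map (Cech.face U₂ b i).op) :
    (cechComplexFunctor U₁).obj Q₁ ≅ (cechComplexFunctor U₂).obj Q₂ := by
  let E : ∀ n, (∏ᶜ Cech.Z U₁ Q₁ n : AddCommGrpCat.{u}) ⟶ ∏ᶜ Cech.Z U₂ Q₂ n :=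
    fun n => Limits.Pi.map (fun a => (e n a).hom)
  let E' : ∀ n, (∏ᶜ Cech.Z U₂ Q₂ n : AddCommGrpCat.{u}) ⟶ ∏ᶜ Cech.Z U₁ Q₁ n :=
    fun n => Limits.Pi.map (fun a => (e n a).inv)
  have h1 : ∀ n, E n ≫ E' n = 𝟙 _ := by
    intro n
    apply Limits.Pi.hom_ext
    intro a
    simp only [E, E', Category.assoc, Limits.Pi.map_π, Limits.Pi.map_π_assoc, Iso.hom_inv_id,
      Category.comp_id, Category.id_comp]
  have h2 : ∀ n, E' n ≫ E n = 𝟙 _ := by
    intro n
    apply Limits.Pi.hom_ext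
    intro a
    simp only [E, E', Category.assoc, Limits.Pi.map_π, Limits.Pi.map_π_assoc, Iso.inv_hom_id,
      Category.comp_id, Category.id_comp]
  have hδ : ∀ n (i : Fin (n + 2)),
      Cech.δ' U₁ Q₁ n i ≫ E (n + 1) = E n ≫ Cech.δ' U₂ Q₂ n i := by
    intro n i
    apply Limits.Pi.hom_ext
    intro b
    simp only [E, Cech.δ', Category.assoc, Limits.Pi.map_π, Limits.Pi.lift_π,
      Limits.Pi.lift_π_assoc, Limits.Pi.map_π_assoc]
    rw [he]
  have hd : ∀ n, Cech.d' U₁ Q₁ n ≫ E (n + 1) = E n ≫ Cech.d' U₂ Q₂ n := by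
    intro n
    rw [Cech.d'_eq, Cech.d'_eq, Preadditive.sum_comp, Preadditive.comp_sum]
    refine Finset.sum_congr rfl (fun i _ => ?_)
    rw [Preadditive.zsmul_comp, Preadditive.comp_zsmul, hδ]
  refine HomologicalComplex.Hom.isoOfComponents
    (fun n => (⟨E n, E' n, h1 n, h2 n⟩ :
      ((cechComplexFunctor U₁).obj Q₁).X n ≅ ((cechComplexFunctor U₂).obj Q₂).X n)) ?_
  intro i j hij
  obtain rfl : i + 1 = j := hij
  exact (hd i).symm

end transfer


section qcqs

variable {Y : Scheme.{u}} (M : Y.Modules)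

/-- restriction from the global sections, as a linear map over the global functions -/
noncomputable def rhoL (V : Y.Opens) : M0 M →ₗ[Γ(Y, ⊤)] SecT M V where
  toFun m := secMod.mk M (M.presheaf.map (homOfLE (le_top : V ≤ ⊤)).op (show Γ(M, ⊤) from m))
  map_add' m m' := map_add (M.presheaf.map (homOfLE (le_top : V ≤ ⊤)).op).hom _ _
  map_smul' r m := Scheme.Modules.map_smul M (homOfLE (le_top : V ≤ ⊤)) r _

lemma rhoL_apply (V : Y.Opens) (m : M0 M) :
    secMod.out M (rhoL M V m) =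
      M.presheaf.map (homOfLE (le_top : V ≤ ⊤)).op (show Γ(M, ⊤) from m) := rfl

/-- restriction between sections, as a linear map over the global functions -/
noncomputable def resL {V W : Y.Opens} (h : W ≤ V) : SecT M V →ₗ[Γ(Y, ⊤)] SecT M W where
  toFun s := secMod.mk M (M.presheaf.map (homOfLE h).op (secMod.out M s))
  map_add' s s' := map_add (M.presheaf.map (homOfLE h).op).hom _ _
  map_smul' r s := by
    show M.presheaf.map (homOfLE h).op (res r V • secMod.out M s) =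
      res r W • M.presheaf.map (homOfLE h).op (secMod.out M s)
    rw [Scheme.Modules.map_smul, res_res]

lemma resL_rhoL {V W : Y.Opens} (h : W ≤ V) (m : M0 M) :
    resL M h (rhoL M V m) = rhoL M W m :=
  res_comp M (homOfLE h) (homOfLE le_top) (homOfLE le_top) _

variable [CompactSpace Y] [QuasiSeparatedSpace Y] [M.IsQuasicoherent]

/-- sections over a basic open are the localization of the global sections -/
theorem isLocalizedModule_rhoL (g : Γ(Y, ⊤)) (V : Y.Opens) (hV : V = Y.basicOpen g) :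
    IsLocalizedModule (Submonoid.powers g) (rhoL M V) := by
  subst hV
  have hL := isLoc M
  refine ⟨?_, ?_, ?_⟩
  · rintro ⟨_, k, rfl⟩
    rw [Module.End.isUnit_iff]
    have := hL.bij (g ^ k) (Y.basicOpen g) (le_basicOpen_pow g k)
    exact this
  · intro y
    obtain ⟨N, t, ht⟩ := hL.ext 1 g ⊤ (Y.basicOpen g) hL.D_one.symm (by rw [one_mul]) le_top
      (secMod.out M y)
    rw [sm_eq] at ht
    exact ⟨⟨(show M0 M from t), ⟨g ^ N, N, rfl⟩⟩, ht.symm⟩
  · intro m m' h
    have h0 : M.presheaf.map (homOfLE (le_top : Y.basicOpen g ≤ ⊤)).op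
        (show Γ(M, ⊤) from (m - m' : M0 M)) = 0 := by
      have : rhoL M (Y.basicOpen g) (m - m') = 0 := by rw [map_sub, h, sub_self]
      exact this
    obtain ⟨k, hk⟩ := (res_eq_zero_iff M g _).1 h0
    refine ⟨⟨g ^ k, k, rfl⟩, ?_⟩
    have hk' : g ^ k • (m - m' : M0 M) = 0 := hk
    rw [smul_sub, sub_eq_zero] at hk'
    exact hk'


lemma isLocalizedModule_toOpenL {R : CommRingCat.{u}} (L : ModuleCat.{u} R) (g : R)
    (V : (Spec R).Opens) (hV : V = CechSpec.Dr g) :
    IsLocalizedModule (Submonoid.powers g) (toOpenL L V) := by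
  subst hV
  infer_instance

variable {ι : Type u} (f : ι → Γ(Y, ⊤))

/-- the covering family on `Y` -/
abbrev U₁ : ι → Y.Opens := fun i => Y.basicOpen (f i)

include M in
lemma prod_eq₁ {n : ℕ} (a : Fin n → ι) :
    (∏ᶜ (U₁ f ∘ a) : Y.Opens) = Y.basicOpen (∏ k, f (a k)) :=
  (isLoc M).prod_eq f a

/-- the termwise linear equivalence -/
noncomputable def eL {n : ℕ} (a : Fin n → ι) :
    SecT M (∏ᶜ (U₁ f ∘ a)) ≃ₗ[Γ(Y, ⊤)] Γ(tilde (M0 M), (∏ᶜ (UU f ∘ a) : (Spec Γ(Y, ⊤)).Opens)) :=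
  haveI := isLocalizedModule_rhoL M (∏ k, f (a k)) _ (prod_eq₁ M f a)
  haveI := isLocalizedModule_toOpenL (M0 M) (∏ k, f (a k)) _ (prod_eq f a)
  IsLocalizedModule.linearEquiv (Submonoid.powers (∏ k, f (a k))) (rhoL M (∏ᶜ (U₁ f ∘ a)))
    (toOpenL (M0 M) (∏ᶜ (UU f ∘ a)))

lemma eL_rhoL {n : ℕ} (a : Fin n → ι) (m : M0 M) :
    eL M f a (rhoL M _ m) = toOpenL (M0 M) _ m := by
  haveI := isLocalizedModule_rhoL M (∏ k, f (a k)) _ (prod_eq₁ M f a)
  haveI := isLocalizedModule_toOpenL (M0 M) (∏ k, f (a k)) _ (prod_eq f a)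
  exact IsLocalizedModule.linearEquiv_apply (Submonoid.powers (∏ k, f (a k)))
    (rhoL M (∏ᶜ (U₁ f ∘ a))) (toOpenL (M0 M) (∏ᶜ (UU f ∘ a))) m

/-- restriction of sections of `L~`, as a linear map -/
noncomputable def resL₂ {R : CommRingCat.{u}} (L : ModuleCat.{u} R) {V W : (Spec R).Opens}
    (h : W ≤ V) : Γ(tilde L, V) →ₗ[R] Γ(tilde L, W) :=
  ((modulesSpecToSheaf.obj (tilde L)).presheaf.map (homOfLE h).op).hom

lemma resL₂_apply {R : CommRingCat.{u}} (L : ModuleCat.{u} R) {V W : (Spec R).Opens}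
    (h : W ≤ V) (x : Γ(tilde L, V)) :
    resL₂ L h x = (tilde L).presheaf.map (homOfLE h).op x := rfl

lemma eL_face {n : ℕ} (b : Fin (n + 2) → ι) (i : Fin (n + 2))
    (y : SecT M (∏ᶜ (U₁ f ∘ b ∘ Fin.succAbove i))) :
    eL M f b (resL M (leOfHom (Cech.face (U₁ f) b i)) y) =
      resL₂ (M0 M) (leOfHom (Cech.face (UU f) b i)) (eL M f (b ∘ Fin.succAbove i) y) := by
  haveI := isLocalizedModule_rhoL M (∏ k, f ((b ∘ Fin.succAbove i) k)) _
    (prod_eq₁ M f (b ∘ Fin.succAbove i))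
  have hunit : ∀ s : Submonoid.powers (∏ k, f ((b ∘ Fin.succAbove i) k)),
      IsUnit (algebraMap Γ(Y, ⊤) (Module.End Γ(Y, ⊤)
        Γ(tilde (M0 M), (∏ᶜ (UU f ∘ b) : (Spec Γ(Y, ⊤)).Opens))) s) := by
    rintro ⟨_, k, rfl⟩
    apply Scheme.Modules.isUnit_algebraMap_end_of_le_basicOpen
    refine (leOfHom (Cech.face (UU f) b i)).trans ?_
    rw [prod_eq f (b ∘ Fin.succAbove i)]
    exact CechSpec.le_Dr_pow _ k
  have key : (eL M f b).toLinearMap ∘ₗ resL M (leOfHom (Cech.face (U₁ f) b i)) =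
      resL₂ (M0 M) (leOfHom (Cech.face (UU f) b i)) ∘ₗ
        (eL M f (b ∘ Fin.succAbove i)).toLinearMap := by
    apply IsLocalizedModule.ext (Submonoid.powers (∏ k, f ((b ∘ Fin.succAbove i) k)))
      (rhoL M (∏ᶜ (U₁ f ∘ b ∘ Fin.succAbove i))) hunit
    ext m
    simp only [LinearMap.comp_apply, LinearEquiv.coe_coe]
    rw [resL_rhoL, eL_rhoL, eL_rhoL, resL₂_apply, toOpenL_res]
  exact LinearMap.congr_fun key y

/-- the termwise isomorphisms -/
noncomputable def eIso (n : ℕ) (a : Fin (n + 1) → ι) :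
    Cech.Z (U₁ f) M.presheaf n a ≅ Cech.Z (UU f) (tilde (M0 M)).presheaf n a where
  hom := AddCommGrpCat.ofHom (eL M f a).toAddEquiv.toAddMonoidHom
  inv := AddCommGrpCat.ofHom (eL M f a).symm.toAddEquiv.toAddMonoidHom
  hom_inv_id := by
    ext x
    exact (eL M f a).symm_apply_apply x
  inv_hom_id := by
    ext x
    exact (eL M f a).apply_symm_apply x

/-- **the Čech complex of a quasi-coherent module for basic opens is that of the associated
module on the spectrum of the ring of global functions** -/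
noncomputable def cechIsoSpec :
    (cechComplexFunctor (U₁ f)).obj M.presheaf ≅
      (cechComplexFunctor (UU f)).obj (tilde (M0 M)).presheaf :=
  cechIso (U₁ f) (UU f) M.presheaf (tilde (M0 M)).presheaf (eIso M f) (by
    intro n b i
    ext y
    exact eL_face M f b i y)

end qcqs

section Main

variable {Y : Scheme.{u}} (M : Y.Modules) [CompactSpace Y] [QuasiSeparatedSpace Y]
  [M.IsQuasicoherent] (fs : List Γ(Y, ⊤))

/-- Čech cohomology of a quasi-coherent module for the opens `Y_{f_i}` in positive degrees is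
extended Čech cohomology of the module of global sections -/
theorem cechH_equiv_extCech (p : ℕ) :
    Nonempty (((cechComplexFunctor (fun i : ULift.{u} (Fin fs.length) =>
        Y.basicOpen (fs.get i.down))).obj M.presheaf).homology (p + 1) ≃+
      DerCA.extCechH fs (M0 M) ((p + 2 : ℕ) : ℤ)) := by
  obtain ⟨e⟩ := cech_equiv_extCech (R := Γ(Y, ⊤)) fs (M0 M) p
  exact ⟨(((HomologicalComplex.homologyFunctor _ _ (p + 1)).mapIso
    (cechIsoSpec M (ff (R := Γ(Y, ⊤)) fs))).addCommGroupIsoToAddEquiv).trans e⟩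

/-- S2438 -/
theorem cechH_equiv_koszulHLim (p : ℕ) (hp : 1 ≤ p) :
    Nonempty (((cechComplexFunctor (fun i : ULift.{u} (Fin fs.length) =>
        Y.basicOpen (fs.get i.down))).obj M.presheaf).homology p ≃+
      CohIII.koszulHLim fs (M0 M) (p + 1)) := by
  obtain ⟨q, rfl⟩ : ∃ q, p = q + 1 := ⟨p - 1, by omega⟩
  obtain ⟨e⟩ := cechH_equiv_extCech M fs q
  exact ⟨e.trans (Groth.Agent.Lib.helper2.KC.kcEquiv (M0 M) fs (q + 2)).symm.toAddEquiv⟩

end Main

end Groth.Agent.Lib.helper2.CechTr
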