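import Mathlib

set_option autoImplicit false
universe u
open CategoryTheory CategoryTheory.Limits MonoidalCategory TensorProduct

namespace Groth.Agent.Lib.helper2.EW

noncomputable section

variable {A : Type u} [CommRing A] (T : ModuleCat.{u} A ⥤ ModuleCat.{u} A) [T.Additive] [T.Linear A]

/-- `θ_x : A → M`, `a ↦ a • x` -/
def θ (M : ModuleCat.{u} A) (x : M) : ModuleCat.of A A ⟶ M :=
  ModuleCat.ofHom ((LinearMap.ringLmapEquivSelf A A M).symm x)

lemma θ_apply (M : ModuleCat.{u} A) (x : M) (a : A) : (θ M x).hom a = a • x := by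
  simp [θ]

lemma θ_comp {M M' : ModuleCat.{u} A} (g : M ⟶ M') (x : M) : θ M x ≫ g = θ M' (g.hom x) := by
  apply ModuleCat.hom_ext
  apply LinearMap.ext_ring
  simp [θ]

/-- the canonical map `T(A) ⊗ M → T(M)` -/
def tM (M : ModuleCat.{u} A) : T.obj (ModuleCat.of A A) ⊗[A] M →ₗ[A] T.obj M :=
  TensorProduct.lift (LinearMap.flip
    ((ModuleCat.homLinearEquiv (S := A)).toLinearMap ∘ₗ Functor.mapLinearMap A T ∘ₗ
      (ModuleCat.homLinearEquiv (S := A)).symm.toLinearMap ∘ₗ
        (LinearMap.ringLmapEquivSelf A A M).symm.toLinearMap))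

lemma tM_tmul (M : ModuleCat.{u} A) (y : T.obj (ModuleCat.of A A)) (x : M) :
    tM T M (y ⊗ₜ x) = (T.map (θ M x)).hom y := rfl

lemma tM_naturality {M M' : ModuleCat.{u} A} (g : M ⟶ M')
    (v : T.obj (ModuleCat.of A A) ⊗[A] M) :
    (T.map g).hom (tM T M v) = tM T M' (LinearMap.lTensor _ g.hom v) := by
  induction v using TensorProduct.induction_on with
  | zero => simp
  | tmul y x =>
    rw [tM_tmul, LinearMap.lTensor_tmul, tM_tmul, ← θ_comp, T.map_comp]
    rfl
  | add v w hv hw => rw [map_add, map_add, map_add, map_add, hv, hw]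

/-- the natural transformation `T(A) ⊗ - ⟶ T` -/
def tNat : tensorLeft (T.obj (ModuleCat.of A A)) ⟶ T where
  app M := ModuleCat.ofHom (tM T M)
  naturality M M' g := by
    apply ModuleCat.hom_ext
    apply LinearMap.ext
    intro v
    exact (tM_naturality T g v).symm

/-- if all `t_M` are bijective, `T ≅ T(A) ⊗ -` -/
def tIso (h : ∀ M : ModuleCat.{u} A, Function.Bijective (tM T M)) :
    tensorLeft (T.obj (ModuleCat.of A A)) ≅ T :=
  NatIso.ofComponents (fun M => (LinearEquiv.ofBijective (tM T M) (h M)).toModuleIso)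
    (fun g => (tNat T).naturality g)

end

end Groth.Agent.Lib.helper2.EW
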