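import Mathlib
import Groth.Prelude.Def_ega3
import Groth.Agent.Lib.Helper2.TpReduced
import Groth.Agent.Lib.Helper2.RedLocal

set_option autoImplicit false
universe u
open TensorProduct

namespace Groth.Agent.Lib.helper2.DVRMod

noncomputable section

section Len
variable {A : Type u} [CommRing A] {X Y Z : Type u} [AddCommGroup X] [AddCommGroup Y]
  [AddCommGroup Z] [Module A X] [Module A Y] [Module A Z]

lemma length_eq_of_exact3 (μ : X →ₗ[A] X) (ρ : X →ₗ[A] Y) (δ : Y →ₗ[A] Z) (μ' : Z →ₗ[A] Z)
    (h1 : Function.Exact μ ρ) (h2 : Function.Exact ρ δ) (h3 : Function.Exact δ μ') :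
    Module.length A Y =
      Module.length A (X ⧸ LinearMap.range μ) + Module.length A (LinearMap.ker μ') := by
  have e1 : Module.length A Y =
      Module.length A (LinearMap.ker δ) + Module.length A (LinearMap.range δ) :=
    Module.length_eq_add_of_exact (LinearMap.ker δ).subtype δ.rangeRestrict
      (Submodule.subtype_injective _) δ.surjective_rangeRestrict (by
        intro y
        rw [Submodule.coe_subtype, Subtype.range_coe]
        exact ⟨fun hy => congrArg Subtype.val hy, fun hy => Subtype.ext hy⟩)
  have e2 : LinearMap.ker δ = LinearMap.range ρ := h2.linearMap_ker_eq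
  have e3 : LinearMap.ker ρ = LinearMap.range μ := h1.linearMap_ker_eq
  have e4 : LinearMap.ker μ' = LinearMap.range δ := h3.linearMap_ker_eq
  rw [e1, (LinearEquiv.ofEq _ _ e2).length_eq, ← (LinearEquiv.ofEq _ _ e4).length_eq,
    ← ρ.quotKerEquivRange.length_eq, (Submodule.quotEquivOfEq _ _ e3).length_eq]

end Len

section Local
variable {A : Type u} [CommRing A] [IsLocalRing A]

local notation "k" => IsLocalRing.ResidueField A

/-- `ℓ_A(k ⊗ M) = dim_k (k ⊗ M)` for finite `M` -/
lemma length_residue_tensor (M : Type u) [AddCommGroup M] [Module A M] [Module.Finite A M] :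
    Module.length A (k ⊗[A] M) = (Module.finrank k (k ⊗[A] M) : ℕ∞) := by
  rw [← Module.length_eq_finrank k (k ⊗[A] M)]
  exact Module.length_eq_of_surjective Ideal.Quotient.mk_surjective

/-- `ℓ_A(M/mM) = dim_k (k ⊗ M)` -/
lemma length_quot_smul (M : Type u) [AddCommGroup M] [Module A M] [Module.Finite A M] :
    Module.length A (M ⧸ (IsLocalRing.maximalIdeal A • ⊤ : Submodule A M)) =
      (Module.finrank k (k ⊗[A] M) : ℕ∞) := by
  rw [← length_residue_tensor]
  exact (TensorProduct.quotTensorEquivQuotSMul M (IsLocalRing.maximalIdeal A)).symm.length_eq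

/-- a finite module killed by the maximal ideal has finite length -/
lemma length_ne_top_of_smul_eq_bot (M : Type u) [AddCommGroup M] [Module A M] [Module.Finite A M]
    (h : (IsLocalRing.maximalIdeal A • ⊤ : Submodule A M) = ⊥) : Module.length A M ≠ ⊤ := by
  have e : Module.length A M = Module.length A (M ⧸ (IsLocalRing.maximalIdeal A • ⊤ : Submodule A M)) := by
    rw [h]
    exact (Submodule.quotEquivOfEqBot ⊥ rfl).symm.length_eq
  rw [e, length_quot_smul]
  exact ENat.natCast_ne_top _

end Local

section DVR
variable {A : Type u} [CommRing A] [IsDomain A] [IsDiscreteValuationRing A]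

lemma free_iff_injective_smul (π : A) (hπ : Irreducible π) (M : Type u) [AddCommGroup M]
    [Module A M] [Module.Finite A M] :
    Module.Free A M ↔ Function.Injective (π • LinearMap.id : M →ₗ[A] M) := by
  constructor
  · intro h
    haveI : Module.IsTorsionFree A M := inferInstance
    intro x y hxy
    have hreg : IsRegular π := IsRegular.of_ne_zero hπ.ne_zero
    exact (Module.IsTorsionFree.isSMulRegular hreg : IsSMulRegular M π) hxy
  · intro h
    have hpow : ∀ n : ℕ, ∀ m : M, π ^ n • m = 0 → m = 0 := by
      intro n
      induction n with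
      | zero => intro m hm; simpa using hm
      | succ n ih =>
        intro m hm
        apply ih
        apply h
        show π • (π ^ n • m) = π • (0 : M)
        rw [smul_zero, ← mul_smul, ← pow_succ']
        exact hm
    haveI : Module.IsTorsionFree A M := by
      apply Module.IsTorsionFree.of_smul_eq_zero
      intro r m hrm
      by_cases hr : r = 0
      · exact Or.inl hr
      · right
        obtain ⟨n, u, rfl⟩ := IsDiscreteValuationRing.eq_unit_mul_pow_irreducible hr hπ
        apply hpow n
        have : (u : A) • (π ^ n • m) = 0 := by rwa [← mul_smul]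
        have h2 := congrArg (fun z => ((u⁻¹ : Aˣ) : A) • z) this
        simpa [← mul_smul] using h2
    exact Module.free_of_finite_type_torsion_free'

end DVR

section FracRank
open Groth.Agent.Lib.helper2.TpLib
variable {A : Type u} [CommRing A] [IsDomain A]

/-- the generic point -/
def botPt (A : Type u) [CommRing A] [IsDomain A] : PrimeSpectrum A := ⟨⊥, Ideal.isPrime_bot⟩

lemma fr_bot (M : Type u) [AddCommGroup M] [Module A M] :
    fr (botPt A) M = Module.finrank (FractionRing A) (FractionRing A ⊗[A] M) := by
  have hinj : Function.Injective (Algebra.ofId A (botPt A).asIdeal.ResidueField) := by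
    show Function.Injective (algebraMap A (botPt A).asIdeal.ResidueField)
    rw [RingHom.injective_iff_ker_eq_bot, Ideal.ker_algebraMap_residueField]
    rfl
  let φ : FractionRing A →ₐ[A] (botPt A).asIdeal.ResidueField := IsFractionRing.liftAlgHom hinj
  letI : Algebra (FractionRing A) (botPt A).asIdeal.ResidueField := φ.toRingHom.toAlgebra
  haveI : IsScalarTower A (FractionRing A) (botPt A).asIdeal.ResidueField :=
    IsScalarTower.of_algebraMap_eq' (by
      ext a
      exact (φ.commutes a).symm)
  exact finrank_field_ext (FractionRing A) (botPt A).asIdeal.ResidueField M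

variable [IsLocalRing A]

lemma frac_le_residue (M : Type u) [AddCommGroup M] [Module A M] [Module.Finite A M] :
    Module.finrank (FractionRing A) (FractionRing A ⊗[A] M) ≤
      Module.finrank (IsLocalRing.ResidueField A) (IsLocalRing.ResidueField A ⊗[A] M) := by
  rw [← fr_bot, ← fr_closedPoint]
  exact fr_le_closedPoint M _

lemma frac_eq_residue_iff [IsNoetherianRing A] (M : Type u) [AddCommGroup M] [Module A M]
    [Module.Finite A M] :
    Module.finrank (FractionRing A) (FractionRing A ⊗[A] M) =
      Module.finrank (IsLocalRing.ResidueField A) (IsLocalRing.ResidueField A ⊗[A] M) ↔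
    Module.Free A M := by
  rw [← fr_bot, ← fr_closedPoint]
  constructor
  · intro h
    apply Groth.Agent.Lib.helper2.RedLocal.free_of_finrank_minimalPrimes
    intro q hq
    rw [IsDomain.minimalPrimes_eq_singleton_bot, Set.mem_singleton_iff] at hq
    have hq' : q = botPt A := PrimeSpectrum.ext hq
    rw [hq', ← fr_closedPoint]
    exact h
  · intro h
    exact fr_const_of_flat M _

end FracRank

end

end Groth.Agent.Lib.helper2.DVRMod
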