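import Mathlib
set_option autoImplicit false
universe u

namespace Groth.Agent.Lib.helper2.HalfExact

section L1
variable {B : Type*} [Ring B] {X Y Z : Type*} [AddCommGroup X] [AddCommGroup Y] [AddCommGroup Z]
  [Module B X] [Module B Y] [Module B Z]

lemma length_mid_add (f : X →ₗ[B] Y) (g : Y →ₗ[B] Z) (h : Function.Exact f g) :
    Module.length B X + Module.length B Z =
      Module.length B Y + (Module.length B (LinearMap.ker f) +
        Module.length B (Z ⧸ LinearMap.range g)) := by
  have h1 : Module.length B Y = Module.length B (LinearMap.ker g) + Module.length B (LinearMap.range g) :=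
    Module.length_eq_add_of_exact (LinearMap.ker g).subtype g.rangeRestrict
      (Submodule.subtype_injective _) g.surjective_rangeRestrict (by
        intro y
        rw [Submodule.coe_subtype, Subtype.range_coe]
        exact ⟨fun hy => congrArg Subtype.val hy, fun hy => Subtype.ext hy⟩)
  have h2 : Module.length B X = Module.length B (LinearMap.ker f) + Module.length B (LinearMap.range f) :=
    Module.length_eq_add_of_exact (LinearMap.ker f).subtype f.rangeRestrict
      (Submodule.subtype_injective _) f.surjective_rangeRestrict (by
        intro y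
        rw [Submodule.coe_subtype, Subtype.range_coe]
        exact ⟨fun hy => congrArg Subtype.val hy, fun hy => Subtype.ext hy⟩)
  have h3 : Module.length B Z = Module.length B (LinearMap.range g) +
      Module.length B (Z ⧸ LinearMap.range g) :=
    Module.length_eq_add_of_exact (LinearMap.range g).subtype (LinearMap.range g).mkQ
      (Submodule.subtype_injective _) (Submodule.mkQ_surjective _)
      (LinearMap.exact_subtype_mkQ _)
  have h4 : LinearMap.ker g = LinearMap.range f := h.linearMap_ker_eq
  rw [h4] at h1
  rw [h1, h2, h3]
  ring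

lemma length_mid_le (f : X →ₗ[B] Y) (g : Y →ₗ[B] Z) (h : Function.Exact f g) :
    Module.length B Y ≤ Module.length B X + Module.length B Z := by
  rw [length_mid_add f g h]
  exact le_self_add

lemma length_mid_eq_iff (f : X →ₗ[B] Y) (g : Y →ₗ[B] Z) (h : Function.Exact f g)
    (hX : Module.length B X ≠ ⊤) (hZ : Module.length B Z ≠ ⊤) :
    Module.length B Y = Module.length B X + Module.length B Z ↔
      Function.Injective f ∧ Function.Surjective g := by
  have hY : Module.length B Y ≠ ⊤ := by
    intro hY
    have := length_mid_le f g h
    rw [hY, top_le_iff] at this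
    rcases ENat.add_eq_top.mp this with h' | h'
    · exact hX h'
    · exact hZ h'
  rw [length_mid_add f g h]
  have : Module.length B Y = Module.length B Y + (Module.length B (LinearMap.ker f) +
        Module.length B (Z ⧸ LinearMap.range g)) ↔
      (Module.length B (LinearMap.ker f) + Module.length B (Z ⧸ LinearMap.range g)) = 0 := by
    constructor
    · intro e
      have e' : Module.length B Y + 0 = Module.length B Y + (Module.length B (LinearMap.ker f) +
        Module.length B (Z ⧸ LinearMap.range g)) := by rw [add_zero]; exact e
      exact (ENat.add_right_injective_of_ne_top hY e').symm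
    · intro e
      rw [e, add_zero]
  rw [this, add_eq_zero, Module.length_eq_zero_iff, Module.length_eq_zero_iff]
  constructor
  · rintro ⟨h1, h2⟩
    constructor
    · rw [← LinearMap.ker_eq_bot]
      exact (Submodule.subsingleton_iff_eq_bot).mp h1
    · rw [← LinearMap.range_eq_top]
      exact Submodule.Quotient.subsingleton_iff.mp h2
  · rintro ⟨h1, h2⟩
    constructor
    · rw [Submodule.subsingleton_iff_eq_bot]
      exact LinearMap.ker_eq_bot.mpr h1
    · rw [Submodule.Quotient.subsingleton_iff]
      exact LinearMap.range_eq_top.mpr h2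

end L1

section L2
open CategoryTheory CategoryTheory.Limits

lemma length_induction {A : Type u} [Ring A] (motive : ModuleCat.{u} A → Prop)
    (h0 : ∀ M : ModuleCat.{u} A, Subsingleton M → motive M)
    (hstep : ∀ (M : ModuleCat.{u} A) (N : Submodule A M), IsSimpleModule A N →
       Module.length A M ≠ ⊤ → motive (ModuleCat.of A (M ⧸ N)) → motive M) :
    ∀ M : ModuleCat.{u} A, Module.length A M ≠ ⊤ → motive M := by
  suffices H : ∀ n : ℕ, ∀ M : ModuleCat.{u} A, Module.length A M = n → motive M by
    intro M hM
    obtain ⟨n, hn⟩ := ENat.ne_top_iff_exists.mp hM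
    exact H n M hn.symm
  intro n
  induction n using Nat.strong_induction_on with
  | _ n ih =>
    intro M hM
    have hfin : Module.length A M ≠ ⊤ := by rw [hM]; exact ENat.natCast_ne_top n
    by_cases hsub : Subsingleton M
    · exact h0 M hsub
    · rw [not_subsingleton_iff_nontrivial] at hsub
      have hfl : IsFiniteLength A M := Module.length_ne_top_iff.mp hfin
      obtain ⟨hN, hAr⟩ := isFiniteLength_iff_isNoetherian_isArtinian.mp hfl
      obtain ⟨N, hNatom⟩ := IsAtomic.exists_atom (Submodule A M)
      have hsimple : IsSimpleModule A N := isSimpleModule_iff_isAtom.mpr hNatom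
      have hlt : Module.length A (M ⧸ N) < Module.length A M :=
        Submodule.length_quotient_lt N hNatom.1
      have hfinq : Module.length A (M ⧸ N) ≠ ⊤ := ne_top_of_lt hlt
      obtain ⟨k, hk⟩ := ENat.ne_top_iff_exists.mp hfinq
      apply hstep M N hsimple hfin
      refine ih k ?_ (ModuleCat.of A (M ⧸ N)) hk.symm
      rw [hM, ← hk] at hlt
      exact_mod_cast hlt

variable {A B : Type u} [Ring A] [Ring B]
    (F : ModuleCat.{u} A ⥤ ModuleCat.{u} B) [F.Additive]
    (hF : ∀ S : ShortComplex (ModuleCat.{u} A), S.ShortExact → (S.map F).Exact)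
include hF

lemma F_exact (S : ShortComplex (ModuleCat.{u} A)) (hS : S.ShortExact) :
    Function.Exact (F.map S.f).hom (F.map S.g).hom :=
  (ShortComplex.ShortExact.moduleCat_exact_iff_function_exact (S.map F)).mp (hF S hS)

omit hF in
/-- the short exact sequence of a submodule -/
lemma subSC_shortExact (M : ModuleCat.{u} A) (N : Submodule A M) :
    (ShortComplex.mk (ModuleCat.ofHom N.subtype) (ModuleCat.ofHom N.mkQ) (by
      ext x; simp)).ShortExact := by
  apply ModuleCat.shortComplex_shortExact
  · exact LinearMap.exact_subtype_mkQ N
  · exact Subtype.val_injective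
  · exact Submodule.mkQ_surjective N

lemma finite_length_of (hS : ∀ M : ModuleCat.{u} A, IsSimpleModule A M → Module.length B (F.obj M) ≠ ⊤) :
    ∀ E : ModuleCat.{u} A, Module.length A E ≠ ⊤ → Module.length B (F.obj E) ≠ ⊤ := by
  apply length_induction
  · intro M hM
    have hz : IsZero M := ModuleCat.isZero_of_subsingleton M
    have : IsZero (F.obj M) := F.map_isZero hz
    haveI := ModuleCat.subsingleton_of_isZero this
    rw [Module.length_eq_zero]
    exact ENat.zero_ne_top
  · intro M N hN hM ih
    have hex := F_exact F hF _ (subSC_shortExact M N)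
    have hle := length_mid_le _ _ hex
    have h1 := hS (ModuleCat.of A N) hN
    intro htop
    rw [htop, top_le_iff] at hle
    rcases ENat.add_eq_top.mp hle with h' | h'
    · exact h1 h'
    · exact ih h'

lemma main (hS : ∀ M : ModuleCat.{u} A, IsSimpleModule A M → Module.length B (F.obj M) ≠ ⊤) :
    (∀ E : ModuleCat.{u} A, Module.length A E ≠ ⊤ → Module.length B (F.obj E) ≠ ⊤) ∧
      ∀ S : ShortComplex (ModuleCat.{u} A), S.ShortExact → Module.length A S.X₂ ≠ ⊤ →
        Module.length B (F.obj S.X₂) ≤ Module.length B (F.obj S.X₁) + Module.length B (F.obj S.X₃) ∧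
          (Module.length B (F.obj S.X₂) = Module.length B (F.obj S.X₁) + Module.length B (F.obj S.X₃) ↔
            (S.map F).ShortExact) := by
  have h1 := finite_length_of F hF hS
  refine ⟨h1, fun S hSE hX₂ => ?_⟩
  have hex := F_exact F hF S hSE
  have hX₁ : Module.length A S.X₁ ≠ ⊤ := by
    intro h
    have := Module.length_le_of_injective S.f.hom hSE.moduleCat_injective_f
    rw [h, top_le_iff] at this
    exact hX₂ this
  have hX₃ : Module.length A S.X₃ ≠ ⊤ := by
    intro h
    have := Module.length_le_of_surjective S.g.hom hSE.moduleCat_surjective_g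
    rw [h, top_le_iff] at this
    exact hX₂ this
  refine ⟨length_mid_le _ _ hex, ?_⟩
  rw [length_mid_eq_iff _ _ hex (h1 _ hX₁) (h1 _ hX₃)]
  constructor
  · rintro ⟨hi, hs⟩
    exact { exact := hF S hSE
            mono_f := (ModuleCat.mono_iff_injective _).mpr hi
            epi_g := (ModuleCat.epi_iff_surjective _).mpr hs }
  · intro h
    exact ⟨h.moduleCat_injective_f, h.moduleCat_surjective_g⟩

end L2

end Groth.Agent.Lib.helper2.HalfExact
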