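import Mathlib
import Groth.Prelude.Def_ega3
import Groth.Agent.Lib.Helper2.TpLocal
import Groth.Agent.Lib.Helper2.HalfExactLength

set_option autoImplicit false
universe u
open CategoryTheory CategoryTheory.Limits MonoidalCategory TensorProduct

namespace Groth.Agent.Lib.helper2.TpLib

noncomputable section

section Additive
variable {A : Type u} [CommRing A] (P : ChainComplex (ModuleCat.{u} A) ℤ)

lemma tensorMap_add {M N : ModuleCat.{u} A} (f g : M ⟶ N) :
    CohIII.tensorMap P (f + g) = CohIII.tensorMap P f + CohIII.tensorMap P g := by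
  ext i : 1
  show P.X i ◁ (f + g) = P.X i ◁ f + P.X i ◁ g
  exact MonoidalPreadditive.whiskerLeft_add _ _

instance TFun_additive (p : ℤ) : (CohIII.TFun P p).Additive where
  map_add {M N f g} := by
    show HomologicalComplex.homologyMap (CohIII.tensorMap P (f + g)) p =
      HomologicalComplex.homologyMap (CohIII.tensorMap P f) p +
        HomologicalComplex.homologyMap (CohIII.tensorMap P g) p
    rw [tensorMap_add, HomologicalComplex.homologyMap_add]

lemma TFun_halfExact (hP : ∀ i, Module.Flat A (P.X i)) (p : ℤ)
    (S : ShortComplex (ModuleCat.{u} A)) (hS : S.ShortExact) : (S.map (CohIII.TFun P p)).Exact :=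
  (shortExact_tensor P hP S hS).homology_exact₂ p

end Additive

section Artin
open Groth.Agent.Lib.helper2.HalfExact
variable {A : Type u} [CommRing A] [IsArtinianRing A] [IsLocalRing A]
  (P : ChainComplex (ModuleCat.{u} A) ℤ)

omit [IsArtinianRing A] in
/-- a simple module over a local ring is `≃ k` -/
lemma simple_equiv_residue (M : Type u) [AddCommGroup M] [Module A M] [IsSimpleModule A M] :
    Nonempty (M ≃ₗ[A] IsLocalRing.ResidueField A) := by
  obtain ⟨I, hI, ⟨e⟩⟩ := isSimpleModule_iff_quot_maximal.mp (inferInstance : IsSimpleModule A M)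
  have : I = IsLocalRing.maximalIdeal A := IsLocalRing.eq_maximalIdeal hI
  subst this
  exact ⟨e⟩

omit [IsArtinianRing A] in
lemma length_T_simple (p : ℤ) (M : ModuleCat.{u} A) (hM : IsSimpleModule A M) :
    Module.length A ((CohIII.TFun P p).obj M) =
      Module.length A ((CohIII.TFun P p).obj (ModuleCat.of A (IsLocalRing.ResidueField A))) := by
  obtain ⟨e⟩ := simple_equiv_residue (A := A) M
  exact ((CohIII.TFun P p).mapIso e.toModuleIso).toLinearEquiv.length_eq

omit [IsArtinianRing A] in
lemma length_residue : Module.length A (IsLocalRing.ResidueField A) = 1 := by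
  rw [Module.length_eq_one_iff]
  exact isSimpleModule_iff_quot_maximal.mpr ⟨IsLocalRing.maximalIdeal A, inferInstance,
    ⟨LinearEquiv.refl _ _⟩⟩

lemma finite_length_T_residue (hP : ∀ i, Module.Finite A (P.X i) ∧ Module.Flat A (P.X i)) (p : ℤ) :
    Module.length A ((CohIII.TFun P p).obj (ModuleCat.of A (IsLocalRing.ResidueField A))) ≠ ⊤ := by
  haveI := (hP p).1
  set K := CohIII.tensorObj P (ModuleCat.of A (IsLocalRing.ResidueField A)) with hK
  haveI : Module.Finite A (K.X p) := by
    show Module.Finite A (P.X p ⊗[A] IsLocalRing.ResidueField A)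
    infer_instance
  haveI : IsNoetherian A (K.X p) := isNoetherian_of_isNoetherianRing_of_finite A _
  haveI : IsArtinian A (K.X p) := inferInstance
  have h1 : Module.length A (K.X p) ≠ ⊤ := Module.length_ne_top
  have h2 : Module.length A (K.cycles p) ≤ Module.length A (K.X p) :=
    Module.length_le_of_injective (K.iCycles p).hom
      ((ModuleCat.mono_iff_injective _).mp inferInstance)
  have h3 : Module.length A (K.homology p) ≤ Module.length A (K.cycles p) :=
    Module.length_le_of_surjective (K.homologyπ p).hom
      ((ModuleCat.epi_iff_surjective _).mp inferInstance)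
  show Module.length A (K.homology p) ≠ ⊤
  exact ne_top_of_le_ne_top h1 (h3.trans h2)


omit [IsArtinianRing A] [IsLocalRing A] in
lemma isZero_T_of_subsingleton (p : ℤ) (M : ModuleCat.{u} A) (hM : Subsingleton M) :
    Module.length A ((CohIII.TFun P p).obj M) = 0 := by
  have hz : IsZero M := ModuleCat.isZero_of_subsingleton M
  have : IsZero ((CohIII.TFun P p).obj M) := (CohIII.TFun P p).map_isZero hz
  haveI := ModuleCat.subsingleton_of_isZero this
  exact Module.length_eq_zero

omit [IsArtinianRing A] [IsLocalRing A] in
lemma length_step (M : ModuleCat.{u} A) (N : Submodule A M) (hN : IsSimpleModule A N) :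
    Module.length A M = 1 + Module.length A (M ⧸ N) := by
  rw [Module.length_eq_add_of_exact N.subtype N.mkQ Subtype.val_injective
    (Submodule.mkQ_surjective N) (LinearMap.exact_subtype_mkQ N), Module.length_eq_one]

omit [IsArtinianRing A] in
/-- `ℓ(T_p M) ≤ d ℓ(M)` -/
lemma length_T_le (hP : ∀ i, Module.Finite A (P.X i) ∧ Module.Flat A (P.X i)) (p : ℤ) :
    ∀ M : ModuleCat.{u} A, Module.length A M ≠ ⊤ →
      Module.length A ((CohIII.TFun P p).obj M) ≤
        Module.length A ((CohIII.TFun P p).obj (ModuleCat.of A (IsLocalRing.ResidueField A))) *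
          Module.length A M := by
  have hfl : ∀ i, Module.Flat A (P.X i) := fun i => (hP i).2
  apply length_induction
  · intro M hM
    rw [isZero_T_of_subsingleton P p M hM]
    exact bot_le
  · intro M N hN hM ih
    have hex := F_exact (CohIII.TFun P p) (TFun_halfExact P hfl p) _ (subSC_shortExact M N)
    have hle := length_mid_le _ _ hex
    have h1 := length_T_simple P p (ModuleCat.of A N) hN
    rw [length_step M N hN, mul_add, mul_one]
    refine hle.trans ?_
    exact add_le_add (le_of_eq h1) ih

omit [IsArtinianRing A] in
/-- if `T_p` is exact then `ℓ(T_p M) = d ℓ(M)` -/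
lemma length_T_eq (hP : ∀ i, Module.Finite A (P.X i) ∧ Module.Flat A (P.X i)) (p : ℤ)
    (hm : (CohIII.TFun P p).PreservesMonomorphisms) (he : (CohIII.TFun P p).PreservesEpimorphisms) :
    ∀ M : ModuleCat.{u} A, Module.length A M ≠ ⊤ →
      Module.length A ((CohIII.TFun P p).obj M) =
        Module.length A ((CohIII.TFun P p).obj (ModuleCat.of A (IsLocalRing.ResidueField A))) *
          Module.length A M := by
  have hfl : ∀ i, Module.Flat A (P.X i) := fun i => (hP i).2
  apply length_induction
  · intro M hM
    rw [isZero_T_of_subsingleton P p M hM]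
    haveI := hM
    rw [Module.length_eq_zero (R := A) (M := M), mul_zero]
  · intro M N hN hM ih
    have hSE := subSC_shortExact M N
    have hex := F_exact (CohIII.TFun P p) (TFun_halfExact P hfl p) _ hSE
    haveI := hSE.mono_f
    haveI := hSE.epi_g
    have hi : Function.Injective ((CohIII.TFun P p).map (ModuleCat.ofHom N.subtype)).hom :=
      (ModuleCat.mono_iff_injective _).mp (hm.preserves _)
    have hs : Function.Surjective ((CohIII.TFun P p).map (ModuleCat.ofHom N.mkQ)).hom :=
      (ModuleCat.epi_iff_surjective _).mp (he.preserves _)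
    have h1 := length_T_simple P p (ModuleCat.of A N) hN
    rw [length_step M N hN, mul_add, mul_one, Module.length_eq_add_of_exact _ _ hi hs hex, h1, ih]

/-- S2444 -/
lemma artin_length_main (hP : ∀ i, Module.Finite A (P.X i) ∧ Module.Flat A (P.X i)) (p : ℤ) :
    ((CohIII.TFun P p).PreservesMonomorphisms ∧ (CohIII.TFun P p).PreservesEpimorphisms) ↔
      Module.length A (CohIII.T P p (ModuleCat.of A A)) =
        Module.length A (CohIII.T P p (ModuleCat.of A (IsLocalRing.ResidueField A))) * Module.length A A := by
  have hfl : ∀ i, Module.Flat A (P.X i) := fun i => (hP i).2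
  have hA : Module.length A (ModuleCat.of A A) ≠ ⊤ := Module.length_ne_top
  constructor
  · rintro ⟨hm, he⟩
    exact length_T_eq P hP p hm he (ModuleCat.of A A) hA
  · intro h
    set d := Module.length A (CohIII.T P p (ModuleCat.of A (IsLocalRing.ResidueField A))) with hd
    have hdfin : d ≠ ⊤ := finite_length_T_residue P hP p
    -- the sequence 0 → m → A → k → 0
    have hSE := resSC_shortExact (A := A)
    have hex := F_exact (CohIII.TFun P p) (TFun_halfExact P hfl p) _ hSE
    have hm_fin : Module.length A (resSC A).X₁ ≠ ⊤ := by
      show Module.length A (IsLocalRing.maximalIdeal A) ≠ ⊤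
      exact Module.length_ne_top
    have hb := length_T_le P hP p (resSC A).X₁ hm_fin
    have hlenA : Module.length A A = Module.length A (resSC A).X₁ + 1 := by
      have := Module.length_eq_add_of_exact (resSC A).f.hom (resSC A).g.hom hSE.moduleCat_injective_f
        hSE.moduleCat_surjective_g
        ((ShortComplex.ShortExact.moduleCat_exact_iff_function_exact _).mp hSE.exact)
      rw [← length_residue (A := A)]
      exact this
    have hTm_fin : Module.length A ((CohIII.TFun P p).obj (resSC A).X₁) ≠ ⊤ := by
      refine ne_top_of_le_ne_top ?_ hb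
      exact WithTop.mul_ne_top hdfin hm_fin
    have heq : Module.length A ((CohIII.TFun P p).obj (resSC A).X₂) =
        Module.length A ((CohIII.TFun P p).obj (resSC A).X₁) +
          Module.length A ((CohIII.TFun P p).obj (resSC A).X₃) := by
      apply le_antisymm (length_mid_le _ _ hex)
      have h' : Module.length A ((CohIII.TFun P p).obj (resSC A).X₂) = d * Module.length A A := h
      rw [h', hlenA, mul_add, mul_one]
      exact add_le_add hb le_rfl
    obtain ⟨hi, hs⟩ := (length_mid_eq_iff _ _ hex hTm_fin hdfin).mp heq
    -- epi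
    have hs' : Function.Surjective ((CohIII.TFun P p).map (resMap A)).hom := hs
    have he : (CohIII.TFun P p).PreservesEpimorphisms := by
      have := preservesMono_of_surjective P hP p (p - 1) (by ring) hs'
      exact (preservesMono_iff_preservesEpi P hfl p (p - 1) (by ring)).mp this
    -- mono
    have hmono : Mono ((CohIII.TFun P p).map (resSC A).f) := (ModuleCat.mono_iff_injective _).mpr hi
    have hepi : Epi ((CohIII.TFun P (p + 1)).map (resSC A).g) :=
      (epi_iff_mono P hfl (resSC A) hSE (p + 1) p rfl).mpr hmono
    have hs2 : Function.Surjective ((CohIII.TFun P (p + 1)).map (resMap A)).hom :=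
      (ModuleCat.epi_iff_surjective _).mp hepi
    exact ⟨preservesMono_of_surjective P hP (p + 1) p rfl hs2, he⟩

end Artin

end

end Groth.Agent.Lib.helper2.TpLib
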