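import Mathlib
import Groth.Prelude.Def_ega3
import Groth.Agent.Lib.Helper2.DVRMod
import Groth.Agent.Lib.Helper2.TpResExt
import Groth.Agent.Lib.Helper2.TpGeneric
import Groth.Agent.Lib.Helper2.TpArtin

set_option autoImplicit false
universe u
open CategoryTheory CategoryTheory.Limits MonoidalCategory TensorProduct

namespace Groth.Agent.Lib.helper2.TpLib

noncomputable section

section Lin
variable {A : Type u} [CommRing A] (P : ChainComplex (ModuleCat.{u} A) ℤ)

lemma tensorMap_smul (r : A) {M N : ModuleCat.{u} A} (g : M ⟶ N) :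
    CohIII.tensorMap P (r • g) = r • CohIII.tensorMap P g := by
  ext i : 1
  show P.X i ◁ (r • g) = r • (P.X i ◁ g)
  exact MonoidalLinear.whiskerLeft_smul _ _ _

lemma homologyMap_smul' {K L : ChainComplex (ModuleCat.{u} A) ℤ} (r : A) (φ : K ⟶ L) (p : ℤ) :
    HomologicalComplex.homologyMap (r • φ) p = r • HomologicalComplex.homologyMap φ p := by
  have hc : HomologicalComplex.cyclesMap (r • φ) p = r • HomologicalComplex.cyclesMap φ p := by
    rw [← cancel_mono (L.iCycles p), HomologicalComplex.cyclesMap_i, Linear.smul_comp,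
      HomologicalComplex.cyclesMap_i]
    show K.iCycles p ≫ (r • φ.f p) = _
    rw [Linear.comp_smul]
  rw [← cancel_epi (K.homologyπ p), HomologicalComplex.homologyπ_naturality, hc,
    Linear.smul_comp, Linear.comp_smul, HomologicalComplex.homologyπ_naturality]

lemma TFun_map_smul (r : A) {M N : ModuleCat.{u} A} (g : M ⟶ N) (p : ℤ) :
    (CohIII.TFun P p).map (r • g) = r • (CohIII.TFun P p).map g := by
  show HomologicalComplex.homologyMap (CohIII.tensorMap P (r • g)) p =
    r • HomologicalComplex.homologyMap (CohIII.tensorMap P g) p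
  rw [tensorMap_smul, homologyMap_smul']

lemma TFun_map_pi (π : A) (p : ℤ) :
    ((CohIII.TFun P p).map (ModuleCat.ofHom (π • LinearMap.id : A →ₗ[A] A))).hom =
      (π • LinearMap.id : (CohIII.TFun P p).obj (ModuleCat.of A A) →ₗ[A] _) := by
  have h : ModuleCat.ofHom (π • LinearMap.id : A →ₗ[A] A) = π • 𝟙 (ModuleCat.of A A) := rfl
  rw [h, TFun_map_smul, CategoryTheory.Functor.map_id]
  rfl

end Lin

section Res
variable {A : Type u} [CommRing A]

lemma length_restrictScalars {R : Type u} [CommRing R] [Algebra A R]
    (hs : Function.Surjective (algebraMap A R)) (M : ModuleCat.{u} R) :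
    Module.length A ((ModuleCat.restrictScalars (algebraMap A R)).obj M) = Module.length R M := by
  letI : Module A M := Module.compHom M (algebraMap A R)
  haveI : IsScalarTower A R M := IsScalarTower.of_algebraMap_smul (fun r x => rfl)
  exact Module.length_eq_of_surjective (S := A) (R := R) (M := M) hs

lemma length_eq_finrank_of_ne_top (κ : Type u) [Field κ] (V : Type u) [AddCommGroup V] [Module κ V]
    (h : Module.length κ V ≠ ⊤) : Module.length κ V = (Module.finrank κ V : ℕ∞) := by
  rw [Module.length_ne_top_iff, isFiniteLength_iff_isNoetherian_isArtinian] at h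
  haveI := h.1
  exact Module.length_eq_finrank κ V

end Res

section Main
open Groth.Agent.Lib.helper2.DVRMod
variable {A : Type u} [CommRing A] [IsDomain A] [IsLocalRing A]
  (P : ChainComplex (ModuleCat.{u} A) ℤ)

local notation "k" => IsLocalRing.ResidueField A

/-- the short exact sequence `0 → A --π--> A → k → 0` -/
def piSC (π : A) (hπ : IsLocalRing.maximalIdeal A = Ideal.span {π}) :
    ShortComplex (ModuleCat.{u} A) :=
  ShortComplex.mk (ModuleCat.ofHom (π • LinearMap.id : A →ₗ[A] A))
    (ModuleCat.ofHom (Algebra.linearMap A k)) (by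
      apply ModuleCat.hom_ext
      apply LinearMap.ext_ring
      show algebraMap A k (π • (1 : A)) = 0
      rw [smul_eq_mul, mul_one]
      apply (Ideal.Quotient.eq_zero_iff_mem).mpr
      rw [hπ]
      exact Ideal.mem_span_singleton_self π)

lemma piSC_shortExact (π : A) (hπ : IsLocalRing.maximalIdeal A = Ideal.span {π}) (h0 : π ≠ 0) :
    (piSC π hπ).ShortExact := by
  apply ModuleCat.shortComplex_shortExact
  · intro (y : A)
    show algebraMap A k y = 0 ↔ y ∈ Set.range (π • LinearMap.id : A →ₗ[A] A)
    show Ideal.Quotient.mk (IsLocalRing.maximalIdeal A) y = 0 ↔ _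
    rw [Ideal.Quotient.eq_zero_iff_mem, hπ, Ideal.mem_span_singleton']
    constructor
    · rintro ⟨a, rfl⟩
      exact ⟨a, by simp [mul_comm]⟩
    · rintro ⟨a, rfl⟩
      exact ⟨a, by simp [mul_comm]⟩
  · have hx : ∀ x y : A, π * x = π * y → x = y := fun x y h => mul_left_cancel₀ h0 h
    exact fun x y hxy => hx x y hxy
  · exact Ideal.Quotient.mk_surjective (I := IsLocalRing.maximalIdeal A)

omit [IsDomain A] in
lemma range_pi_smul (π : A) (hπ : IsLocalRing.maximalIdeal A = Ideal.span {π})
    (X : Type u) [AddCommGroup X] [Module A X] :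
    LinearMap.range (π • LinearMap.id : X →ₗ[A] X) =
      (IsLocalRing.maximalIdeal A • ⊤ : Submodule A X) := by
  rw [hπ, Submodule.ideal_span_singleton_smul]
  ext x
  rw [Submodule.mem_smul_pointwise_iff_exists]
  constructor
  · rintro ⟨y, rfl⟩
    exact ⟨y, trivial, rfl⟩
  · rintro ⟨y, _, rfl⟩
    exact ⟨y, rfl⟩

/-- the key length identity from the long exact sequence -/
lemma length_T_residue (hP : ∀ i, Module.Flat A (P.X i))
    (π : A) (hπ : IsLocalRing.maximalIdeal A = Ideal.span {π}) (h0 : π ≠ 0) (p q : ℤ)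
    (hpq : q + 1 = p) :
    Module.length A ((CohIII.TFun P p).obj (ModuleCat.of A k)) =
      Module.length A (((CohIII.TFun P p).obj (ModuleCat.of A A)) ⧸
        (IsLocalRing.maximalIdeal A • ⊤ : Submodule A ((CohIII.TFun P p).obj (ModuleCat.of A A)))) +
      Module.length A (LinearMap.ker
        (π • LinearMap.id : (CohIII.TFun P q).obj (ModuleCat.of A A) →ₗ[A] _)) := by
  have hT := shortExact_tensor P hP (piSC π hπ) (piSC_shortExact π hπ h0)
  have hrel : (ComplexShape.down ℤ).Rel p q := hpq
  have e1 := (ShortComplex.ShortExact.moduleCat_exact_iff_function_exact _).mp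
    (hT.homology_exact₁ p q hrel)
  have e2 := (ShortComplex.ShortExact.moduleCat_exact_iff_function_exact _).mp
    (hT.homology_exact₂ p)
  have e3 := (ShortComplex.ShortExact.moduleCat_exact_iff_function_exact _).mp
    (hT.homology_exact₃ p q hrel)
  have hμp : (HomologicalComplex.homologyMap (tensorSC P (piSC π hπ)).f p).hom =
      (π • LinearMap.id : (CohIII.TFun P p).obj (ModuleCat.of A A) →ₗ[A] _) := TFun_map_pi P π p
  have hμq : (HomologicalComplex.homologyMap (tensorSC P (piSC π hπ)).f q).hom =
      (π • LinearMap.id : (CohIII.TFun P q).obj (ModuleCat.of A A) →ₗ[A] _) := TFun_map_pi P π q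
  have e2' : Function.Exact
      (π • LinearMap.id : (CohIII.TFun P p).obj (ModuleCat.of A A) →ₗ[A]
        (CohIII.TFun P p).obj (ModuleCat.of A A))
      (HomologicalComplex.homologyMap (tensorSC P (piSC π hπ)).g p).hom := by
    intro y
    have h := e2 y
    refine ⟨fun h0 => ?_, fun hr => h.mpr ?_⟩
    · obtain ⟨x, hx⟩ := h.mp h0
      exact ⟨x, (LinearMap.congr_fun hμp x).symm.trans hx⟩
    · obtain ⟨x, hx⟩ := hr
      exact ⟨x, (LinearMap.congr_fun hμp x).trans hx⟩
  have e1' : Function.Exact (hT.δ p q hrel).hom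
      (π • LinearMap.id : (CohIII.TFun P q).obj (ModuleCat.of A A) →ₗ[A]
        (CohIII.TFun P q).obj (ModuleCat.of A A)) := by
    intro y
    have h := e1 y
    exact ⟨fun h0 => h.mp ((LinearMap.congr_fun hμq y).trans h0),
      fun hr => (LinearMap.congr_fun hμq y).symm.trans (h.mpr hr)⟩
  have key := length_eq_of_exact3 _ _ _ _ e2' e3 e1'
  rw [← range_pi_smul π hπ]
  exact key

end Main

section DVRMain
open Groth.Agent.Lib.helper2.DVRMod
variable {A : Type u} [CommRing A] [IsDomain A] [IsDiscreteValuationRing A]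
  (P : ChainComplex (ModuleCat.{u} A) ℤ)

local notation "k" => IsLocalRing.ResidueField A
local notation "K" => FractionRing A

omit [IsDiscreteValuationRing A] in
lemma finrank_frac (p : ℤ) :
    Module.finrank K ((CohIII.bcCx (algebraMap A K) P).homology p) =
      Module.finrank K (K ⊗[A] P.homology p) :=
  (homologyBcCxFlatEquiv K P p).finrank_eq

lemma length_T_residue_eq_finrank (p : ℤ)
    (hne : Module.length A ((CohIII.TFun P p).obj (ModuleCat.of A k)) ≠ ⊤) :
    Module.length A ((CohIII.TFun P p).obj (ModuleCat.of A k)) =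
      (Module.finrank k ((CohIII.bcCx (algebraMap A k) P).homology p) : ℕ∞) := by
  have e := (resHomologyIso k P p).toLinearEquiv.length_eq
  have hs : Function.Surjective (algebraMap A k) :=
    Ideal.Quotient.mk_surjective (I := IsLocalRing.maximalIdeal A)
  have e' : Module.length A ((CohIII.TFun P p).obj (ModuleCat.of A k)) =
      Module.length k ((CohIII.bcCx (algebraMap A k) P).homology p) := by
    rw [← length_restrictScalars hs]
    exact e.symm
  rw [e'] at hne ⊢
  exact length_eq_finrank_of_ne_top k _ hne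

lemma dvr_key (hP : ∀ i, Module.Flat A (P.X i)) (hfin : ∀ i, Module.Finite A (P.homology i))
    (p q : ℤ) (hpq : q + 1 = p) :
    ∃ t : ℕ, Module.finrank k ((CohIII.bcCx (algebraMap A k) P).homology p) =
        Module.finrank k (k ⊗[A] P.homology p) + t ∧
      (t = 0 ↔ Module.Free A (P.homology q)) := by
  obtain ⟨π, hirr⟩ := IsDiscreteValuationRing.exists_irreducible A
  have hπ : IsLocalRing.maximalIdeal A = Ideal.span {π} :=
    (IsDiscreteValuationRing.irreducible_iff_uniformizer π).mp hirr
  have h0 : π ≠ 0 := hirr.ne_zero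
  haveI : ∀ i, Module.Finite A ((CohIII.TFun P i).obj (ModuleCat.of A A)) := fun i =>
    haveI := hfin i
    Module.Finite.equiv (TAEquiv P i).symm
  have L := length_T_residue P hP π hπ h0 p q hpq
  rw [length_quot_smul] at L
  have ha : Module.finrank k (k ⊗[A] ((CohIII.TFun P p).obj (ModuleCat.of A A))) =
      Module.finrank k (k ⊗[A] P.homology p) :=
    (LinearEquiv.baseChange A k _ _ (TAEquiv P p)).finrank_eq
  rw [ha] at L
  -- the kernel has finite length
  have hker : Module.length A (LinearMap.ker
      (π • LinearMap.id : (CohIII.TFun P q).obj (ModuleCat.of A A) →ₗ[A] _)) ≠ ⊤ := by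
    apply length_ne_top_of_smul_eq_bot
    rw [hπ, Submodule.ideal_span_singleton_smul, eq_bot_iff]
    intro x hx
    rw [Submodule.mem_smul_pointwise_iff_exists] at hx
    obtain ⟨y, _, rfl⟩ := hx
    rw [Submodule.mem_bot]
    apply Subtype.ext
    exact y.2
  obtain ⟨t, ht⟩ := ENat.ne_top_iff_exists.mp hker
  rw [← ht] at L
  have hne : Module.length A ((CohIII.TFun P p).obj (ModuleCat.of A k)) ≠ ⊤ := by
    rw [L]
    exact ENat.natCast_ne_top _
  rw [length_T_residue_eq_finrank P p hne] at L
  refine ⟨t, by exact_mod_cast L, ?_⟩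
  have hfree : Module.Free A (P.homology q) ↔
      Module.Free A ((CohIII.TFun P q).obj (ModuleCat.of A A)) :=
    ⟨fun h => Module.Free.of_equiv (TAEquiv P q).symm, fun h => Module.Free.of_equiv (TAEquiv P q)⟩
  rw [hfree, free_iff_injective_smul π hirr, ← LinearMap.ker_eq_bot]
  constructor
  · intro h
    rw [h, Nat.cast_zero] at ht
    have := Module.length_eq_zero_iff.mp ht.symm
    exact Submodule.eq_bot_of_subsingleton
  · intro h
    rw [h] at ht
    have h2 : Module.length A (⊥ : Submodule A ((CohIII.TFun P q).obj (ModuleCat.of A A))) = 0 :=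
      Module.length_eq_zero
    rw [h2] at ht
    exact_mod_cast ht

/-- S4509 -/
lemma dvr_ineq (hP : ∀ i, Module.Flat A (P.X i)) (hfin : ∀ i, Module.Finite A (P.homology i))
    (p : ℤ) :
    Module.finrank K ((CohIII.bcCx (algebraMap A K) P).homology p) ≤
        Module.finrank k (TensorProduct A k (P.homology p)) ∧
      Module.finrank k (TensorProduct A k (P.homology p)) ≤
        Module.finrank k ((CohIII.bcCx (algebraMap A k) P).homology p) := by
  haveI := hfin p
  obtain ⟨t, ht, -⟩ := dvr_key P hP hfin p (p - 1) (by ring)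
  refine ⟨?_, by omega⟩
  rw [finrank_frac]
  exact frac_le_residue _

/-- S2379 -/
lemma dvr_main (hP : ∀ i, Module.Flat A (P.X i)) (hfin : ∀ i, Module.Finite A (P.homology i))
    (p q : ℤ) (hpq : q + 1 = p) :
    Module.finrank K ((CohIII.bcCx (algebraMap A K) P).homology p) ≤
        Module.finrank k ((CohIII.bcCx (algebraMap A k) P).homology p) ∧
      (Module.finrank K ((CohIII.bcCx (algebraMap A K) P).homology p) =
          Module.finrank k ((CohIII.bcCx (algebraMap A k) P).homology p) ↔
        Module.Free A (P.homology p) ∧ Module.Free A (P.homology q)) := by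
  haveI := hfin p
  obtain ⟨t, ht, hfree⟩ := dvr_key P hP hfin p q hpq
  have hle := frac_le_residue (A := A) (P.homology p)
  have heq := frac_eq_residue_iff (A := A) (P.homology p)
  rw [finrank_frac, ht, ← hfree, ← heq]
  constructor
  · omega
  · constructor
    · intro h; omega
    · rintro ⟨h1, h2⟩; omega

end DVRMain

end

end Groth.Agent.Lib.helper2.TpLib
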