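import Mathlib
set_option autoImplicit false
universe u
open TensorProduct IsLocalRing Function

namespace Groth.Agent.Lib.helper2.NilLocal

section
variable {R : Type u} [CommRing R] [IsLocalRing R] {M : Type u} [AddCommGroup M] [Module R M]

local notation "k" => ResidueField R
local notation "𝔪" => maximalIdeal R

lemma nak_top (hnil : IsNilpotent (maximalIdeal R)) (N : Submodule R M)
    (h : N ⊔ 𝔪 • (⊤ : Submodule R M) = ⊤) : N = ⊤ := by
  obtain ⟨n, hn⟩ := hnil
  have key : ∀ j : ℕ, N ⊔ (𝔪 ^ j) • (⊤ : Submodule R M) = ⊤ := by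
    intro j
    induction j with
    | zero => simp
    | succ j ih =>
      rw [eq_top_iff]
      calc (⊤ : Submodule R M) = N ⊔ (𝔪 ^ j) • (⊤ : Submodule R M) := ih.symm
        _ = N ⊔ (𝔪 ^ j) • (N ⊔ 𝔪 • (⊤ : Submodule R M)) := by rw [h]
        _ = N ⊔ ((𝔪 ^ j) • N ⊔ (𝔪 ^ j) • (𝔪 • (⊤ : Submodule R M))) := by rw [Submodule.smul_sup]
        _ ≤ N ⊔ (𝔪 ^ (j + 1)) • (⊤ : Submodule R M) := by
          rw [← Submodule.mul_smul, ← pow_succ]
          refine sup_le le_sup_left (sup_le ?_ le_sup_right)
          exact le_sup_of_le_left Submodule.smul_le_right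
  have := key n
  rw [hn] at this
  simpa using this

lemma subsingleton_of_smul_top (hnil : IsNilpotent (maximalIdeal R))
    (h : 𝔪 • (⊤ : Submodule R M) = ⊤) : Subsingleton M := by
  have := nak_top hnil (⊥ : Submodule R M) (by rw [bot_sup_eq, h])
  exact (Submodule.subsingleton_iff R).mp (subsingleton_of_bot_eq_top this)

lemma map_mk_eq_top (hnil : IsNilpotent (maximalIdeal R)) {N : Submodule R M}
    (hN : N.map (TensorProduct.mk R k M 1) = ⊤) : N = ⊤ := by
  let : Module k (M ⧸ (𝔪 • ⊤ : Submodule R M)) :=
    inferInstanceAs (Module (R ⧸ 𝔪) (M ⧸ 𝔪 • (⊤ : Submodule R M)))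
  let : IsScalarTower R k (M ⧸ (𝔪 • ⊤ : Submodule R M)) :=
    inferInstanceAs (IsScalarTower R (R ⧸ 𝔪) (M ⧸ 𝔪 • (⊤ : Submodule R M)))
  let f := AlgebraTensorModule.lift (((LinearMap.ringLmapEquivSelf k k _).symm
    (Submodule.mkQ (𝔪 • ⊤ : Submodule R M))).restrictScalars R)
  have : f.comp (TensorProduct.mk R k M 1) = Submodule.mkQ (𝔪 • ⊤) := by ext; simp [f]
  have hf : Function.Surjective f := by
    intro x; obtain ⟨x, rfl⟩ := Submodule.mkQ_surjective _ x
    rw [← this, LinearMap.comp_apply]; exact ⟨_, rfl⟩
  apply_fun Submodule.map f at hN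
  rw [← Submodule.map_comp, this, Submodule.map_top, LinearMap.range_eq_top.2 hf] at hN
  apply nak_top hnil
  have h2 := congrArg (Submodule.comap (Submodule.mkQ (𝔪 • (⊤ : Submodule R M)))) hN
  rw [Submodule.comap_map_mkQ, Submodule.comap_top, sup_comm] at h2
  exact h2

lemma subsingleton_of_tensor (hnil : IsNilpotent (maximalIdeal R))
    (h : Subsingleton (k ⊗[R] M)) : Subsingleton M := by
  have h1 : (⊥ : Submodule R M).map (TensorProduct.mk R k M 1) = ⊤ := by
    rw [Submodule.map_bot]
    exact Subsingleton.elim _ _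
  have := map_mk_eq_top hnil h1
  exact (Submodule.subsingleton_iff R).mp (subsingleton_of_bot_eq_top this)

theorem span_eq_top_of_tmul_eq_basis (hnil : IsNilpotent (maximalIdeal R)) {ι : Type*}
    (f : ι → M) (b : Module.Basis ι k (k ⊗[R] M))
    (hb : ∀ i, 1 ⊗ₜ f i = b i) : Submodule.span R (Set.range f) = ⊤ := by
  apply map_mk_eq_top hnil
  rw [Submodule.map_span, ← Submodule.restrictScalars_span R k
    Ideal.Quotient.mk_surjective, Submodule.restrictScalars_eq_top_iff,
    ← b.span_eq, ← Set.range_comp]
  simp only [Function.comp_def, mk_apply, hb, Module.Basis.span_eq]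


set_option backward.isDefEq.respectTransparency false in
/-- over a local ring with nilpotent maximal ideal, `𝔪 ⊗ M → M` injective implies `M` free
(no finiteness hypothesis). -/
theorem free_of_nilpotent (hnil : IsNilpotent (maximalIdeal R))
    (H : Function.Injective ((𝔪).subtype.rTensor M)) : Module.Free R M := by
  let ι := Module.Free.ChooseBasisIndex k (k ⊗[R] M)
  let bk : Module.Basis ι k (k ⊗[R] M) := Module.Free.chooseBasis k (k ⊗[R] M)
  have hsurj : Function.Surjective (TensorProduct.mk R k M 1) :=
    TensorProduct.mk_surjective R M k Ideal.Quotient.mk_surjective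
  choose v hv using fun j : ι => hsurj (bk j)
  let i := Finsupp.linearCombination R v
  have hi : Surjective i := by
    rw [← LinearMap.range_eq_top, Finsupp.range_linearCombination]
    exact span_eq_top_of_tmul_eq_basis hnil v bk (fun j => hv j)
  -- `k ⊗ i` is bijective
  have hi' : Function.Injective (i.baseChange k) := by
    have : i.baseChange k =
        (((Finsupp.basisSingleOne (R := R) (ι := ι)).baseChange k).equiv bk (Equiv.refl ι)).toLinearMap := by
      apply ((Finsupp.basisSingleOne (R := R) (ι := ι)).baseChange k).ext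
      intro j
      rw [LinearEquiv.coe_coe, Module.Basis.equiv_apply, Module.Basis.baseChange_apply,
        LinearMap.baseChange_tmul, Equiv.refl_apply, ← hv j]
      simp [i]
    rw [this]
    exact LinearEquiv.injective _
  have hker : Subsingleton (LinearMap.ker i) := by
    apply subsingleton_of_tensor hnil
    rw [subsingleton_iff_forall_eq 0]
    intro x
    refine lTensor_injective_of_exact_of_exact_of_rTensor_injective
      (N₁ := LinearMap.ker i) (N₂ := ι →₀ R) (N₃ := M)
      (f₁ := (𝔪).subtype) (f₂ := Submodule.mkQ 𝔪)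
      (g₁ := (LinearMap.ker i).subtype) (g₂ := i) (LinearMap.exact_subtype_mkQ 𝔪)
      (Submodule.mkQ_surjective _) (LinearMap.exact_subtype_ker_map i) hi H ?_ ?_
    · apply Module.Flat.lTensor_preserves_injective_linearMap
      exact Subtype.val_injective
    · apply hi'
      rw [LinearMap.baseChange_eq_ltensor]
      erw [← LinearMap.comp_apply (i.lTensor k), ← LinearMap.lTensor_comp]
      rw [(LinearMap.exact_subtype_ker_map i).linearMap_comp_eq_zero]
      simp only [LinearMap.lTensor_zero, LinearMap.zero_apply, map_zero]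
  have hinj : Function.Injective i := by
    rw [← LinearMap.ker_eq_bot]
    exact (Submodule.subsingleton_iff_eq_bot).mp hker
  exact Module.Free.of_equiv (LinearEquiv.ofBijective i ⟨hinj, hi⟩)

end

end Groth.Agent.Lib.helper2.NilLocal
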