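import Mathlib
import Groth.Prelude.Def_ega3
import Groth.Agent.Lib.Helper2.TpArtin
import Groth.Agent.Lib.Helper2.TpHom
import Groth.Agent.Lib.Helper2.NilLocal

set_option autoImplicit false
universe u
open CategoryTheory CategoryTheory.Limits MonoidalCategory TensorProduct

namespace Groth.Agent.Lib.helper2.TpLib

noncomputable section

section ArtinFlat
open Groth.Agent.Lib.helper2.HalfExact Groth.Agent.Lib.helper2.NilLocal
variable {A : Type u} [CommRing A] [IsArtinianRing A] [IsLocalRing A]
  (P : ChainComplex (ModuleCat.{u} A) ℤ)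

lemma artin_nil : IsNilpotent (IsLocalRing.maximalIdeal A) := by
  have := IsArtinianRing.isNilpotent_jacobson_bot (R := A)
  rwa [IsLocalRing.jacobson_eq_maximalIdeal (⊥ : Ideal A) bot_ne_top] at this

/-- flat ⇒ free over an Artinian local ring (no finiteness) -/
lemma free_of_flat_artin (M : Type u) [AddCommGroup M] [Module A M] [Module.Flat A M] :
    Module.Free A M :=
  free_of_nilpotent artin_nil
    (Module.Flat.rTensor_preserves_injective_linearMap _ Subtype.val_injective)

lemma free_W_of_surjective' (hP : ∀ i, Module.Flat A (P.X i)) (i j : ℤ)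
    (hij : j + 1 = i)
    (h : Function.Surjective ((CohIII.TFun P i).map (resMap A)).hom) : Module.Free A (W P j) := by
  have h1 : Epi ((CohIII.TFun P i).map (resSC A).g) := (ModuleCat.epi_iff_surjective _).mpr h
  have h2 : Mono ((CohIII.TFun P j).map (resSC A).f) :=
    (epi_iff_mono P hP (resSC A) resSC_shortExact i j hij).mp h1
  haveI : Mono (resSC A).f := resSC_shortExact.mono_f
  have h3 := (mono_TFun_map_iff P hP (resSC A).f j).mp h2
  apply free_of_nilpotent artin_nil
  rw [← LinearMap.lTensor_inj_iff_rTensor_inj]
  exact h3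

lemma preservesMono_of_surjective' (hP : ∀ i, Module.Flat A (P.X i))
    (i j : ℤ) (hij : j + 1 = i)
    (h : Function.Surjective ((CohIII.TFun P i).map (resMap A)).hom) :
    (CohIII.TFun P j).PreservesMonomorphisms := by
  haveI := free_W_of_surjective' P hP i j hij h
  exact (preservesMono_iff_flat_W P hP j).mpr inferInstance

/-- S4502 -/
lemma artin_epi_iff (hP : ∀ i, Module.Flat A (P.X i)) (p : ℤ) :
    (CohIII.TFun P p).PreservesEpimorphisms ↔
      Function.Surjective ((CohIII.TFun P p).map (resMap A)).hom := by
  refine ⟨surjective_of_preservesEpi P p, fun h => ?_⟩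
  have := preservesMono_of_surjective' P hP p (p - 1) (by ring) h
  exact (preservesMono_iff_preservesEpi P hP p (p - 1) (by ring)).mp this

/-- S4497 part 1 -/
lemma artin_exact_iff (hP : ∀ i, Module.Flat A (P.X i)) (p q : ℤ) (hpq : p + 1 = q) :
    ((CohIII.TFun P p).PreservesMonomorphisms ∧ (CohIII.TFun P p).PreservesEpimorphisms) ↔
      (Function.Surjective ((CohIII.TFun P p).map (resMap A)).hom ∧
        Function.Surjective ((CohIII.TFun P q).map (resMap A)).hom) := by
  constructor
  · rintro ⟨hm, he⟩
    exact ⟨surjective_of_preservesEpi P p he,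
      surjective_of_preservesEpi P q ((preservesMono_iff_preservesEpi P hP q p hpq).mp hm)⟩
  · rintro ⟨hp, hq⟩
    exact ⟨preservesMono_of_surjective' P hP q p hpq hq, (artin_epi_iff P hP p).mpr hp⟩

omit [IsArtinianRing A] in
/-- `ℓ(T_p M) ≤ d ℓ(M)` -/
lemma length_T_le' (hfl : ∀ i, Module.Flat A (P.X i)) (p : ℤ) :
    ∀ M : ModuleCat.{u} A, Module.length A M ≠ ⊤ →
      Module.length A ((CohIII.TFun P p).obj M) ≤
        Module.length A ((CohIII.TFun P p).obj (ModuleCat.of A (IsLocalRing.ResidueField A))) *
          Module.length A M := by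
  apply length_induction
  · intro M hM
    rw [isZero_T_of_subsingleton P p M hM]
    exact bot_le
  · intro M N hN hM ih
    have hex := F_exact (CohIII.TFun P p) (TFun_halfExact P hfl p) _ (subSC_shortExact M N)
    have hle := length_mid_le _ _ hex
    have h1 := length_T_simple P p (ModuleCat.of A N) hN
    rw [length_step M N hN, mul_add, mul_one]
    refine hle.trans ?_
    exact add_le_add (le_of_eq h1) ih

omit [IsArtinianRing A] in
/-- if `T_p` is exact then `ℓ(T_p M) = d ℓ(M)` -/
lemma length_T_eq' (hfl : ∀ i, Module.Flat A (P.X i)) (p : ℤ)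
    (hm : (CohIII.TFun P p).PreservesMonomorphisms) (he : (CohIII.TFun P p).PreservesEpimorphisms) :
    ∀ M : ModuleCat.{u} A, Module.length A M ≠ ⊤ →
      Module.length A ((CohIII.TFun P p).obj M) =
        Module.length A ((CohIII.TFun P p).obj (ModuleCat.of A (IsLocalRing.ResidueField A))) *
          Module.length A M := by
  apply length_induction
  · intro M hM
    rw [isZero_T_of_subsingleton P p M hM]
    haveI := hM
    rw [Module.length_eq_zero (R := A) (M := M), mul_zero]
  · intro M N hN hM ih
    have hSE := subSC_shortExact M N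
    have hex := F_exact (CohIII.TFun P p) (TFun_halfExact P hfl p) _ hSE
    haveI := hSE.mono_f
    haveI := hSE.epi_g
    have hi : Function.Injective ((CohIII.TFun P p).map (ModuleCat.ofHom N.subtype)).hom :=
      (ModuleCat.mono_iff_injective _).mp (hm.preserves _)
    have hs : Function.Surjective ((CohIII.TFun P p).map (ModuleCat.ofHom N.mkQ)).hom :=
      (ModuleCat.epi_iff_surjective _).mp (he.preserves _)
    have h1 := length_T_simple P p (ModuleCat.of A N) hN
    rw [length_step M N hN, mul_add, mul_one, Module.length_eq_add_of_exact _ _ hi hs hex, h1, ih]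

/-- key: the length equality for `A` forces exactness -/
lemma exact_of_length_eq (hfl : ∀ i, Module.Flat A (P.X i)) (p : ℤ)
    (hdfin : Module.length A (CohIII.T P p (ModuleCat.of A (IsLocalRing.ResidueField A))) ≠ ⊤)
    (h : Module.length A (CohIII.T P p (ModuleCat.of A A)) =
      Module.length A (CohIII.T P p (ModuleCat.of A (IsLocalRing.ResidueField A))) * Module.length A A) :
    Function.Surjective ((CohIII.TFun P p).map (resMap A)).hom ∧
      ((CohIII.TFun P p).PreservesMonomorphisms ∧ (CohIII.TFun P p).PreservesEpimorphisms) := by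
  set d := Module.length A (CohIII.T P p (ModuleCat.of A (IsLocalRing.ResidueField A))) with hd
  have hSE := resSC_shortExact (A := A)
  have hex := F_exact (CohIII.TFun P p) (TFun_halfExact P hfl p) _ hSE
  have hm_fin : Module.length A (resSC A).X₁ ≠ ⊤ := by
    show Module.length A (IsLocalRing.maximalIdeal A) ≠ ⊤
    exact Module.length_ne_top
  have hb := length_T_le' P hfl p (resSC A).X₁ hm_fin
  have hlenA : Module.length A A = Module.length A (resSC A).X₁ + 1 := by
    have := Module.length_eq_add_of_exact (resSC A).f.hom (resSC A).g.hom hSE.moduleCat_injective_f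
      hSE.moduleCat_surjective_g
      ((ShortComplex.ShortExact.moduleCat_exact_iff_function_exact _).mp hSE.exact)
    rw [← length_residue (A := A)]
    exact this
  have hTm_fin : Module.length A ((CohIII.TFun P p).obj (resSC A).X₁) ≠ ⊤ := by
    refine ne_top_of_le_ne_top ?_ hb
    exact WithTop.mul_ne_top hdfin hm_fin
  have heq : Module.length A ((CohIII.TFun P p).obj (resSC A).X₂) =
      Module.length A ((CohIII.TFun P p).obj (resSC A).X₁) +
        Module.length A ((CohIII.TFun P p).obj (resSC A).X₃) := by
    apply le_antisymm (length_mid_le _ _ hex)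
    have h' : Module.length A ((CohIII.TFun P p).obj (resSC A).X₂) = d * Module.length A A := h
    rw [h', hlenA, mul_add, mul_one]
    exact add_le_add hb le_rfl
  obtain ⟨hi, hs⟩ := (length_mid_eq_iff _ _ hex hTm_fin hdfin).mp heq
  have hs' : Function.Surjective ((CohIII.TFun P p).map (resMap A)).hom := hs
  have he : (CohIII.TFun P p).PreservesEpimorphisms := (artin_epi_iff P hfl p).mpr hs'
  have hmono : Mono ((CohIII.TFun P p).map (resSC A).f) := (ModuleCat.mono_iff_injective _).mpr hi
  have hepi : Epi ((CohIII.TFun P (p + 1)).map (resSC A).g) :=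
    (epi_iff_mono P hfl (resSC A) hSE (p + 1) p rfl).mpr hmono
  have hs2 : Function.Surjective ((CohIII.TFun P (p + 1)).map (resMap A)).hom :=
    (ModuleCat.epi_iff_surjective _).mp hepi
  exact ⟨hs', preservesMono_of_surjective' P hfl (p + 1) p rfl hs2, he⟩

/-- S4497 -/
lemma artin_flat_main (hP : ∀ i, Module.Flat A (P.X i)) (p q : ℤ) (hpq : p + 1 = q) :
    (((CohIII.TFun P p).PreservesMonomorphisms ∧ (CohIII.TFun P p).PreservesEpimorphisms) ↔
      (Function.Surjective ((CohIII.TFun P p).map (resMap A)).hom ∧
        Function.Surjective ((CohIII.TFun P q).map (resMap A)).hom)) ∧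
    (Module.length A (CohIII.T P p (ModuleCat.of A (IsLocalRing.ResidueField A))) ≠ ⊤ →
      (((CohIII.TFun P p).PreservesMonomorphisms ∧ (CohIII.TFun P p).PreservesEpimorphisms) ↔
        ∀ M : ModuleCat.{u} A, Module.length A M ≠ ⊤ →
          Module.length A (CohIII.T P p M) =
            Module.length A (CohIII.T P p (ModuleCat.of A (IsLocalRing.ResidueField A))) * Module.length A M)) := by
  refine ⟨artin_exact_iff P hP p q hpq, fun hd => ⟨fun ⟨hm, he⟩ => length_T_eq' P hP p hm he, fun h => ?_⟩⟩
  exact (exact_of_length_eq P hP p hd (h (ModuleCat.of A A) Module.length_ne_top)).2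

/-- S12119 -/
lemma artin_flat_TA (hP : ∀ i, Module.Flat A (P.X i)) (p : ℤ)
    (hd : Module.length A (CohIII.T P p (ModuleCat.of A (IsLocalRing.ResidueField A))) ≠ ⊤)
    (hj : Module.length A (CohIII.T P p (ModuleCat.of A A)) =
      Module.length A (CohIII.T P p (ModuleCat.of A (IsLocalRing.ResidueField A))) * Module.length A A) :
    Function.Surjective ((CohIII.TFun P p).map (resMap A)).hom ∧
      Module.Flat A (CohIII.T P p (ModuleCat.of A A)) := by
  obtain ⟨hs, hm, he⟩ := exact_of_length_eq P hP p hd hj
  refine ⟨hs, ?_⟩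
  have hm' : (CohIII.TFun P ((ComplexShape.down ℤ).next p)).PreservesMonomorphisms :=
    (preservesMono_iff_preservesEpi P hP p _ (by simp)).mpr he
  haveI := hP ((ComplexShape.down ℤ).next p)
  haveI : Module.Flat A (W P ((ComplexShape.down ℤ).next p)) :=
    (preservesMono_iff_flat_W P hP _).mp hm'
  haveI : Module.Flat A (W P p) := (preservesMono_iff_flat_W P hP _).mp hm
  haveI : Module.Free A (P.X ((ComplexShape.down ℤ).next p)) := free_of_flat_artin _
  haveI : Module.Free A (W P ((ComplexShape.down ℤ).next p)) := free_of_flat_artin _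
  haveI : Module.Free A (W P p) := free_of_flat_artin _
  haveI : Module.Projective A
      (P.X ((ComplexShape.down ℤ).next p) ⧸ LinearMap.range (fromW P p)) :=
    Module.Projective.of_equiv' (cokerFromWEquiv P p).symm
  haveI := projective_range_of_projective_quot (fromW P p)
  haveI : Module.Projective A (LinearMap.ker (fromW P p)) :=
    (projective_iff_projective_ker (fromW P p)).mp inferInstance
  exact Module.Flat.of_linearEquiv ((TAEquiv P p).trans (homologyEquivKer P p))

end ArtinFlat

end

end Groth.Agent.Lib.helper2.TpLib
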