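import Mathlib.Algebra.Algebra.Subalgebra.Lattice
import Mathlib.Data.Fin.Basic
import Mathlib.Data.Finset.Basic

/-!
# Chains of elementary extensions indexed by lists (helper2)

`GoodFrom Step S l`: each entry `b` of `l` satisfies `Step (A[S, earlier entries]) b`.
-/

set_option autoImplicit false
universe u

namespace Groth.Agent.Lib.helper2.ChainList

variable {A B : Type u} [CommRing A] [CommRing B] [Algebra A B]

/-- the earlier entries of a list. -/
def prev (l : List B) (i : Fin l.length) : Set B := {b | ∃ j : Fin l.length, j < i ∧ b = l.get j}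

variable (Step : Subalgebra A B → B → Prop)

def GoodFrom (S : Set B) : List B → Prop
  | [] => True
  | b :: l => Step (Algebra.adjoin A S) b ∧ GoodFrom (insert b S) l

theorem prev_cons_zero (b : B) (l : List B) :
    prev (b :: l) (0 : Fin (l.length + 1)) = ∅ := by
  ext x
  simp only [prev, Set.mem_ofPred_eq, Set.mem_empty_iff_false, iff_false]
  rintro ⟨j, hj, -⟩
  exact absurd hj (Fin.not_lt_zero j)

theorem prev_cons_succ (b : B) (l : List B) (i : Fin l.length) :
    prev (b :: l) (i.succ : Fin (l.length + 1)) = insert b (prev l i) := by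
  ext x
  simp only [prev, Set.mem_ofPred_eq, Set.mem_insert_iff]
  constructor
  · rintro ⟨j, hj, hx⟩
    induction j using Fin.cases with
    | zero => left; exact hx
    | succ j' =>
      right
      exact ⟨j', Fin.succ_lt_succ_iff.1 hj, hx⟩
  · rintro (hx | ⟨j', hj', hx⟩)
    · exact ⟨0, Fin.succ_pos i, hx⟩
    · exact ⟨j'.succ, Fin.succ_lt_succ_iff.2 hj', hx⟩

theorem goodFrom_iff (S : Set B) (l : List B) :
    GoodFrom Step S l ↔
      ∀ i : Fin l.length, Step (Algebra.adjoin A (S ∪ prev l i)) (l.get i) := by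
  induction l generalizing S with
  | nil =>
    simp only [GoodFrom, true_iff]
    intro i
    exact i.elim0
  | cons b l ih =>
    simp only [GoodFrom]
    rw [ih]
    constructor
    · rintro ⟨h0, hs⟩ i
      induction i using Fin.cases with
      | zero =>
        rw [prev_cons_zero, Set.union_empty]
        exact h0
      | succ i' =>
        rw [prev_cons_succ]
        have : S ∪ insert b (prev l i') = insert b S ∪ prev l i' := by
          ext x; simp only [Set.mem_union, Set.mem_insert_iff]; tauto
        rw [this]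
        exact hs i'
    · intro h
      refine ⟨?_, fun i' => ?_⟩
      · have := h (0 : Fin (l.length + 1))
        rw [prev_cons_zero, Set.union_empty] at this
        exact this
      · have := h i'.succ
        rw [prev_cons_succ] at this
        have h2 : S ∪ insert b (prev l i') = insert b S ∪ prev l i' := by
          ext x; simp only [Set.mem_union, Set.mem_insert_iff]; tauto
        rw [h2] at this
        exact this

variable (hmono : ∀ (S S' : Subalgebra A B) (b : B), S ≤ S' → Step S b → Step S' b)

include hmono in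
theorem goodFrom_mono {S S' : Set B} (hSS' : S ⊆ S') (l : List B) :
    GoodFrom Step S l → GoodFrom Step S' l := by
  induction l generalizing S S' with
  | nil => intro _; trivial
  | cons b l ih =>
    rintro ⟨h0, hs⟩
    exact ⟨hmono _ _ b (Algebra.adjoin_mono hSS') h0, ih (Set.insert_subset_insert hSS') hs⟩

theorem goodFrom_append (S : Set B) (l₁ l₂ : List B) :
    GoodFrom Step S (l₁ ++ l₂) ↔
      GoodFrom Step S l₁ ∧ GoodFrom Step (S ∪ {b | b ∈ l₁}) l₂ := by
  induction l₁ generalizing S with
  | nil =>
    simp only [List.nil_append, GoodFrom, true_and, List.not_mem_nil, Set.ofPred_false,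
      Set.union_empty]
  | cons b l₁ ih =>
    simp only [List.cons_append, GoodFrom]
    rw [ih]
    have : insert b S ∪ {x | x ∈ l₁} = S ∪ {x | x ∈ b :: l₁} := by
      ext x
      simp only [Set.mem_union, Set.mem_insert_iff, Set.mem_ofPred_eq, List.mem_cons]
      tauto
    rw [this, and_assoc]

include hmono in
theorem good_append {l₁ l₂ : List B} (h₁ : GoodFrom Step ∅ l₁) (h₂ : GoodFrom Step ∅ l₂) :
    GoodFrom Step ∅ (l₁ ++ l₂) :=
  (goodFrom_append Step ∅ l₁ l₂).2 ⟨h₁, goodFrom_mono Step hmono (Set.empty_subset _) l₂ h₂⟩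

theorem good_snoc {l : List B} (h : GoodFrom Step ∅ l) (b : B)
    (hb : Step (Algebra.adjoin A {x | x ∈ l}) b) : GoodFrom Step ∅ (l ++ [b]) := by
  refine (goodFrom_append Step ∅ l [b]).2 ⟨h, ?_, trivial⟩
  rw [Set.empty_union]
  exact hb

/-- induction principle -/
theorem adjoin_le_of_goodFrom (T : Subalgebra A B)
    (hT : ∀ (S' : Subalgebra A B) (b : B), S' ≤ T → Step S' b → b ∈ T)
    (S : Set B) (l : List B) (hS : Algebra.adjoin A S ≤ T) (h : GoodFrom Step S l) :
    Algebra.adjoin A (S ∪ {b | b ∈ l}) ≤ T := by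
  induction l generalizing S with
  | nil =>
    simp only [List.not_mem_nil, Set.ofPred_false, Set.union_empty]
    exact hS
  | cons b l ih =>
    obtain ⟨h0, hs⟩ := h
    have hb : b ∈ T := hT _ b hS h0
    have hS' : Algebra.adjoin A (insert b S) ≤ T := by
      rw [Algebra.adjoin_le_iff]
      intro x hx
      rcases hx with rfl | hx
      · exact hb
      · exact hS (Algebra.subset_adjoin hx)
    have := ih (insert b S) hS' hs
    have h2 : insert b S ∪ {x | x ∈ l} = S ∪ {x | x ∈ b :: l} := by
      ext x
      simp only [Set.mem_union, Set.mem_insert_iff, Set.mem_ofPred_eq, List.mem_cons]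
      tauto
    rw [h2] at this
    exact this

section exhaust

variable
  (hfin : ∀ (C : Subalgebra A B) (b : B), Step C b →
    ∃ F : Finset B, (↑F : Set B) ⊆ C ∧ ∀ S : Subalgebra A B, (↑F : Set B) ⊆ S → Step S b)
  (hcore : ∀ C : Subalgebra A B, C ≠ ⊤ → ∃ b, b ∉ C ∧ Step C b)

/-- the union of all good finitely generated subalgebras. -/
def goodUnion : Set B := {b | ∃ l : List B, GoodFrom Step ∅ l ∧ b ∈ Algebra.adjoin A {x | x ∈ l}}

include hmono in
theorem exists_list_of_finset (F : Finset B) (hF : (↑F : Set B) ⊆ goodUnion Step) :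
    ∃ l : List B, GoodFrom Step ∅ l ∧ (↑F : Set B) ⊆ Algebra.adjoin A {x | x ∈ l} := by
  classical
  induction F using Finset.induction_on with
  | empty => exact ⟨[], trivial, by simp⟩
  | insert e F _ ih =>
    have hF' : (↑F : Set B) ⊆ goodUnion Step := fun x hx => hF (by simp [hx])
    obtain ⟨l₁, hl₁, hFl₁⟩ := ih hF'
    obtain ⟨l₂, hl₂, hel₂⟩ := hF (by simp : e ∈ (↑(insert e F) : Set B))
    refine ⟨l₁ ++ l₂, good_append Step hmono hl₁ hl₂, ?_⟩
    intro x hx
    rw [Finset.coe_insert] at hx
    rcases hx with rfl | hx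
    · refine Algebra.adjoin_mono ?_ hel₂
      intro y hy
      exact List.mem_append_right l₁ hy
    · refine Algebra.adjoin_mono ?_ (hFl₁ hx)
      intro y hy
      exact List.mem_append_left l₂ hy

include hmono in
/-- `goodUnion` as a subalgebra. -/
def goodSub : Subalgebra A B where
  carrier := goodUnion Step
  mul_mem' := by
    rintro a b ⟨l₁, hl₁, ha⟩ ⟨l₂, hl₂, hb⟩
    refine ⟨l₁ ++ l₂, good_append Step hmono hl₁ hl₂, ?_⟩
    refine Subalgebra.mul_mem _ (Algebra.adjoin_mono ?_ ha) (Algebra.adjoin_mono ?_ hb)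
    · intro y hy; exact List.mem_append_left l₂ hy
    · intro y hy; exact List.mem_append_right l₁ hy
  add_mem' := by
    rintro a b ⟨l₁, hl₁, ha⟩ ⟨l₂, hl₂, hb⟩
    refine ⟨l₁ ++ l₂, good_append Step hmono hl₁ hl₂, ?_⟩
    refine Subalgebra.add_mem _ (Algebra.adjoin_mono ?_ ha) (Algebra.adjoin_mono ?_ hb)
    · intro y hy; exact List.mem_append_left l₂ hy
    · intro y hy; exact List.mem_append_right l₁ hy
  algebraMap_mem' := by
    intro a
    exact ⟨[], trivial, Subalgebra.algebraMap_mem _ a⟩

include hmono hfin hcore in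
theorem goodSub_eq_top : goodSub Step hmono = ⊤ := by
  by_contra hne
  obtain ⟨b, hbC, hstep⟩ := hcore _ hne
  obtain ⟨F, hFC, hFstep⟩ := hfin _ b hstep
  obtain ⟨l, hl, hFl⟩ := exists_list_of_finset Step hmono F hFC
  have h1 : GoodFrom Step ∅ (l ++ [b]) := good_snoc Step hl b (hFstep _ hFl)
  apply hbC
  refine ⟨l ++ [b], h1, Algebra.subset_adjoin ?_⟩
  simp

include hmono hfin hcore in
theorem exists_chain (E : Finset B) :
    ∃ l : List B, (↑E : Set B) ⊆ Algebra.adjoin A {b | b ∈ l} ∧ GoodFrom Step ∅ l := by
  have htop := goodSub_eq_top Step hmono hfin hcore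
  have hE : (↑E : Set B) ⊆ goodUnion Step := by
    intro x _
    have : x ∈ goodSub Step hmono := by rw [htop]; exact Algebra.mem_top
    exact this
  obtain ⟨l, hl, hEl⟩ := exists_list_of_finset Step hmono E hE
  exact ⟨l, hEl, hl⟩

end exhaust

end Groth.Agent.Lib.helper2.ChainList
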