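import Groth.Agent.Lib.Helper2.SpecResidue
import Mathlib.RingTheory.Ideal.GoingUp
import Mathlib.RingTheory.Ideal.MinimalPrime.Basic
import Mathlib.RingTheory.Finiteness.Basic
import Mathlib.RingTheory.IntegralClosure.IsIntegralClosure.Basic

/-!
# Ring-level data of a universal homeomorphism `Spec B → Spec A` with `A ⊆ B` (helper2)

`UH φ`: `φ` injective, integral, injective on spectra, purely inseparable residue field extensions.
`ResSurj φ`: trivial residue field extensions.  Core lemmas: a proper such extension contains an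
element `b ∉ A` with `b², b³ ∈ A` (or `p b, b^p ∈ A`).
-/

set_option autoImplicit false
universe u

namespace Groth.Agent.Lib.helper2.UnivHomeoElem

open AlgebraicGeometry CategoryTheory

section defs

variable {A B : Type u} [CommRing A] [CommRing B]

structure UH (φ : A →+* B) : Prop where
  inj : Function.Injective φ
  int : φ.IsIntegral
  comap_inj : Function.Injective (PrimeSpectrum.comap φ)
  insep : ∀ (Q : PrimeSpectrum B) (z : Q.asIdeal.ResidueField), ∃ n : ℕ,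
    z ^ (ringExpChar (PrimeSpectrum.comap φ Q).asIdeal.ResidueField) ^ n ∈
      Set.range (Ideal.ResidueField.map (PrimeSpectrum.comap φ Q).asIdeal Q.asIdeal φ rfl)

def ResSurj (φ : A →+* B) : Prop :=
  ∀ Q : PrimeSpectrum B, Function.Surjective
    (Ideal.ResidueField.map (PrimeSpectrum.comap φ Q).asIdeal Q.asIdeal φ rfl)

theorem UH.of_isUnivHomeo (φ : A →+* B) (hinj : Function.Injective φ)
    (hU : FlatMor.IsUnivHomeo (Spec.map (CommRingCat.ofHom φ))) : UH φ where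
  inj := hinj
  int := SpecResidue.isIntegral_of_isUnivHomeo_Spec φ hU
  comap_inj := (SpecResidue.comap_bijective_of_isUnivHomeo_Spec φ hU).1
  insep := SpecResidue.exists_pow_mem_range_of_isUnivHomeo_Spec φ hU

theorem resSurj_of (φ : A →+* B)
    (hres : ∀ x : Spec (CommRingCat.of B),
      Function.Surjective ((Spec.map (CommRingCat.ofHom φ)).residueFieldMap x)) : ResSurj φ := by
  intro Q z
  have hglue := SpecResidue.residueFieldMap_Spec (CommRingCat.ofHom φ) Q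
  set eR := Scheme.Spec.residueFieldIso (CommRingCat.of A) ((Spec.map (CommRingCat.ofHom φ)) Q)
  set eS := Scheme.Spec.residueFieldIso (CommRingCat.of B) Q
  set r := (Spec.map (CommRingCat.ofHom φ)).residueFieldMap Q
  obtain ⟨w, hw⟩ := hres Q (eS.inv.hom z)
  refine ⟨eR.hom.hom w, ?_⟩
  have h1 : (eR.inv ≫ r ≫ eS.hom).hom (eR.hom.hom w) =
      (CommRingCat.ofHom (Ideal.ResidueField.map
        ((Spec.map (CommRingCat.ofHom φ)) Q).asIdeal Q.asIdeal (CommRingCat.ofHom φ).hom rfl)).hom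
        (eR.hom.hom w) := by rw [hglue]
  have h2 : (eR.inv ≫ r ≫ eS.hom).hom (eR.hom.hom w) = eS.hom.hom (r.hom w) := by
    have : eR.inv.hom (eR.hom.hom w) = w := by
      have := congrArg (fun f => f.hom w) eR.hom_inv_id
      exact this
    show eS.hom.hom (r.hom (eR.inv.hom (eR.hom.hom w))) = _
    rw [this]
  have h3 : eS.hom.hom (eS.inv.hom z) = z := by
    have := congrArg (fun f => f.hom z) eS.inv_hom_id
    exact this
  rw [h2, hw, h3] at h1
  exact h1.symm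

end defs

section transfer

variable {A C B : Type u} [CommRing A] [CommRing C] [CommRing B]

theorem residueField_map_comp (f : A →+* C) (g : C →+* B) (I : Ideal A) [I.IsPrime]
    (J : Ideal C) [J.IsPrime] (K : Ideal B) [K.IsPrime] (h1 : I = J.comap f) (h2 : J = K.comap g)
    (h3 : I = K.comap (g.comp f)) :
    Ideal.ResidueField.map I K (g.comp f) h3 =
      (Ideal.ResidueField.map J K g h2).comp (Ideal.ResidueField.map I J f h1) := by
  apply Ideal.ResidueField.ringHom_ext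
  ext a
  simp only [RingHom.comp_apply, Ideal.ResidueField.map_algebraMap]

theorem ringExpChar_eq_of_ringHom {K L : Type u} [Field K] [Field L] (e : K →+* L) :
    ringExpChar K = ringExpChar L := by
  have : ExpChar L (ringExpChar K) :=
    expChar_of_injective_ringHom (f := e) e.injective (ringExpChar K)
  exact (ringExpChar.eq L (ringExpChar K)).symm

theorem isIntegral_of_comp (ψ : A →+* C) (ι : C →+* B) (hι : Function.Injective ι)
    (h : (ι.comp ψ).IsIntegral) : ψ.IsIntegral := by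
  intro c
  obtain ⟨P, hPm, hP⟩ := h (ι c)
  refine ⟨P, hPm, ?_⟩
  apply hι
  rw [map_zero, Polynomial.hom_eval₂]
  exact hP

/-- lying over for an injective integral ring hom. -/
theorem exists_prime_over (ι : C →+* B) (hι : Function.Injective ι) (hint : ι.IsIntegral)
    (q : PrimeSpectrum C) : ∃ Q : PrimeSpectrum B, PrimeSpectrum.comap ι Q = q := by
  letI : Algebra C B := ι.toAlgebra
  haveI : Algebra.IsIntegral C B := algebraMap_isIntegral_iff.1 hint
  obtain ⟨Q, -, hQ, hQq⟩ := Ideal.exists_ideal_over_prime_of_isIntegral q.asIdeal (⊥ : Ideal B)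
    (by
      rw [← RingHom.ker_eq_comap_bot]
      have : RingHom.ker (algebraMap C B) = ⊥ := (RingHom.injective_iff_ker_eq_bot ι).1 hι
      rw [this]
      exact bot_le)
  exact ⟨⟨Q, hQ⟩, PrimeSpectrum.ext hQq⟩

theorem UH.left (ψ : A →+* C) (ι : C →+* B) (hι : Function.Injective ι)
    (h : UH (ι.comp ψ)) : UH ψ := by
  have hιint : ι.IsIntegral := RingHom.IsIntegral.tower_top ψ ι h.int
  refine ⟨fun a b hab => h.inj (by simp [hab]), isIntegral_of_comp ψ ι hι h.int, ?_, ?_⟩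
  · intro q₁ q₂ h12
    obtain ⟨Q₁, rfl⟩ := exists_prime_over ι hι hιint q₁
    obtain ⟨Q₂, rfl⟩ := exists_prime_over ι hι hιint q₂
    have : PrimeSpectrum.comap (ι.comp ψ) Q₁ = PrimeSpectrum.comap (ι.comp ψ) Q₂ := h12
    rw [h.comap_inj this]
  · intro q z
    obtain ⟨Q, rfl⟩ := exists_prime_over ι hι hιint q
    obtain ⟨n, w, hw⟩ := h.insep Q (Ideal.ResidueField.map (PrimeSpectrum.comap ι Q).asIdeal
      Q.asIdeal ι rfl z)
    refine ⟨n, w, ?_⟩
    apply (Ideal.ResidueField.map (PrimeSpectrum.comap ι Q).asIdeal Q.asIdeal ι rfl).injective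
    rw [map_pow]
    rw [residueField_map_comp ψ ι (PrimeSpectrum.comap (ι.comp ψ) Q).asIdeal
      (PrimeSpectrum.comap ι Q).asIdeal Q.asIdeal rfl rfl rfl] at hw
    exact hw

theorem ResSurj.left (ψ : A →+* C) (ι : C →+* B) (hι : Function.Injective ι)
    (hιint : ι.IsIntegral) (h : ResSurj (ι.comp ψ)) : ResSurj ψ := by
  intro q z
  obtain ⟨Q, rfl⟩ := exists_prime_over ι hι hιint q
  obtain ⟨w, hw⟩ := h Q (Ideal.ResidueField.map (PrimeSpectrum.comap ι Q).asIdeal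
    Q.asIdeal ι rfl z)
  refine ⟨w, ?_⟩
  apply (Ideal.ResidueField.map (PrimeSpectrum.comap ι Q).asIdeal Q.asIdeal ι rfl).injective
  rw [residueField_map_comp ψ ι (PrimeSpectrum.comap (ι.comp ψ) Q).asIdeal
    (PrimeSpectrum.comap ι Q).asIdeal Q.asIdeal rfl rfl rfl] at hw
  exact hw

theorem UH.right (ψ : A →+* C) (ι : C →+* B) (hι : Function.Injective ι)
    (h : UH (ι.comp ψ)) : UH ι := by
  refine ⟨hι, RingHom.IsIntegral.tower_top ψ ι h.int, ?_, ?_⟩
  · intro Q₁ Q₂ h12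
    apply h.comap_inj
    show PrimeSpectrum.comap ψ (PrimeSpectrum.comap ι Q₁) =
      PrimeSpectrum.comap ψ (PrimeSpectrum.comap ι Q₂)
    rw [h12]
  · intro Q z
    obtain ⟨n, w, hw⟩ := h.insep Q z
    rw [residueField_map_comp ψ ι (PrimeSpectrum.comap (ι.comp ψ) Q).asIdeal
      (PrimeSpectrum.comap ι Q).asIdeal Q.asIdeal rfl rfl rfl] at hw
    have he : ringExpChar (PrimeSpectrum.comap (ι.comp ψ) Q).asIdeal.ResidueField =
        ringExpChar (PrimeSpectrum.comap ι Q).asIdeal.ResidueField :=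
      ringExpChar_eq_of_ringHom (Ideal.ResidueField.map
        (PrimeSpectrum.comap (ι.comp ψ) Q).asIdeal (PrimeSpectrum.comap ι Q).asIdeal ψ rfl)
    rw [← he]
    exact ⟨n, _, hw⟩

theorem ResSurj.right (ψ : A →+* C) (ι : C →+* B) (h : ResSurj (ι.comp ψ)) : ResSurj ι := by
  intro Q z
  obtain ⟨w, hw⟩ := h Q z
  rw [residueField_map_comp ψ ι (PrimeSpectrum.comap (ι.comp ψ) Q).asIdeal
    (PrimeSpectrum.comap ι Q).asIdeal Q.asIdeal rfl rfl rfl] at hw
  exact ⟨_, hw⟩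

end transfer

section core

variable {A B : Type u} [CommRing A] [CommRing B] (φ : A →+* B)

/-- elements of a residue field are fractions. -/
theorem exists_frac (𝔭 : Ideal A) [𝔭.IsPrime] (x : 𝔭.ResidueField) :
    ∃ (a s : A), s ∉ 𝔭 ∧ x * algebraMap A 𝔭.ResidueField s = algebraMap A 𝔭.ResidueField a := by
  obtain ⟨y, rfl⟩ := IsLocalRing.residue_surjective (R := Localization.AtPrime 𝔭) x
  obtain ⟨⟨a, s⟩, hs⟩ := IsLocalization.surj 𝔭.primeCompl y
  refine ⟨a, s, s.2, ?_⟩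
  have h1 : ∀ r : A, algebraMap A 𝔭.ResidueField r =
      IsLocalRing.residue (Localization.AtPrime 𝔭) (algebraMap A (Localization.AtPrime 𝔭) r) :=
    fun r => rfl
  rw [h1, h1, ← map_mul]
  exact congrArg _ hs

/-- the conductor, as an ideal of `B`. -/
def cond : Ideal B where
  carrier := {c | ∀ b, c * b ∈ φ.range}
  add_mem' := by
    intro c₁ c₂ h₁ h₂ b
    rw [add_mul]
    exact Subring.add_mem _ (h₁ b) (h₂ b)
  zero_mem' := by
    intro b
    rw [zero_mul]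
    exact Subring.zero_mem _
  smul_mem' := by
    intro r c hc b
    rw [smul_eq_mul, mul_assoc, mul_comm r, mul_assoc]
    exact hc _

theorem mem_cond {c : B} : c ∈ cond φ ↔ ∀ b, c * b ∈ φ.range := Iff.rfl

theorem cond_le_range {c : B} (hc : c ∈ cond φ) : c ∈ φ.range := by
  have := hc 1
  rwa [mul_one] at this

theorem cond_comap_ne_top (hns : ¬ Function.Surjective φ) : (cond φ).comap φ ≠ ⊤ := by
  intro h
  apply hns
  intro b
  have h1 : (1 : A) ∈ (cond φ).comap φ := by rw [h]; exact Submodule.mem_top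
  have h2 := h1 b
  rw [map_one, one_mul] at h2
  exact h2

/-- Claim 0: some element is not in `A_𝔭`. -/
theorem exists_notLoc (hfin : φ.Finite) (𝔭 : Ideal A) [𝔭.IsPrime]
    (hle : (cond φ).comap φ ≤ 𝔭) : ∃ b₁ : B, ∀ s, s ∉ 𝔭 → φ s * b₁ ∉ φ.range := by
  classical
  by_contra hcon
  push Not at hcon
  letI : Algebra A B := φ.toAlgebra
  have hfin' : Module.Finite A B := hfin
  obtain ⟨G, hG⟩ := hfin'.fg_top
  choose s hs hsr using hcon
  set t := ∏ g ∈ G, s g with ht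
  have ht𝔭 : t ∉ 𝔭 := by
    intro hmem
    obtain ⟨g, -, hg⟩ := Ideal.IsPrime.prod_mem_iff.1 hmem
    exact hs g hg
  have hgen : ∀ g ∈ G, φ t * g ∈ φ.range := by
    intro g hg
    have h1 : t = (∏ g' ∈ G.erase g, s g') * s g := by
      rw [ht, Finset.prod_erase_mul _ _ hg]
    rw [h1, map_mul, mul_assoc]
    exact Subring.mul_mem _ ⟨_, rfl⟩ (hsr g)
  have hall : ∀ b : B, φ t * b ∈ φ.range := by
    intro b
    have hb : b ∈ Submodule.span A (G : Set B) := by rw [hG]; exact Submodule.mem_top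
    induction hb using Submodule.span_induction with
    | mem x hx => exact hgen x hx
    | zero => rw [mul_zero]; exact Subring.zero_mem _
    | add x y _ _ hx hy => rw [mul_add]; exact Subring.add_mem _ hx hy
    | smul a x _ hx =>
      have : a • x = φ a * x := rfl
      rw [this, mul_left_comm]
      exact Subring.mul_mem _ ⟨_, rfl⟩ hx
  exact ht𝔭 (hle hall)

/-- Claim 2: elements of `𝔮` are nilpotent modulo the conductor, locally at `𝔭`. -/
theorem exists_pow_mem_cond (h : UH φ) (𝔮 : PrimeSpectrum B)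
    (hmin : (PrimeSpectrum.comap φ 𝔮).asIdeal ∈ ((cond φ).comap φ).minimalPrimes)
    (c : B) (hc : c ∈ 𝔮.asIdeal) :
    ∃ s₂, s₂ ∉ (PrimeSpectrum.comap φ 𝔮).asIdeal ∧ ∃ N : ℕ, φ s₂ * c ^ N ∈ cond φ := by
  classical
  set 𝔭 := (PrimeSpectrum.comap φ 𝔮).asIdeal with h𝔭
  by_contra hcon
  push Not at hcon
  let T : Submonoid B := Submonoid.map φ 𝔭.primeCompl ⊔ Submonoid.powers c
  have hdisj : Disjoint ((cond φ : Ideal B) : Set B) (T : Set B) := by
    rw [Set.disjoint_left]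
    intro x hx hxT
    obtain ⟨y, ⟨s, hs, rfl⟩, z, ⟨N, rfl⟩, rfl⟩ := Submonoid.mem_sup.1 hxT
    exact hcon s hs N hx
  obtain ⟨q', hq'prime, hq'le, hq'disj⟩ := Ideal.exists_le_prime_disjoint (cond φ) T hdisj
  have hp'le : q'.comap φ ≤ 𝔭 := by
    intro a ha
    by_contra ha𝔭
    have h1 : φ a ∈ (T : Set B) := by
      refine Submonoid.mem_sup.2 ⟨φ a, ⟨a, ha𝔭, rfl⟩, 1, Submonoid.one_mem _, mul_one _⟩
    exact (Set.disjoint_left.1 hq'disj) ha h1
  have hp'eq : 𝔭 ≤ q'.comap φ :=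
    hmin.2 ⟨Ideal.IsPrime.comap φ, Ideal.comap_mono hq'le⟩ hp'le
  have heq : (⟨q', hq'prime⟩ : PrimeSpectrum B) = 𝔮 := by
    apply h.comap_inj
    apply PrimeSpectrum.ext
    exact le_antisymm hp'le hp'eq
  have hcq' : c ∈ q' := by
    have : c ∈ (⟨q', hq'prime⟩ : PrimeSpectrum B).asIdeal := by rw [heq]; exact hc
    exact this
  have hcT : c ∈ (T : Set B) :=
    Submonoid.mem_sup.2 ⟨1, Submonoid.one_mem _, c, Submonoid.mem_powers c, one_mul _⟩
  exact (Set.disjoint_left.1 hq'disj) hcq' hcT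

/-- The power trick. -/
theorem power_trick (𝔭 : Ideal A) [𝔭.IsPrime] (c : B)
    (hc : ∀ s, s ∉ 𝔭 → φ s * c ∉ φ.range) (s₂ : A) (hs₂ : s₂ ∉ 𝔭) (N : ℕ)
    (hN : φ s₂ * c ^ N ∈ cond φ) :
    ∃ b, b ∉ φ.range ∧ b ^ 2 ∈ φ.range ∧ b ^ 3 ∈ φ.range := by
  classical
  let P : ℕ → Prop := fun k => ∀ s, s ∉ 𝔭 → φ s * c ^ k ∉ φ.range
  have hP1 : P 1 := by
    intro s hs
    rw [pow_one]
    exact hc s hs
  have hbig : ∀ k, N ≤ k → ¬ P k := by
    intro k hk hPk
    apply hPk s₂ hs₂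
    have h1 : φ s₂ * c ^ k = (φ s₂ * c ^ N) * c ^ (k - N) := by
      rw [mul_assoc, ← pow_add, Nat.add_sub_cancel' hk]
    rw [h1]
    exact cond_le_range φ ((cond φ).mul_mem_right _ hN)
  have hN1 : 1 ≤ N := by
    by_contra hlt
    exact hbig 1 (by omega) hP1
  set n := Nat.findGreatest P N with hn
  have hPn : P n := Nat.findGreatest_spec hN1 hP1
  have hn1 : 1 ≤ n := Nat.le_findGreatest hN1 hP1
  have hgt : ∀ k, n < k → ¬ P k := by
    intro k hk
    by_cases hkN : k ≤ N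
    · exact Nat.findGreatest_is_greatest hk hkN
    · exact hbig k (by omega)
  have h2 := hgt (2 * n) (by omega)
  have h3 := hgt (3 * n) (by omega)
  simp only [P] at h2 h3
  push Not at h2 h3
  obtain ⟨s₃, hs₃, hr₃⟩ := h2
  obtain ⟨s₄, hs₄, hr₄⟩ := h3
  refine ⟨φ (s₃ * s₄) * c ^ n, ?_, ?_, ?_⟩
  · apply hPn
    intro hmem
    rcases (inferInstance : 𝔭.IsPrime).mem_or_mem hmem with h | h
    · exact hs₃ h
    · exact hs₄ h
  · have : (φ (s₃ * s₄) * c ^ n) ^ 2 = φ (s₃ * s₄ ^ 2) * (φ s₃ * c ^ (2 * n)) := by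
      simp only [map_mul, map_pow]
      ring
    rw [this]
    exact Subring.mul_mem _ ⟨_, rfl⟩ hr₃
  · have : (φ (s₃ * s₄) * c ^ n) ^ 3 = φ (s₃ ^ 3 * s₄ ^ 2) * (φ s₄ * c ^ (3 * n)) := by
      simp only [map_mul, map_pow]
      ring
    rw [this]
    exact Subring.mul_mem _ ⟨_, rfl⟩ hr₄

end core

section main

variable {A B : Type u} [CommRing A] [CommRing B] (φ : A →+* B)

theorem exists_setup (h : UH φ) (hns : ¬ Function.Surjective φ) :
    ∃ 𝔮 : PrimeSpectrum B,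
      (PrimeSpectrum.comap φ 𝔮).asIdeal ∈ ((cond φ).comap φ).minimalPrimes := by
  obtain ⟨⟨𝔭, hmin⟩⟩ := Ideal.nonempty_minimalPrimes (cond_comap_ne_top φ hns)
  have hp : 𝔭.IsPrime := hmin.1.1
  obtain ⟨𝔮, h𝔮⟩ := exists_prime_over φ h.inj h.int ⟨𝔭, hp⟩
  refine ⟨𝔮, ?_⟩
  rw [h𝔮]
  exact hmin

/-- (L): an element whose residue class at `𝔮` comes from `κ(𝔭)` differs from `A_𝔭` by `𝔮`. -/
theorem exists_sub_mem (𝔮 : PrimeSpectrum B) (b : B)
    (hb : algebraMap B 𝔮.asIdeal.ResidueField b ∈ Set.range (Ideal.ResidueField.map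
      (PrimeSpectrum.comap φ 𝔮).asIdeal 𝔮.asIdeal φ rfl)) :
    ∃ (a s₁ : A), s₁ ∉ (PrimeSpectrum.comap φ 𝔮).asIdeal ∧ φ s₁ * b - φ a ∈ 𝔮.asIdeal := by
  obtain ⟨x, hx⟩ := hb
  obtain ⟨a, s₁, hs₁, hfrac⟩ := exists_frac (PrimeSpectrum.comap φ 𝔮).asIdeal x
  refine ⟨a, s₁, hs₁, ?_⟩
  have h1 := congrArg (Ideal.ResidueField.map (PrimeSpectrum.comap φ 𝔮).asIdeal 𝔮.asIdeal φ rfl)
    hfrac
  rw [map_mul, hx, Ideal.ResidueField.map_algebraMap, Ideal.ResidueField.map_algebraMap,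
    ← map_mul] at h1
  rw [← Ideal.algebraMap_residueField_eq_zero, map_sub, mul_comm, h1, sub_self]

theorem core398_finite (h : UH φ) (hr : ResSurj φ) (hfin : φ.Finite)
    (hns : ¬ Function.Surjective φ) :
    ∃ b, b ∉ φ.range ∧ b ^ 2 ∈ φ.range ∧ b ^ 3 ∈ φ.range := by
  obtain ⟨𝔮, hmin⟩ := exists_setup φ h hns
  set 𝔭 := (PrimeSpectrum.comap φ 𝔮).asIdeal with h𝔭
  obtain ⟨b₁, hb₁⟩ := exists_notLoc φ hfin 𝔭 hmin.1.2
  obtain ⟨a, s₁, hs₁, hc𝔮⟩ := exists_sub_mem φ 𝔮 b₁ (hr 𝔮 _)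
  set c := φ s₁ * b₁ - φ a with hc
  have hcP : ∀ s, s ∉ 𝔭 → φ s * c ∉ φ.range := by
    intro s hs hmem
    apply hb₁ (s * s₁)
    · intro hmem'
      rcases (inferInstance : 𝔭.IsPrime).mem_or_mem hmem' with h' | h'
      · exact hs h'
      · exact hs₁ h'
    · have : φ (s * s₁) * b₁ = φ s * c + φ (s * a) := by
        rw [hc, map_mul, map_mul]
        ring
      rw [this]
      exact Subring.add_mem _ hmem ⟨_, rfl⟩
  obtain ⟨s₂, hs₂, N, hN⟩ := exists_pow_mem_cond φ h 𝔮 hmin c hc𝔮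
  exact power_trick φ 𝔭 c hcP s₂ hs₂ N hN

theorem core399_finite (h : UH φ) (hfin : φ.Finite) (hns : ¬ Function.Surjective φ) :
    (∃ b, b ∉ φ.range ∧ b ^ 2 ∈ φ.range ∧ b ^ 3 ∈ φ.range) ∨
      ∃ (p : ℕ) (b : B), p.Prime ∧ b ∉ φ.range ∧ (p : B) * b ∈ φ.range ∧ b ^ p ∈ φ.range := by
  classical
  obtain ⟨𝔮, hmin⟩ := exists_setup φ h hns
  set 𝔭 := (PrimeSpectrum.comap φ 𝔮).asIdeal with h𝔭
  by_cases hA : ∃ c ∈ 𝔮.asIdeal, ∀ s, s ∉ 𝔭 → φ s * c ∉ φ.range
  · left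
    obtain ⟨c, hc𝔮, hcP⟩ := hA
    obtain ⟨s₂, hs₂, N, hN⟩ := exists_pow_mem_cond φ h 𝔮 hmin c hc𝔮
    exact power_trick φ 𝔭 c hcP s₂ hs₂ N hN
  right
  push Not at hA
  set ρ := Ideal.ResidueField.map 𝔭 𝔮.asIdeal φ rfl with hρ
  -- (L')
  have hL : ∀ b : B, algebraMap B 𝔮.asIdeal.ResidueField b ∈ Set.range ρ →
      ∃ s, s ∉ 𝔭 ∧ φ s * b ∈ φ.range := by
    intro b hb
    obtain ⟨a, s₁, hs₁, hc𝔮⟩ := exists_sub_mem φ 𝔮 b hb
    obtain ⟨s', hs', hr'⟩ := hA _ hc𝔮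
    refine ⟨s' * s₁, ?_, ?_⟩
    · intro hmem'
      rcases (inferInstance : 𝔭.IsPrime).mem_or_mem hmem' with h' | h'
      · exact hs' h'
      · exact hs₁ h'
    · have : φ (s' * s₁) * b = φ s' * (φ s₁ * b - φ a) + φ (s' * a) := by
        rw [map_mul, map_mul]
        ring
      rw [this]
      exact Subring.add_mem _ hr' ⟨_, rfl⟩
  -- converse of (L')
  have hL' : ∀ b : B, (∃ s, s ∉ 𝔭 ∧ φ s * b ∈ φ.range) →
      algebraMap B 𝔮.asIdeal.ResidueField b ∈ Set.range ρ := by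
    rintro b ⟨s, hs, a', ha'⟩
    have hs0 : algebraMap A 𝔭.ResidueField s ≠ 0 := by
      intro h0
      exact hs ((Ideal.algebraMap_residueField_eq_zero).1 h0)
    refine ⟨algebraMap A 𝔭.ResidueField a' / algebraMap A 𝔭.ResidueField s, ?_⟩
    rw [map_div₀, hρ, Ideal.ResidueField.map_algebraMap, Ideal.ResidueField.map_algebraMap, ha',
      map_mul]
    have hs0' : algebraMap B 𝔮.asIdeal.ResidueField (φ s) ≠ 0 := by
      intro h0
      have : φ s ∈ 𝔮.asIdeal := (Ideal.algebraMap_residueField_eq_zero).1 h0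
      exact hs this
    field_simp
  obtain ⟨b₁, hb₁⟩ := exists_notLoc φ hfin 𝔭 hmin.1.2
  set β := algebraMap B 𝔮.asIdeal.ResidueField b₁ with hβ
  set e := ringExpChar 𝔭.ResidueField with he
  have hβ0 : β ∉ Set.range ρ := by
    intro hmem
    obtain ⟨s, hs, hr⟩ := hL b₁ hmem
    exact hb₁ s hs hr
  have hex : ∃ k : ℕ, β ^ e ^ k ∈ Set.range ρ := h.insep 𝔮 β
  set k₀ := Nat.find hex with hk₀
  have hk₀spec : β ^ e ^ k₀ ∈ Set.range ρ := Nat.find_spec hex
  have hk₀ne : k₀ ≠ 0 := by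
    intro h0
    rw [h0, pow_zero, pow_one] at hk₀spec
    exact hβ0 hk₀spec
  obtain ⟨m, hm⟩ := Nat.exists_eq_succ_of_ne_zero hk₀ne
  have hmnot : β ^ e ^ m ∉ Set.range ρ := Nat.find_min hex (by omega)
  have hmpow : (β ^ e ^ m) ^ e ∈ Set.range ρ := by
    rw [← pow_mul, ← pow_succ]
    have : m + 1 = k₀ := hm.symm
    rw [this]
    exact hk₀spec
  -- `e` is prime
  have hechar : ExpChar 𝔭.ResidueField e := inferInstance
  have heprime : e.Prime := by
    rcases expChar_is_prime_or_one 𝔭.ResidueField e with h' | h'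
    · exact h'
    · exfalso
      rw [h', one_pow, pow_one] at hk₀spec
      exact hβ0 hk₀spec
  have hcast : ((e : ℕ) : 𝔭.ResidueField) = 0 := by
    have h2 := heprime.two_le
    have h3 : ringChar 𝔭.ResidueField = e := by
      have h4 : max (ringChar 𝔭.ResidueField) 1 = e := he.symm
      omega
    rw [← h3]
    exact ringChar.Nat.cast_ringChar
  have he𝔭 : ((e : ℕ) : A) ∈ 𝔭 := by
    rw [← Ideal.algebraMap_residueField_eq_zero, map_natCast]
    exact hcast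
  set b₂ := b₁ ^ e ^ m with hb₂
  have hb₂β : algebraMap B 𝔮.asIdeal.ResidueField b₂ = β ^ e ^ m := by
    rw [hb₂, map_pow]
  have hb₂P : ∀ s, s ∉ 𝔭 → φ s * b₂ ∉ φ.range := by
    intro s hs hr
    apply hmnot
    rw [← hb₂β]
    exact hL' b₂ ⟨s, hs, hr⟩
  obtain ⟨s₅, hs₅, hr₅⟩ := hL (b₂ ^ e) (by rw [map_pow, hb₂β]; exact hmpow)
  have heb₂ : ((e : ℕ) : B) * b₂ ∈ 𝔮.asIdeal := by
    apply Ideal.mul_mem_right
    have : φ ((e : ℕ) : A) ∈ 𝔮.asIdeal := he𝔭
    rwa [map_natCast] at this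
  obtain ⟨s₆, hs₆, hr₆⟩ := hA _ heb₂
  refine ⟨e, φ (s₅ * s₆) * b₂, heprime, ?_, ?_, ?_⟩
  · apply hb₂P
    intro hmem'
    rcases (inferInstance : 𝔭.IsPrime).mem_or_mem hmem' with h' | h'
    · exact hs₅ h'
    · exact hs₆ h'
  · have : ((e : ℕ) : B) * (φ (s₅ * s₆) * b₂) = φ s₅ * (φ s₆ * (((e : ℕ) : B) * b₂)) := by
      rw [map_mul]
      ring
    rw [this]
    exact Subring.mul_mem _ ⟨_, rfl⟩ hr₆
  · have hepos : e = (e - 1) + 1 := by have := heprime.two_le; omega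
    have : (φ (s₅ * s₆) * b₂) ^ e = φ (s₅ ^ (e - 1) * s₆ ^ e) * (φ s₅ * b₂ ^ e) := by
      rw [mul_pow, map_mul, map_mul, mul_pow, map_pow, map_pow]
      have h1 : φ s₅ ^ e = φ s₅ ^ (e - 1) * φ s₅ := by
        conv_lhs => rw [hepos, pow_succ]
      rw [h1]
      ring
    rw [this]
    exact Subring.mul_mem _ ⟨_, rfl⟩ hr₅

end main

section general

variable {A B : Type u} [CommRing A] [CommRing B] (φ : A →+* B)

/-- Reduction to the monogenic (finite) case. -/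
theorem exists_finite_sub (h : UH φ) (b₀ : B) (hb₀ : b₀ ∉ φ.range) :
    ∃ (C : Type u) (_ : CommRing C) (ψ : A →+* C) (ι : C →+* B),
      Function.Injective ι ∧ φ = ι.comp ψ ∧ ψ.Finite ∧ ¬ Function.Surjective ψ := by
  letI : Algebra A B := φ.toAlgebra
  let C : Subalgebra A B := Algebra.adjoin A {b₀}
  have hint : IsIntegral A b₀ := h.int b₀
  have hfin : Module.Finite A C := Algebra.finite_adjoin_simple_of_isIntegral hint
  refine ⟨C, inferInstance, algebraMap A C, C.val.toRingHom, Subtype.val_injective, ?_,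
    RingHom.finite_algebraMap.2 hfin, ?_⟩
  · ext a
    rfl
  · intro hsurj
    obtain ⟨a, ha⟩ := hsurj ⟨b₀, Algebra.subset_adjoin rfl⟩
    exact hb₀ ⟨a, congrArg Subtype.val ha⟩

theorem core398 (h : UH φ) (hr : ResSurj φ) (hns : ¬ Function.Surjective φ) :
    ∃ b, b ∉ φ.range ∧ b ^ 2 ∈ φ.range ∧ b ^ 3 ∈ φ.range := by
  have hex : ∃ b₀, b₀ ∉ φ.range := by
    by_contra hcon
    push Not at hcon
    exact hns hcon
  obtain ⟨b₀, hb₀⟩ := hex
  obtain ⟨C, _, ψ, ι, hιinj, rfl, hfin, hnsψ⟩ := exists_finite_sub φ h b₀ hb₀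
  have hψ : UH ψ := UH.left ψ ι hιinj h
  have hιint : ι.IsIntegral := RingHom.IsIntegral.tower_top ψ ι h.int
  have hrψ : ResSurj ψ := ResSurj.left ψ ι hιinj hιint hr
  obtain ⟨c, hc1, hc2, hc3⟩ := core398_finite ψ hψ hrψ hfin hnsψ
  refine ⟨ι c, ?_, ?_, ?_⟩
  · rintro ⟨a, ha⟩
    exact hc1 ⟨a, hιinj ha⟩
  · obtain ⟨a, ha⟩ := hc2
    exact ⟨a, by rw [← map_pow, ← ha]; rfl⟩
  · obtain ⟨a, ha⟩ := hc3
    exact ⟨a, by rw [← map_pow, ← ha]; rfl⟩

theorem core399 (h : UH φ) (hns : ¬ Function.Surjective φ) :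
    (∃ b, b ∉ φ.range ∧ b ^ 2 ∈ φ.range ∧ b ^ 3 ∈ φ.range) ∨
      ∃ (p : ℕ) (b : B), p.Prime ∧ b ∉ φ.range ∧ (p : B) * b ∈ φ.range ∧ b ^ p ∈ φ.range := by
  have hex : ∃ b₀, b₀ ∉ φ.range := by
    by_contra hcon
    push Not at hcon
    exact hns hcon
  obtain ⟨b₀, hb₀⟩ := hex
  obtain ⟨C, _, ψ, ι, hιinj, rfl, hfin, hnsψ⟩ := exists_finite_sub φ h b₀ hb₀
  have hψ : UH ψ := UH.left ψ ι hιinj h
  rcases core399_finite ψ hψ hfin hnsψ with ⟨c, hc1, hc2, hc3⟩ | ⟨p, c, hp, hc1, hc2, hc3⟩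
  · left
    refine ⟨ι c, ?_, ?_, ?_⟩
    · rintro ⟨a, ha⟩
      exact hc1 ⟨a, hιinj ha⟩
    · obtain ⟨a, ha⟩ := hc2
      exact ⟨a, by rw [← map_pow, ← ha]; rfl⟩
    · obtain ⟨a, ha⟩ := hc3
      exact ⟨a, by rw [← map_pow, ← ha]; rfl⟩
  · right
    refine ⟨p, ι c, hp, ?_, ?_, ?_⟩
    · rintro ⟨a, ha⟩
      exact hc1 ⟨a, hιinj ha⟩
    · obtain ⟨a, ha⟩ := hc2
      refine ⟨a, ?_⟩
      have : (p : B) * ι c = ι ((p : C) * c) := by rw [map_mul, map_natCast]
      rw [this, ← ha]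
      rfl
    · obtain ⟨a, ha⟩ := hc3
      exact ⟨a, by rw [← map_pow, ← ha]; rfl⟩

end general

end Groth.Agent.Lib.helper2.UnivHomeoElem
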