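import Groth.Agent.Lib.Helper2.UnivHomeoElem

/-!
# Universal homeomorphisms for algebras generated by one element

`isUnivHomeo_of_adjoin_singleton`: if `B = A[t]` with `t` integral, every prime of `A` is the kernel
of a field-valued point of `B`, and field valued points of `B` are determined by their restriction
to `A` at `t`, then `Spec B → Spec A` is a universal homeomorphism.
-/

set_option autoImplicit false
universe u

namespace Groth.Agent.Lib.helper2.PolyQuotUH

open AlgebraicGeometry CategoryTheory Polynomial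
open Groth.Agent.Lib.helper2.UnivHomeoElem

section general

variable {A B : Type u} [CommRing A] [CommRing B] [Algebra A B]

theorem isUnivHomeo_of_adjoin_singleton (t : B)
    (hgen : Algebra.adjoin A {t} = ⊤) (hint : IsIntegral A t)
    (hpt : ∀ 𝔭 : PrimeSpectrum A, ∃ (K : Type u) (_ : Field K) (e : B →+* K),
      RingHom.ker (e.comp (algebraMap A B)) = 𝔭.asIdeal)
    (huniq : ∀ (K : Type u) [Field K] (φ₁ φ₂ : B →+* K),
      φ₁.comp (algebraMap A B) = φ₂.comp (algebraMap A B) → φ₁ t = φ₂ t) :
    FlatMor.IsUnivHomeo (Spec.map (CommRingCat.ofHom (algebraMap A B))) := by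
  refine SpecResidue.isUnivHomeo_Spec_of (algebraMap A B) ?_ ?_ ?_
  · intro b
    have h1 : Algebra.adjoin A {t} ≤ integralClosure A B := by
      refine Algebra.adjoin_le ?_
      intro z hz
      rw [Set.mem_singleton_iff] at hz
      subst hz
      exact hint
    have : b ∈ integralClosure A B := h1 (by rw [hgen]; exact Algebra.mem_top)
    exact this
  · intro 𝔭
    obtain ⟨K, _, e, he⟩ := hpt 𝔭
    refine ⟨⟨RingHom.ker e, RingHom.ker_isPrime e⟩, ?_⟩
    apply PrimeSpectrum.ext
    show (RingHom.ker e).comap (algebraMap A B) = 𝔭.asIdeal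
    rw [← he]
    rfl
  · intro K _ φ₁ φ₂ h12
    letI : Algebra A K := (φ₁.comp (algebraMap A B)).toAlgebra
    let ψ₁ : B →ₐ[A] K := { φ₁ with commutes' := fun a => rfl }
    let ψ₂ : B →ₐ[A] K := { φ₂ with commutes' := fun a => (congrArg (fun f => f a) h12).symm }
    have : ψ₁ = ψ₂ := by
      refine AlgHom.ext_of_adjoin_eq_top hgen ?_
      intro z hz
      rw [Set.mem_singleton_iff] at hz
      subst hz
      exact huniq K φ₁ φ₂ h12
    refine RingHom.ext (fun b => ?_)
    exact congrArg (fun f => f b) this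

theorem resSurj_of_adjoin_singleton (t : B) (hgen : Algebra.adjoin A {t} = ⊤)
    (ht : ∀ Q : PrimeSpectrum B, algebraMap B Q.asIdeal.ResidueField t ∈
      (Ideal.ResidueField.map (PrimeSpectrum.comap (algebraMap A B) Q).asIdeal Q.asIdeal
        (algebraMap A B) rfl).range) :
    ResSurj (algebraMap A B) := by
  intro Q
  set ρ := Ideal.ResidueField.map (PrimeSpectrum.comap (algebraMap A B) Q).asIdeal Q.asIdeal
    (algebraMap A B) rfl with hρ
  let T : Subalgebra A B :=
    { carrier := {b | algebraMap B Q.asIdeal.ResidueField b ∈ ρ.range}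
      mul_mem' := by
        intro a b ha hb
        show algebraMap B Q.asIdeal.ResidueField (a * b) ∈ ρ.range
        rw [map_mul]
        exact Subring.mul_mem _ ha hb
      one_mem' := by
        show algebraMap B Q.asIdeal.ResidueField 1 ∈ ρ.range
        rw [map_one]
        exact Subring.one_mem _
      add_mem' := by
        intro a b ha hb
        show algebraMap B Q.asIdeal.ResidueField (a + b) ∈ ρ.range
        rw [map_add]
        exact Subring.add_mem _ ha hb
      zero_mem' := by
        show algebraMap B Q.asIdeal.ResidueField 0 ∈ ρ.range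
        rw [map_zero]
        exact Subring.zero_mem _
      algebraMap_mem' := by
        intro a
        show algebraMap B Q.asIdeal.ResidueField (algebraMap A B a) ∈ ρ.range
        refine ⟨algebraMap A _ a, ?_⟩
        rw [hρ, Ideal.ResidueField.map_algebraMap] }
  have hT : T = ⊤ := by
    apply top_le_iff.1
    rw [← hgen]
    refine Algebra.adjoin_le ?_
    intro z hz
    rw [Set.mem_singleton_iff] at hz
    subst hz
    exact ht Q
  have hall : ∀ b : B, algebraMap B Q.asIdeal.ResidueField b ∈ ρ.range := by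
    intro b
    have : b ∈ T := by rw [hT]; exact Algebra.mem_top
    exact this
  intro z
  obtain ⟨a, s, hs, hz⟩ := exists_frac Q.asIdeal z
  obtain ⟨a', ha'⟩ := hall a
  obtain ⟨s', hs'⟩ := hall s
  have hs0 : algebraMap B Q.asIdeal.ResidueField s ≠ 0 := fun h0 =>
    hs ((Ideal.algebraMap_residueField_eq_zero).1 h0)
  refine ⟨a' / s', ?_⟩
  rw [map_div₀, ha', hs', ← hz]
  field_simp

end general

section fields

theorem eq_of_sq_cube {K : Type u} [Field K] {u v : K} (h2 : u ^ 2 = v ^ 2) (h3 : u ^ 3 = v ^ 3) :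
    u = v := by
  by_cases hu : u = 0
  · subst hu
    have : v ^ 2 = 0 := by rw [← h2]; ring
    exact (pow_eq_zero_iff (by norm_num)).1 this |>.symm
  · have hu2 : u ^ 2 ≠ 0 := pow_ne_zero 2 hu
    have hv2 : v ^ 2 ≠ 0 := h2 ▸ hu2
    have e1 : u = u ^ 3 / u ^ 2 := by field_simp
    have hv : v ≠ 0 := fun h0 => hv2 (by rw [h0]; ring)
    have e2 : v = v ^ 3 / v ^ 2 := by field_simp
    rw [e1, e2, h2, h3]

theorem eq_of_mul_pow {K : Type u} [Field K] {u v : K} (p : ℕ) (hp : p.Prime)
    (h1 : (p : K) * u = (p : K) * v) (h2 : u ^ p = v ^ p) : u = v := by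
  by_cases hpK : (p : K) = 0
  · have hdvd : ringChar K ∣ p := ringChar.dvd hpK
    have hne1 : ringChar K ≠ 1 := CharP.ringChar_ne_one
    have heq : ringChar K = p := by
      rcases (Nat.dvd_prime hp).1 hdvd with h | h
      · exact absurd h hne1
      · exact h
    haveI : CharP K p := ringChar.of_eq heq
    haveI : Fact p.Prime := ⟨hp⟩
    have h3 : (u - v) ^ p = 0 := by rw [sub_pow_char, h2, sub_self]
    exact sub_eq_zero.1 (pow_eq_zero_iff hp.ne_zero |>.1 h3)
  · exact mul_left_cancel₀ hpK h1

/-- a square-cube root in a field: if `x^3 = y^2` there is `τ` with `τ^2 = x`, `τ^3 = y`. -/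
theorem exists_sq_cube_root {K : Type u} [Field K] (x y : K) (h : x ^ 3 = y ^ 2) :
    ∃ τ : K, τ ^ 2 = x ∧ τ ^ 3 = y := by
  by_cases hx : x = 0
  · subst hx
    have hy : y = 0 := by
      have : y ^ 2 = 0 := by rw [← h]; ring
      exact (pow_eq_zero_iff (by norm_num)).1 this
    subst hy
    exact ⟨0, by simp, by simp⟩
  · refine ⟨y / x, ?_, ?_⟩
    · rw [div_pow, ← h]
      field_simp
    · rw [div_pow]
      have : y ^ 3 = y * x ^ 3 := by rw [h]; ring
      rw [this]
      field_simp

/-- a square-cube root lies in the range of any field map whose range contains square and cube. -/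
theorem sq_cube_root_mem_range {K L : Type u} [Field K] [Field L] (ρ : L →+* K) (t : K)
    (h2 : t ^ 2 ∈ ρ.range) (h3 : t ^ 3 ∈ ρ.range) : t ∈ ρ.range := by
  by_cases ht : t = 0
  · rw [ht]; exact Subring.zero_mem _
  · obtain ⟨a, ha⟩ := h2
    obtain ⟨b, hb⟩ := h3
    refine ⟨b / a, ?_⟩
    rw [map_div₀, ha, hb]
    field_simp

end fields

section poly

variable {A : Type u} [CommRing A]

theorem adjoin_mk_X (I : Ideal A[X]) :
    Algebra.adjoin A {(Ideal.Quotient.mk I X : A[X] ⧸ I)} = ⊤ := by
  have h1 : (Algebra.adjoin A {(X : A[X])}).map (Ideal.Quotient.mkₐ A I) =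
      Algebra.adjoin A ((Ideal.Quotient.mkₐ A I) '' {X}) := AlgHom.map_adjoin _ _
  rw [Polynomial.adjoin_X, Algebra.map_top, Set.image_singleton] at h1
  have h2 : (Ideal.Quotient.mkₐ A I).range = ⊤ :=
    (AlgHom.range_eq_top _).2 (Ideal.Quotient.mkₐ_surjective A I)
  rw [h2] at h1
  exact h1.symm

/-- the ring map out of `A[X]/(S)` given by a root of all members of `S`. -/
noncomputable def liftHom {K : Type u} [CommRing K] (S : Set A[X]) (e₀ : A →+* K) (τ : K)
    (h : ∀ f ∈ S, eval₂ e₀ τ f = 0) : A[X] ⧸ Ideal.span S →+* K :=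
  Ideal.Quotient.lift _ (eval₂RingHom e₀ τ) (by
    intro f hf
    have h1 : Ideal.span S ≤ RingHom.ker (eval₂RingHom e₀ τ) :=
      Ideal.span_le.2 (fun g hg => h g hg)
    exact h1 hf)

theorem liftHom_mk_X {K : Type u} [CommRing K] (S : Set A[X]) (e₀ : A →+* K) (τ : K)
    (h : ∀ f ∈ S, eval₂ e₀ τ f = 0) :
    liftHom S e₀ τ h (Ideal.Quotient.mk _ X) = τ := by
  simp [liftHom]

theorem liftHom_comp_algebraMap {K : Type u} [CommRing K] (S : Set A[X]) (e₀ : A →+* K) (τ : K)
    (h : ∀ f ∈ S, eval₂ e₀ τ f = 0) :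
    (liftHom S e₀ τ h).comp (algebraMap A (A[X] ⧸ Ideal.span S)) = e₀ := by
  refine RingHom.ext (fun a => ?_)
  show liftHom S e₀ τ h (Ideal.Quotient.mk _ (C a)) = e₀ a
  simp [liftHom]

end poly

/-- transfer of `ResSurj` to the scheme-level statement. -/
theorem residueFieldMap_surjective_of {A B : Type u} [CommRing A] [CommRing B] (φ : A →+* B)
    (h : ResSurj φ) (x : Spec (CommRingCat.of B)) :
    Function.Surjective ((Spec.map (CommRingCat.ofHom φ)).residueFieldMap x) := by
  intro z
  have hglue := SpecResidue.residueFieldMap_Spec (CommRingCat.ofHom φ) x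
  set eR := Scheme.Spec.residueFieldIso (CommRingCat.of A) ((Spec.map (CommRingCat.ofHom φ)) x)
  set eS := Scheme.Spec.residueFieldIso (CommRingCat.of B) x
  set r := (Spec.map (CommRingCat.ofHom φ)).residueFieldMap x
  obtain ⟨w, hw⟩ := h x (eS.hom.hom z)
  refine ⟨eR.inv.hom w, ?_⟩
  apply (eS.hom.hom).injective
  have h1 : (eR.inv ≫ r ≫ eS.hom).hom w =
      (CommRingCat.ofHom (Ideal.ResidueField.map
        ((Spec.map (CommRingCat.ofHom φ)) x).asIdeal x.asIdeal (CommRingCat.ofHom φ).hom rfl)).hom
        w := by rw [hglue]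
  exact h1.trans hw

end Groth.Agent.Lib.helper2.PolyQuotUH
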