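import Groth.Prelude.Def_HTop2
import Groth.Agent.S7401
import Groth.Agent.S7402
import Groth.Agent.S7403

/-!
# Absolutely weakly normal rings and absolute weak normalizations of rings (helper2)

* `isUnivHomeo_comp_Spec`, `isUnivHomeo_of_comp_Spec`: composition and cancellation for ring maps
  whose `Spec` is a universal homeomorphism.
* `isAWNRing_of_isRingAWN`: the target of an absolute weak normalization is an AWN ring.
* `bijective_of_isAWNRing`: a universal homeomorphism from an AWN ring to a reduced ring is bijective.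
-/

set_option autoImplicit false
universe u

open AlgebraicGeometry CategoryTheory Polynomial

namespace Groth.Agent.Lib.helper2.AWNRing

open Groth.Agent.Lib.helper2

section basic

variable {A B C : Type u} [CommRing A] [CommRing B] [CommRing C]

theorem isUnivHomeo_comp_Spec (ψ : A →+* B) (χ : B →+* C)
    (h1 : FlatMor.IsUnivHomeo (Spec.map (CommRingCat.ofHom ψ)))
    (h2 : FlatMor.IsUnivHomeo (Spec.map (CommRingCat.ofHom χ))) :
    FlatMor.IsUnivHomeo (Spec.map (CommRingCat.ofHom (χ.comp ψ))) := by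
  refine SpecResidue.isUnivHomeo_Spec_of _ ?_ ?_ ?_
  · exact RingHom.IsIntegral.trans ψ χ (SpecResidue.isIntegral_of_isUnivHomeo_Spec ψ h1)
      (SpecResidue.isIntegral_of_isUnivHomeo_Spec χ h2)
  · intro 𝔭
    obtain ⟨Q, hQ⟩ := (SpecResidue.comap_bijective_of_isUnivHomeo_Spec ψ h1).2 𝔭
    obtain ⟨R, hR⟩ := (SpecResidue.comap_bijective_of_isUnivHomeo_Spec χ h2).2 Q
    refine ⟨R, ?_⟩
    rw [← hQ, ← hR]
    rfl
  · intro K _ φ₁ φ₂ h12
    have e1 : (φ₁.comp χ).comp ψ = (φ₂.comp χ).comp ψ := by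
      rw [RingHom.comp_assoc, RingHom.comp_assoc]
      exact h12
    have e2 := SpecResidue.hom_ext_of_isUnivHomeo_Spec ψ h1 K _ _ e1
    exact SpecResidue.hom_ext_of_isUnivHomeo_Spec χ h2 K _ _ e2

theorem isUnivHomeo_of_comp_Spec (ψ : A →+* B) (χ : B →+* C)
    (h1 : FlatMor.IsUnivHomeo (Spec.map (CommRingCat.ofHom ψ)))
    (h2 : FlatMor.IsUnivHomeo (Spec.map (CommRingCat.ofHom (χ.comp ψ)))) :
    FlatMor.IsUnivHomeo (Spec.map (CommRingCat.ofHom χ)) := by
  refine SpecResidue.isUnivHomeo_Spec_of _ ?_ ?_ ?_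
  · exact RingHom.IsIntegral.tower_top ψ χ (SpecResidue.isIntegral_of_isUnivHomeo_Spec _ h2)
  · intro Q
    obtain ⟨R, hR⟩ := (SpecResidue.comap_bijective_of_isUnivHomeo_Spec _ h2).2
      (PrimeSpectrum.comap ψ Q)
    refine ⟨R, ?_⟩
    apply (SpecResidue.comap_bijective_of_isUnivHomeo_Spec ψ h1).1
    rw [← hR]
    rfl
  · intro K _ φ₁ φ₂ h12
    have e1 : φ₁.comp (χ.comp ψ) = φ₂.comp (χ.comp ψ) := by
      rw [← RingHom.comp_assoc, ← RingHom.comp_assoc, h12]
    exact SpecResidue.hom_ext_of_isUnivHomeo_Spec _ h2 K _ _ e1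

theorem isUnivHomeo_of_surjective_nil (χ : B →+* C) (hs : Function.Surjective χ)
    (hk : RingHom.ker χ ≤ nilradical B) :
    FlatMor.IsUnivHomeo (Spec.map (CommRingCat.ofHom χ)) := by
  refine SpecResidue.isUnivHomeo_Spec_of _ (RingHom.isIntegral_of_surjective _ hs) ?_ ?_
  · intro Q
    have h1 : Q ∈ Set.range (PrimeSpectrum.comap χ) := by
      rw [_root_.range_comap_of_surjective _ _ hs]
      intro b hb
      have : b ∈ nilradical B := hk hb
      exact nilradical_le_prime Q.asIdeal this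
    exact h1
  · intro K _ φ₁ φ₂ h12
    exact RingHom.cancel_right hs |>.1 h12

theorem isUnivHomeo_id : FlatMor.IsUnivHomeo (Spec.map (CommRingCat.ofHom (RingHom.id B))) := by
  refine SpecResidue.isUnivHomeo_Spec_of _ (RingHom.isIntegral_of_surjective _ fun b => ⟨b, rfl⟩)
    (fun Q => ⟨Q, rfl⟩) ?_
  intro K _ φ₁ φ₂ h12
  exact h12

theorem isUnivHomeo_ringEquiv (e : B ≃+* C) :
    FlatMor.IsUnivHomeo (Spec.map (CommRingCat.ofHom (e : B →+* C))) := by
  refine isUnivHomeo_of_surjective_nil _ e.surjective ?_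
  intro b hb
  have : (e : B →+* C) b = 0 := hb
  have hb0 : b = 0 := by
    apply e.injective
    rw [map_zero]
    exact this
  rw [hb0]
  exact Ideal.zero_mem _

/-- In a reduced ring, elements are equal if they agree in every residue field. -/
theorem eq_of_forall_residue [IsReduced B] (a b : B)
    (h : ∀ (q : Ideal B) [q.IsPrime], algebraMap B q.ResidueField a = algebraMap B q.ResidueField b) :
    a = b := by
  have h1 : a - b ∈ nilradical B := by
    rw [mem_nilradical, nilpotent_iff_mem_prime]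
    intro q hq
    have := h q
    rw [← Ideal.algebraMap_residueField_eq_zero, map_sub, this, sub_self]
  have h2 : IsNilpotent (a - b) := h1
  exact sub_eq_zero.1 h2.eq_zero

theorem eq_of_sq_cube_reduced [IsReduced B] (a b : B) (h2 : a ^ 2 = b ^ 2) (h3 : a ^ 3 = b ^ 3) :
    a = b := by
  refine eq_of_forall_residue a b (fun q _ => ?_)
  refine PolyQuotUH.eq_of_sq_cube ?_ ?_
  · rw [← map_pow, ← map_pow, h2]
  · rw [← map_pow, ← map_pow, h3]

theorem eq_of_mul_pow_reduced [IsReduced B] (p : ℕ) (hp : p.Prime) (a b : B)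
    (h1 : (p : B) * a = (p : B) * b) (h2 : a ^ p = b ^ p) : a = b := by
  refine eq_of_forall_residue a b (fun q _ => ?_)
  refine PolyQuotUH.eq_of_mul_pow p hp ?_ ?_
  · have := congrArg (algebraMap B q.ResidueField) h1
    rw [map_mul, map_mul, map_natCast] at this
    exact this
  · rw [← map_pow, ← map_pow, h2]

theorem isReduced_of_isSeminormalRing (h : HTop.IsSeminormalRing B) : IsReduced B := by
  rw [isReduced_iff_pow_one_lt 2 (by norm_num)]
  intro x hx
  obtain ⟨a, -, ha⟩ := h 0 0 (by ring)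
  have h0 : (0 : B) = a := ha 0 ⟨by ring, by ring⟩
  have h1 : x = a := ha x ⟨hx.symm, by rw [pow_succ, hx, zero_mul]⟩
  rw [h1, ← h0]

end basic

section awn

variable {A W : Type u} [CommRing A] [CommRing W]

/-- A universal homeomorphism out of an absolute weak normalization has a retraction. -/
theorem exists_retract (φ : A →+* W) (hφ : HTop.IsRingAWN φ) {C : Type u} [CommRing C]
    (ι : W →+* C) (hι : FlatMor.IsUnivHomeo (Spec.map (CommRingCat.ofHom ι))) :
    ∃ r : C →+* W, r.comp ι = RingHom.id W := by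
  obtain ⟨r, hr, -⟩ := hφ.2 C (ι.comp φ) (isUnivHomeo_comp_Spec φ ι hφ.1 hι)
  refine ⟨r, ?_⟩
  obtain ⟨χ, -, hχ⟩ := hφ.2 W φ hφ.1
  have e1 : r.comp ι = χ := hχ _ (by show (r.comp ι).comp φ = φ; rw [RingHom.comp_assoc]; exact hr)
  have e2 : RingHom.id W = χ := hχ _ (RingHom.id_comp φ)
  rw [e1, e2]

theorem isReduced_of_isRingAWN (φ : A →+* W) (hφ : HTop.IsRingAWN φ) : IsReduced W := by
  obtain ⟨r, hr⟩ := exists_retract φ hφ (Ideal.Quotient.mk (nilradical W))
    (isUnivHomeo_of_surjective_nil _ Ideal.Quotient.mk_surjective (by rw [Ideal.mk_ker]))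
  rw [isReduced_iff_pow_one_lt 2 (by norm_num)]
  intro x hx
  have h1 : x ∈ nilradical W := by
    rw [mem_nilradical]
    exact ⟨2, hx⟩
  have h2 : Ideal.Quotient.mk (nilradical W) x = 0 := Ideal.Quotient.eq_zero_iff_mem.2 h1
  have h3 := congrArg (fun f => f x) hr
  simp only [RingHom.comp_apply, RingHom.id_apply] at h3
  rw [← h3, h2, map_zero]

theorem isAWNRing_of_isRingAWN (φ : A →+* W) (hφ : HTop.IsRingAWN φ) : HTop.IsAWNRing W := by
  haveI := isReduced_of_isRingAWN φ hφ
  refine ⟨?_, ?_⟩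
  · intro x y hxy
    have hUH := (Groth.Agent.S7402.result W x y hxy).1
    set S : Set W[X] := {X ^ 2 - C x, X ^ 3 - C y} with hS
    set I := Ideal.span S with hI
    set t : W[X] ⧸ I := Ideal.Quotient.mk I X with ht
    obtain ⟨r, hr⟩ := exists_retract φ hφ _ hUH
    have ht2 : t ^ 2 = algebraMap W (W[X] ⧸ I) x := by
      have h1 : Ideal.Quotient.mk I (X ^ 2 - C x) = 0 :=
        Ideal.Quotient.eq_zero_iff_mem.2 (Ideal.subset_span (by simp [hS]))
      rw [map_sub, map_pow] at h1
      exact sub_eq_zero.1 h1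
    have ht3 : t ^ 3 = algebraMap W (W[X] ⧸ I) y := by
      have h1 : Ideal.Quotient.mk I (X ^ 3 - C y) = 0 :=
        Ideal.Quotient.eq_zero_iff_mem.2 (Ideal.subset_span (by simp [hS]))
      rw [map_sub, map_pow] at h1
      exact sub_eq_zero.1 h1
    have hrx : ∀ w : W, r (algebraMap W (W[X] ⧸ I) w) = w := fun w =>
      congrArg (fun f => f w) hr
    refine ⟨r t, ⟨?_, ?_⟩, ?_⟩
    · have := congrArg r ht2
      rw [hrx] at this
      exact this.symm.trans (map_pow r t 2)
    · have := congrArg r ht3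
      rw [hrx] at this
      exact this.symm.trans (map_pow r t 3)
    · rintro b ⟨hb2, hb3⟩
      have e2 : x = r t ^ 2 := by
        have := congrArg r ht2
        rw [hrx] at this
        exact this.symm.trans (map_pow r t 2)
      have e3 : y = r t ^ 3 := by
        have := congrArg r ht3
        rw [hrx] at this
        exact this.symm.trans (map_pow r t 3)
      refine eq_of_sq_cube_reduced _ _ ?_ ?_
      · rw [← hb2, ← e2]
      · rw [← hb3, ← e3]
  · intro p hp x y hxy
    have hUH := Groth.Agent.S7403.result W p hp x y hxy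
    set S : Set W[X] := {X ^ p - C x, C (p : W) * X - C y} with hS
    set I := Ideal.span S with hI
    set t : W[X] ⧸ I := Ideal.Quotient.mk I X with ht
    obtain ⟨r, hr⟩ := exists_retract φ hφ _ hUH
    have ht2 : t ^ p = algebraMap W (W[X] ⧸ I) x := by
      have h1 : Ideal.Quotient.mk I (X ^ p - C x) = 0 :=
        Ideal.Quotient.eq_zero_iff_mem.2 (Ideal.subset_span (by simp [hS]))
      rw [map_sub, map_pow] at h1
      exact sub_eq_zero.1 h1
    have ht3 : algebraMap W (W[X] ⧸ I) (p : W) * t = algebraMap W (W[X] ⧸ I) y := by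
      have h1 : Ideal.Quotient.mk I (C (p : W) * X - C y) = 0 :=
        Ideal.Quotient.eq_zero_iff_mem.2 (Ideal.subset_span (by simp [hS]))
      rw [map_sub, map_mul] at h1
      exact sub_eq_zero.1 h1
    have hrx : ∀ w : W, r (algebraMap W (W[X] ⧸ I) w) = w := fun w =>
      congrArg (fun f => f w) hr
    have e2 : x = r t ^ p := by
      have := congrArg r ht2
      rw [hrx] at this
      exact this.symm.trans (map_pow r t p)
    have e3 : y = (p : W) * r t := by
      have := congrArg r ht3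
      rw [hrx, map_mul, hrx] at this
      exact this.symm
    refine ⟨r t, ⟨e2, e3⟩, ?_⟩
    rintro b ⟨hb2, hb3⟩
    refine eq_of_mul_pow_reduced p hp _ _ ?_ ?_
    · rw [← hb3, ← e3]
    · rw [← hb2, ← e2]

end awn

section bij

variable {B W : Type u} [CommRing B] [CommRing W]

theorem injective_of_isUnivHomeo_of_isReduced [IsReduced B] (χ : B →+* W)
    (hχ : FlatMor.IsUnivHomeo (Spec.map (CommRingCat.ofHom χ))) : Function.Injective χ := by
  rw [injective_iff_map_eq_zero]
  intro b hb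
  have h1 : b ∈ nilradical B := by
    rw [mem_nilradical, nilpotent_iff_mem_prime]
    intro q hq
    obtain ⟨Q, hQ⟩ := (SpecResidue.comap_bijective_of_isUnivHomeo_Spec χ hχ).2 ⟨q, hq⟩
    have h2 : q = Q.asIdeal.comap χ := congrArg PrimeSpectrum.asIdeal hQ.symm
    rw [h2, Ideal.mem_comap, hb]
    exact Q.asIdeal.zero_mem
  exact (show IsNilpotent b from h1).eq_zero

/-- A universal homeomorphism from an absolutely weakly normal ring to a reduced ring is bijective. -/
theorem bijective_of_isAWNRing (hB : HTop.IsAWNRing B) [IsReduced W] (χ : B →+* W)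
    (hχ : FlatMor.IsUnivHomeo (Spec.map (CommRingCat.ofHom χ))) : Function.Bijective χ := by
  haveI := isReduced_of_isSeminormalRing hB.1
  have hinj := injective_of_isUnivHomeo_of_isReduced χ hχ
  refine ⟨hinj, ?_⟩
  letI : Algebra B W := χ.toAlgebra
  have hchain := (Groth.Agent.S7401.result' (A := B) (B := W) hinj).1 hχ
  simp only [← Groth.Agent.S7401.good_iff] at hchain
  have hbot : ∀ w : W, w ∈ (⊥ : Subalgebra B W) ↔ ∃ b : B, χ b = w := by
    intro w
    rw [Algebra.mem_bot]
    rfl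
  intro w
  refine (hbot w).1 (Groth.Agent.S7401.mem_of_chain hchain ⊥ ?_ w)
  intro S' b hS' hstep
  rw [hbot]
  rcases hstep with ⟨h2, h3⟩ | ⟨p, hp, h1, h2⟩
  · obtain ⟨x, hx⟩ := (hbot _).1 (hS' h2)
    obtain ⟨y, hy⟩ := (hbot _).1 (hS' h3)
    have hxy : x ^ 3 = y ^ 2 := by
      apply hinj
      rw [map_pow, map_pow, hx, hy]
      ring
    obtain ⟨a, ⟨ha2, ha3⟩, -⟩ := hB.1 x y hxy
    refine ⟨a, eq_of_sq_cube_reduced _ _ ?_ ?_⟩
    · rw [← map_pow, ← ha2, hx]
    · rw [← map_pow, ← ha3, hy]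
  · obtain ⟨y, hy⟩ := (hbot _).1 (hS' h1)
    obtain ⟨x, hx⟩ := (hbot _).1 (hS' h2)
    have hxy : (p : B) ^ p * x = y ^ p := by
      apply hinj
      rw [map_mul, map_pow, map_pow, map_natCast, hx, hy]
      ring
    obtain ⟨a, ⟨ha2, ha3⟩, -⟩ := hB.2 p hp x y hxy
    refine ⟨a, eq_of_mul_pow_reduced p hp _ _ ?_ ?_⟩
    · rw [← hy, ha3, map_mul, map_natCast]
    · rw [← map_pow, ← ha2, hx]

theorem isAWNRing_of_ringEquiv (e : B ≃+* W) (hW : HTop.IsAWNRing W) : HTop.IsAWNRing B := by
  refine ⟨?_, ?_⟩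
  · intro x y hxy
    obtain ⟨a, ⟨ha2, ha3⟩, hau⟩ := hW.1 (e x) (e y) (by rw [← map_pow, ← map_pow, hxy])
    refine ⟨e.symm a, ⟨?_, ?_⟩, ?_⟩
    · apply e.injective
      rw [map_pow, e.apply_symm_apply]
      exact ha2
    · apply e.injective
      rw [map_pow, e.apply_symm_apply]
      exact ha3
    · rintro b ⟨hb2, hb3⟩
      have := hau (e b) ⟨by rw [← map_pow, ← hb2], by rw [← map_pow, ← hb3]⟩
      rw [← this, e.symm_apply_apply]
  · intro p hp x y hxy
    obtain ⟨a, ⟨ha2, ha3⟩, hau⟩ := hW.2 p hp (e x) (e y) (by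
      have := congrArg e hxy
      rw [map_mul, map_pow, map_pow, map_natCast] at this
      exact this)
    refine ⟨e.symm a, ⟨?_, ?_⟩, ?_⟩
    · apply e.injective
      rw [map_pow, e.apply_symm_apply]
      exact ha2
    · apply e.injective
      rw [map_mul, map_natCast, e.apply_symm_apply]
      exact ha3
    · rintro b ⟨hb2, hb3⟩
      have := hau (e b) ⟨by rw [← map_pow, ← hb2], by rw [hb3, map_mul, map_natCast]⟩
      rw [← this, e.symm_apply_apply]

end bij

end Groth.Agent.Lib.helper2.AWNRing
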