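import Mathlib.FieldTheory.IsAlgClosed.AlgebraicClosure
import Mathlib.RingTheory.Ideal.GoingUp
import Mathlib.RingTheory.Spectrum.Prime.RingHom

/-! Extending a ring map to a field along an integral ring map (helper2). -/

set_option autoImplicit false
universe u

namespace Groth.Agent.Lib.helper2.ExtendHom

/-- Extend `φ : E → K` along an integral `E → B` (with `ker ≤ ker φ`) to `B → AlgebraicClosure K`. -/
theorem exists_extension_of_ker_le {E B : Type u} [CommRing E] [CommRing B] [Algebra E B]
    [Algebra.IsIntegral E B] (K : Type u) [Field K] (φ : E →+* K)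
    (hker : RingHom.ker (algebraMap E B) ≤ RingHom.ker φ) :
    ∃ ψ : B →+* AlgebraicClosure K,
      ψ.comp (algebraMap E B) = (algebraMap K (AlgebraicClosure K)).comp φ := by
  classical
  have hkerp : (RingHom.ker φ).IsPrime := RingHom.ker_isPrime φ
  obtain ⟨q, -, hq, hqp⟩ := Ideal.exists_ideal_over_prime_of_isIntegral (RingHom.ker φ)
    (⊥ : Ideal B) (by rw [← RingHom.ker_eq_comap_bot]; exact hker)
  let R := E ⧸ q.comap (algebraMap E B)
  let S := B ⧸ q
  let _ : Algebra R S := Ideal.quotientAlgebra
  let M := AlgebraicClosure K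
  let g : R →+* M := Ideal.Quotient.lift _ ((algebraMap K M).comp φ) (by
    intro a ha
    rw [hqp] at ha
    simp [RingHom.mem_ker.1 ha])
  let _ : Algebra R M := g.toAlgebra
  have hg : Function.Injective g := by
    rw [RingHom.injective_iff_ker_eq_bot, eq_bot_iff]
    intro x hx
    obtain ⟨a, rfl⟩ := Ideal.Quotient.mk_surjective x
    rw [RingHom.mem_ker] at hx
    have h1 : (algebraMap K M) (φ a) = 0 := hx
    have h2 : φ a = 0 := by
      have := (algebraMap K M).injective
      exact this (by rw [h1, map_zero])
    rw [Ideal.mem_bot, Ideal.Quotient.eq_zero_iff_mem, hqp]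
    exact h2
  have : IsDomain R := Ideal.Quotient.isDomain _
  have : IsDomain S := Ideal.Quotient.isDomain _
  have : Module.IsTorsionFree R S :=
    (Module.isTorsionFree_iff_algebraMap_injective).2 Ideal.algebraMap_quotient_injective
  have : Module.IsTorsionFree R M := (Module.isTorsionFree_iff_algebraMap_injective).2 hg
  have : Algebra.IsIntegral R S := inferInstance
  have : Algebra.IsAlgebraic R S := Algebra.IsIntegral.isAlgebraic
  let l : S →ₐ[R] M := IsAlgClosed.lift
  refine ⟨l.toRingHom.comp (Ideal.Quotient.mk q), ?_⟩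
  ext a
  have h1 : l (algebraMap R S (Ideal.Quotient.mk _ a)) = algebraMap R M (Ideal.Quotient.mk _ a) :=
    l.commutes _
  exact h1

/-- Ring-hom version: `f : A → B` integral with `Spec f` surjective. -/
theorem exists_extension_of_surjective {A B : Type u} [CommRing A] [CommRing B] (f : A →+* B)
    (hf : f.IsIntegral) (hs : Function.Surjective (PrimeSpectrum.comap f))
    (K : Type u) [Field K] (φ : A →+* K) :
    ∃ ψ : B →+* AlgebraicClosure K, ψ.comp f = (algebraMap K (AlgebraicClosure K)).comp φ := by
  letI : Algebra A B := f.toAlgebra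
  haveI : Algebra.IsIntegral A B := algebraMap_isIntegral_iff.1 hf
  have hker : RingHom.ker (algebraMap A B) ≤ RingHom.ker φ := by
    obtain ⟨Q, hQ⟩ := hs ⟨RingHom.ker φ, RingHom.ker_isPrime φ⟩
    have h1 : Q.asIdeal.comap f = RingHom.ker φ := congrArg PrimeSpectrum.asIdeal hQ
    intro a ha
    rw [← h1, Ideal.mem_comap]
    have : f a = 0 := ha
    rw [this]
    exact Q.asIdeal.zero_mem
  exact exists_extension_of_ker_le K φ hker

end Groth.Agent.Lib.helper2.ExtendHom
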