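import Groth.Agent.Lib.Helper2.SpecResidue
import Groth.Agent.Lib.Helper2.ExtendHom
import Mathlib.RingTheory.TensorProduct.Basic
import Mathlib.RingTheory.IntegralClosure.IsIntegralClosure.Basic
import Mathlib.RingTheory.Nilpotent.Lemmas

/-!
# Weak normalization of `A` in an `A`-algebra `B` (helper2)

For `A → B` with nil kernel there is a largest `A`-subalgebra `B' ⊆ B` with `Spec B' → Spec A` a universal
homeomorphism; it receives every `A`-algebra `C → B` with `Spec C → Spec A` a universal homeomorphism.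
-/

set_option autoImplicit false
universe u

open AlgebraicGeometry
open scoped TensorProduct

namespace Groth.Agent.Lib.helper2.WeakNormIn

open Groth.Agent.Lib.helper2

/-- Transport a universal homeomorphism along a ring isomorphism of the target ring. -/
theorem isUnivHomeo_comp_equiv {A E E' : Type u} [CommRing A] [CommRing E] [CommRing E']
    (ψ : A →+* E) (e : E ≃+* E')
    (h : FlatMor.IsUnivHomeo (Spec.map (CommRingCat.ofHom ψ))) :
    FlatMor.IsUnivHomeo (Spec.map (CommRingCat.ofHom ((e : E →+* E').comp ψ))) := by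
  apply SpecResidue.isUnivHomeo_Spec_of
  · exact RingHom.IsIntegral.trans ψ (e : E →+* E') (SpecResidue.isIntegral_of_isUnivHomeo_Spec ψ h)
      (RingHom.isIntegral_of_surjective _ e.surjective)
  · intro P
    obtain ⟨Q, hQ⟩ := (SpecResidue.comap_bijective_of_isUnivHomeo_Spec ψ h).2 P
    refine ⟨PrimeSpectrum.comap (e.symm : E' →+* E) Q, ?_⟩
    rw [← hQ]
    apply PrimeSpectrum.ext
    ext a
    show (e.symm : E' →+* E) ((e : E →+* E') (ψ a)) ∈ Q.asIdeal ↔ ψ a ∈ Q.asIdeal
    have : (e.symm : E' →+* E) ((e : E →+* E') (ψ a)) = ψ a := e.symm_apply_apply _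
    rw [this]
  · intro K _ φ₁ φ₂ h12
    have h1 : (φ₁.comp (e : E →+* E')).comp ψ = (φ₂.comp (e : E →+* E')).comp ψ := by
      rw [RingHom.comp_assoc, RingHom.comp_assoc]
      exact h12
    have h2 := SpecResidue.hom_ext_of_isUnivHomeo_Spec ψ h K _ _ h1
    ext x
    obtain ⟨y, rfl⟩ := e.surjective x
    exact congrArg (fun f => f y) h2

theorem exists_weakNorm_of_integral (A B : Type u) [CommRing A] [CommRing B] [Algebra A B]
    [Algebra.IsIntegral A B] (hker : RingHom.ker (algebraMap A B) ≤ nilradical A) :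
    ∃ E : Subalgebra A B,
      FlatMor.IsUnivHomeo (Spec.map (CommRingCat.ofHom (algebraMap A E))) ∧
      ∀ (C : Type u) [CommRing C] [Algebra A C] (g : C →ₐ[A] B),
        FlatMor.IsUnivHomeo (Spec.map (CommRingCat.ofHom (algebraMap A C))) → g.range ≤ E := by
  classical
  let T := B ⊗[A] B
  let N : Ideal T := nilradical T
  let f₁ : B →ₐ[A] T ⧸ N := (Ideal.Quotient.mkₐ A N).comp Algebra.TensorProduct.includeLeft
  let f₂ : B →ₐ[A] T ⧸ N := (Ideal.Quotient.mkₐ A N).comp Algebra.TensorProduct.includeRight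
  let E : Subalgebra A B := AlgHom.equalizer f₁ f₂
  have hmem : ∀ b : B, b ∈ E ↔ IsNilpotent (b ⊗ₜ[A] (1 : B) - (1 : B) ⊗ₜ[A] b) := by
    intro b
    rw [AlgHom.mem_equalizer]
    have h1 : f₁ b = Ideal.Quotient.mk N (b ⊗ₜ[A] (1 : B)) := rfl
    have h2 : f₂ b = Ideal.Quotient.mk N ((1 : B) ⊗ₜ[A] b) := rfl
    rw [h1, h2, ← sub_eq_zero, ← map_sub, Ideal.Quotient.eq_zero_iff_mem, mem_nilradical]
  refine ⟨E, ?_, ?_⟩
  · have hEB : Function.Injective (algebraMap E B) := Subtype.val_injective
    have hintE : Algebra.IsIntegral A E := by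
      refine ⟨fun e => ?_⟩
      have := Algebra.IsIntegral.isIntegral (R := A) (e : B)
      exact (isIntegral_algHom_iff E.val Subtype.val_injective).1 this
    have hintB : Algebra.IsIntegral E B := by
      refine ⟨fun b => ?_⟩
      exact (Algebra.IsIntegral.isIntegral (R := A) b).tower_top
    apply SpecResidue.isUnivHomeo_Spec_of
    · exact algebraMap_isIntegral_iff.2 hintE
    · intro P
      have hkerE : RingHom.ker (algebraMap A E) ≤ P.asIdeal := by
        intro a ha
        have h1 : algebraMap A B a = 0 := by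
          have := congrArg (algebraMap E B) (RingHom.mem_ker.1 ha)
          simpa [← IsScalarTower.algebraMap_apply] using this
        have h2 : a ∈ nilradical A := hker (RingHom.mem_ker.2 h1)
        exact (nilradical_le_prime P.asIdeal) h2
      obtain ⟨Q, -, hQ, hQP⟩ := Ideal.exists_ideal_over_prime_of_isIntegral P.asIdeal
        (⊥ : Ideal E) (by rw [← RingHom.ker_eq_comap_bot]; exact hkerE)
      exact ⟨⟨Q, hQ⟩, PrimeSpectrum.ext hQP⟩
    · intro K _ φ₁ φ₂ h
      have hkerEB : ∀ φ : E →+* K, RingHom.ker (algebraMap E B) ≤ RingHom.ker φ := by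
        intro φ
        rw [(RingHom.injective_iff_ker_eq_bot _).1 hEB]
        exact bot_le
      obtain ⟨ψ₁, hψ₁⟩ := ExtendHom.exists_extension_of_ker_le K φ₁ (hkerEB φ₁)
      obtain ⟨ψ₂, hψ₂⟩ := ExtendHom.exists_extension_of_ker_le K φ₂ (hkerEB φ₂)
      let M := AlgebraicClosure K
      let _ : Algebra A M := (ψ₁.comp (algebraMap A B)).toAlgebra
      let g₁ : B →ₐ[A] M := { ψ₁ with commutes' := fun a => rfl }
      have hagree : ∀ a : A, ψ₂ (algebraMap A B a) = ψ₁ (algebraMap A B a) := by
        intro a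
        have e1 : ψ₁ (algebraMap A B a) = algebraMap K M (φ₁ (algebraMap A E a)) := by
          have := congrArg (fun r => r (algebraMap A E a)) hψ₁
          simpa [← IsScalarTower.algebraMap_apply] using this
        have e2 : ψ₂ (algebraMap A B a) = algebraMap K M (φ₂ (algebraMap A E a)) := by
          have := congrArg (fun r => r (algebraMap A E a)) hψ₂
          simpa [← IsScalarTower.algebraMap_apply] using this
        have e3 : φ₁ (algebraMap A E a) = φ₂ (algebraMap A E a) :=
          congrArg (fun r => r a) h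
        rw [e1, e2, e3]
      let g₂ : B →ₐ[A] M := { ψ₂ with commutes' := fun a => hagree a }
      let pm : T →ₐ[A] M := Algebra.TensorProduct.productMap g₁ g₂
      ext e
      have hnil : IsNilpotent ((e : B) ⊗ₜ[A] (1 : B) - (1 : B) ⊗ₜ[A] (e : B)) := (hmem e).1 e.2
      have hnil' : IsNilpotent (pm ((e : B) ⊗ₜ[A] (1 : B) - (1 : B) ⊗ₜ[A] (e : B))) :=
        hnil.map pm
      have hz : pm ((e : B) ⊗ₜ[A] (1 : B) - (1 : B) ⊗ₜ[A] (e : B)) = 0 :=
        hnil'.eq_zero
      have hpm : pm ((e : B) ⊗ₜ[A] (1 : B) - (1 : B) ⊗ₜ[A] (e : B)) = ψ₁ e - ψ₂ e := by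
        rw [map_sub]
        have a1 : pm ((e : B) ⊗ₜ[A] (1 : B)) = g₁ e * g₂ 1 :=
          Algebra.TensorProduct.productMap_apply_tmul _ _ _ _
        have a2 : pm ((1 : B) ⊗ₜ[A] (e : B)) = g₁ 1 * g₂ e :=
          Algebra.TensorProduct.productMap_apply_tmul _ _ _ _
        rw [a1, a2, map_one, map_one, mul_one, one_mul]
        rfl
      rw [hpm, sub_eq_zero] at hz
      have e1 : ψ₁ (e : B) = algebraMap K M (φ₁ e) := congrArg (fun r => r e) hψ₁
      have e2 : ψ₂ (e : B) = algebraMap K M (φ₂ e) := congrArg (fun r => r e) hψ₂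
      rw [e1, e2] at hz
      exact (algebraMap K M).injective hz
  · intro C _ _ g hC
    rintro _ ⟨c, rfl⟩
    show g c ∈ E
    rw [hmem, nilpotent_iff_mem_prime]
    intro J hJ
    let L := J.ResidueField
    let χ : T →+* L := algebraMap T L
    let χ₁ : C →+* L := (χ.comp (Algebra.TensorProduct.includeLeft : B →ₐ[A] T).toRingHom).comp
      g.toRingHom
    let χ₂ : C →+* L := (χ.comp (Algebra.TensorProduct.includeRight : B →ₐ[A] T).toRingHom).comp
      g.toRingHom
    have hχ : χ₁.comp (algebraMap A C) = χ₂.comp (algebraMap A C) := by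
      ext a
      have b1 : (Algebra.TensorProduct.includeLeft : B →ₐ[A] T) (algebraMap A B a) =
          algebraMap A T a := AlgHom.commutes _ a
      have b2 : (Algebra.TensorProduct.includeRight : B →ₐ[A] T) (algebraMap A B a) =
          algebraMap A T a := AlgHom.commutes _ a
      have c1 : χ₁ (algebraMap A C a) = χ ((Algebra.TensorProduct.includeLeft : B →ₐ[A] T)
          (g (algebraMap A C a))) := rfl
      have c2 : χ₂ (algebraMap A C a) = χ ((Algebra.TensorProduct.includeRight : B →ₐ[A] T)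
          (g (algebraMap A C a))) := rfl
      change χ₁ (algebraMap A C a) = χ₂ (algebraMap A C a)
      rw [c1, c2, AlgHom.commutes, b1, b2]
    have heq := SpecResidue.hom_ext_of_isUnivHomeo_Spec (algebraMap A C) hC L χ₁ χ₂ hχ
    have h1 := congrArg (fun r => r c) heq
    have h2 : χ (g c ⊗ₜ[A] (1 : B)) = χ ((1 : B) ⊗ₜ[A] g c) := h1
    have h3 : χ (g c ⊗ₜ[A] (1 : B) - (1 : B) ⊗ₜ[A] g c) = 0 := by
      rw [map_sub, h2, sub_self]
    exact (Ideal.algebraMap_residueField_eq_zero).1 h3

theorem exists_weakNorm (A B : Type u) [CommRing A] [CommRing B] [Algebra A B]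
    (hker : RingHom.ker (algebraMap A B) ≤ nilradical A) :
    ∃ B' : Subalgebra A B,
      FlatMor.IsUnivHomeo (Spec.map (CommRingCat.ofHom (algebraMap A B'))) ∧
      ∀ (C : Type u) [CommRing C] [Algebra A C] (g : C →ₐ[A] B),
        FlatMor.IsUnivHomeo (Spec.map (CommRingCat.ofHom (algebraMap A C))) → g.range ≤ B' := by
  classical
  set Bi : Subalgebra A B := integralClosure A B with hBi
  haveI : Algebra.IsIntegral A Bi := inferInstance
  have hvalinj : Function.Injective Bi.val := Subtype.val_injective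
  have hkeri : RingHom.ker (algebraMap A Bi) ≤ nilradical A := by
    intro a ha
    apply hker
    rw [RingHom.mem_ker] at ha ⊢
    have := congrArg Bi.val ha
    simpa using this
  obtain ⟨E, hE, hmax⟩ := exists_weakNorm_of_integral A Bi hkeri
  refine ⟨E.map Bi.val, ?_, ?_⟩
  · let e : E ≃ₐ[A] E.map Bi.val := Subalgebra.equivMapOfInjective E Bi.val hvalinj
    have h1 := isUnivHomeo_comp_equiv (algebraMap A E) e.toRingEquiv hE
    have h2 : ((e.toRingEquiv : E →+* E.map Bi.val).comp (algebraMap A E)) =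
        algebraMap A (E.map Bi.val) := by
      ext a
      exact congrArg Subtype.val (e.commutes a)
    rw [h2] at h1
    exact h1
  · intro C _ _ g hC
    have hCint : (algebraMap A C).IsIntegral := SpecResidue.isIntegral_of_isUnivHomeo_Spec _ hC
    have hgBi : ∀ c : C, g c ∈ Bi := by
      intro c
      have h1 : IsIntegral A c := hCint c
      exact h1.map g
    let g' : C →ₐ[A] Bi := g.codRestrict Bi hgBi
    have h1 := hmax C g' hC
    rintro _ ⟨c, rfl⟩
    exact ⟨g' c, h1 ⟨c, rfl⟩, rfl⟩

end Groth.Agent.Lib.helper2.WeakNormIn
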