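import Mathlib
import Groth.Agent.Lib.Helper2.AWNRing
import Groth.Agent.S0416
import Groth.Agent.S7419
import Groth.Agent.S7422
import Groth.Agent.S7423

/-!
# Absolute weak normalization of schemes (helper2)
-/

set_option autoImplicit false
universe u

open AlgebraicGeometry CategoryTheory Limits MorphismProperty

namespace Groth.Agent.Lib.helper2.AWNScheme

open Groth.Agent.Lib.helper2 Groth.Agent.Lib.helper2.AWNRing

instance isZariskiLocalAtTarget_isUnivHomeo :
    IsZariskiLocalAtTarget (FlatMor.IsUnivHomeo : MorphismProperty Scheme.{u}) := by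
  unfold FlatMor.IsUnivHomeo
  apply universally_isZariskiLocalAtTarget
  intro X Y f ι U hU H
  simp_rw [topologically, morphismRestrict_base] at H
  exact (hU.isHomeomorph_iff_restrictPreimage f.continuous).mpr H

instance : (FlatMor.IsUnivHomeo : MorphismProperty Scheme.{u}).IsStableUnderBaseChange :=
  Groth.Agent.S0416.stableBC

instance : (FlatMor.IsUnivHomeo : MorphismProperty Scheme.{u}).IsMultiplicative :=
  Groth.Agent.S0416.multiplicative

theorem isHomeomorph_of_isUnivHomeo {X Y : Scheme.{u}} (f : X ⟶ Y) (h : FlatMor.IsUnivHomeo f) :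
    IsHomeomorph f :=
  MorphismProperty.universally_le _ _ h

theorem isAffineHom_of_isUnivHomeo {X Y : Scheme.{u}} (f : X ⟶ Y) (h : FlatMor.IsUnivHomeo f) :
    IsAffineHom f := by
  have hh := isHomeomorph_of_isUnivHomeo f h
  refine isAffineHom_of_isInducing f hh.isInducing ?_
  rw [hh.surjective.range_eq]
  exact isClosed_univ

/-- Ring maps out of the target of a universal homeomorphism into a reduced ring are determined
by their restriction. -/
theorem ringHom_ext_of_isUnivHomeo {W D R : Type u} [CommRing W] [CommRing D] [CommRing R]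
    [IsReduced R] (ι : W →+* D) (hι : FlatMor.IsUnivHomeo (Spec.map (CommRingCat.ofHom ι)))
    (g₁ g₂ : D →+* R) (h : g₁.comp ι = g₂.comp ι) : g₁ = g₂ := by
  refine RingHom.ext (fun d => ?_)
  refine eq_of_forall_residue _ _ (fun q _ => ?_)
  have h1 : ((algebraMap R q.ResidueField).comp g₁).comp ι =
      ((algebraMap R q.ResidueField).comp g₂).comp ι := by
    rw [RingHom.comp_assoc, RingHom.comp_assoc, h]
  have h2 := SpecResidue.hom_ext_of_isUnivHomeo_Spec ι hι _ _ _ h1
  exact congrArg (fun f => f d) h2

section sec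

variable {A W : Type u} [CommRing A] [CommRing W]

/-- A universal homeomorphism onto the spectrum of an absolute weak normalization has a unique
section. -/
theorem existsUnique_section (φ : A →+* W) (hφ : HTop.IsRingAWN φ) {P : Scheme.{u}}
    (p : P ⟶ Spec (CommRingCat.of W)) (hp : FlatMor.IsUnivHomeo p) :
    ∃! s : Spec (CommRingCat.of W) ⟶ P, s ≫ p = 𝟙 _ := by
  haveI := isReduced_of_isRingAWN φ hφ
  haveI : IsAffineHom p := isAffineHom_of_isUnivHomeo p hp
  haveI : IsAffine P := isAffine_of_isAffineHom p
  let e : P ≅ Spec Γ(P, ⊤) := P.isoSpec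
  obtain ⟨ι, hι⟩ := Spec.map_surjective (e.inv ≫ p)
  have hUH : FlatMor.IsUnivHomeo (Spec.map (CommRingCat.ofHom ι.hom)) := by
    have h1 : Spec.map (CommRingCat.ofHom ι.hom) = e.inv ≫ p := hι
    rw [h1]
    exact (MorphismProperty.cancel_left_of_respectsIso _ e.inv p).2 hp
  obtain ⟨r, hr⟩ := exists_retract φ hφ ι.hom hUH
  have hr' : ι ≫ CommRingCat.ofHom r = 𝟙 _ := by
    apply CommRingCat.hom_ext
    exact hr
  refine ⟨Spec.map (CommRingCat.ofHom r) ≫ e.inv, ?_, ?_⟩
  · show (Spec.map (CommRingCat.ofHom r) ≫ e.inv) ≫ p = 𝟙 _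
    rw [Category.assoc, ← hι, ← Spec.map_comp, hr', Spec.map_id]
  · intro s' hs'
    obtain ⟨r', hr'2⟩ := Spec.map_surjective (s' ≫ e.hom)
    have h1 : Spec.map (ι ≫ r') = Spec.map (𝟙 _) := by
      rw [Spec.map_comp, hr'2, hι, Category.assoc, Iso.hom_inv_id_assoc, hs', Spec.map_id]
    have h2 : ι ≫ r' = 𝟙 _ := Spec.map_injective h1
    have h3 : r'.hom.comp ι.hom = r.comp ι.hom := by
      rw [hr]
      have := congrArg CommRingCat.Hom.hom h2
      exact this
    have h4 : r'.hom = r := ringHom_ext_of_isUnivHomeo ι.hom hUH _ _ h3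
    have h5 : r' = CommRingCat.ofHom r := CommRingCat.hom_ext h4
    rw [← h5, hr'2, Category.assoc, Iso.hom_inv_id, Category.comp_id]

/-- The spectrum of an absolute weak normalization lifts uniquely along universal homeomorphisms. -/
theorem existsUnique_lift (φ : A →+* W) (hφ : HTop.IsRingAWN φ) {X Y : Scheme.{u}}
    (t : Spec (CommRingCat.of W) ⟶ X) (π : Y ⟶ X) (hπ : FlatMor.IsUnivHomeo π) :
    ∃! h : Spec (CommRingCat.of W) ⟶ Y, h ≫ π = t := by
  have hp : FlatMor.IsUnivHomeo (pullback.snd π t) :=
    MorphismProperty.pullback_snd _ _ hπ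
  obtain ⟨s, hs, hsu⟩ := existsUnique_section φ hφ (pullback.snd π t) hp
  refine ⟨s ≫ pullback.fst π t, ?_, ?_⟩
  · show (s ≫ pullback.fst π t) ≫ π = t
    rw [Category.assoc, pullback.condition, ← Category.assoc, hs, Category.id_comp]
  · intro h' hh'
    have h1 : pullback.lift h' (𝟙 _) (by rw [hh', Category.id_comp]) = s :=
      hsu _ (pullback.lift_snd _ _ _)
    rw [← h1, pullback.lift_fst]

end sec

section chosen

/-- a chosen absolute weak normalization of a ring. -/
noncomputable def awn (A : Type u) [CommRing A] : Type u :=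
  Classical.choose (Groth.Agent.S7422.result A)

noncomputable instance (A : Type u) [CommRing A] : CommRing (awn A) :=
  Classical.choose (Classical.choose_spec (Groth.Agent.S7422.result A))

noncomputable def awnMap (A : Type u) [CommRing A] : A →+* awn A :=
  Classical.choose (Classical.choose_spec (Classical.choose_spec (Groth.Agent.S7422.result A)))

theorem awnMap_spec (A : Type u) [CommRing A] : HTop.IsRingAWN (awnMap A) :=
  Classical.choose_spec (Classical.choose_spec (Classical.choose_spec (Groth.Agent.S7422.result A)))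

instance (A : Type u) [CommRing A] : IsReduced (awn A) :=
  isReduced_of_isRingAWN _ (awnMap_spec A)

variable {A A' A'' : Type u} [CommRing A] [CommRing A'] [CommRing A'']

theorem existsUnique_awnFunc (ρ : A →+* A') :
    ∃! g : awn A →+* awn A', g.comp (awnMap A) = (awnMap A').comp ρ := by
  obtain ⟨h, hh, hhu⟩ := existsUnique_lift (awnMap A') (awnMap_spec A')
    (Spec.map (CommRingCat.ofHom ((awnMap A').comp ρ)))
    (Spec.map (CommRingCat.ofHom (awnMap A))) (awnMap_spec A).1
  obtain ⟨g, hg⟩ := Spec.map_surjective h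
  have h1 : Spec.map (CommRingCat.ofHom (awnMap A) ≫ g) =
      Spec.map (CommRingCat.ofHom ((awnMap A').comp ρ)) := by
    rw [Spec.map_comp, hg]
    exact hh
  have h2 := Spec.map_injective h1
  refine ⟨g.hom, ?_, ?_⟩
  · exact congrArg CommRingCat.Hom.hom h2
  · intro g' hg'
    have h3 : Spec.map (CommRingCat.ofHom g') = h := by
      apply hhu
      show Spec.map (CommRingCat.ofHom g') ≫ Spec.map (CommRingCat.ofHom (awnMap A)) = _
      rw [← Spec.map_comp, ← CommRingCat.ofHom_comp, hg']
    rw [← hg] at h3
    have h4 := Spec.map_injective h3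
    exact congrArg CommRingCat.Hom.hom h4

noncomputable def awnFunc (ρ : A →+* A') : awn A →+* awn A' :=
  (existsUnique_awnFunc ρ).choose

theorem awnFunc_comp_awnMap (ρ : A →+* A') :
    (awnFunc ρ).comp (awnMap A) = (awnMap A').comp ρ :=
  (existsUnique_awnFunc ρ).choose_spec.1

theorem awnFunc_unique (ρ : A →+* A') (g : awn A →+* awn A')
    (hg : g.comp (awnMap A) = (awnMap A').comp ρ) : g = awnFunc ρ :=
  (existsUnique_awnFunc ρ).choose_spec.2 g hg

theorem awnFunc_id : awnFunc (RingHom.id A) = RingHom.id (awn A) :=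
  (awnFunc_unique _ _ (by rw [RingHom.id_comp, RingHom.comp_id])).symm

theorem awnFunc_comp (ρ : A →+* A') (ρ' : A' →+* A'') :
    awnFunc (ρ'.comp ρ) = (awnFunc ρ').comp (awnFunc ρ) := by
  refine (awnFunc_unique _ _ ?_).symm
  rw [RingHom.comp_assoc, awnFunc_comp_awnMap, ← RingHom.comp_assoc, awnFunc_comp_awnMap,
    RingHom.comp_assoc]

end chosen

section loc

variable {A A' W L : Type u} [CommRing A] [CommRing A'] [CommRing W] [CommRing L]

/-- Localizing a universal homeomorphism `A → W` at `f ∈ A` gives a universal homeomorphism. -/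
theorem isUnivHomeo_localizationAway (f : A) [Algebra A A'] [IsLocalization.Away f A']
    (φ : A →+* W) (hφ : FlatMor.IsUnivHomeo (Spec.map (CommRingCat.ofHom φ)))
    [Algebra W L] [IsLocalization.Away (φ f) L] (lam : A' →+* L)
    (hlam : lam.comp (algebraMap A A') = (algebraMap W L).comp φ) :
    FlatMor.IsUnivHomeo (Spec.map (CommRingCat.ofHom lam)) := by
  have hlam' : ∀ a : A, lam (algebraMap A A' a) = algebraMap W L (φ a) := fun a =>
    congrArg (fun g => g a) hlam
  refine SpecResidue.isUnivHomeo_Spec_of lam ?_ ?_ ?_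
  · -- integrality
    have hφint := SpecResidue.isIntegral_of_isUnivHomeo_Spec φ hφ
    intro z
    obtain ⟨n, w, hz⟩ := IsLocalization.Away.surj (φ f) z
    obtain ⟨v, hv⟩ : ∃ v : A', algebraMap A A' f * v = 1 := by
      have hu : IsUnit (algebraMap A A' f) := IsLocalization.Away.algebraMap_isUnit f
      obtain ⟨v, hv⟩ := hu.exists_right_inv
      exact ⟨v, hv⟩
    have hv' : algebraMap W L (φ f) * lam v = 1 := by
      rw [← hlam', ← map_mul, hv, map_one]
    have hz' : z = algebraMap W L w * lam (v ^ n) := by
      rw [← hz, map_pow, mul_assoc, ← mul_pow, hv', one_pow, mul_one]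
    rw [hz']
    refine RingHom.IsIntegralElem.mul lam ?_ (lam.isIntegralElem_map)
    obtain ⟨P, hPm, hP⟩ := hφint w
    refine ⟨P.map (algebraMap A A'), hPm.map _, ?_⟩
    rw [Polynomial.eval₂_map, hlam, ← Polynomial.hom_eval₂, hP, map_zero]
  · -- surjectivity on spectra
    intro 𝔭'
    obtain ⟨Q, hQ⟩ := (SpecResidue.comap_bijective_of_isUnivHomeo_Spec φ hφ).2
      (PrimeSpectrum.comap (algebraMap A A') 𝔭')
    have hfQ : φ f ∉ Q.asIdeal := by
      intro hmem
      have h1 : f ∈ (PrimeSpectrum.comap φ Q).asIdeal := hmem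
      rw [hQ] at h1
      have h2 : algebraMap A A' f ∈ 𝔭'.asIdeal := h1
      exact 𝔭'.isPrime.ne_top (Ideal.eq_top_of_isUnit_mem _ h2
        (IsLocalization.Away.algebraMap_isUnit f))
    have hdisj : Disjoint (Submonoid.powers (φ f) : Set W) ↑Q.asIdeal :=
      (Ideal.disjoint_powers_iff_notMem_of_isPrime (φ f)).2 hfQ
    have hQ'prime : (Ideal.map (algebraMap W L) Q.asIdeal).IsPrime :=
      IsLocalization.isPrime_of_isPrime_disjoint (Submonoid.powers (φ f)) L _ Q.isPrime hdisj
    have hQ'comap : (Ideal.map (algebraMap W L) Q.asIdeal).comap (algebraMap W L) = Q.asIdeal :=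
      IsLocalization.under_map_of_isPrime_disjoint (Submonoid.powers (φ f)) L Q.isPrime hdisj
    refine ⟨⟨_, hQ'prime⟩, ?_⟩
    apply PrimeSpectrum.localization_comap_injective A' (Submonoid.powers f)
    rw [← hQ]
    apply PrimeSpectrum.ext
    show ((Ideal.map (algebraMap W L) Q.asIdeal).comap lam).comap (algebraMap A A') =
      Q.asIdeal.comap φ
    rw [Ideal.comap_comap, hlam, ← Ideal.comap_comap, hQ'comap]
  · intro K _ χ₁ χ₂ h12
    have h1 : (χ₁.comp (algebraMap W L)).comp φ = (χ₂.comp (algebraMap W L)).comp φ := by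
      rw [RingHom.comp_assoc, RingHom.comp_assoc, ← hlam, ← RingHom.comp_assoc,
        ← RingHom.comp_assoc, h12]
    have h2 := SpecResidue.hom_ext_of_isUnivHomeo_Spec φ hφ K _ _ h1
    exact IsLocalization.ringHom_ext (Submonoid.powers (φ f)) h2

end loc

section loc2

variable {A A' W W' : Type u} [CommRing A] [CommRing A'] [CommRing W] [CommRing W']

/-- Absolute weak normalization commutes with localization at one element. -/
theorem isLocalization_away_awn (f : A) [Algebra A A'] [IsLocalization.Away f A']
    (φ : A →+* W) (hφ : HTop.IsRingAWN φ) (φ' : A' →+* W') (hφ' : HTop.IsRingAWN φ')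
    (g : W →+* W') (hg : g.comp φ = φ'.comp (algebraMap A A')) :
    letI := g.toAlgebra
    IsLocalization.Away (φ f) W' := by
  haveI := isReduced_of_isRingAWN φ' hφ'
  let L := Localization.Away (φ f)
  have hunit : IsUnit (((algebraMap W L).comp φ) f) :=
    IsLocalization.Away.algebraMap_isUnit (φ f)
  let lam : A' →+* L := IsLocalization.Away.lift f hunit
  have hlam : lam.comp (algebraMap A A') = (algebraMap W L).comp φ :=
    IsLocalization.Away.lift_comp f hunit
  have hlamUH := isUnivHomeo_localizationAway f φ hφ.1 lam hlam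
  have hL : HTop.IsAWNRing L :=
    Groth.Agent.S7419.result.1 W (φ f) (isAWNRing_of_isRingAWN φ hφ)
  obtain ⟨χ, hχ, -⟩ := hφ'.2 L lam hlamUH
  have hbij : Function.Bijective χ :=
    (Groth.Agent.S7423.result φ' hφ' lam hlamUH χ hχ).2 hL
  have hgχ : g = χ.comp (algebraMap W L) := by
    refine ringHom_ext_of_isUnivHomeo φ hφ.1 _ _ ?_
    rw [hg, RingHom.comp_assoc, ← hlam, ← RingHom.comp_assoc, hχ]
  letI := g.toAlgebra
  let e : L ≃ₐ[W] W' := AlgEquiv.ofBijective
    { χ with commutes' := fun w => (congrArg (fun k => k w) hgχ).symm } hbij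
  exact IsLocalization.isLocalization_of_algEquiv (Submonoid.powers (φ f)) e

end loc2

section functor

/-- absolute weak normalization as a functor on commutative rings. -/
noncomputable def awnFunctor : CommRingCat.{u} ⥤ CommRingCat.{u} where
  obj R := CommRingCat.of (awn R)
  map {R S} f := CommRingCat.ofHom (awnFunc f.hom)
  map_id R := by
    apply CommRingCat.hom_ext
    exact awnFunc_id
  map_comp f g := by
    apply CommRingCat.hom_ext
    exact awnFunc_comp f.hom g.hom

open Scheme AffineZariskiSite

variable (X : Scheme.{u})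

/-- the presheaf of absolute weak normalizations on the affine opens of `X`. -/
noncomputable def awnPresheaf : X.AffineZariskiSiteᵒᵖ ⥤ CommRingCat.{u} :=
  ((AffineZariskiSite.toOpensFunctor X).op ⋙ X.presheaf) ⋙ awnFunctor

/-- the structure map `𝒪_X ⟶ 𝒪_X^awn`. -/
noncomputable def awnStr :
    (AffineZariskiSite.toOpensFunctor X).op ⋙ X.presheaf ⟶ awnPresheaf X where
  app U := CommRingCat.ofHom (awnMap _)
  naturality U V i := by
    apply CommRingCat.hom_ext
    exact (awnFunc_comp_awnMap _).symm

theorem awnStr_coequifibered : (awnStr X).Coequifibered := by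
  rw [AffineZariskiSite.coequifibered_iff_forall_isLocalizationAway]
  intro U f
  have := U.2.isLocalization_basicOpen f
  exact isLocalization_away_awn f (awnMap Γ(X, U.1)) (awnMap_spec _)
    (awnMap Γ(X, X.basicOpen f)) (awnMap_spec _)
    (awnFunc (X.presheaf.map (homOfLE (X.basicOpen_le f)).op).hom) (awnFunc_comp_awnMap _)

end functor

section main

open Scheme AffineZariskiSite

/-- the gluing data for the absolute weak normalization of `X`. -/
noncomputable def awnGlueData (X : Scheme.{u}) :=
  AffineZariskiSite.relativeGluingData (awnStr_coequifibered X)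

instance (X : Scheme.{u}) : ((awnGlueData X).functor ⋙ Scheme.forget).IsLocallyDirected :=
  Cover.RelativeGluingData.instIsLocallyDirectedI₀CompFunctorForgetOfIsThin ..

theorem isAWNormalization_toBase (X : Scheme.{u}) :
    HTop.IsAWNormalization (awnGlueData X).toBase := by
  let d := awnGlueData X
  refine ⟨?_, ?_⟩
  · rw [IsZariskiLocalAtTarget.iff_of_openCover (P := FlatMor.IsUnivHomeo)
      (AffineZariskiSite.directedCover X)]
    intro U
    have hpb := (d.isPullback_natTrans_ι_toBase U).flip
    have h1 : hpb.isoPullback.hom ≫ pullback.snd _ _ = d.natTrans.app U :=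
      hpb.isoPullback_hom_snd
    have h2 : FlatMor.IsUnivHomeo (d.natTrans.app U) := by
      show FlatMor.IsUnivHomeo (Spec.map (CommRingCat.ofHom (awnMap _)) ≫
        (AffineZariskiSite.restrictIsoSpec X).inv.app U)
      exact (MorphismProperty.cancel_right_of_respectsIso _ _ _).2 (awnMap_spec _).1
    show FlatMor.IsUnivHomeo (pullback.snd d.toBase ((AffineZariskiSite.directedCover X).f U))
    refine (MorphismProperty.cancel_left_of_respectsIso FlatMor.IsUnivHomeo hpb.isoPullback.hom
      _).1 ?_
    rw [← h1] at h2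
    exact h2
  · intro Y π hπ
    have hU : ∀ U : X.AffineZariskiSite, ∃! h : d.functor.obj U ⟶ Y,
        h ≫ π = colimit.ι d.functor U ≫ d.toBase := by
      intro U
      exact existsUnique_lift (awnMap Γ(X, U.1)) (awnMap_spec _)
        (colimit.ι d.functor U ≫ d.toBase) π hπ
    let h : ∀ U : X.AffineZariskiSite, d.functor.obj U ⟶ Y := fun U => (hU U).choose
    have hh : ∀ U, h U ≫ π = colimit.ι d.functor U ≫ d.toBase := fun U => (hU U).choose_spec.1
    have hhu : ∀ U (k : d.functor.obj U ⟶ Y), k ≫ π = colimit.ι d.functor U ≫ d.toBase → k = h U :=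
      fun U => (hU U).choose_spec.2
    let c : Cocone d.functor :=
      { pt := Y
        ι :=
          { app := h
            naturality := by
              intro U V i
              dsimp only [Functor.const_obj_obj, Functor.const_obj_map]
              rw [Category.comp_id]
              apply hhu
              rw [Category.assoc, hh, colimit.w_assoc] } }
    refine ⟨colimit.desc d.functor c, ?_, ?_⟩
    · apply colimit.hom_ext
      intro U
      rw [colimit.ι_desc_assoc]
      exact hh U
    · intro h' hh'
      apply colimit.hom_ext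
      intro U
      rw [colimit.ι_desc]
      exact hhu U _ (by rw [Category.assoc, hh'])

theorem exists_isAWNormalization (X : Scheme.{u}) :
    ∃ (X' : Scheme.{u}) (ν : X' ⟶ X), HTop.IsAWNormalization ν :=
  ⟨_, _, isAWNormalization_toBase X⟩

end main

end Groth.Agent.Lib.helper2.AWNScheme
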