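import Mathlib
import Groth.Agent.Lib.Helper2.AWNScheme
import Groth.Agent.S7420
import Groth.Agent.S7421

/-!
# Properties of absolutely weakly normal schemes (helper2)
-/

set_option autoImplicit false
universe u

open AlgebraicGeometry CategoryTheory Limits MorphismProperty

namespace Groth.Agent.Lib.helper2.AWNScheme

open Groth.Agent.Lib.helper2 Groth.Agent.Lib.helper2.AWNRing

theorem isAWNRing_of_iso {R S : CommRingCat.{u}} (e : R ≅ S) (h : HTop.IsAWNRing S) :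
    HTop.IsAWNRing R :=
  isAWNRing_of_ringEquiv e.commRingCatIsoToRingEquiv h

theorem isAWN_Spec (W : CommRingCat.{u}) (h : HTop.IsAWNRing W) : HTop.IsAWN (Spec W) := by
  intro x
  refine ⟨⟨⊤, isAffineOpen_top _⟩, trivial, ?_⟩
  exact isAWNRing_of_iso (Scheme.ΓSpecIso W) h

theorem isAWN_of_openCover {Y : Scheme.{u}} (𝒰 : Y.OpenCover) (h : ∀ i, HTop.IsAWN (𝒰.X i)) :
    HTop.IsAWN Y := by
  intro y
  obtain ⟨i, x, rfl⟩ := 𝒰.exists_eq y
  obtain ⟨U, hxU, hU⟩ := h i x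
  refine ⟨⟨(𝒰.f i) ''ᵁ U.1, U.2.image_of_isOpenImmersion (𝒰.f i)⟩, ⟨x, hxU, rfl⟩, ?_⟩
  exact isAWNRing_of_iso ((𝒰.f i).appIso U.1) hU

theorem isAWN_of_isOpenImmersion {Y Z : Scheme.{u}} (f : Y ⟶ Z) [IsOpenImmersion f]
    (h : HTop.IsAWN Z) : HTop.IsAWN Y := by
  intro y
  obtain ⟨_, ⟨V, hV, rfl⟩, hyV, -⟩ :=
    Y.isBasis_affineOpens.exists_subset_of_mem_open (Set.mem_univ y) isOpen_univ
  refine ⟨⟨V, hV⟩, hyV, ?_⟩
  have h1 := ((Groth.Agent.S7420.result Z).2.1 h) ⟨f ''ᵁ V, hV.image_of_isOpenImmersion f⟩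
  exact isAWNRing_of_iso (f.appIso V).symm h1

theorem isReduced_of_isAWN {Y : Scheme.{u}} (h : HTop.IsAWN Y) : AlgebraicGeometry.IsReduced Y := by
  refine Groth.Agent.S7421.result.2 Y ?_
  intro y
  obtain ⟨U, hyU, hU⟩ := h y
  exact ⟨U, hyU, hU.1⟩

theorem isAWN_awnGlued (X : Scheme.{u}) : HTop.IsAWN (awnGlueData X).glued := by
  refine isAWN_of_openCover (awnGlueData X).cover ?_
  intro U
  exact isAWN_Spec (CommRingCat.of (awn Γ(X, U.1)))
    (isAWNRing_of_isRingAWN (awnMap Γ(X, U.1)) (awnMap_spec _))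

/-- absolute weak normalizations are unique up to isomorphism. -/
theorem exists_iso_of_isAWNormalization {X X₁ X₂ : Scheme.{u}} (ν₁ : X₁ ⟶ X) (ν₂ : X₂ ⟶ X)
    (h₁ : HTop.IsAWNormalization ν₁) (h₂ : HTop.IsAWNormalization ν₂) :
    ∃ e : X₁ ≅ X₂, e.hom ≫ ν₂ = ν₁ := by
  obtain ⟨a, ha, -⟩ := h₁.2 X₂ ν₂ h₂.1
  obtain ⟨b, hb, -⟩ := h₂.2 X₁ ν₁ h₁.1
  obtain ⟨c, -, hc⟩ := h₁.2 X₁ ν₁ h₁.1
  obtain ⟨c', -, hc'⟩ := h₂.2 X₂ ν₂ h₂.1
  refine ⟨⟨a, b, ?_, ?_⟩, ha⟩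
  · have e1 : (a ≫ b) ≫ ν₁ = ν₁ := by rw [Category.assoc, hb, ha]
    rw [hc (a ≫ b) e1, hc (𝟙 _) (Category.id_comp _)]
  · have e1 : (b ≫ a) ≫ ν₂ = ν₂ := by rw [Category.assoc, ha, hb]
    rw [hc' (b ≫ a) e1, hc' (𝟙 _) (Category.id_comp _)]

theorem isAWN_of_isAWNormalization {X X' : Scheme.{u}} (ν : X' ⟶ X)
    (hν : HTop.IsAWNormalization ν) : HTop.IsAWN X' := by
  obtain ⟨e, -⟩ := exists_iso_of_isAWNormalization ν _ hν (isAWNormalization_toBase X)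
  exact isAWN_of_isOpenImmersion e.hom (isAWN_awnGlued X)

/-- A universal homeomorphism from a reduced scheme onto an affine scheme with absolutely weakly
normal coordinate ring is an isomorphism. -/
theorem isIso_of_isAWNRing_of_isAffine {Y Z : Scheme.{u}} [IsAffine Y] (ψ : Z ⟶ Y)
    (hY : HTop.IsAWNRing Γ(Y, ⊤)) (hψ : FlatMor.IsUnivHomeo ψ) [AlgebraicGeometry.IsReduced Z] :
    IsIso ψ := by
  haveI : IsAffineHom ψ := isAffineHom_of_isUnivHomeo ψ hψ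
  haveI : IsAffine Z := isAffine_of_isAffineHom ψ
  have h1 : FlatMor.IsUnivHomeo (Spec.map ψ.appTop) :=
    (MorphismProperty.arrow_mk_iso_iff _ (arrowIsoSpecΓOfIsAffine ψ)).1 hψ
  have h2 : Function.Bijective ψ.appTop.hom := bijective_of_isAWNRing hY ψ.appTop.hom h1
  have h3 : IsIso ψ.appTop := by
    rw [ConcreteCategory.isIso_iff_bijective]
    exact h2
  have h4 : IsIso (Spec.map ψ.appTop) := inferInstance
  exact ((MorphismProperty.isomorphisms Scheme).arrow_mk_iso_iff (arrowIsoSpecΓOfIsAffine ψ)).2 h4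

/-- A universal homeomorphism from a reduced scheme to an absolutely weakly normal scheme is an
isomorphism. -/
theorem isIso_of_isAWN {Y Z : Scheme.{u}} (ψ : Z ⟶ Y) (hY : HTop.IsAWN Y)
    (hψ : FlatMor.IsUnivHomeo ψ) [AlgebraicGeometry.IsReduced Z] : IsIso ψ := by
  have hall := (Groth.Agent.S7420.result Y).2.1 hY
  refine IsZariskiLocalAtTarget.of_iSup_eq_top (P := MorphismProperty.isomorphisms Scheme)
    (fun U : Y.affineOpens => U.1) (iSup_affineOpens_eq_top Y) ?_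
  intro U
  haveI : IsAffine (U.1 : Scheme) := U.2
  have h1 : FlatMor.IsUnivHomeo (ψ ∣_ U.1) := IsZariskiLocalAtTarget.restrict hψ U.1
  have h2 : HTop.IsAWNRing Γ((U.1 : Scheme), ⊤) :=
    isAWNRing_of_iso (Scheme.Opens.topIso U.1) (hall U)
  exact isIso_of_isAWNRing_of_isAffine (ψ ∣_ U.1) h2 h1

end Groth.Agent.Lib.helper2.AWNScheme
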