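import Mathlib
import Groth.Agent.Lib.Helper2.AWNScheme
import Groth.Agent.S8992

/-!
# Perfect closures and absolute weak normalization (helper2)
-/

set_option autoImplicit false
universe u

open AlgebraicGeometry CategoryTheory

namespace Groth.Agent.Lib.helper2.PerfAWN

open Groth.Agent.Lib.helper2 Groth.Agent.Lib.helper2.AWNRing Groth.Agent.Lib.helper2.AWNScheme

variable {A B : Type u} [CommRing A] [CommRing B]

/-- A `p`-radical ring map in characteristic `p` is a universal homeomorphism on spectra. -/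
theorem isUnivHomeo_of_isPRadical (p : ℕ) [Fact p.Prime] (hp0 : (p : A) = 0) (i : A →+* B)
    [IsPRadical i p] : FlatMor.IsUnivHomeo (Spec.map (CommRingCat.ofHom i)) := by
  have hp : p.Prime := Fact.out
  refine SpecResidue.isUnivHomeo_Spec_of i ?_ ?_ ?_
  · intro b
    obtain ⟨n, a, ha⟩ := IsPRadical.pow_mem i p b
    refine ⟨Polynomial.X ^ (p ^ n) - Polynomial.C a,
      Polynomial.monic_X_pow_sub_C a (pow_ne_zero n hp.ne_zero), ?_⟩
    simp [ha]
  · intro 𝔭
    letI : Algebra A B := i.toAlgebra
    haveI : Algebra.IsIntegral A B := by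
      refine ⟨fun b => ?_⟩
      obtain ⟨n, a, ha⟩ := IsPRadical.pow_mem i p b
      refine IsIntegral.of_pow (n := p ^ n) (pow_pos hp.pos n) ?_
      have : b ^ p ^ n = algebraMap A B a := ha.symm
      rw [this]
      exact isIntegral_algebraMap
    obtain ⟨Q, -, hQ, hQP⟩ := Ideal.exists_ideal_over_prime_of_isIntegral 𝔭.asIdeal
      (⊥ : Ideal B) (by
        rw [← RingHom.ker_eq_comap_bot]
        intro a ha
        have h1 : a ∈ pNilradical A p := IsPRadical.ker_le i p ha
        rw [pNilradical_prime hp] at h1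
        exact nilradical_le_prime 𝔭.asIdeal h1)
    exact ⟨⟨Q, hQ⟩, PrimeSpectrum.ext hQP⟩
  · intro K _ f g hfg
    have hK : (p : K) = 0 := by
      have : (p : K) = (f.comp i) (p : A) := by simp
      rw [this, hp0, map_zero]
    haveI : CharP K p := (CharP.charP_iff_prime_eq_zero hp).2 hK
    haveI : ExpChar K p := ExpChar.prime hp
    refine RingHom.ext (fun b => ?_)
    obtain ⟨n, a, ha⟩ := IsPRadical.pow_mem i p b
    have h4 : f b ^ (p ^ n) = g b ^ (p ^ n) := by
      rw [← map_pow, ← map_pow, ← ha]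
      exact congrArg (fun ψ : A →+* K => ψ a) hfg
    exact iterateFrobenius_inj K p n h4

/-- A universal homeomorphism from `A` to an absolutely weakly normal ring is an absolute weak
normalization. -/
theorem isRingAWN_of_isAWNRing (ψ : A →+* B)
    (hψ : FlatMor.IsUnivHomeo (Spec.map (CommRingCat.ofHom ψ))) (hB : HTop.IsAWNRing B) :
    HTop.IsRingAWN ψ := by
  have hφ := awnMap_spec A
  obtain ⟨χ, hχ, -⟩ := hφ.2 B ψ hψ
  have hbij : Function.Bijective χ := (Groth.Agent.S7423.result (awnMap A) hφ ψ hψ χ hχ).2 hB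
  let e : B ≃+* awn A := RingEquiv.ofBijective χ hbij
  have he : ∀ b, e b = χ b := fun b => rfl
  refine ⟨hψ, ?_⟩
  intro C _ ψ' hψ'
  obtain ⟨g, hg, hgu⟩ := hφ.2 C ψ' hψ'
  refine ⟨(e.symm : awn A →+* B).comp g, ?_, ?_⟩
  · refine RingHom.ext (fun a => ?_)
    show e.symm (g (ψ' a)) = ψ a
    have h1 : g (ψ' a) = awnMap A a := congrArg (fun k => k a) hg
    have h2 : χ (ψ a) = awnMap A a := congrArg (fun k => k a) hχ
    rw [h1, ← h2, ← he, e.symm_apply_apply]
  · intro k hk
    have h1 : χ.comp k = g := by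
      apply hgu
      show (χ.comp k).comp ψ' = awnMap A
      rw [RingHom.comp_assoc, hk, hχ]
    refine RingHom.ext (fun c => ?_)
    show k c = e.symm (g c)
    rw [← h1]
    show k c = e.symm (χ (k c))
    rw [← he, e.symm_apply_apply]

theorem isAWNRing_of_perfectRing (p : ℕ) [Fact p.Prime] (R : Type u) [CommRing R]
    (h0 : (p : R) = 0) [PerfectRing R p] : HTop.IsAWNRing R := by
  letI : Algebra (ZMod p) R := ZMod.algebra' R (ringChar R) (ringChar.dvd h0)
  exact (Groth.Agent.S8992.result p R).2 inferInstance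

/-- A perfect closure is an absolute weak normalization. -/
theorem isRingAWN_of_isPerfectClosure (p : ℕ) [Fact p.Prime] [CharP A p] [CharP B p]
    [PerfectRing B p] (i : A →+* B) [IsPRadical i p] : HTop.IsRingAWN i :=
  isRingAWN_of_isAWNRing i (isUnivHomeo_of_isPRadical p (CharP.cast_eq_zero A p) i)
    (isAWNRing_of_perfectRing p B (CharP.cast_eq_zero B p))

end Groth.Agent.Lib.helper2.PerfAWN
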