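import Mathlib
import Groth.Prelude.Def_Frob
import Groth.Agent.Lib.Helper2.AWNSchemeProps
import Groth.Agent.Lib.Helper2.PerfAWN
import Groth.Agent.S7426

/-!
# Perfections of schemes are universal homeomorphisms (helper2)

In characteristic `p` the absolute weak normalization `X^awn → X` is a perfection, so every perfection
`π : XP ⟶ X` (in the sense of `FrobSch.IsPerfection`) is a universal homeomorphism.
-/

set_option autoImplicit false
universe u

open AlgebraicGeometry CategoryTheory Limits MorphismProperty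

namespace Groth.Agent.Lib.helper2.PerfSchLib

open Groth.Agent.Lib.helper2 Groth.Agent.Lib.helper2.AWNRing Groth.Agent.Lib.helper2.AWNScheme
open FrobSch

variable (p : ℕ) [Fact p.Prime]

/-- In a perfect scheme, `p`-th powers are bijective on all rings of sections. -/
theorem bijective_pow_of_isPerfect (Y : Scheme.{u}) [IsCharP Y p] (hY : FrobSch.IsPerfect Y p)
    (U : Y.Opens) : Function.Bijective fun s : Γ(Y, U) => s ^ p := by
  haveI : IsIso (frob Y p) := hY
  have h1 : IsIso ((frob Y p).app U) := inferInstance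
  have h2 := (ConcreteCategory.isIso_iff_bijective ((frob Y p).app U)).1 h1
  exact h2

theorem isAWN_of_isPerfect (Y : Scheme.{u}) [IsCharP Y p] (hY : FrobSch.IsPerfect Y p) :
    HTop.IsAWN Y := by
  intro y
  obtain ⟨_, ⟨V, hV, rfl⟩, hyV, -⟩ :=
    Y.isBasis_affineOpens.exists_subset_of_mem_open (Set.mem_univ y) isOpen_univ
  refine ⟨⟨V, hV⟩, hyV, ?_⟩
  haveI : PerfectRing Γ(Y, V) p := ⟨bijective_pow_of_isPerfect p Y hY V⟩
  exact PerfAWN.isAWNRing_of_perfectRing p _ (natCast_eq_zero_app Y p V)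

theorem isReduced_of_isPerfect (Y : Scheme.{u}) [IsCharP Y p] (hY : FrobSch.IsPerfect Y p) :
    AlgebraicGeometry.IsReduced Y :=
  isReduced_of_isAWN (isAWN_of_isPerfect p Y hY)

theorem perfectRing_of_isAWNRing (R : Type u) [CommRing R] (h0 : (p : R) = 0)
    (h : HTop.IsAWNRing R) : PerfectRing R p := by
  letI : Algebra (ZMod p) R := ZMod.algebra' R (ringChar R) (ringChar.dvd h0)
  exact (Groth.Agent.S8992.result p R).1 h

theorem isAffineHom_frob (Z : Scheme.{u}) [IsCharP Z p] : IsAffineHom (frob Z p) :=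
  ⟨fun U hU => hU⟩

theorem isIso_frob_app (Z : Scheme.{u}) [IsCharP Z p] (U : Z.Opens)
    (h : Function.Bijective fun s : Γ(Z, U) => s ^ p) : IsIso ((frob Z p).app U) := by
  rw [ConcreteCategory.isIso_iff_bijective]
  exact h

theorem isIso_frob_of_affineOpens (Z : Scheme.{u}) [IsCharP Z p]
    (h : ∀ U : Z.affineOpens, IsIso ((frob Z p).app U.1)) : IsIso (frob Z p) := by
  haveI : IsAffineHom (frob Z p) := isAffineHom_frob p Z
  refine IsZariskiLocalAtTarget.of_iSup_eq_top (P := MorphismProperty.isomorphisms Scheme)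
    (fun U : Z.affineOpens => U.1) (iSup_affineOpens_eq_top Z) ?_
  intro U
  have := (isIso_morphismRestrict_iff_isIso_app (f := frob Z p) U.2).2 (h U)
  exact this

/-- An absolutely weakly normal scheme of characteristic `p` is perfect. -/
theorem isPerfect_of_isAWN (Z : Scheme.{u}) [IsCharP Z p] (hZ : HTop.IsAWN Z) :
    FrobSch.IsPerfect Z p := by
  have hall := (Groth.Agent.S7420.result Z).2.1 hZ
  refine isIso_frob_of_affineOpens p Z (fun U => isIso_frob_app p Z U.1 ?_)
  have h1 : PerfectRing Γ(Z, U.1) p :=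
    perfectRing_of_isAWNRing p _ (natCast_eq_zero_app Z p U.1) (hall U)
  exact h1.bijective_frobenius

section univ

variable {X : Scheme.{u}}

/-- the absolute weak normalization has the universal property of the perfection. -/
theorem bijective_comp_of_isAWNormalization {Z : Scheme.{u}} (ν : Z ⟶ X)
    (hν : HTop.IsAWNormalization ν) (Y : Scheme.{u}) (hY : HTop.IsAWN Y) :
    Function.Bijective (fun g : Y ⟶ Z => g ≫ ν) := by
  have hid : HTop.IsAWNormalization (𝟙 Y) := ((Groth.Agent.S7426.result Y).1).1 hY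
  constructor
  · intro h₁ h₂ h12
    have h12' : h₁ ≫ ν = h₂ ≫ ν := h12
    have hp : FlatMor.IsUnivHomeo (pullback.snd ν (h₁ ≫ ν)) :=
      MorphismProperty.pullback_snd _ _ hν.1
    obtain ⟨s, -, hsu⟩ := hid.2 _ _ hp
    have e1 : pullback.lift h₁ (𝟙 Y) (by rw [Category.id_comp]) = s :=
      hsu _ (pullback.lift_snd _ _ _)
    have e2 : pullback.lift h₂ (𝟙 Y) (by rw [Category.id_comp, h12']) = s :=
      hsu _ (pullback.lift_snd _ _ _)
    have e3 := congrArg (fun k => k ≫ pullback.fst ν (h₁ ≫ ν)) (e1.trans e2.symm)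
    rw [pullback.lift_fst, pullback.lift_fst] at e3
    exact e3
  · intro t
    have hp : FlatMor.IsUnivHomeo (pullback.snd ν t) := MorphismProperty.pullback_snd _ _ hν.1
    obtain ⟨s, hs, -⟩ := hid.2 _ _ hp
    refine ⟨s ≫ pullback.fst ν t, ?_⟩
    show (s ≫ pullback.fst ν t) ≫ ν = t
    rw [Category.assoc, pullback.condition, ← Category.assoc, hs, Category.id_comp]

/-- Every perfection is a universal homeomorphism. -/
theorem isUnivHomeo_of_isPerfection [IsCharP X p] {XP : Scheme.{u}} [IsCharP XP p] (π : XP ⟶ X)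
    (hπ : FrobSch.IsPerfection π p) : FlatMor.IsUnivHomeo π := by
  have hν := isAWNormalization_toBase X
  set Z := (awnGlueData X).glued with hZ
  set ν : Z ⟶ X := (awnGlueData X).toBase with hνdef
  haveI : IsCharP Z p := IsCharP.of_hom ν p
  have hZawn : HTop.IsAWN Z := isAWN_awnGlued X
  have hZperf : FrobSch.IsPerfect Z p := isPerfect_of_isAWN p Z hZawn
  have hXPawn : HTop.IsAWN XP := isAWN_of_isPerfect p XP hπ.1
  -- the comparison maps
  obtain ⟨a, ha⟩ := (bijective_comp_of_isAWNormalization ν hν XP hXPawn).2 π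
  obtain ⟨b, hb⟩ := (hπ.2 Z hZperf).2 ν
  have ha' : a ≫ ν = π := ha
  have hb' : b ≫ π = ν := hb
  have hab : a ≫ b = 𝟙 XP := by
    apply (hπ.2 XP hπ.1).1
    show (a ≫ b) ≫ π = 𝟙 XP ≫ π
    rw [Category.assoc, hb', ha', Category.id_comp]
  have hba : b ≫ a = 𝟙 Z := by
    apply (bijective_comp_of_isAWNormalization ν hν Z hZawn).1
    show (b ≫ a) ≫ ν = 𝟙 Z ≫ ν
    rw [Category.assoc, ha', hb', Category.id_comp]
  haveI : IsIso a := ⟨b, hab, hba⟩
  rw [← ha']
  exact (MorphismProperty.cancel_left_of_respectsIso _ a ν).2 hν.1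

end univ

end Groth.Agent.Lib.helper2.PerfSchLib
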