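import Mathlib
import Groth.Agent.S7400
import Groth.Agent.Lib.Helper2.AWNRing

/-!
# Filtered colimits of `A`-algebras and universal homeomorphisms (helper2)

Part A: elementwise description of filtered colimits in `Under A` (`A : CommRingCat`).
Part B: ring-level permanence of integrality / UH / trivial residue fields under such colimits.
-/

set_option autoImplicit false
universe u
open CategoryTheory AlgebraicGeometry Limits
open Groth.Agent.Lib.helper2.UnivHomeoElem Groth.Agent.Lib.helper2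

namespace Groth.Agent.Lib.helper2.FiltColimUH

section partA

variable (A : CommRingCat.{u}) {J : Type u} [SmallCategory J] [IsFiltered J]
  (F : J ⥤ Under A) (c : Cocone F)

/-- underlying type functor -/
abbrev UT : Under A ⥤ Type u := Under.forget A ⋙ forget CommRingCat.{u}

noncomputable def isColimitMapType (hc : IsColimit c) : IsColimit ((UT A).mapCocone c) :=
  isColimitOfPreserves (UT A) hc

theorem jointly_surj (hc : IsColimit c) (b : c.pt.right) :
    ∃ (j : J) (x : (F.obj j).right), (c.ι.app j).right.hom x = b := by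
  obtain ⟨j, x, hx⟩ := Types.jointly_surjective_of_isColimit (isColimitMapType A F c hc) b
  exact ⟨j, x, hx⟩

theorem eq_iff (hc : IsColimit c) (i : J) (x y : (F.obj i).right) :
    (c.ι.app i).right.hom x = (c.ι.app i).right.hom y ↔
      ∃ (k : J) (f : i ⟶ k), (F.map f).right.hom x = (F.map f).right.hom y := by
  exact Types.FilteredColimit.isColimit_eq_iff' (isColimitMapType A F c hc) x y

noncomputable def isColimit_of
    (hsurj : ∀ b : c.pt.right, ∃ (j : J) (x : (F.obj j).right), (c.ι.app j).right.hom x = b)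
    (hinj : ∀ (i : J) (x y : (F.obj i).right), (c.ι.app i).right.hom x = (c.ι.app i).right.hom y →
      ∃ (k : J) (f : i ⟶ k), (F.map f).right.hom x = (F.map f).right.hom y) : IsColimit c := by
  haveI : IsConnected J := IsFiltered.isConnected J
  haveI : ReflectsColimitsOfShape J (forget CommRingCat.{u}) :=
    reflectsColimitsOfShape_of_reflectsIsomorphisms
  apply isColimitOfReflects (UT A)
  refine Types.FilteredColimit.isColimitOf' _ _ ?_ ?_
  · intro b
    obtain ⟨j, x, hx⟩ := hsurj b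
    exact ⟨j, x, hx.symm⟩
  · intro i x y h
    exact hinj i x y h

end partA

section ringlevel

variable {A B : Type u} [CommRing A] [CommRing B] (φ : A →+* B)
  {ι : Type u} (Bj : ι → Type u) [∀ j, CommRing (Bj j)] (φj : ∀ j, A →+* Bj j)
  (ιj : ∀ j, Bj j →+* B)
  (hcomp : ∀ j, (ιj j).comp (φj j) = φ)

include hcomp in
theorem isIntegral_of_colim (hS : ∀ b : B, ∃ j x, ιj j x = b)
    (h : ∀ j, (φj j).IsIntegral) : φ.IsIntegral := by
  intro b
  obtain ⟨j, x, rfl⟩ := hS b
  obtain ⟨p, hp, hpx⟩ := h j x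
  refine ⟨p, hp, ?_⟩
  rw [← hcomp j, ← Polynomial.hom_eval₂, hpx, map_zero]

include hcomp in
theorem eqz_of_colim (hS : ∀ b : B, ∃ j x, ιj j x = b)
    (h : ∀ j, ∀ (K : Type u) [Field K] (χ₁ χ₂ : Bj j →+* K),
      χ₁.comp (φj j) = χ₂.comp (φj j) → χ₁ = χ₂)
    (K : Type u) [Field K] (χ₁ χ₂ : B →+* K) (hχ : χ₁.comp φ = χ₂.comp φ) : χ₁ = χ₂ := by
  ext b
  obtain ⟨j, x, rfl⟩ := hS b
  have := h j K (χ₁.comp (ιj j)) (χ₂.comp (ιj j)) (by
    rw [RingHom.comp_assoc, RingHom.comp_assoc, hcomp j, hχ])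
  exact congrArg (fun f => f x) this

include hcomp in
theorem ker_le_of_colim
    (hK : ∀ j (x : Bj j), ιj j x = 0 → ∃ (k : ι) (f : Bj j →+* Bj k), f.comp (φj j) = φj k ∧ f x = 0)
    (h : ∀ j, RingHom.ker (φj j) ≤ nilradical A) [Nonempty ι] :
    RingHom.ker φ ≤ nilradical A := by
  intro a ha
  obtain ⟨j⟩ := ‹Nonempty ι›
  rw [RingHom.mem_ker, ← hcomp j] at ha
  obtain ⟨k, f, hf, hfx⟩ := hK j (φj j a) ha
  apply h k
  rw [RingHom.mem_ker, ← hf]
  exact hfx

theorem comap_surjective_of_integral_of_ker (hint : φ.IsIntegral)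
    (hker : RingHom.ker φ ≤ nilradical A) : Function.Surjective (PrimeSpectrum.comap φ) := by
  intro P
  algebraize [φ]
  have : Algebra.IsIntegral A B := algebraMap_isIntegral_iff.1 hint
  obtain ⟨Q, -, hQ, hQP⟩ := Ideal.exists_ideal_over_prime_of_isIntegral P.asIdeal
    (⊥ : Ideal B)
    (by
      rw [← RingHom.ker_eq_comap_bot]
      intro a ha
      have h1 : a ∈ nilradical A := hker ha
      rw [nilradical_eq_sInf, Ideal.mem_sInf] at h1
      exact h1 P.2)
  exact ⟨⟨Q, hQ⟩, PrimeSpectrum.ext hQP⟩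

theorem ker_le_of_isUnivHomeo
    (hU : FlatMor.IsUnivHomeo (Spec.map (CommRingCat.ofHom φ))) :
    RingHom.ker φ ≤ nilradical A := by
  intro a ha
  rw [nilradical_eq_sInf, Ideal.mem_sInf]
  intro P hP
  obtain ⟨Q, hQ⟩ := (SpecResidue.comap_bijective_of_isUnivHomeo_Spec φ hU).2 ⟨P, hP⟩
  have h1 : a ∈ (PrimeSpectrum.comap φ Q).asIdeal := by
    show φ a ∈ Q.asIdeal
    rw [RingHom.mem_ker] at ha
    rw [ha]
    exact Q.asIdeal.zero_mem
  rw [hQ] at h1
  exact h1

include hcomp in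
theorem isUnivHomeo_of_colim [Nonempty ι] (hS : ∀ b : B, ∃ j x, ιj j x = b)
    (hK : ∀ j (x : Bj j), ιj j x = 0 → ∃ (k : ι) (f : Bj j →+* Bj k), f.comp (φj j) = φj k ∧ f x = 0)
    (h : ∀ j, FlatMor.IsUnivHomeo (Spec.map (CommRingCat.ofHom (φj j)))) :
    FlatMor.IsUnivHomeo (Spec.map (CommRingCat.ofHom φ)) := by
  have hint : φ.IsIntegral := isIntegral_of_colim φ Bj φj ιj hcomp hS
    (fun j => SpecResidue.isIntegral_of_isUnivHomeo_Spec _ (h j))
  have hker : RingHom.ker φ ≤ nilradical A := ker_le_of_colim φ Bj φj ιj hcomp hK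
    (fun j => ker_le_of_isUnivHomeo _ (h j))
  refine SpecResidue.isUnivHomeo_Spec_of φ hint (comap_surjective_of_integral_of_ker φ hint hker) ?_
  intro K _ χ₁ χ₂ hχ
  exact eqz_of_colim φ Bj φj ιj hcomp hS
    (fun j K _ χ₁ χ₂ hχ => SpecResidue.hom_ext_of_isUnivHomeo_Spec _ (h j) K χ₁ χ₂ hχ) K χ₁ χ₂ hχ

include hcomp in
theorem resSurj_of_colim (hS2 : ∀ b b' : B, ∃ j x x', ιj j x = b ∧ ιj j x' = b')
    (h : ∀ j, ResSurj (φj j)) : ResSurj φ := by
  intro Q z
  obtain ⟨a, s, hs0, rfl⟩ := Groth.Agent.S7400.exists_frac' Q.asIdeal z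
  obtain ⟨j, x, x', rfl, rfl⟩ := hS2 a s
  obtain rfl := hcomp j
  obtain ⟨v, hv⟩ := h j (PrimeSpectrum.comap (ιj j) Q)
    (algebraMap _ _ x / algebraMap _ _ x')
  refine ⟨v, ?_⟩
  rw [residueField_map_comp (φj j) (ιj j) (PrimeSpectrum.comap ((ιj j).comp (φj j)) Q).asIdeal
    (PrimeSpectrum.comap (ιj j) Q).asIdeal Q.asIdeal rfl rfl rfl]
  rw [RingHom.comp_apply]
  refine (congrArg (Ideal.ResidueField.map (PrimeSpectrum.comap (ιj j) Q).asIdeal Q.asIdeal
    (ιj j) rfl) hv).trans ?_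
  rw [map_div₀, Ideal.ResidueField.map_algebraMap, Ideal.ResidueField.map_algebraMap]

end ringlevel

section specIff

variable {A C : Type u} [CommRing A] [CommRing C] (ψ : A →+* C)

theorem universallyInjective_Spec_iff :
    UniversallyInjective (Spec.map (CommRingCat.ofHom ψ)) ↔
      ∀ (K : Type u) [Field K] (χ₁ χ₂ : C →+* K), χ₁.comp ψ = χ₂.comp ψ → χ₁ = χ₂ := by
  constructor
  · intro hui L _ χ₁ χ₂ hχ
    have h01 : UniversallyInjective (Spec.map (CommRingCat.ofHom ψ)) →
        ∀ (K : Type u) [Field K], Function.Injective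
          (fun g : Spec (.of K) ⟶ Spec (CommRingCat.of C) ↦ g ≫ Spec.map (CommRingCat.ofHom ψ)) :=
      ((tfae_universallyInjective (Spec.map (CommRingCat.ofHom ψ))).out 0 1).1
    have hinj := h01 hui L
    have h1 : Spec.map (CommRingCat.ofHom χ₁) ≫ Spec.map (CommRingCat.ofHom ψ) =
        Spec.map (CommRingCat.ofHom χ₂) ≫ Spec.map (CommRingCat.ofHom ψ) := by
      rw [← Spec.map_comp, ← Spec.map_comp, ← CommRingCat.ofHom_comp, ← CommRingCat.ofHom_comp, hχ]
    have h2 := Spec.map_injective (hinj h1)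
    have h3 := congrArg CommRingCat.Hom.hom h2
    exact h3
  · intro hinj
    refine ((tfae_universallyInjective _).out 0 1).2 ?_
    intro K _ g₁ g₂ hg
    obtain ⟨φ₁, rfl⟩ := Spec.map_surjective g₁
    obtain ⟨φ₂, rfl⟩ := Spec.map_surjective g₂
    dsimp only at hg
    rw [← Spec.map_comp, ← Spec.map_comp] at hg
    have := Spec.map_injective hg
    have h3 : φ₁.hom.comp ψ = φ₂.hom.comp ψ := by
      have := congrArg CommRingCat.Hom.hom this
      simpa using this
    have h4 := hinj K φ₁.hom φ₂.hom h3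
    congr 1
    exact CommRingCat.hom_ext h4

theorem universallyClosed_Spec_iff :
    UniversallyClosed (Spec.map (CommRingCat.ofHom ψ)) ↔ ψ.IsIntegral := by
  have h1 : IsIntegralHom (Spec.map (CommRingCat.ofHom ψ)) ↔ ψ.IsIntegral :=
    IsIntegralHom.SpecMap_iff (φ := CommRingCat.ofHom ψ)
  rw [← h1, IsIntegralHom.iff_universallyClosed_and_isAffineHom]
  exact ⟨fun h => ⟨h, inferInstance⟩, fun h => h.1⟩

end specIff

end Groth.Agent.Lib.helper2.FiltColimUH
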