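import Mathlib
import Groth.Agent.Lib.Helper2.FiltColimUH
import Groth.Agent.Lib.Helper2.AWNRing
import Groth.Agent.Lib.Helper2.AWNScheme

/-!
# Writing an algebra as a filtered colimit of finitely presented algebras with a property (helper2)

`Good A P`: closure properties of a property `P` of `A`-algebras (all implying "universal
homeomorphism on spectra").  For an `A`-algebra `B` whose spectrum is universally homeomorphic to
that of `A`, the small category `Obj A B P` of finitely presented `A`-algebras `A[x₁..xₙ]/I` with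
`P`, equipped with a map to `B`, is filtered; if its objects jointly cover `B`, `B` is its colimit.
-/

set_option autoImplicit false
universe u
open CategoryTheory AlgebraicGeometry Limits TensorProduct
open Groth.Agent.Lib.helper2

namespace Groth.Agent.Lib.helper2.FpColim

noncomputable section

structure Good (A : Type u) [CommRing A]
    (P : ∀ (C : Type u) [CommRing C] [Algebra A C], Prop) : Prop where
  self : P A
  iso : ∀ {C C' : Type u} [CommRing C] [CommRing C'] [Algebra A C] [Algebra A C'],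
    (C ≃ₐ[A] C') → P C → P C'
  tensor : ∀ {C C' : Type u} [CommRing C] [CommRing C'] [Algebra A C] [Algebra A C'],
    P C → P C' → P (C ⊗[A] C')
  quot : ∀ {C : Type u} [CommRing C] [Algebra A C] (I : Ideal C), I ≤ nilradical C →
    P C → P (C ⧸ I)
  uh : ∀ {C : Type u} [CommRing C] [Algebra A C], P C →
    FlatMor.IsUnivHomeo (Spec.map (CommRingCat.ofHom (algebraMap A C)))

section

variable (A B : Type u) [CommRing A] [CommRing B] [Algebra A B]
  (P : ∀ (C : Type u) [CommRing C] [Algebra A C], Prop)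

structure Obj where
  n : ℕ
  I : Ideal (MvPolynomial (Fin n) A)
  fg : I.FG
  π : (MvPolynomial (Fin n) A ⧸ I) →ₐ[A] B
  hP : P (MvPolynomial (Fin n) A ⧸ I)

variable {A B P}

abbrev Obj.C (j : Obj A B P) : Type u := MvPolynomial (Fin j.n) A ⧸ j.I

instance : Category.{u} (Obj A B P) where
  Hom j k := {f : j.C →ₐ[A] k.C // k.π.comp f = j.π}
  id j := ⟨AlgHom.id A _, AlgHom.comp_id _⟩
  comp f g := ⟨g.1.comp f.1, by rw [← AlgHom.comp_assoc, g.2, f.2]⟩
  id_comp _ := Subtype.ext rfl
  comp_id _ := Subtype.ext rfl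
  assoc _ _ _ := Subtype.ext rfl

theorem hom_comm {j k : Obj A B P} (f : j ⟶ k) (x : j.C) : k.π (f.1 x) = j.π x :=
  congrArg (fun g => g x) f.2

theorem comp_val {j k l : Obj A B P} (f : j ⟶ k) (g : k ⟶ l) : (f ≫ g).1 = g.1.comp f.1 := rfl

variable (A B P) in
/-- the diagram. -/
def Fun : Obj A B P ⥤ Under (CommRingCat.of A) where
  obj j := Under.mk (CommRingCat.ofHom (algebraMap A j.C))
  map {j k} f := Under.homMk (CommRingCat.ofHom f.1.toRingHom) (by
    ext a
    exact f.1.commutes a)
  map_id _ := rfl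
  map_comp _ _ := rfl

variable (A B P) in
/-- the cocone with point `B`. -/
def coc : Cocone (Fun A B P) where
  pt := Under.mk (CommRingCat.ofHom (algebraMap A B))
  ι :=
    { app j := Under.homMk (CommRingCat.ofHom j.π.toRingHom) (by
        ext a
        exact j.π.commutes a)
      naturality j k f := by
        ext x
        exact hom_comm f x }

end

section filtered

variable {A B : Type u} [CommRing A] [CommRing B] [Algebra A B]
  {P : ∀ (C : Type u) [CommRing C] [Algebra A C], Prop} (hP : Good A P)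

instance (j : Obj A B P) : Algebra.FinitePresentation A j.C :=
  Algebra.FinitePresentation.quotient j.fg

include hP in
theorem mkObj (C : Type u) [CommRing C] [Algebra A C] [Algebra.FinitePresentation A C] (hC : P C)
    (π : C →ₐ[A] B) : ∃ (j : Obj A B P) (e : j.C ≃ₐ[A] C), π.comp e.toAlgHom = j.π := by
  obtain ⟨n, I, e, hI⟩ := Algebra.FinitePresentation.iff.1
    (inferInstance : Algebra.FinitePresentation A C)
  exact ⟨⟨n, I, hI, π.comp e.toAlgHom, hP.iso e.symm hC⟩, e, rfl⟩

include hP in
theorem ker_le (hB : FlatMor.IsUnivHomeo (Spec.map (CommRingCat.ofHom (algebraMap A B))))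
    (j : Obj A B P) : RingHom.ker j.π.toRingHom ≤ nilradical j.C := by
  apply FiltColimUH.ker_le_of_isUnivHomeo
  apply AWNRing.isUnivHomeo_of_comp_Spec (algebraMap A j.C) j.π.toRingHom (hP.uh j.hP)
  have : j.π.toRingHom.comp (algebraMap A j.C) = algebraMap A B := j.π.comp_algebraMap
  rw [this]
  exact hB

include hP in
theorem exists_quot (hB : FlatMor.IsUnivHomeo (Spec.map (CommRingCat.ofHom (algebraMap A B))))
    (j : Obj A B P) (K : Ideal j.C) (hK : K.FG) (hle : K ≤ RingHom.ker j.π.toRingHom) :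
    ∃ (k : Obj A B P) (q : j ⟶ k), ∀ x ∈ K, q.1 x = 0 := by
  haveI : Algebra.FinitePresentation A (j.C ⧸ K) := Algebra.FinitePresentation.quotient hK
  have hPq : P (j.C ⧸ K) := hP.quot K (hle.trans (ker_le hP hB j)) j.hP
  let π' : (j.C ⧸ K) →ₐ[A] B := Ideal.Quotient.liftₐ K j.π (fun x hx => hle hx)
  obtain ⟨k, e, he⟩ := mkObj hP (j.C ⧸ K) hPq π'
  refine ⟨k, ⟨e.symm.toAlgHom.comp (Ideal.Quotient.mkₐ A K), ?_⟩, ?_⟩
  · rw [← he]
    ext x
    simp [π']
  · intro x hx
    have : (Ideal.Quotient.mk K) x = 0 := Ideal.Quotient.eq_zero_iff_mem.2 hx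
    simp [this]

include hP in
theorem exists_sup (j k : Obj A B P) : ∃ (m : Obj A B P) (_ : j ⟶ m) (_ : k ⟶ m), True := by
  haveI : Algebra.FinitePresentation A (j.C ⊗[A] k.C) :=
    Algebra.FinitePresentation.trans A j.C (j.C ⊗[A] k.C)
  obtain ⟨m, e, he⟩ := mkObj hP (j.C ⊗[A] k.C) (hP.tensor j.hP k.hP)
    (Algebra.TensorProduct.productMap j.π k.π)
  refine ⟨m, ⟨e.symm.toAlgHom.comp Algebra.TensorProduct.includeLeft, ?_⟩,
    ⟨e.symm.toAlgHom.comp Algebra.TensorProduct.includeRight, ?_⟩, trivial⟩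
  · rw [← he]
    ext x
    simp
  · rw [← he]
    ext x
    simp

include hP in
theorem exists_coeq (hB : FlatMor.IsUnivHomeo (Spec.map (CommRingCat.ofHom (algebraMap A B))))
    {j k : Obj A B P} (f g : j ⟶ k) : ∃ (m : Obj A B P) (h : k ⟶ m), f ≫ h = g ≫ h := by
  set K : Ideal k.C := Ideal.span (Set.range fun i : Fin j.n =>
    f.1 (Ideal.Quotient.mk j.I (MvPolynomial.X i)) - g.1 (Ideal.Quotient.mk j.I (MvPolynomial.X i)))
    with hKdef
  have hK : K.FG := Submodule.fg_span (Set.finite_range _)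
  have hle : K ≤ RingHom.ker k.π.toRingHom := by
    rw [hKdef, Ideal.span_le]
    rintro _ ⟨i, rfl⟩
    show k.π _ = 0
    rw [map_sub, hom_comm, hom_comm, sub_self]
  obtain ⟨m, q, hq⟩ := exists_quot hP hB k K hK hle
  refine ⟨m, q, Subtype.ext ?_⟩
  rw [comp_val, comp_val]
  apply Ideal.Quotient.algHom_ext
  apply MvPolynomial.algHom_ext
  intro i
  have h0 := hq _ (Ideal.subset_span ⟨i, rfl⟩)
  rw [map_sub, sub_eq_zero] at h0
  exact h0

include hP in
theorem nonempty_obj : Nonempty (Obj A B P) := by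
  obtain ⟨j, -, -⟩ := mkObj hP A hP.self (Algebra.ofId A B)
  exact ⟨j⟩

include hP in
theorem isFiltered (hB : FlatMor.IsUnivHomeo (Spec.map (CommRingCat.ofHom (algebraMap A B)))) :
    IsFiltered (Obj A B P) :=
  { cocone_objs := exists_sup hP
    cocone_maps := fun _ _ f g => exists_coeq hP hB f g
    nonempty := nonempty_obj hP }

include hP in
theorem exists_eq (hB : FlatMor.IsUnivHomeo (Spec.map (CommRingCat.ofHom (algebraMap A B))))
    (i : Obj A B P) (x y : i.C) (hxy : i.π x = i.π y) :
    ∃ (k : Obj A B P) (q : i ⟶ k), q.1 x = q.1 y := by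
  have hle : Ideal.span {x - y} ≤ RingHom.ker i.π.toRingHom := by
    rw [Ideal.span_le, Set.singleton_subset_iff]
    show i.π (x - y) = 0
    rw [map_sub, hxy, sub_self]
  obtain ⟨k, q, hq⟩ := exists_quot hP hB i (Ideal.span {x - y})
    (Submodule.fg_span (Set.finite_singleton _)) hle
  refine ⟨k, q, ?_⟩
  have h0 := hq _ (Ideal.subset_span rfl)
  rw [map_sub, sub_eq_zero] at h0
  exact h0

include hP in
/-- if the objects jointly cover `B`, then `B` is the colimit. -/
def isColimit (hB : FlatMor.IsUnivHomeo (Spec.map (CommRingCat.ofHom (algebraMap A B))))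
    (hlite : ∀ b : B, ∃ (j : Obj A B P) (x : j.C), j.π x = b) : IsColimit (coc A B P) := by
  haveI := isFiltered hP hB
  refine FiltColimUH.isColimit_of (CommRingCat.of A) (Fun A B P) (coc A B P) hlite ?_
  intro i x y hxy
  exact exists_eq hP hB i x y hxy

end filtered

section reach

open Polynomial

variable {A B : Type u} [CommRing A] [CommRing B] [Algebra A B]
  {P : ∀ (C : Type u) [CommRing C] [Algebra A C], Prop} (hP : Good A P)

include hP in
/-- elements of `B` in the image of some object. -/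
def reach : Subalgebra A B where
  carrier := {b | ∃ (j : Obj A B P) (x : j.C), j.π x = b}
  add_mem' := by
    rintro _ _ ⟨j, x, rfl⟩ ⟨k, y, rfl⟩
    obtain ⟨m, f, g, -⟩ := exists_sup hP j k
    exact ⟨m, f.1 x + g.1 y, by rw [map_add, hom_comm, hom_comm]⟩
  mul_mem' := by
    rintro _ _ ⟨j, x, rfl⟩ ⟨k, y, rfl⟩
    obtain ⟨m, f, g, -⟩ := exists_sup hP j k
    exact ⟨m, f.1 x * g.1 y, by rw [map_mul, hom_comm, hom_comm]⟩
  algebraMap_mem' := by
    intro a
    obtain ⟨j⟩ := nonempty_obj (B := B) hP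
    exact ⟨j, algebraMap A _ a, j.π.commutes a⟩

theorem mem_reach (b : B) : b ∈ reach (B := B) hP ↔ ∃ (j : Obj A B P) (x : j.C), j.π x = b :=
  Iff.rfl

/-- two reachable elements are reachable from a common object. -/
theorem exists_common (b b' : B) (h : b ∈ reach hP) (h' : b' ∈ reach hP) :
    ∃ (m : Obj A B P) (x x' : m.C), m.π x = b ∧ m.π x' = b' := by
  obtain ⟨j, x, rfl⟩ := h
  obtain ⟨k, y, rfl⟩ := h'
  obtain ⟨m, f, g, -⟩ := exists_sup hP j k
  exact ⟨m, f.1 x, g.1 y, hom_comm f x, hom_comm g y⟩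

/-- adjoining a root: if `b` is a common root of finitely many polynomials over a finitely presented
`C → B` and the quotient `C[X]/(S)` has `P`, then `b` is reachable. -/
theorem reach_of_root (C : Type u) [CommRing C] [Algebra A C] [Algebra.FinitePresentation A C]
    (π : C →ₐ[A] B) (S : Set C[X]) (hS : S.Finite) (b : B)
    (hroot : ∀ f ∈ S, Polynomial.eval₂ (π : C →+* B) b f = 0)
    (hPD : P (C[X] ⧸ Ideal.span S)) : b ∈ reach hP := by
  haveI : Algebra.FinitePresentation C (C[X] ⧸ Ideal.span S) :=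
    Algebra.FinitePresentation.quotient (Submodule.fg_span hS)
  haveI : Algebra.FinitePresentation A (C[X] ⧸ Ideal.span S) :=
    Algebra.FinitePresentation.trans A C _
  let ev : C[X] →ₐ[A] B := Polynomial.aevalTower π b
  have hev : ∀ f : C[X], ev f = Polynomial.eval₂ (π : C →+* B) b f := fun f => rfl
  let πD : (C[X] ⧸ Ideal.span S) →ₐ[A] B := Ideal.Quotient.liftₐ (Ideal.span S) ev (by
    intro f hf
    have h1 : Ideal.span S ≤ RingHom.ker ev.toRingHom :=
      Ideal.span_le.2 (fun g hg => by
        show ev g = 0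
        rw [hev]
        exact hroot g hg)
    exact h1 hf)
  obtain ⟨k, e, he⟩ := mkObj hP (C[X] ⧸ Ideal.span S) hPD πD
  refine ⟨k, e.symm (Ideal.Quotient.mk _ X), ?_⟩
  rw [← he]
  simp [πD, ev]

end reach

end

end Groth.Agent.Lib.helper2.FpColim
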