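import Mathlib
import Groth.Agent.Lib.Helper2.FpColim
import Groth.Agent.S7428
import Groth.Agent.S7401
import Groth.Agent.S7402
import Groth.Agent.S7403

/-!
# Universal homeomorphisms as filtered colimits of finitely presented ones (helper2)
-/

set_option autoImplicit false
universe u
open CategoryTheory AlgebraicGeometry Limits TensorProduct Polynomial
open Groth.Agent.Lib.helper2 Groth.Agent.Lib.helper2.UnivHomeoElem
open Groth.Agent.Lib.helper2.ChainList

namespace Groth.Agent.Lib.helper2.FpColimUH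

section basics

variable {A C C' : Type u} [CommRing A] [CommRing C] [CommRing C']

theorem resSurj_of_surjective (φ : A →+* C) (h : Function.Surjective φ) : ResSurj φ := fun _ =>
  ((RingHom.surjectiveOnStalks_of_surjective h).residueFieldMap_bijective _ _ _).2

theorem resSurj_comp (ψ : A →+* C) (ι : C →+* C') (h1 : ResSurj ψ) (h2 : ResSurj ι) :
    ResSurj (ι.comp ψ) := by
  intro Q
  rw [residueField_map_comp ψ ι (PrimeSpectrum.comap (ι.comp ψ) Q).asIdeal
    (PrimeSpectrum.comap ι Q).asIdeal Q.asIdeal rfl rfl rfl]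
  exact (h2 Q).comp (h1 _)

variable [Algebra A C] [Algebra A C']

theorem isUnivHomeo_includeLeft
    (h : FlatMor.IsUnivHomeo (Spec.map (CommRingCat.ofHom (algebraMap A C')))) :
    FlatMor.IsUnivHomeo (Spec.map (CommRingCat.ofHom
      (Algebra.TensorProduct.includeLeftRingHom : C →+* C ⊗[A] C'))) := by
  have hpo := CommRingCat.isPushout_tensorProduct A C C'
  have hpb := (isPullback_SpecMap_of_isPushout _ _ _ _ hpo).flip
  exact MorphismProperty.of_isPullback hpb h

theorem isUnivHomeo_tensor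
    (h : FlatMor.IsUnivHomeo (Spec.map (CommRingCat.ofHom (algebraMap A C))))
    (h' : FlatMor.IsUnivHomeo (Spec.map (CommRingCat.ofHom (algebraMap A C')))) :
    FlatMor.IsUnivHomeo (Spec.map (CommRingCat.ofHom (algebraMap A (C ⊗[A] C')))) := by
  have : algebraMap A (C ⊗[A] C') =
      (Algebra.TensorProduct.includeLeftRingHom : C →+* C ⊗[A] C').comp (algebraMap A C) := by
    ext a
    simp [Algebra.TensorProduct.algebraMap_apply]
  rw [this]
  exact AWNRing.isUnivHomeo_comp_Spec _ _ h (isUnivHomeo_includeLeft h')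

theorem isUnivHomeo_algEquiv (e : C ≃ₐ[A] C')
    (h : FlatMor.IsUnivHomeo (Spec.map (CommRingCat.ofHom (algebraMap A C)))) :
    FlatMor.IsUnivHomeo (Spec.map (CommRingCat.ofHom (algebraMap A C'))) := by
  have : algebraMap A C' = ((e : C ≃+* C') : C →+* C').comp (algebraMap A C) := by
    ext a
    exact (e.commutes a).symm
  rw [this]
  exact AWNRing.isUnivHomeo_comp_Spec _ _ h (AWNRing.isUnivHomeo_ringEquiv _)

theorem isUnivHomeo_quot (I : Ideal C) (hI : I ≤ nilradical C)
    (h : FlatMor.IsUnivHomeo (Spec.map (CommRingCat.ofHom (algebraMap A C)))) :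
    FlatMor.IsUnivHomeo (Spec.map (CommRingCat.ofHom (algebraMap A (C ⧸ I)))) := by
  have : algebraMap A (C ⧸ I) = (Ideal.Quotient.mk I).comp (algebraMap A C) := rfl
  rw [this]
  refine AWNRing.isUnivHomeo_comp_Spec _ _ h
    (AWNRing.isUnivHomeo_of_surjective_nil _ Ideal.Quotient.mk_surjective ?_)
  rw [Ideal.mk_ker]
  exact hI

end basics

section goodprops

variable (A : Type u) [CommRing A]

/-- the property "universal homeomorphism on spectra". -/
def PUH : ∀ (C : Type u) [CommRing C] [Algebra A C], Prop :=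
  fun C _ _ => FlatMor.IsUnivHomeo (Spec.map (CommRingCat.ofHom (algebraMap A C)))

/-- the property "universal homeomorphism on spectra with trivial residue field extensions". -/
def PUHRes : ∀ (C : Type u) [CommRing C] [Algebra A C], Prop :=
  fun C _ _ => FlatMor.IsUnivHomeo (Spec.map (CommRingCat.ofHom (algebraMap A C))) ∧
    ∀ x : Spec (CommRingCat.of C),
      Function.Surjective ((Spec.map (CommRingCat.ofHom (algebraMap A C))).residueFieldMap x)

variable {A}

theorem pUHRes_iff {C : Type u} [CommRing C] [Algebra A C] :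
    PUHRes A C ↔ FlatMor.IsUnivHomeo (Spec.map (CommRingCat.ofHom (algebraMap A C))) ∧
      ResSurj (algebraMap A C) :=
  ⟨fun h => ⟨h.1, resSurj_of _ h.2⟩,
    fun h => ⟨h.1, PolyQuotUH.residueFieldMap_surjective_of _ h.2⟩⟩

variable (A) in
theorem goodUH : FpColim.Good A (PUH A) where
  self := AWNRing.isUnivHomeo_id
  iso e h := isUnivHomeo_algEquiv e h
  tensor h h' := isUnivHomeo_tensor h h'
  quot I hI h := isUnivHomeo_quot I hI h
  uh h := h

open Groth.Agent.S7400 (Step step_mono step_fin)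

theorem map_mem_goodUnion {C T : Type u} [CommRing C] [CommRing T] [Algebra A C] [Algebra A T]
    (g : C →ₐ[A] T) (c : C) (hc : c ∈ goodUnion (A := A) Step) :
    g c ∈ goodUnion (A := A) Step := by
  obtain ⟨l, hl, hcl⟩ := hc
  have h1 := Groth.Agent.S7428.goodFrom_map g ∅ l hl
  rw [Set.image_empty] at h1
  refine ⟨l.map g, h1, ?_⟩
  have h2 : g c ∈ Algebra.adjoin A (g '' {b | b ∈ l}) := by
    rw [← AlgHom.map_adjoin]
    exact ⟨c, hcl, rfl⟩
  have h3 : g '' {b | b ∈ l} = {x | x ∈ l.map g} := by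
    ext x
    simp only [Set.mem_image, Set.mem_ofPred_eq, List.mem_map]
  rw [h3] at h2
  exact h2

theorem mem_goodUnion_of_pUHRes {C : Type u} [CommRing C] [Algebra A C] (h : PUHRes A C) (c : C) :
    c ∈ goodUnion (A := A) Step := by
  classical
  have hC := (Groth.Agent.S7428.gen7400 (FiltColimUH.ker_le_of_isUnivHomeo _ h.1)).1 h
  obtain ⟨l, hcl, hl⟩ := hC {c}
  exact ⟨l, hl, hcl (by simp)⟩

theorem pUHRes_tensor {C C' : Type u} [CommRing C] [CommRing C'] [Algebra A C] [Algebra A C']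
    (h : PUHRes A C) (h' : PUHRes A C') : PUHRes A (C ⊗[A] C') := by
  have hU : FlatMor.IsUnivHomeo (Spec.map (CommRingCat.ofHom (algebraMap A (C ⊗[A] C')))) :=
    isUnivHomeo_tensor h.1 h'.1
  have hker := FiltColimUH.ker_le_of_isUnivHomeo _ hU
  refine (Groth.Agent.S7428.gen7400 hker).2 ?_
  have hall : ∀ t : C ⊗[A] C', t ∈ goodSub (A := A) Step step_mono := by
    intro t
    induction t using TensorProduct.induction_on with
    | zero => exact Subalgebra.zero_mem _
    | tmul c c' =>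
      have e : c ⊗ₜ[A] c' = (Algebra.TensorProduct.includeLeft : C →ₐ[A] C ⊗[A] C') c *
          (Algebra.TensorProduct.includeRight : C' →ₐ[A] C ⊗[A] C') c' := by simp
      rw [e]
      exact Subalgebra.mul_mem _ (map_mem_goodUnion _ c (mem_goodUnion_of_pUHRes h c))
        (map_mem_goodUnion _ c' (mem_goodUnion_of_pUHRes h' c'))
    | add x y hx hy => exact Subalgebra.add_mem _ hx hy
  intro E
  obtain ⟨l, hl, hEl⟩ := exists_list_of_finset (A := A) Step step_mono E (fun x _ => hall x)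
  exact ⟨l, hEl, hl⟩

variable (A) in
theorem goodUHRes : FpColim.Good A (PUHRes A) where
  self := pUHRes_iff.2 ⟨AWNRing.isUnivHomeo_id, resSurj_of_surjective _ fun a => ⟨a, rfl⟩⟩
  iso {C C'} _ _ _ _ e h := by
    rw [pUHRes_iff] at h ⊢
    refine ⟨isUnivHomeo_algEquiv e h.1, ?_⟩
    have : algebraMap A C' = ((e : C ≃+* C') : C →+* C').comp (algebraMap A C) := by
      ext a
      exact (e.commutes a).symm
    rw [this]
    exact resSurj_comp _ _ h.2 (resSurj_of_surjective _ e.surjective)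
  tensor h h' := pUHRes_tensor h h'
  quot {C} _ _ I hI h := by
    rw [pUHRes_iff] at h ⊢
    refine ⟨isUnivHomeo_quot I hI h.1, ?_⟩
    have : algebraMap A (C ⧸ I) = (Ideal.Quotient.mk I).comp (algebraMap A C) := rfl
    rw [this]
    exact resSurj_comp _ _ h.2 (resSurj_of_surjective _ Ideal.Quotient.mk_surjective)
  uh h := h.1

end goodprops

section steps

open FpColim

variable {A B : Type u} [CommRing A] [CommRing B] [Algebra A B]
  {P : ∀ (C : Type u) [CommRing C] [Algebra A C], Prop} (hP : Good A P)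

theorem reach_sq_cube
    (hB : FlatMor.IsUnivHomeo (Spec.map (CommRingCat.ofHom (algebraMap A B))))
    (hstep : ∀ (R : Type u) [CommRing R] [Algebra A R] (x y : R), x ^ 3 = y ^ 2 → P R →
      P (R[X] ⧸ Ideal.span ({X ^ 2 - C x, X ^ 3 - C y} : Set R[X])))
    (b : B) (h2 : b ^ 2 ∈ reach (B := B) hP) (h3 : b ^ 3 ∈ reach (B := B) hP) :
    b ∈ reach (B := B) hP := by
  obtain ⟨m, c₂, c₃, hc₂, hc₃⟩ := exists_common hP _ _ h2 h3
  have hle : Ideal.span {c₂ ^ 3 - c₃ ^ 2} ≤ RingHom.ker m.π.toRingHom := by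
    rw [Ideal.span_le, Set.singleton_subset_iff]
    show m.π (c₂ ^ 3 - c₃ ^ 2) = 0
    rw [map_sub, map_pow, map_pow, hc₂, hc₃]
    ring
  obtain ⟨k, q, hq⟩ := exists_quot hP hB m _ (Submodule.fg_span (Set.finite_singleton _)) hle
  have hrel : (q.1 c₂) ^ 3 = (q.1 c₃) ^ 2 := by
    have h0 := hq _ (Ideal.subset_span rfl)
    rw [map_sub, map_pow, map_pow, sub_eq_zero] at h0
    exact h0
  refine reach_of_root hP k.C k.π {X ^ 2 - C (q.1 c₂), X ^ 3 - C (q.1 c₃)} (Set.toFinite _) b ?_
    (hstep k.C _ _ hrel k.hP)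
  intro f hf
  rcases hf with rfl | rfl
  · rw [eval₂_sub, eval₂_pow, eval₂_X, eval₂_C]
    show b ^ 2 - k.π (q.1 c₂) = 0
    rw [hom_comm q, hc₂, sub_self]
  · rw [eval₂_sub, eval₂_pow, eval₂_X, eval₂_C]
    show b ^ 3 - k.π (q.1 c₃) = 0
    rw [hom_comm q, hc₃, sub_self]

theorem reach_mul_pow
    (hB : FlatMor.IsUnivHomeo (Spec.map (CommRingCat.ofHom (algebraMap A B))))
    (hstep : ∀ (R : Type u) [CommRing R] [Algebra A R] (p : ℕ) (_ : p.Prime) (x y : R),
      (p : R) ^ p * x = y ^ p → P R →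
      P (R[X] ⧸ Ideal.span ({X ^ p - C x, C (p : R) * X - C y} : Set R[X])))
    (p : ℕ) (hp : p.Prime)
    (b : B) (h1 : (p : B) * b ∈ reach (B := B) hP) (h2 : b ^ p ∈ reach (B := B) hP) :
    b ∈ reach (B := B) hP := by
  obtain ⟨m, c₁, cp, hc₁, hcp⟩ := exists_common hP _ _ h1 h2
  have hle : Ideal.span {(p : m.C) ^ p * cp - c₁ ^ p} ≤ RingHom.ker m.π.toRingHom := by
    rw [Ideal.span_le, Set.singleton_subset_iff]
    show m.π ((p : m.C) ^ p * cp - c₁ ^ p) = 0
    rw [map_sub, map_mul, map_pow, map_pow, map_natCast, hc₁, hcp]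
    ring
  obtain ⟨k, q, hq⟩ := exists_quot hP hB m _ (Submodule.fg_span (Set.finite_singleton _)) hle
  have hrel : (p : k.C) ^ p * (q.1 cp) = (q.1 c₁) ^ p := by
    have h0 := hq _ (Ideal.subset_span rfl)
    rw [map_sub, map_mul, map_pow, map_pow, map_natCast, sub_eq_zero] at h0
    exact h0
  refine reach_of_root hP k.C k.π {X ^ p - C (q.1 cp), C (p : k.C) * X - C (q.1 c₁)}
    (Set.toFinite _) b ?_ (hstep k.C p hp _ _ hrel k.hP)
  intro f hf
  rcases hf with rfl | rfl
  · rw [eval₂_sub, eval₂_pow, eval₂_X, eval₂_C]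
    show b ^ p - k.π (q.1 cp) = 0
    rw [hom_comm q, hcp, sub_self]
  · rw [eval₂_sub, eval₂_mul, eval₂_X, eval₂_C, eval₂_C]
    show k.π (p : k.C) * b - k.π (q.1 c₁) = 0
    rw [hom_comm q, hc₁, map_natCast, sub_self]

end steps

section final

open FpColim

variable {A : Type u} [CommRing A]

theorem pUH_sq_cube (R : Type u) [CommRing R] [Algebra A R] (x y : R) (h : x ^ 3 = y ^ 2)
    (hR : PUH A R) :
    PUH A (R[X] ⧸ Ideal.span ({X ^ 2 - C x, X ^ 3 - C y} : Set R[X])) := by
  have h1 := (Groth.Agent.S7402.result R x y h).1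
  have h2 : algebraMap A (R[X] ⧸ Ideal.span ({X ^ 2 - C x, X ^ 3 - C y} : Set R[X])) =
      (algebraMap R (R[X] ⧸ Ideal.span ({X ^ 2 - C x, X ^ 3 - C y} : Set R[X]))).comp
        (algebraMap A R) := IsScalarTower.algebraMap_eq A R _
  show FlatMor.IsUnivHomeo _
  rw [h2]
  exact AWNRing.isUnivHomeo_comp_Spec _ _ hR h1

theorem pUH_mul_pow (R : Type u) [CommRing R] [Algebra A R] (p : ℕ) (hp : p.Prime) (x y : R)
    (h : (p : R) ^ p * x = y ^ p) (hR : PUH A R) :
    PUH A (R[X] ⧸ Ideal.span ({X ^ p - C x, C (p : R) * X - C y} : Set R[X])) := by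
  have h1 := Groth.Agent.S7403.result R p hp x y h
  have h2 : algebraMap A (R[X] ⧸ Ideal.span ({X ^ p - C x, C (p : R) * X - C y} : Set R[X])) =
      (algebraMap R (R[X] ⧸ Ideal.span ({X ^ p - C x, C (p : R) * X - C y} : Set R[X]))).comp
        (algebraMap A R) := IsScalarTower.algebraMap_eq A R _
  show FlatMor.IsUnivHomeo _
  rw [h2]
  exact AWNRing.isUnivHomeo_comp_Spec _ _ hR h1

theorem pUHRes_sq_cube (R : Type u) [CommRing R] [Algebra A R] (x y : R) (h : x ^ 3 = y ^ 2)
    (hR : PUHRes A R) :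
    PUHRes A (R[X] ⧸ Ideal.span ({X ^ 2 - C x, X ^ 3 - C y} : Set R[X])) := by
  have h1 := Groth.Agent.S7402.result R x y h
  have h2 : algebraMap A (R[X] ⧸ Ideal.span ({X ^ 2 - C x, X ^ 3 - C y} : Set R[X])) =
      (algebraMap R (R[X] ⧸ Ideal.span ({X ^ 2 - C x, X ^ 3 - C y} : Set R[X]))).comp
        (algebraMap A R) := IsScalarTower.algebraMap_eq A R _
  rw [pUHRes_iff] at hR ⊢
  rw [h2]
  exact ⟨AWNRing.isUnivHomeo_comp_Spec _ _ hR.1 h1.1,
    resSurj_comp _ _ hR.2 (resSurj_of _ h1.2)⟩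

variable {B : Type u} [CommRing B] [Algebra A B]

theorem goodFrom401_range_iff (S : Set B) (l : List B) :
    GoodFrom (A := (algebraMap A B).range) Groth.Agent.S7401.Step S l ↔
      GoodFrom (A := A) Groth.Agent.S7401.Step S l := by
  induction l generalizing S with
  | nil => simp only [GoodFrom]
  | cons b l ih =>
    simp only [GoodFrom]
    rw [ih]
    have : Groth.Agent.S7401.Step (Algebra.adjoin (algebraMap A B).range S) b ↔
        Groth.Agent.S7401.Step (Algebra.adjoin A S) b := by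
      unfold Groth.Agent.S7401.Step
      simp only [Groth.Agent.S7428.mem_adjoin_range_iff]
    rw [this]

set_option maxHeartbeats 1000000 in
theorem mem_goodUnion401
    (hU : FlatMor.IsUnivHomeo (Spec.map (CommRingCat.ofHom (algebraMap A B)))) (b : B) :
    b ∈ goodUnion (A := A) (B := B) Groth.Agent.S7401.Step := by
  classical
  set A₀ := (algebraMap A B).range with hA₀
  set ψ : A →+* A₀ := (algebraMap A B).rangeRestrict with hψdef
  set ι : A₀ →+* B := algebraMap A₀ B with hιdef
  have hcomp : algebraMap A B = ι.comp ψ := by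
    ext a
    rfl
  have hψs : Function.Surjective ψ := (algebraMap A B).rangeRestrict_surjective
  have hψker : RingHom.ker ψ ≤ nilradical A := by
    intro a ha
    apply FiltColimUH.ker_le_of_isUnivHomeo _ hU
    rw [RingHom.mem_ker] at ha ⊢
    have := congrArg Subtype.val ha
    exact this
  have hψ : FlatMor.IsUnivHomeo (Spec.map (CommRingCat.ofHom ψ)) :=
    AWNRing.isUnivHomeo_of_surjective_nil ψ hψs hψker
  have hinj : Function.Injective (algebraMap A₀ B) := Subtype.val_injective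
  have key := Groth.Agent.S7401.result (A := A₀) (B := B) hinj
  simp only [← Groth.Agent.S7401.good_iff] at key
  have hUι : FlatMor.IsUnivHomeo (Spec.map (CommRingCat.ofHom ι)) := by
    refine AWNRing.isUnivHomeo_of_comp_Spec ψ ι hψ ?_
    rw [← hcomp]
    exact hU
  obtain ⟨l, hbl, hl⟩ := key.1 hUι {b}
  refine ⟨l, (goodFrom401_range_iff ∅ l).1 hl, ?_⟩
  exact (Groth.Agent.S7428.mem_adjoin_range_iff _ b).1 (hbl (by simp))

theorem hlite_UH (hB : FlatMor.IsUnivHomeo (Spec.map (CommRingCat.ofHom (algebraMap A B))))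
    (b : B) : ∃ (j : Obj A B (PUH A)) (x : j.C), j.π x = b := by
  have hP := goodUH A
  obtain ⟨l, hl, hbl⟩ := mem_goodUnion401 hB b
  have hT : ∀ (S' : Subalgebra A B) (b : B), S' ≤ reach (B := B) hP →
      Groth.Agent.S7401.Step S' b → b ∈ reach (B := B) hP := by
    intro S' b hS' hb
    rcases hb with ⟨h2, h3⟩ | ⟨p, hp, h1, h2⟩
    · exact reach_sq_cube hP hB pUH_sq_cube b (hS' h2) (hS' h3)
    · exact reach_mul_pow hP hB pUH_mul_pow p hp b (hS' h1) (hS' h2)
  have := adjoin_le_of_goodFrom Groth.Agent.S7401.Step (reach (B := B) hP) hT ∅ l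
    (by rw [Algebra.adjoin_empty]; exact bot_le) hl
  rw [Set.empty_union] at this
  exact this hbl

theorem hlite_UHRes (hB : PUHRes A B)
    (b : B) : ∃ (j : Obj A B (PUHRes A)) (x : j.C), j.π x = b := by
  have hP := goodUHRes A
  obtain ⟨l, hl, hbl⟩ := mem_goodUnion_of_pUHRes hB b
  have hT : ∀ (S' : Subalgebra A B) (b : B), S' ≤ reach (B := B) hP →
      Groth.Agent.S7400.Step S' b → b ∈ reach (B := B) hP := by
    intro S' b hS' hb
    exact reach_sq_cube hP hB.1 pUHRes_sq_cube b (hS' hb.1) (hS' hb.2)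
  have := adjoin_le_of_goodFrom Groth.Agent.S7400.Step (reach (B := B) hP) hT ∅ l
    (by rw [Algebra.adjoin_empty]; exact bot_le) hl
  rw [Set.empty_union] at this
  exact this hbl

theorem exists_colim_UH
    (hB : FlatMor.IsUnivHomeo (Spec.map (CommRingCat.ofHom (algebraMap A B)))) :
    ∃ (J : Type u) (_ : SmallCategory J) (_ : IsFiltered J) (F : J ⥤ Under (CommRingCat.of A))
      (c : Limits.Cocone F) (_ : Limits.IsColimit c),
      (∀ j, (F.obj j).hom.hom.FinitePresentation ∧ FlatMor.IsUnivHomeo (Spec.map (F.obj j).hom)) ∧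
      Nonempty (c.pt ≅ Under.mk (CommRingCat.ofHom (algebraMap A B))) := by
  refine ⟨Obj A B (PUH A), inferInstance, isFiltered (goodUH A) hB, Fun A B (PUH A),
    coc A B (PUH A), isColimit (goodUH A) hB (hlite_UH hB), ?_, ⟨Iso.refl _⟩⟩
  intro j
  have hfp : (algebraMap A j.C).FinitePresentation :=
    RingHom.finitePresentation_algebraMap.2 inferInstance
  exact ⟨hfp, j.hP⟩

theorem exists_colim_UHRes (hB : PUHRes A B) :
    ∃ (J : Type u) (_ : SmallCategory J) (_ : IsFiltered J) (F : J ⥤ Under (CommRingCat.of A))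
      (c : Limits.Cocone F) (_ : Limits.IsColimit c),
      (∀ j, (F.obj j).hom.hom.FinitePresentation ∧ FlatMor.IsUnivHomeo (Spec.map (F.obj j).hom) ∧
        ∀ x : Spec (F.obj j).right,
          Function.Surjective ((Spec.map (F.obj j).hom).residueFieldMap x)) ∧
      Nonempty (c.pt ≅ Under.mk (CommRingCat.ofHom (algebraMap A B))) := by
  refine ⟨Obj A B (PUHRes A), inferInstance, isFiltered (goodUHRes A) hB.1, Fun A B (PUHRes A),
    coc A B (PUHRes A), isColimit (goodUHRes A) hB.1 (hlite_UHRes hB), ?_, ⟨Iso.refl _⟩⟩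
  intro j
  have hfp : (algebraMap A j.C).FinitePresentation :=
    RingHom.finitePresentation_algebraMap.2 inferInstance
  exact ⟨hfp, j.hP.1, j.hP.2⟩

end final

end Groth.Agent.Lib.helper2.FpColimUH
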