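import Mathlib
import Groth.Agent.S0418
import Groth.Agent.Lib.Helper2.PerfSchLib

/-!
# Flatness passes to perfections (helper2)
-/

set_option autoImplicit false
universe u
open CategoryTheory AlgebraicGeometry

namespace Groth.Agent.Lib.helper2.PerfFlat

section ringlevel

variable (p : ℕ) [hp : Fact p.Prime]

theorem bijective_pow_pow {R : Type u} [CommRing R] (h : Function.Bijective fun s : R => s ^ p)
    (n : ℕ) : Function.Bijective fun s : R => s ^ p ^ n := by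
  induction n with
  | zero =>
    have : (fun s : R => s ^ p ^ 0) = id := by
      ext s
      simp
    rw [this]
    exact Function.bijective_id
  | succ n ih =>
    have : (fun s : R => s ^ p ^ (n + 1)) = (fun s => s ^ p) ∘ (fun s => s ^ p ^ n) := by
      ext s
      simp [pow_succ, pow_mul]
    rw [this]
    exact h.comp ih

theorem pRadical_of_isUnivHomeo {A A' : Type u} [CommRing A] [CommRing A'] (α : A →+* A')
    (h0 : (p : A) = 0) (hα : FlatMor.IsUnivHomeo (Spec.map (CommRingCat.ofHom α))) :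
    (∀ a ∈ RingHom.ker α, IsNilpotent a) ∧ ∀ a' : A', ∃ n : ℕ, a' ^ p ^ n ∈ α.range := by
  have hloc : Function.Bijective (Localization.awayMap α (p : A)) := by
    haveI : Subsingleton (Localization.Away (p : A)) :=
      IsLocalization.subsingleton (M := Submonoid.powers (p : A)) ⟨1, by simp [h0]⟩
    haveI : Subsingleton (Localization.Away (α (p : A))) :=
      IsLocalization.subsingleton (M := Submonoid.powers (α (p : A))) ⟨1, by simp [h0]⟩
    exact ⟨fun _ _ _ => Subsingleton.elim _ _, fun y => ⟨0, Subsingleton.elim _ _⟩⟩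
  obtain ⟨h1, h2⟩ := (Groth.Agent.S0418.result α p hp.out hloc).1 hα
  refine ⟨h1, fun a' => ?_⟩
  obtain ⟨n, -, hn⟩ := h2 a'
  exact ⟨n, hn⟩

theorem pow_mem_range_mono {A A' : Type u} [CommRing A] [CommRing A'] (α : A →+* A') (a' : A')
    {n m : ℕ} (hnm : n ≤ m) (h : a' ^ p ^ n ∈ α.range) : a' ^ p ^ m ∈ α.range := by
  obtain ⟨k, rfl⟩ := Nat.exists_eq_add_of_le hnm
  rw [pow_add, pow_mul]
  exact Subring.pow_mem _ h _


set_option maxHeartbeats 1600000 in
theorem flat_of_perfection {A B A' B' : Type u} [CommRing A] [CommRing B] [CommRing A']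
    [CommRing B'] (φ : B →+* A) (φ' : B' →+* A') (α : A →+* A') (β : B →+* B')
    (hcomm : φ'.comp β = α.comp φ)
    (hA0 : (p : A) = 0) (hB0 : (p : B) = 0) (hA'0 : (p : A') = 0) (hB'0 : (p : B') = 0)
    (hA' : Function.Bijective fun s : A' => s ^ p) (hB' : Function.Bijective fun s : B' => s ^ p)
    (hα : FlatMor.IsUnivHomeo (Spec.map (CommRingCat.ofHom α)))
    (hβ : FlatMor.IsUnivHomeo (Spec.map (CommRingCat.ofHom β)))
    (hφ : φ.Flat) : φ'.Flat := by
  classical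
  letI := φ.toAlgebra
  letI := φ'.toAlgebra
  show Module.Flat B' A'
  rcases subsingleton_or_nontrivial A' with hs | hnt
  · infer_instance
  haveI : Nontrivial A := α.domain_nontrivial
  haveI : Nontrivial B' := φ'.domain_nontrivial
  haveI : CharP A p := (CharP.charP_iff_prime_eq_zero hp.out).2 hA0
  haveI : CharP A' p := (CharP.charP_iff_prime_eq_zero hp.out).2 hA'0
  haveI : CharP B' p := (CharP.charP_iff_prime_eq_zero hp.out).2 hB'0
  haveI : ExpChar A p := ExpChar.prime hp.out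
  haveI : ExpChar A' p := ExpChar.prime hp.out
  haveI : ExpChar B' p := ExpChar.prime hp.out
  have hsm : ∀ (b' : B') (a' : A'), b' • a' = φ' b' * a' := fun b' a' => rfl
  have hsm0 : ∀ (b : B) (a : A), b • a = φ b * a := fun b a => rfl
  have hc : ∀ b : B, φ' (β b) = α (φ b) := fun b => congrArg (fun g => g b) hcomm
  rw [Module.Flat.iff_forall_isTrivialRelation]
  intro l f x hrel
  obtain ⟨hαk, hαr⟩ := pRadical_of_isUnivHomeo p α hA0 hα
  obtain ⟨hβk, hβr⟩ := pRadical_of_isUnivHomeo p β hB0 hβ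
  choose nf hnf using fun i => hβr (f i)
  choose nx hnx using fun i => hαr (x i)
  set n := (Finset.univ.sup nf) ⊔ (Finset.univ.sup nx) with hn
  have hf' : ∀ i, (f i) ^ p ^ n ∈ β.range := fun i =>
    pow_mem_range_mono p β (f i) (le_trans (Finset.le_sup (Finset.mem_univ i)) le_sup_left) (hnf i)
  have hx' : ∀ i, (x i) ^ p ^ n ∈ α.range := fun i =>
    pow_mem_range_mono p α (x i) (le_trans (Finset.le_sup (Finset.mem_univ i)) le_sup_right)
      (hnx i)
  choose b hb using hf'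
  choose a ha using hx'
  -- Step 2
  have h2 : α (∑ i, φ (b i) * a i) = 0 := by
    rw [map_sum]
    have e : ∀ i, α (φ (b i) * a i) = (φ' (f i) * x i) ^ p ^ n := by
      intro i
      rw [map_mul, ← hc, hb, ha, map_pow, mul_pow]
    simp_rw [e]
    rw [← sum_pow_char_pow]
    have : ∑ i, φ' (f i) * x i = 0 := hrel
    rw [this, zero_pow (pow_pos hp.out.pos n).ne']
  -- Step 3
  obtain ⟨k, hk⟩ := hαk _ h2
  have hkm : k ≤ p ^ k := (Nat.lt_pow_self hp.out.one_lt).le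
  have h3 : ∑ i, φ ((b i) ^ p ^ k) * (a i) ^ p ^ k = 0 := by
    have e : ∀ i, φ ((b i) ^ p ^ k) * (a i) ^ p ^ k = (φ (b i) * a i) ^ p ^ k := by
      intro i
      rw [map_pow, mul_pow]
    simp_rw [e]
    rw [← sum_pow_char_pow]
    exact pow_eq_zero_of_le hkm hk
  -- Step 4
  have hflat : Module.Flat B A := hφ
  obtain ⟨kk, d, y, hy1, hy2⟩ := Module.Flat.iff_forall_isTrivialRelation.1 hflat
    (f := fun i => (b i) ^ p ^ k) (x := fun i => (a i) ^ p ^ k) (by
      simp_rw [hsm0]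
      exact h3)
  -- Step 5
  have bijA := bijective_pow_pow p hA' (n + k)
  have bijB := bijective_pow_pow p hB' (n + k)
  choose r hr using fun i j => bijB.2 (β (d i j))
  choose s hs using fun j => bijA.2 (α (y j))
  simp only at hr hs
  refine ⟨kk, r, s, ?_, ?_⟩
  · intro i
    apply bijA.1
    show (x i) ^ p ^ (n + k) = (∑ j, r i j • s j) ^ p ^ (n + k)
    rw [sum_pow_char_pow]
    have e : ∀ j, (r i j • s j) ^ p ^ (n + k) = α (φ (d i j) * y j) := by
      intro j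
      rw [hsm, mul_pow, ← map_pow, hr, hs, hc, map_mul]
    simp_rw [e]
    rw [← map_sum]
    have h4 : (a i) ^ p ^ k = ∑ j, φ (d i j) * y j := hy1 i
    rw [← h4, map_pow, ha, pow_add, pow_mul]
  · intro j
    apply bijB.1
    show (∑ i, f i * r i j) ^ p ^ (n + k) = (0 : B') ^ p ^ (n + k)
    rw [sum_pow_char_pow, zero_pow (pow_pos hp.out.pos _).ne']
    have e : ∀ i, (f i * r i j) ^ p ^ (n + k) = β ((b i) ^ p ^ k * d i j) := by
      intro i
      rw [mul_pow, hr, map_mul, map_pow, hb, pow_add, pow_mul]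
    simp_rw [e]
    rw [← map_sum, hy2 j, map_zero]

end ringlevel


section schemelevel

open FrobSch Groth.Agent.Lib.helper2.AWNScheme

theorem isUnivHomeo_Spec_app {X Y : Scheme.{u}} (π : X ⟶ Y) (hπ : FlatMor.IsUnivHomeo π)
    {U : Y.Opens} (hU : IsAffineOpen U) (hU' : IsAffineOpen (π ⁻¹ᵁ U)) :
    FlatMor.IsUnivHomeo (Spec.map (π.app U)) := by
  have h1 : FlatMor.IsUnivHomeo (π ∣_ U) := IsZariskiLocalAtTarget.restrict hπ U
  have h3 := Scheme.Opens.toSpecΓ_naturality π U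
  haveI : IsAffine (U : Scheme.{u}) := hU
  haveI : IsAffine ((π ⁻¹ᵁ U : X.Opens) : Scheme.{u}) := hU'
  haveI : IsIso U.toSpecΓ := by
    delta Scheme.Opens.toSpecΓ
    infer_instance
  haveI : IsIso (π ⁻¹ᵁ U).toSpecΓ := by
    delta Scheme.Opens.toSpecΓ
    infer_instance
  have h4 : Spec.map (π.app U) = inv (π ⁻¹ᵁ U).toSpecΓ ≫ (π ∣_ U) ≫ U.toSpecΓ := by
    rw [← h3, IsIso.inv_hom_id_assoc]
  rw [h4]
  refine MorphismProperty.comp_mem _ _ _ (Groth.Agent.S0416.isUnivHomeo_of_isIso _) ?_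
  exact MorphismProperty.comp_mem _ _ _ h1 (Groth.Agent.S0416.isUnivHomeo_of_isIso _)

theorem appLE_congr_hom {X Y : Scheme.{u}} (g g' : X ⟶ Y) (hg : g = g') (V : Y.Opens)
    (U : X.Opens) (e : U ≤ g ⁻¹ᵁ V) (e' : U ≤ g' ⁻¹ᵁ V) : g.appLE V U e = g'.appLE V U e' := by
  subst hg
  rfl

variable (p : ℕ) [Fact p.Prime]

theorem flat_perfection {X Y XP YP : Scheme.{u}}
    [IsCharP X p] [IsCharP Y p] [IsCharP XP p] [IsCharP YP p]
    (πX : XP ⟶ X) (πY : YP ⟶ Y) (hX : FrobSch.IsPerfection πX p) (hY : FrobSch.IsPerfection πY p)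
    (f : X ⟶ Y) (fP : XP ⟶ YP) (w : fP ≫ πY = πX ≫ f) [Flat f] : Flat fP := by
  have hπX := PerfSchLib.isUnivHomeo_of_isPerfection p πX hX
  have hπY := PerfSchLib.isUnivHomeo_of_isPerfection p πY hY
  haveI : IsAffineHom πX := isAffineHom_of_isUnivHomeo πX hπX
  haveI : IsAffineHom πY := isAffineHom_of_isUnivHomeo πY hπY
  have hQ := (RingHom.Flat.stableUnderComposition.stableUnderCompositionWithLocalizationAway
    RingHom.Flat.holdsForLocalizationAway).1
  rw [HasRingHomProperty.iff_exists_appLE (P := @Flat) hQ]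
  intro x'
  obtain ⟨_, ⟨V, hV, rfl⟩, hyV, -⟩ := Y.isBasis_affineOpens.exists_subset_of_mem_open
    (Set.mem_univ (f (πX x'))) isOpen_univ
  obtain ⟨_, ⟨U, hU, rfl⟩, hxU, hUV⟩ := X.isBasis_affineOpens.exists_subset_of_mem_open
    (show πX x' ∈ (f ⁻¹ᵁ V : X.Opens) from hyV) (f ⁻¹ᵁ V).isOpen
  have hV' : IsAffineOpen (πY ⁻¹ᵁ V) := hV.preimage πY
  have hU' : IsAffineOpen (πX ⁻¹ᵁ U) := hU.preimage πX
  have e' : πX ⁻¹ᵁ U ≤ fP ⁻¹ᵁ (πY ⁻¹ᵁ V) := by
    intro z hz
    show πY (fP z) ∈ V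
    have h1 : (fP ≫ πY) z = (πX ≫ f) z := by rw [w]
    have h2 : πY (fP z) = f (πX z) := h1
    rw [h2]
    exact hUV hz
  refine ⟨⟨πY ⁻¹ᵁ V, hV'⟩, ⟨πX ⁻¹ᵁ U, hU'⟩, hxU, e', ?_⟩
  have hcomm : (fP.appLE (πY ⁻¹ᵁ V) (πX ⁻¹ᵁ U) e').hom.comp (πY.app V).hom =
      (πX.app U).hom.comp (f.appLE V U hUV).hom := by
    have h1 : πY.app V ≫ fP.appLE (πY ⁻¹ᵁ V) (πX ⁻¹ᵁ U) e' =
        (fP ≫ πY).appLE V (πX ⁻¹ᵁ U) e' := (Scheme.Hom.comp_appLE fP πY V _ e').symm
    have h2 : f.appLE V U hUV ≫ πX.app U = (πX ≫ f).appLE V (πX ⁻¹ᵁ U)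
        (fun z hz => hUV hz) := by
      rw [Scheme.Hom.app_eq_appLE, Scheme.Hom.appLE_comp_appLE]
    have h3 := appLE_congr_hom (fP ≫ πY) (πX ≫ f) w V (πX ⁻¹ᵁ U) e' (fun z hz => hUV hz)
    have h4 : πY.app V ≫ fP.appLE (πY ⁻¹ᵁ V) (πX ⁻¹ᵁ U) e' = f.appLE V U hUV ≫ πX.app U := by
      rw [h1, h2, h3]
    exact congrArg CommRingCat.Hom.hom h4
  exact flat_of_perfection p (f.appLE V U hUV).hom (fP.appLE (πY ⁻¹ᵁ V) (πX ⁻¹ᵁ U) e').hom
    (πX.app U).hom (πY.app V).hom hcomm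
    (natCast_eq_zero_app X p U) (natCast_eq_zero_app Y p V)
    (natCast_eq_zero_app XP p _) (natCast_eq_zero_app YP p _)
    (PerfSchLib.bijective_pow_of_isPerfect p XP hX.1 _)
    (PerfSchLib.bijective_pow_of_isPerfect p YP hY.1 _)
    (isUnivHomeo_Spec_app πX hπX hU hU') (isUnivHomeo_Spec_app πY hπY hV hV')
    (Scheme.Hom.flat_appLE f hV hU hUV)

theorem surjective_perfection {X Y XP YP : Scheme.{u}}
    [IsCharP X p] [IsCharP Y p] [IsCharP XP p] [IsCharP YP p]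
    (πX : XP ⟶ X) (πY : YP ⟶ Y) (hX : FrobSch.IsPerfection πX p) (hY : FrobSch.IsPerfection πY p)
    (f : X ⟶ Y) (fP : XP ⟶ YP) (w : fP ≫ πY = πX ≫ f) [Surjective f] : Surjective fP := by
  have hπX := isHomeomorph_of_isUnivHomeo _ (PerfSchLib.isUnivHomeo_of_isPerfection p πX hX)
  have hπY := isHomeomorph_of_isUnivHomeo _ (PerfSchLib.isUnivHomeo_of_isPerfection p πY hY)
  refine ⟨fun y' => ?_⟩
  obtain ⟨x, hx⟩ := f.surjective (πY y')
  obtain ⟨x', rfl⟩ := hπX.surjective x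
  refine ⟨x', hπY.injective ?_⟩
  have h1 : (fP ≫ πY) x' = (πX ≫ f) x' := by rw [w]
  exact h1.trans hx

end schemelevel

end Groth.Agent.Lib.helper2.PerfFlat
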