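import Mathlib.AlgebraicGeometry.ResidueField
import Mathlib.RingTheory.LocalRing.ResidueField.Ideal
import Mathlib.AlgebraicGeometry.Morphisms.UniversallyInjective
import Mathlib.AlgebraicGeometry.Morphisms.Integral
import Groth.Prelude.Def_HTop2
import Mathlib.RingTheory.RingHom.PurelyInseparable
import Mathlib.FieldTheory.PurelyInseparable.Basic
import Mathlib.Algebra.CharP.Algebra

/-! Glue (helper2) between scheme-level residue field maps / universal homeomorphisms of
`Spec.map` and ring-level statements. -/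

set_option autoImplicit false
universe u

namespace Groth.Agent.Lib.helper2.SpecResidue

open AlgebraicGeometry CategoryTheory

/-- The residue field map of `Spec.map φ` at `y` is `Ideal.ResidueField.map`, through
`Spec.residueFieldIso`. -/
theorem residueFieldMap_Spec {R S : CommRingCat.{u}} (φ : R ⟶ S) (y : Spec S) :
    (Scheme.Spec.residueFieldIso R ((Spec.map φ) y)).inv ≫
      (Spec.map φ).residueFieldMap y ≫ (Scheme.Spec.residueFieldIso S y).hom =
    CommRingCat.ofHom (Ideal.ResidueField.map ((Spec.map φ) y).asIdeal y.asIdeal φ.hom rfl) := by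
  have key : CommRingCat.ofHom (algebraMap R ((Spec.map φ) y).asIdeal.ResidueField) ≫
      ((Scheme.Spec.residueFieldIso R ((Spec.map φ) y)).inv ≫
      (Spec.map φ).residueFieldMap y ≫ (Scheme.Spec.residueFieldIso S y).hom) =
      CommRingCat.ofHom (algebraMap R ((Spec.map φ) y).asIdeal.ResidueField) ≫
      CommRingCat.ofHom (Ideal.ResidueField.map ((Spec.map φ) y).asIdeal y.asIdeal φ.hom rfl) := by
    rw [Scheme.Spec.algebraMap_residueFieldIso_inv_assoc]
    have h2 := Scheme.Γevaluation_naturality_assoc (Spec.map φ) y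
      (Scheme.Spec.residueFieldIso S y).hom
    have h2' : (Spec R).presheaf.germ ⊤ ((Spec.map φ) y) trivial ≫
        (Spec R).residue ((Spec.map φ) y) ≫
        (Spec.map φ).residueFieldMap y ≫ (Scheme.Spec.residueFieldIso S y).hom =
        (Spec.map φ).appTop ≫ (Spec S).presheaf.germ ⊤ y trivial ≫ (Spec S).residue y ≫
          (Scheme.Spec.residueFieldIso S y).hom := by
      simpa [Scheme.Γevaluation, Scheme.evaluation] using h2
    rw [h2']
    have h3 := Scheme.ΓSpecIso_inv_naturality_assoc φ
      ((Spec S).presheaf.germ ⊤ y trivial ≫ (Spec S).residue y ≫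
        (Scheme.Spec.residueFieldIso S y).hom)
    rw [← h3]
    have h4 := Scheme.Spec.algebraMap_residueFieldIso_inv_assoc S y
      (Scheme.Spec.residueFieldIso S y).hom
    rw [Iso.inv_hom_id, Category.comp_id] at h4
    rw [← h4]
    ext a
    simp
  apply CommRingCat.hom_ext
  apply Ideal.ResidueField.ringHom_ext
  exact congrArg CommRingCat.Hom.hom key

theorem isIso_residueFieldMap_Spec_iff {R S : CommRingCat.{u}} (φ : R ⟶ S) (y : Spec S) :
    IsIso ((Spec.map φ).residueFieldMap y) ↔
      Function.Bijective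
        (Ideal.ResidueField.map ((Spec.map φ) y).asIdeal y.asIdeal φ.hom rfl) := by
  have h := residueFieldMap_Spec φ y
  have hiff : IsIso ((Spec.map φ).residueFieldMap y) ↔
      IsIso (CommRingCat.ofHom
        (Ideal.ResidueField.map ((Spec.map φ) y).asIdeal y.asIdeal φ.hom rfl)) := by
    rw [← h]
    constructor
    · intro _
      infer_instance
    · intro h'
      have h1 : IsIso ((Spec.map φ).residueFieldMap y ≫
          (Scheme.Spec.residueFieldIso S y).hom) := IsIso.of_isIso_comp_left
            (Scheme.Spec.residueFieldIso R ((Spec.map φ) y)).inv _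
      exact IsIso.of_isIso_comp_right _ (Scheme.Spec.residueFieldIso S y).hom
  rw [hiff, ConcreteCategory.isIso_iff_bijective]
  rfl

theorem residueFieldsIso_Spec_iff {A C : Type u} [CommRing A] [CommRing C] (ψ : A →+* C) :
    HTop.ResidueFieldsIso (Spec.map (CommRingCat.ofHom ψ)) ↔
      ∀ Q : PrimeSpectrum C, Function.Bijective
        (Ideal.ResidueField.map (PrimeSpectrum.comap ψ Q).asIdeal Q.asIdeal ψ rfl) := by
  unfold HTop.ResidueFieldsIso
  constructor
  · intro h Q
    exact (isIso_residueFieldMap_Spec_iff (CommRingCat.ofHom ψ) Q).1 (h Q)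
  · intro h y
    exact (isIso_residueFieldMap_Spec_iff (CommRingCat.ofHom ψ) y).2 (h y)

/-- integral + universally injective + surjective ⟹ universal homeomorphism (after helper1). -/
theorem isUnivHomeo_of_integral {X Y : Scheme.{u}} (f : X ⟶ Y) [IsIntegralHom f]
    [UniversallyInjective f] [Surjective f] : FlatMor.IsUnivHomeo f := by
  intro X' Y' i₁ i₂ f' h
  have h1 : IsIntegralHom f' := MorphismProperty.of_isPullback h.flip ‹_›
  have h2 : UniversallyInjective f' := MorphismProperty.of_isPullback h.flip ‹_›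
  have h3 : Surjective f' := MorphismProperty.of_isPullback h.flip ‹_›
  exact isHomeomorph_iff_continuous_isClosedMap_bijective.2
    ⟨f'.continuous, f'.isClosedMap, f'.injective, f'.surjective⟩

theorem isUnivHomeo_Spec_of {A C : Type u} [CommRing A] [CommRing C] (ψ : A →+* C)
    (hint : ψ.IsIntegral) (hsurj : Function.Surjective (PrimeSpectrum.comap ψ))
    (hinj : ∀ (K : Type u) [Field K] (φ₁ φ₂ : C →+* K), φ₁.comp ψ = φ₂.comp ψ → φ₁ = φ₂) :
    FlatMor.IsUnivHomeo (Spec.map (CommRingCat.ofHom ψ)) := by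
  have h1 : IsIntegralHom (Spec.map (CommRingCat.ofHom ψ)) := by
    rw [IsIntegralHom.SpecMap_iff]
    exact hint
  have h2 : UniversallyInjective (Spec.map (CommRingCat.ofHom ψ)) := by
    refine ((tfae_universallyInjective _).out 0 1).2 ?_
    intro K _ g₁ g₂ hg
    obtain ⟨φ₁, rfl⟩ := Spec.map_surjective g₁
    obtain ⟨φ₂, rfl⟩ := Spec.map_surjective g₂
    dsimp only at hg
    rw [← Spec.map_comp, ← Spec.map_comp] at hg
    have := Spec.map_injective hg
    have h3 : φ₁.hom.comp ψ = φ₂.hom.comp ψ := by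
      have := congrArg CommRingCat.Hom.hom this
      simpa using this
    have h4 := hinj K φ₁.hom φ₂.hom h3
    congr 1
    exact CommRingCat.hom_ext h4
  have h3 : Surjective (Spec.map (CommRingCat.ofHom ψ)) := ⟨fun x => hsurj x⟩
  exact isUnivHomeo_of_integral _

theorem isIntegral_of_isUnivHomeo_Spec {A C : Type u} [CommRing A] [CommRing C] (ψ : A →+* C)
    (h : FlatMor.IsUnivHomeo (Spec.map (CommRingCat.ofHom ψ))) : ψ.IsIntegral := by
  have hc : UniversallyClosed (Spec.map (CommRingCat.ofHom ψ)) := by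
    rw [universallyClosed_eq]
    exact MorphismProperty.universally_mono (fun X Y f hf => IsHomeomorph.isClosedMap hf) _ h
  have : IsIntegralHom (Spec.map (CommRingCat.ofHom ψ)) :=
    IsIntegralHom.iff_universallyClosed_and_isAffineHom.2 ⟨hc, inferInstance⟩
  exact IsIntegralHom.SpecMap_iff.1 this

theorem comap_bijective_of_isUnivHomeo_Spec {A C : Type u} [CommRing A] [CommRing C]
    (ψ : A →+* C) (h : FlatMor.IsUnivHomeo (Spec.map (CommRingCat.ofHom ψ))) :
    Function.Bijective (PrimeSpectrum.comap ψ) := by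
  have : IsHomeomorph (Spec.map (CommRingCat.ofHom ψ)) :=
    MorphismProperty.universally_le _ _ h
  exact this.bijective

theorem universallyInjective_of_isUnivHomeo {X Y : Scheme.{u}} (f : X ⟶ Y)
    (h : FlatMor.IsUnivHomeo f) : UniversallyInjective f :=
  ⟨MorphismProperty.universally_mono (fun _ _ _ hf => IsHomeomorph.injective hf) _ h⟩

theorem ringExpChar_eq_of_ringEquiv {K L : Type u} [Field K] [Field L] (e : K ≃+* L) :
    ringExpChar K = ringExpChar L := by
  have : ExpChar L (ringExpChar K) :=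
    expChar_of_injective_ringHom (f := (e : K →+* L)) e.injective (ringExpChar K)
  exact (ringExpChar.eq L (ringExpChar K)).symm

/-- If `Spec ψ` is a universal homeomorphism then every residue field extension of `ψ` is purely
inseparable (ring-level statement). -/
theorem exists_pow_mem_range_of_isUnivHomeo_Spec {A C : Type u} [CommRing A] [CommRing C]
    (ψ : A →+* C) (h : FlatMor.IsUnivHomeo (Spec.map (CommRingCat.ofHom ψ)))
    (Q : PrimeSpectrum C) (z : Q.asIdeal.ResidueField) :
    ∃ n : ℕ, z ^ (ringExpChar (PrimeSpectrum.comap ψ Q).asIdeal.ResidueField) ^ n ∈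
      Set.range (Ideal.ResidueField.map (PrimeSpectrum.comap ψ Q).asIdeal Q.asIdeal ψ rfl) := by
  have hui := universallyInjective_of_isUnivHomeo _ h
  have h02 : UniversallyInjective (Spec.map (CommRingCat.ofHom ψ)) →
      (Function.Injective (Spec.map (CommRingCat.ofHom ψ)) ∧ ∀ x,
        ((Spec.map (CommRingCat.ofHom ψ)).residueFieldMap x).hom.IsPurelyInseparable) :=
    ((tfae_universallyInjective (Spec.map (CommRingCat.ofHom ψ))).out 0 2).1
  have hpi := (h02 hui).2 Q
  have hglue := residueFieldMap_Spec (CommRingCat.ofHom ψ) Q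
  set eR := Scheme.Spec.residueFieldIso (CommRingCat.of A) ((Spec.map (CommRingCat.ofHom ψ)) Q)
  set eS := Scheme.Spec.residueFieldIso (CommRingCat.of C) Q
  set r := (Spec.map (CommRingCat.ofHom ψ)).residueFieldMap Q
  -- r ≫ eS.hom = eR.hom ≫ ofHom (RF.map)
  have hglue' : r ≫ eS.hom = eR.hom ≫ CommRingCat.ofHom (Ideal.ResidueField.map
      (PrimeSpectrum.comap ψ Q).asIdeal Q.asIdeal ψ rfl) := by
    have h' : eR.hom ≫ (eR.inv ≫ r ≫ eS.hom) = eR.hom ≫ CommRingCat.ofHom
        (Ideal.ResidueField.map ((Spec.map (CommRingCat.ofHom ψ)) Q).asIdeal Q.asIdeal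
          (CommRingCat.ofHom ψ).hom rfl) := congrArg (fun f => eR.hom ≫ f) hglue
    rw [Iso.hom_inv_id_assoc] at h'
    exact h'
  letI := r.hom.toAlgebra
  have hpi' : IsPurelyInseparable _ _ := hpi
  have hchar : ringExpChar (PrimeSpectrum.comap ψ Q).asIdeal.ResidueField =
      ringExpChar ((Spec (CommRingCat.of A)).residueField ((Spec.map (CommRingCat.ofHom ψ)) Q)) :=
    (ringExpChar_eq_of_ringEquiv eR.commRingCatIsoToRingEquiv).symm
  obtain ⟨n, v, hv⟩ := IsPurelyInseparable.pow_mem
    ((Spec (CommRingCat.of A)).residueField ((Spec.map (CommRingCat.ofHom ψ)) Q))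
    (ringExpChar ((Spec (CommRingCat.of A)).residueField ((Spec.map (CommRingCat.ofHom ψ)) Q)))
    (eS.inv.hom z)
  refine ⟨n, eR.hom.hom v, ?_⟩
  have h1 : (r ≫ eS.hom).hom v = (eR.hom ≫ CommRingCat.ofHom (Ideal.ResidueField.map
      (PrimeSpectrum.comap ψ Q).asIdeal Q.asIdeal ψ rfl)).hom v := by rw [hglue']
  have h2 : eS.hom.hom (r.hom v) = Ideal.ResidueField.map
      (PrimeSpectrum.comap ψ Q).asIdeal Q.asIdeal ψ rfl (eR.hom.hom v) := h1
  rw [← h2, hchar]
  have h3 : r.hom v = (eS.inv.hom z) ^ (ringExpChar ((Spec (CommRingCat.of A)).residueField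
      ((Spec.map (CommRingCat.ofHom ψ)) Q))) ^ n := hv
  rw [h3, map_pow]
  congr 1
  have := congrArg (fun f => f.hom z) eS.inv_hom_id
  exact this

/-- If `Spec ψ` is a universal homeomorphism, ring maps from `C` to a field are determined by
their restriction along `ψ`. -/
theorem hom_ext_of_isUnivHomeo_Spec {A C : Type u} [CommRing A] [CommRing C]
    (ψ : A →+* C) (h : FlatMor.IsUnivHomeo (Spec.map (CommRingCat.ofHom ψ)))
    (L : Type u) [Field L] (χ₁ χ₂ : C →+* L) (hχ : χ₁.comp ψ = χ₂.comp ψ) : χ₁ = χ₂ := by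
  have hui := universallyInjective_of_isUnivHomeo _ h
  have h01 : UniversallyInjective (Spec.map (CommRingCat.ofHom ψ)) →
      ∀ (K : Type u) [Field K], Function.Injective
        (fun g : Spec (.of K) ⟶ Spec (CommRingCat.of C) ↦ g ≫ Spec.map (CommRingCat.ofHom ψ)) :=
    ((tfae_universallyInjective (Spec.map (CommRingCat.ofHom ψ))).out 0 1).1
  have hinj := h01 hui L
  have h1 : Spec.map (CommRingCat.ofHom χ₁) ≫ Spec.map (CommRingCat.ofHom ψ) =
      Spec.map (CommRingCat.ofHom χ₂) ≫ Spec.map (CommRingCat.ofHom ψ) := by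
    rw [← Spec.map_comp, ← Spec.map_comp, ← CommRingCat.ofHom_comp, ← CommRingCat.ofHom_comp, hχ]
  have h2 := Spec.map_injective (hinj h1)
  have h3 := congrArg CommRingCat.Hom.hom h2
  exact h3

end Groth.Agent.Lib.helper2.SpecResidue
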