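import Mathlib
import Groth.Agent.Lib.Helper2.PerfSchLib
import Groth.Agent.S0415

/-!
# Permanence of properties of morphisms under perfection (helper2)
-/

set_option autoImplicit false
universe u

open AlgebraicGeometry CategoryTheory Limits MorphismProperty

namespace Groth.Agent.Lib.helper2.PerfSchFamily

open Groth.Agent.Lib.helper2 Groth.Agent.Lib.helper2.AWNScheme Groth.Agent.Lib.helper2.PerfSchLib

theorem quasiCompact_iff_of_homeo {X Y XP YP : Scheme.{u}} (πX : XP ⟶ X) (πY : YP ⟶ Y)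
    (hX : IsHomeomorph πX) (hY : IsHomeomorph πY) (f : X ⟶ Y) (fP : XP ⟶ YP)
    (w : fP ≫ πY = πX ≫ f) : QuasiCompact f ↔ QuasiCompact fP := by
  have hw : ∀ x, πY (fP x) = f (πX x) := fun x => by
    rw [← Scheme.Hom.comp_apply, w, Scheme.Hom.comp_apply]
  constructor
  · rintro ⟨h⟩
    refine ⟨fun V hVo hVc => ?_⟩
    have h1 := h (πY '' V) (hY.isOpenMap V hVo) (hVc.image πY.continuous)
    have h2 : fP ⁻¹' V = πX ⁻¹' (f ⁻¹' (πY '' V)) := by
      ext x
      simp only [Set.mem_preimage, Set.mem_image]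
      constructor
      · intro hx
        exact ⟨fP x, hx, hw x⟩
      · rintro ⟨y, hy, hyx⟩
        rw [← hw x] at hyx
        rw [← hY.injective hyx]
        exact hy
    rw [h2]
    exact ((hX.homeomorph πX).isCompact_preimage).2 h1
  · rintro ⟨h⟩
    refine ⟨fun U hUo hUc => ?_⟩
    have h1 := h (πY ⁻¹' U) (hUo.preimage πY.continuous)
      (((hY.homeomorph πY).isCompact_preimage).2 hUc)
    have h2 : f ⁻¹' U = πX '' (fP ⁻¹' (πY ⁻¹' U)) := by
      ext x
      simp only [Set.mem_preimage, Set.mem_image]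
      constructor
      · intro hx
        obtain ⟨x', rfl⟩ := hX.surjective x
        refine ⟨x', ?_, rfl⟩
        rw [hw]
        exact hx
      · rintro ⟨x', hx', rfl⟩
        rw [← hw]
        exact hx'
    rw [h2]
    exact h1.image πX.continuous

section uhfacts

variable {X Y : Scheme.{u}} (π : X ⟶ Y) (h : FlatMor.IsUnivHomeo π)

include h

theorem isIntegralHom_of_isUnivHomeo : IsIntegralHom π := ((Groth.Agent.S0415.result π).1 h).1

theorem universallyInjective_of_isUnivHomeo : UniversallyInjective π :=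
  ((Groth.Agent.S0415.result π).1 h).2.1

theorem surjective_of_isUnivHomeo : Surjective π := ((Groth.Agent.S0415.result π).1 h).2.2

theorem universallyClosed_of_isUnivHomeo : UniversallyClosed π :=
  haveI := isIntegralHom_of_isUnivHomeo π h
  inferInstance

theorem isSeparated_of_isUnivHomeo : IsSeparated π :=
  haveI := isAffineHom_of_isUnivHomeo π h
  inferInstance

end uhfacts

section ucl

variable {X Y XP YP : Scheme.{u}} (πX : XP ⟶ X) (πY : YP ⟶ Y)
  (hX : FlatMor.IsUnivHomeo πX) (hY : FlatMor.IsUnivHomeo πY) (f : X ⟶ Y) (fP : XP ⟶ YP)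
  (w : fP ≫ πY = πX ≫ f)

include hX hY w

theorem universallyClosed_iff_of_univHomeo : UniversallyClosed f ↔ UniversallyClosed fP := by
  haveI := universallyClosed_of_isUnivHomeo πX hX
  haveI := universallyClosed_of_isUnivHomeo πY hY
  haveI := isSeparated_of_isUnivHomeo πY hY
  haveI := surjective_of_isUnivHomeo πX hX
  constructor
  · intro hf
    haveI : UniversallyClosed (fP ≫ πY) := by rw [w]; infer_instance
    exact UniversallyClosed.of_comp_of_isSeparated fP πY
  · intro hfP
    haveI : UniversallyClosed (πX ≫ f) := by rw [← w]; infer_instance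
    exact UniversallyClosed.of_comp_surjective πX f

theorem isSeparated_of_univHomeo (hf : IsSeparated f) : IsSeparated fP := by
  haveI := isSeparated_of_isUnivHomeo πX hX
  haveI : IsSeparated (fP ≫ πY) := by rw [w]; infer_instance
  exact IsSeparated.of_comp fP πY

theorem quasiSeparated_of_univHomeo (hf : QuasiSeparated f) : QuasiSeparated fP := by
  haveI := isSeparated_of_isUnivHomeo πX hX
  haveI : QuasiSeparated (fP ≫ πY) := by rw [w]; infer_instance
  exact QuasiSeparated.of_comp fP πY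

end ucl

theorem quasiSeparated_conv {X Y XP YP : Scheme.{u}} (πX : XP ⟶ X) (πY : YP ⟶ Y)
  (hX : FlatMor.IsUnivHomeo πX) (hY : FlatMor.IsUnivHomeo πY) (f : X ⟶ Y) (fP : XP ⟶ YP)
  (w : fP ≫ πY = πX ≫ f) (hfP : QuasiSeparated fP) : QuasiSeparated f := by
  haveI := isAffineHom_of_isUnivHomeo πY hY
  have hXh := isHomeomorph_of_isUnivHomeo πX hX
  have hw : ∀ x, πY (fP x) = f (πX x) := fun x => by
    rw [← Scheme.Hom.comp_apply, w, Scheme.Hom.comp_apply]
  rw [HasAffineProperty.iff_of_iSup_eq_top (P := @QuasiSeparated) (fun U : Y.affineOpens => U)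
    (iSup_affineOpens_eq_top Y)]
  intro U
  show QuasiSeparatedSpace ↥(f ⁻¹ᵁ U.1)
  refine (isQuasiSeparated_iff_quasiSeparatedSpace _ (f ⁻¹ᵁ U.1).2).1 ?_
  have h1 : IsQuasiSeparated (fP ⁻¹ᵁ (πY ⁻¹ᵁ U.1) : Set XP) :=
    fP.isQuasiSeparated_preimage ((U.2.preimage πY).isQuasiSeparated)
  have h2 : ((f ⁻¹ᵁ U.1 : X.Opens) : Set X) = πX '' (fP ⁻¹ᵁ (πY ⁻¹ᵁ U.1) : Set XP) := by
    ext x
    simp only [Set.mem_image]
    constructor
    · intro hx
      obtain ⟨x', rfl⟩ := hXh.surjective x
      refine ⟨x', ?_, rfl⟩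
      show πY (fP x') ∈ U.1
      rw [hw]
      exact hx
    · rintro ⟨x', hx', rfl⟩
      show f (πX x') ∈ U.1
      rw [← hw]
      exact hx'
  show IsQuasiSeparated ((f ⁻¹ᵁ U.1 : X.Opens) : Set X)
  rw [h2]
  exact h1.image_of_isEmbedding hXh.isEmbedding

theorem isSeparated_conv {X Y XP YP : Scheme.{u}} (πX : XP ⟶ X) (πY : YP ⟶ Y)
  (hX : FlatMor.IsUnivHomeo πX) (hY : FlatMor.IsUnivHomeo πY) (f : X ⟶ Y) (fP : XP ⟶ YP)
  (w : fP ≫ πY = πX ≫ f) (hfP : IsSeparated fP) : IsSeparated f := by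
  haveI := isSeparated_of_isUnivHomeo πY hY
  haveI : IsSeparated (πX ≫ f) := by rw [← w]; infer_instance
  have hXs := (isHomeomorph_of_isUnivHomeo πX hX).surjective
  have hq : FlatMor.IsUnivHomeo (pullback.map (πX ≫ f) (πX ≫ f) f f πX πX (𝟙 Y)
      ((Category.comp_id _).trans rfl) ((Category.comp_id _).trans rfl)) :=
    MorphismProperty.pullbackMap hX hX rfl rfl
  set q := pullback.map (πX ≫ f) (πX ≫ f) f f πX πX (𝟙 Y)
      ((Category.comp_id _).trans rfl) ((Category.comp_id _).trans rfl) with hqdef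
  have hqh := isHomeomorph_of_isUnivHomeo q hq
  have hcomm : pullback.diagonal (πX ≫ f) ≫ q = πX ≫ pullback.diagonal f := by
    apply pullback.hom_ext
    · rw [Category.assoc, hqdef, pullback.lift_fst, pullback.diagonal_fst_assoc, Category.assoc,
        pullback.diagonal_fst, Category.comp_id]
    · rw [Category.assoc, hqdef, pullback.lift_snd, pullback.diagonal_snd_assoc, Category.assoc,
        pullback.diagonal_snd, Category.comp_id]
  refine ⟨IsClosedImmersion.of_isPreimmersion _ ?_⟩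
  have hr : Set.range (pullback.diagonal f) = q '' Set.range (pullback.diagonal (πX ≫ f)) := by
    ext z
    constructor
    · rintro ⟨x, rfl⟩
      obtain ⟨x', rfl⟩ := hXs x
      refine ⟨pullback.diagonal (πX ≫ f) x', ⟨x', rfl⟩, ?_⟩
      rw [← Scheme.Hom.comp_apply, hcomm, Scheme.Hom.comp_apply]
    · rintro ⟨_, ⟨x', rfl⟩, rfl⟩
      refine ⟨πX x', ?_⟩
      rw [← Scheme.Hom.comp_apply, ← hcomm, Scheme.Hom.comp_apply]
  rw [hr]
  exact hqh.isClosedMap _ (pullback.diagonal (πX ≫ f)).isClosedEmbedding.isClosed_range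

end Groth.Agent.Lib.helper2.PerfSchFamily
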