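import Mathlib
import Groth.Agent.Lib.Helper2.PerfFlat
import Groth.Agent.Lib.Helper2.PerfSchFamily
import Groth.Agent.Lib.Helper2.PerfAWN

/-!
# helper2: affineness descends along universal homeomorphisms in characteristic `p`; S14915
-/

set_option autoImplicit false
universe u
open CategoryTheory AlgebraicGeometry Opposite

namespace Groth.Agent.Lib.helper2.UHAffine

section ring
variable (p : ℕ) [hp : Fact p.Prime]

theorem sub_pow_p_pow {R : Type*} [CommRing R] (h0 : (p : R) = 0) (x y : R) (m : ℕ) :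
    (x - y) ^ p ^ m = x ^ p ^ m - y ^ p ^ m := by
  rcases subsingleton_or_nontrivial R with h | h
  · exact Subsingleton.elim _ _
  · haveI : CharP R p := (CharP.charP_iff_prime_eq_zero hp.out).2 h0
    exact sub_pow_char_pow x y m

theorem pow_p_pow_eq_zero {R : Type*} [CommRing R] (x : R) {e m : ℕ} (hx : x ^ e = 0)
    (hem : e ≤ m) : x ^ p ^ m = 0 := by
  apply pow_eq_zero_of_le _ hx
  exact hem.trans (Nat.lt_pow_self hp.out.one_lt).le

end ring


section glue

variable (p : ℕ) [hp : Fact p.Prime] {X X' : Scheme.{u}} [FrobSch.IsCharP X p] (π : X' ⟶ X)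

theorem app_res (U W : X.Opens) (hWU : W ≤ U) (t : Γ(X, U)) :
    X'.presheaf.map (homOfLE (show π ⁻¹ᵁ W ≤ π ⁻¹ᵁ U from fun _ hx => hWU hx)).op (π.app U t) =
      π.app W (X.presheaf.map (homOfLE hWU).op t) := by
  have := π.naturality (homOfLE hWU).op
  exact congr($this t).symm

variable {ι : Type*} [Finite ι] (U : ι → X.Opens) (hcov : (⊤ : X.Opens) ≤ ⨆ i, U i)

include hcov in
theorem ker_nil_top
    (hker : ∀ i, ∀ a : Γ(X, U i), π.app (U i) a = 0 → IsNilpotent a)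
    (a : Γ(X, ⊤)) (ha : π.appTop a = 0) : IsNilpotent a := by
  classical
  haveI := Fintype.ofFinite ι
  have h1 : ∀ i, ∃ n : ℕ, (X.presheaf.map (homOfLE (le_top : U i ≤ ⊤)).op a) ^ n = 0 := by
    intro i
    apply hker i
    rw [← app_res π ⊤ (U i) le_top a]
    have : π.app ⊤ a = 0 := ha
    rw [this, map_zero]
  choose n hn using h1
  refine ⟨∑ i, n i, ?_⟩
  refine X.sheaf.eq_of_locally_eq' U ⊤ (fun i => homOfLE le_top) hcov _ _ (fun i => ?_)
  change X.presheaf.map (homOfLE le_top).op (a ^ ∑ i, n i) = X.presheaf.map (homOfLE le_top).op 0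
  rw [map_pow, map_zero]
  exact pow_eq_zero_of_le (Finset.single_le_sum (fun _ _ => Nat.zero_le _) (Finset.mem_univ i))
    (hn i)


theorem map_map_apply (Z : Scheme.{u}) {U V W : Z.Opens} (h1 : V ≤ U) (h2 : W ≤ V) (s : Γ(Z, U)) :
    Z.presheaf.map (homOfLE h2).op (Z.presheaf.map (homOfLE h1).op s) =
      Z.presheaf.map (homOfLE (h2.trans h1)).op s := by
  rw [← CommRingCat.comp_apply, ← Functor.map_comp]; rfl

include hcov in
theorem pow_mem_top
    (hker2 : ∀ i j, ∀ a : Γ(X, U i ⊓ U j), π.app (U i ⊓ U j) a = 0 → IsNilpotent a)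
    (hpow : ∀ i, ∀ b : Γ(X', π ⁻¹ᵁ U i), ∃ (n : ℕ) (a : Γ(X, U i)), π.app (U i) a = b ^ p ^ n)
    (b : Γ(X', ⊤)) : ∃ (n : ℕ) (a : Γ(X, ⊤)), π.appTop a = b ^ p ^ n := by
  classical
  haveI := Fintype.ofFinite ι
  have hle : ∀ i, π ⁻¹ᵁ U i ≤ (⊤ : X'.Opens) := fun i => le_top
  obtain ⟨bi, hbi⟩ : ∃ bi : ∀ i, Γ(X', π ⁻¹ᵁ U i), ∀ i, bi i =
      X'.presheaf.map (homOfLE (hle i)).op b := ⟨_, fun _ => rfl⟩
  have h1 := fun i => hpow i (bi i)
  choose n0 a0 ha0 using h1
  set n := ∑ i, n0 i with hn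
  have hn0 : ∀ i, n0 i ≤ n := fun i =>
    Finset.single_le_sum (fun _ _ => Nat.zero_le _) (Finset.mem_univ i)
  obtain ⟨a1, ha1⟩ : ∃ a1 : ∀ i, Γ(X, U i), ∀ i, π.app (U i) (a1 i) = bi i ^ p ^ n := by
    refine ⟨fun i => a0 i ^ p ^ (n - n0 i), fun i => ?_⟩
    rw [map_pow, ha0, ← pow_mul, ← pow_add, Nat.add_sub_cancel' (hn0 i)]
  have h2 : ∀ i j, ∃ e : ℕ, (X.presheaf.map (homOfLE (inf_le_left : U i ⊓ U j ≤ U i)).op (a1 i) -
      X.presheaf.map (homOfLE (inf_le_right : U i ⊓ U j ≤ U j)).op (a1 j)) ^ e = 0 := by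
    intro i j
    apply hker2 i j
    rw [map_sub, ← app_res π (U i) (U i ⊓ U j) inf_le_left, ← app_res π (U j) (U i ⊓ U j)
      inf_le_right, ha1, ha1, map_pow, map_pow, sub_eq_zero, hbi, hbi, map_map_apply,
      map_map_apply]
  choose e he using h2
  set m := ∑ i, ∑ j, e i j with hm
  have hem : ∀ i j, e i j ≤ m := fun i j =>
    (Finset.single_le_sum (f := fun j => e i j) (fun _ _ => Nat.zero_le _)
      (Finset.mem_univ j)).trans
      (Finset.single_le_sum (f := fun i => ∑ j, e i j) (fun _ _ => Nat.zero_le _)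
        (Finset.mem_univ i))
  have h3 : TopCat.Presheaf.IsCompatible X.presheaf U (fun i => a1 i ^ p ^ m) := by
    intro i j
    change X.presheaf.map (homOfLE (inf_le_left : U i ⊓ U j ≤ U i)).op (a1 i ^ p ^ m) =
      X.presheaf.map (homOfLE (inf_le_right : U i ⊓ U j ≤ U j)).op (a1 j ^ p ^ m)
    rw [map_pow, map_pow, ← sub_eq_zero,
      ← sub_pow_p_pow p (FrobSch.natCast_eq_zero_app X p (U i ⊓ U j))]
    exact pow_p_pow_eq_zero p _ (he i j) (hem i j)
  obtain ⟨c, hc, -⟩ := X.sheaf.existsUnique_gluing' U ⊤ (fun i => homOfLE le_top) hcov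
    (fun i => a1 i ^ p ^ m) h3
  refine ⟨n + m, c, ?_⟩
  refine X'.sheaf.eq_of_locally_eq' (fun i => π ⁻¹ᵁ U i) ⊤
    (fun i => homOfLE (hle i)) ?_ _ _ (fun i => ?_)
  · intro x _
    have := hcov (show π x ∈ (⊤ : X.Opens) from trivial)
    obtain ⟨i, hi⟩ := TopologicalSpace.Opens.mem_iSup.1 this
    exact TopologicalSpace.Opens.mem_iSup.2 ⟨i, hi⟩
  · have e1 := app_res π ⊤ (U i) le_top c
    have e2 : X.presheaf.map (homOfLE (le_top : U i ≤ ⊤)).op c = a1 i ^ p ^ m := hc i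
    change X'.presheaf.map (homOfLE _).op (π.app ⊤ c) =
      X'.presheaf.map (homOfLE _).op (b ^ p ^ (n + m))
    refine e1.trans ?_
    rw [e2, map_pow, ha1, map_pow, ← pow_mul, ← pow_add, hbi]

end glue


section main

open Groth.Agent.Lib.helper2.AWNScheme Groth.Agent.Lib.helper2.PerfFlat
  Groth.Agent.Lib.helper2.PerfSchFamily

variable (p : ℕ) [hp : Fact p.Prime] {X X' : Scheme.{u}} [FrobSch.IsCharP X p] (π : X' ⟶ X)
  (hπ : FlatMor.IsUnivHomeo π)

include hπ in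
theorem affine_facts {W : X.Opens} (hW : IsAffineOpen W) :
    (∀ a : Γ(X, W), π.app W a = 0 → IsNilpotent a) ∧
      ∀ b : Γ(X', π ⁻¹ᵁ W), ∃ (n : ℕ) (a : Γ(X, W)), π.app W a = b ^ p ^ n := by
  haveI : IsAffineHom π := isAffineHom_of_isUnivHomeo π hπ
  have h := pRadical_of_isUnivHomeo p (π.app W).hom (FrobSch.natCast_eq_zero_app X p W)
    (isUnivHomeo_Spec_app π hπ hW (hW.preimage π))
  refine ⟨fun a ha => h.1 a ha, fun b => ?_⟩
  obtain ⟨n, a, ha⟩ := h.2 b
  exact ⟨n, a, ha⟩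

include hπ hp in
/-- affineness descends along universal homeomorphisms in characteristic `p` -/
theorem isAffine_of_isUnivHomeo [IsAffine X'] : IsAffine X := by
  haveI : IsAffineHom π := isAffineHom_of_isUnivHomeo π hπ
  have hh := isHomeomorph_of_isUnivHomeo π hπ
  haveI : CompactSpace X := by
    refine ⟨?_⟩
    rw [← hh.surjective.range_eq]
    exact isCompact_range hh.continuous
  haveI : IsSeparated (Limits.terminal.from X) :=
    isSeparated_conv π (𝟙 (⊤_ Scheme.{u})) hπ (Groth.Agent.S0416.isUnivHomeo_of_isIso _)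
      (Limits.terminal.from X) (Limits.terminal.from X') (by simp) inferInstance
  obtain ⟨s, hs, hcov⟩ := (isCompact_iff_finite_and_eq_biUnion_affineOpens
    (U := (⊤ : X.Opens))).1 isCompact_univ
  haveI : Finite s := hs.to_subtype
  let U : s → X.Opens := fun i => (i.1 : X.Opens)
  have hU : ∀ i, IsAffineOpen (U i) := fun i => i.1.2
  have hcov' : (⊤ : X.Opens) ≤ ⨆ i, U i := by
    rw [hcov, iSup_subtype']
  have hP : IsPRadical π.appTop.hom p := by
    refine ⟨fun b => ?_, fun a ha => ?_⟩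
    · obtain ⟨n, a, ha⟩ := pow_mem_top p π U hcov'
        (fun i j => (affine_facts p π hπ ((hU i).inf (hU j))).1)
        (fun i => (affine_facts p π hπ (hU i)).2) b
      exact ⟨n, a, ha⟩
    · rw [pNilradical_prime hp.out]
      exact mem_nilradical.2 (ker_nil_top π U hcov' (fun i => (affine_facts p π hπ (hU i)).1) a ha)
  have h1 : FlatMor.IsUnivHomeo (Spec.map π.appTop) :=
    PerfAWN.isUnivHomeo_of_isPRadical p (FrobSch.natCast_eq_zero_app X p ⊤) π.appTop.hom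
  have h2 : FlatMor.IsUnivHomeo (π ≫ X.toSpecΓ) := by
    rw [Scheme.toSpecΓ_naturality]
    exact MorphismProperty.comp_mem _ _ _ (Groth.Agent.S0416.isUnivHomeo_of_isIso _) h1
  have h3 : FlatMor.IsUnivHomeo X.toSpecΓ := (Groth.Agent.S0416.result π X.toSpecΓ).1 h2 hπ
  haveI : IsAffineHom X.toSpecΓ := isAffineHom_of_isUnivHomeo _ h3
  exact isAffine_of_isAffineHom X.toSpecΓ


include hπ hp in
/-- relative version -/
theorem isAffineHom_of_comp_isUnivHomeo {S : Scheme.{u}} (g : X ⟶ S) [IsAffineHom (π ≫ g)] :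
    IsAffineHom g := by
  refine ⟨fun U0 hU0 => ?_⟩
  let U : S.affineOpens := ⟨U0, hU0⟩
  show IsAffine ((g ⁻¹ᵁ U.1 : X.Opens) : Scheme.{u})
  haveI : FrobSch.IsCharP ((g ⁻¹ᵁ U.1 : X.Opens) : Scheme.{u}) p :=
    FrobSch.IsCharP.of_hom (g ⁻¹ᵁ U.1).ι p
  have h1 : FlatMor.IsUnivHomeo (π ∣_ (g ⁻¹ᵁ U.1)) := IsZariskiLocalAtTarget.restrict hπ _
  haveI : IsAffine ((π ⁻¹ᵁ (g ⁻¹ᵁ U.1) : X'.Opens) : Scheme.{u}) :=
    U.2.preimage (π ≫ g)
  exact isAffine_of_isUnivHomeo p (π ∣_ (g ⁻¹ᵁ U.1)) h1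

end main

section perf

open Groth.Agent.Lib.helper2.AWNScheme Groth.Agent.Lib.helper2.PerfSchFamily

variable (p : ℕ) [Fact p.Prime]

theorem isAffineHom_iff_perfection {X Y XP YP : Scheme.{u}}
    [FrobSch.IsCharP X p] [FrobSch.IsCharP Y p] [FrobSch.IsCharP XP p] [FrobSch.IsCharP YP p]
    (πX : XP ⟶ X) (πY : YP ⟶ Y) (hX : FrobSch.IsPerfection πX p) (hY : FrobSch.IsPerfection πY p)
    (f : X ⟶ Y) (fP : XP ⟶ YP) (w : fP ≫ πY = πX ≫ f) :
    IsAffineHom f ↔ IsAffineHom fP := by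
  have hπX := PerfSchLib.isUnivHomeo_of_isPerfection p πX hX
  have hπY := PerfSchLib.isUnivHomeo_of_isPerfection p πY hY
  haveI : IsAffineHom πX := isAffineHom_of_isUnivHomeo πX hπX
  haveI : IsAffineHom πY := isAffineHom_of_isUnivHomeo πY hπY
  constructor
  · intro hf
    haveI : IsAffineHom (fP ≫ πY) := by rw [w]; infer_instance
    haveI : IsSeparated πY := isSeparated_of_isUnivHomeo πY hπY
    exact IsAffineHom.of_comp fP πY
  · intro hfP
    haveI : IsAffineHom (πX ≫ f) := by rw [← w]; infer_instance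
    exact isAffineHom_of_comp_isUnivHomeo p πX hπX f

end perf

end Groth.Agent.Lib.helper2.UHAffine
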