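import Mathlib

/-!
# Invariants of a finite group action and localization (helper2)
-/

namespace Groth.Agent.Lib.helper2.QuotRing

open Function

variable {G : Type*} [Group G] [Finite G]
  {A B A' B' : Type*} [CommRing A] [CommRing B] [CommRing A'] [CommRing B']

/-- Invariants commute with localization away from an invariant element. -/
theorem loc_invariants
    (φ : B →+* A) (rB : B →+* B') (rA : A →+* A') (φ' : B' →+* A')
    (hcomm : φ'.comp rB = rA.comp φ) (f : B) (hunit : IsUnit (rB f))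
    (hsurjA : ∀ a', ∃ (a : A) (n : ℕ), a' * rA (φ f) ^ n = rA a)
    (hkerA : ∀ a, rA a = 0 → ∃ n : ℕ, φ f ^ n * a = 0)
    (hsurjB : ∀ b', ∃ (b : B) (n : ℕ), b' * rB f ^ n = rB b)
    (σ : G → A →+* A) (σ' : G → A' →+* A') (hσ : ∀ g, (σ' g).comp rA = rA.comp (σ g))
    (hφinj : Injective φ) (hinv : ∀ a, (∀ g, σ g a = a) → a ∈ Set.range φ)
    (hfix : ∀ g b, σ g (φ b) = φ b) :
    Injective φ' ∧ ∀ a', (∀ g, σ' g a' = a') → a' ∈ Set.range φ' := by
  have hc : ∀ b, φ' (rB b) = rA (φ b) := fun b => congr($hcomm b)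
  have hs : ∀ g a, σ' g (rA a) = rA (σ g a) := fun g a => congr($(hσ g) a)
  constructor
  · rw [injective_iff_map_eq_zero]
    intro b' hb'
    obtain ⟨b, n, hb⟩ := hsurjB b'
    have h1 : rA (φ b) = 0 := by
      rw [← hc, ← hb, map_mul, hb', zero_mul]
    obtain ⟨m, hm⟩ := hkerA _ h1
    have h2 : f ^ m * b = 0 := by
      apply hφinj
      rw [map_mul, map_pow, hm, map_zero]
    have h3 : b' * rB f ^ (n + m) = 0 := by
      rw [pow_add, ← mul_assoc, hb, ← map_pow, ← map_mul, mul_comm, h2, map_zero]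
    exact (IsUnit.mul_left_eq_zero (hunit.pow (n + m))).1 h3
  · intro a' ha'
    cases nonempty_fintype G
    obtain ⟨a, n, ha⟩ := hsurjA a'
    have h1 : ∀ g, rA (σ g a - a) = 0 := by
      intro g
      rw [map_sub, ← hs, ← ha, map_mul, ha' g, map_pow, hs, hfix, sub_self]
    choose mg hmg using fun g => hkerA _ (h1 g)
    let m := ∑ g, mg g
    have h2 : ∀ g, φ f ^ m * (σ g a - a) = 0 := by
      intro g
      have hle : mg g ≤ m := Finset.single_le_sum (f := mg) (fun _ _ => Nat.zero_le _)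
        (Finset.mem_univ g)
      obtain ⟨k, hk⟩ := Nat.exists_eq_add_of_le hle
      rw [hk, pow_add, mul_comm (φ f ^ mg g), mul_assoc, hmg g, mul_zero]
    have h3 : ∀ g, σ g (φ f ^ m * a) = φ f ^ m * a := by
      intro g
      have := h2 g
      rw [mul_sub, sub_eq_zero] at this
      rw [map_mul, map_pow, hfix, this]
    obtain ⟨b, hb⟩ := hinv _ h3
    obtain ⟨u, hu⟩ := hunit.pow (n + m)
    refine ⟨rB b * ↑u⁻¹, ?_⟩
    have h4 : a' * φ' (rB f ^ (n + m)) = φ' (rB b) := by
      rw [map_pow, hc, pow_add, ← mul_assoc, ha, hc, hb, ← map_pow, ← map_mul, mul_comm a]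
    rw [map_mul, ← h4, ← hu, mul_assoc, ← map_mul, Units.mul_inv, map_one, mul_one]

end Groth.Agent.Lib.helper2.QuotRing
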