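import Groth.Prelude.Def_SGA1
import Groth.Agent.Lib.Helper2.QuotRing
import Mathlib

/-!
# Quotients of schemes by finite groups (`SGA1.IsQuot`): basic library (helper2)
-/

universe u
open CategoryTheory AlgebraicGeometry Opposite

namespace Groth.Agent.Lib.helper2.QuotLib

variable {X Y : Scheme.{u}} {G : Type u} [Group G]

section Stable

variable (ρ : G →* Aut X)

theorem rho_mul_hom (g h : G) : (ρ (g * h)).hom = (ρ h).hom ≫ (ρ g).hom := by
  rw [map_mul]; rfl

theorem rho_one_hom : (ρ 1).hom = 𝟙 X := by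
  rw [map_one]; rfl

theorem rho_inv_hom_comp (g : G) : (ρ g⁻¹).hom ≫ (ρ g).hom = 𝟙 X := by
  rw [← rho_mul_hom, mul_inv_cancel, rho_one_hom]

theorem rho_hom_comp_inv (g : G) : (ρ g).hom ≫ (ρ g⁻¹).hom = 𝟙 X := by
  rw [← rho_mul_hom, inv_mul_cancel, rho_one_hom]

/-- `G`-stable opens -/
def IsStable (V : X.Opens) : Prop := ∀ g : G, V ≤ (ρ g).hom ⁻¹ᵁ V

variable {ρ}

theorem IsStable.preimage_eq {V : X.Opens} (hV : IsStable ρ V) (g : G) :
    (ρ g).hom ⁻¹ᵁ V = V := by
  refine le_antisymm ?_ (hV g)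
  intro x hx
  have h1 := hV g⁻¹ hx
  have h2 : (ρ g⁻¹).hom.base ((ρ g).hom.base x) = x := by
    rw [← Scheme.Hom.comp_apply, rho_hom_comp_inv]; rfl
  have h3 : (ρ g⁻¹).hom.base ((ρ g).hom.base x) ∈ V := h1
  rwa [h2] at h3

theorem isStable_preimage (p : X ⟶ Y) (inv : ∀ g : G, (ρ g).hom ≫ p = p) (U : Y.Opens) :
    IsStable ρ (p ⁻¹ᵁ U) := fun g => SGA1.preimage_le_of_inv ρ p inv g U

theorem IsStable.inf {V W : X.Opens} (hV : IsStable ρ V) (hW : IsStable ρ W) :
    IsStable ρ (V ⊓ W) := fun g x hx => ⟨hV g hx.1, hW g hx.2⟩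

/-- the (contravariant) action of `g` on the sections over a stable open -/
noncomputable def sig {V : X.Opens} (hV : IsStable ρ V) (g : G) : Γ(X, V) →+* Γ(X, V) :=
  ((ρ g).hom.appLE V V (hV g)).hom

theorem appLE_eq_of_eq {X : Scheme.{u}} (f f' : X ⟶ X) (e : f = f') (V : X.Opens)
    (h1 : V ≤ f ⁻¹ᵁ V) (h2 : V ≤ f' ⁻¹ᵁ V) : f.appLE V V h1 = f'.appLE V V h2 := by
  subst e; rfl

theorem id_appLE' {X : Scheme.{u}} (V : X.Opens) (e : V ≤ (𝟙 X) ⁻¹ᵁ V) :
    Scheme.Hom.appLE (𝟙 X) V V e = 𝟙 _ := by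
  simp only [Scheme.Hom.appLE, Scheme.Hom.id_app]
  have h2 : X.presheaf.map (homOfLE e).op = X.presheaf.map (𝟙 (Opposite.op V)) := by
    congr 1
  erw [h2, X.presheaf.map_id]
  exact Category.id_comp _

theorem sig_one {V : X.Opens} (hV : IsStable ρ V) (s : Γ(X, V)) : sig hV 1 s = s := by
  have := appLE_eq_of_eq (ρ 1).hom (𝟙 X) (rho_one_hom ρ) V (hV 1) (by simp)
  simp only [sig, this, id_appLE']
  rfl

theorem sig_mul {V : X.Opens} (hV : IsStable ρ V) (g h : G) (s : Γ(X, V)) :
    sig hV h (sig hV g s) = sig hV (g * h) s := by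
  have h3 := appLE_eq_of_eq _ _ (rho_mul_hom ρ g h) V (hV (g * h))
    (by rw [← rho_mul_hom]; exact hV (g * h))
  have h4 := Scheme.Hom.appLE_comp_appLE (ρ h).hom (ρ g).hom V V V (hV g) (hV h)
  simp only [sig, h3, ← h4]
  rfl

theorem sig_res {V W : X.Opens} (hV : IsStable ρ V) (hW : IsStable ρ W) (hWV : W ≤ V) (g : G)
    (s : Γ(X, V)) :
    X.presheaf.map (homOfLE hWV).op (sig hV g s) = sig hW g (X.presheaf.map (homOfLE hWV).op s) := by
  have h1 := Scheme.Hom.appLE_map (ρ g).hom (hV g) (homOfLE hWV).op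
  have h2 := Scheme.Hom.map_appLE (ρ g).hom (hW g) (homOfLE hWV).op
  have h3 : (ρ g).hom.appLE V V (hV g) ≫ X.presheaf.map (homOfLE hWV).op =
      X.presheaf.map (homOfLE hWV).op ≫ (ρ g).hom.appLE W W (hW g) := by
    rw [h1, h2]
  exact congr($h3 s)

theorem sig_app (p : X ⟶ Y) (inv : ∀ g : G, (ρ g).hom ≫ p = p) (U : Y.Opens) (g : G)
    (t : Γ(Y, U)) :
    sig (isStable_preimage p inv U) g (p.app U t) = p.app U t := by
  have h1 : p.app U ≫ (ρ g).hom.appLE (p ⁻¹ᵁ U) (p ⁻¹ᵁ U) (isStable_preimage p inv U g) =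
      p.app U := by
    have h0 := Scheme.Hom.comp_appLE (ρ g).hom p U (p ⁻¹ᵁ U) (by rw [inv g])
    rw [← h0]
    have : ((ρ g).hom ≫ p).appLE U (p ⁻¹ᵁ U) (by rw [inv g]) = p.appLE U (p ⁻¹ᵁ U) le_rfl := by
      have := inv g
      congr 1
    rw [this, Scheme.Hom.appLE_eq_app]
  exact congr($h1 t)

end Stable

section SecCond

variable {ρ : G →* Aut X} (p : X ⟶ Y) (inv : ∀ g : G, (ρ g).hom ≫ p = p)

/-- the sections condition at an open `U` of `Y` -/
structure SecCond (U : Y.Opens) : Prop where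
  injective : Function.Injective (p.app U).hom
  range : ∀ s : Γ(X, p ⁻¹ᵁ U), (∀ g, sig (isStable_preimage p inv U) g s = s) →
    s ∈ Set.range (p.app U).hom

theorem isQuot_of_secCond (haff : IsAffineHom p) (h : ∀ U, SecCond p inv U) : SGA1.IsQuot ρ p where
  affine := haff
  inv := inv
  injective U := (h U).injective
  range_iff U s := by
    constructor
    · rintro ⟨t, rfl⟩ g
      exact sig_app p inv U g t
    · intro hs
      exact (h U).range s hs

theorem secCond_of_isQuot (hp : SGA1.IsQuot ρ p) (U : Y.Opens) : SecCond p hp.inv U where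
  injective := hp.injective U
  range s hs := (hp.range_iff U s).2 hs

theorem app_res (U W : Y.Opens) (hWU : W ≤ U) (t : Γ(Y, U)) :
    X.presheaf.map (homOfLE (show p ⁻¹ᵁ W ≤ p ⁻¹ᵁ U from fun _ hx => hWU hx)).op (p.app U t) =
      p.app W (Y.presheaf.map (homOfLE hWU).op t) := by
  have := p.naturality (homOfLE hWU).op
  exact congr($this t).symm

/-- The sections condition can be checked on a basis of opens. -/
theorem secCond_of_basis (B : Set Y.Opens) (hB : TopologicalSpace.Opens.IsBasis B)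
    (h : ∀ U ∈ B, SecCond p inv U) (U : Y.Opens) : SecCond p inv U := by
  -- the cover of `U` by basis elements
  let ι := {W : Y.Opens // W ∈ B ∧ W ≤ U}
  let cov : ι → Y.Opens := fun W => W.1
  have hcov : ∀ (U' : Y.Opens), U' ≤ ⨆ W : {W : Y.Opens // W ∈ B ∧ W ≤ U'}, W.1 := by
    intro U' y hy
    obtain ⟨W, hW, hyW, hWU⟩ := TopologicalSpace.Opens.isBasis_iff_nbhd.1 hB hy
    exact TopologicalSpace.Opens.mem_iSup.2 ⟨⟨W, hW, hWU⟩, hyW⟩
  have inj : ∀ U' : Y.Opens, Function.Injective (p.app U').hom := by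
    intro U' t₁ t₂ ht
    refine Y.sheaf.eq_of_locally_eq' (fun W : {W : Y.Opens // W ∈ B ∧ W ≤ U'} => W.1) U'
      (fun W => homOfLE W.2.2) (hcov U') t₁ t₂ (fun W => ?_)
    apply (h W.1 W.2.1).injective
    have h1 := app_res p U' W.1 W.2.2 t₁
    have h2 := app_res p U' W.1 W.2.2 t₂
    exact h1.symm.trans ((congrArg _ ht).trans h2)
  refine ⟨inj U, fun s hs => ?_⟩
  -- local preimages
  have hloc : ∀ W : ι, ∃ t : Γ(Y, W.1), p.app W.1 t =
      X.presheaf.map (homOfLE (show p ⁻¹ᵁ W.1 ≤ p ⁻¹ᵁ U from fun _ hx => W.2.2 hx)).op s := by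
    intro W
    obtain ⟨t, ht⟩ := (h W.1 W.2.1).range
      (X.presheaf.map (homOfLE (show p ⁻¹ᵁ W.1 ≤ p ⁻¹ᵁ U from fun _ hx => W.2.2 hx)).op s)
      (fun g => by rw [← sig_res (isStable_preimage p inv U) (isStable_preimage p inv W.1), hs g])
    exact ⟨t, ht⟩
  choose t ht using hloc
  have hcompat : TopCat.Presheaf.IsCompatible Y.presheaf cov t := by
    intro W W'
    apply inj
    have e1 := app_res p W.1 (W.1 ⊓ W'.1) inf_le_left (t W)
    have e2 := app_res p W'.1 (W.1 ⊓ W'.1) inf_le_right (t W')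
    refine e1.symm.trans (Eq.trans ?_ e2)
    rw [ht W, ht W']
    rw [← ConcreteCategory.comp_apply, ← ConcreteCategory.comp_apply, ← Functor.map_comp,
      ← Functor.map_comp]
    rfl
  obtain ⟨gl, hgl, -⟩ := Y.sheaf.existsUnique_gluing' cov U (fun W => homOfLE W.2.2) (hcov U) t hcompat
  refine ⟨gl, ?_⟩
  -- check equality locally on `X`
  refine X.sheaf.eq_of_locally_eq' (fun W : ι => p ⁻¹ᵁ W.1) (p ⁻¹ᵁ U)
    (fun W => homOfLE (fun _ hx => W.2.2 hx)) ?_ _ _ (fun W => ?_)
  · intro x hx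
    have := hcov U hx
    obtain ⟨W, hW⟩ := TopologicalSpace.Opens.mem_iSup.1 this
    exact TopologicalSpace.Opens.mem_iSup.2 ⟨W, hW⟩
  · have e1 := app_res p U W.1 W.2.2 gl
    refine e1.trans ?_
    have := hgl W
    exact (congrArg (p.app W.1).hom this).trans (ht W)

/-- extracting the elementary facts from a localization away from an element -/
theorem away_facts {R S : Type*} [CommRing R] [CommRing S] (r : R) (ι : R →+* S)
    (h : @IsLocalization.Away R _ r S _ ι.toAlgebra) :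
    IsUnit (ι r) ∧ (∀ z : S, ∃ (x : R) (n : ℕ), z * ι r ^ n = ι x) ∧
      (∀ x : R, ι x = 0 → ∃ n : ℕ, r ^ n * x = 0) := by
  letI := ι.toAlgebra
  refine ⟨IsLocalization.map_units S (⟨r, Submonoid.mem_powers r⟩ : Submonoid.powers r),
    fun z => ?_, fun x hx => ?_⟩
  · obtain ⟨⟨x, ⟨_, n, rfl⟩⟩, hx⟩ := IsLocalization.surj (Submonoid.powers r) z
    exact ⟨x, n, by simpa [RingHom.algebraMap_toAlgebra] using hx⟩
  · have h0 : algebraMap R S x = algebraMap R S 0 := by
      rw [map_zero]; exact hx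
    obtain ⟨⟨_, n, rfl⟩, hc⟩ := IsLocalization.exists_of_eq (M := Submonoid.powers r) h0
    exact ⟨n, by simpa using hc⟩

/-- The sections condition passes from an affine open to its basic opens. -/
theorem secCond_basicOpen {U : Y.Opens} (hU : IsAffineOpen U) (hV : IsAffineOpen (p ⁻¹ᵁ U))
    [Finite G] (h : SecCond p inv U) (f : Γ(Y, U)) : SecCond p inv (Y.basicOpen f) := by
  have hle : Y.basicOpen f ≤ U := Y.basicOpen_le f
  have hle' : p ⁻¹ᵁ (Y.basicOpen f) ≤ p ⁻¹ᵁ U := fun _ hx => hle hx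
  have e : p ⁻¹ᵁ (Y.basicOpen f) = X.basicOpen (p.app U f) := Scheme.preimage_basicOpen p f
  have locB := hU.isLocalization_of_eq_basicOpen f (homOfLE hle) rfl
  have locA := hV.isLocalization_of_eq_basicOpen (p.app U f) (homOfLE hle') e
  obtain ⟨uB, sB, -⟩ := away_facts f (Y.presheaf.map (homOfLE hle).op).hom locB
  obtain ⟨-, sA, kA⟩ := away_facts (p.app U f) (X.presheaf.map (homOfLE hle').op).hom locA
  have key := QuotRing.loc_invariants (G := G) (p.app U).hom (Y.presheaf.map (homOfLE hle).op).hom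
    (X.presheaf.map (homOfLE hle').op).hom (p.app (Y.basicOpen f)).hom
    (by
      ext t
      exact (app_res p U (Y.basicOpen f) hle t).symm)
    f uB sA kA sB
    (fun g => sig (isStable_preimage p inv U) g)
    (fun g => sig (isStable_preimage p inv (Y.basicOpen f)) g)
    (fun g => by
      ext s
      exact (sig_res (isStable_preimage p inv U) (isStable_preimage p inv (Y.basicOpen f))
        hle' g s).symm)
    h.injective h.range (fun g b => sig_app p inv U g b)
  exact ⟨key.1, key.2⟩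

/-- Main criterion: the quotient property can be checked on an affine open cover of the target
with affine preimages. -/
theorem isQuot_of_affine_cover [Finite G] {ι : Type*} (U : ι → Y.Opens)
    (hcov : ∀ y : Y, ∃ i, y ∈ U i) (hU : ∀ i, IsAffineOpen (U i))
    (hV : ∀ i, IsAffineOpen (p ⁻¹ᵁ (U i))) (h : ∀ i, SecCond p inv (U i)) :
    SGA1.IsQuot ρ p := by
  have haff : IsAffineHom p := isAffineHom_of_forall_exists_isAffineOpen p (fun y => by
    obtain ⟨i, hi⟩ := hcov y
    exact ⟨U i, hi, hU i, hV i⟩)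
  refine isQuot_of_secCond p inv haff ?_
  let B : Set Y.Opens := {W | ∃ (i : ι) (f : Γ(Y, U i)), W = Y.basicOpen f}
  have hB : TopologicalSpace.Opens.IsBasis B := by
    rw [TopologicalSpace.Opens.isBasis_iff_nbhd]
    intro V y hy
    obtain ⟨i, hi⟩ := hcov y
    obtain ⟨f, hf1, hf2⟩ := (hU i).exists_basicOpen_le ⟨y, hy⟩ hi
    exact ⟨Y.basicOpen f, ⟨i, f, rfl⟩, hf2, hf1⟩
  refine secCond_of_basis p inv B hB ?_
  rintro W ⟨i, f, rfl⟩
  exact secCond_basicOpen p inv (hU i) (hV i) (h i) f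

end SecCond

section SpecCase


theorem appLE_top_top {X : Scheme.{u}} (f : X ⟶ X) (h : (⊤ : X.Opens) ≤ f ⁻¹ᵁ ⊤) :
    f.appLE ⊤ ⊤ h = f.appTop := by
  simp only [Scheme.Hom.appLE, Scheme.Hom.appTop]
  have h2 : X.presheaf.map (homOfLE h).op = X.presheaf.map (𝟙 (Opposite.op (⊤ : X.Opens))) := by
    congr 1
  erw [h2, X.presheaf.map_id]
  exact Category.comp_id _

theorem isQuot_spec (G : Type u) [Group G] [Finite G] (A B : Type u) [CommRing A] [CommRing B]
    [Algebra B A] [MulSemiringAction G A] [SMulCommClass G B A] [Algebra.IsInvariant B A G] [FaithfulSMul B A]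
    (ρ : G →* Aut (Spec (CommRingCat.of A)))
    (hρ : Set.range (fun g : G => (ρ g).hom) =
      Set.range (fun g : G => Spec.map (CommRingCat.ofHom (MulSemiringAction.toRingHom G A g)))) :
    SGA1.IsQuot ρ (Spec.map (CommRingCat.ofHom (algebraMap B A))) := by
  set p := Spec.map (CommRingCat.ofHom (algebraMap B A)) with hp
  have inv : ∀ g : G, (ρ g).hom ≫ p = p := by
    intro g
    have h1 : (ρ g).hom ∈ Set.range (fun g : G => (ρ g).hom) := ⟨g, rfl⟩
    rw [hρ] at h1
    obtain ⟨g', hg'⟩ := h1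
    rw [← hg', hp, ← Spec.map_comp, ← CommRingCat.ofHom_comp]
    congr 2
    ext b
    simp only [RingHom.coe_comp, Function.comp_apply, MulSemiringAction.toRingHom_apply]
    exact smul_algebraMap g' b
  have hnat := Scheme.ΓSpecIso_naturality (CommRingCat.ofHom (algebraMap B A))
  have hnat' : ∀ t, (Scheme.ΓSpecIso (CommRingCat.of A)).hom (p.appTop t) =
      algebraMap B A ((Scheme.ΓSpecIso (CommRingCat.of B)).hom t) := fun t => congr($hnat t)
  refine isQuot_of_affine_cover p inv (fun _ : Unit => (⊤ : (Spec (CommRingCat.of B)).Opens))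
    (fun y => ⟨(), trivial⟩) (fun _ => isAffineOpen_top _) (fun _ => isAffineOpen_top _) (fun _ => ?_)
  constructor
  · intro t₁ t₂ h
    have h0 : p.appTop t₁ = p.appTop t₂ := h
    have h1 := congrArg (Scheme.ΓSpecIso (CommRingCat.of A)).hom h0
    rw [hnat', hnat'] at h1
    have h2 := FaithfulSMul.algebraMap_injective B A h1
    have := congrArg (Scheme.ΓSpecIso (CommRingCat.of B)).inv h2
    simpa using this
  · intro s0 hs
    obtain ⟨s, hss⟩ : ∃ s : Γ(Spec (CommRingCat.of A), ⊤), s = s0 := ⟨s0, rfl⟩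
    let a : A := (Scheme.ΓSpecIso (CommRingCat.of A)).hom s
    have ha : ∀ g : G, g • a = a := by
      intro g'
      have h1 : Spec.map (CommRingCat.ofHom (MulSemiringAction.toRingHom G A g')) ∈
          Set.range (fun g : G => Spec.map (CommRingCat.ofHom (MulSemiringAction.toRingHom G A g))) :=
        ⟨g', rfl⟩
      rw [← hρ] at h1
      obtain ⟨g, hg⟩ := h1
      have h2 := hs g
      have h3 : (ρ g).hom.appTop s = s := by
        have : sig (isStable_preimage p inv ⊤) g s0 = (ρ g).hom.appTop s := by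
          have := appLE_top_top (ρ g).hom (isStable_preimage p inv ⊤ g)
          rw [hss]
          exact congr($this s0)
        rw [← this, hss]; exact h2
      have hn := Scheme.ΓSpecIso_naturality (CommRingCat.ofHom (MulSemiringAction.toRingHom G A g'))
      have hn' : (Scheme.ΓSpecIso (CommRingCat.of A)).hom
          ((Spec.map (CommRingCat.ofHom (MulSemiringAction.toRingHom G A g'))).appTop s) =
          g' • a := congr($hn s)
      have hg2 : (ρ g).hom = Spec.map (CommRingCat.ofHom (MulSemiringAction.toRingHom G A g')) := hg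
      rw [hg2] at h3
      rw [h3] at hn'
      exact hn'.symm
    obtain ⟨b, hb⟩ := Algebra.IsInvariant.isInvariant (A := B) (G := G) a ha
    refine ⟨(Scheme.ΓSpecIso (CommRingCat.of B)).inv b, ?_⟩
    have h5 := hnat' ((Scheme.ΓSpecIso (CommRingCat.of B)).inv b)
    have h6 : (Scheme.ΓSpecIso (CommRingCat.of B)).hom ((Scheme.ΓSpecIso (CommRingCat.of B)).inv b) = b := by
      simp
    rw [h6, hb] at h5
    have h7 := congrArg (Scheme.ΓSpecIso (CommRingCat.of A)).inv h5
    have h8 : ∀ z, (Scheme.ΓSpecIso (CommRingCat.of A)).inv ((Scheme.ΓSpecIso (CommRingCat.of A)).hom z) = z := by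
      intro z; simp
    rw [h8, h8] at h7
    rw [← hss]
    exact h7


end SpecCase

end Groth.Agent.Lib.helper2.QuotLib
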