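import Groth.Agent.Lib.Helper2.BifunctorExact

/-!
# Acyclicity of total complexes and mapping cones (helper2)
-/

open CategoryTheory Limits HomologicalComplex CochainComplex

namespace Groth.Agent.Lib.helper2.BifunctorExact

section

variable {A : Type*} [Category A] [Abelian A]

lemma acyclic_shift_iff (K : CochainComplex A ℤ) (n : ℤ) : (K⟦n⟧).Acyclic ↔ K.Acyclic := by
  constructor
  · intro h i
    rw [exactAt_iff_isZero_homology]
    have := (exactAt_iff_isZero_homology _ _).1 (h (i - n))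
    exact this.of_iso ((CochainComplex.ShiftSequence.shiftIso A n (i - n) i (by omega)).app K).symm
  · intro h i
    rw [exactAt_iff_isZero_homology]
    have := (exactAt_iff_isZero_homology _ _).1 (h (n + i))
    exact this.of_iso ((CochainComplex.ShiftSequence.shiftIso A n i (n + i) rfl).app K)

lemma acyclic_of_iso {K L : CochainComplex A ℤ} (e : K ≅ L) (h : K.Acyclic) : L.Acyclic := by
  intro i
  rw [exactAt_iff_isZero_homology]
  exact ((exactAt_iff_isZero_homology _ _).1 (h i)).of_iso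
    ((homologyFunctor A (ComplexShape.up ℤ) i).mapIso e).symm

variable {S : ShortComplex (CochainComplex A ℤ)} (hS : S.ShortExact)
include hS

lemma acyclic_X₁_of (h₂ : S.X₂.Acyclic) (h₃ : S.X₃.Acyclic) : S.X₁.Acyclic := by
  intro j
  rw [exactAt_iff_isZero_homology]
  have hij : (ComplexShape.up ℤ).Rel (j - 1) j := by simp
  exact (hS.homology_exact₁ (j - 1) j hij).isZero_X₂
    (((exactAt_iff_isZero_homology _ _).1 (h₃ _)).eq_of_src _ _)
    (((exactAt_iff_isZero_homology _ _).1 (h₂ _)).eq_of_tgt _ _)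

lemma acyclic_X₃_of (h₁ : S.X₁.Acyclic) (h₂ : S.X₂.Acyclic) : S.X₃.Acyclic := by
  intro i
  rw [exactAt_iff_isZero_homology]
  have hij : (ComplexShape.up ℤ).Rel i (i + 1) := by simp
  exact (hS.homology_exact₃ i (i + 1) hij).isZero_X₂
    (((exactAt_iff_isZero_homology _ _).1 (h₂ _)).eq_of_src _ _)
    (((exactAt_iff_isZero_homology _ _).1 (h₁ _)).eq_of_tgt _ _)

end

section cone

variable {A₁ C₂ B : Type*} [Category A₁] [Category C₂] [Category B]
  [Abelian A₁] [Preadditive C₂] [Abelian B]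
  (F : A₁ ⥤ C₂ ⥤ B) [F.Additive] [∀ X₁, (F.obj X₁).Additive]
  (K₂ : CochainComplex C₂ ℤ)
  [∀ K₁ : CochainComplex A₁ ℤ, HasMapBifunctor K₁ K₂ F (ComplexShape.up ℤ)]

lemma acyclic_Ψ_shift_iff (K : CochainComplex A₁ ℤ) (n : ℤ) :
    ((Ψ F K₂).obj (K⟦n⟧)).Acyclic ↔ ((Ψ F K₂).obj K).Acyclic := by
  rw [← acyclic_shift_iff ((Ψ F K₂).obj K) n]
  exact ⟨acyclic_of_iso (mapBifunctorShift₁Iso K K₂ F n),
    acyclic_of_iso (mapBifunctorShift₁Iso K K₂ F n).symm⟩

variable {K L : CochainComplex A₁ ℤ} (φ : K ⟶ L)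

theorem acyclic_Ψ_cone (h₁ : ((Ψ F K₂).obj K).Acyclic) (h₂ : ((Ψ F K₂).obj L).Acyclic) :
    ((Ψ F K₂).obj (mappingCone φ)).Acyclic :=
  (shortExact_map_Ψ F K₂ _ (mappingCone.triangleRotateShortComplexSplitting φ)).acyclic_X₂ h₂
    ((acyclic_Ψ_shift_iff F K₂ K 1).2 h₁)

theorem acyclic_Ψ_tgt (h₁ : ((Ψ F K₂).obj K).Acyclic)
    (h₃ : ((Ψ F K₂).obj (mappingCone φ)).Acyclic) : ((Ψ F K₂).obj L).Acyclic :=
  acyclic_X₁_of (shortExact_map_Ψ F K₂ _ (mappingCone.triangleRotateShortComplexSplitting φ)) h₃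
    ((acyclic_Ψ_shift_iff F K₂ K 1).2 h₁)

theorem acyclic_Ψ_src (h₂ : ((Ψ F K₂).obj L).Acyclic)
    (h₃ : ((Ψ F K₂).obj (mappingCone φ)).Acyclic) : ((Ψ F K₂).obj K).Acyclic :=
  (acyclic_Ψ_shift_iff F K₂ K 1).1
    (acyclic_X₃_of (shortExact_map_Ψ F K₂ _ (mappingCone.triangleRotateShortComplexSplitting φ))
      h₂ h₃)

end cone

section flip

variable {C₁ A₂ B : Type*} [Category C₁] [Category A₂] [Category B]
  [Preadditive C₁] [Abelian A₂] [Abelian B]
  (G : C₁ ⥤ A₂ ⥤ B) [G.Additive] [∀ X₁, (G.obj X₁).Additive]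
  (L : CochainComplex C₁ ℤ)
  [∀ K : CochainComplex A₂ ℤ, HasMapBifunctor L K G (ComplexShape.up ℤ)]

instance additive_flip : G.flip.Additive where
  map_add {X Y f g} := by
    ext Z
    simp

instance additive_flip_obj (Y : A₂) : (G.flip.obj Y).Additive where
  map_add {X X' f g} := by
    simp [Functor.map_add]

lemma acyclic_flip_iff (K : CochainComplex A₂ ℤ) :
    ((Ψ G.flip L).obj K).Acyclic ↔ (mapBifunctor L K G (ComplexShape.up ℤ)).Acyclic :=
  ⟨acyclic_of_iso (mapBifunctorFlipIso L K G (ComplexShape.up ℤ)),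
    acyclic_of_iso (mapBifunctorFlipIso L K G (ComplexShape.up ℤ)).symm⟩

variable {K K' : CochainComplex A₂ ℤ} (φ : K ⟶ K')

theorem acyclic_cone₂ (h₁ : (mapBifunctor L K G (ComplexShape.up ℤ)).Acyclic)
    (h₂ : (mapBifunctor L K' G (ComplexShape.up ℤ)).Acyclic) :
    (mapBifunctor L (mappingCone φ) G (ComplexShape.up ℤ)).Acyclic :=
  (acyclic_flip_iff G L _).1 (acyclic_Ψ_cone G.flip L φ ((acyclic_flip_iff G L _).2 h₁)
    ((acyclic_flip_iff G L _).2 h₂))

theorem acyclic_tgt₂ (h₁ : (mapBifunctor L K G (ComplexShape.up ℤ)).Acyclic)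
    (h₃ : (mapBifunctor L (mappingCone φ) G (ComplexShape.up ℤ)).Acyclic) :
    (mapBifunctor L K' G (ComplexShape.up ℤ)).Acyclic :=
  (acyclic_flip_iff G L _).1 (acyclic_Ψ_tgt G.flip L φ ((acyclic_flip_iff G L _).2 h₁)
    ((acyclic_flip_iff G L _).2 h₃))

theorem acyclic_src₂ (h₂ : (mapBifunctor L K' G (ComplexShape.up ℤ)).Acyclic)
    (h₃ : (mapBifunctor L (mappingCone φ) G (ComplexShape.up ℤ)).Acyclic) :
    (mapBifunctor L K G (ComplexShape.up ℤ)).Acyclic :=
  (acyclic_flip_iff G L _).1 (acyclic_Ψ_src G.flip L φ ((acyclic_flip_iff G L _).2 h₂)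
    ((acyclic_flip_iff G L _).2 h₃))

end flip

end Groth.Agent.Lib.helper2.BifunctorExact
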