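import Groth.Agent.Lib.Helper2.BifunctorCone
import Groth.Prelude.Def_KFlatSite

universe u

open CategoryTheory Limits HomologicalComplex CochainComplex

namespace Groth.Agent.Lib.helper2.KFlatSite

open Groth.Agent.Lib.helper2.BifunctorExact

variable {C : Type u} [SmallCategory C] {J : GrothendieckTopology C} {O : Sheaf J CommRingCat.{u}}

lemma isKFlat_iff (K : CochainComplex (ModSite.Mod O) ℤ) :
    ModSite.IsKFlat K ↔ ∀ L : CochainComplex (ModSite.Mod O) ℤ, L.Acyclic →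
      (mapBifunctor L K (ModSite.tensorBi O) (ComplexShape.up ℤ)).Acyclic := by
  constructor
  · intro h L hL i
    rw [exactAt_iff_isZero_homology]
    exact h L (fun i => (exactAt_iff_isZero_homology _ _).1 (hL i)) i
  · intro h L hL i
    exact (exactAt_iff_isZero_homology _ _).1
      (h L (fun i => (exactAt_iff_isZero_homology _ _).2 (hL i)) i)

theorem two_of_three {K₁ K₂ : CochainComplex (ModSite.Mod O) ℤ} (φ : K₁ ⟶ K₂) :
    (ModSite.IsKFlat K₁ → ModSite.IsKFlat K₂ → ModSite.IsKFlat (mappingCone φ)) ∧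
    (ModSite.IsKFlat K₁ → ModSite.IsKFlat (mappingCone φ) → ModSite.IsKFlat K₂) ∧
    (ModSite.IsKFlat K₂ → ModSite.IsKFlat (mappingCone φ) → ModSite.IsKFlat K₁) := by
  simp only [isKFlat_iff]
  refine ⟨fun h₁ h₂ L hL => ?_, fun h₁ h₃ L hL => ?_, fun h₂ h₃ L hL => ?_⟩
  · exact acyclic_cone₂ (ModSite.tensorBi O) L φ (h₁ L hL) (h₂ L hL)
  · exact acyclic_tgt₂ (ModSite.tensorBi O) L φ (h₁ L hL) (h₃ L hL)
  · exact acyclic_src₂ (ModSite.tensorBi O) L φ (h₂ L hL) (h₃ L hL)

end Groth.Agent.Lib.helper2.KFlatSite
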