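import Groth.Prelude.Def_AlgSp4
import Mathlib.AlgebraicGeometry.Morphisms.LocalFlatDescent
import Mathlib.AlgebraicGeometry.Morphisms.Etale

/-!
# Cancellation for `AlgSp.LocP` (helper2)

If `P` descends along fppf covers and satisfies a cancellation property `Q v → P (u ≫ v) → P u`, then for
morphisms of algebraic spaces `f : X ⟶ Y`, `g : Y ⟶ Z` with `LocP Q g` and `LocP P (f ≫ g)` we get `LocP P f`.
-/

set_option autoImplicit false
universe u

open CategoryTheory CategoryTheory.Limits AlgebraicGeometry Opposite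

namespace Groth.Agent.Lib.helper2.AlgSpCancel

variable {S : Scheme.{u}}

theorem locP_of_comp (P Q : MorphismProperty Scheme.{u})
    [P.DescendsAlong (@Surjective ⊓ @Flat ⊓ @LocallyOfFinitePresentation)]
    (hcancel : ∀ ⦃A B C : Scheme.{u}⦄ (u : A ⟶ B) (v : B ⟶ C), Q v → P (u ≫ v) → P u)
    {X Y Z : AlgSp.Space S} (f : X ⟶ Y) (g : Y ⟶ Z)
    (hg : AlgSp.LocP Q g.hom) (hfg : AlgSp.LocP P (f ≫ g).hom) : AlgSp.LocP P f.hom := by
  intro U V a b h ha hb comm
  obtain ⟨W, c, hcet, hcsurj⟩ := Z.property.atlas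
  have hcrep := hcet.rep
  -- V' = V ×_Z W
  have sqV := hcrep.isPullback (b ≫ g.hom)
  set p : hcrep.pullback (b ≫ g.hom) ⟶ V := hcrep.snd (b ≫ g.hom) with hp
  have hpet : Etale p.left := hcet.property_snd (b ≫ g.hom)
  have hpsurj : Surjective p.left := hcsurj.property_snd (b ≫ g.hom)
  obtain ⟨q, hq⟩ := (AlgSp.yon S).map_surjective (hcrep.fst (b ≫ g.hom))
  -- U' = U ×_V V'
  have sqU : IsPullback (pullback.fst h p) (pullback.snd h p) h p := IsPullback.of_hasPullback h p
  have sqU' := sqU.map (Over.forget S)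
  set e := pullback.fst h p with he
  set h' := pullback.snd h p with hh'
  have heet : Etale e.left := MorphismProperty.of_isPullback (P := @Etale) sqU'.flip hpet
  -- the chart for `f ≫ g`
  have ha' : AlgSp.RepWith @Etale ((AlgSp.yon S).map e ≫ a) :=
    (AlgSp.repWith_isMultiplicative (S := S) @Etale).comp_mem _ _
      ((AlgSp.repWith_yon_map_iff @Etale e).2 heet) ha
  have comm' : ((AlgSp.yon S).map e ≫ a) ≫ (f ≫ g).hom = (AlgSp.yon S).map (h' ≫ q) ≫ c := by
    have h1 : (f ≫ g).hom = f.hom ≫ g.hom := rfl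
    rw [h1, Category.assoc, reassoc_of% comm, ← Functor.map_comp_assoc, sqU.w, Functor.map_comp,
      Functor.map_comp, Category.assoc, Category.assoc, hq, sqV.w]
  have hP1 : P (h' ≫ q).left := hfg _ c (h' ≫ q) ha' hcet comm'
  -- the chart for `g`
  have hb' : AlgSp.RepWith @Etale ((AlgSp.yon S).map p ≫ b) :=
    (AlgSp.repWith_isMultiplicative (S := S) @Etale).comp_mem _ _
      ((AlgSp.repWith_yon_map_iff @Etale p).2 hpet) hb
  have comm'' : ((AlgSp.yon S).map p ≫ b) ≫ g.hom = (AlgSp.yon S).map q ≫ c := by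
    rw [Category.assoc, hq, sqV.w]
  have hQ : Q q.left := hg _ c q hb' hcet comm''
  have hP2 : P h'.left := hcancel h'.left q.left hQ (by rw [← Over.comp_left]; exact hP1)
  -- descent
  have hcover : (@Surjective ⊓ @Flat ⊓ @LocallyOfFinitePresentation : MorphismProperty Scheme.{u})
      p.left := ⟨⟨hpsurj, inferInstance⟩, inferInstance⟩
  exact MorphismProperty.of_isPullback_of_descendsAlong
    (Q := (@Surjective ⊓ @Flat ⊓ @LocallyOfFinitePresentation : MorphismProperty Scheme.{u}))
    sqU'.flip hcover hP2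

end Groth.Agent.Lib.helper2.AlgSpCancel
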