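import Mathlib

universe u
open TensorProduct

namespace Groth.Agent.Lib.helper2.EtDesc

variable (R S T : Type u) [CommRing R] [CommRing S] [CommRing T]
  [Algebra R S] [Algebra S T] [Algebra R T] [IsScalarTower R S T]

/-- flatness descends along a faithfully flat "middle" extension -/
theorem flat_of_faithfullyFlat_comp [Module.Flat R T] [Module.FaithfullyFlat S T] :
    Module.Flat R S := by
  rw [Module.Flat.iff_lTensor_preserves_injective_linearMap]
  intro N N' _ _ _ _ f hf
  have h1 : Function.Injective ((f.baseChange S).lTensor T) := by
    let e₁ := TensorProduct.AlgebraTensorModule.cancelBaseChange R S T T N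
    let e₂ := TensorProduct.AlgebraTensorModule.cancelBaseChange R S T T N'
    have hcomm : ∀ z, e₂ ((f.baseChange S).lTensor T z) = (f.lTensor T) (e₁ z) := by
      intro z
      induction z using TensorProduct.induction_on with
      | zero => simp
      | tmul t w =>
        induction w using TensorProduct.induction_on with
        | zero => simp
        | tmul s n => simp [e₁, e₂]
        | add a b ha hb => simp only [TensorProduct.tmul_add, map_add, ha, hb]
      | add a b ha hb => simp only [map_add, ha, hb]
    have h2 : Function.Injective (f.lTensor T) :=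
      Module.Flat.lTensor_preserves_injective_linearMap f hf
    intro z z' hzz'
    apply e₁.injective
    apply h2
    rw [← hcomm, ← hcomm, hzz']
  have h3 := (Module.FaithfullyFlat.lTensor_injective_iff_injective S T (f.baseChange S)).1 h1
  exact h3

/-- étaleness descends along a faithfully flat étale "middle" extension -/
theorem etale_of_comp_of_faithfullyFlat [Algebra.Etale R T] [Algebra.Etale S T]
    [Module.FaithfullyFlat S T] [Algebra.FinitePresentation R S] : Algebra.Etale R S := by
  haveI : Module.Flat R S := flat_of_faithfullyFlat_comp R S T
  haveI : Algebra.FormallyUnramified R S := by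
    constructor
    have e := KaehlerDifferential.tensorKaehlerEquivOfFormallyEtale R S T
    haveI : Subsingleton (T ⊗[S] Ω[S⁄R]) := e.toEquiv.subsingleton
    exact (Module.FaithfullyFlat.subsingleton_tensorProduct_iff_right S T).1 this
  exact Algebra.Etale.of_formallyUnramified_of_flat

/-- a finite flat injective extension is faithfully flat -/
theorem faithfullyFlat_of_finite_of_injective [Module.Flat S T] [Module.Finite S T]
    (hinj : Function.Injective (algebraMap S T)) : Module.FaithfullyFlat S T := by
  refine ⟨fun m hm hcon => ?_⟩
  have h1 : (⊤ : Submodule S T) ≤ m • ⊤ := hcon.ge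
  obtain ⟨s, hs1, hs2⟩ := Submodule.exists_sub_one_mem_and_smul_eq_zero_of_fg_of_le_smul m ⊤
    Module.Finite.fg_top h1
  have h2 : s • (1 : T) = 0 := hs2 1 trivial
  rw [Algebra.smul_def, mul_one] at h2
  have h3 : s = 0 := hinj (by rw [h2, map_zero])
  rw [h3, zero_sub] at hs1
  have h4 : (1 : S) ∈ m := by simpa using m.neg_mem hs1
  exact hm.ne_top ((Ideal.eq_top_iff_one _).2 h4)

end Groth.Agent.Lib.helper2.EtDesc
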