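import Mathlib

universe u
open CategoryTheory AlgebraicGeometry Opposite Limits

namespace Groth.Agent.Lib.helper2.QuotLib

theorem isFinite_sigmaDesc (κ : Type u) [Finite κ] :
    ∀ {T : Scheme.{u}} (X : κ → Scheme.{u}) (q : ∀ k, X k ⟶ T) (_ : ∀ k, IsFinite (q k)),
    IsFinite (Sigma.desc q) := by
  induction κ using Finite.induction_empty_option with
  | of_equiv e ih =>
    rename_i α β
    intro T X q hq
    have h1 : (Sigma.reindex e X).hom ≫ Sigma.desc q = Sigma.desc (fun a => q (e a)) := by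
      apply Sigma.hom_ext
      intro a
      rw [Sigma.ι_reindex_hom_assoc, Sigma.ι_desc, Sigma.ι_desc]
    have h2 : IsFinite (Sigma.desc (fun a => q (e a))) := ih (fun a => X (e a)) _ (fun a => hq (e a))
    rw [← h1] at h2
    have h3 : Sigma.desc q = (Sigma.reindex e X).inv ≫ (Sigma.reindex e X).hom ≫ Sigma.desc q := by
      rw [Iso.inv_hom_id_assoc]
    rw [h3]
    infer_instance
  | h_empty =>
    intro T X q hq
    haveI : IsEmpty ↥(∐ X) := by
      have hi : IsInitial (∐ X) := by
        refine IsInitial.ofUniqueHom (fun Y => Sigma.desc (fun k => k.elim)) ?_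
        intro Y m
        apply Sigma.hom_ext
        intro k
        exact k.elim
      exact Function.isEmpty (hi.to (⊥_ Scheme))
    infer_instance
  | h_option ih =>
    rename_i α _
    intro T X q hq
    let φ : (∐ fun a => X (some a)) ⨿ X none ⟶ ∐ X :=
      coprod.desc (Sigma.desc (fun a => Sigma.ι X (some a))) (Sigma.ι X none)
    let ψ : ∐ X ⟶ (∐ fun a => X (some a)) ⨿ X none :=
      Sigma.desc (fun o => match o with
        | none => coprod.inr
        | some a => Sigma.ι (fun a => X (some a)) a ≫ coprod.inl)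
    have h1 : φ ≫ ψ = 𝟙 _ := by
      apply coprod.hom_ext
      · apply Sigma.hom_ext
        intro a
        simp only [φ, ψ, Category.assoc, coprod.inl_desc_assoc, coprod.inl_desc, Sigma.ι_desc_assoc, Sigma.ι_desc, Category.comp_id, Category.id_comp]
      · simp only [φ, ψ, Category.assoc, coprod.inr_desc_assoc, coprod.inr_desc, Sigma.ι_desc_assoc, Sigma.ι_desc, Category.comp_id]
    have h2 : ψ ≫ φ = 𝟙 _ := by
      apply Sigma.hom_ext
      intro o
      cases o with
      | none => simp only [φ, ψ, Category.assoc, coprod.inr_desc_assoc, coprod.inr_desc, Sigma.ι_desc_assoc, Sigma.ι_desc, Category.comp_id]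
      | some a => simp only [φ, ψ, Category.assoc, coprod.inl_desc_assoc, coprod.inl_desc, Sigma.ι_desc_assoc, Sigma.ι_desc, Category.comp_id, Category.id_comp]
    have h3 : Sigma.desc q = ψ ≫ coprod.desc (Sigma.desc (fun a => q (some a))) (q none) := by
      apply Sigma.hom_ext
      intro o
      cases o with
      | none => simp only [ψ, Category.assoc, coprod.inr_desc_assoc, coprod.inr_desc, Sigma.ι_desc_assoc, Sigma.ι_desc, Category.comp_id]
      | some a => simp only [ψ, Category.assoc, coprod.inl_desc_assoc, coprod.inl_desc, Sigma.ι_desc_assoc, Sigma.ι_desc, Category.comp_id]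
    haveI : IsIso ψ := ⟨φ, h2, h1⟩
    haveI : IsFinite (Sigma.desc (fun a => q (some a))) := ih (fun a => X (some a)) _ (fun a => hq _)
    haveI := hq none
    rw [h3]
    infer_instance

end Groth.Agent.Lib.helper2.QuotLib

namespace Groth.Agent.Lib.helper2.QuotLib

theorem result_13739 {X S Y : Scheme.{u}} (q : X ⟶ S) [IsFinite q] {G : Type u} [Group G] [Finite G]
    (ρ : G →* Aut X)
    (htrans : ∀ (Ω : Type u) [Field Ω] [IsAlgClosed Ω] (τ₁ τ₂ : Spec (CommRingCat.of Ω) ⟶ X),
      τ₁ ≫ q = τ₂ ≫ q → ∃ g : G, τ₁ ≫ (ρ g).hom = τ₂)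
    (r : Y ⟶ X) (υ : (∐ fun _ : G => Y) ⟶ pullback (r ≫ q) q)
    (hυ₁ : ∀ σ : G, Sigma.ι (fun _ : G => Y) σ ≫ υ ≫ pullback.fst (r ≫ q) q = 𝟙 Y)
    (hυ₂ : ∀ σ : G, Sigma.ι (fun _ : G => Y) σ ≫ υ ≫ pullback.snd (r ≫ q) q = r ≫ (ρ σ).hom) :
    IsFinite υ ∧ Surjective υ := by
  constructor
  · have h1 : υ = Sigma.desc (fun σ => Sigma.ι (fun _ : G => Y) σ ≫ υ) := by
      apply Sigma.hom_ext
      intro σ
      rw [Sigma.ι_desc]
    rw [h1]
    apply isFinite_sigmaDesc
    intro σ
    haveI : IsFinite ((Sigma.ι (fun _ : G => Y) σ ≫ υ) ≫ pullback.fst (r ≫ q) q) := by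
      rw [Category.assoc, hυ₁]
      infer_instance
    exact IsFinite.of_comp _ (pullback.fst (r ≫ q) q)
  · refine ⟨fun z => ?_⟩
    let Ω := AlgebraicClosure ((pullback (r ≫ q) q).residueField z)
    let τ : Spec (CommRingCat.of Ω) ⟶ pullback (r ≫ q) q :=
      Spec.map (CommRingCat.ofHom (algebraMap ((pullback (r ≫ q) q).residueField z) Ω)) ≫
        (pullback (r ≫ q) q).fromSpecResidueField z
    obtain ⟨g, hg⟩ := htrans Ω (τ ≫ pullback.fst (r ≫ q) q ≫ r) (τ ≫ pullback.snd (r ≫ q) q) (by
      simp only [Category.assoc, pullback.condition])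
    obtain ⟨w⟩ : Nonempty ↥(Spec (CommRingCat.of Ω)) := ⟨IsLocalRing.closedPoint Ω⟩
    have hw : τ w = z := by
      simp only [τ, Scheme.Hom.comp_apply]
      exact Scheme.fromSpecResidueField_apply _ _
    have hτ : τ = (τ ≫ pullback.fst (r ≫ q) q) ≫ Sigma.ι (fun _ : G => Y) g ≫ υ := by
      apply pullback.hom_ext
      · simp only [Category.assoc, hυ₁, Category.comp_id]
      · simp only [Category.assoc, hυ₂]
        rw [← hg]
        simp only [Category.assoc]
    refine ⟨Sigma.ι (fun _ : G => Y) g ((τ ≫ pullback.fst (r ≫ q) q) w), ?_⟩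
    have h5 := congr($hτ w)
    rw [hw] at h5
    refine Eq.trans ?_ h5.symm
    simp only [Scheme.Hom.comp_apply]

end Groth.Agent.Lib.helper2.QuotLib
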