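import Groth.Agent.Lib.Helper2.AUS1
import Groth.Agent.Lib.Helper8.StalkLenAlg

/-!
# helper2: vanishing of `Tor_i(M, N)` for `i > pd M - depth N` when the Tor modules have finite
length (a lemma of Auslander)
-/

universe u

open CategoryTheory Category Limits MonoidalCategory TensorProduct IsLocalRing
  RingTheory.Sequence
open scoped Pointwise

namespace Groth.Agent.Lib.helper2.Aus

open Groth.Agent.Lib.helper7.TorAPI

variable {A : Type u} [CommRing A]

/-- the support condition guaranteeing that all `Tor_i(M, N)` have finite length. -/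
def SuppCond (A : Type u) [CommRing A] (M N : Type u) [AddCommGroup M] [Module A M]
    [AddCommGroup N] [Module A N] : Prop :=
  ∀ Q : PrimeSpectrum A, Module.annihilator A M ⊔ Module.annihilator A N ≤ Q.asIdeal →
    Q.asIdeal.IsMaximal

theorem isFiniteLength_T [IsNoetherianRing A] (M N : Type u) [AddCommGroup M] [Module A M]
    [AddCommGroup N] [Module A N] [Module.Finite A M] [Module.Finite A N]
    (H : SuppCond A M N) (i : ℕ) :
    IsFiniteLength A ((T i (ModuleCat.of A M)).obj (ModuleCat.of A N)) := by
  haveI : Module.Finite A ((T i (ModuleCat.of A M)).obj (ModuleCat.of A N)) :=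
    finite_T (ModuleCat.of A M) i (ModuleCat.of A N)
  rw [Groth.Agent.Lib.helper8.StalkLen.isFiniteLength_iff_support_isMaximal]
  intro Q hQ
  apply H Q
  rw [Module.mem_support_iff_of_finite] at hQ
  refine le_trans (sup_le ?_ ?_) hQ
  · intro a ha
    rw [Module.mem_annihilator] at ha ⊢
    intro t
    exact smul_T_eq_zero_left (ModuleCat.of A M) (ModuleCat.of A N) i a ha t
  · intro a ha
    rw [Module.mem_annihilator] at ha ⊢
    intro t
    exact smul_T_eq_zero_right (ModuleCat.of A M) (ModuleCat.of A N) i a ha t

end Groth.Agent.Lib.helper2.Aus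

namespace Groth.Agent.Lib.helper2.Aus

open Groth.Agent.Lib.helper7.TorAPI

variable {A : Type u} [CommRing A]

/-- the short complex `0 → N --x--> N → N/xN → 0`. -/
noncomputable def scQ (N : Type u) [AddCommGroup N] [Module A N] (x : A) :
    ShortComplex (ModuleCat.{u} A) :=
  ModuleCat.shortComplexOfCompEqZero (LinearMap.lsmul A N x)
    (Submodule.mkQ (x • (⊤ : Submodule A N))) (by
      ext n
      simp only [LinearMap.coe_comp, Function.comp_apply, LinearMap.lsmul_apply,
        Submodule.mkQ_apply, LinearMap.zero_apply]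
      exact (Submodule.Quotient.mk_eq_zero _).2
        (Submodule.smul_mem_pointwise_smul n x ⊤ Submodule.mem_top))

lemma scQ_shortExact (N : Type u) [AddCommGroup N] [Module A N] (x : A)
    (hx : IsSMulRegular N x) : (scQ N x).ShortExact := by
  apply ModuleCat.shortComplex_shortExact
  · intro n
    constructor
    · intro hn
      have hn' : Submodule.mkQ (x • (⊤ : Submodule A N)) n = 0 := hn
      rw [Submodule.mkQ_apply, Submodule.Quotient.mk_eq_zero,
        Submodule.mem_smul_pointwise_iff_exists] at hn'
      obtain ⟨n', -, rfl⟩ := hn'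
      exact ⟨n', rfl⟩
    · rintro ⟨n', rfl⟩
      obtain ⟨n'', rfl⟩ : ∃ n'' : N, n'' = n' := ⟨n', rfl⟩
      change Submodule.mkQ (x • (⊤ : Submodule A N)) (x • n'') = 0
      rw [Submodule.mkQ_apply, Submodule.Quotient.mk_eq_zero]
      exact Submodule.smul_mem_pointwise_smul n'' x ⊤ Submodule.mem_top
  · exact hx
  · exact Submodule.mkQ_surjective _

lemma scQ_f (N : Type u) [AddCommGroup N] [Module A N] (x : A) :
    (scQ N x).f = x • 𝟙 (ModuleCat.of A N) := by
  ext n
  rfl

theorem suppCond_quot (M N : Type u) [AddCommGroup M] [Module A M]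
    [AddCommGroup N] [Module A N] (x : A) (H : SuppCond A M N) :
    SuppCond A M (QuotSMulTop x N) := by
  intro Q hQ
  apply H Q
  refine le_trans (sup_le_sup_left ?_ _) hQ
  intro a ha
  rw [Module.mem_annihilator] at ha ⊢
  intro t
  obtain ⟨n, rfl⟩ := Submodule.mkQ_surjective _ t
  rw [← map_smul, ha n, map_zero]

/-- **Auslander's lemma.** If `Tor_i(M, -) = 0` for `i > p`, `rs` is an `N`-regular sequence in the
maximal ideal and the modules `Tor_i(M, N)` have finite length, then `Tor_i(M, N) = 0` for
`i > p - |rs|`. -/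
theorem isZero_T_of_isWeaklyRegular [IsNoetherianRing A] [IsLocalRing A] (M : Type u)
    [AddCommGroup M] [Module A M] [Module.Finite A M] (p : ℕ)
    (hp : ∀ (N' : ModuleCat.{u} A) (i : ℕ), p < i → IsZero ((T i (ModuleCat.of A M)).obj N')) :
    ∀ (rs : List A) (N : Type u) [AddCommGroup N] [Module A N] [Module.Finite A N],
      IsWeaklyRegular N rs → (∀ r ∈ rs, r ∈ maximalIdeal A) → SuppCond A M N →
      ∀ i, p < i + rs.length → IsZero ((T i (ModuleCat.of A M)).obj (ModuleCat.of A N)) := by
  intro rs
  induction rs with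
  | nil =>
    intro N _ _ _ _ _ _ i hi
    exact hp _ i (by simpa using hi)
  | cons x rs ih =>
    intro N _ _ _ hreg hmem H i hi
    obtain ⟨hx, hrs⟩ := (isWeaklyRegular_cons_iff N x rs).1 hreg
    have hxm : x ∈ maximalIdeal A := hmem x List.mem_cons_self
    have hz := ih (QuotSMulTop x N) hrs (fun r hr => hmem r (List.mem_cons_of_mem _ hr))
      (suppCond_quot M N x H) (i + 1) (by simp only [List.length_cons] at hi; omega)
    have hS := scQ_shortExact N x hx
    obtain ⟨δ, w₁, w₂, e₁, e₂⟩ := T_exists_δ (ModuleCat.of A M) hS i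
    have hz' : IsZero ((T (i + 1) (ModuleCat.of A M)).obj (scQ N x).X₃) := hz
    haveI hmono : Mono ((T i (ModuleCat.of A M)).map (scQ N x).f) :=
      e₂.mono_g (hz'.eq_of_src _ _)
    have hmono2 : Mono ((T i (ModuleCat.of A M)).map (x • 𝟙 (ModuleCat.of A N))) := by
      rw [← scQ_f N x]
      exact hmono
    rw [T_map_smul] at hmono2
    set Tm := (T i (ModuleCat.of A M)).obj (ModuleCat.of A N) with hTm
    have hinj : Function.Injective (x • LinearMap.id : Tm →ₗ[A] Tm) := by
      have := (ModuleCat.mono_iff_injective _).1 hmono2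
      exact this
    have hfl := isFiniteLength_T M N H i
    haveI : IsArtinian A Tm := (isFiniteLength_iff_isNoetherian_isArtinian.1 hfl).2
    haveI : IsNoetherian A Tm := (isFiniteLength_iff_isNoetherian_isArtinian.1 hfl).1
    have hsurj := IsArtinian.surjective_of_injective_endomorphism _ hinj
    have htop : (⊤ : Submodule A Tm) = ⊥ := by
      apply Submodule.eq_bot_of_le_smul_of_le_jacobson_bot (maximalIdeal A) ⊤
        (IsNoetherian.noetherian _)
      · intro t _
        obtain ⟨t', rfl⟩ := hsurj t
        exact Submodule.smul_mem_smul hxm Submodule.mem_top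
      · exact IsLocalRing.maximalIdeal_le_jacobson _
    haveI : Subsingleton Tm := by
      rw [← Submodule.subsingleton_iff A]
      exact subsingleton_of_bot_eq_top htop.symm
    exact ModuleCat.isZero_of_subsingleton _

end Groth.Agent.Lib.helper2.Aus
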