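import Groth.Agent.Lib.Helper2.DevSch1
import Groth.Agent.Lib.Helper2.AUS2

/-!
# helper2: the stalk of the ideal of the closure of a point; support dimension bounds
-/

set_option autoImplicit false
universe u
open CategoryTheory CategoryTheory.Limits AlgebraicGeometry TopologicalSpace Opposite IsLocalRing

namespace Groth.Agent.Lib.helper2.DevSch

open Groth.Agent.Lib.helper16.OrdGen Groth.Agent.Lib.helper16.GenFib
  Groth.Agent.Lib.helper16.DivSum

variable {X : Scheme.{u}}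

theorem ptIdeal_ideal (ξ : X) (U : X.affineOpens) (hξ : ξ ∈ U.1) :
    (IntMult.ptIdeal ξ).ideal U = (U.2.primeIdealOf ⟨ξ, hξ⟩).asIdeal := by
  unfold IntMult.ptIdeal
  rw [Scheme.IdealSheafData.vanishingIdeal_ideal]
  have h1 : U.2.fromSpec (U.2.primeIdealOf ⟨ξ, hξ⟩) = ξ := U.2.fromSpec_primeIdealOf ⟨ξ, hξ⟩
  ext s
  rw [PrimeSpectrum.mem_vanishingIdeal]
  constructor
  · intro hs
    apply hs
    show U.2.fromSpec (U.2.primeIdealOf ⟨ξ, hξ⟩) ∈ closure {ξ}
    rw [h1]
    exact subset_closure rfl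
  · intro hs q hq
    have hq' : ξ ⤳ U.2.fromSpec q := specializes_iff_mem_closure.2 hq
    rw [← h1, U.2.fromSpec.isOpenEmbedding.isInducing.specializes_iff] at hq'
    have hle : (U.2.primeIdealOf ⟨ξ, hξ⟩ : PrimeSpectrum Γ(X, U.1)) ≤ q :=
      (PrimeSpectrum.le_iff_specializes _ _).2 hq'
    exact hle hs

theorem stalkIdeal_ptIdeal {ξ ζ : X} (h : ξ ⤳ ζ) :
    IntMult.stalkIdeal (IntMult.ptIdeal ξ) ζ = pOf h := by
  obtain ⟨_, ⟨U, hU : IsAffineOpen U, rfl⟩, hζU, -⟩ :=
    X.isBasis_affineOpens.exists_subset_of_mem_open (Set.mem_univ ζ) isOpen_univ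
  have hξU : ξ ∈ U := h.mem_open U.isOpen hζU
  rw [Groth.Agent.Lib.helper2.IM.stalkIdeal_eq_map _ ζ ⟨U, hU⟩ hζU, ptIdeal_ideal ξ ⟨U, hU⟩ hξU]
  letI a1 : Algebra Γ(X, U) (X.presheaf.stalk ζ) :=
    TopCat.Presheaf.algebra_section_stalk X.presheaf ⟨ζ, hζU⟩
  letI a2 : Algebra Γ(X, U) (X.presheaf.stalk ξ) :=
    TopCat.Presheaf.algebra_section_stalk X.presheaf ⟨ξ, hξU⟩
  haveI l1 : IsLocalization.AtPrime (X.presheaf.stalk ζ) (hU.primeIdealOf ⟨ζ, hζU⟩).asIdeal :=
    hU.isLocalization_stalk ⟨ζ, hζU⟩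
  haveI l2 : IsLocalization.AtPrime (X.presheaf.stalk ξ) (hU.primeIdealOf ⟨ξ, hξU⟩).asIdeal :=
    hU.isLocalization_stalk ⟨ξ, hξU⟩
  have hgerm : ∀ r : Γ(X, U), X.presheaf.stalkSpecializes h (algebraMap Γ(X, U)
      (X.presheaf.stalk ζ) r) = algebraMap Γ(X, U) (X.presheaf.stalk ξ) r := by
    intro r
    exact TopCat.Presheaf.germ_stalkSpecializes_apply X.presheaf hζU h r
  have hcomap : (pOf h).comap (algebraMap Γ(X, U) (X.presheaf.stalk ζ)) =
      (hU.primeIdealOf ⟨ξ, hξU⟩).asIdeal := by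
    ext s
    rw [Ideal.mem_comap, mem_pOf_iff, hgerm]
    exact IsLocalization.AtPrime.to_map_mem_maximal_iff (X.presheaf.stalk ξ)
      (hU.primeIdealOf ⟨ξ, hξU⟩).asIdeal s
  have := IsLocalization.map_under (hU.primeIdealOf ⟨ζ, hζU⟩).asIdeal.primeCompl
    (X.presheaf.stalk ζ) (pOf h)
  rw [Ideal.under_def, hcomap] at this
  exact this

section alg

variable {A : Type u} [CommRing A]

theorem supportDim_le_of_forall (M : Type u) [AddCommGroup M] [Module A M] (a : ℕ)
    (h : ∀ P : PrimeSpectrum A, P ∈ Module.support A M →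
      ringKrullDim (A ⧸ P.asIdeal) ≤ (a : WithBot ℕ∞)) :
    Module.supportDim A M ≤ (a : WithBot ℕ∞) := by
  unfold Module.supportDim
  rw [Order.krullDim]
  refine iSup_le (fun p => ?_)
  have h1 := h p.head.1 p.head.2
  rw [Groth.Agent.Lib.helper26.HS.ringKrullDim_quotient_eq_coheight] at h1
  have h2 : (p.length : ℕ∞) ≤ Order.coheight (p.head : PrimeSpectrum A) := by
    have := Order.length_le_coheight_head (p := p.map Subtype.val (fun _ _ hab => hab))
    simpa using this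
  have h3 : ((p.length : ℕ∞) : WithBot ℕ∞) ≤ (Order.coheight (p.head : PrimeSpectrum A) : WithBot ℕ∞) := by
    exact_mod_cast h2
  exact le_trans (by exact_mod_cast le_rfl) (h3.trans h1)

theorem ringKrullDim_quot_sup_eq_zero_of_suppCond [IsLocalRing A] (P Q : Ideal A)
    (hP : P ≠ ⊤) (hQ : Q ≠ ⊤)
    (H : Groth.Agent.Lib.helper2.Aus.SuppCond A (A ⧸ P) (A ⧸ Q)) :
    ringKrullDim (A ⧸ (P ⊔ Q)) = 0 := by
  set J := P ⊔ Q with hJ
  have hJle : J ≤ IsLocalRing.maximalIdeal A :=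
    sup_le (IsLocalRing.le_maximalIdeal hP) (IsLocalRing.le_maximalIdeal hQ)
  haveI : Nontrivial (A ⧸ J) := by
    apply Ideal.Quotient.nontrivial_iff.2
    intro h
    rw [h] at hJle
    exact (IsLocalRing.maximalIdeal.isMaximal A).ne_top (top_le_iff.1 hJle)
  haveI : Subsingleton (PrimeSpectrum (A ⧸ J)) := by
    constructor
    intro p q
    have key : ∀ p : PrimeSpectrum (A ⧸ J),
        p.asIdeal.comap (Ideal.Quotient.mk J) = IsLocalRing.maximalIdeal A := by
      intro p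
      have hle : J ≤ p.asIdeal.comap (Ideal.Quotient.mk J) := by
        intro a ha
        rw [Ideal.mem_comap, Ideal.Quotient.eq_zero_iff_mem.2 ha]
        exact zero_mem _
      have hmax := H ⟨p.asIdeal.comap (Ideal.Quotient.mk J), inferInstance⟩ (by
        rw [Ideal.annihilator_quotient, Ideal.annihilator_quotient]
        exact hle)
      exact IsLocalRing.eq_maximalIdeal hmax
    ext1
    apply Ideal.comap_injective_of_surjective (Ideal.Quotient.mk J) Ideal.Quotient.mk_surjective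
    rw [key p, key q]
  exact Order.krullDim_eq_zero

end alg

end Groth.Agent.Lib.helper2.DevSch
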