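import Mathlib
import Groth.Prelude.Def_EGA4c

/-!
# Z-pure / Z-closed modules on `Spec A` in elementary terms (helper2)

Concrete model: sections of `M~` over `U` are `(structureSheafInType A M).obj.obj (op U)`,
dependent functions `p ↦ s(p) ∈ M_p` which are locally fractions.  `EGA4.restrCompl A J M` is
definitionally restriction in this model.

* `toOpenₗ_openCompl_eq_zero_iff`: kernel of `M → Γ(D(J), M~)` is the `J`-power torsion.
* `isPureAlong_iff`: elementary form of `EGA4.IsPureAlong`.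
* `bijective_toOpenₗ_of_regular`: a regular pair `x, y ∈ J` makes `M → Γ(D(J), M~)` bijective.
* `mem_smul_of_bijective`: if `x` is `M`-regular, `q u ⊆ x M` and `M → Γ(D(q), M~)` is bijective,
  then `u ∈ x M`.
-/

set_option autoImplicit false
universe u

open AlgebraicGeometry StructureSheaf PrimeSpectrum TopologicalSpace CategoryTheory Opposite

namespace Groth.Agent.Lib.helper2.PureClosed


variable {A : Type u} [CommRing A] {M : Type u} [AddCommGroup M] [Module A M]

variable (A M) in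
/-- concrete sections of `M~` over `U`. -/
abbrev Sec (U : Opens (PrimeSpectrum.Top A)) : Type u := (structureSheafInType A M).obj.obj (op U)

lemma toOpenₗ_val (U : Opens (PrimeSpectrum.Top A)) (m : M) (x : U) :
    (toOpenₗ A M U m).1 x = LocalizedModule.mk m 1 := rfl

/-- key lemma: `f` dies at all points of `D(h)` iff a power of `h` kills `f`. -/
lemma exists_pow_smul_eq_zero_iff (h : A) (f : M) :
    (∃ N : ℕ, h ^ N • f = 0) ↔
      ∀ q : PrimeSpectrum A, h ∉ q.asIdeal → ∃ a : A, a ∉ q.asIdeal ∧ a • f = 0 := by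
  constructor
  · rintro ⟨N, hN⟩ q hq
    exact ⟨h ^ N, fun hmem => hq (q.2.mem_of_pow_mem N hmem), hN⟩
  · intro H
    have hmem : h ∈ Ideal.radical (LinearMap.ker (LinearMap.toSpanSingleton A M f) : Ideal A) := by
      rw [Ideal.radical_eq_sInf, Ideal.mem_sInf]
      rintro p ⟨hle, hp⟩
      by_contra hh
      obtain ⟨a, ha, ha0⟩ := H ⟨p, hp⟩ hh
      exact ha (hle (by simpa using ha0))
    obtain ⟨N, hN⟩ := hmem
    exact ⟨N, by simpa using hN⟩

lemma mk_one_eq_zero_iff (p : PrimeSpectrum A) (f : M) :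
    (LocalizedModule.mk f (1 : p.asIdeal.primeCompl) = 0) ↔ ∃ a : A, a ∉ p.asIdeal ∧ a • f = 0 := by
  rw [← LocalizedModule.zero_mk (1 : p.asIdeal.primeCompl), LocalizedModule.mk_eq]
  constructor
  · rintro ⟨c, hc⟩
    exact ⟨c.1, c.2, by simpa [Submonoid.smul_def] using hc⟩
  · rintro ⟨a, ha, ha0⟩
    exact ⟨⟨a, ha⟩, by simpa [Submonoid.smul_def] using ha0⟩

lemma toOpenₗ_eq_zero_iff (U : Opens (PrimeSpectrum.Top A)) (m : M) :
    toOpenₗ A M U m = 0 ↔ ∀ p : PrimeSpectrum A, p ∈ U → ∃ a : A, a ∉ p.asIdeal ∧ a • m = 0 := by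
  constructor
  · intro h p hp
    have := congrArg (fun s : Sec A M U => s.1 ⟨p, hp⟩) h
    exact (mk_one_eq_zero_iff p m).mp this
  · intro h
    refine Subtype.ext (funext fun x => ?_)
    exact (mk_one_eq_zero_iff x.1 m).mpr (h x.1 x.2)

lemma mem_openCompl_iff (J : Ideal A) (p : PrimeSpectrum A) :
    p ∈ EGA4.openCompl A J ↔ ∃ f ∈ J, f ∉ p.asIdeal := by
  change p ∈ (PrimeSpectrum.zeroLocus (J : Set A))ᶜ ↔ _
  rw [Set.mem_compl_iff, PrimeSpectrum.mem_zeroLocus, Set.not_subset]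
  rfl

/-- kernel of `M → Γ(D(J), M~)`: the `J`-power torsion. -/
lemma toOpenₗ_openCompl_eq_zero_iff (J : Ideal A) (m : M) :
    toOpenₗ A M (EGA4.openCompl A J) m = 0 ↔ ∀ f ∈ J, ∃ N : ℕ, f ^ N • m = 0 := by
  refine (toOpenₗ_eq_zero_iff _ m).trans ?_
  constructor
  · intro h f hf
    rw [exists_pow_smul_eq_zero_iff]
    intro q hq
    exact h q ((mem_openCompl_iff J q).mpr ⟨f, hf, hq⟩)
  · intro h p hp
    obtain ⟨f, hf, hfp⟩ := (mem_openCompl_iff J p).mp hp
    exact (exists_pow_smul_eq_zero_iff f m).mp (h f hf) p hfp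

lemma injective_toOpenₗ_openCompl_iff (J : Ideal A) :
    Function.Injective (toOpenₗ A M (EGA4.openCompl A J)) ↔
      ∀ m : M, (∀ f ∈ J, ∃ N : ℕ, f ^ N • m = 0) → m = 0 := by
  rw [injective_iff_map_eq_zero]
  exact forall_congr' fun m => by rw [toOpenₗ_openCompl_eq_zero_iff]

variable (M) in
lemma restrCompl_comp (J : Ideal A) :
    (EGA4.restrCompl A J M : Sec A M ⊤ → Sec A M (EGA4.openCompl A J)) ∘ (toOpenₗ A M ⊤) =
      toOpenₗ A M (EGA4.openCompl A J) := rfl

variable (M) in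
lemma injective_restrCompl_iff (J : Ideal A) :
    Function.Injective (EGA4.restrCompl A J M) ↔
      Function.Injective (toOpenₗ A M (EGA4.openCompl A J)) := by
  rw [← restrCompl_comp M J]
  exact (Function.Injective.of_comp_iff' _ toOpenₗ_top_bijective).symm

variable (M) in
lemma bijective_restrCompl_iff (J : Ideal A) :
    Function.Bijective (EGA4.restrCompl A J M) ↔
      Function.Bijective (toOpenₗ A M (EGA4.openCompl A J)) := by
  rw [← restrCompl_comp M J]
  exact (Function.Bijective.of_comp_iff _ toOpenₗ_top_bijective).symm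

variable (M) in
/-- `Z`-purity in elementary terms. -/
lemma isPureAlong_iff (Z : Set (PrimeSpectrum A)) :
    EGA4.IsPureAlong Z M ↔ ∀ J : Ideal A, PrimeSpectrum.zeroLocus (J : Set A) ⊆ Z →
      ∀ m : M, (∀ f ∈ J, ∃ N : ℕ, f ^ N • m = 0) → m = 0 := by
  unfold EGA4.IsPureAlong
  refine forall_congr' fun J => forall_congr' fun _ => ?_
  rw [injective_restrCompl_iff, injective_toOpenₗ_openCompl_iff]




/-- (B3) representation of a section on a basic open. -/
lemma exists_rep_basicOpen (U : Opens (PrimeSpectrum.Top A)) (s : Sec A M U) (h : A)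
    (hU : PrimeSpectrum.basicOpen h ≤ U) :
    ∃ (m : M) (k : ℕ), ∀ (q : PrimeSpectrum A) (hq : q ∈ PrimeSpectrum.basicOpen h),
      h ^ k • s.1 ⟨q, hU hq⟩ = LocalizedModule.mk m 1 := by
  obtain ⟨⟨m, ⟨_, k, rfl⟩⟩, hm⟩ := IsLocalizedModule.surj (Submonoid.powers h)
    (toOpenₗ A M (PrimeSpectrum.basicOpen h))
    ((structureSheafInType A M).1.map (homOfLE hU).op s)
  refine ⟨m, k, fun q hq => ?_⟩
  have := congrArg (fun t : Sec A M (PrimeSpectrum.basicOpen h) => t.1 ⟨q, hq⟩) hm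
  exact this




lemma mk_eq_zero_iff' (p : PrimeSpectrum A) (f : M) (g : p.asIdeal.primeCompl) :
    (LocalizedModule.mk f g = 0) ↔ ∃ a : A, a ∉ p.asIdeal ∧ a • f = 0 := by
  rw [← LocalizedModule.zero_mk g, LocalizedModule.mk_eq]
  constructor
  · rintro ⟨c, hc⟩
    refine ⟨c.1 * g.1, p.asIdeal.primeCompl.mul_mem c.2 g.2, ?_⟩
    simpa [Submonoid.smul_def, mul_smul] using hc
  · rintro ⟨a, ha, ha0⟩
    refine ⟨⟨a, ha⟩, ?_⟩
    simp only [Submonoid.smul_def, smul_zero]
    rw [smul_comm, ha0, smul_zero]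

/-- (B2) if `x` is `M`-regular, a section vanishing on `U ∩ D(x)` vanishes. -/
lemma eq_zero_of_vanish_basicOpen (x : A) (hx : IsSMulRegular M x)
    (U : Opens (PrimeSpectrum.Top A)) (t : Sec A M U)
    (ht : ∀ (q : PrimeSpectrum A) (hq : q ∈ U), x ∉ q.asIdeal → t.1 ⟨q, hq⟩ = 0) : t = 0 := by
  refine Subtype.ext (funext fun ⟨p, hp⟩ => ?_)
  obtain ⟨g, hpg, hgU, f, hfg⟩ := exists_const U t p hp
  have hval : ∀ (q : PrimeSpectrum A) (hq : q ∈ PrimeSpectrum.basicOpen g),
      t.1 ⟨q, hgU hq⟩ = LocalizedModule.mk f ⟨g, hq⟩ := fun q hq =>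
    (congrArg (fun r : Sec A M (PrimeSpectrum.basicOpen g) => r.1 ⟨q, hq⟩) hfg).symm
  -- (g x)^N f = 0
  have hkill : ∃ N : ℕ, (g * x) ^ N • f = 0 := by
    rw [exists_pow_smul_eq_zero_iff]
    intro q hq
    have hgq : g ∉ q.asIdeal := fun h => hq (q.asIdeal.mul_mem_right x h)
    have hxq : x ∉ q.asIdeal := fun h => hq (q.asIdeal.mul_mem_left g h)
    have h0 := ht q (hgU hgq) hxq
    rw [hval q hgq] at h0
    exact (mk_eq_zero_iff' q f ⟨g, hgq⟩).mp h0
  obtain ⟨N, hN⟩ := hkill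
  rw [mul_pow, mul_comm, mul_smul] at hN
  have hg0 : g ^ N • f = 0 := (hx.pow N) (by simpa using hN)
  change t.1 ⟨p, hp⟩ = 0
  rw [hval p hpg]
  exact (mk_eq_zero_iff' p f ⟨g, hpg⟩).mpr ⟨g ^ N, fun h => hpg (p.2.mem_of_pow_mem N h), hg0⟩





lemma basicOpen_le_openCompl (J : Ideal A) (x : A) (hx : x ∈ J) :
    PrimeSpectrum.basicOpen x ≤ EGA4.openCompl A J := fun q hq =>
  (mem_openCompl_iff J q).mpr ⟨x, hx, hq⟩

/-- elements outside `p` act injectively on `M_p`. -/
lemma smul_localized_injective (p : PrimeSpectrum A) (a : A) (ha : a ∉ p.asIdeal)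
    (z : LocalizedModule p.asIdeal.primeCompl M) (hz : a • z = 0) : z = 0 := by
  have hu := IsLocalizedModule.map_units (LocalizedModule.mkLinearMap p.asIdeal.primeCompl M)
    (⟨a, ha⟩ : p.asIdeal.primeCompl)
  have hinj := ((Module.End.isUnit_iff _).mp hu).1
  apply hinj
  simpa using hz

lemma mem_pow_smul_of_regular (x y : A) (hx : IsSMulRegular M x)
    (hy : ∀ m : M, (∃ n : M, y • m = x • n) → ∃ n : M, m = x • n) :
    ∀ (k : ℕ) (m : M), (∃ n : M, y • m = x ^ k • n) → ∃ n : M, m = x ^ k • n := by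
  intro k
  induction k with
  | zero => intro m _; exact ⟨m, by simp⟩
  | succ k ih =>
    rintro m ⟨n, hn⟩
    obtain ⟨m1, rfl⟩ := hy m ⟨x ^ k • n, by rw [hn, pow_succ', mul_smul]⟩
    have h1 : y • m1 = x ^ k • n := by
      apply hx
      change x • y • m1 = x • x ^ k • n
      rw [smul_comm, hn, pow_succ', mul_smul]
    obtain ⟨n1, rfl⟩ := ih m1 ⟨n, h1⟩
    exact ⟨n1, by rw [pow_succ', mul_smul]⟩

lemma mem_pow_smul_of_regular' (x y : A) (hx : IsSMulRegular M x)
    (hy : ∀ m : M, (∃ n : M, y • m = x • n) → ∃ n : M, m = x • n) (k : ℕ) :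
    ∀ (l : ℕ) (m : M), (∃ n : M, y ^ l • m = x ^ k • n) → ∃ n : M, m = x ^ k • n := by
  intro l
  induction l with
  | zero => rintro m ⟨n, hn⟩; exact ⟨n, by simpa using hn⟩
  | succ l ih =>
    rintro m ⟨n, hn⟩
    obtain ⟨n1, hn1⟩ := ih (y • m) ⟨n, by rw [← hn, pow_succ, mul_smul]⟩
    exact mem_pow_smul_of_regular x y hx hy k m ⟨n1, hn1⟩

/-- (Theorem B) a regular pair in `J` makes `M → Γ(D(J), M~)` bijective. -/
theorem bijective_toOpenₗ_of_regular (J : Ideal A) (x y : A) (hxJ : x ∈ J) (hyJ : y ∈ J)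
    (hx : IsSMulRegular M x) (hy : ∀ m : M, (∃ n : M, y • m = x • n) → ∃ n : M, m = x • n) :
    Function.Bijective (toOpenₗ A M (EGA4.openCompl A J)) := by
  constructor
  · rw [injective_toOpenₗ_openCompl_iff]
    intro m hm
    obtain ⟨N, hN⟩ := hm x hxJ
    exact (hx.pow N) (by simpa using hN)
  · intro s
    have hDx := basicOpen_le_openCompl J x hxJ
    have hDy := basicOpen_le_openCompl J y hyJ
    obtain ⟨m, k, hm⟩ := exists_rep_basicOpen _ s x hDx
    obtain ⟨n, l, hn⟩ := exists_rep_basicOpen _ s y hDy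
    have hkill : ∃ N : ℕ, (x * y) ^ N • (y ^ l • m - x ^ k • n) = 0 := by
      rw [exists_pow_smul_eq_zero_iff]
      intro q hq
      have hxq : x ∉ q.asIdeal := fun h => hq (q.asIdeal.mul_mem_right y h)
      have hyq : y ∉ q.asIdeal := fun h => hq (q.asIdeal.mul_mem_left x h)
      rw [← mk_one_eq_zero_iff]
      have h1 := hm q hxq
      have h2 := hn q hyq
      have : (LocalizedModule.mk (y ^ l • m - x ^ k • n) (1 : q.asIdeal.primeCompl)) =
          y ^ l • LocalizedModule.mk m (1 : q.asIdeal.primeCompl) -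
            x ^ k • LocalizedModule.mk n (1 : q.asIdeal.primeCompl) := by
        rw [LocalizedModule.smul'_mk, LocalizedModule.smul'_mk, sub_eq_add_neg,
          sub_eq_add_neg, ← LocalizedModule.mk_neg, LocalizedModule.mk_add_mk]
        simp
      rw [this, ← h1, ← h2, smul_comm, sub_self]
    obtain ⟨N, hN⟩ := hkill
    have h3 : y ^ (N + l) • m = x ^ k • (y ^ N • n) := by
      rw [mul_pow, mul_smul] at hN
      have := (hx.pow N) (by simpa using hN : x ^ N • (y ^ N • (y ^ l • m - x ^ k • n)) = x ^ N • 0)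
      rw [smul_sub, sub_eq_zero] at this
      rw [pow_add, mul_smul, this, smul_comm]
    obtain ⟨m', rfl⟩ := mem_pow_smul_of_regular' x y hx hy k (N + l) m ⟨_, h3⟩
    refine ⟨m', ?_⟩
    have : s - toOpenₗ A M (EGA4.openCompl A J) m' = 0 := by
      apply eq_zero_of_vanish_basicOpen x hx
      intro q hq hxq
      apply smul_localized_injective q (x ^ k) (fun h => hxq (q.2.mem_of_pow_mem k h))
      have h1 := hm q hxq
      change x ^ k • (s.1 ⟨q, hq⟩ - LocalizedModule.mk m' 1) = 0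
      rw [smul_sub, h1, LocalizedModule.smul'_mk, sub_self]
    exact (sub_eq_zero.mp this).symm





/-- (Theorem C) if `x` is `M`-regular, `q u ⊆ x M` and `M → Γ(D(q), M~)` is bijective then
`u ∈ x M`. -/
theorem mem_smul_of_bijective (q : Ideal A) (x : A) (hx : IsSMulRegular M x) (u : M)
    (hu : ∀ a ∈ q, ∃ n : M, a • u = x • n)
    (hbij : Function.Bijective (toOpenₗ A M (EGA4.openCompl A q))) :
    ∃ n : M, u = x • n := by
  choose φ hφ using hu
  have hcomp : ∀ (a : A) (ha : a ∈ q) (b : A) (hb : b ∈ q), a • φ b hb = b • φ a ha := by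
    intro a ha b hb
    apply hx
    change x • a • φ b hb = x • b • φ a ha
    rw [smul_comm x a, ← hφ b hb, smul_comm x b, ← hφ a ha, smul_comm]
  have hex : ∀ p : EGA4.openCompl A q, ∃ f ∈ q, f ∉ p.1.asIdeal := fun p =>
    (mem_openCompl_iff q p.1).mp p.2
  choose a haq hap using hex
  let s : Sec A M (EGA4.openCompl A q) :=
    ⟨fun p => LocalizedModule.mk (φ (a p) (haq p)) ⟨a p, hap p⟩, fun p => by
      refine ⟨PrimeSpectrum.basicOpen (a p), hap p,
        homOfLE (basicOpen_le_openCompl q (a p) (haq p)), φ (a p) (haq p), a p, fun p' => ?_⟩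
      refine ⟨p'.2, ?_⟩
      rw [LocalizedModule.mk_eq]
      refine ⟨1, ?_⟩
      simp only [one_smul, Submonoid.smul_def]
      exact hcomp _ _ _ _⟩
  have hs : x • s = toOpenₗ A M (EGA4.openCompl A q) u := by
    refine Subtype.ext (funext fun p => ?_)
    change x • LocalizedModule.mk (φ (a p) (haq p)) ⟨a p, hap p⟩ = LocalizedModule.mk u 1
    rw [LocalizedModule.smul'_mk, ← hφ (a p) (haq p)]
    haveI : (p.1 : PrimeSpectrum A).asIdeal.IsPrime := (p.1 : PrimeSpectrum A).2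
    exact LocalizedModule.mk_cancel (R := A) (S := (p.1 : PrimeSpectrum A).asIdeal.primeCompl) ⟨a p, hap p⟩ u
  obtain ⟨m', hm'⟩ := hbij.2 s
  refine ⟨m', ?_⟩
  apply hbij.1
  rw [map_smul, hm', hs]



theorem isPureAlong_submodule (Z : Set (PrimeSpectrum A)) (M : Type u) [AddCommGroup M] [Module A M]
    (N : Submodule A M) (h : EGA4.IsPureAlong Z M) : EGA4.IsPureAlong Z ↥N := by
  rw [isPureAlong_iff] at h ⊢
  intro J hJ n hn
  have := h J hJ (n : M) (fun f hf => by
    obtain ⟨k, hk⟩ := hn f hf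
    exact ⟨k, by simpa using congrArg Subtype.val hk⟩)
  exact Subtype.ext this

theorem isPureAlong_of_submodule_of_quotient (Z : Set (PrimeSpectrum A)) (M : Type u)
    [AddCommGroup M] [Module A M] (N : Submodule A M)
    (hN : EGA4.IsPureAlong Z ↥N) (hQ : EGA4.IsPureAlong Z (M ⧸ N)) : EGA4.IsPureAlong Z M := by
  rw [isPureAlong_iff] at hN hQ ⊢
  intro J hJ m hm
  have h1 : (Submodule.Quotient.mk m : M ⧸ N) = 0 := hQ J hJ _ (fun f hf => by
    obtain ⟨k, hk⟩ := hm f hf
    exact ⟨k, by rw [← Submodule.Quotient.mk_smul, hk, Submodule.Quotient.mk_zero]⟩)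
  rw [Submodule.Quotient.mk_eq_zero] at h1
  have h2 := hN J hJ ⟨m, h1⟩ (fun f hf => by
    obtain ⟨k, hk⟩ := hm f hf
    exact ⟨k, Subtype.ext (by simpa using hk)⟩)
  exact congrArg Subtype.val h2

end Groth.Agent.Lib.helper2.PureClosed
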