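import Mathlib
import Groth.Agent.Lib.Helper2.PureClosed

/-!
# Quasi-coherent modules on `Spec R` versus the concrete tilde model (helper2)
`gam G` = global sections as `R`-module, `phi G U` the comparison iso `Γ(tilde (gam G), U) ≅ Γ(G, U)`,
`res_eq'`: restriction `Γ(G,⊤) → Γ(G,U)` is `phi ∘ toOpenₗ`; `bijective_res_iff`, `injective_res_iff`.
-/

set_option autoImplicit false
universe u

open AlgebraicGeometry StructureSheaf PrimeSpectrum TopologicalSpace CategoryTheory Opposite

namespace Groth.Agent.Lib.helper2.Hartogs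

variable {R : CommRingCat.{u}} (G : (Spec R).Modules)

/-- global sections as an `R`-module -/
noncomputable abbrev gam : ModuleCat.{u} R := (modulesSpecToSheaf.obj G).presheaf.obj (op ⊤)

/-- the comparison map on sections over `U` -/
noncomputable abbrev phi (U : (Spec R).Opens) :
    (modulesSpecToSheaf.obj (tilde (gam G))).presheaf.obj (op U) ⟶
      (modulesSpecToSheaf.obj G).presheaf.obj (op U) :=
  (modulesSpecToSheaf.map G.fromTildeΓ).1.app (op U)

instance [G.IsQuasicoherent] (U : (Spec R).Opens) : IsIso (phi G U) := by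
  haveI : IsIso ((TopCat.Sheaf.forget _ _).map (modulesSpecToSheaf.map G.fromTildeΓ)) :=
    inferInstance
  exact NatIso.isIso_app_of_isIso
    ((TopCat.Sheaf.forget _ _).map (modulesSpecToSheaf.map G.fromTildeΓ)) (op U)

theorem res_eq (U : (Spec R).Opens) (m : gam G) :
    ((modulesSpecToSheaf.obj G).presheaf.map (homOfLE (le_top : U ≤ ⊤)).op).hom m =
      (phi G U).hom ((tilde.toOpen (gam G) U).hom m) := by
  have := Scheme.Modules.toOpen_fromTildeΓ_app G U
  exact (congrArg (fun f => f.hom m) this).symm


theorem toOpen_eq (U : (Spec R).Opens) (m : gam G) :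
    (tilde.toOpen (gam G) U).hom m = toOpenₗ R (gam G) U m := rfl

theorem res_eq' (U : (Spec R).Opens) (m : Γ(G, ⊤)) :
    G.presheaf.map (homOfLE (le_top : U ≤ ⊤)).op m =
      (phi G U).hom (toOpenₗ R (gam G) U m) := res_eq G U m

theorem bijective_res_iff [G.IsQuasicoherent] (U : (Spec R).Opens) :
    Function.Bijective (G.presheaf.map (homOfLE (le_top : U ≤ ⊤)).op) ↔
      Function.Bijective (toOpenₗ R (gam G) U) := by
  have hphi : Function.Bijective (phi G U).hom :=
    (ConcreteCategory.isIso_iff_bijective (phi G U)).mp inferInstance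
  have : (G.presheaf.map (homOfLE (le_top : U ≤ ⊤)).op : Γ(G, ⊤) → Γ(G, U)) =
      (phi G U).hom ∘ (toOpenₗ R (gam G) U) := funext (res_eq' G U)
  rw [this]
  exact Function.Bijective.of_comp_iff' hphi _

theorem injective_res_iff [G.IsQuasicoherent] (U : (Spec R).Opens) :
    Function.Injective (G.presheaf.map (homOfLE (le_top : U ≤ ⊤)).op) ↔
      Function.Injective (toOpenₗ R (gam G) U) := by
  have hphi : Function.Bijective (phi G U).hom :=
    (ConcreteCategory.isIso_iff_bijective (phi G U)).mp inferInstance
  have : (G.presheaf.map (homOfLE (le_top : U ≤ ⊤)).op : Γ(G, ⊤) → Γ(G, U)) =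
      (phi G U).hom ∘ (toOpenₗ R (gam G) U) := funext (res_eq' G U)
  rw [this]
  exact Function.Injective.of_comp_iff hphi.1 _

end Groth.Agent.Lib.helper2.Hartogs
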