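import Mathlib
import Groth.Agent.Lib.Helper2.PureClosed
import Groth.Agent.Lib.Helper26.Sk1
import Groth.Agent.Lib.Helper26.DepthLoc

/-!
# Z-pure / Z-closed modules: associated primes and depth (helper2)
EGA IV 5.10.2 / 5.10.5 in the affine Noetherian case.
* `isPureAlong_iff_ass`, `isPureAlong_iff_depth`, `isClosedAlong_iff_depth`.
-/

set_option autoImplicit false
universe u

open AlgebraicGeometry StructureSheaf PrimeSpectrum TopologicalSpace CategoryTheory Opposite
open RingTheory.Sequence LocCoh
open scoped Pointwise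
open Groth.Agent.Lib.helper26.Depth

namespace Groth.Agent.Lib.helper2.PureClosed

variable {A : Type u} [CommRing A] [IsNoetherianRing A]

/-- prime avoidance: an ideal contained in no associated prime contains a regular element. -/
lemma exists_isSMulRegular_mem (I : Ideal A) (N : Type u) [AddCommGroup N] [Module A N]
    [Module.Finite A N] (h : ∀ q ∈ associatedPrimes A N, ¬ I ≤ q) :
    ∃ x ∈ I, IsSMulRegular N x := by
  by_contra hcon
  push Not at hcon
  have hfin := associatedPrimes.finite A N
  have hsub : ((I : Ideal A) : Set A) ⊆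
      ⋃ p ∈ (↑hfin.toFinset : Set (Ideal A)), (p : Set A) := by
    intro x hx
    have hx' := hcon x hx
    have hmem : x ∈ ⋃ p ∈ associatedPrimes A N, (p : Set A) := by
      rw [biUnion_associatedPrimes_eq_compl_regular A N]
      exact hx'
    simp only [Set.mem_iUnion, SetLike.mem_coe, exists_prop] at hmem ⊢
    obtain ⟨p, hp, hxp⟩ := hmem
    exact ⟨p, hfin.mem_toFinset.mpr hp, hxp⟩
  obtain ⟨p, hp, hle⟩ := (Ideal.subset_union_prime (f := fun p : Ideal A => p) ⊤ ⊤
    (fun p hp _ _ => (hfin.mem_toFinset.mp hp).isPrime)).mp hsub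
  exact h p (hfin.mem_toFinset.mp hp) hle

omit [IsNoetherianRing A] in
lemma zeroLocus_subset_of_mem {Z : Set (PrimeSpectrum A)} (hZ : StableUnderSpecialization Z)
    (p : PrimeSpectrum A) (hp : p ∈ Z) (q : Ideal A) (hq : p.asIdeal ≤ q) :
    PrimeSpectrum.zeroLocus (q : Set A) ⊆ Z := by
  intro r hr
  have hle : p ≤ r := fun a ha => hr (hq ha)
  exact hZ ((PrimeSpectrum.le_iff_specializes p r).mp hle) hp

/-- EGA IV 5.10.2-style: `M` is `Z`-pure iff no associated prime of `M` lies in `Z`. -/
theorem isPureAlong_iff_ass {Z : Set (PrimeSpectrum A)} (hZ : StableUnderSpecialization Z)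
    (M : Type u) [AddCommGroup M] [Module A M] :
    EGA4.IsPureAlong Z M ↔
      ∀ p : PrimeSpectrum A, p.asIdeal ∈ associatedPrimes A M → p ∉ Z := by
  rw [isPureAlong_iff]
  constructor
  · intro h p hass hpZ
    obtain ⟨hprime, m, hm⟩ := (isAssociatedPrime_iff).mp hass
    have h0 : m = 0 := by
      apply h p.asIdeal (zeroLocus_subset_of_mem hZ p hpZ p.asIdeal le_rfl) m
      intro f hf
      refine ⟨1, ?_⟩
      rw [hm, Submodule.mem_colon_singleton, Submodule.mem_bot] at hf
      simpa using hf
    apply hprime.ne_top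
    rw [hm, h0, Ideal.eq_top_iff_one, Submodule.mem_colon_singleton]
    simp
  · intro h J hJ m hm
    by_contra hne
    obtain ⟨P, hP, hle⟩ := exists_le_isAssociatedPrime_of_isNoetherianRing A m hne
    have hprime : P.IsPrime := hP.isPrime
    refine h ⟨P, hprime⟩ hP (hJ ?_)
    intro f hf
    obtain ⟨N, hN⟩ := hm f hf
    have : f ^ N ∈ P := hle (by rw [Submodule.mem_colon_singleton, Submodule.mem_bot]; exact hN)
    exact hprime.mem_of_pow_mem N this

/-- `M` finite: `Z`-pure iff depth ≥ 1 at all points of `Z`. -/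
theorem isPureAlong_iff_depth {Z : Set (PrimeSpectrum A)} (hZ : StableUnderSpecialization Z)
    (M : Type u) [AddCommGroup M] [Module A M] [Module.Finite A M] :
    EGA4.IsPureAlong Z M ↔ ∀ p : PrimeSpectrum A, p ∈ Z →
      (1 : ℕ∞) ≤ LocCoh.depth (Localization.AtPrime p.asIdeal)
        (LocalizedModule p.asIdeal.primeCompl M) := by
  rw [isPureAlong_iff_ass hZ]
  constructor
  · intro h p hp
    exact one_le_depth_localization_of_not_mem_associatedPrimes M p.asIdeal
      (fun hass => h p hass hp)
  · intro h p hass hp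
    obtain ⟨_, h0⟩ := depth_localization_eq_zero_of_mem_associatedPrimes M p.asIdeal hass
    have := h p hp
    rw [h0] at this
    exact absurd this (by norm_num)

omit [IsNoetherianRing A] in
lemma quot_elementwise (M : Type u) [AddCommGroup M] [Module A M] (x y : A)
    (hy : IsSMulRegular (QuotSMulTop x M) y) :
    ∀ m : M, (∃ n : M, y • m = x • n) → ∃ n : M, m = x • n := by
  rintro m ⟨n, hn⟩
  have h0 : y • (Submodule.Quotient.mk m : QuotSMulTop x M) = y • 0 := by
    rw [smul_zero, ← Submodule.Quotient.mk_smul, Submodule.Quotient.mk_eq_zero, hn]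
    exact Submodule.smul_mem_pointwise_smul n x ⊤ Submodule.mem_top
  have h1 := hy h0
  rw [Submodule.Quotient.mk_eq_zero] at h1
  obtain ⟨n', -, hn'⟩ := (Submodule.mem_smul_pointwise_iff_exists m x ⊤).mp h1
  exact ⟨n', hn'.symm⟩

/-- EGA IV 5.10.5: `M` finite is `Z`-closed iff depth ≥ 2 at all points of `Z`. -/
theorem isClosedAlong_iff_depth {Z : Set (PrimeSpectrum A)} (hZ : StableUnderSpecialization Z)
    (M : Type u) [AddCommGroup M] [Module A M] [Module.Finite A M] :
    EGA4.IsClosedAlong Z M ↔ ∀ p : PrimeSpectrum A, p ∈ Z →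
      (2 : ℕ∞) ≤ LocCoh.depth (Localization.AtPrime p.asIdeal)
        (LocalizedModule p.asIdeal.primeCompl M) := by
  constructor
  · intro hclosed p hp
    have hpure : EGA4.IsPureAlong Z M := fun J hJ => (hclosed J hJ).1
    have hass := (isPureAlong_iff_ass hZ M).mp hpure
    have hZq : ∀ q : Ideal A, q.IsPrime → p.asIdeal ≤ q → ∀ hq : q.IsPrime,
        (⟨q, hq⟩ : PrimeSpectrum A) ∈ Z := fun q _ hle hq =>
      hZ ((PrimeSpectrum.le_iff_specializes p ⟨q, hq⟩).mp hle) hp
    obtain ⟨x, hxp, hxreg⟩ := exists_isSMulRegular_mem p.asIdeal M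
      (fun q hq hle => hass ⟨q, hq.isPrime⟩ hq (hZq q hq.isPrime hle hq.isPrime))
    obtain ⟨y, hyp, hyreg⟩ := exists_isSMulRegular_mem p.asIdeal (QuotSMulTop x M) (by
      intro q hq hle
      obtain ⟨hprime, ubar, hu⟩ := (isAssociatedPrime_iff).mp hq
      obtain ⟨u, rfl⟩ := Submodule.Quotient.mk_surjective _ ubar
      have hbij := (bijective_restrCompl_iff M q).mp
        (hclosed q (zeroLocus_subset_of_mem hZ p hp q hle))
      have hqu : ∀ a ∈ q, ∃ n : M, a • u = x • n := by
        intro a ha
        rw [hu, Submodule.mem_colon_singleton, Submodule.mem_bot,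
          ← Submodule.Quotient.mk_smul, Submodule.Quotient.mk_eq_zero] at ha
        obtain ⟨n', -, hn'⟩ := (Submodule.mem_smul_pointwise_iff_exists _ x ⊤).mp ha
        exact ⟨n', hn'.symm⟩
      obtain ⟨n, hn⟩ := mem_smul_of_bijective q x hxreg u hqu hbij
      apply hprime.ne_top
      rw [hu, Ideal.eq_top_iff_one, Submodule.mem_colon_singleton, one_smul, Submodule.mem_bot,
        Submodule.Quotient.mk_eq_zero, hn]
      exact Submodule.smul_mem_pointwise_smul n x ⊤ Submodule.mem_top)
    have hreg : IsWeaklyRegular M [x, y] := by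
      rw [isWeaklyRegular_cons_iff]
      exact ⟨hxreg, (isWeaklyRegular_singleton_iff _ y).mpr hyreg⟩
    have h1 := length_le_idealDepth (I := p.asIdeal) hreg (by
      intro r hr
      simp only [List.mem_cons, List.not_mem_nil, or_false] at hr
      rcases hr with rfl | rfl
      · exact hxp
      · exact hyp)
    have h2 := idealDepth_le_depth_localization p.asIdeal M p.asIdeal le_rfl
    exact le_trans (by simpa using h1) h2
  · intro h J hJ
    rw [bijective_restrCompl_iff]
    have h2 : (2 : ℕ∞) ≤ idealDepth J M := by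
      rw [idealDepth_eq_iInf_depth_localization]
      exact le_iInf₂ fun p hp => h p (hJ (by
        rw [PrimeSpectrum.mem_zeroLocus]; exact hp))
    by_cases hJM : J • (⊤ : Submodule A M) = ⊤
    · obtain ⟨r, hr1, hr0⟩ := Submodule.exists_sub_one_mem_and_smul_eq_zero_of_fg_of_le_smul J
        (⊤ : Submodule A M) Module.Finite.fg_top hJM.ge
      have hx : ∀ m : M, (1 - r) • m = m := fun m => by
        rw [sub_smul, one_smul, hr0 m Submodule.mem_top, sub_zero]
      have hxJ : 1 - r ∈ J := by
        have := J.neg_mem hr1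
        rwa [neg_sub] at this
      refine bijective_toOpenₗ_of_regular J (1 - r) (1 - r) hxJ hxJ ?_ ?_
      · intro a b hab
        simpa [hx] using hab
      · intro m _
        exact ⟨m, (hx m).symm⟩
    · obtain ⟨rs, hlen, hmem, hreg⟩ := exists_isWeaklyRegular_of_le hJM
        (n := 2) (by exact_mod_cast h2)
      match rs, hlen with
      | [x, y], _ =>
        rw [isWeaklyRegular_cons_iff] at hreg
        obtain ⟨hxreg, hreg'⟩ := hreg
        have hyreg := (isWeaklyRegular_singleton_iff _ y).mp hreg'
        exact bijective_toOpenₗ_of_regular J x y (hmem x (by simp)) (hmem y (by simp)) hxreg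
          (quot_elementwise M x y hyreg)

end Groth.Agent.Lib.helper2.PureClosed
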