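import Groth.Agent.Lib.Helper2.ZClosLib9
import Groth.Agent.Lib.Helper2.ModSec3

universe u
open CategoryTheory CategoryTheory.Limits AlgebraicGeometry TopologicalSpace Opposite

namespace Groth.Agent.Lib.helper2.ZClosLib

open ZClos

variable {X : Scheme.{u}}

theorem mem_im_iff (U V : X.Opens) (x : X) : x ∈ im U V ↔ x ∈ U ∧ x ∈ V := by
  change x ∈ U.ι ''ᵁ U.ι ⁻¹ᵁ V ↔ _
  rw [ι_image_preimage]; rfl

theorem mem_ClU_iff {Z : Set X} (T : Cl Z) (x : X) : x ∈ T.U ↔ x ∉ (T.1 : Set X) := Iff.rfl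

/-- L1 -/
theorem exists_Cl_of_restrict [IsLocallyNoetherian X] (Z : Set X)
    (hZ : StableUnderSpecialization Z) (U : X.Opens) (T' : Cl (X := (U : Scheme.{u})) (U.ι.base ⁻¹' Z))
    (W' : (U : Scheme.{u}).Opens) :
    ∃ T : Cl Z, im T.U (U.ι ''ᵁ W') = U.ι ''ᵁ (im T'.U W') := by
  let A : Set X := U.ι.base '' ((T'.1 : Set U) ∩ W')
  have hemb := U.ι.isOpenEmbedding.isInducing
  have hA : ∀ x' : U, U.ι.base x' ∈ closure A → x' ∈ (T'.1 : Set U) := by
    intro x' hx'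
    have h1 : x' ∈ closure ((T'.1 : Set U) ∩ W') := by
      rw [hemb.closure_eq_preimage_closure_image]; exact hx'
    exact (closure_minimal Set.inter_subset_left T'.1.isClosed) h1
  have hcl : closure A ⊆ Z := by
    have h1 : closure A ∩ ((U.ι ''ᵁ W' : X.Opens) : Set X) ⊆ Z := by
      rintro x ⟨hxA, x', hx'W, rfl⟩
      exact T'.2 (hA x' hxA)
    have h2 := TopB.closure_subset_of_stable Z hZ _ (U.ι ''ᵁ W').2 (closure A) isClosed_closure h1
    refine (closure_mono ?_).trans h2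
    rintro x ⟨x', ⟨hx'T, hx'W⟩, rfl⟩
    exact ⟨subset_closure ⟨x', ⟨hx'T, hx'W⟩, rfl⟩, x', hx'W, rfl⟩
  refine ⟨⟨⟨closure A, isClosed_closure⟩, hcl⟩, ?_⟩
  ext x
  simp only [SetLike.mem_coe]
  rw [mem_im_iff]
  constructor
  · rintro ⟨hxT, x', hx'W, rfl⟩
    refine ⟨x', (mem_im_iff _ _ _).mpr ⟨?_, hx'W⟩, rfl⟩
    intro hx'T
    exact hxT (subset_closure ⟨x', ⟨hx'T, hx'W⟩, rfl⟩)
  · rintro ⟨x', hx', rfl⟩
    obtain ⟨hx'T, hx'W⟩ := (mem_im_iff _ _ _).mp hx'
    exact ⟨fun h => hx'T (hA x' h), x', hx'W, rfl⟩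

/-- L2 -/
theorem exists_Cl_restrict (Z : Set X) (U : X.Opens) (T : Cl Z) (W₀ : X.Opens) (hW₀ : W₀ ≤ U) :
    ∃ (T' : Cl (X := (U : Scheme.{u})) (U.ι.base ⁻¹' Z)) (W' : (U : Scheme.{u}).Opens),
      U.ι ''ᵁ W' = W₀ ∧ U.ι ''ᵁ (im T'.U W') = im T.U W₀ := by
  refine ⟨⟨⟨U.ι.base ⁻¹' (T.1 : Set X), T.1.isClosed.preimage U.ι.base.hom.continuous⟩,
    fun x hx => T.2 hx⟩, U.ι ⁻¹ᵁ W₀, ?_, ?_⟩
  · rw [ι_image_preimage]; exact inf_eq_right.mpr hW₀
  · ext x
    simp only [SetLike.mem_coe]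
    rw [mem_im_iff]
    constructor
    · rintro ⟨x', hx', rfl⟩
      obtain ⟨h1, h2⟩ := (mem_im_iff _ _ _).mp hx'
      exact ⟨h1, h2⟩
    · rintro ⟨h1, h2⟩
      exact ⟨⟨x, hW₀ h2⟩, (mem_im_iff _ _ _).mpr ⟨h1, h2⟩, rfl⟩

theorem res_inj_iff_of_eq₂ (F : X.Modules) {V V' W W' : X.Opens} (eV : V = V') (eW : W = W')
    (i : W ⟶ V) (i' : W' ⟶ V') :
    Function.Injective (F.presheaf.map i.op) ↔ Function.Injective (F.presheaf.map i'.op) := by
  subst eV; subst eW; rw [Subsingleton.elim i i']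

theorem res_bij_iff_of_eq₂ (F : X.Modules) {V V' W W' : X.Opens} (eV : V = V') (eW : W = W')
    (i : W ⟶ V) (i' : W' ⟶ V') :
    Function.Bijective (F.presheaf.map i.op) ↔ Function.Bijective (F.presheaf.map i'.op) := by
  subst eV; subst eW; rw [Subsingleton.elim i i']

theorem isZPure_local [IsLocallyNoetherian X] (Z : Set X) (hZ : StableUnderSpecialization Z)
    (F : X.Modules) {ι : Type u} (V : ι → X.Opens) (hV : iSup V = ⊤) :
    IsZPure Z F ↔
      ∀ i, IsZPure ((V i).ι.base ⁻¹' Z) ((Scheme.Modules.restrictFunctor (V i).ι).obj F) := by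
  constructor
  · intro h i
    rw [isZPure_iff] at h ⊢
    intro T'
    rw [ModSec.mono_iff_injective_app]
    intro W'
    obtain ⟨T, hT⟩ := exists_Cl_of_restrict Z hZ (V i) T' W'
    have := (ModSec.mono_iff_injective_app _).mp (h T) ((V i).ι ''ᵁ W')
    rw [toDiagram_app] at this ⊢
    change Function.Injective (F.presheaf.map
      (((V i).ι.opensFunctor.map (homOfLE (im_le T'.U W')))).op)
    exact (res_inj_iff_of_eq F hT _ _).mp this
  · intro h
    rw [isZPure_iff]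
    intro T
    apply ModSec.mono_of_injective_basis _ _ (ModSec.isBasis_affine_le V hV)
    rintro W₀ ⟨-, i, hi⟩
    obtain ⟨T', W', e1, e2⟩ := exists_Cl_restrict Z (V i) T W₀ hi
    have := (ModSec.mono_iff_injective_app _).mp ((isZPure_iff _ _).mp (h i) T') W'
    rw [toDiagram_app] at this ⊢
    change Function.Injective (F.presheaf.map
      (((V i).ι.opensFunctor.map (homOfLE (im_le T'.U W')))).op) at this
    exact (res_inj_iff_of_eq₂ F e1 e2 _ _).mp this

theorem isZClosed_local [IsLocallyNoetherian X] (Z : Set X) (hZ : StableUnderSpecialization Z)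
    (F : X.Modules) {ι : Type u} (V : ι → X.Opens) (hV : iSup V = ⊤) :
    IsZClosed Z F ↔
      ∀ i, IsZClosed ((V i).ι.base ⁻¹' Z) ((Scheme.Modules.restrictFunctor (V i).ι).obj F) := by
  constructor
  · intro h i
    rw [isZClosed_iff] at h ⊢
    intro T'
    rw [ModSec.isIso_iff_bijective_app]
    intro W'
    obtain ⟨T, hT⟩ := exists_Cl_of_restrict Z hZ (V i) T' W'
    have := (ModSec.isIso_iff_bijective_app _).mp (h T) ((V i).ι ''ᵁ W')
    rw [toDiagram_app] at this ⊢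
    change Function.Bijective (F.presheaf.map
      (((V i).ι.opensFunctor.map (homOfLE (im_le T'.U W')))).op)
    exact (res_bij_iff_of_eq F hT _ _).mp this
  · intro h
    rw [isZClosed_iff]
    intro T
    apply ModSec.isIso_of_bijective_basis _ _ (ModSec.isBasis_affine_le V hV)
    rintro W₀ ⟨-, i, hi⟩
    obtain ⟨T', W', e1, e2⟩ := exists_Cl_restrict Z (V i) T W₀ hi
    have := (ModSec.isIso_iff_bijective_app _).mp ((isZClosed_iff _ _).mp (h i) T') W'
    rw [toDiagram_app] at this ⊢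
    change Function.Bijective (F.presheaf.map
      (((V i).ι.opensFunctor.map (homOfLE (im_le T'.U W')))).op) at this
    exact (res_bij_iff_of_eq₂ F e1 e2 _ _).mp this

end Groth.Agent.Lib.helper2.ZClosLib
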