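import Mathlib
import Groth.Agent.Lib.Helper2.Hartogs1
import Groth.Agent.Lib.Helper2.PureClosed2
import Groth.Agent.Lib.Helper2.ZClosLoc
import Groth.Agent.Lib.Helper16.CohStalk
import Groth.Agent.Lib.Helper26.DepthLoc3

/-!
# Hartogs for quasi-coherent modules on an affine open (helper2)
`GG F hV` = `F` restricted to `Spec Γ(X,V)`; `secEquiv : Γ(F,V) ≃ₗ Γ(GG,⊤)`; `depth_stalk_eq`;
`bijective_res_of_depth`: depth ≥ 2 on `V ∖ W` ⇒ `Γ(F,V) → Γ(F,W)` bijective.
-/

set_option autoImplicit false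
universe u

open AlgebraicGeometry StructureSheaf PrimeSpectrum TopologicalSpace CategoryTheory Opposite
open Groth.Agent.Lib.helper7 Groth.Agent.Lib.helper16.CohStalk Groth.Agent.Lib.helper26.Depth

namespace Groth.Agent.Lib.helper2.Hartogs

variable {X : Scheme.{u}} (F : X.Modules) {V : X.Opens} (hV : IsAffineOpen V)

noncomputable abbrev GG : (Spec Γ(X, V)).Modules := F.restrict hV.fromSpec

instance [F.IsQuasicoherent] : (GG F hV).IsQuasicoherent := by
  unfold GG; infer_instance

/-- `Γ(F,V) ≃ Γ(G,⊤)` as `Γ(X,V)`-modules -/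
noncomputable def secEquiv : Γ(F, V) ≃ₗ[Γ(X, V)] gam (GG F hV) where
  toFun m := F.presheaf.map (homOfLE (image_top_eq hV).le).op m
  map_add' a b := map_add _ a b
  map_smul' r m := by
    have h1 := Scheme.Modules.map_smul F (homOfLE (image_top_eq hV).le) r m
    have h2 := smul_eq hV F ⊤ r (F.presheaf.map (homOfLE (image_top_eq hV).le).op m)
    exact h1.trans h2.symm
  invFun m' := F.presheaf.map (homOfLE (image_top_eq hV).ge).op
    (show Γ(F, hV.fromSpec ''ᵁ ⊤) from m')
  left_inv m := by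
    change F.presheaf.map _ (F.presheaf.map _ m) = m
    rw [map_map, map_self]
  right_inv m' := by
    change F.presheaf.map _ (F.presheaf.map _ _) = _
    rw [map_map, map_self]


theorem finite_gam (hfin : Module.Finite Γ(X, V) Γ(F, V)) :
    Module.Finite Γ(X, V) (gam (GG F hV)) :=
  Module.Finite.equiv (secEquiv F hV)

theorem depth_stalk_eq [F.IsQuasicoherent] [IsNoetherianRing Γ(X, V)]
    (hfin : Module.Finite Γ(X, V) Γ(F, V)) (x : X) (hx : x ∈ V) :
    LocCoh.depth (X.presheaf.stalk x) (F.presheaf.stalk x) =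
      LocCoh.depth (Localization.AtPrime (hV.primeIdealOf ⟨x, hx⟩).asIdeal)
        (LocalizedModule (hV.primeIdealOf ⟨x, hx⟩).asIdeal.primeCompl (gam (GG F hV))) := by
  letI := TopCat.Presheaf.algebra_section_stalk X.presheaf (⟨x, hx⟩ : V)
  letI := modStalk F x hx
  haveI := isScalarTower_stalk F x hx
  haveI : IsLocalization.AtPrime (X.presheaf.stalk x) (hV.primeIdealOf ⟨x, hx⟩).asIdeal :=
    hV.isLocalization_stalk ⟨x, hx⟩
  haveI := isLocalizedModule_stalk F hV x hx
  haveI := finite_gam F hV hfin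
  haveI : IsLocalizedModule (hV.primeIdealOf ⟨x, hx⟩).asIdeal.primeCompl
      ((germLin F x hx) ∘ₗ (secEquiv F hV).symm.toLinearMap) :=
    IsLocalizedModule.of_linearEquiv_right _ _ _
  exact depth_eq_of_isLocalizedModule (hV.primeIdealOf ⟨x, hx⟩).asIdeal (gam (GG F hV))
    (X.presheaf.stalk x) (F.presheaf.stalk x)
    ((germLin F x hx) ∘ₗ (secEquiv F hV).symm.toLinearMap)

theorem mem_range_fromSpec (q : Spec Γ(X, V)) : hV.fromSpec q ∈ V := by
  have : hV.fromSpec q ∈ Set.range hV.fromSpec := ⟨q, rfl⟩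
  rw [hV.range_fromSpec] at this
  exact this

theorem primeIdealOf_fromSpec (q : Spec Γ(X, V)) :
    hV.primeIdealOf ⟨hV.fromSpec q, mem_range_fromSpec hV q⟩ = q := by
  apply hV.fromSpec.isOpenEmbedding.injective
  exact hV.fromSpec_primeIdealOf ⟨hV.fromSpec q, mem_range_fromSpec hV q⟩

/-- every open of `Spec A` is the complement of a zero locus -/
theorem openCompl_vanishingIdeal {A : Type u} [CommRing A] (W' : (Spec (CommRingCat.of A)).Opens) :
    EGA4.openCompl A (PrimeSpectrum.vanishingIdeal ((W'.carrier : Set (PrimeSpectrum A))ᶜ)) = W' := by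
  apply TopologicalSpace.Opens.ext
  change (PrimeSpectrum.zeroLocus ((PrimeSpectrum.vanishingIdeal ((W'.carrier : Set (PrimeSpectrum A))ᶜ) : Ideal A) : Set A))ᶜ = (W'.carrier : Set (PrimeSpectrum A))
  rw [PrimeSpectrum.zeroLocus_vanishingIdeal_eq_closure]
  have hc : IsClosed ((W'.carrier : Set (PrimeSpectrum A))ᶜ) := W'.2.isClosed_compl
  exact (congrArg compl hc.closure_eq).trans (compl_compl _)

include hV in
/-- **Hartogs on an affine open**, hypothesis on localizations of `Γ(GG,⊤)`. -/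
theorem bijective_res_of_depth' [F.IsQuasicoherent] [IsNoetherianRing Γ(X, V)]
    (hfin : Module.Finite Γ(X, V) Γ(F, V)) (W : X.Opens) (hW : W ≤ V)
    (hdepth : ∀ q : PrimeSpectrum Γ(X, V), hV.fromSpec q ∉ W →
      (2 : ℕ∞) ≤ LocCoh.depth (Localization.AtPrime q.asIdeal)
        (LocalizedModule q.asIdeal.primeCompl (gam (GG F hV)))) :
    Function.Bijective (F.presheaf.map (homOfLE hW).op) := by
  let W' : (Spec Γ(X, V)).Opens := hV.fromSpec ⁻¹ᵁ W
  let J : Ideal Γ(X, V) := PrimeSpectrum.vanishingIdeal ((W'.carrier : Set (PrimeSpectrum Γ(X, V)))ᶜ)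
  have hJW : EGA4.openCompl Γ(X, V) J = W' := openCompl_vanishingIdeal W'
  haveI := finite_gam F hV hfin
  have hZ : StableUnderSpecialization (PrimeSpectrum.zeroLocus (J : Set Γ(X, V))) :=
    (PrimeSpectrum.isClosed_zeroLocus _).stableUnderSpecialization
  have hclosed : EGA4.IsClosedAlong (PrimeSpectrum.zeroLocus (J : Set Γ(X, V)))
      (gam (GG F hV)) := by
    rw [PureClosed.isClosedAlong_iff_depth hZ]
    intro q hq
    have hqW : q ∉ W' := by
      intro h
      have h2 : q ∈ EGA4.openCompl Γ(X, V) J := by rw [hJW]; exact h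
      exact h2 hq
    exact hdepth q hqW
  have h1 := (PureClosed.bijective_restrCompl_iff (gam (GG F hV)) J).mp (hclosed J le_rfl)
  rw [hJW] at h1
  have h2 := (bijective_res_iff (GG F hV) W').mpr h1
  have e1 : hV.fromSpec ''ᵁ ⊤ = V := image_top_eq hV
  have e2 : hV.fromSpec ''ᵁ W' = W := by
    rw [Scheme.Hom.image_preimage_eq_opensRange_inf, hV.opensRange_fromSpec]
    exact inf_eq_right.mpr hW
  exact (ZClosLib.res_bij_iff_of_eq₂ F e1 e2
    (homOfLE (Scheme.Hom.image_mono hV.fromSpec le_top)) (homOfLE hW)).mp h2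

include hV in
/-- **Hartogs on an affine open**: if `F` has depth `≥ 2` at all points of `V ∖ W`, then
`Γ(F,V) → Γ(F,W)` is bijective. -/
theorem bijective_res_of_depth [F.IsQuasicoherent] [IsNoetherianRing Γ(X, V)]
    (hfin : Module.Finite Γ(X, V) Γ(F, V)) (W : X.Opens) (hW : W ≤ V)
    (hdepth : ∀ x : X, x ∈ V → x ∉ W →
      (2 : ℕ∞) ≤ LocCoh.depth (X.presheaf.stalk x) (F.presheaf.stalk x)) :
    Function.Bijective (F.presheaf.map (homOfLE hW).op) := by
  refine bijective_res_of_depth' F hV hfin W hW (fun q hqW => ?_)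
  have := hdepth (hV.fromSpec q) (mem_range_fromSpec hV q) hqW
  rw [depth_stalk_eq F hV hfin _ (mem_range_fromSpec hV q)] at this
  have hq' := primeIdealOf_fromSpec hV q
  rw [hq'] at this
  exact this

end Groth.Agent.Lib.helper2.Hartogs
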