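import Mathlib
import Groth.Agent.Lib.Helper2.SpreadOut
import Groth.Agent.Lib.Helper26.DepthLoc3
import Groth.Agent.Lib.Helper26.SuppLoc

/-!
# Spreading out depth along a closed subset (helper2)
`exists_isWeaklyRegular_localization`, `exists_basicOpen_depth_ge` (AL), `depth_ge_of_isWeaklyRegular`.
-/

set_option autoImplicit false
universe u

open RingTheory.Sequence LocCoh
open scoped Pointwise
open Groth.Agent.Lib.helper26.Depth Groth.Agent.Lib.helper26

namespace Groth.Agent.Lib.helper2.SpreadOut

variable {A : Type u} [CommRing A] [IsNoetherianRing A]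

/-- any sequence is weakly regular on a subsingleton module -/
lemma isWeaklyRegular_of_subsingleton {B : Type u} [CommRing B] (xs : List B) :
    ∀ (N : Type u) [AddCommGroup N] [Module B N] [Subsingleton N], IsWeaklyRegular N xs := by
  induction xs with
  | nil => intro N _ _ _; exact IsWeaklyRegular.nil _ _
  | cons x xs ih =>
    intro N _ _ _
    rw [isWeaklyRegular_cons_iff]
    refine ⟨fun a b _ => Subsingleton.elim a b, ?_⟩
    haveI : Subsingleton (QuotSMulTop x N) := Quot.Subsingleton
    exact ih _

/-- depth along `V(I)` at `p` at least `n` gives a sequence in `I` weakly regular on `M_p` -/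
theorem exists_isWeaklyRegular_localization (I : Ideal A) (p : Ideal A) [p.IsPrime]
    (M : Type u) [AddCommGroup M] [Module A M] [Module.Finite A M] (n : ℕ)
    (h : ∀ (q : Ideal A) [q.IsPrime], I ≤ q → q ≤ p →
      (n : ℕ∞) ≤ depth (Localization.AtPrime q) (LocalizedModule q.primeCompl M)) :
    ∃ xs : List A, xs.length = n ∧ (∀ a ∈ xs, a ∈ I) ∧
      IsWeaklyRegular (LocalizedModule p.primeCompl M)
        (xs.map (algebraMap A (Localization.AtPrime p))) := by
  haveI : Module.Finite (Localization.AtPrime p) (LocalizedModule p.primeCompl M) :=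
    Module.Finite.of_isLocalizedModule p.primeCompl (LocalizedModule.mkLinearMap _ _)
  haveI : IsNoetherianRing (Localization.AtPrime p) :=
    IsLocalization.isNoetherianRing p.primeCompl _ inferInstance
  set I' : Ideal (Localization.AtPrime p) := I.map (algebraMap A (Localization.AtPrime p))
  have h2 : (n : ℕ∞) ≤ idealDepth I' (LocalizedModule p.primeCompl M) := by
    rw [idealDepth_eq_iInf_depth_localization]
    refine le_iInf₂ fun q' hq' => ?_
    rw [depth_localization_localization p M q'.asIdeal]
    apply h
    · exact Ideal.map_le_iff_le_comap.mp hq'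
    · exact SuppLoc.comap_le p q'
  by_cases hIM : I' • (⊤ : Submodule (Localization.AtPrime p) (LocalizedModule p.primeCompl M)) = ⊤
  · by_cases hIp : I ≤ p
    · -- Nakayama: `M_p = 0`
      have hsub : Subsingleton (LocalizedModule p.primeCompl M) := by
        have hle : I' ≤ (IsLocalRing.maximalIdeal (Localization.AtPrime p)) := by
          rw [Ideal.map_le_iff_le_comap]
          intro a ha
          exact (IsLocalization.AtPrime.to_map_mem_maximal_iff _ p a).mpr (hIp ha)
        have htop : (⊤ : Submodule (Localization.AtPrime p) (LocalizedModule p.primeCompl M)) ≤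
            (IsLocalRing.maximalIdeal (Localization.AtPrime p)) • ⊤ :=
          hIM.ge.trans (Submodule.smul_mono_left hle)
        by_contra hnt
        rw [not_subsingleton_iff_nontrivial] at hnt
        exact maximalIdeal_smul_top_ne_top (LocalizedModule p.primeCompl M) (eq_top_iff.mpr htop)
      exact ⟨List.replicate n 0, List.length_replicate, fun a ha => by
        rw [List.eq_of_mem_replicate ha]; exact I.zero_mem, isWeaklyRegular_of_subsingleton _ _⟩
    · -- `I ⊄ p`: no prime to test; use an element of `I` outside `p`, a unit on `M_p`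
      obtain ⟨a, haI, hap⟩ := SetLike.not_le_iff_exists.mp hIp
      refine ⟨List.replicate n a, List.length_replicate, fun b hb => by
        rw [List.eq_of_mem_replicate hb]; exact haI, ?_⟩
      have hu : IsUnit (algebraMap A (Localization.AtPrime p) a) :=
        IsLocalization.map_units _ (⟨a, hap⟩ : p.primeCompl)
      rw [List.map_replicate]
      have key : ∀ (k : ℕ) (N : Type u) [AddCommGroup N] [Module (Localization.AtPrime p) N],
          IsWeaklyRegular N (List.replicate k (algebraMap A (Localization.AtPrime p) a)) := by
        intro k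
        induction k with
        | zero => intro N _ _; exact IsWeaklyRegular.nil _ _
        | succ k ih =>
          intro N _ _
          rw [List.replicate_succ, isWeaklyRegular_cons_iff]
          exact ⟨hu.isSMulRegular N, ih _⟩
      exact key n _
  · obtain ⟨rs', hlen', hmem', hreg'⟩ := exists_isWeaklyRegular_of_le hIM h2
    obtain ⟨rs, hlen, hmem, hall⟩ := exists_lift_list p I rs' hmem'
    exact ⟨rs, hlen.trans hlen', hmem, isWeaklyRegular_of_forall₂_unit hall _ hreg'⟩

/-- **(AL)** depth `≥ n` at the generizations of `p` in `V(I)` spreads to `V(I) ∩ D(g)`. -/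
theorem exists_basicOpen_depth_ge (I : Ideal A) (p : Ideal A) [p.IsPrime]
    (M : Type u) [AddCommGroup M] [Module A M] [Module.Finite A M] (n : ℕ)
    (h : ∀ (q : Ideal A) [q.IsPrime], I ≤ q → q ≤ p →
      (n : ℕ∞) ≤ depth (Localization.AtPrime q) (LocalizedModule q.primeCompl M)) :
    ∃ g : A, g ∉ p ∧ ∃ xs : List A, xs.length = n ∧ (∀ a ∈ xs, a ∈ I) ∧
      ∀ (q : Ideal A) [q.IsPrime], g ∉ q →
        IsWeaklyRegular (LocalizedModule q.primeCompl M)
          (xs.map (algebraMap A (Localization.AtPrime q))) := by
  obtain ⟨xs, hlen, hmem, hreg⟩ := exists_isWeaklyRegular_localization I p M n h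
  obtain ⟨g, hgp, hg⟩ := spread_isWeaklyRegular p xs M hreg
  exact ⟨g, hgp, xs, hlen, hmem, hg⟩

omit [IsNoetherianRing A] in
theorem depth_ge_of_isWeaklyRegular (I : Ideal A) (q : Ideal A) [q.IsPrime] (hIq : I ≤ q)
    (M : Type u) [AddCommGroup M] [Module A M] (xs : List A) (hmem : ∀ a ∈ xs, a ∈ I)
    (hreg : IsWeaklyRegular (LocalizedModule q.primeCompl M)
      (xs.map (algebraMap A (Localization.AtPrime q)))) :
    (xs.length : ℕ∞) ≤ depth (Localization.AtPrime q) (LocalizedModule q.primeCompl M) := by
  have h1 := length_le_idealDepth (I := IsLocalRing.maximalIdeal (Localization.AtPrime q)) hreg (by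
    intro r hr
    obtain ⟨a, ha, rfl⟩ := List.mem_map.mp hr
    exact (IsLocalization.AtPrime.to_map_mem_maximal_iff _ q a).mpr (hIq (hmem a ha)))
  rw [List.length_map] at h1
  exact h1

end Groth.Agent.Lib.helper2.SpreadOut
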