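import Mathlib
import Groth.Agent.Lib.Helper2.SpreadOut2
import Groth.Agent.Lib.Helper2.Hartogs2

set_option autoImplicit false
universe u

open AlgebraicGeometry TopologicalSpace CategoryTheory Opposite
open Groth.Agent.Lib.helper16.CohFinite Groth.Agent.Lib.helper2.SpreadOut

namespace Groth.Agent.Lib.helper2.Hartogs

variable {X : Scheme.{u}} (F : X.Modules)

/-- the point of `X` attached to a prime of `Γ(X,V)` -/
noncomputable def ptOf {V : X.Opens} (hV : IsAffineOpen V) (q : PrimeSpectrum Γ(X, V)) : X :=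
  hV.fromSpec (q : Spec Γ(X, V))

theorem ptOf_mem {V : X.Opens} (hV : IsAffineOpen V) (q : PrimeSpectrum Γ(X, V)) :
    ptOf hV q ∈ V := mem_range_fromSpec hV q

theorem ptOf_primeIdealOf {V : X.Opens} (hV : IsAffineOpen V) (y : X) (hy : y ∈ V) :
    ptOf hV (hV.primeIdealOf ⟨y, hy⟩) = y := hV.fromSpec_primeIdealOf ⟨y, hy⟩

theorem specializes_ptOf_iff {V : X.Opens} (hV : IsAffineOpen V)
    (q p : PrimeSpectrum Γ(X, V)) :
    ptOf hV q ⤳ ptOf hV p ↔ q.asIdeal ≤ p.asIdeal :=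
  (hV.fromSpec.isOpenEmbedding.isInducing.specializes_iff).trans
    (PrimeSpectrum.le_iff_specializes q p).symm

theorem depth_stalk_ptOf [F.IsQuasicoherent] {V : X.Opens} (hV : IsAffineOpen V)
    [IsNoetherianRing Γ(X, V)] (hfin : Module.Finite Γ(X, V) Γ(F, V))
    (q : PrimeSpectrum Γ(X, V)) :
    LocCoh.depth (X.presheaf.stalk (ptOf hV q)) (F.presheaf.stalk (ptOf hV q)) =
      LocCoh.depth (Localization.AtPrime q.asIdeal)
        (LocalizedModule q.asIdeal.primeCompl (gam (GG F hV))) := by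
  unfold ptOf
  rw [depth_stalk_eq F hV hfin _ (mem_range_fromSpec hV q)]
  have hq' := primeIdealOf_fromSpec hV q
  rw [hq']

theorem continuous_ptOf {V : X.Opens} (hV : IsAffineOpen V) : Continuous (ptOf hV) :=
  hV.fromSpec.continuous

theorem vanishingIdeal_le_iff {V : X.Opens} (hV : IsAffineOpen V) (Y : Set X) (hY : IsClosed Y)
    (q : PrimeSpectrum Γ(X, V)) :
    PrimeSpectrum.vanishingIdeal ((ptOf hV) ⁻¹' Y) ≤ q.asIdeal ↔ ptOf hV q ∈ Y := by
  have hC : IsClosed ((ptOf hV) ⁻¹' Y) := hY.preimage (continuous_ptOf hV)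
  constructor
  · intro h
    have h1 : q ∈ PrimeSpectrum.zeroLocus
        ((PrimeSpectrum.vanishingIdeal ((ptOf hV) ⁻¹' Y) : Ideal Γ(X, V)) : Set Γ(X, V)) := h
    rw [PrimeSpectrum.zeroLocus_vanishingIdeal_eq_closure, hC.closure_eq] at h1
    exact h1
  · intro h
    have h1 : q ∈ PrimeSpectrum.zeroLocus
        ((PrimeSpectrum.vanishingIdeal ((ptOf hV) ⁻¹' Y) : Ideal Γ(X, V)) : Set Γ(X, V)) := by
      rw [PrimeSpectrum.zeroLocus_vanishingIdeal_eq_closure]
      exact subset_closure h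
    exact h1

theorem exists_ptOf {V : X.Opens} (hV : IsAffineOpen V) (z : X) (hz : z ∈ V) :
    ∃ q : PrimeSpectrum Γ(X, V), ptOf hV q = z :=
  ⟨hV.primeIdealOf ⟨z, hz⟩, ptOf_primeIdealOf hV z hz⟩

end Groth.Agent.Lib.helper2.Hartogs
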