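import Mathlib
import Groth.Prelude.Def_CAlg
import Groth.Agent.Lib.Helper26.DepthLoc3

set_option autoImplicit false
universe u

open LocCoh

namespace Groth.Agent.Lib.helper2.CDivAlg

variable {A : Type u} [CommRing A] [IsDomain A] {K : Type u} [Field K] [Algebra A K]
  [IsFractionRing A K]

/-- ideal of denominators of `f` -/
def denom (f : K) : Ideal A where
  carrier := {r | ∃ a : A, algebraMap A K a = algebraMap A K r * f}
  zero_mem' := ⟨0, by simp⟩
  add_mem' := by
    rintro r s ⟨a, ha⟩ ⟨b, hb⟩
    exact ⟨a + b, by rw [map_add, map_add, ha, hb, add_mul]⟩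
  smul_mem' := by
    rintro c r ⟨a, ha⟩
    exact ⟨c * a, by rw [smul_eq_mul, map_mul, map_mul, ha, mul_assoc]⟩

theorem mem_denom {f : K} {r : A} :
    r ∈ denom (A := A) f ↔ ∃ a : A, algebraMap A K a = algebraMap A K r * f := Iff.rfl

/-- `f ∈ A_q` iff the denominator ideal is not contained in `q`. -/
theorem mem_range_iff (q : Ideal A) [q.IsPrime] (B : Type u) [CommRing B] [Algebra A B]
    [Algebra B K] [IsScalarTower A B K] [IsLocalization.AtPrime B q] (f : K) :
    f ∈ (algebraMap B K).range ↔ ¬ denom (A := A) f ≤ q := by
  constructor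
  · rintro ⟨β, rfl⟩ hle
    obtain ⟨a, s, hs⟩ := IsLocalization.exists_mk'_eq q.primeCompl β
    have h1 : β * algebraMap A B s = algebraMap A B a := by
      rw [← hs, IsLocalization.mk'_spec]
    have h2 : (s : A) ∈ denom (A := A) (algebraMap B K β) := by
      refine ⟨a, ?_⟩
      rw [IsScalarTower.algebraMap_apply A B K a, ← h1, map_mul, mul_comm,
        ← IsScalarTower.algebraMap_apply A B K]
    exact s.2 (hle h2)
  · intro hle
    obtain ⟨r, hr, hrq⟩ := Set.not_subset.mp hle
    obtain ⟨a, ha⟩ := hr
    set s : q.primeCompl := ⟨r, hrq⟩ with hs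
    refine ⟨IsLocalization.mk' B a s, ?_⟩
    have hr0 : algebraMap A K r ≠ 0 := by
      intro h0
      have : r = 0 := (IsFractionRing.injective A K) (by rw [h0, map_zero])
      exact hrq (this ▸ q.zero_mem)
    have h1 : algebraMap B K (IsLocalization.mk' B a s) * algebraMap A K r
        = algebraMap A K a := by
      rw [IsScalarTower.algebraMap_apply A B K r, ← map_mul]
      have := IsLocalization.mk'_spec (M := q.primeCompl) B a s
      rw [show algebraMap A B r = algebraMap A B (s : A) from rfl, this,
        ← IsScalarTower.algebraMap_apply A B K]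
    apply mul_right_cancel₀ hr0
    rw [h1, ha, mul_comm]

/-- at a minimal prime of the denominator ideal the depth is one -/
theorem depth_eq_one [IsNoetherianRing A] (f : K) (q : Ideal A) [q.IsPrime]
    (hq : q ∈ (denom (A := A) f).minimalPrimes) :
    depth (Localization.AtPrime q) (LocalizedModule q.primeCompl A) = 1 := by
  obtain ⟨a, b, hb, hf⟩ := IsFractionRing.div_surjective (A := A) f
  have hb0 : (b : A) ≠ 0 := nonZeroDivisors.ne_zero hb
  have hbK : algebraMap A K b ≠ 0 := by
    intro h0
    exact hb0 ((IsFractionRing.injective A K) (by rw [h0, map_zero]))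
  have hden : ∀ r : A, r ∈ denom (A := A) f ↔ ∃ c : A, r * a = b * c := by
    intro r
    rw [mem_denom]
    constructor
    · rintro ⟨c, hc⟩
      refine ⟨c, ?_⟩
      apply IsFractionRing.injective A K
      rw [map_mul, map_mul, hc, ← hf]
      field_simp
    · rintro ⟨c, hc⟩
      refine ⟨c, ?_⟩
      rw [← hf]
      have := congrArg (algebraMap A K) hc
      rw [map_mul, map_mul] at this
      field_simp
      rw [this]; ring
  set N := QuotSMulTop b A with hN
  set abar : N := Submodule.Quotient.mk a with habar
  have hann : (Submodule.span A {abar}).annihilator = denom (A := A) f := by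
    ext r
    rw [Submodule.mem_annihilator_span_singleton, hden, habar, ← Submodule.Quotient.mk_smul,
      Submodule.Quotient.mk_eq_zero, Submodule.mem_smul_pointwise_iff_exists]
    constructor
    · rintro ⟨c, -, hc⟩
      exact ⟨c, by rw [smul_eq_mul, smul_eq_mul] at hc; exact hc.symm⟩
    · rintro ⟨c, hc⟩
      exact ⟨c, Submodule.mem_top, by rw [smul_eq_mul, smul_eq_mul, hc]⟩
  have hbq : b ∈ q := by
    apply hq.1.2
    rw [hden]
    exact ⟨a, rfl⟩
  have hass : q ∈ associatedPrimes A N := by
    have h1 : q ∈ (Module.annihilator A (Submodule.span A {abar})).minimalPrimes := by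
      have : Module.annihilator A (Submodule.span A {abar}) = denom (A := A) f := hann
      rw [this]; exact hq
    haveI : Module.Finite A (Submodule.span A {abar}) :=
      Module.Finite.of_fg (Submodule.fg_span_singleton abar)
    have h2 := Module.associatedPrimes.minimalPrimes_annihilator_subset_associatedPrimes A
      (Submodule.span A {abar}) h1
    exact associatedPrimes.subset_of_injective (f := (Submodule.span A {abar}).subtype)
      (Submodule.subtype_injective _) h2
  obtain ⟨_, h0⟩ := Groth.Agent.Lib.helper26.Depth.depth_localization_eq_zero_of_mem_associatedPrimes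
    N q hass
  have hreg : IsSMulRegular A b := by
    intro x y hxy
    simpa [smul_eq_mul, hb0] using hxy
  have h1 := Groth.Agent.Lib.helper26.Depth.depth_localization_quotSMulTop (p := q) (M := A)
    b hbq hreg
  rw [← h1, h0, zero_add]

end Groth.Agent.Lib.helper2.CDivAlg
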