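import Mathlib
import Groth.Prelude.Def_CDiv
import Groth.Agent.Lib.Helper2.CDivAlg
import Groth.Agent.Lib.Helper2.AffPts

set_option autoImplicit false
universe u

open AlgebraicGeometry TopologicalSpace CategoryTheory Opposite CDiv LocCoh

namespace Groth.Agent.Lib.helper2.CDivLib

variable {X : Scheme.{u}} [IsIntegral X]

/-- the local ring at `x` as a subring of the function field -/
noncomputable def Ox (x : X) : Subring X.functionField :=
  (algebraMap (X.presheaf.stalk x) X.functionField).range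

theorem mem_stalkUnits_iff (x : X) (f : KUnits X) :
    f ∈ stalkUnits X x ↔ (f : X.functionField) ∈ Ox x ∧ ((f⁻¹ : KUnits X) : X.functionField) ∈ Ox x := by
  constructor
  · rintro ⟨u, rfl⟩
    refine ⟨⟨(u : X.presheaf.stalk x), rfl⟩, ⟨((u⁻¹ : (X.presheaf.stalk x)ˣ) : X.presheaf.stalk x), ?_⟩⟩
    rw [← map_inv]
    rfl
  · rintro ⟨⟨a, ha⟩, ⟨b, hb⟩⟩
    have hinj := IsFractionRing.injective (X.presheaf.stalk x) X.functionField
    have hab : a * b = 1 := by
      apply hinj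
      rw [map_mul, ha, hb, map_one, ← Units.val_mul, mul_inv_cancel, Units.val_one]
    refine ⟨⟨a, b, hab, by rw [mul_comm]; exact hab⟩, ?_⟩
    apply Units.ext
    exact ha

theorem germOf_eq_one_iff (x : X) (f : KUnits X) : germOf X x f = 1 ↔ f ∈ stalkUnits X x :=
  QuotientGroup.eq_one_iff f

theorem germOf_eq_iff (x : X) (f g : KUnits X) :
    germOf X x f = germOf X x g ↔ f⁻¹ * g ∈ stalkUnits X x := QuotientGroup.eq

theorem exists_germOf (x : X) (d : Germ X x) : ∃ f : KUnits X, d = germOf X x f := by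
  obtain ⟨f, hf⟩ := QuotientGroup.mk_surjective d
  exact ⟨f, hf.symm⟩

theorem generic_mem (W : X.Opens) (x : X) (hx : x ∈ W) : genericPoint X ∈ W :=
  ((genericPoint_spec X).mem_open_set_iff W.isOpen).mpr ⟨x, trivial, hx⟩

theorem mem_Ox_iff (x : X) (f : X.functionField) :
    f ∈ Ox x ↔ ∃ (W : X.Opens) (hx : x ∈ W) (s : Γ(X, W)),
      X.presheaf.germ W (genericPoint X) (generic_mem W x hx) s = f := by
  constructor
  · rintro ⟨t, rfl⟩
    obtain ⟨W, hx, s, rfl⟩ := X.presheaf.exists_germ_eq t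
    refine ⟨W, hx, s, ?_⟩
    haveI : Nonempty W := ⟨⟨x, hx⟩⟩
    exact (Scheme.algebraMap_germ_eq_germToFunctionField X hx s).symm
  · rintro ⟨W, hx, s, rfl⟩
    haveI : Nonempty W := ⟨⟨x, hx⟩⟩
    exact ⟨X.presheaf.germ W x hx s, Scheme.algebraMap_germ_eq_germToFunctionField X hx s⟩

theorem isOpen_setOf_mem_Ox (f : X.functionField) : IsOpen {y : X | f ∈ Ox y} := by
  rw [isOpen_iff_forall_mem_open]
  intro y hy
  obtain ⟨W, hyW, s, hs⟩ := (mem_Ox_iff y f).mp hy
  exact ⟨W, fun z hz => (mem_Ox_iff z f).mpr ⟨W, hz, s, hs⟩, W.2, hyW⟩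

theorem Ox_mono {x x' : X} (h : x' ⤳ x) : Ox x ≤ Ox x' := by
  intro f hf
  obtain ⟨W, hxW, s, hs⟩ := (mem_Ox_iff x f).mp hf
  exact (mem_Ox_iff x' f).mpr ⟨W, h.mem_open W.2 hxW, s, hs⟩

theorem mem_Ox_genericPoint (f : X.functionField) : f ∈ Ox (genericPoint X) := by
  obtain ⟨W, hx, s, hs⟩ := X.presheaf.exists_germ_eq (x := genericPoint X) f
  exact (mem_Ox_iff _ f).mpr ⟨W, hx, s, hs⟩

theorem isOpen_setOf_mem_stalkUnits (f : KUnits X) : IsOpen {y : X | f ∈ stalkUnits X y} := by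
  have : {y : X | f ∈ stalkUnits X y} =
      {y | (f : X.functionField) ∈ Ox y} ∩ {y | ((f⁻¹ : KUnits X) : X.functionField) ∈ Ox y} := by
    ext y
    exact mem_stalkUnits_iff y f
  rw [this]
  exact (isOpen_setOf_mem_Ox _).inter (isOpen_setOf_mem_Ox _)

theorem mem_stalkUnits_genericPoint (f : KUnits X) : f ∈ stalkUnits X (genericPoint X) :=
  (mem_stalkUnits_iff _ f).mpr ⟨mem_Ox_genericPoint _, mem_Ox_genericPoint _⟩

theorem stalkUnits_mono {x x' : X} (h : x' ⤳ x) : stalkUnits X x ≤ stalkUnits X x' := by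
  intro f hf
  rw [mem_stalkUnits_iff] at hf ⊢
  exact ⟨Ox_mono h hf.1, Ox_mono h hf.2⟩

/-- local representation of a divisor -/
theorem exists_rep (D : Divisor X) (x : X) :
    ∃ (U : X.Opens) (f : KUnits X), x ∈ U ∧ ∀ y : X, y ∈ U → D.1 y = germOf X y f := D.2 x

theorem genericPoint_notMem_supp (D : Divisor X) : genericPoint X ∉ supp D := by
  intro h
  obtain ⟨U, f, hxU, hU⟩ := exists_rep D (genericPoint X)
  apply h
  rw [hU _ hxU, germOf_eq_one_iff]
  exact mem_stalkUnits_genericPoint f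

theorem isClosed_supp (D : Divisor X) : IsClosed (supp D) := by
  rw [← isOpen_compl_iff, isOpen_iff_forall_mem_open]
  intro y hy
  have hy1 : D.1 y = 1 := by
    by_contra h
    exact hy h
  obtain ⟨U, f, hyU, hU⟩ := exists_rep D y
  rw [hU y hyU, germOf_eq_one_iff] at hy1
  refine ⟨(U : Set X) ∩ {z | f ∈ stalkUnits X z}, ?_, U.2.inter (isOpen_setOf_mem_stalkUnits f),
    ⟨hyU, hy1⟩⟩
  rintro z ⟨hzU, hz⟩ hzs
  apply hzs
  rw [hU z hzU, germOf_eq_one_iff]
  exact hz

theorem supp_div_eq (f : KUnits X) : supp (div f) = {y | f ∉ stalkUnits X y} := by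
  ext y
  show germOf X y f ≠ 1 ↔ _
  rw [Ne, germOf_eq_one_iff]
  rfl

end Groth.Agent.Lib.helper2.CDivLib
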