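import Mathlib

set_option autoImplicit false
universe u

open AlgebraicGeometry TopologicalSpace CategoryTheory Opposite Topology

namespace Groth.Agent.Lib.helper2.CDivLib

/-- a closed subset of a Noetherian quasi-sober space all of whose points are closed is finite -/
theorem finite_of_closed_points {T : Type u} [TopologicalSpace T] [NoetherianSpace T] [QuasiSober T]
    (Z : Set T) (hZ : IsClosed Z) (hpt : ∀ z ∈ Z, IsClosed ({z} : Set T)) : Z.Finite := by
  obtain ⟨S, hSf, hSc, hSi, hSU⟩ := NoetherianSpace.exists_finite_set_isClosed_irreducible hZ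
  rw [hSU]
  apply Set.Finite.sUnion hSf
  intro t ht
  obtain ⟨c, hc⟩ := QuasiSober.sober (hSi t ht) (hSc t ht)
  have hcZ : c ∈ Z := by
    rw [hSU]
    exact ⟨t, ht, hc.mem⟩
  have : t = {c} := by
    rw [← hc.def, (hpt c hcZ).closure_eq]
  rw [this]
  exact Set.finite_singleton c

variable {X : Scheme.{u}}

/-- in dimension `≤ 1` every non-generic point is closed -/
theorem isClosed_singleton_of_dim_le_one [IsIntegral X] (hdim : topologicalKrullDim X ≤ 1)
    (x : X) (hx : x ≠ genericPoint X) : IsClosed ({x} : Set X) := by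
  have h1 := Order.krullDim_le_one_iff.mp hdim
  let Zx : IrreducibleCloseds X := ⟨closure {x}, isIrreducible_singleton.closure, isClosed_closure⟩
  have hnotmax : ¬ IsMax Zx := by
    intro hmax
    let top' : IrreducibleCloseds X := ⟨Set.univ, IrreducibleSpace.isIrreducible_univ X, isClosed_univ⟩
    have hle : Zx ≤ top' := fun y _ => Set.mem_univ y
    have := hmax hle
    have huniv : (Set.univ : Set X) ⊆ closure {x} := this
    have hgen : IsGenericPoint x (Set.univ : Set X) := by
      rw [isGenericPoint_def]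
      exact Set.eq_univ_of_univ_subset huniv
    exact hx ((genericPoint_spec X).eq hgen).symm
  have hmin : IsMin Zx := (h1 Zx).resolve_right hnotmax
  rw [← closure_eq_iff_isClosed]
  apply Set.Subset.antisymm _ subset_closure
  intro y hy
  let Zy : IrreducibleCloseds X := ⟨closure {y}, isIrreducible_singleton.closure, isClosed_closure⟩
  have hle : Zy ≤ Zx := by
    show closure {y} ⊆ closure {x}
    exact closure_minimal (Set.singleton_subset_iff.mpr hy) isClosed_closure
  have hge : Zx ≤ Zy := hmin hle
  have hxy : x ∈ closure ({y} : Set X) := hge (subset_closure rfl)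
  have h1 : x ⤳ y := specializes_iff_mem_closure.mpr hy
  have h2 : y ⤳ x := specializes_iff_mem_closure.mpr hxy
  exact ((h1.antisymm h2).eq).symm

/-- isolating a point in a closed set missing the generic point, dimension `≤ 1`. -/
theorem exists_open_inter_eq_singleton [IsIntegral X] [IsLocallyNoetherian X]
    (hdim : topologicalKrullDim X ≤ 1) (Z : Set X) (hZ : IsClosed Z) (hgen : genericPoint X ∉ Z)
    (x : X) (hx : x ∈ Z) : ∃ W : X.Opens, x ∈ W ∧ ∀ y : X, y ∈ W → y ∈ Z → y = x := by
  have hcl : ∀ z ∈ Z, IsClosed ({z} : Set X) := fun z hz =>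
    isClosed_singleton_of_dim_le_one hdim z (fun h => hgen (h ▸ hz))
  obtain ⟨U, hU, hxU, -⟩ := exists_isAffineOpen_mem_and_subset (x := x) (U := ⊤) trivial
  haveI : IsNoetherianRing Γ(X, U) := IsLocallyNoetherian.component_noetherian ⟨U, hU⟩
  haveI : NoetherianSpace U := noetherianSpace_of_isAffineOpen U hU
  haveI : QuasiSober U := U.isOpenEmbedding.quasiSober
  let Z' : Set U := Subtype.val ⁻¹' Z
  have hZ' : IsClosed Z' := hZ.preimage continuous_subtype_val
  have hfin : Z'.Finite := by
    apply finite_of_closed_points Z' hZ'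
    intro z hz
    have : ({z} : Set U) = Subtype.val ⁻¹' ({z.1} : Set X) := by
      ext w
      simp only [Set.mem_singleton_iff, Set.mem_preimage]
      exact ⟨fun h => h ▸ rfl, fun h => Subtype.ext h⟩
    rw [this]
    exact (hcl z.1 hz).preimage continuous_subtype_val
  let B : Set X := Subtype.val '' (Z' \ {⟨x, hxU⟩})
  have hBfin : B.Finite := (hfin.subset Set.sdiff_subset).image _
  have hBcl : IsClosed B := by
    have : B = ⋃ b ∈ B, ({b} : Set X) := by simp
    rw [this]
    apply hBfin.isClosed_biUnion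
    rintro b ⟨z, hz, rfl⟩
    exact hcl z hz.1
  refine ⟨U ⊓ ⟨Bᶜ, hBcl.isOpen_compl⟩, ⟨hxU, ?_⟩, ?_⟩
  · rintro ⟨z, hz, hzx⟩
    exact hz.2 (Subtype.ext hzx)
  · rintro y ⟨hyU, hyB⟩ hyZ
    by_contra hne
    apply hyB
    exact ⟨⟨y, hyU⟩, ⟨hyZ, fun h => hne (congrArg Subtype.val h)⟩, rfl⟩

end Groth.Agent.Lib.helper2.CDivLib
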