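import Mathlib
import Groth.Agent.Lib.Helper2.CDivLib1
import Groth.Agent.Lib.Helper2.CDivLib2

set_option autoImplicit false
universe u

open AlgebraicGeometry TopologicalSpace CategoryTheory Opposite CDiv

namespace Groth.Agent.Lib.helper2.CDivLib

variable {X : Scheme.{u}} [IsIntegral X]

/-- S2883 -/
theorem supp_closed_discrete [IsLocallyNoetherian X] (hdim : topologicalKrullDim X ≤ 1)
    (D : Divisor X) : IsClosed (supp D) ∧ DiscreteTopology ↥(supp D) := by
  refine ⟨isClosed_supp D, ?_⟩
  rw [discreteTopology_iff_isOpen_singleton]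
  intro s
  obtain ⟨W, hsW, hW⟩ := exists_open_inter_eq_singleton hdim (supp D) (isClosed_supp D)
    (genericPoint_notMem_supp D) s.1 s.2
  have : ({s} : Set ↥(supp D)) = Subtype.val ⁻¹' (W : Set X) := by
    ext t
    simp only [Set.mem_singleton_iff, Set.mem_preimage]
    constructor
    · rintro rfl; exact hsW
    · intro ht; exact Subtype.ext (hW t.1 ht t.2)
  rw [this]
  exact W.2.preimage continuous_subtype_val

theorem germOf_one (x : X) : germOf X x 1 = 1 := rfl

open Classical in
/-- construction of a divisor from germs on a closed set of closed points -/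
theorem exists_divisor [IsLocallyNoetherian X] (hdim : topologicalKrullDim X ≤ 1)
    (E : Set X) (hE : IsClosed E) (hgen : genericPoint X ∉ E) (d : ∀ x : X, Germ X x) :
    ∃ D : Divisor X, (∀ x ∈ E, D.1 x = d x) ∧ (∀ x, x ∉ E → D.1 x = 1) := by
  refine ⟨⟨fun x => if x ∈ E then d x else 1, ?_⟩, ?_, ?_⟩
  · intro x
    by_cases hx : x ∈ E
    · obtain ⟨f, hf⟩ := exists_germOf x (d x)
      have hZ : IsClosed (E ∪ supp (div f)) := hE.union (isClosed_supp _)
      have hgenZ : genericPoint X ∉ E ∪ supp (div f) := by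
        rintro (h | h)
        · exact hgen h
        · exact genericPoint_notMem_supp _ h
      obtain ⟨W, hxW, hW⟩ := exists_open_inter_eq_singleton hdim _ hZ hgenZ x (Or.inl hx)
      refine ⟨W, f, hxW, ?_⟩
      intro y hy
      by_cases hyx : y = x
      · subst hyx
        simp only [hx, if_true]
        exact hf
      · have hyZ : y ∉ E ∪ supp (div f) := fun h => hyx (hW y hy h)
        have hyE : y ∉ E := fun h => hyZ (Or.inl h)
        have hyS : y ∉ supp (div f) := fun h => hyZ (Or.inr h)
        simp only [hyE, if_false]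
        by_contra hne
        exact hyS (fun h => hne h.symm)
    · refine ⟨⟨Eᶜ, hE.isOpen_compl⟩, 1, hx, ?_⟩
      intro y hy
      have hyE : y ∉ E := hy
      simp only [hyE, if_false]
      rfl
  · intro x hx
    simp only [hx, if_true]
  · intro x hx
    simp only [hx, if_false]

theorem divisor_ext {D D' : Divisor X} (h : ∀ x, D.1 x = D'.1 x) : D = D' :=
  Subtype.ext (funext h)

theorem genericPoint_notMem_of_dim_one (E : Set X)
    (hE1 : ∀ x ∈ E, ringKrullDim (X.presheaf.stalk x) = 1) : genericPoint X ∉ E := by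
  intro h
  have h1 := hE1 _ h
  have h0 : ringKrullDim (X.presheaf.stalk (genericPoint X)) = 0 := by
    have : IsField (X.presheaf.stalk (genericPoint X)) :=
      (inferInstance : Field X.functionField).toIsField
    exact ringKrullDim_eq_zero_of_isField this
  rw [h0] at h1
  exact zero_ne_one h1

/-- S2901 -/
theorem existsUnique_divisor [IsLocallyNoetherian X] (hdim : topologicalKrullDim X ≤ 1)
    (E : Set X) (hE : IsClosed E) (hgen : genericPoint X ∉ E) (d : ∀ x : X, Germ X x) :
    ∃! D : Divisor X, supp D ⊆ E ∧ ∀ x ∈ E, D.1 x = d x := by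
  obtain ⟨D, hD1, hD2⟩ := exists_divisor hdim E hE hgen d
  refine ⟨D, ⟨?_, hD1⟩, ?_⟩
  · intro x hx
    by_contra hxE
    exact hx (hD2 x hxE)
  · rintro D' ⟨hs, hv⟩
    apply divisor_ext
    intro x
    by_cases hx : x ∈ E
    · rw [hv x hx, hD1 x hx]
    · rw [hD2 x hx]
      by_contra hne
      exact hx (hs hne)

/-- effective at a point where the germ is that of an element of the local ring -/
theorem isEffectiveAt_of_eq (D : Divisor X) (x : X) (a : X.presheaf.stalk x)
    (ha : algebraMap (X.presheaf.stalk x) X.functionField a ≠ 0)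
    (h : D.1 x = germOf X x (Units.mk0 _ ha)) : IsEffectiveAt D x := ⟨a, ha, h⟩

theorem isEffectiveAt_of_eq_one (D : Divisor X) (x : X) (h : D.1 x = 1) : IsEffectiveAt D x := by
  have h1 : algebraMap (X.presheaf.stalk x) X.functionField 1 ≠ 0 := by
    rw [map_one]; exact one_ne_zero
  refine ⟨1, h1, ?_⟩
  rw [h]
  have : Units.mk0 _ h1 = (1 : KUnits X) := by
    apply Units.ext
    simp
  rw [this]
  rfl

/-- every germ is a quotient of germs of nonzero local functions -/
theorem exists_frac (x : X) (f : KUnits X) :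
    ∃ (a b : X.presheaf.stalk x) (ha : algebraMap (X.presheaf.stalk x) X.functionField a ≠ 0)
      (hb : algebraMap (X.presheaf.stalk x) X.functionField b ≠ 0),
      f = Units.mk0 _ ha * (Units.mk0 _ hb)⁻¹ := by
  obtain ⟨a, b, hb, hf⟩ := IsFractionRing.div_surjective (A := X.presheaf.stalk x)
    (f : X.functionField)
  have hinj := IsFractionRing.injective (X.presheaf.stalk x) X.functionField
  have hb0 : algebraMap (X.presheaf.stalk x) X.functionField b ≠ 0 := by
    intro h0
    exact nonZeroDivisors.ne_zero hb (hinj (by rw [h0, map_zero]))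
  have ha0 : algebraMap (X.presheaf.stalk x) X.functionField a ≠ 0 := by
    intro h0
    rw [h0, zero_div] at hf
    exact f.ne_zero hf.symm
  refine ⟨a, b, ha0, hb0, ?_⟩
  apply Units.ext
  rw [Units.val_mul, Units.val_inv_eq_inv_val, Units.val_mk0, Units.val_mk0, ← div_eq_mul_inv, hf]

/-- S2884 -/
theorem exists_effective_decomposition [IsLocallyNoetherian X]
    (hdim : topologicalKrullDim X ≤ 1) (D : Divisor X) :
    ∃ D' D'' : Divisor X, IsEffective D' ∧ IsEffective D'' ∧ D = D' * D''⁻¹ ∧
      supp D' ⊆ supp D ∧ supp D'' ⊆ supp D := by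
  classical
  choose f hf using fun x => exists_germOf x (D.1 x)
  choose a b ha hb hab using fun x => exists_frac x (f x)
  obtain ⟨D', hD'1, hD'2⟩ := exists_divisor hdim (supp D) (isClosed_supp D)
    (genericPoint_notMem_supp D) (fun x => germOf X x (Units.mk0 _ (ha x)))
  obtain ⟨D'', hD''1, hD''2⟩ := exists_divisor hdim (supp D) (isClosed_supp D)
    (genericPoint_notMem_supp D) (fun x => germOf X x (Units.mk0 _ (hb x)))
  refine ⟨D', D'', ?_, ?_, ?_, ?_, ?_⟩
  · intro x
    by_cases hx : x ∈ supp D
    · exact isEffectiveAt_of_eq D' x (a x) (ha x) (hD'1 x hx)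
    · exact isEffectiveAt_of_eq_one D' x (hD'2 x hx)
  · intro x
    by_cases hx : x ∈ supp D
    · exact isEffectiveAt_of_eq D'' x (b x) (hb x) (hD''1 x hx)
    · exact isEffectiveAt_of_eq_one D'' x (hD''2 x hx)
  · apply divisor_ext
    intro x
    show D.1 x = D'.1 x * (D''.1 x)⁻¹
    by_cases hx : x ∈ supp D
    · rw [hD'1 x hx, hD''1 x hx, hf x, hab x]
      rfl
    · have h1 : D.1 x = 1 := by
        by_contra hne
        exact hx hne
      rw [hD'2 x hx, hD''2 x hx, h1]
      exact (mul_inv_cancel (1 : Germ X x)).symm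
  · intro x hx
    by_contra hxE
    exact hx (hD'2 x hxE)
  · intro x hx
    by_contra hxE
    exact hx (hD''2 x hxE)

end Groth.Agent.Lib.helper2.CDivLib
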