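import Mathlib
import Groth.Agent.Lib.Helper2.CDivLib3

set_option autoImplicit false
universe u

open AlgebraicGeometry TopologicalSpace CategoryTheory Opposite CDiv

namespace Groth.Agent.Lib.helper2.CDivLib

variable {X : Scheme.{u}} [IsIntegral X]

/-- a non-generic point has a nonzero nonunit in its local ring -/
theorem exists_nonunit_of_ne_genericPoint (x : X) (hx : x ≠ genericPoint X) :
    ∃ a : X.presheaf.stalk x, a ≠ 0 ∧ ¬ IsUnit a := by
  have hnotmax : ¬ IsMax x := by
    intro hmax
    have h1 : x ≤ genericPoint X := Scheme.le_iff_specializes.mpr (genericPoint_specializes x)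
    have h2 : genericPoint X ≤ x := hmax h1
    have h3 : x ⤳ genericPoint X := Scheme.le_iff_specializes.mp h2
    exact hx ((h3.antisymm (genericPoint_specializes x)).eq)
  have hco : Order.coheight x ≠ 0 := by
    rw [Ne, Order.coheight_eq_zero]
    exact hnotmax
  have hdim : ringKrullDim (X.presheaf.stalk x) ≠ 0 := by
    rw [ringKrullDim_stalk_eq_coheight]
    exact_mod_cast hco
  have hnf : ¬ IsField (X.presheaf.stalk x) := fun h => hdim (ringKrullDim_eq_zero_of_isField h)
  rw [IsLocalRing.isField_iff_maximalIdeal_eq] at hnf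
  obtain ⟨a, ha, ha0⟩ := Submodule.exists_mem_ne_zero_of_ne_bot hnf
  exact ⟨a, ha0, (IsLocalRing.mem_maximalIdeal a).mp ha⟩

theorem germOf_mk0_ne_one (x : X) (a : X.presheaf.stalk x)
    (ha : algebraMap (X.presheaf.stalk x) X.functionField a ≠ 0) (hu : ¬ IsUnit a) :
    germOf X x (Units.mk0 _ ha) ≠ 1 := by
  rw [Ne, germOf_eq_one_iff]
  rintro ⟨u, hu'⟩
  apply hu
  have hinj := IsFractionRing.injective (X.presheaf.stalk x) X.functionField
  have : (u : X.presheaf.stalk x) = a := by
    apply hinj
    have := congrArg Units.val hu'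
    exact this
  rw [← this]
  exact u.isUnit

/-- S2885 -/
theorem exists_effective_supported_in_open [IsLocallyNoetherian X]
    (hdim : topologicalKrullDim X ≤ 1) (hX : ∀ x : X, ¬ IsOpen ({x} : Set X)) (U : X.Opens)
    (hU : (U : Set X).Nonempty) :
    ∃ D : Divisor X, IsEffective D ∧ D ≠ 1 ∧ supp D ⊆ (U : Set X) := by
  classical
  obtain ⟨x, hxU, hxg⟩ : ∃ x ∈ U, x ≠ genericPoint X := by
    by_contra hcon
    push Not at hcon
    apply hX (genericPoint X)
    have : ({genericPoint X} : Set X) = (U : Set X) := by
      ext y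
      constructor
      · rintro rfl
        obtain ⟨z, hz⟩ := hU
        exact generic_mem U z hz
      · intro hy
        exact hcon y hy
    rw [this]
    exact U.2
  have hcl : IsClosed ({x} : Set X) := isClosed_singleton_of_dim_le_one hdim x hxg
  obtain ⟨a, ha0, hau⟩ := exists_nonunit_of_ne_genericPoint x hxg
  have hinj := IsFractionRing.injective (X.presheaf.stalk x) X.functionField
  have haK : algebraMap (X.presheaf.stalk x) X.functionField a ≠ 0 := by
    intro h0
    exact ha0 (hinj (by rw [h0, map_zero]))
  let d : ∀ y : X, Germ X y := fun y =>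
    if h : y = x then h ▸ germOf X x (Units.mk0 _ haK) else 1
  have hdx : d x = germOf X x (Units.mk0 _ haK) := by
    simp only [d, dif_pos rfl]
  obtain ⟨D, hD1, hD2⟩ := exists_divisor hdim {x} hcl (fun h => hxg h.symm) d
  refine ⟨D, ?_, ?_, ?_⟩
  · intro y
    by_cases hy : y = x
    · subst hy
      exact isEffectiveAt_of_eq D y a haK ((hD1 y rfl).trans hdx)
    · exact isEffectiveAt_of_eq_one D y (hD2 y hy)
  · intro h1
    have : D.1 x = 1 := by rw [h1]; rfl
    rw [hD1 x rfl, hdx] at this
    exact germOf_mk0_ne_one x a haK hau this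
  · intro y hy
    by_contra hyU
    apply hy
    apply hD2
    rintro rfl
    exact hyU hxU

end Groth.Agent.Lib.helper2.CDivLib
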