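import Mathlib
import Groth.Agent.Lib.Helper2.CDivLib4

set_option autoImplicit false
universe u

open AlgebraicGeometry TopologicalSpace CategoryTheory Opposite CDiv LocCoh
open Groth.Agent.Lib.helper2.Hartogs

namespace Groth.Agent.Lib.helper2.CDivLib

section general
variable {X : Scheme.{u}}

/-- depth of the local ring at a point of an affine open, computed in the coordinate ring -/
theorem depth_stalk_eq_loc {U : X.Opens} (hU : IsAffineOpen U) [IsNoetherianRing Γ(X, U)]
    (x : X) (hx : x ∈ U) :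
    depth (X.presheaf.stalk x) (X.presheaf.stalk x) =
      depth (Localization.AtPrime (hU.primeIdealOf ⟨x, hx⟩).asIdeal)
        (LocalizedModule (hU.primeIdealOf ⟨x, hx⟩).asIdeal.primeCompl Γ(X, U)) := by
  letI : Algebra Γ(X, U) (X.presheaf.stalk x) :=
    TopCat.Presheaf.algebra_section_stalk X.presheaf (⟨x, hx⟩ : U)
  haveI : IsLocalization.AtPrime (X.presheaf.stalk x) (hU.primeIdealOf ⟨x, hx⟩).asIdeal :=
    hU.isLocalization_stalk ⟨x, hx⟩
  haveI : IsLocalizedModule (hU.primeIdealOf ⟨x, hx⟩).asIdeal.primeCompl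
      (Algebra.linearMap Γ(X, U) (X.presheaf.stalk x)) :=
    (isLocalizedModule_iff_isLocalization).mpr inferInstance
  exact Groth.Agent.Lib.helper26.Depth.depth_eq_of_isLocalizedModule
    (hU.primeIdealOf ⟨x, hx⟩).asIdeal Γ(X, U) (X.presheaf.stalk x) (X.presheaf.stalk x)
    (Algebra.linearMap Γ(X, U) (X.presheaf.stalk x))

end general

variable {X : Scheme.{u}} [IsIntegral X]

theorem mem_Ox_iff_affine {U : X.Opens} (hU : IsAffineOpen U) [Nonempty U] (x : X) (hx : x ∈ U)
    (f : X.functionField) :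
    f ∈ Ox x ↔ ¬ CDivAlg.denom (A := Γ(X, U)) f ≤ (hU.primeIdealOf ⟨x, hx⟩).asIdeal := by
  letI : Algebra Γ(X, U) (X.presheaf.stalk x) :=
    TopCat.Presheaf.algebra_section_stalk X.presheaf (⟨x, hx⟩ : U)
  haveI : IsLocalization.AtPrime (X.presheaf.stalk x) (hU.primeIdealOf ⟨x, hx⟩).asIdeal :=
    hU.isLocalization_stalk ⟨x, hx⟩
  haveI : IsScalarTower Γ(X, U) (X.presheaf.stalk x) X.functionField :=
    functionField_isScalarTower X U ⟨x, hx⟩
  haveI : IsFractionRing Γ(X, U) X.functionField :=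
    functionField_isFractionRing_of_isAffineOpen X U hU
  exact CDivAlg.mem_range_iff (hU.primeIdealOf ⟨x, hx⟩).asIdeal (X.presheaf.stalk x) f

/-- effective at `x` in terms of a representing function -/
theorem isEffectiveAt_iff (D : Divisor X) (x : X) (f : KUnits X) (h : D.1 x = germOf X x f) :
    IsEffectiveAt D x ↔ (f : X.functionField) ∈ Ox x := by
  constructor
  · rintro ⟨a, ha, hD⟩
    rw [h, germOf_eq_iff] at hD
    obtain ⟨u, hu⟩ := hD
    have h2 : (f : X.functionField) =
        algebraMap (X.presheaf.stalk x) X.functionField (a * ((u⁻¹ : (X.presheaf.stalk x)ˣ) : X.presheaf.stalk x)) := by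
      have h3 := congrArg Units.val hu
      rw [Units.val_mul, Units.val_mk0, Units.val_inv_eq_inv_val] at h3
      have h4 : algebraMap (X.presheaf.stalk x) X.functionField (u : X.presheaf.stalk x) =
          (f : X.functionField)⁻¹ * algebraMap (X.presheaf.stalk x) X.functionField a := h3
      have hf0 : (f : X.functionField) ≠ 0 := f.ne_zero
      have hu0 : algebraMap (X.presheaf.stalk x) X.functionField (u : X.presheaf.stalk x) ≠ 0 := by
        rw [h4]
        exact mul_ne_zero (inv_ne_zero hf0) ha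
      rw [map_mul]
      have h5 : algebraMap (X.presheaf.stalk x) X.functionField
          ((u⁻¹ : (X.presheaf.stalk x)ˣ) : X.presheaf.stalk x) =
          (algebraMap (X.presheaf.stalk x) X.functionField (u : X.presheaf.stalk x))⁻¹ := by
        apply eq_inv_of_mul_eq_one_left
        rw [← map_mul, Units.inv_mul, map_one]
      rw [h5, h4]
      field_simp
    exact ⟨_, h2.symm⟩
  · rintro ⟨a, ha⟩
    have ha0 : algebraMap (X.presheaf.stalk x) X.functionField a ≠ 0 := by
      rw [ha]; exact f.ne_zero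
    refine ⟨a, ha0, ?_⟩
    rw [h]
    congr 1
    apply Units.ext
    exact ha.symm

/-- an affine open neighbourhood on which `D` is given by one function -/
theorem exists_affine_rep (D : Divisor X) (x : X) :
    ∃ (U : X.Opens) (_ : IsAffineOpen U) (f : KUnits X), x ∈ U ∧
      ∀ y : X, y ∈ U → D.1 y = germOf X y f := by
  obtain ⟨W, f, hxW, hW⟩ := exists_rep D x
  obtain ⟨_, ⟨U, hU, rfl⟩, hxU, hUW⟩ :=
    X.isBasis_affineOpens.exists_subset_of_mem_open hxW W.isOpen
  exact ⟨U, hU, f, hxU, fun y hy => hW y (hUW hy)⟩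

/-- key: a point of an affine open at which `g` is not regular is a specialization of a depth one
point at which `g` is not regular either. -/
theorem exists_depth_one_generization [IsLocallyNoetherian X] {U : X.Opens} (hU : IsAffineOpen U)
    (x : X) (hx : x ∈ U) (g : X.functionField) (hg : g ∉ Ox x) :
    ∃ z : X, z ∈ U ∧ z ⤳ x ∧ g ∉ Ox z ∧
      depth (X.presheaf.stalk z) (X.presheaf.stalk z) = 1 ∧
      ∀ w : X, w ⤳ z → g ∉ Ox w → w = z := by
  haveI : Nonempty U := ⟨⟨x, hx⟩⟩
  haveI : IsNoetherianRing Γ(X, U) := IsLocallyNoetherian.component_noetherian ⟨U, hU⟩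
  haveI : IsFractionRing Γ(X, U) X.functionField :=
    functionField_isFractionRing_of_isAffineOpen X U hU
  have hle : CDivAlg.denom (A := Γ(X, U)) g ≤ (hU.primeIdealOf ⟨x, hx⟩).asIdeal := by
    by_contra h
    exact hg ((mem_Ox_iff_affine hU x hx g).mpr h)
  obtain ⟨q, hq, hqp⟩ := Ideal.exists_minimalPrimes_le hle
  haveI : q.IsPrime := hq.1.1
  let qq : PrimeSpectrum Γ(X, U) := ⟨q, inferInstance⟩
  let z := ptOf hU qq
  have hzU : z ∈ U := ptOf_mem hU qq
  have hzq : hU.primeIdealOf ⟨z, hzU⟩ = qq := primeIdealOf_fromSpec hU qq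
  have hzx : z ⤳ x := by
    have := (specializes_ptOf_iff hU qq (hU.primeIdealOf ⟨x, hx⟩)).mpr hqp
    rwa [ptOf_primeIdealOf] at this
  refine ⟨z, hzU, hzx, ?_, ?_, ?_⟩
  · rw [mem_Ox_iff_affine hU z hzU g, not_not, hzq]
    exact hq.1.2
  · rw [depth_stalk_eq_loc hU z hzU]
    have h1 := CDivAlg.depth_eq_one (A := Γ(X, U)) g q hq
    convert h1 using 2 <;> rw [hzq]
  · intro w hwz hgw
    have hwU : w ∈ U := hwz.mem_open U.2 hzU
    have h1 : CDivAlg.denom (A := Γ(X, U)) g ≤ (hU.primeIdealOf ⟨w, hwU⟩).asIdeal := by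
      by_contra h
      exact hgw ((mem_Ox_iff_affine hU w hwU g).mpr h)
    have h2 : (hU.primeIdealOf ⟨w, hwU⟩).asIdeal ≤ q := by
      have h3 : ptOf hU (hU.primeIdealOf ⟨w, hwU⟩) ⤳ ptOf hU qq := by
        rw [ptOf_primeIdealOf]; exact hwz
      exact (specializes_ptOf_iff hU _ qq).mp h3
    have h4 : q ≤ (hU.primeIdealOf ⟨w, hwU⟩).asIdeal :=
      hq.2 ⟨(hU.primeIdealOf ⟨w, hwU⟩).2, h1⟩ h2
    have h5 : hU.primeIdealOf ⟨w, hwU⟩ = qq := PrimeSpectrum.ext (le_antisymm h2 h4)
    have := ptOf_primeIdealOf hU w hwU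
    rw [h5] at this
    exact this.symm

end Groth.Agent.Lib.helper2.CDivLib
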