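import Mathlib
import Groth.Prelude.Def_MeroDiv
import Groth.Agent.Lib.Helper26.KSections
import Groth.Agent.Lib.Helper2.CDivLib5

set_option autoImplicit false
universe u

open AlgebraicGeometry TopologicalSpace CategoryTheory Opposite LocCoh Mero
open Groth.Agent.Lib.helper2.Hartogs Groth.Agent.Lib.helper26

namespace Groth.Agent.Lib.helper2.MeroLib

section Alg

variable {A : Type u} [CommRing A]

/-- the ideal `(bA : a)` -/
def quotIdeal (a b : A) : Ideal A where
  carrier := {r | ∃ c : A, r * a = b * c}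
  zero_mem' := ⟨0, by simp⟩
  add_mem' := by
    rintro r s ⟨c, hc⟩ ⟨d, hd⟩
    exact ⟨c + d, by rw [add_mul, hc, hd, mul_add]⟩
  smul_mem' := by
    rintro t r ⟨c, hc⟩
    exact ⟨t * c, by rw [smul_eq_mul, mul_assoc, hc]; ring⟩

theorem mem_quotIdeal {a b r : A} : r ∈ quotIdeal a b ↔ ∃ c : A, r * a = b * c := Iff.rfl

/-- at a minimal prime of `(bA : a)`, `b` regular, the depth is one -/
theorem depth_eq_one_of_minimalPrimes [IsNoetherianRing A] (a b : A) (hreg : IsSMulRegular A b)
    (q : Ideal A) [q.IsPrime] (hq : q ∈ (quotIdeal a b).minimalPrimes) :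
    depth (Localization.AtPrime q) (LocalizedModule q.primeCompl A) = 1 := by
  set N := QuotSMulTop b A with hN
  set abar : N := Submodule.Quotient.mk a with habar
  have hann : (Submodule.span A {abar}).annihilator = quotIdeal a b := by
    ext r
    rw [Submodule.mem_annihilator_span_singleton, mem_quotIdeal, habar, ← Submodule.Quotient.mk_smul,
      Submodule.Quotient.mk_eq_zero, Submodule.mem_smul_pointwise_iff_exists]
    constructor
    · rintro ⟨c, -, hc⟩
      exact ⟨c, by rw [smul_eq_mul, smul_eq_mul] at hc; exact hc.symm⟩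
    · rintro ⟨c, hc⟩
      exact ⟨c, Submodule.mem_top, by rw [smul_eq_mul, smul_eq_mul, hc]⟩
  have hbq : b ∈ q := by
    apply hq.1.2
    rw [mem_quotIdeal]
    exact ⟨a, rfl⟩
  have hass : q ∈ associatedPrimes A N := by
    have h1 : q ∈ (Module.annihilator A (Submodule.span A {abar})).minimalPrimes := by
      have : Module.annihilator A (Submodule.span A {abar}) = quotIdeal a b := hann
      rw [this]; exact hq
    haveI : Module.Finite A (Submodule.span A {abar}) :=
      Module.Finite.of_fg (Submodule.fg_span_singleton abar)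
    have h2 := Module.associatedPrimes.minimalPrimes_annihilator_subset_associatedPrimes A
      (Submodule.span A {abar}) h1
    exact associatedPrimes.subset_of_injective (f := (Submodule.span A {abar}).subtype)
      (Submodule.subtype_injective _) h2
  obtain ⟨_, h0⟩ := Groth.Agent.Lib.helper26.Depth.depth_localization_eq_zero_of_mem_associatedPrimes
    N q hass
  have h1 := Groth.Agent.Lib.helper26.Depth.depth_localization_quotSMulTop (p := q) (M := A)
    b hbq hreg
  rw [← h1, h0, zero_add]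

end Alg

variable {X : Scheme.{u}}

/-- divisibility of germs at a point -/
def DivAt {W : X.Opens} (a b : Γ(X, W)) (y : W) : Prop :=
  ∃ c : X.presheaf.stalk y.1, X.presheaf.germ W y.1 y.2 a = X.presheaf.germ W y.1 y.2 b * c

theorem isSMulRegular_of_mem_regSub {W : X.Opens} {b : Γ(X, W)} (hb : b ∈ regSub X W) :
    IsSMulRegular Γ(X, W) b := by
  intro r s hrs
  apply TopCat.Presheaf.section_ext X.sheaf W
  intro y hy
  have h1 := hb ⟨y, hy⟩
  have h2 : X.presheaf.germ W y hy b * X.presheaf.germ W y hy r =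
      X.presheaf.germ W y hy b * X.presheaf.germ W y hy s := by
    rw [← map_mul, ← map_mul]
    exact congrArg _ hrs
  exact (mul_cancel_left_mem_nonZeroDivisors h1).mp h2

theorem divAt_iff {W : X.Opens} (hW : IsAffineOpen W) (a b : Γ(X, W)) (y : W) :
    DivAt a b y ↔ ¬ quotIdeal a b ≤ (hW.primeIdealOf y).asIdeal := by
  letI : Algebra Γ(X, W) (X.presheaf.stalk y.1) :=
    TopCat.Presheaf.algebra_section_stalk X.presheaf y
  haveI : IsLocalization.AtPrime (X.presheaf.stalk y.1) (hW.primeIdealOf y).asIdeal :=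
    hW.isLocalization_stalk y
  have halg : ∀ r : Γ(X, W), algebraMap Γ(X, W) (X.presheaf.stalk y.1) r =
      X.presheaf.germ W y.1 y.2 r := fun r => rfl
  constructor
  · rintro ⟨c, hc⟩ hle
    obtain ⟨c0, s, hs⟩ := IsLocalization.exists_mk'_eq (hW.primeIdealOf y).asIdeal.primeCompl c
    have h1 : c * algebraMap Γ(X, W) (X.presheaf.stalk y.1) s =
        algebraMap Γ(X, W) (X.presheaf.stalk y.1) c0 := by
      rw [← hs, IsLocalization.mk'_spec]
    have h2 : algebraMap Γ(X, W) (X.presheaf.stalk y.1) (s * a) =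
        algebraMap Γ(X, W) (X.presheaf.stalk y.1) (b * c0) := by
      rw [map_mul, map_mul, ← h1, halg a, halg b, hc]
      ring
    obtain ⟨t, ht⟩ := (IsLocalization.eq_iff_exists (hW.primeIdealOf y).asIdeal.primeCompl
      (X.presheaf.stalk y.1)).mp h2
    have h3 : (t : Γ(X, W)) * s ∈ quotIdeal a b := ⟨t * c0, by rw [mul_assoc, ht]; ring⟩
    have h4 := hle h3
    rcases (hW.primeIdealOf y).2.mem_or_mem h4 with h | h
    · exact t.2 h
    · exact s.2 h
  · intro hle
    obtain ⟨r, hr, hrq⟩ := Set.not_subset.mp hle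
    obtain ⟨c, hc⟩ := hr
    have hu : IsUnit (algebraMap Γ(X, W) (X.presheaf.stalk y.1) r) :=
      IsLocalization.map_units (X.presheaf.stalk y.1)
        (⟨r, hrq⟩ : (hW.primeIdealOf y).asIdeal.primeCompl)
    obtain ⟨u, hu'⟩ := hu
    refine ⟨X.presheaf.germ W y.1 y.2 c * ((u⁻¹ : (X.presheaf.stalk y.1)ˣ) : X.presheaf.stalk y.1), ?_⟩
    have h1 := congrArg (X.presheaf.germ W y.1 y.2) hc
    rw [map_mul, map_mul] at h1
    rw [← mul_assoc, ← h1, ← halg r, ← hu']
    rw [mul_comm (u : X.presheaf.stalk y.1), mul_assoc, Units.mul_inv, mul_one]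

/-- key: failure of divisibility propagates to a depth one generization -/
theorem exists_depth_one_generization [IsLocallyNoetherian X] {W : X.Opens} (hW : IsAffineOpen W)
    (a b : Γ(X, W)) (hb : b ∈ regSub X W) (x : W) (hx : ¬ DivAt a b x) :
    ∃ z : W, z.1 ⤳ x.1 ∧ ¬ DivAt a b z ∧
      depth (X.presheaf.stalk z.1) (X.presheaf.stalk z.1) = 1 := by
  haveI : IsNoetherianRing Γ(X, W) := IsLocallyNoetherian.component_noetherian ⟨W, hW⟩
  have hle : quotIdeal a b ≤ (hW.primeIdealOf x).asIdeal := by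
    by_contra h
    exact hx ((divAt_iff hW a b x).mpr h)
  obtain ⟨q, hq, hqp⟩ := Ideal.exists_minimalPrimes_le hle
  haveI : q.IsPrime := hq.1.1
  let qq : PrimeSpectrum Γ(X, W) := ⟨q, inferInstance⟩
  let z := ptOf hW qq
  have hzW : z ∈ W := ptOf_mem hW qq
  have hzq : hW.primeIdealOf ⟨z, hzW⟩ = qq := primeIdealOf_fromSpec hW qq
  have hzx : z ⤳ x.1 := by
    have := (specializes_ptOf_iff hW qq (hW.primeIdealOf x)).mpr hqp
    rwa [ptOf_primeIdealOf] at this
  refine ⟨⟨z, hzW⟩, hzx, ?_, ?_⟩
  · rw [divAt_iff hW a b ⟨z, hzW⟩, not_not, hzq]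
    exact hq.1.2
  · rw [Groth.Agent.Lib.helper2.CDivLib.depth_stalk_eq_loc hW z hzW]
    have h1 := depth_eq_one_of_minimalPrimes a b (isSMulRegular_of_mem_regSub hb) q hq
    convert h1 using 2 <;> rw [hzq]

end Groth.Agent.Lib.helper2.MeroLib
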