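import Mathlib
import Groth.Agent.Lib.Helper2.MeroLib1

set_option autoImplicit false
universe u

open AlgebraicGeometry TopologicalSpace CategoryTheory Opposite LocCoh Mero
open Groth.Agent.Lib.helper2.Hartogs Groth.Agent.Lib.helper26

namespace Groth.Agent.Lib.helper2.MeroLib

variable {X : Scheme.{u}}

/-- `D` is represented on `W` by the fraction `a / b` -/
def IsRep (D : Divisor X) (W : X.Opens) (a b : regSub X W) : Prop :=
  ∀ y : W, ∃ q : (KStalk X y.1)ˣ, D.1 y.1 = QuotientGroup.mk q ∧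
    (q : KStalk X y.1) = LocalizedModule.mk (X.presheaf.germ W y.1 y.2 a.1) (regGerm y b)

theorem kstalk_mk_mul_mk (x : X) (a c : X.presheaf.stalk x) (b d : regStalk X x) :
    (LocalizedModule.mk a b : KStalk X x) * LocalizedModule.mk c d = LocalizedModule.mk (a * c) (b * d) :=
  LocalizedModule.mk_mul_mk

theorem kstalk_one (x : X) : (1 : KStalk X x) = LocalizedModule.mk 1 1 := by
  rw [← kstalk_algebraMap_eq_mk, map_one]

theorem IsRep.inv {D : Divisor X} {W : X.Opens} {a b : regSub X W} (h : IsRep D W a b) :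
    IsRep D⁻¹ W b a := by
  intro y
  obtain ⟨q, hq, hqv⟩ := h y
  refine ⟨q⁻¹, ?_, ?_⟩
  · show (D.1 y.1)⁻¹ = _
    rw [hq]
    rfl
  · apply Units.inv_eq_of_mul_eq_one_right
    rw [hqv, kstalk_mk_mul_mk, kstalk_one, kstalk_mk_eq_mk_iff]
    simp only [Submonoid.coe_mul, Submonoid.coe_one, one_mul, mul_one]
    exact mul_comm _ _

/-- an affine open neighbourhood on which `D` is a fraction of two regular sections -/
theorem exists_isRep (D : Divisor X) (x : X) :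
    ∃ (W : X.Opens) (_ : IsAffineOpen W) (_ : x ∈ W) (a b : regSub X W), IsRep D W a b := by
  obtain ⟨U, hxU, f, hf⟩ := D.2 x
  obtain ⟨V, hxV, i, a, b, hab⟩ := f.1.2 ⟨x, hxU⟩
  obtain ⟨V', hxV', i', a', b', hab'⟩ := (f⁻¹ : (Γ(kmod X, U))ˣ).1.2 ⟨x, hxU⟩
  obtain ⟨_, ⟨W, hW, rfl⟩, hxW, hWV⟩ :=
    X.isBasis_affineOpens.exists_subset_of_mem_open (show x ∈ ((V ⊓ V' : X.Opens) : Set X) from ⟨hxV, hxV'⟩)
      (V ⊓ V').isOpen
  have hWV1 : W ≤ V := fun y hy => (hWV hy).1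
  have hWV2 : W ≤ V' := fun y hy => (hWV hy).2
  have hWU : W ≤ U := hWV1.trans i.le
  -- values of f, f⁻¹ at points of W
  have hval : ∀ y : W, (f.1).1 ⟨y.1, hWU y.2⟩ =
      LocalizedModule.mk (X.presheaf.germ W y.1 y.2 (X.presheaf.map (homOfLE hWV1).op a))
        (regGerm y ⟨X.presheaf.map (homOfLE hWV1).op b.1, regSub_res _ b.2⟩) := by
    intro y
    have := hab ⟨y.1, hWV1 y.2⟩
    dsimp only at this
    refine Eq.trans this (mk_congr ?_ ?_)
    · rw [TopCat.Presheaf.germ_res_apply]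
    · show X.presheaf.germ V y.1 _ b.1 = X.presheaf.germ W y.1 _ _
      rw [TopCat.Presheaf.germ_res_apply]
  have hval' : ∀ y : W, ((f⁻¹ : (Γ(kmod X, U))ˣ).1).1 ⟨y.1, hWU y.2⟩ =
      LocalizedModule.mk (X.presheaf.germ W y.1 y.2 (X.presheaf.map (homOfLE hWV2).op a'))
        (regGerm y ⟨X.presheaf.map (homOfLE hWV2).op b'.1, regSub_res _ b'.2⟩) := by
    intro y
    have := hab' ⟨y.1, hWV2 y.2⟩
    dsimp only at this
    refine Eq.trans this (mk_congr ?_ ?_)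
    · rw [TopCat.Presheaf.germ_res_apply]
    · show X.presheaf.germ V' y.1 _ b'.1 = X.presheaf.germ W y.1 _ _
      rw [TopCat.Presheaf.germ_res_apply]
  have hareg : X.presheaf.map (homOfLE hWV1).op a ∈ regSub X W := by
    intro y
    have h1 : (f.1).1 ⟨y.1, hWU y.2⟩ * ((f⁻¹ : (Γ(kmod X, U))ˣ).1).1 ⟨y.1, hWU y.2⟩ = 1 := by
      have := congrArg (fun g : Γ(kmod X, U) => g.1 ⟨y.1, hWU y.2⟩) f.mul_inv
      exact this
    rw [hval y, hval' y, kstalk_mk_mul_mk, kstalk_one, kstalk_mk_eq_mk_iff] at h1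
    simp only [Submonoid.coe_mul, Submonoid.coe_one, one_mul, mul_one] at h1
    have h2 : X.presheaf.germ W y.1 y.2 (X.presheaf.map (homOfLE hWV1).op b.1) *
        X.presheaf.germ W y.1 y.2 (X.presheaf.map (homOfLE hWV2).op b'.1) ∈
          nonZeroDivisors (X.presheaf.stalk y.1) :=
      Submonoid.mul_mem _ (regSub_res _ b.2 y) (regSub_res _ b'.2 y)
    show X.presheaf.germ W y.1 y.2 _ ∈ nonZeroDivisors (X.presheaf.stalk y.1)
    have h3 : X.presheaf.germ W y.1 y.2 (X.presheaf.map (homOfLE hWV1).op a) *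
        X.presheaf.germ W y.1 y.2 (X.presheaf.map (homOfLE hWV2).op a') ∈
          nonZeroDivisors (X.presheaf.stalk y.1) := by
      rw [h1]; exact h2
    exact (mul_mem_nonZeroDivisors.mp h3).1
  refine ⟨W, hW, hxW, ⟨_, hareg⟩, ⟨X.presheaf.map (homOfLE hWV1).op b.1, regSub_res _ b.2⟩, ?_⟩
  intro y
  refine ⟨Units.map (evalK X U ⟨y.1, hWU y.2⟩).toMonoidHom f, hf ⟨y.1, hWU y.2⟩, ?_⟩
  exact hval y


theorem unit_val (x : X) (s : regStalk X x) :
    (((IsLocalization.map_units (KStalk X x) s).unit : (KStalk X x)ˣ) : KStalk X x) =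
      LocalizedModule.mk s.1 1 := by
  rw [IsUnit.unit_spec, kstalk_algebraMap_eq_mk]

theorem IsRep.isEffectiveAt_iff {D : Divisor X} {W : X.Opens} {a b : regSub X W} (h : IsRep D W a b)
    (y : W) : IsEffectiveAt D y.1 ↔ DivAt a.1 b.1 y := by
  obtain ⟨q, hq, hqv⟩ := h y
  constructor
  · rintro ⟨s, hs⟩
    rw [hq, QuotientGroup.eq] at hs
    obtain ⟨u, hu⟩ := hs
    have h1 : (q : KStalk X y.1) * algebraMap (X.presheaf.stalk y.1) (KStalk X y.1) u =
        LocalizedModule.mk s.1 1 := by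
      have h2 := congrArg (fun t : (KStalk X y.1)ˣ => (q : KStalk X y.1) * (t : KStalk X y.1)) hu
      simp only [Units.val_mul, Units.mul_inv_cancel_left] at h2
      rw [unit_val] at h2
      exact h2
    rw [hqv, kstalk_algebraMap_eq_mk, kstalk_mk_mul_mk, kstalk_mk_eq_mk_iff] at h1
    simp only [Submonoid.coe_mul, Submonoid.coe_one, one_mul, mul_one] at h1
    refine ⟨s.1 * ((u⁻¹ : (X.presheaf.stalk y.1)ˣ) : X.presheaf.stalk y.1), ?_⟩
    rw [← mul_assoc, ← h1, mul_assoc, Units.mul_inv, mul_one]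
  · rintro ⟨c, hc⟩
    -- `c` is the germ of a regular section
    obtain ⟨V, hyV, c', hc'⟩ := X.presheaf.exists_germ_eq c
    have hyWV : y.1 ∈ W ⊓ V := ⟨y.2, hyV⟩
    have h2 : X.presheaf.germ W y.1 y.2 a.1 =
        X.presheaf.germ (W ⊓ V) y.1 hyWV
          (X.presheaf.map (homOfLE inf_le_left).op b.1 * X.presheaf.map (homOfLE inf_le_right).op c') := by
      rw [map_mul, TopCat.Presheaf.germ_res_apply, TopCat.Presheaf.germ_res_apply, hc', hc]
    obtain ⟨V', hyV', iU, iV, e⟩ := X.presheaf.germ_eq (U := W) (V := W ⊓ V) y.1 y.2 hyWV _ _ h2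
    have hcreg : X.presheaf.map (iV ≫ homOfLE inf_le_right).op c' ∈ regSub X V' := by
      intro z
      have e' := congrArg (X.presheaf.germ V' z.1 z.2) e
      rw [TopCat.Presheaf.germ_res_apply, TopCat.Presheaf.germ_res_apply, map_mul,
        TopCat.Presheaf.germ_res_apply, TopCat.Presheaf.germ_res_apply] at e'
      have h3 : X.presheaf.germ W z.1 (iU.le z.2) a.1 ∈ nonZeroDivisors (X.presheaf.stalk z.1) :=
        a.2 ⟨z.1, iU.le z.2⟩
      rw [e'] at h3
      show X.presheaf.germ V' z.1 z.2 _ ∈ nonZeroDivisors (X.presheaf.stalk z.1)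
      rw [TopCat.Presheaf.germ_res_apply]
      exact (mul_mem_nonZeroDivisors.mp h3).2
    have hcmem : c ∈ regStalk X y.1 := by
      refine ⟨V', hyV', _, hcreg, ?_⟩
      rw [TopCat.Presheaf.germ_res_apply, hc']
    refine ⟨⟨c, hcmem⟩, ?_⟩
    rw [hq]
    congr 1
    apply Units.ext
    rw [unit_val, hqv, kstalk_mk_eq_mk_iff]
    simp only [Submonoid.coe_one, one_mul]
    exact hc

theorem isEffectiveAt_of_eq_one (D : Divisor X) (x : X) (h : D.1 x = 1) : IsEffectiveAt D x := by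
  refine ⟨1, ?_⟩
  rw [h]
  symm
  rw [QuotientGroup.eq_one_iff]
  refine ⟨1, ?_⟩
  apply Units.ext
  rw [unit_val, map_one, Units.val_one, kstalk_one]
  rfl

theorem IsRep.eq_one_iff {D : Divisor X} {W : X.Opens} {a b : regSub X W} (h : IsRep D W a b)
    (y : W) : D.1 y.1 = 1 ↔ DivAt a.1 b.1 y ∧ DivAt b.1 a.1 y := by
  constructor
  · intro h1
    refine ⟨(h.isEffectiveAt_iff y).mp (isEffectiveAt_of_eq_one D y.1 h1),
      (h.inv.isEffectiveAt_iff y).mp (isEffectiveAt_of_eq_one D⁻¹ y.1 ?_)⟩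
    show (D.1 y.1)⁻¹ = 1
    rw [h1, inv_one]
  · rintro ⟨⟨c, hc⟩, ⟨c', hc'⟩⟩
    obtain ⟨q, hq, hqv⟩ := h y
    have hareg : X.presheaf.germ W y.1 y.2 a.1 ∈ nonZeroDivisors (X.presheaf.stalk y.1) := a.2 y
    have h1 : X.presheaf.germ W y.1 y.2 a.1 * (c' * c) = X.presheaf.germ W y.1 y.2 a.1 * 1 := by
      rw [← mul_assoc, ← hc', ← hc, mul_one]
    have h2 : c' * c = 1 := (mul_cancel_left_mem_nonZeroDivisors hareg).mp h1
    let uc : (X.presheaf.stalk y.1)ˣ := ⟨c, c', by rw [mul_comm]; exact h2, h2⟩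
    rw [hq, QuotientGroup.eq_one_iff]
    refine ⟨uc, ?_⟩
    apply Units.ext
    show algebraMap (X.presheaf.stalk y.1) (KStalk X y.1) c = (q : KStalk X y.1)
    rw [hqv, kstalk_algebraMap_eq_mk, kstalk_mk_eq_mk_iff]
    simp only [Submonoid.coe_one, one_mul]
    exact hc.symm

variable [IsLocallyNoetherian X]

/-- S5098 (a) -/
theorem isEffective_of_depth_one_points (D : Divisor X)
    (h : ∀ x : X, depth (X.presheaf.stalk x) (X.presheaf.stalk x) = 1 → IsEffectiveAt D x) :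
    IsEffective D := by
  intro x
  obtain ⟨W, hW, hxW, a, b, hrep⟩ := exists_isRep D x
  rw [hrep.isEffectiveAt_iff ⟨x, hxW⟩]
  by_contra hf
  obtain ⟨z, -, hz, hdepth⟩ := exists_depth_one_generization hW a.1 b.1 b.2 ⟨x, hxW⟩ hf
  exact hz ((hrep.isEffectiveAt_iff z).mp (h z.1 hdepth))

/-- S5098 (b) -/
theorem eq_one_of_depth_one_points (D : Divisor X)
    (h : ∀ x : X, depth (X.presheaf.stalk x) (X.presheaf.stalk x) = 1 → D.1 x = 1) :
    D = 1 := by
  have h1 : IsEffective D :=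
    isEffective_of_depth_one_points D (fun x hx => isEffectiveAt_of_eq_one D x (h x hx))
  have h2 : IsEffective D⁻¹ :=
    isEffective_of_depth_one_points D⁻¹ (fun x hx => isEffectiveAt_of_eq_one D⁻¹ x (by
      show (D.1 x)⁻¹ = 1
      rw [h x hx, inv_one]))
  apply Subtype.ext
  funext x
  show D.1 x = 1
  obtain ⟨W, hW, hxW, a, b, hrep⟩ := exists_isRep D x
  exact (hrep.eq_one_iff ⟨x, hxW⟩).mpr ⟨(hrep.isEffectiveAt_iff ⟨x, hxW⟩).mp (h1 x),
    (hrep.inv.isEffectiveAt_iff ⟨x, hxW⟩).mp (h2 x)⟩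

/-- S5099 -/
theorem depth_eq_one_of_maximal_mem_supp (D : Divisor X)
    (x : X) (hx : x ∈ supp D) (hmax : ∀ z : X, z ∈ supp D → z ⤳ x → z = x) :
    depth (X.presheaf.stalk x) (X.presheaf.stalk x) = 1 := by
  obtain ⟨W, hW, hxW, a, b, hrep⟩ := exists_isRep D x
  have h1 : ¬ (DivAt a.1 b.1 ⟨x, hxW⟩ ∧ DivAt b.1 a.1 ⟨x, hxW⟩) := fun hh =>
    hx ((hrep.eq_one_iff ⟨x, hxW⟩).mpr hh)
  rw [not_and_or] at h1
  rcases h1 with h1 | h1
  · obtain ⟨z, hzx, hz, hdepth⟩ := exists_depth_one_generization hW a.1 b.1 b.2 ⟨x, hxW⟩ h1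
    have hzs : z.1 ∈ supp D := fun hh => hz ((hrep.eq_one_iff z).mp hh).1
    rw [← hmax z.1 hzs hzx]
    exact hdepth
  · obtain ⟨z, hzx, hz, hdepth⟩ := exists_depth_one_generization hW b.1 a.1 a.2 ⟨x, hxW⟩ h1
    have hzs : z.1 ∈ supp D := fun hh => hz ((hrep.eq_one_iff z).mp hh).2
    rw [← hmax z.1 hzs hzx]
    exact hdepth

end Groth.Agent.Lib.helper2.MeroLib
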