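import Mathlib
import Groth.Agent.Lib.Helper2.CDivLib5

set_option autoImplicit false
universe u

open AlgebraicGeometry TopologicalSpace CategoryTheory Opposite CDiv LocCoh
open Groth.Agent.Lib.helper2.Hartogs

namespace Groth.Agent.Lib.helper2.CDivLib

variable {X : Scheme.{u}} [IsIntegral X]

/-- S2875 -/
theorem depth_eq_one_of_maximal_mem_supp [IsLocallyNoetherian X] (D : Divisor X)
    (x : X) (hx : x ∈ supp D) (hmax : ∀ z : X, z ∈ supp D → z ⤳ x → z = x) :
    depth (X.presheaf.stalk x) (X.presheaf.stalk x) = 1 := by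
  obtain ⟨U, hU, f, hxU, hrep⟩ := exists_affine_rep D x
  have h1 : f ∉ stalkUnits X x := by
    intro h
    apply hx
    rw [hrep x hxU, germOf_eq_one_iff]
    exact h
  rw [mem_stalkUnits_iff, not_and_or] at h1
  have key : ∀ g : X.functionField, g ∉ Ox x →
      (∀ z : X, g ∉ Ox z → f ∉ stalkUnits X z) →
      depth (X.presheaf.stalk x) (X.presheaf.stalk x) = 1 := by
    intro g hg hgf
    obtain ⟨z, hzU, hzx, hgz, hdepth, -⟩ := exists_depth_one_generization hU x hxU g hg
    have hzs : z ∈ supp D := by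
      show D.1 z ≠ 1
      rw [hrep z hzU, Ne, germOf_eq_one_iff]
      exact hgf z hgz
    have := hmax z hzs hzx
    rw [← this]
    exact hdepth
  rcases h1 with h | h
  · exact key _ h (fun z hz hu => hz ((mem_stalkUnits_iff z f).mp hu).1)
  · exact key _ h (fun z hz hu => hz ((mem_stalkUnits_iff z f).mp hu).2)

/-- S2874 (a) -/
theorem isEffective_of_depth_one_points [IsLocallyNoetherian X] (D : Divisor X)
    (h : ∀ x : X, depth (X.presheaf.stalk x) (X.presheaf.stalk x) = 1 → IsEffectiveAt D x) :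
    IsEffective D := by
  intro x
  obtain ⟨U, hU, f, hxU, hrep⟩ := exists_affine_rep D x
  rw [isEffectiveAt_iff D x f (hrep x hxU)]
  by_contra hf
  obtain ⟨z, hzU, -, hgz, hdepth, -⟩ := exists_depth_one_generization hU x hxU _ hf
  exact hgz ((isEffectiveAt_iff D z f (hrep z hzU)).mp (h z hdepth))

/-- S2874 (b) -/
theorem eq_one_of_depth_one_points [IsLocallyNoetherian X] (D : Divisor X)
    (h : ∀ x : X, depth (X.presheaf.stalk x) (X.presheaf.stalk x) = 1 → D.1 x = 1) :
    D = 1 := by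
  have h1 : IsEffective D :=
    isEffective_of_depth_one_points D (fun x hx => isEffectiveAt_of_eq_one D x (h x hx))
  have h2 : IsEffective D⁻¹ :=
    isEffective_of_depth_one_points D⁻¹ (fun x hx => isEffectiveAt_of_eq_one D⁻¹ x (by
      show (D.1 x)⁻¹ = 1
      rw [h x hx, inv_one]))
  apply divisor_ext
  intro x
  show D.1 x = 1
  obtain ⟨f, hf⟩ := exists_germOf x (D.1 x)
  have e1 := (isEffectiveAt_iff D x f hf).mp (h1 x)
  have hf' : (D⁻¹).1 x = germOf X x f⁻¹ := by
    show (D.1 x)⁻¹ = _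
    rw [hf]
    rfl
  have e2 := (isEffectiveAt_iff D⁻¹ x f⁻¹ hf').mp (h2 x)
  rw [hf, germOf_eq_one_iff, mem_stalkUnits_iff]
  exact ⟨e1, e2⟩

end Groth.Agent.Lib.helper2.CDivLib
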