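import Mathlib
import Groth.Agent.Lib.Helper2.CDivLib7

set_option autoImplicit false
universe u

open IsLocalRing

namespace Groth.Agent.Lib.helper2.CDivRing

variable (R : Type u) [CommRing R] [IsDomain R] [IsNoetherianRing R] [Ring.KrullDimLE 1 R]
  {K : Type u} [Field K] [Algebra R K] [IsFractionRing R K]

theorem one_lt_ordFrac_of_not_isUnit {b : R} (hb0 : b ≠ 0) (hb : ¬ IsUnit b) :
    1 < Ring.ordFrac R (algebraMap R K b) := by
  have hbn : b ∈ nonZeroDivisors R := mem_nonZeroDivisors_of_ne_zero hb0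
  obtain ⟨n, hn⟩ := ENat.ne_top_iff_exists.mp (Ring.ord_ne_top (R := R) hbn)
  have hn0 : n ≠ 0 := by
    rintro rfl
    have h0 : Ring.ord R b = 0 := by rw [← hn]; rfl
    rw [Ring.ord, Module.length_eq_zero_iff, Submodule.Quotient.subsingleton_iff] at h0
    exact hb (Ideal.span_singleton_eq_top.mp h0)
  rw [Ring.ordFrac_eq_ord R hb0, Ring.ordMonoidWithZeroHom_eq_coe _ hbn hn.symm,
    WithZero.one_lt_coe, ← ofAdd_zero, Multiplicative.ofAdd_lt]
  exact_mod_cast Nat.pos_of_ne_zero hn0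

theorem mem_range_of_one_le_ordFrac [IsDiscreteValuationRing R] (f : K) (hf : f ≠ 0)
    (h : 1 ≤ Ring.ordFrac R f) : f ∈ (algebraMap R K).range := by
  rcases ValuationRing.isInteger_or_isInteger R f with ⟨a, ha⟩ | ⟨b, hb⟩
  · exact ⟨a, ha⟩
  · have hb0 : b ≠ 0 := by
      rintro rfl
      rw [map_zero] at hb
      exact inv_ne_zero hf hb.symm
    by_cases hu : IsUnit b
    · obtain ⟨u, rfl⟩ := hu
      refine ⟨((u⁻¹ : Rˣ) : R), ?_⟩
      have h1 : algebraMap R K ((u⁻¹ : Rˣ) : R) * algebraMap R K (u : R) = 1 := by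
        rw [← map_mul, Units.inv_mul, map_one]
      rw [hb] at h1
      have := eq_inv_of_mul_eq_one_left h1
      rw [this, inv_inv]
    · exfalso
      have h1 := one_lt_ordFrac_of_not_isUnit R (K := K) hb0 hu
      rw [hb] at h1
      have h2 : Ring.ordFrac R f * Ring.ordFrac R f⁻¹ = 1 := by
        rw [← map_mul, mul_inv_cancel₀ hf, map_one]
      have h3 : Ring.ordFrac R f⁻¹ ≤ Ring.ordFrac R f * Ring.ordFrac R f⁻¹ :=
        le_mul_of_one_le_left' h
      rw [h2] at h3
      exact lt_irrefl _ (lt_of_lt_of_le h1 h3)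

end Groth.Agent.Lib.helper2.CDivRing
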