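import Mathlib
import Groth.Prelude.Def_Pi1
import Groth.Agent.Lib.Helper2.CDivLib6
import Groth.Agent.Lib.Helper2.CDivLib8

set_option autoImplicit false
universe u

open AlgebraicGeometry TopologicalSpace CategoryTheory Opposite CDiv LocCoh

namespace Groth.Agent.Lib.helper2.CDivLib

variable {X : Scheme.{u}} [IsIntegral X] [IsLocallyNoetherian X]

/-- Lemma A -/
theorem ord_nonneg_of_mem_Ox (x : X) (hx : Order.coheight x = 1) (f : X.functionField)
    (hf : f ≠ 0) (h : f ∈ Ox x) : 0 ≤ Scheme.ord f x := by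
  rw [Scheme.le_ord_iff hx hf]
  obtain ⟨a, rfl⟩ := h
  have ha : a ≠ 0 := by
    rintro rfl
    exact hf (map_zero _)
  haveI : Ring.KrullDimLE 1 (X.presheaf.stalk x) := krullDimLE_of_coheight_le hx.le
  have h1 := Ring.ordFrac_ge_one_of_ne_zero (R := X.presheaf.stalk x) (K := X.functionField) ha
  have h2 : (1 : WithZero (Multiplicative ℤ)) ≤ Scheme.ordHom x hx
      (algebraMap (X.presheaf.stalk x) X.functionField a) := h1
  simpa using h2

/-- Lemma B -/
theorem isDVR_of_depth_eq_one (hX : Pi1.IsNormalScheme X) (x : X)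
    (hx : depth (X.presheaf.stalk x) (X.presheaf.stalk x) = 1) :
    IsDiscreteValuationRing (X.presheaf.stalk x) ∧ Order.coheight x = 1 := by
  haveI : IsIntegrallyClosed (X.presheaf.stalk x) := (hX x).2
  have hdvr : IsDiscreteValuationRing (X.presheaf.stalk x) :=
    CDivRing.isDVR_of_depth_eq_one _ hx
  refine ⟨hdvr, ?_⟩
  have h1 := IsDiscreteValuationRing.ringKrullDim_eq_one (X.presheaf.stalk x)
  rw [ringKrullDim_stalk_eq_coheight] at h1
  exact_mod_cast h1

/-- Lemma C -/
theorem mem_Ox_of_ord_nonneg (x : X) (hx : Order.coheight x = 1)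
    [IsDiscreteValuationRing (X.presheaf.stalk x)] (f : X.functionField) (hf : f ≠ 0)
    (h : 0 ≤ Scheme.ord f x) : f ∈ Ox x := by
  rw [Scheme.le_ord_iff hx hf] at h
  have h2 : (1 : WithZero (Multiplicative ℤ)) ≤ Scheme.ordHom x hx f := by simpa using h
  have h1 : 1 ≤ Ring.ordFrac (X.presheaf.stalk x) f := h2
  exact CDivRing.mem_range_of_one_le_ordFrac (X.presheaf.stalk x) f hf h1

theorem ord_inv (x : X) (f : X.functionField) (hf : f ≠ 0) :
    Scheme.ord f⁻¹ x = - Scheme.ord f x := by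
  have h1 := Scheme.ord_mul (x := x) hf (inv_ne_zero hf)
  rw [mul_inv_cancel₀ hf] at h1
  have h2 : Scheme.ord (1 : X.functionField) x = 0 := by
    have := Scheme.ord_mul (x := x) (one_ne_zero (α := X.functionField)) one_ne_zero
    rw [mul_one] at this
    omega
  omega

/-- S2876 -/
theorem isEffective_iff_ord_nonneg_of_normal (hX : Pi1.IsNormalScheme X) (D : Divisor X) :
    (IsEffective D ↔
      ∀ x : X, Order.coheight x = 1 → ∀ f : KUnits X, D.1 x = germOf X x f →
        0 ≤ Scheme.ord (f : X.functionField) x) ∧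
    ((∀ x : X, Order.coheight x = 1 → ∀ f : KUnits X, D.1 x = germOf X x f →
        Scheme.ord (f : X.functionField) x = 0) → D = 1) := by
  refine ⟨⟨?_, ?_⟩, ?_⟩
  · intro hD x hx f hf
    exact ord_nonneg_of_mem_Ox x hx _ f.ne_zero ((isEffectiveAt_iff D x f hf).mp (hD x))
  · intro h
    apply isEffective_of_depth_one_points
    intro x hx
    obtain ⟨hdvr, hco⟩ := isDVR_of_depth_eq_one hX x hx
    obtain ⟨f, hf⟩ := exists_germOf x (D.1 x)
    rw [isEffectiveAt_iff D x f hf]
    exact mem_Ox_of_ord_nonneg x hco _ f.ne_zero (h x hco f hf)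
  · intro h
    apply eq_one_of_depth_one_points
    intro x hx
    obtain ⟨hdvr, hco⟩ := isDVR_of_depth_eq_one hX x hx
    obtain ⟨f, hf⟩ := exists_germOf x (D.1 x)
    have h0 := h x hco f hf
    rw [hf, germOf_eq_one_iff, mem_stalkUnits_iff]
    refine ⟨mem_Ox_of_ord_nonneg x hco _ f.ne_zero (by rw [h0]), ?_⟩
    rw [Units.val_inv_eq_inv_val]
    apply mem_Ox_of_ord_nonneg x hco _ (inv_ne_zero f.ne_zero)
    rw [ord_inv x _ f.ne_zero, h0]
    simp

end Groth.Agent.Lib.helper2.CDivLib
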