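import Mathlib
import Groth.Prelude.Def_Pi1
import Groth.Agent.Lib.Helper2.CDivLib9

/-!
# helper2: locally factorial iff prime cycles of codimension one are divisors (S2877)
-/

set_option autoImplicit false
universe u

open AlgebraicGeometry TopologicalSpace CategoryTheory Opposite CDiv LocCoh

namespace Groth.Agent.Lib.helper2.CDivLib

section basics

variable {X : Scheme.{u}} [IsIntegral X] [IsLocallyNoetherian X]

/-- generizations of a codimension one point -/
theorem eq_or_eq_genericPoint_of_specializes {x' y : X} (hx' : Order.coheight x' = 1)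
    (h : y ⤳ x') : y = x' ∨ y = genericPoint X := by
  by_contra hcon
  push Not at hcon
  have h1 : x' < y := lt_of_le_not_ge (Scheme.le_iff_specializes.mpr h) (fun hge =>
    hcon.1 ((Scheme.le_iff_specializes.mp hge).antisymm h).eq.symm)
  have h2 : y < (⊤ : X) := lt_of_le_not_ge le_top (fun hge =>
    hcon.2 (((Scheme.le_iff_specializes.mp hge).antisymm (genericPoint_specializes y)).eq))
  have h3 : Order.coheight y ≠ 0 := by
    rw [Ne, Order.coheight_eq_zero]
    exact fun hm => not_lt_of_ge (hm le_top) h2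
  have h4 : Order.coheight y + 1 ≤ Order.coheight x' := Order.coheight_add_one_le h1
  rw [hx'] at h4
  have h5 : 1 ≤ Order.coheight y := Order.one_le_iff_ne_zero.mpr h3
  have h6 : (1 : ℕ∞) + 1 ≤ 1 := (add_le_add_left h5 1).trans h4
  exact absurd h6 (by decide)

theorem coheight_genericPoint : Order.coheight (genericPoint X) = 0 := by
  rw [Order.coheight_eq_zero]
  exact isMax_top

theorem ord_one' (x : X) : Scheme.ord (1 : X.functionField) x = 0 := by
  have := Scheme.ord_mul (x := x) (one_ne_zero (α := X.functionField)) one_ne_zero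
  rw [mul_one] at this
  omega

variable (hX : Pi1.IsNormalScheme X)

include hX in
theorem isDVR_of_coheight_one (x : X) (hx : Order.coheight x = 1) :
    IsDiscreteValuationRing (X.presheaf.stalk x) := by
  haveI : IsDomain (X.presheaf.stalk x) := (hX x).1
  haveI : IsIntegrallyClosed (X.presheaf.stalk x) := (hX x).2
  haveI : Ring.KrullDimLE 1 (X.presheaf.stalk x) := krullDimLE_of_coheight_le hx.le
  have hnf : ¬ IsField (X.presheaf.stalk x) := by
    intro hf
    have h1 := ringKrullDim_eq_zero_of_isField hf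
    rw [ringKrullDim_stalk_eq_coheight, hx] at h1
    exact absurd h1 (by norm_num)
  have h3 : IsIntegrallyClosed (X.presheaf.stalk x) ∧
      ∃! P : Ideal (X.presheaf.stalk x), P ≠ ⊥ ∧ P.IsPrime := by
    refine ⟨inferInstance, IsLocalRing.maximalIdeal _, ⟨?_, inferInstance⟩, ?_⟩
    · rwa [Ne, ← IsLocalRing.isField_iff_maximalIdeal_eq]
    · rintro P ⟨hP0, hP⟩
      exact IsLocalRing.eq_maximalIdeal
        ((Ring.krullDimLE_one_iff_of_noZeroDivisors.mp inferInstance) P hP0 hP)
  exact ((IsDiscreteValuationRing.TFAE (X.presheaf.stalk x) hnf).out 0 3).mpr h3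

include hX in
theorem ord_nonneg_iff (x : X) (hx : Order.coheight x = 1) (g : X.functionField) (hg : g ≠ 0) :
    0 ≤ Scheme.ord g x ↔ g ∈ Ox x := by
  haveI := isDVR_of_coheight_one hX x hx
  exact ⟨mem_Ox_of_ord_nonneg x hx g hg, ord_nonneg_of_mem_Ox x hx g hg⟩

include hX in
theorem ord_eq_zero_iff (x : X) (hx : Order.coheight x = 1) (g : X.functionField) (hg : g ≠ 0) :
    Scheme.ord g x = 0 ↔ g ∈ Ox x ∧ g⁻¹ ∈ Ox x := by
  rw [← ord_nonneg_iff hX x hx g hg, ← ord_nonneg_iff hX x hx g⁻¹ (inv_ne_zero hg), ord_inv x g hg]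
  omega

include hX in
theorem one_le_ord_iff (x : X) (hx : Order.coheight x = 1) (g : X.functionField) (hg : g ≠ 0) :
    1 ≤ Scheme.ord g x ↔ g ∈ Ox x ∧ g⁻¹ ∉ Ox x := by
  rw [← ord_nonneg_iff hX x hx g hg, ← ord_nonneg_iff hX x hx g⁻¹ (inv_ne_zero hg), ord_inv x g hg]
  omega

include hX in
/-- local Hartogs -/
theorem mem_Ox_of_forall_coheight_one (x : X) (g : X.functionField)
    (h : ∀ x' : X, x' ⤳ x → Order.coheight x' = 1 → g ∈ Ox x') : g ∈ Ox x := by
  by_contra hg
  obtain ⟨_, ⟨U, hU', rfl⟩, hxU, -⟩ :=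
    X.isBasis_affineOpens.exists_subset_of_mem_open (Set.mem_univ x) isOpen_univ
  have hU : IsAffineOpen U := hU'
  obtain ⟨z, -, hzx, hgz, hdepth, -⟩ := exists_depth_one_generization hU x hxU g hg
  exact hgz (h z hzx (isDVR_of_depth_eq_one hX z hdepth).2)


end basics

section pt

variable {X : Scheme.{u}} [IsIntegral X]

/-- the prime of `O_x` attached to a generization `y` of `x` -/
noncomputable def qOf (x y : X) (h : y ⤳ x) : Ideal (X.presheaf.stalk x) :=
  (IsLocalRing.maximalIdeal (X.presheaf.stalk y)).comap (X.presheaf.stalkSpecializes h).hom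

instance (x y : X) (h : y ⤳ x) : (qOf x y h).IsPrime := by
  unfold qOf
  exact Ideal.comap_isPrime _ _

theorem algebraMap_stalkSpecializes {x y : X} (h : y ⤳ x) (a : X.presheaf.stalk x) :
    algebraMap (X.presheaf.stalk y) X.functionField ((X.presheaf.stalkSpecializes h).hom a) =
      algebraMap (X.presheaf.stalk x) X.functionField a := by
  have h1 := X.presheaf.stalkSpecializes_comp
    ((genericPoint_spec X).specializes trivial : genericPoint X ⤳ y) h
  exact congr($h1 a)

theorem isUnit_iff_inv_mem_Ox (y : X) (c : X.presheaf.stalk y) (hc : c ≠ 0) :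
    IsUnit c ↔ (algebraMap (X.presheaf.stalk y) X.functionField c)⁻¹ ∈ Ox y := by
  have hinj := IsFractionRing.injective (X.presheaf.stalk y) X.functionField
  constructor
  · rintro ⟨u, rfl⟩
    refine ⟨((u⁻¹ : (X.presheaf.stalk y)ˣ) : X.presheaf.stalk y), ?_⟩
    have h1 : algebraMap (X.presheaf.stalk y) X.functionField (u : X.presheaf.stalk y) *
        algebraMap (X.presheaf.stalk y) X.functionField
          ((u⁻¹ : (X.presheaf.stalk y)ˣ) : X.presheaf.stalk y) = 1 := by
      rw [← map_mul, Units.mul_inv, map_one]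
    exact (eq_inv_of_mul_eq_one_right h1)
  · rintro ⟨d, hd⟩
    have hc' : algebraMap (X.presheaf.stalk y) X.functionField c ≠ 0 := by
      rw [Ne, map_eq_zero_iff _ hinj]; exact hc
    have h1 : c * d = 1 := by
      apply hinj
      rw [map_mul, hd, map_one, mul_inv_cancel₀ hc']
    exact IsUnit.of_mul_eq_one d h1

theorem mem_qOf_iff {x y : X} (h : y ⤳ x) (a : X.presheaf.stalk x) (ha : a ≠ 0) :
    a ∈ qOf x y h ↔ (algebraMap (X.presheaf.stalk x) X.functionField a)⁻¹ ∉ Ox y := by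
  have hinjx := IsFractionRing.injective (X.presheaf.stalk x) X.functionField
  have hinjy := IsFractionRing.injective (X.presheaf.stalk y) X.functionField
  have hsp : (X.presheaf.stalkSpecializes h).hom a ≠ 0 := by
    intro h0
    apply ha
    apply hinjx
    rw [← algebraMap_stalkSpecializes h a, h0, map_zero, map_zero]
  unfold qOf
  rw [Ideal.mem_comap, IsLocalRing.mem_maximalIdeal, mem_nonunits_iff,
    isUnit_iff_inv_mem_Ox y _ hsp, algebraMap_stalkSpecializes]

theorem pt_qOf {x y : X} (h : y ⤳ x) :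
    (X.fromSpecStalk x) (⟨qOf x y h, inferInstance⟩ : PrimeSpectrum (X.presheaf.stalk x)) = y := by
  have h1 := Scheme.SpecMap_stalkSpecializes_fromSpecStalk h
  have h2 : (Spec.map (X.presheaf.stalkSpecializes h) ≫ X.fromSpecStalk x)
      (IsLocalRing.closedPoint (X.presheaf.stalk y)) = y := by
    rw [h1]
    exact Scheme.fromSpecStalk_closedPoint
  exact h2

theorem exists_qOf_eq (x : X) (P : Ideal (X.presheaf.stalk x)) [P.IsPrime] :
    ∃ (y : X) (h : y ⤳ x), qOf x y h = P := by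
  set y := (X.fromSpecStalk x) (⟨P, inferInstance⟩ : PrimeSpectrum (X.presheaf.stalk x)) with hy
  have h : y ⤳ x := by
    have : y ∈ Set.range (X.fromSpecStalk x) := ⟨_, rfl⟩
    rw [Scheme.range_fromSpecStalk] at this
    exact this
  refine ⟨y, h, ?_⟩
  have h1 := pt_qOf h
  have h2 := (X.fromSpecStalk x).isEmbedding.injective (h1.trans hy)
  exact congrArg PrimeSpectrum.asIdeal h2

theorem specializes_of_qOf_le {x y y' : X} (h : y ⤳ x) (h' : y' ⤳ x)
    (hle : qOf x y h ≤ qOf x y' h') : y ⤳ y' := by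
  have h1 : (⟨qOf x y h, inferInstance⟩ : PrimeSpectrum (X.presheaf.stalk x)) ⤳
      ⟨qOf x y' h', inferInstance⟩ := (PrimeSpectrum.le_iff_specializes _ _).1 hle
  have h2 := h1.map (X.fromSpecStalk x).continuous
  rwa [pt_qOf, pt_qOf] at h2

theorem eq_genericPoint_of_qOf_eq_bot {x y : X} (h : y ⤳ x) (hq : qOf x y h = ⊥) :
    y = genericPoint X := by
  have hη : genericPoint X ⤳ x := genericPoint_specializes x
  have h1 : qOf x y h ≤ qOf x (genericPoint X) hη := by rw [hq]; exact bot_le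
  exact ((specializes_of_qOf_le h hη h1).antisymm (genericPoint_specializes y)).eq

end pt

section converse

variable {X : Scheme.{u}} [IsIntegral X] [IsLocallyNoetherian X] (hX : Pi1.IsNormalScheme X)

theorem qOf_genericPoint (x : X) (h : genericPoint X ⤳ x) : qOf x (genericPoint X) h = ⊥ := by
  rw [eq_bot_iff]
  intro a ha
  by_contra ha0
  exact (mem_qOf_iff h a ha0).mp ha (mem_Ox_genericPoint _)

theorem ord_div' (x : X) (g f : X.functionField) (hg : g ≠ 0) (hf : f ≠ 0) :
    Scheme.ord (g * f⁻¹) x = Scheme.ord g x - Scheme.ord f x := by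
  rw [Scheme.ord_mul hg (inv_ne_zero hf), ord_inv x f hf]
  ring

include hX in
theorem ufm_of_prime_cycles
    (H : ∀ x₀ : X, Order.coheight x₀ = 1 → ∃ D : Divisor X,
      (∀ f : KUnits X, D.1 x₀ = germOf X x₀ f → Scheme.ord (f : X.functionField) x₀ = 1) ∧
        ∀ x : X, x ≠ x₀ → Order.coheight x = 1 → ∀ f : KUnits X, D.1 x = germOf X x f →
          Scheme.ord (f : X.functionField) x = 0) (x : X) :
    UniqueFactorizationMonoid (X.presheaf.stalk x) := by
  haveI : IsDomain (X.presheaf.stalk x) := (hX x).1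
  have hinj := IsFractionRing.injective (X.presheaf.stalk x) X.functionField
  rw [UniqueFactorizationMonoid.iff_exists_prime_mem_of_isPrime]
  intro P hP0 hPprime
  obtain ⟨y, hy, rfl⟩ := exists_qOf_eq x P
  obtain ⟨a, haP, ha0⟩ := Submodule.exists_mem_ne_zero_of_ne_bot hP0
  have hg : (algebraMap (X.presheaf.stalk x) X.functionField a)⁻¹ ∉ Ox y :=
    (mem_qOf_iff hy a ha0).mp haP
  obtain ⟨_, ⟨V, hV', rfl⟩, hyV, -⟩ :=
    X.isBasis_affineOpens.exists_subset_of_mem_open (Set.mem_univ y) isOpen_univ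
  have hV : IsAffineOpen V := hV'
  obtain ⟨z, -, hzy, hgz, hdepth, -⟩ := exists_depth_one_generization hV y hyV _ hg
  have hzco : Order.coheight z = 1 := (isDVR_of_depth_eq_one hX z hdepth).2
  have hz : z ⤳ x := hzy.trans hy
  have hle : qOf x z hz ≤ qOf x y hy := by
    intro b hb
    by_cases hb0 : b = 0
    · rw [hb0]; exact Ideal.zero_mem _
    · rw [mem_qOf_iff hy b hb0]
      intro hmem
      exact (mem_qOf_iff hz b hb0).mp hb (Ox_mono hzy hmem)
  obtain ⟨D, hD1, hD2⟩ := H z hzco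
  obtain ⟨U, hU, f, hxU, hrep⟩ := exists_affine_rep D x
  have hf0 : (f : X.functionField) ≠ 0 := f.ne_zero
  have hordz : Scheme.ord (f : X.functionField) z = 1 :=
    hD1 f (hrep z (hz.mem_open U.2 hxU))
  have hord : ∀ x' : X, x' ⤳ x → Order.coheight x' = 1 → x' ≠ z →
      Scheme.ord (f : X.functionField) x' = 0 := fun x' hx' hco hne =>
    hD2 x' hne hco f (hrep x' (hx'.mem_open U.2 hxU))
  have hfx : (f : X.functionField) ∈ Ox x := by
    apply mem_Ox_of_forall_coheight_one hX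
    intro x' hx' hco
    rw [← ord_nonneg_iff hX x' hco _ hf0]
    by_cases hx'z : x' = z
    · rw [hx'z, hordz]; norm_num
    · rw [hord x' hx' hco hx'z]
  obtain ⟨π, hπ⟩ := hfx
  have hπ0 : π ≠ 0 := by
    rintro rfl
    exact hf0 (by rw [← hπ, map_zero])
  have hπz : π ∈ qOf x z hz := by
    rw [mem_qOf_iff hz π hπ0, hπ]
    exact ((one_le_ord_iff hX z hzco _ hf0).mp (by rw [hordz])).2
  have hspan : Ideal.span {π} = qOf x z hz := by
    apply le_antisymm
    · rw [Ideal.span_singleton_le_iff_mem]; exact hπz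
    · intro b hb
      by_cases hb0 : b = 0
      · rw [hb0]; exact Ideal.zero_mem _
      have hbK : algebraMap (X.presheaf.stalk x) X.functionField b ≠ 0 := by
        rw [Ne, map_eq_zero_iff _ hinj]; exact hb0
      have hh0 : algebraMap (X.presheaf.stalk x) X.functionField b * (f : X.functionField)⁻¹ ≠ 0 :=
        mul_ne_zero hbK (inv_ne_zero hf0)
      have hh : algebraMap (X.presheaf.stalk x) X.functionField b * (f : X.functionField)⁻¹ ∈ Ox x := by
        apply mem_Ox_of_forall_coheight_one hX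
        intro x' hx' hco
        rw [← ord_nonneg_iff hX x' hco _ hh0, ord_div' x' _ _ hbK hf0]
        have hbx' : algebraMap (X.presheaf.stalk x) X.functionField b ∈ Ox x' :=
          Ox_mono hx' ⟨b, rfl⟩
        by_cases hx'z : x' = z
        · subst hx'z
          have h1 : 1 ≤ Scheme.ord (algebraMap (X.presheaf.stalk x) X.functionField b) x' :=
            (one_le_ord_iff hX x' hco _ hbK).mpr ⟨hbx', (mem_qOf_iff hz b hb0).mp hb⟩
          rw [hordz]
          omega
        · have h1 : 0 ≤ Scheme.ord (algebraMap (X.presheaf.stalk x) X.functionField b) x' :=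
            (ord_nonneg_iff hX x' hco _ hbK).mpr hbx'
          rw [hord x' hx' hco hx'z]
          omega
      obtain ⟨c, hc⟩ := hh
      rw [Ideal.mem_span_singleton]
      refine ⟨c, ?_⟩
      apply hinj
      rw [map_mul, hc, hπ, mul_comm, mul_assoc, inv_mul_cancel₀ hf0, mul_one]
  have hprime : (Ideal.span {π}).IsPrime := by rw [hspan]; infer_instance
  exact ⟨π, hle hπz, (Ideal.span_singleton_prime hπ0).mp hprime⟩

end converse


section forward

variable {X : Scheme.{u}} [IsIntegral X] [IsLocallyNoetherian X] (hX : Pi1.IsNormalScheme X)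

theorem ord_pow' (x : X) (g : X.functionField) (hg : g ≠ 0) (n : ℕ) :
    Scheme.ord (g ^ n) x = n * Scheme.ord g x := by
  induction n with
  | zero => simp [ord_one']
  | succ n ih =>
    rw [pow_succ, Scheme.ord_mul (pow_ne_zero n hg) hg, ih]
    push_cast
    ring

include hX in
theorem exists_ord_eq_one (x₀ : X) (hx₀ : Order.coheight x₀ = 1) :
    ∃ ϖ : X.functionField, ϖ ≠ 0 ∧ Scheme.ord ϖ x₀ = 1 := by
  haveI := isDVR_of_coheight_one hX x₀ hx₀
  haveI : IsDomain (X.presheaf.stalk x₀) := (hX x₀).1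
  obtain ⟨ϖ, hϖ⟩ := IsDiscreteValuationRing.exists_irreducible (X.presheaf.stalk x₀)
  have hinj := IsFractionRing.injective (X.presheaf.stalk x₀) X.functionField
  have h0 : algebraMap (X.presheaf.stalk x₀) X.functionField ϖ ≠ 0 := by
    rw [Ne, map_eq_zero_iff _ hinj]; exact hϖ.ne_zero
  refine ⟨_, h0, ?_⟩
  rw [Scheme.ord_eq_iff hx₀ h0]
  haveI : Ring.KrullDimLE 1 (X.presheaf.stalk x₀) := krullDimLE_of_coheight_le hx₀.le
  have := Ring.ordFrac_irreducible (R := X.presheaf.stalk x₀) (K := X.functionField) hϖ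
  exact this

open Classical in
/-- validity of a representing function at `x` for the prime cycle `x₀` -/
def Valid (x₀ x : X) (π : KUnits X) : Prop :=
  ∀ x' : X, x' ⤳ x → Order.coheight x' = 1 →
    Scheme.ord (π : X.functionField) x' = if x' = x₀ then 1 else 0

theorem Valid.mono {x₀ x y : X} {π : KUnits X} (h : Valid x₀ x π) (hyx : y ⤳ x) :
    Valid x₀ y π := fun x' hx' hco => h x' (hx'.trans hyx) hco

theorem valid_one (x₀ x : X) (hx : ¬ x₀ ⤳ x) : Valid x₀ x 1 := by
  intro x' hx' hco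
  have hne : x' ≠ x₀ := by
    rintro rfl
    exact hx hx'
  rw [if_neg hne]
  exact ord_one' x'

include hX in
theorem Valid.germOf_eq {x₀ x : X} {π π' : KUnits X} (h : Valid x₀ x π) (h' : Valid x₀ x π') :
    germOf X x π = germOf X x π' := by
  rw [germOf_eq_iff, mem_stalkUnits_iff]
  have key : ∀ u : KUnits X, (∀ x' : X, x' ⤳ x → Order.coheight x' = 1 →
      Scheme.ord (u : X.functionField) x' = 0) → (u : X.functionField) ∈ Ox x := by
    intro u hu
    apply mem_Ox_of_forall_coheight_one hX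
    intro x' hx' hco
    exact ((ord_eq_zero_iff hX x' hco _ u.ne_zero).mp (hu x' hx' hco)).1
  constructor
  · apply key
    intro x' hx' hco
    rw [Units.val_mul, Scheme.ord_mul (Units.ne_zero _) (Units.ne_zero _),
      Units.val_inv_eq_inv_val, ord_inv x' _ π.ne_zero, h x' hx' hco, h' x' hx' hco]
    ring
  · apply key
    intro x' hx' hco
    rw [mul_inv_rev, inv_inv, Units.val_mul, Scheme.ord_mul (Units.ne_zero _) (Units.ne_zero _),
      Units.val_inv_eq_inv_val, ord_inv x' _ π'.ne_zero, h x' hx' hco, h' x' hx' hco]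
    ring


include hX in
theorem exists_valid_nhd (x₀ x : X) (hx₀ : Order.coheight x₀ = 1) (hx : x₀ ⤳ x)
    (hufd : UniqueFactorizationMonoid (X.presheaf.stalk x)) :
    ∃ (π : KUnits X) (U : X.Opens), x ∈ U ∧ ∀ y : X, y ∈ U → Valid x₀ y π := by
  classical
  haveI : IsDomain (X.presheaf.stalk x) := (hX x).1
  have hinj := IsFractionRing.injective (X.presheaf.stalk x) X.functionField
  have hx₀η : x₀ ≠ genericPoint X := by
    rintro rfl
    rw [coheight_genericPoint] at hx₀
    exact absurd hx₀ (by norm_num)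
  have hq0 : qOf x x₀ hx ≠ ⊥ := fun h0 => hx₀η (eq_genericPoint_of_qOf_eq_bot hx h0)
  obtain ⟨π₀, hπ₀q, hπ₀prime⟩ := Ideal.IsPrime.exists_mem_prime_of_ne_bot
    (inferInstance : (qOf x x₀ hx).IsPrime) hq0
  have hπ₀0 : π₀ ≠ 0 := hπ₀prime.ne_zero
  have hspan : Ideal.span {π₀} = qOf x x₀ hx := by
    haveI : (Ideal.span {π₀}).IsPrime := (Ideal.span_singleton_prime hπ₀0).mpr hπ₀prime
    obtain ⟨y, hy, hyq⟩ := exists_qOf_eq x (Ideal.span {π₀})
    have hle : qOf x y hy ≤ qOf x x₀ hx := by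
      rw [hyq, Ideal.span_singleton_le_iff_mem]; exact hπ₀q
    have hyx₀ : y ⤳ x₀ := specializes_of_qOf_le hy hx hle
    rcases eq_or_eq_genericPoint_of_specializes hx₀ hyx₀ with rfl | rfl
    · exact hyq.symm
    · exfalso
      rw [qOf_genericPoint] at hyq
      have : π₀ ∈ (⊥ : Ideal (X.presheaf.stalk x)) := by
        rw [hyq]; exact Ideal.mem_span_singleton_self π₀
      exact hπ₀0 this
  have hπK0 : algebraMap (X.presheaf.stalk x) X.functionField π₀ ≠ 0 := by
    rw [Ne, map_eq_zero_iff _ hinj]; exact hπ₀0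
  obtain ⟨π, hπ⟩ : ∃ π : KUnits X, (π : X.functionField) =
      algebraMap (X.presheaf.stalk x) X.functionField π₀ := ⟨Units.mk0 _ hπK0, rfl⟩
  -- elements outside `q` have order zero at `x₀`
  have hunit : ∀ c : X.presheaf.stalk x, c ≠ 0 → c ∉ qOf x x₀ hx →
      Scheme.ord (algebraMap (X.presheaf.stalk x) X.functionField c) x₀ = 0 := by
    intro c hc0 hcq
    have hcK : algebraMap (X.presheaf.stalk x) X.functionField c ≠ 0 := by
      rw [Ne, map_eq_zero_iff _ hinj]; exact hc0
    rw [ord_eq_zero_iff hX x₀ hx₀ _ hcK]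
    refine ⟨Ox_mono hx ⟨c, rfl⟩, ?_⟩
    by_contra hcon
    exact hcq ((mem_qOf_iff hx c hc0).mpr hcon)
  have he1 : 1 ≤ Scheme.ord (π : X.functionField) x₀ := by
    rw [one_le_ord_iff hX x₀ hx₀ _ π.ne_zero, hπ]
    exact ⟨Ox_mono hx ⟨π₀, rfl⟩, (mem_qOf_iff hx π₀ hπ₀0).mp hπ₀q⟩
  -- the order of any nonzero element of `O_x` at `x₀` is a multiple of `ord π`
  have hmult : ∀ c : X.presheaf.stalk x, c ≠ 0 → ∃ n : ℕ,
      Scheme.ord (algebraMap (X.presheaf.stalk x) X.functionField c) x₀ =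
        n * Scheme.ord (π : X.functionField) x₀ := by
    intro c hc0
    obtain ⟨n, c', hndvd, rfl⟩ := WfDvdMonoid.max_power_factor' hc0 hπ₀prime.not_isUnit
    have hc'0 : c' ≠ 0 := right_ne_zero_of_mul hc0
    have hc'q : c' ∉ qOf x x₀ hx := by
      rw [← hspan, Ideal.mem_span_singleton]; exact hndvd
    have hc'K : algebraMap (X.presheaf.stalk x) X.functionField c' ≠ 0 := by
      rw [Ne, map_eq_zero_iff _ hinj]; exact hc'0
    refine ⟨n, ?_⟩
    rw [map_mul, map_pow, Scheme.ord_mul (pow_ne_zero n hπK0) hc'K, hunit c' hc'0 hc'q,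
      ord_pow' x₀ _ hπK0, hπ, add_zero]
  have hord1 : Scheme.ord (π : X.functionField) x₀ = 1 := by
    obtain ⟨ϖ, hϖ0, hϖ⟩ := exists_ord_eq_one hX x₀ hx₀
    obtain ⟨a, b, hb, hab⟩ := IsFractionRing.div_surjective (A := X.presheaf.stalk x) ϖ
    have hb0 : b ≠ 0 := nonZeroDivisors.ne_zero hb
    have hbK : algebraMap (X.presheaf.stalk x) X.functionField b ≠ 0 := by
      rw [Ne, map_eq_zero_iff _ hinj]; exact hb0
    have ha0 : a ≠ 0 := by
      rintro rfl
      rw [map_zero, zero_div] at hab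
      exact hϖ0 hab.symm
    have haK : algebraMap (X.presheaf.stalk x) X.functionField a ≠ 0 := by
      rw [Ne, map_eq_zero_iff _ hinj]; exact ha0
    obtain ⟨n, hn⟩ := hmult a ha0
    obtain ⟨m, hm⟩ := hmult b hb0
    have h1 : Scheme.ord ϖ x₀ = Scheme.ord (algebraMap (X.presheaf.stalk x) X.functionField a) x₀ -
        Scheme.ord (algebraMap (X.presheaf.stalk x) X.functionField b) x₀ := by
      rw [← hab, div_eq_mul_inv, ord_div' x₀ _ _ haK hbK]
    rw [hϖ, hn, hm] at h1
    have h2 : Scheme.ord (π : X.functionField) x₀ ∣ 1 :=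
      ⟨(n : ℤ) - m, by rw [h1]; ring⟩
    exact Int.eq_one_of_dvd_one (by omega) h2
  -- other codimension one generizations of `x`
  have hother : ∀ x' : X, x' ⤳ x → Order.coheight x' = 1 → x' ≠ x₀ →
      (π : X.functionField)⁻¹ ∈ Ox x' := by
    intro x' hx' hco hne
    by_contra hcon
    rw [hπ] at hcon
    have h1 : π₀ ∈ qOf x x' hx' := (mem_qOf_iff hx' π₀ hπ₀0).mpr hcon
    have h2 : qOf x x₀ hx ≤ qOf x x' hx' := by
      rw [← hspan, Ideal.span_singleton_le_iff_mem]; exact h1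
    have h3 : x₀ ⤳ x' := specializes_of_qOf_le hx hx' h2
    rcases eq_or_eq_genericPoint_of_specializes hco h3 with h4 | h4
    · exact hne h4.symm
    · exact hx₀η h4
  -- the affine neighbourhood
  obtain ⟨_, ⟨U₀, hU₀', rfl⟩, hxU₀, -⟩ :=
    X.isBasis_affineOpens.exists_subset_of_mem_open (Set.mem_univ x) isOpen_univ
  have hU₀ : IsAffineOpen U₀ := hU₀'
  have hx₀U₀ : x₀ ∈ U₀ := hx.mem_open U₀.2 hxU₀
  haveI : IsNoetherianRing Γ(X, U₀) := IsLocallyNoetherian.component_noetherian ⟨U₀, hU₀⟩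
  haveI : Nonempty U₀ := ⟨⟨x, hxU₀⟩⟩
  obtain ⟨s, hs⟩ := (isNoetherianRing_iff_ideal_fg Γ(X, U₀)).1 inferInstance
    (hU₀.primeIdealOf ⟨x₀, hx₀U₀⟩).asIdeal
  have hgerm : ∀ (y : X) (hy : y ∈ U₀) (g : Γ(X, U₀)),
      algebraMap (X.presheaf.stalk y) X.functionField (X.presheaf.germ U₀ y hy g) =
        X.germToFunctionField U₀ g := fun y hy g =>
    Scheme.algebraMap_germ_eq_germToFunctionField X hy g
  have hmem_p : ∀ (y : X) (hy : y ∈ U₀) (g : Γ(X, U₀)),
      g ∈ (hU₀.primeIdealOf ⟨y, hy⟩).asIdeal ↔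
        X.presheaf.germ U₀ y hy g ∈ IsLocalRing.maximalIdeal (X.presheaf.stalk y) := by
    intro y hy g
    rw [hU₀.primeIdealOf_eq_map_closedPoint]
    rfl
  have hdiv : ∀ g ∈ s, X.germToFunctionField U₀ g * (π : X.functionField)⁻¹ ∈ Ox x := by
    intro g hg
    have hgp : g ∈ (hU₀.primeIdealOf ⟨x₀, hx₀U₀⟩).asIdeal := by
      rw [← hs]; exact Ideal.subset_span hg
    have h1 : X.presheaf.germ U₀ x hxU₀ g ∈ qOf x x₀ hx := by
      unfold qOf
      rw [Ideal.mem_comap]
      have h2 : (X.presheaf.stalkSpecializes hx).hom (X.presheaf.germ U₀ x hxU₀ g) =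
          X.presheaf.germ U₀ x₀ hx₀U₀ g := by
        have := X.presheaf.germ_stalkSpecializes hxU₀ hx
        exact congr($this g)
      rw [h2]
      exact (hmem_p x₀ hx₀U₀ g).mp hgp
    rw [← hspan, Ideal.mem_span_singleton] at h1
    obtain ⟨c, hc⟩ := h1
    refine ⟨c, ?_⟩
    rw [← hgerm x hxU₀ g, hc, map_mul, hπ, mul_comm (algebraMap _ _ π₀), mul_assoc,
      mul_inv_cancel₀ hπK0, mul_one]
  let W : Set X := (U₀ : Set X) ∩ ({y | (π : X.functionField) ∈ Ox y} ∩
    ⋂ g ∈ s, {y | X.germToFunctionField U₀ g * (π : X.functionField)⁻¹ ∈ Ox y})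
  have hWopen : IsOpen W :=
    U₀.2.inter ((isOpen_setOf_mem_Ox _).inter
      (isOpen_biInter_finset (fun g _ => isOpen_setOf_mem_Ox _)))
  have hxW : x ∈ W := by
    refine ⟨hxU₀, ?_, ?_⟩
    · rw [Set.mem_ofPred_eq, hπ]; exact ⟨π₀, rfl⟩
    · simp only [Set.mem_iInter, Set.mem_ofPred_eq]
      exact hdiv
  refine ⟨π, ⟨W, hWopen⟩, hxW, ?_⟩
  intro y hy x' hx' hco
  have hx'W : x' ∈ W := hx'.mem_open hWopen hy
  obtain ⟨hx'U₀, hπx', hgx'⟩ := hx'W
  simp only [Set.mem_iInter, Set.mem_ofPred_eq] at hgx' hπx'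
  by_cases hx'x₀ : x' = x₀
  · rw [if_pos hx'x₀, hx'x₀, hord1]
  rw [if_neg hx'x₀, ord_eq_zero_iff hX x' hco _ π.ne_zero]
  refine ⟨hπx', ?_⟩
  -- some generator of `p₀` is a unit at `x'`
  have hex : ∃ g ∈ s, g ∉ (hU₀.primeIdealOf ⟨x', hx'U₀⟩).asIdeal := by
    by_contra hcon
    push Not at hcon
    have h1 : (hU₀.primeIdealOf ⟨x₀, hx₀U₀⟩).asIdeal ≤ (hU₀.primeIdealOf ⟨x', hx'U₀⟩).asIdeal := by
      rw [← hs, Ideal.span_le]
      exact fun g hg => hcon g hg
    have h2 := (Hartogs.specializes_ptOf_iff hU₀ _ _).mpr h1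
    rw [Hartogs.ptOf_primeIdealOf, Hartogs.ptOf_primeIdealOf] at h2
    rcases eq_or_eq_genericPoint_of_specializes hco h2 with h4 | h4
    · exact hx'x₀ h4.symm
    · exact hx₀η h4
  obtain ⟨g, hgs, hgp⟩ := hex
  have hgunit : IsUnit (X.presheaf.germ U₀ x' hx'U₀ g) := by
    rw [hmem_p x' hx'U₀ g, IsLocalRing.mem_maximalIdeal, mem_nonunits_iff, not_not] at hgp
    exact hgp
  have hg0 : X.presheaf.germ U₀ x' hx'U₀ g ≠ 0 := hgunit.ne_zero
  have h5 := (isUnit_iff_inv_mem_Ox x' _ hg0).mp hgunit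
  rw [hgerm x' hx'U₀ g] at h5
  have hgK0 : X.germToFunctionField U₀ g ≠ 0 := by
    rw [← hgerm x' hx'U₀ g, Ne,
      map_eq_zero_iff _ (IsFractionRing.injective (X.presheaf.stalk x') X.functionField)]
    exact hg0
  have h6 := (Ox x').mul_mem (hgx' g hgs) h5
  have h7 : X.germToFunctionField U₀ g * (π : X.functionField)⁻¹ * (X.germToFunctionField U₀ g)⁻¹ =
      (π : X.functionField)⁻¹ := by
    rw [mul_comm (X.germToFunctionField U₀ g), mul_assoc, mul_inv_cancel₀ hgK0, mul_one]
  rwa [h7] at h6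


include hX in
theorem ord_eq_of_germOf_eq (x : X) (hx : Order.coheight x = 1) (π f : KUnits X)
    (h : germOf X x π = germOf X x f) :
    Scheme.ord (f : X.functionField) x = Scheme.ord (π : X.functionField) x := by
  rw [germOf_eq_iff, mem_stalkUnits_iff] at h
  have h0 := (ord_eq_zero_iff hX x hx _ (π⁻¹ * f).ne_zero).mpr
    ⟨h.1, by rw [← Units.val_inv_eq_inv_val]; exact h.2⟩
  have h1 : (f : X.functionField) = (π : X.functionField) * ((π⁻¹ * f : KUnits X) : X.functionField) := by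
    rw [← Units.val_mul, mul_inv_cancel_left]
  rw [h1, Scheme.ord_mul π.ne_zero (Units.ne_zero _), h0, add_zero]

include hX in
theorem exists_prime_divisor (hufd : ∀ x : X, UniqueFactorizationMonoid (X.presheaf.stalk x))
    (x₀ : X) (hx₀ : Order.coheight x₀ = 1) :
    ∃ D : Divisor X,
      (∀ f : KUnits X, D.1 x₀ = germOf X x₀ f → Scheme.ord (f : X.functionField) x₀ = 1) ∧
        ∀ x : X, x ≠ x₀ → Order.coheight x = 1 → ∀ f : KUnits X, D.1 x = germOf X x f →
          Scheme.ord (f : X.functionField) x = 0 := by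
  classical
  have hex : ∀ x : X, ∃ π : KUnits X, Valid x₀ x π := by
    intro x
    by_cases hx : x₀ ⤳ x
    · obtain ⟨π, U, hxU, hU⟩ := exists_valid_nhd hX x₀ x hx₀ hx (hufd x)
      exact ⟨π, hU x hxU⟩
    · exact ⟨1, valid_one x₀ x hx⟩
  choose π hπ using hex
  have hmem : (fun x => germOf X x (π x)) ∈ divisorGroup X := by
    intro x
    by_cases hx : x₀ ⤳ x
    · obtain ⟨π', U, hxU, hU⟩ := exists_valid_nhd hX x₀ x hx₀ hx (hufd x)
      exact ⟨U, π', hxU, fun y hy => (hπ y).germOf_eq hX (hU y hy)⟩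
    · refine ⟨⟨(closure {x₀})ᶜ, isClosed_closure.isOpen_compl⟩, 1, ?_, ?_⟩
      · exact fun hmem => hx (specializes_iff_mem_closure.mpr hmem)
      · intro y hy
        have : ¬ x₀ ⤳ y := fun h => hy (specializes_iff_mem_closure.mp h)
        exact (hπ y).germOf_eq hX (valid_one x₀ y this)
  refine ⟨⟨_, hmem⟩, ?_, ?_⟩
  · intro f hf
    rw [ord_eq_of_germOf_eq hX x₀ hx₀ (π x₀) f hf, hπ x₀ x₀ specializes_rfl hx₀, if_pos rfl]
  · intro x hne hco f hf
    rw [ord_eq_of_germOf_eq hX x hco (π x) f hf, hπ x x specializes_rfl hco, if_neg hne]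

include hX in
/-- **S2877** -/
theorem isLocallyFactorial_iff :
    (∀ x : X, UniqueFactorizationMonoid (X.presheaf.stalk x)) ↔
      ∀ x₀ : X, Order.coheight x₀ = 1 → ∃ D : Divisor X,
        (∀ f : KUnits X, D.1 x₀ = germOf X x₀ f → Scheme.ord (f : X.functionField) x₀ = 1) ∧
          ∀ x : X, x ≠ x₀ → Order.coheight x = 1 → ∀ f : KUnits X, D.1 x = germOf X x f →
            Scheme.ord (f : X.functionField) x = 0 :=
  ⟨fun h x₀ hx₀ => exists_prime_divisor hX h x₀ hx₀, fun H x => ufm_of_prime_cycles hX H x⟩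

end forward

end Groth.Agent.Lib.helper2.CDivLib
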