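import Mathlib
import Groth.Prelude.Def_TwC
import Groth.Prelude.Def_Red2

/-! Points of constant schemes `TwC.const S M` (helper2). -/

set_option autoImplicit false

namespace Groth.Agent.Lib.helper2.ConstPts

open CategoryTheory MonoidalCategory CartesianMonoidalCategory AlgebraicGeometry Limits

universe u v

section General

/-- a scheme whose ring of global functions is trivial is empty -/
theorem isEmpty_of_one_eq_zero (Y : Scheme.{u}) (h : (1 : Γ(Y, ⊤)) = 0) : IsEmpty Y := by
  refine ⟨fun y => ?_⟩
  have h1 := congrArg (Y.presheaf.germ ⊤ y trivial) h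
  rw [map_one, map_zero] at h1
  exact one_ne_zero h1

/-- a global function whose non-vanishing locus is everything is a unit -/
theorem isUnit_of_basicOpen_eq_top {Y : Scheme.{u}} (f : Γ(Y, ⊤)) (h : Y.basicOpen f = ⊤) :
    IsUnit f := by
  apply Y.toRingedSpace.isUnit_of_isUnit_germ
  intro x hx
  have hx' : x ∈ Y.basicOpen f := by rw [h]; trivial
  exact (Y.mem_basicOpen f x hx).1 hx'

variable {S : Scheme.{u}}

/-- gluing morphisms over `S` along an open cover of the source -/
theorem exists_glue {T Y : Over S} {ι : Type*} (U : ι → T.left.Opens)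
    (hU : TopologicalSpace.IsOpenCover U)
    (z : ∀ i, Over.mk ((U i).ι ≫ T.hom) ⟶ Y)
    (hz : ∀ i j, pullback.fst (U i).ι (U j).ι ≫ (z i).left =
      pullback.snd (U i).ι (U j).ι ≫ (z j).left) :
    ∃ w : T ⟶ Y, ∀ i, (Over.homMk (U i).ι rfl : Over.mk ((U i).ι ≫ T.hom) ⟶ T) ≫ w = z i := by
  let 𝒰 := T.left.openCoverOfIsOpenCover U hU
  let wl : T.left ⟶ Y.left := 𝒰.glueMorphisms (fun i => (z i).left) hz
  have hwl : ∀ i, (U i).ι ≫ wl = (z i).left := fun i => 𝒰.ι_glueMorphisms _ hz i
  have hw : wl ≫ Y.hom = T.hom := by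
    apply 𝒰.hom_ext
    intro i
    change (U i).ι ≫ wl ≫ Y.hom = (U i).ι ≫ T.hom
    rw [← Category.assoc, hwl]
    exact Over.w (z i)
  refine ⟨Over.homMk wl hw, fun i => ?_⟩
  apply Over.OverMorphism.ext
  exact hwl i

end General

section Const

variable {S : Scheme.{u}} {M : Type v} [Small.{u} M]

/-- the inclusion of the `m`-th copy -/
noncomputable abbrev inc (S : Scheme.{u}) (M : Type v) [Small.{u} M] (m : M) :
    S ⟶ (TwC.const S M).left := Sigma.ι (fun _ : M => S) m

instance (m : M) : IsOpenImmersion (inc S M m) :=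
  (sigmaOpenCover (fun _ : M => S)).map_prop m

lemma inc_hom (m : M) : inc S M m ≫ (TwC.const S M).hom = 𝟙 S := by
  simp

lemma pt_left (m : M) : (TwC.pt S M m).left = inc S M m := rfl

/-- a point of the constant scheme landing in the `m`-th copy is the constant point `m` -/
theorem eq_toUnit_pt {T : Over S} (v : T ⟶ TwC.const S M) (m : M)
    (hv : Set.range v.left.base ⊆ Set.range (inc S M m).base) :
    v = toUnit T ≫ TwC.pt S M m := by
  apply Over.OverMorphism.ext
  rw [Over.comp_left, Over.toUnit_left, pt_left]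
  have h1 := IsOpenImmersion.lift_fac (inc S M m) v.left hv
  have h2 : IsOpenImmersion.lift (inc S M m) v.left hv = T.hom := by
    have := Over.w v
    calc IsOpenImmersion.lift (inc S M m) v.left hv
        = IsOpenImmersion.lift (inc S M m) v.left hv ≫ inc S M m ≫ (TwC.const S M).hom := by
          rw [inc_hom, Category.comp_id]
      _ = v.left ≫ (TwC.const S M).hom := by rw [← Category.assoc, h1]
      _ = T.hom := this
  rw [← h2, h1]

/-- the open piece of `T` mapping into the `m`-th copy -/
noncomputable def piece {T : Over S} (w : T ⟶ TwC.const S M) (m : M) : T.left.Opens :=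
  w.left ⁻¹ᵁ (inc S M m).opensRange

theorem isOpenCover_piece {T : Over S} (w : T ⟶ TwC.const S M) :
    TopologicalSpace.IsOpenCover (piece w) := by
  apply TopologicalSpace.IsOpenCover.mk
  apply top_unique
  intro x _
  rw [TopologicalSpace.Opens.mem_iSup]
  obtain ⟨m, y, hy⟩ := (sigmaOpenCover (fun _ : M => S)).exists_eq (w.left.base x)
  exact ⟨m, y, hy⟩

/-- restricted to a subobject landing in `piece w m`, `w` is the constant point `m` -/
theorem comp_eq_of_le_piece {T T' : Over S} (w : T ⟶ TwC.const S M) (a : T' ⟶ T) (m : M)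
    (ha : ∀ x : T'.left, a.left.base x ∈ piece w m) :
    a ≫ w = toUnit T' ≫ TwC.pt S M m := by
  apply eq_toUnit_pt
  rintro _ ⟨x, rfl⟩
  have := ha x
  rw [Over.comp_left]
  exact this

end Const

end Groth.Agent.Lib.helper2.ConstPts
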