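import Mathlib
import Groth.Prelude.Def_TwC
import Groth.Agent.Lib.Helper2.ConstPts
import Groth.Agent.Lib.Helper2.SigmaFin

/-! Closed subschemes of constant schemes, quasi-compact over the base, are finite (helper2). -/

set_option autoImplicit false

namespace Groth.Agent.Lib.helper2.ConstFin

open CategoryTheory MonoidalCategory CartesianMonoidalCategory AlgebraicGeometry Limits
open Groth.Agent.Lib.helper2.ConstPts

universe u

section Local

variable {U : Scheme.{u}} {I : Type u} {Z : Scheme.{u}} (z : Z ⟶ (TwC.const U I).left)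

/-- the part of `Z ×_U V` lying over the `i`-th copy -/
noncomputable def part (V : U.Opens) (i : I) :
    (pullback (z ≫ (TwC.const U I).hom) V.ι).Opens :=
  (pullback.fst (z ≫ (TwC.const U I).hom) V.ι ≫ z) ⁻¹ᵁ (inc U I i).opensRange

lemma part_comm (V : U.Opens) (i : I) :
    ((part z V i).ι ≫ pullback.fst (z ≫ (TwC.const U I).hom) V.ι) ≫ z =
      ((part z V i).ι ≫ pullback.snd (z ≫ (TwC.const U I).hom) V.ι) ≫ V.ι ≫ inc U I i := by
  let r := (part z V i).ι ≫ pullback.snd (z ≫ (TwC.const U I).hom) V.ι
  let TO : Over U := Over.mk (r ≫ V.ι)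
  let v : TO ⟶ TwC.const U I := Over.homMk
    (((part z V i).ι ≫ pullback.fst (z ≫ (TwC.const U I).hom) V.ι) ≫ z) (by
      change (((part z V i).ι ≫ pullback.fst _ _) ≫ z) ≫ (TwC.const U I).hom = r ≫ V.ι
      simp only [Category.assoc, r]
      rw [← pullback.condition])
  have hv : Set.range v.left.base ⊆ Set.range (inc U I i).base := by
    rintro _ ⟨x, rfl⟩
    exact x.2
  have h := eq_toUnit_pt v i hv
  have h2 := congrArg (fun f => f.left) h
  simp only [Over.comp_left, Over.toUnit_left] at h2
  simpa [v, TO, r, pt_left] using h2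


theorem isClosedImmersion_part [IsClosedImmersion z] (V : U.Opens) (i : I) :
    IsClosedImmersion ((part z V i).ι ≫ pullback.snd (z ≫ (TwC.const U I).hom) V.ι) := by
  set q := z ≫ (TwC.const U I).hom with hq
  set r := (part z V i).ι ≫ pullback.snd q V.ι with hr
  let jv : (V : Scheme.{u}) ⟶ (TwC.const U I).left := V.ι ≫ inc U I i
  -- comparison maps
  let a : (part z V i : Scheme.{u}) ⟶ pullback z jv :=
    pullback.lift ((part z V i).ι ≫ pullback.fst q V.ι) r (part_comm z V i)
  have hcomm' : pullback.fst z jv ≫ q = pullback.snd z jv ≫ V.ι := by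
    rw [hq, ← Category.assoc, pullback.condition]
    simp only [jv, Category.assoc]
    rw [inc_hom, Category.comp_id]
  let b0 : pullback z jv ⟶ pullback q V.ι :=
    pullback.lift (pullback.fst z jv) (pullback.snd z jv) hcomm'
  have hb0 : Set.range b0.base ⊆ Set.range (part z V i).ι.base := by
    rintro _ ⟨y, rfl⟩
    rw [Scheme.Opens.range_ι]
    change (b0 ≫ pullback.fst q V.ι ≫ z).base y ∈ Set.range (inc U I i).base
    have : b0 ≫ pullback.fst q V.ι ≫ z = (pullback.snd z jv ≫ V.ι) ≫ inc U I i := by
      rw [← Category.assoc, pullback.lift_fst, pullback.condition]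
      simp only [jv, Category.assoc]
    rw [this]
    exact ⟨_, rfl⟩
  let b : pullback z jv ⟶ (part z V i : Scheme.{u}) := IsOpenImmersion.lift (part z V i).ι b0 hb0
  have hb : b ≫ (part z V i).ι = b0 := IsOpenImmersion.lift_fac _ _ _
  have hab : a ≫ b = 𝟙 _ := by
    rw [← cancel_mono (part z V i).ι, Category.assoc, hb, Category.id_comp]
    apply pullback.hom_ext
    · rw [Category.assoc, pullback.lift_fst, pullback.lift_fst]
    · rw [Category.assoc, pullback.lift_snd, pullback.lift_snd]
  have hba : b ≫ a = 𝟙 _ := by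
    apply pullback.hom_ext
    · rw [Category.assoc, pullback.lift_fst, ← Category.assoc, hb, pullback.lift_fst,
        Category.id_comp]
    · rw [Category.assoc, pullback.lift_snd, hr, ← Category.assoc, hb, pullback.lift_snd,
        Category.id_comp]
  have hiso : IsIso a := ⟨b, hab, hba⟩
  have hra : r = a ≫ pullback.snd z jv := (pullback.lift_snd _ _ _).symm
  rw [hra]
  infer_instance


theorem isOpenCover_part (V : U.Opens) : ⨆ i, part z V i = ⊤ := by
  apply top_unique
  intro x _
  rw [TopologicalSpace.Opens.mem_iSup]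
  obtain ⟨i, y, hy⟩ := (sigmaOpenCover (fun _ : I => U)).exists_eq
    ((pullback.fst (z ≫ (TwC.const U I).hom) V.ι ≫ z).base x)
  exact ⟨i, y, hy⟩

theorem disjoint_part (V : U.Opens) (i j : I) (h : i ≠ j) :
    Disjoint (part z V i) (part z V j) := by
  rw [disjoint_iff]
  apply bot_unique
  rintro x ⟨hx1, hx2⟩
  have hd := disjoint_opensRange_sigmaι (fun _ : I => U) i j h
  rw [disjoint_iff] at hd
  have : (pullback.fst (z ≫ (TwC.const U I).hom) V.ι ≫ z).base x ∈
      ((inc U I i).opensRange ⊓ (inc U I j).opensRange) := ⟨hx1, hx2⟩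
  rw [hd] at this
  exact this.elim

theorem isFinite_of_closedImmersion_const [IsClosedImmersion z]
    [QuasiCompact (z ≫ (TwC.const U I).hom)] : IsFinite (z ≫ (TwC.const U I).hom) := by
  classical
  set q := z ≫ (TwC.const U I).hom with hq
  rw [IsZariskiLocalAtTarget.iff_of_openCover (P := @IsFinite)
    (U.openCoverOfIsOpenCover (fun V : U.affineOpens => V.1) (iSup_affineOpens_eq_top U))]
  rintro ⟨V, hV⟩
  change IsFinite (pullback.snd q V.ι)
  haveI : IsAffine (V : Scheme.{u}) := hV
  haveI : CompactSpace ↥(pullback q V.ι) :=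
    QuasiCompact.compactSpace_of_compactSpace (pullback.snd q V.ι)
  -- finite subcover
  obtain ⟨t, ht⟩ := isCompact_univ.elim_finite_subcover
    (fun i => ((part z V i : (pullback q V.ι).Opens) : Set ↥(pullback q V.ι)))
    (fun i => (part z V i).isOpen) (by
      intro x _
      have hx : x ∈ ⨆ i, part z V i := by rw [isOpenCover_part]; trivial
      rw [TopologicalSpace.Opens.mem_iSup] at hx
      obtain ⟨i, hi⟩ := hx
      exact Set.mem_iUnion.2 ⟨i, hi⟩)
  let F : Type u := ↥t
  have hcov : ⨆ i : F, ((part z V i.1).ι).opensRange = ⊤ := by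
    apply top_unique
    intro x _
    rw [TopologicalSpace.Opens.mem_iSup]
    have hx := ht (Set.mem_univ x)
    simp only [Set.mem_iUnion] at hx
    obtain ⟨i, hi, hxi⟩ := hx
    refine ⟨⟨i, hi⟩, ?_⟩
    rw [Scheme.Opens.opensRange_ι]
    exact hxi
  have hdisj : Pairwise (Function.onFun Disjoint fun i : F => ((part z V i.1).ι).opensRange) := by
    intro i j hij
    change Disjoint ((part z V i.1).ι).opensRange ((part z V j.1).ι).opensRange
    rw [Scheme.Opens.opensRange_ι, Scheme.Opens.opensRange_ι]
    exact disjoint_part z V i.1 j.1 (fun h => hij (Subtype.ext h))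
  have hcol := nonempty_isColimit_cofanMk_of (fun i : F => (part z V i.1).ι) hcov hdisj
  rw [Cofan.nonempty_isColimit_iff_isIso_sigmaDesc] at hcol
  have hiso : IsIso (Sigma.desc (fun i : F => (part z V i.1).ι)) := hcol
  have hfin : IsFinite (Sigma.desc (fun i : F => (part z V i.1).ι ≫ pullback.snd q V.ι)) := by
    apply QuotLib.isFinite_sigmaDesc F
    intro i
    haveI := isClosedImmersion_part z V i.1
    infer_instance
  have heq : Sigma.desc (fun i : F => (part z V i.1).ι) ≫ pullback.snd q V.ι =
      Sigma.desc (fun i : F => (part z V i.1).ι ≫ pullback.snd q V.ι) := by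
    apply Sigma.hom_ext
    intro i
    rw [Sigma.ι_desc_assoc, Sigma.ι_desc]
  rw [← heq] at hfin
  exact (MorphismProperty.cancel_left_of_respectsIso @IsFinite _ _).1 hfin

end Local

end Groth.Agent.Lib.helper2.ConstFin
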