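import Mathlib
import Groth.Prelude.Def_TwC
import Groth.Agent.Lib.Helper2.ConstFin
import Groth.Agent.Lib.Helper4.AffineDescent
import Groth.Agent.Lib.Helper4.FpqcCoverDescent

/-! Closed subschemes of twisted constant schemes, quasi-compact over the base, are finite
(helper2). -/

set_option autoImplicit false

namespace Groth.Agent.Lib.helper2.ConstFin

open CategoryTheory MonoidalCategory CartesianMonoidalCategory AlgebraicGeometry Limits
open Groth.Agent.Lib.helper2.ConstPts Groth.Agent.Lib.Helper4.FpqcCoverDescent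

universe u

section Global

/-- finiteness of a base change passes to further base changes -/
theorem isFinite_snd_comp {X S T T' : Scheme.{u}} (π : X ⟶ S) (g : T ⟶ S) (h : T' ⟶ T)
    (H : IsFinite (pullback.snd π g)) : IsFinite (pullback.snd π (h ≫ g)) := by
  have sq' : IsPullback (pullback.fst (pullback.snd π g) h ≫ pullback.fst π g)
      (pullback.snd (pullback.snd π g) h) π (h ≫ g) :=
    (IsPullback.of_hasPullback (pullback.snd π g) h).paste_horiz (IsPullback.of_hasPullback π g)
  exact of_isPullback_iso @IsFinite sq' (IsPullback.of_hasPullback π (h ≫ g)) inferInstance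

variable {S : Scheme.{u}}

/-- the local step: over an open where `R` becomes constant, the base change of `Z` is finite -/
theorem isFinite_snd_of_iso (R : Over S) {Z : Scheme.{u}} (z : Z ⟶ R.left) [IsClosedImmersion z]
    [QuasiCompact (z ≫ R.hom)] {U : Scheme.{u}} (g : U ⟶ S) (I : Type u)
    (φ : Red.bc g R ≅ TwC.const U I) : IsFinite (pullback.snd (z ≫ R.hom) g) := by
  let zU : pullback (z ≫ R.hom) g ⟶ pullback R.hom g :=
    pullback.lift (pullback.fst (z ≫ R.hom) g ≫ z) (pullback.snd (z ≫ R.hom) g) (by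
      rw [Category.assoc, pullback.condition])
  have hzU : zU ≫ pullback.snd R.hom g = pullback.snd (z ≫ R.hom) g := pullback.lift_snd _ _ _
  have sq : IsPullback (pullback.fst (z ≫ R.hom) g) zU z (pullback.fst R.hom g) := by
    refine IsPullback.of_bot ?_ (pullback.lift_fst _ _ _).symm (IsPullback.of_hasPullback R.hom g)
    rw [hzU]
    exact IsPullback.of_hasPullback (z ≫ R.hom) g
  haveI : IsClosedImmersion zU := MorphismProperty.of_isPullback (P := @IsClosedImmersion) sq
    inferInstance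
  let z' : pullback (z ≫ R.hom) g ⟶ (TwC.const U I).left := zU ≫ φ.hom.left
  have hz' : z' ≫ (TwC.const U I).hom = pullback.snd (z ≫ R.hom) g := by
    have h1 : φ.hom.left ≫ (TwC.const U I).hom = pullback.snd R.hom g := Over.w φ.hom
    change (zU ≫ φ.hom.left) ≫ (TwC.const U I).hom = _
    rw [Category.assoc, h1, hzU]
  haveI : IsClosedImmersion z' := by
    haveI : IsIso φ.hom.left := inferInstance
    infer_instance
  haveI : QuasiCompact (z' ≫ (TwC.const U I).hom) := by
    rw [hz']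
    infer_instance
  have := isFinite_of_closedImmersion_const z'
  rwa [hz'] at this


theorem isFinite_of_isTwConst (R : Over S) (hR : TwC.IsTwConst TwC.Topology.fpqc R)
    {Z : Scheme.{u}} (z : Z ⟶ R.left) [IsClosedImmersion z] [QuasiCompact (z ≫ R.hom)] :
    IsFinite (z ≫ R.hom) := by
  classical
  obtain ⟨S', f, hflat, hsurj, hcov, hloc⟩ := hR
  -- per point of the cover
  have hQ : ∀ s' : S', ∃ U : S'.Opens, s' ∈ U ∧ IsFinite (pullback.snd (z ≫ R.hom) (U.ι ≫ f)) := by
    intro s'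
    obtain ⟨U, hU, I, ⟨φ⟩⟩ := hloc s'
    exact ⟨U, hU, isFinite_snd_of_iso R z (U.ι ≫ f) I φ⟩
  rw [IsZariskiLocalAtTarget.iff_of_openCover (P := @IsFinite) S.affineCover]
  intro j
  set ι := S.affineCover.f j with hι
  have hVaff : IsAffineOpen ι.opensRange := isAffineOpen_opensRange ι
  obtain ⟨W, hWc, hWV⟩ := hcov ι.opensRange hVaff
  have hA : ∀ w : W, ∃ A : S'.Opens, IsAffineOpen A ∧ w.1 ∈ A ∧ A ≤ W ∧
      IsFinite (pullback.snd (z ≫ R.hom) (A.ι ≫ f)) := by
    intro w
    obtain ⟨U, hwU, hfin⟩ := hQ w.1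
    obtain ⟨_, ⟨(A : S'.Opens), hAaff, rfl⟩, hwA, hAle⟩ :=
      S'.isBasis_affineOpens.exists_subset_of_mem_open
        (show w.1 ∈ ((U ⊓ W : S'.Opens) : Set S') from ⟨hwU, w.2⟩) (U ⊓ W).2
    have hAU : A ≤ U := fun x hx => (hAle hx).1
    have hAW : A ≤ W := fun x hx => (hAle hx).2
    refine ⟨A, hAaff, hwA, hAW, ?_⟩
    have : Scheme.Opens.ι A ≫ f = S'.homOfLE hAU ≫ (U.ι ≫ f) := by
      rw [← Category.assoc, Scheme.homOfLE_ι]
    rw [this]
    exact isFinite_snd_comp _ _ _ hfin
  choose A hAaff hwA hAW hAfin using hA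
  obtain ⟨t, ht⟩ := hWc.elim_finite_subcover (fun w : W => ((A w : S'.Opens) : Set S'))
    (fun w => (A w).isOpen) (fun x hx => Set.mem_iUnion.2 ⟨⟨x, hx⟩, hwA _⟩)
  -- the maps to the affine piece
  have hr : ∀ w : W, Set.range ((A w).ι ≫ f).base ⊆ Set.range ι.base := by
    intro w
    rintro _ ⟨x, rfl⟩
    have hx : ((A w).ι.base x) ∈ (W : Set S') := hAW w x.2
    have : f.base ((A w).ι.base x) ∈ f.base '' (W : Set S') := ⟨_, hx, rfl⟩
    rw [hWV] at this
    exact this
  let fk : ∀ k : t, ((A k.1 : S'.Opens) : Scheme.{u}) ⟶ S.affineCover.X j :=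
    fun k => IsOpenImmersion.lift ι ((A k.1).ι ≫ f) (hr k.1)
  have hfk : ∀ k : t, fk k ≫ ι = (A k.1).ι ≫ f := fun k => IsOpenImmersion.lift_fac _ _ _
  haveI : ∀ k : t, IsAffine ((A k.1 : S'.Opens) : Scheme.{u}) := fun k => hAaff k.1
  refine of_fpqc_finite_affine @IsFinite (pullback.snd (z ≫ R.hom) ι)
    (fun k : t => ((A k.1 : S'.Opens) : Scheme.{u})) fk ?_ ?_ ?_
  · intro k
    have h1 : Flat (fk k ≫ ι) := by
      rw [hfk]
      infer_instance
    exact MorphismProperty.of_postcomp (W := @Flat) (W' := @IsOpenImmersion) (fk k) ι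
      inferInstance h1
  · intro b
    have hb : ι.base b ∈ f.base '' (W : Set S') := by
      rw [hWV]
      exact ⟨b, rfl⟩
    obtain ⟨x, hxW, hx⟩ := hb
    have hx' := ht hxW
    simp only [Set.mem_iUnion] at hx'
    obtain ⟨w, hwt, hxw⟩ := hx'
    refine ⟨⟨w, hwt⟩, ⟨x, hxw⟩, ?_⟩
    apply ι.injective
    rw [← Scheme.Hom.comp_apply, hfk]
    rw [Scheme.Hom.comp_apply]
    exact hx
  · intro k
    refine ⟨pullback (pullback.snd (z ≫ R.hom) ι) (fk k), pullback.fst _ _, pullback.snd _ _,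
      IsPullback.of_hasPullback _ _, ?_⟩
    have sq' : IsPullback (pullback.fst (pullback.snd (z ≫ R.hom) ι) (fk k) ≫
        pullback.fst (z ≫ R.hom) ι) (pullback.snd (pullback.snd (z ≫ R.hom) ι) (fk k))
        (z ≫ R.hom) (fk k ≫ ι) :=
      (IsPullback.of_hasPullback (pullback.snd (z ≫ R.hom) ι) (fk k)).paste_horiz
        (IsPullback.of_hasPullback (z ≫ R.hom) ι)
    have h2 : IsFinite (pullback.snd (z ≫ R.hom) (fk k ≫ ι)) := by
      rw [hfk]
      exact hAfin k.1
    exact of_isPullback_iso @IsFinite (IsPullback.of_hasPullback (z ≫ R.hom) (fk k ≫ ι)) sq' h2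

end Global

end Groth.Agent.Lib.helper2.ConstFin
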