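import Mathlib
import Groth.Prelude.Def_TwC
import Groth.Agent.Lib.Helper2.ConstFin2

/-! Clopen subschemes of étale twisted constant schemes over a connected locally Noetherian base
with one finite fibre are finite (helper2). -/

set_option autoImplicit false

namespace Groth.Agent.Lib.helper2.ConstFin

open CategoryTheory MonoidalCategory CartesianMonoidalCategory AlgebraicGeometry Limits
open Groth.Agent.Lib.helper2.ConstPts Groth.Agent.Lib.Helper4.FpqcCoverDescent

universe u

section Topology

/-- in a Noetherian space connected components are open -/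
theorem isOpen_connectedComponent_of_noetherianSpace {α : Type*} [TopologicalSpace α]
    [TopologicalSpace.NoetherianSpace α] (x : α) : IsOpen (connectedComponent x) := by
  have hfin := TopologicalSpace.NoetherianSpace.finite_irreducibleComponents (α := α)
  have hcl : IsClosed (⋃₀ {Z ∈ irreducibleComponents α | Disjoint Z (connectedComponent x)}) := by
    rw [Set.sUnion_eq_biUnion]
    exact (hfin.subset (fun Z hZ => hZ.1)).isClosed_biUnion
      (fun Z hZ => isClosed_of_mem_irreducibleComponents Z hZ.1)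
  have heq : (connectedComponent x)ᶜ =
      ⋃₀ {Z ∈ irreducibleComponents α | Disjoint Z (connectedComponent x)} := by
    ext y
    constructor
    · intro hy
      have hy' : y ∈ ⋃₀ irreducibleComponents α := by
        rw [sUnion_irreducibleComponents]; trivial
      obtain ⟨Z, hZ, hyZ⟩ := hy'
      refine ⟨Z, ⟨hZ, ?_⟩, hyZ⟩
      rw [Set.disjoint_left]
      intro w hwZ hwC
      apply hy
      have hpre : IsPreconnected Z := hZ.1.2.isPreconnected
      have hsub := hpre.subset_connectedComponent hwZ
      rw [← connectedComponent_eq hwC] at hsub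
      exact hsub hyZ
    · rintro ⟨Z, ⟨_, hd⟩, hyZ⟩ hyC
      exact Set.disjoint_left.1 hd hyZ hyC
  rw [← isClosed_compl_iff, heq]
  exact hcl

end Topology

section Etale

theorem exists_preimage_of_isPullback {P X Y Z : Scheme.{u}} {fst : P ⟶ X} {snd : P ⟶ Y}
    {f : X ⟶ Z} {g : Y ⟶ Z} (sq : IsPullback fst snd f g) (x : X) (y : Y)
    (h : f.base x = g.base y) : ∃ p : P, fst.base p = x ∧ snd.base p = y := by
  obtain ⟨z, hz1, hz2⟩ := Scheme.Pullback.exists_preimage_pullback x y h
  refine ⟨sq.isoPullback.inv.base z, ?_, ?_⟩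
  · rw [← Scheme.Hom.comp_apply, sq.isoPullback_inv_fst]; exact hz1
  · rw [← Scheme.Hom.comp_apply, sq.isoPullback_inv_snd]; exact hz2

theorem locallyQuasiFinite_of_etale {X Y : Scheme.{u}} (g : X ⟶ Y) [Etale g] :
    LocallyQuasiFinite g := by
  refine ⟨fun {U} hU {V} hV e => ?_⟩
  have h := g.etale_appLE hU hV e
  algebraize [(g.appLE U V e).hom]
  have h2 : Algebra.Etale Γ(Y, U) Γ(X, V) := h
  rw [← (g.appLE U V e).hom.algebraMap_toAlgebra, RingHom.quasiFinite_algebraMap]
  infer_instance

/-- finite fibres are preserved by étale base change (pointwise) -/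
theorem finite_fibre_snd {X S S' : Scheme.{u}} [QuasiSeparatedSpace S] (f : X ⟶ S) (g : S' ⟶ S)
    [Etale g] (t' : S') (h : (f.base ⁻¹' {g.base t'}).Finite) :
    ((pullback.snd f g).base ⁻¹' {t'}).Finite := by
  obtain ⟨_, ⟨(A : S'.Opens), hA, rfl⟩, ht'A, -⟩ :=
    S'.isBasis_affineOpens.exists_subset_of_mem_open (Set.mem_univ t') isOpen_univ
  haveI : IsAffine (A : Scheme.{u}) := hA
  set hh : (A : Scheme.{u}) ⟶ S := A.ι ≫ g with hhdef
  haveI : Etale hh := by rw [hhdef]; infer_instance
  haveI : LocallyQuasiFinite hh := locallyQuasiFinite_of_etale hh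
  haveI : QuasiCompact hh := inferInstance
  have hfin : ((pullback.fst f hh).base ⁻¹' (f.base ⁻¹' {g.base t'})).Finite :=
    (pullback.fst f hh).finite_preimage h
  let e : pullback f hh ⟶ pullback f g :=
    pullback.lift (pullback.fst f hh) (pullback.snd f hh ≫ A.ι) (by
      rw [pullback.condition, hhdef, Category.assoc])
  refine (hfin.image e.base).subset ?_
  intro y hy
  have hy' : (pullback.snd f g).base y = t' := hy
  -- the square is a pullback
  have sq : IsPullback e (pullback.snd f hh) (pullback.snd f g) A.ι := by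
    refine IsPullback.of_right ?_ (pullback.lift_snd _ _ _) (IsPullback.of_hasPullback f g)
    rw [pullback.lift_fst]
    exact IsPullback.of_hasPullback f hh
  obtain ⟨w, hw1, hw2⟩ := exists_preimage_of_isPullback sq y ⟨t', ht'A⟩ (by
    rw [hy']; rfl)
  refine ⟨w, ?_, hw1⟩
  change f.base ((pullback.fst f hh).base w) = g.base t'
  have : (pullback.fst f hh).base w = (pullback.fst f g).base y := by
    rw [← hw1, ← Scheme.Hom.comp_apply, pullback.lift_fst]
  rw [this, ← Scheme.Hom.comp_apply, pullback.condition, Scheme.Hom.comp_apply, hy']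

end Etale

section Local2

variable {S : Scheme.{u}}

/-- from a trivialization, the immersion of the base change of `Z` into the constant scheme -/
theorem exists_immersion_const (P : Over S) {Z : Scheme.{u}} (z : Z ⟶ P.left)
    [IsClosedImmersion z] [IsOpenImmersion z] {U : Scheme.{u}} (g : U ⟶ S) (I : Type u)
    (φ : Red.bc g P ≅ TwC.const U I) :
    ∃ w : pullback (z ≫ P.hom) g ⟶ (TwC.const U I).left, IsClosedImmersion w ∧
      IsOpenImmersion w ∧ w ≫ (TwC.const U I).hom = pullback.snd (z ≫ P.hom) g := by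
  let zU : pullback (z ≫ P.hom) g ⟶ pullback P.hom g :=
    pullback.lift (pullback.fst (z ≫ P.hom) g ≫ z) (pullback.snd (z ≫ P.hom) g) (by
      rw [Category.assoc, pullback.condition])
  have hzU : zU ≫ pullback.snd P.hom g = pullback.snd (z ≫ P.hom) g := pullback.lift_snd _ _ _
  have sq : IsPullback (pullback.fst (z ≫ P.hom) g) zU z (pullback.fst P.hom g) := by
    refine IsPullback.of_bot ?_ (pullback.lift_fst _ _ _).symm (IsPullback.of_hasPullback P.hom g)
    rw [hzU]
    exact IsPullback.of_hasPullback (z ≫ P.hom) g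
  haveI : IsClosedImmersion zU := MorphismProperty.of_isPullback (P := @IsClosedImmersion) sq
    inferInstance
  haveI : IsOpenImmersion zU := MorphismProperty.of_isPullback (P := @IsOpenImmersion) sq
    inferInstance
  haveI : IsIso φ.hom.left := inferInstance
  refine ⟨zU ≫ φ.hom.left, inferInstance, inferInstance, ?_⟩
  have h1 : φ.hom.left ≫ (TwC.const U I).hom = pullback.snd P.hom g := Over.w φ.hom
  rw [Category.assoc, h1, hzU]

variable {U : Scheme.{u}} {I : Type u} {Z' : Scheme.{u}} (w : Z' ⟶ (TwC.const U I).left)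

/-- the locus of `U` over which the `i`-th copy lies in the image of `w` -/
def locus (i : I) : Set U := (inc U I i).base ⁻¹' Set.range w.base

lemma isOpen_locus [IsOpenImmersion w] (i : I) : IsOpen (locus w i) :=
  w.isOpenEmbedding.isOpen_range.preimage (inc U I i).continuous

lemma isClosed_locus [IsClosedImmersion w] (i : I) : IsClosed (locus w i) :=
  w.isClosedEmbedding.isClosed_range.preimage (inc U I i).continuous

lemma hom_inc_apply (i : I) (u : U) : (TwC.const U I).hom.base ((inc U I i).base u) = u := by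
  rw [← Scheme.Hom.comp_apply, inc_hom]; rfl

lemma part_eq_bot (V : U.Opens) (i : I) (h : Disjoint (V : Set U) (locus w i)) :
    part w V i = ⊥ := by
  apply bot_unique
  intro x hx
  exfalso
  obtain ⟨u, hu⟩ : ∃ u, (inc U I i).base u =
      (pullback.fst (w ≫ (TwC.const U I).hom) V.ι ≫ w).base x := hx
  have hu1 : u ∈ locus w i := by
    change (inc U I i).base u ∈ Set.range w.base
    rw [hu, Scheme.Hom.comp_apply]
    exact ⟨_, rfl⟩
  have hu2 : u ∈ (V : Set U) := by
    have h1 : u = (TwC.const U I).hom.base ((inc U I i).base u) := (hom_inc_apply i u).symm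
    rw [hu] at h1
    have h2 : (TwC.const U I).hom.base
        ((pullback.fst (w ≫ (TwC.const U I).hom) V.ι ≫ w).base x) =
        (pullback.snd (w ≫ (TwC.const U I).hom) V.ι ≫ V.ι).base x := by
      rw [← Scheme.Hom.comp_apply, Category.assoc, pullback.condition]
    rw [h2, Scheme.Hom.comp_apply] at h1
    rw [h1]
    exact ((pullback.snd (w ≫ (TwC.const U I).hom) V.ι).base x).2
  exact Set.disjoint_left.1 h hu2 hu1

theorem isFinite_snd_of_finite_locus [IsClosedImmersion w] (V : U.Opens) (t : Finset I)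
    (ht : ∀ i, i ∉ t → Disjoint (V : Set U) (locus w i)) :
    IsFinite (pullback.snd (w ≫ (TwC.const U I).hom) V.ι) := by
  classical
  set q := w ≫ (TwC.const U I).hom with hq
  let F : Type u := ↥t
  have hcov : ⨆ i : F, ((part w V i.1).ι).opensRange = ⊤ := by
    apply top_unique
    intro x _
    rw [TopologicalSpace.Opens.mem_iSup]
    have hx : x ∈ ⨆ i, part w V i := by rw [isOpenCover_part]; trivial
    rw [TopologicalSpace.Opens.mem_iSup] at hx
    obtain ⟨i, hi⟩ := hx
    have hit : i ∈ t := by
      by_contra hcon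
      rw [part_eq_bot w V i (ht i hcon)] at hi
      exact hi
    refine ⟨⟨i, hit⟩, ?_⟩
    rw [Scheme.Opens.opensRange_ι]
    exact hi
  have hdisj : Pairwise (Function.onFun Disjoint fun i : F => ((part w V i.1).ι).opensRange) := by
    intro i j hij
    change Disjoint ((part w V i.1).ι).opensRange ((part w V j.1).ι).opensRange
    rw [Scheme.Opens.opensRange_ι, Scheme.Opens.opensRange_ι]
    exact disjoint_part w V i.1 j.1 (fun h => hij (Subtype.ext h))
  have hcol := nonempty_isColimit_cofanMk_of (fun i : F => (part w V i.1).ι) hcov hdisj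
  rw [Cofan.nonempty_isColimit_iff_isIso_sigmaDesc] at hcol
  have hiso : IsIso (Sigma.desc (fun i : F => (part w V i.1).ι)) := hcol
  have hfin : IsFinite (Sigma.desc (fun i : F => (part w V i.1).ι ≫ pullback.snd q V.ι)) := by
    apply QuotLib.isFinite_sigmaDesc F
    intro i
    haveI := isClosedImmersion_part w V i.1
    infer_instance
  have heq : Sigma.desc (fun i : F => (part w V i.1).ι) ≫ pullback.snd q V.ι =
      Sigma.desc (fun i : F => (part w V i.1).ι ≫ pullback.snd q V.ι) := by
    apply Sigma.hom_ext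
    intro i
    rw [Sigma.ι_desc_assoc, Sigma.ι_desc]
  rw [← heq] at hfin
  exact (MorphismProperty.cancel_left_of_respectsIso @IsFinite _ _).1 hfin

/-- a finite fibre only meets finitely many copies -/
theorem finite_locus_of_finite_fibre (u : U)
    (h : ((w ≫ (TwC.const U I).hom).base ⁻¹' {u}).Finite) : {i | u ∈ locus w i}.Finite := by
  classical
  have hex : ∀ p : (TwC.const U I).left, ∃ i : I, p ∈ Set.range (inc U I i).base := by
    intro p
    obtain ⟨m, y, hy⟩ := (sigmaOpenCover (fun _ : I => U)).exists_eq p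
    exact ⟨m, y, hy⟩
  choose idx hidx using hex
  refine Set.Finite.of_surjOn (fun y : Z' => idx (w.base y)) ?_ h
  intro i hi
  obtain ⟨y, hy⟩ : ∃ y, w.base y = (inc U I i).base u := hi
  refine ⟨y, ?_, ?_⟩
  · change (w ≫ (TwC.const U I).hom).base y = u
    rw [Scheme.Hom.comp_apply, hy, hom_inc_apply]
  · change idx (w.base y) = i
    by_contra hne
    have hd := disjoint_opensRange_sigmaι (fun _ : I => U) (idx (w.base y)) i hne
    have h1 : w.base y ∈ Set.range (inc U I (idx (w.base y))).base := hidx _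
    have h2 : w.base y ∈ Set.range (inc U I i).base := ⟨u, hy.symm⟩
    exact Set.disjoint_left.1 (by
      have := hd
      rw [← TopologicalSpace.Opens.coe_disjoint] at this
      exact this) h1 h2

end Local2

section Global3

theorem isFinite_snd_of_snd_snd {X S T T' : Scheme.{u}} (π : X ⟶ S) (g : T ⟶ S) (h : T' ⟶ T)
    (H : IsFinite (pullback.snd (pullback.snd π g) h)) : IsFinite (pullback.snd π (h ≫ g)) := by
  have sq' : IsPullback (pullback.fst (pullback.snd π g) h ≫ pullback.fst π g)
      (pullback.snd (pullback.snd π g) h) π (h ≫ g) :=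
    (IsPullback.of_hasPullback (pullback.snd π g) h).paste_horiz (IsPullback.of_hasPullback π g)
  exact of_isPullback_iso @IsFinite sq' (IsPullback.of_hasPullback π (h ≫ g)) H

theorem exists_nhd_finite_or_infinite {S : Scheme.{u}} [IsLocallyNoetherian S] (P : Over S)
    (hP : TwC.IsTwConst TwC.Topology.etale P) {Z : Scheme.{u}} (z : Z ⟶ P.left)
    [IsOpenImmersion z] [IsClosedImmersion z] (x : S) :
    ∃ B : S.Opens, x ∈ B ∧ (IsFinite (pullback.snd (z ≫ P.hom) B.ι) ∨
      ∀ t ∈ B, ¬ ((z ≫ P.hom).base ⁻¹' {t}).Finite) := by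
  classical
  obtain ⟨S', g, hg, ⟨x', rfl⟩, I, ⟨φ⟩⟩ := hP x
  haveI := hg
  haveI : IsLocallyNoetherian S' := LocallyOfFiniteType.isLocallyNoetherian g
  set f := z ≫ P.hom with hf
  obtain ⟨w, hwc, hwo, hw⟩ : ∃ w : pullback f g ⟶ (TwC.const S' I).left, IsClosedImmersion w ∧
      IsOpenImmersion w ∧ w ≫ (TwC.const S' I).hom = pullback.snd f g :=
    exists_immersion_const P z g I φ
  haveI := hwc
  haveI := hwo
  obtain ⟨_, ⟨(A : S'.Opens), hA, rfl⟩, hx'A, -⟩ :=
    S'.isBasis_affineOpens.exists_subset_of_mem_open (Set.mem_univ x') isOpen_univ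
  haveI : IsNoetherianRing Γ(S', A) := IsLocallyNoetherian.component_noetherian ⟨A, hA⟩
  haveI : TopologicalSpace.NoetherianSpace A := noetherianSpace_of_isAffineOpen A hA
  let C : Set A := connectedComponent (⟨x', hx'A⟩ : A)
  have hCo : IsOpen C := isOpen_connectedComponent_of_noetherianSpace _
  let V : S'.Opens := ⟨Subtype.val '' C, A.isOpen.isOpenMap_subtype_val C hCo⟩
  have hx'V : x' ∈ V := ⟨⟨x', hx'A⟩, mem_connectedComponent, rfl⟩
  have hVpre : _root_.IsPreconnected (V : Set S') :=
    isPreconnected_connectedComponent.image _ continuous_subtype_val.continuousOn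
  have hconst : ∀ i, ∀ v ∈ V, (v ∈ locus w i ↔ x' ∈ locus w i) := by
    intro i v hv
    have hclopen : IsClopen (locus w i) := ⟨isClosed_locus w i, isOpen_locus w i⟩
    constructor
    · intro hvi
      by_contra hx
      have := hVpre.subset_isClopen hclopen.compl ⟨x', hx'V, hx⟩
      exact this hv hvi
    · intro hxi
      exact hVpre.subset_isClopen hclopen ⟨x', hx'V, hxi⟩ hv
  have hgV : IsOpen (g.base '' (V : Set S')) := g.isOpenMap _ V.isOpen
  obtain ⟨_, ⟨(B : S.Opens), hB, rfl⟩, hxB, hBV⟩ :=
    S.isBasis_affineOpens.exists_subset_of_mem_open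
      (show g.base x' ∈ g.base '' (V : Set S') from ⟨x', hx'V, rfl⟩) hgV
  refine ⟨B, hxB, ?_⟩
  by_cases hJ : {i | x' ∈ locus w i}.Finite
  · left
    have hfinV : IsFinite (pullback.snd (w ≫ (TwC.const S' I).hom) V.ι) :=
      isFinite_snd_of_finite_locus w V hJ.toFinset (fun i hi => by
        rw [Set.disjoint_left]
        intro v hvV hvi
        apply hi
        rw [Set.Finite.mem_toFinset]
        exact (hconst i v hvV).1 hvi)
    rw [hw] at hfinV
    have hfinV' : IsFinite (pullback.snd f (V.ι ≫ g)) := isFinite_snd_of_snd_snd f g V.ι hfinV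
    have hb : ∀ b : B, ∃ Ab : S'.Opens, IsAffineOpen Ab ∧ Ab ≤ V ∧
        (∀ a ∈ Ab, g.base a ∈ B) ∧ b.1 ∈ g.base '' (Ab : Set S') := by
      intro b
      obtain ⟨v, hvV, hvb⟩ := hBV b.2
      obtain ⟨_, ⟨(Ab : S'.Opens), hAb, rfl⟩, hvAb, hAble⟩ :=
        S'.isBasis_affineOpens.exists_subset_of_mem_open
          (show v ∈ ((V ⊓ g ⁻¹ᵁ B : S'.Opens) : Set S') from
            ⟨hvV, by change g.base v ∈ B; rw [hvb]; exact b.2⟩) (V ⊓ g ⁻¹ᵁ B).2
      exact ⟨Ab, hAb, fun a ha => (hAble ha).1, fun a ha => (hAble ha).2, ⟨v, hvAb, hvb⟩⟩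
    choose Ab hAbaff hAbV hAbB hbAb using hb
    obtain ⟨tt, htt⟩ := hB.isCompact.elim_finite_subcover
      (fun b : B => g.base '' ((Ab b : S'.Opens) : Set S'))
      (fun b => g.isOpenMap _ (Ab b).isOpen) (fun y hy => Set.mem_iUnion.2 ⟨⟨y, hy⟩, hbAb _⟩)
    haveI : IsAffine (B : Scheme.{u}) := hB
    haveI : ∀ k : tt, IsAffine ((Ab k.1 : S'.Opens) : Scheme.{u}) := fun k => hAbaff k.1
    let fk : ∀ k : tt, ((Ab k.1 : S'.Opens) : Scheme.{u}) ⟶ (B : Scheme.{u}) :=
      fun k => IsOpenImmersion.lift B.ι ((Ab k.1).ι ≫ g) (by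
        rintro _ ⟨a, rfl⟩
        rw [Scheme.Opens.range_ι]
        exact hAbB k.1 _ a.2)
    have hfk : ∀ k, fk k ≫ B.ι = (Ab k.1).ι ≫ g := fun k => IsOpenImmersion.lift_fac _ _ _
    refine of_fpqc_finite_affine @IsFinite (pullback.snd f B.ι)
      (fun k : tt => ((Ab k.1 : S'.Opens) : Scheme.{u})) fk ?_ ?_ ?_
    · intro k
      have h1 : Flat (fk k ≫ B.ι) := by
        rw [hfk]
        infer_instance
      exact MorphismProperty.of_postcomp (W := @Flat) (W' := @IsOpenImmersion) (fk k) B.ι
        inferInstance h1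
    · intro b
      have hb' := htt b.2
      simp only [Set.mem_iUnion] at hb'
      obtain ⟨b0, hb0, a, ha, hab⟩ := hb'
      refine ⟨⟨b0, hb0⟩, ⟨a, ha⟩, ?_⟩
      apply B.ι.injective
      rw [← Scheme.Hom.comp_apply, hfk, Scheme.Hom.comp_apply]
      exact hab
    · intro k
      refine ⟨pullback (pullback.snd f B.ι) (fk k), pullback.fst _ _, pullback.snd _ _,
        IsPullback.of_hasPullback _ _, ?_⟩
      have sq' : IsPullback (pullback.fst (pullback.snd f B.ι) (fk k) ≫ pullback.fst f B.ι)
          (pullback.snd (pullback.snd f B.ι) (fk k)) f (fk k ≫ B.ι) :=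
        (IsPullback.of_hasPullback (pullback.snd f B.ι) (fk k)).paste_horiz
          (IsPullback.of_hasPullback f B.ι)
      have h2 : IsFinite (pullback.snd f (fk k ≫ B.ι)) := by
        rw [hfk]
        have : Scheme.Opens.ι (Ab k.1) ≫ g = S'.homOfLE (hAbV k.1) ≫ (V.ι ≫ g) := by
          rw [← Category.assoc, Scheme.homOfLE_ι]
        rw [this]
        exact isFinite_snd_comp _ _ _ hfinV'
      exact of_isPullback_iso @IsFinite (IsPullback.of_hasPullback f (fk k ≫ B.ι)) sq' h2
  · right
    intro t htB hfin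
    obtain ⟨v, hvV, rfl⟩ := hBV htB
    have h1 := finite_fibre_snd f g v hfin
    rw [← hw] at h1
    have h2 := finite_locus_of_finite_fibre w v h1
    apply hJ
    convert h2 using 1
    ext i
    exact (hconst i v hvV).symm

theorem isFinite_of_clopen_of_finite_fibre {S : Scheme.{u}} [IsLocallyNoetherian S]
    [ConnectedSpace S] (P : Over S) (hP : TwC.IsTwConst TwC.Topology.etale P) {Z : Scheme.{u}}
    (z : Z ⟶ P.left) [IsOpenImmersion z] [IsClosedImmersion z]
    (hs : ∃ s : S, Set.Finite ((z ≫ P.hom).base ⁻¹' {s})) : IsFinite (z ≫ P.hom) := by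
  classical
  set f := z ≫ P.hom with hf
  have hCL := exists_nhd_finite_or_infinite P hP z
  choose B hxB hB using hCL
  let F : Set S := {t | (f.base ⁻¹' {t}).Finite}
  have hfib : ∀ x, IsFinite (pullback.snd f (B x).ι) → ((B x : S.Opens) : Set S) ⊆ F := by
    intro x hfin t ht
    haveI := hfin
    have h1 := (pullback.snd f (B x).ι).finite_preimage_singleton (⟨t, ht⟩ : (B x : S.Opens))
    refine (h1.image (pullback.fst f (B x).ι).base).subset ?_
    intro y hy
    obtain ⟨p, hp1, hp2⟩ := Scheme.Pullback.exists_preimage_pullback (f := f) (g := (B x).ι) y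
      ⟨t, ht⟩ (by
        have : f.base y = t := hy
        rw [this]; rfl)
    exact ⟨p, hp2, hp1⟩
  have hA : ∀ x, x ∈ F → IsFinite (pullback.snd f (B x).ι) := by
    intro x hx
    rcases hB x with h | h
    · exact h
    · exact absurd hx (h x (hxB x))
  have hopen : IsOpen F := by
    rw [isOpen_iff_forall_mem_open]
    intro x hx
    exact ⟨B x, hfib x (hA x hx), (B x).isOpen, hxB x⟩
  have hclosed : IsClosed F := by
    rw [← isOpen_compl_iff, isOpen_iff_forall_mem_open]
    intro x hx
    refine ⟨B x, ?_, (B x).isOpen, hxB x⟩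
    intro t ht htF
    rcases hB x with h | h
    · exact hx (hfib x h (hxB x))
    · exact h t ht htF
  have hF : F = Set.univ := IsClopen.eq_univ ⟨hclosed, hopen⟩ hs
  have hall : ∀ x, IsFinite (pullback.snd f (B x).ι) := fun x => hA x (by rw [hF]; trivial)
  rw [IsZariskiLocalAtTarget.iff_of_openCover (P := @IsFinite)
    (S.openCoverOfIsOpenCover B (by
      apply top_unique
      intro x _
      rw [TopologicalSpace.Opens.mem_iSup]
      exact ⟨x, hxB x⟩))]
  intro x
  exact hall x

end Global3

end Groth.Agent.Lib.helper2.ConstFin
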