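import Mathlib
import Groth.Agent.Lib.Helper2.LCNat9
import Groth.Agent.S11618

/-!
# helper2: local-to-global vanishing for local cohomology, composition of `HmapOfLE`
-/

set_option autoImplicit false
universe u

open CategoryTheory CategoryTheory.Limits Opposite

namespace Groth.Agent.Lib.helper2.LCNat

open Groth.Agent.Lib.helper19.LCBridge Groth.Agent.Lib.helper19.LCLes
  Groth.Agent.Lib.helper19.LCLes2 Groth.Agent.Lib.helper19.LCZero
  Groth.Agent.Lib.helper19.LCFactor

variable {R : Type u} [CommRing R] [IsNoetherianRing R]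

lemma HmapOfLE_refl_apply (I : Ideal R) (M : Type u) [AddCommGroup M] [Module R M] (i : ℕ)
    (x : LocCoh.H I i M) :
    ((Dual2.HmapOfLE (le_refl I) i).app (ModuleCat.of R M)).hom x = x := by
  obtain ⟨P⟩ := exists_thetaPack R M i
  obtain ⟨⟨e, he⟩, rfl⟩ := P.surj I x
  exact (P.compat I I (le_refl I) e he he).symm

lemma HmapOfLE_comp_apply {I I' I'' : Ideal R} (h : I ≤ I') (h' : I' ≤ I'')
    (M : Type u) [AddCommGroup M] [Module R M] (i : ℕ) (x : LocCoh.H I'' i M) :
    ((Dual2.HmapOfLE h i).app (ModuleCat.of R M)).hom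
      (((Dual2.HmapOfLE h' i).app (ModuleCat.of R M)).hom x) =
    ((Dual2.HmapOfLE (h.trans h') i).app (ModuleCat.of R M)).hom x := by
  obtain ⟨P⟩ := exists_thetaPack R M i
  obtain ⟨⟨e, he⟩, rfl⟩ := P.surj I'' x
  have he' : e ∈ Coc (rE R M) (rD R M) I' i := Coc_mono _ _ h' i he
  have he0 : e ∈ Coc (rE R M) (rD R M) I i := Coc_mono _ _ h i he'
  rw [← P.compat I' I'' h' e he he', ← P.compat I I' h e he' he0,
    ← P.compat I I'' (h.trans h') e he he0]

/-- if `H^i_{J+b}(M) = 0` then `b` acts injectively on `H^i_J(M)` -/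
lemma smul_injective_of_sup_subsingleton (J : Ideal R) (b : R) (M : Type u) [AddCommGroup M]
    [Module R M] (i : ℕ) (hs : Subsingleton (LocCoh.H (J ⊔ Ideal.span {b}) i M)) :
    Function.Injective (fun x : LocCoh.H J i M => b • x) := by
  intro x y hxy
  have hxy' : b • (x - y) = 0 := by
    rw [smul_sub]; exact sub_eq_zero.2 hxy
  obtain ⟨hex, -, -⟩ := brodmann_localization J b M i
  have hbij := smul_H_bijective J b (LocalizedModule (Submonoid.powers b) M)
    (smul_localized_bijective b M) i
  have h1 : ((localCohomology J i).map (ModuleCat.ofHom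
        (LocalizedModule.mkLinearMap (Submonoid.powers b) M))).hom (x - y) = 0 := by
    apply hbij.1
    show b • _ = b • _
    rw [← map_smul, hxy', map_zero, smul_zero]
  obtain ⟨z, hz⟩ := (hex (x - y)).1 h1
  have hz0 : z = 0 := Subsingleton.elim _ _
  rw [hz0, map_zero] at hz
  exact sub_eq_zero.1 hz.symm

/-- **local-to-global vanishing**: if `H^i_{pR_p}(N_p) = 0` for all primes `p ⊇ I`, then
`H^i_I(N) = 0`. -/
theorem H_subsingleton_of_local (I : Ideal R) (N : Type u) [AddCommGroup N] [Module R N] (i : ℕ)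
    (hloc : ∀ p : PrimeSpectrum R, I ≤ p.asIdeal →
      Subsingleton (LocCoh.H (IsLocalRing.maximalIdeal (Localization.AtPrime p.asIdeal)) i
        (LocalizedModule p.asIdeal.primeCompl N))) :
    Subsingleton (LocCoh.H I i N) := by
  by_contra hne
  obtain ⟨(J : Ideal R), ⟨hIJ, hJne⟩, hJmax⟩ := set_has_maximal_iff_noetherian.mpr
    (inferInstance : IsNoetherianRing R)
    { J : Ideal R | I ≤ J ∧ ¬ Subsingleton (LocCoh.H J i N) } ⟨I, le_refl I, hne⟩
  -- every `b ∉ J` acts injectively
  have hinj : ∀ b : R, b ∉ J → Function.Injective (fun x : LocCoh.H J i N => b • x) := by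
    intro b hb
    apply smul_injective_of_sup_subsingleton
    by_contra hns
    refine hJmax (J ⊔ Ideal.span {b}) ⟨hIJ.trans le_sup_left, hns⟩ ?_
    refine lt_of_le_of_ne le_sup_left ?_
    intro heq
    apply hb
    rw [heq]
    exact Ideal.mem_sup_right (Ideal.mem_span_singleton_self b)
  have hnt : Nontrivial (LocCoh.H J i N) := not_subsingleton_iff_nontrivial.1 hJne
  obtain ⟨p, hp⟩ := associatedPrimes.nonempty R (LocCoh.H J i N)
  rw [AssociatedPrimes.mem_iff, isAssociatedPrime_iff] at hp
  obtain ⟨hpp, x, hpx⟩ := hp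
  have hx0 : x ≠ 0 := by
    intro hx
    apply hpp.ne_top
    rw [hpx, hx]
    ext r
    simp [Submodule.mem_colon_singleton]
  have hJp : J = p := by
    apply le_antisymm
    · intro r hr
      obtain ⟨n, hn⟩ := H_powerTorsion J i (ModuleCat.of R N) x
      have h1 : r ^ n ∈ p := by
        rw [hpx, Submodule.mem_colon_singleton]
        exact (Submodule.mem_bot R).2 (hn _ (Ideal.pow_mem_pow hr n))
      exact hpp.mem_of_pow_mem n h1
    · intro r hr
      by_contra hrJ
      apply hx0
      apply hinj r hrJ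
      show r • x = r • 0
      rw [smul_zero]
      have : r ∈ Submodule.colon (⊥ : Submodule R (LocCoh.H J i N)) {x} := hpx ▸ hr
      rw [Submodule.mem_colon_singleton] at this
      exact (Submodule.mem_bot R).1 this
  subst hJp
  -- localize at `J`
  obtain ⟨e⟩ := Groth.Agent.S11618.result R J J.primeCompl N i
  have hsub : Subsingleton (LocCoh.H (Ideal.map (algebraMap R (Localization J.primeCompl)) J) i
      (LocalizedModule J.primeCompl N)) := by
    have := hloc ⟨J, hpp⟩ hIJ
    rw [← Localization.AtPrime.map_eq_maximalIdeal] at this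
    exact this
  have hsub2 : Subsingleton (LocalizedModule J.primeCompl (LocCoh.H J i N)) :=
    e.toEquiv.subsingleton
  apply hx0
  have h0 : LocalizedModule.mkLinearMap J.primeCompl (LocCoh.H J i N) x = 0 :=
    Subsingleton.elim _ _
  rw [LocalizedModule.mkLinearMap_apply, ← LocalizedModule.zero_mk 1,
    LocalizedModule.mk_eq] at h0
  obtain ⟨⟨s, hs⟩, hsx⟩ := h0
  apply hinj s hs
  show s • x = s • 0
  have h2 : (⟨s, hs⟩ : J.primeCompl) • (1 : J.primeCompl) • x =
      (⟨s, hs⟩ : J.primeCompl) • (1 : J.primeCompl) • (0 : LocCoh.H J i N) := hsx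
  rw [one_smul, one_smul] at h2
  exact h2

end Groth.Agent.Lib.helper2.LCNat
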