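import Mathlib
import Groth.Agent.Lib.Helper2.LCNat10

/-!
# helper2: vanishing of `H^i_a(M_b)` from local vanishing; comparison `H^i_{I'} → H^i_I`
-/

set_option autoImplicit false
universe u

open CategoryTheory CategoryTheory.Limits Opposite

namespace Groth.Agent.Lib.helper2.LCNat

open Groth.Agent.Lib.helper19.LCBridge Groth.Agent.Lib.helper19.LCLes
  Groth.Agent.Lib.helper19.LCLes2 Groth.Agent.Lib.helper19.LCZero
  Groth.Agent.Lib.helper19.LCFactor

variable {R : Type u} [CommRing R]

lemma pow_smul_mk_powers (b : R) (M : Type u) [AddCommGroup M] [Module R M] (m : M) (k : ℕ) :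
    b ^ k • (LocalizedModule.mk m (⟨b ^ k, k, rfl⟩ : Submonoid.powers b)) =
      LocalizedModule.mk m 1 := by
  rw [LocalizedModule.smul'_mk]
  exact LocalizedModule.mk_cancel (⟨b ^ k, k, rfl⟩ : Submonoid.powers b) m

/-- double localization: `M → M_b → (M_b)_p` is a localization at `p` when `b ∉ p` -/
lemma isLocalizedModule_comp_powers (p : Ideal R) [p.IsPrime] (b : R) (hb : b ∉ p)
    (M : Type u) [AddCommGroup M] [Module R M] :
    IsLocalizedModule p.primeCompl
      ((LocalizedModule.mkLinearMap p.primeCompl (LocalizedModule (Submonoid.powers b) M)) ∘ₗ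
        (LocalizedModule.mkLinearMap (Submonoid.powers b) M)) where
  map_units s := IsLocalizedModule.map_units
    (LocalizedModule.mkLinearMap p.primeCompl (LocalizedModule (Submonoid.powers b) M)) s
  surj y := by
    induction y using LocalizedModule.induction_on with
    | h y s =>
      induction y using LocalizedModule.induction_on with
      | h m t =>
        obtain ⟨t, k, rfl⟩ := t
        have hbk : b ^ k ∈ p.primeCompl :=
          fun h => hb (Ideal.IsPrime.mem_of_pow_mem inferInstance k h)
        refine ⟨⟨m, s * ⟨b ^ k, hbk⟩⟩, ?_⟩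
        simp only [LinearMap.coe_comp, Function.comp_apply, LocalizedModule.mkLinearMap_apply]
        rw [Submonoid.smul_def, LocalizedModule.smul'_mk, LocalizedModule.mk_eq]
        refine ⟨1, ?_⟩
        rw [one_smul, one_smul, one_smul]
        show ((s : R) * b ^ k) • LocalizedModule.mk m (⟨b ^ k, k, rfl⟩ : Submonoid.powers b) = _
        rw [mul_smul, pow_smul_mk_powers]
        rfl
  exists_of_eq {m₁ m₂} h := by
    simp only [LinearMap.coe_comp, Function.comp_apply, LocalizedModule.mkLinearMap_apply] at h
    rw [LocalizedModule.mk_eq] at h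
    obtain ⟨u, hu⟩ := h
    rw [one_smul, one_smul, Submonoid.smul_def, Submonoid.smul_def, LocalizedModule.smul'_mk,
      LocalizedModule.smul'_mk, LocalizedModule.mk_eq] at hu
    obtain ⟨⟨v, k, rfl⟩, hv⟩ := hu
    have hbk : b ^ k ∈ p.primeCompl :=
      fun h => hb (Ideal.IsPrime.mem_of_pow_mem inferInstance k h)
    refine ⟨⟨b ^ k, hbk⟩ * u, ?_⟩
    have hv' : b ^ k • (1 : Submonoid.powers b) • (u : R) • m₁ =
        b ^ k • (1 : Submonoid.powers b) • (u : R) • m₂ := hv
    rw [one_smul, one_smul] at hv'
    show (b ^ k * (u : R)) • m₁ = (b ^ k * (u : R)) • m₂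
    rw [mul_smul, mul_smul, hv']

/-- `(M_b)_p ≅ M_p` over `R_p` when `b ∉ p` -/
lemma nonempty_equiv_double_loc (p : Ideal R) [p.IsPrime] (b : R) (hb : b ∉ p)
    (M : Type u) [AddCommGroup M] [Module R M] :
    Nonempty (LocalizedModule p.primeCompl (LocalizedModule (Submonoid.powers b) M)
      ≃ₗ[Localization.AtPrime p] LocalizedModule p.primeCompl M) := by
  haveI := isLocalizedModule_comp_powers p b hb M
  exact ⟨((IsLocalizedModule.iso p.primeCompl
    ((LocalizedModule.mkLinearMap p.primeCompl (LocalizedModule (Submonoid.powers b) M)) ∘ₗ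
        (LocalizedModule.mkLinearMap (Submonoid.powers b) M))).extendScalarsOfIsLocalization
      p.primeCompl (Localization.AtPrime p)).symm⟩

/-- `b` acts bijectively on `(M_b)_S` -/
lemma smul_double_loc_bijective [IsNoetherianRing R] (S : Submonoid R) (b : R)
    (M : Type u) [AddCommGroup M] [Module R M] :
    Function.Bijective (fun t : LocalizedModule S (LocalizedModule (Submonoid.powers b) M) =>
      b • t) := by
  have hb := smul_localized_bijective b M
  constructor
  · intro x y hxy
    induction x using LocalizedModule.induction_on with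
    | h x s =>
      induction y using LocalizedModule.induction_on with
      | h y t =>
        have hxy' : b • LocalizedModule.mk x s = b • LocalizedModule.mk y t := hxy
        rw [LocalizedModule.smul'_mk, LocalizedModule.smul'_mk, LocalizedModule.mk_eq] at hxy'
        obtain ⟨u, hu⟩ := hxy'
        rw [LocalizedModule.mk_eq]
        refine ⟨u, ?_⟩
        apply hb.1
        show b • u • t • x = b • u • s • y
        rw [Submonoid.smul_def, Submonoid.smul_def, Submonoid.smul_def, Submonoid.smul_def] at hu ⊢
        rw [smul_comm b, smul_comm b, hu, smul_comm _ b, smul_comm _ b]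
  · intro y
    induction y using LocalizedModule.induction_on with
    | h y t =>
      obtain ⟨x, rfl⟩ := hb.2 y
      exact ⟨LocalizedModule.mk x t, (LocalizedModule.smul'_mk b x t)⟩

section Noeth

variable [IsNoetherianRing R]

/-- **Step**: `H^i_a(M_b) = 0` if `H^i_{pR_p}(M_p) = 0` for all primes `p ⊇ a` with `b ∉ p`. -/
theorem H_loc_subsingleton (a : Ideal R) (b : R) (M : Type u) [AddCommGroup M] [Module R M]
    (i : ℕ)
    (hloc : ∀ p : PrimeSpectrum R, a ≤ p.asIdeal → b ∉ p.asIdeal →
      Subsingleton (LocCoh.H (IsLocalRing.maximalIdeal (Localization.AtPrime p.asIdeal)) i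
        (LocalizedModule p.asIdeal.primeCompl M))) :
    Subsingleton (LocCoh.H a i (LocalizedModule (Submonoid.powers b) M)) := by
  apply H_subsingleton_of_local
  intro p hap
  by_cases hb : b ∈ p.asIdeal
  · apply H_subsingleton_of_smul_bijective _ (algebraMap R (Localization.AtPrime p.asIdeal) b)
    · rw [← Localization.AtPrime.map_eq_maximalIdeal]
      exact Ideal.mem_map_of_mem _ hb
    · have h := smul_double_loc_bijective p.asIdeal.primeCompl b M
      have h2 : (fun t : LocalizedModule p.asIdeal.primeCompl
            (LocalizedModule (Submonoid.powers b) M) =>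
          algebraMap R (Localization.AtPrime p.asIdeal) b • t) = fun t => b • t := by
        funext t
        exact algebraMap_smul _ b t
      rw [h2]
      exact h
  · obtain ⟨e⟩ := nonempty_equiv_double_loc p.asIdeal b hb M
    have hs := hloc p hap hb
    exact ((localCohomology (IsLocalRing.maximalIdeal (Localization.AtPrime p.asIdeal)) i).mapIso
      e.toModuleIso).toLinearEquiv.toEquiv.subsingleton

end Noeth

end Groth.Agent.Lib.helper2.LCNat
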