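import Mathlib
import Groth.Agent.Lib.Helper2.LCNat11

/-!
# helper2: comparison `H^i_{I'} → H^i_I` is surjective / injective under local vanishing
-/

set_option autoImplicit false
universe u

open CategoryTheory CategoryTheory.Limits Opposite

namespace Groth.Agent.Lib.helper2.LCNat

variable {R : Type u} [CommRing R] [IsNoetherianRing R]

/-- one-generator step, surjectivity -/
lemma HmapOfLE_sup_span_surjective (a : Ideal R) (b : R) (M : Type u) [AddCommGroup M]
    [Module R M] (i : ℕ)
    (hloc : ∀ p : PrimeSpectrum R, a ≤ p.asIdeal → b ∉ p.asIdeal →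
      Subsingleton (LocCoh.H (IsLocalRing.maximalIdeal (Localization.AtPrime p.asIdeal)) i
        (LocalizedModule p.asIdeal.primeCompl M))) :
    Function.Surjective ((Dual2.HmapOfLE (le_sup_left : a ≤ a ⊔ Ideal.span {b}) i).app
      (ModuleCat.of R M)).hom := by
  have hs := H_loc_subsingleton a b M i hloc
  obtain ⟨hex, -, -⟩ := brodmann_localization a b M i
  intro x
  exact (hex x).1 (Subsingleton.elim _ _)

/-- one-generator step, injectivity -/
lemma HmapOfLE_sup_span_injective (a : Ideal R) (b : R) (M : Type u) [AddCommGroup M]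
    [Module R M] (i : ℕ)
    (hloc : ∀ p : PrimeSpectrum R, a ≤ p.asIdeal → b ∉ p.asIdeal → ∀ j : ℕ, j + 1 = i →
      Subsingleton (LocCoh.H (IsLocalRing.maximalIdeal (Localization.AtPrime p.asIdeal)) j
        (LocalizedModule p.asIdeal.primeCompl M))) :
    Function.Injective ((Dual2.HmapOfLE (le_sup_left : a ≤ a ⊔ Ideal.span {b}) i).app
      (ModuleCat.of R M)).hom := by
  cases i with
  | zero => exact HmapOfLE_zero_injective M le_sup_left
  | succ j =>
    have hs := H_loc_subsingleton a b M j (fun p hp hb => hloc p hp hb j rfl)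
    obtain ⟨-, -, ⟨e⟩⟩ := brodmann_localization a b M j
    have hsub : Subsingleton (LinearMap.ker ((Dual2.HmapOfLE
        (le_sup_left : a ≤ a ⊔ Ideal.span {b}) (j + 1)).app (ModuleCat.of R M)).hom) :=
      e.symm.toEquiv.subsingleton
    rw [injective_iff_map_eq_zero]
    intro x hx
    have : (⟨x, hx⟩ : LinearMap.ker ((Dual2.HmapOfLE
        (le_sup_left : a ≤ a ⊔ Ideal.span {b}) (j + 1)).app (ModuleCat.of R M)).hom) = 0 :=
      Subsingleton.elim _ _
    exact congrArg Subtype.val this

/-- general comparison, by induction on a generating set of `I'` over `I` -/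
theorem HmapOfLE_surj_inj_aux (M : Type u) [AddCommGroup M] [Module R M] (i : ℕ) (s : Finset R) :
    ∀ (I I' : Ideal R) (h : I ≤ I'), I' = I ⊔ Ideal.span (s : Set R) →
    ((∀ p : PrimeSpectrum R, I ≤ p.asIdeal → ¬ I' ≤ p.asIdeal →
      Subsingleton (LocCoh.H (IsLocalRing.maximalIdeal (Localization.AtPrime p.asIdeal)) i
        (LocalizedModule p.asIdeal.primeCompl M))) →
      Function.Surjective ((Dual2.HmapOfLE h i).app (ModuleCat.of R M)).hom) ∧
    ((∀ p : PrimeSpectrum R, I ≤ p.asIdeal → ¬ I' ≤ p.asIdeal → ∀ j : ℕ, j + 1 = i →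
      Subsingleton (LocCoh.H (IsLocalRing.maximalIdeal (Localization.AtPrime p.asIdeal)) j
        (LocalizedModule p.asIdeal.primeCompl M))) →
      Function.Injective ((Dual2.HmapOfLE h i).app (ModuleCat.of R M)).hom) := by
  classical
  induction s using Finset.induction_on with
  | empty =>
    intro I I' h hI'
    have hI : I' = I := by simpa using hI'
    subst hI
    have hid : ((Dual2.HmapOfLE h i).app (ModuleCat.of R M)).hom = LinearMap.id := by
      ext x
      exact HmapOfLE_refl_apply I' M i x
    rw [hid]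
    exact ⟨fun _ => Function.surjective_id, fun _ => Function.injective_id⟩
  | insert b t hbt ih =>
    intro I I' h hI'
    have h1 : I ⊔ Ideal.span {b} ≤ I' := by
      rw [hI']
      refine sup_le le_sup_left (le_sup_of_le_right (Ideal.span_mono ?_))
      simp
    have h2 : I' = (I ⊔ Ideal.span {b}) ⊔ Ideal.span (t : Set R) := by
      rw [hI', Finset.coe_insert, Set.insert_eq, Ideal.span_union, sup_assoc]
    have hbI' : b ∈ I' := h1 (Ideal.mem_sup_right (Ideal.mem_span_singleton_self b))
    obtain ⟨ihs, ihi⟩ := ih (I ⊔ Ideal.span {b}) I' h1 h2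
    have hcomp : ∀ x, ((Dual2.HmapOfLE h i).app (ModuleCat.of R M)).hom x =
        ((Dual2.HmapOfLE (le_sup_left : I ≤ I ⊔ Ideal.span {b}) i).app (ModuleCat.of R M)).hom
          (((Dual2.HmapOfLE h1 i).app (ModuleCat.of R M)).hom x) :=
      fun x => (HmapOfLE_comp_apply le_sup_left h1 M i x).symm
    constructor
    · intro hloc
      have hA := HmapOfLE_sup_span_surjective I b M i
        (fun p hp hb => hloc p hp (fun hle => hb (hle hbI')))
      have hB := ihs (fun p hp hnp => hloc p (le_sup_left.trans hp) hnp)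
      intro y
      obtain ⟨z, rfl⟩ := hA y
      obtain ⟨w, rfl⟩ := hB z
      exact ⟨w, hcomp w⟩
    · intro hloc
      have hA := HmapOfLE_sup_span_injective I b M i
        (fun p hp hb => hloc p hp (fun hle => hb (hle hbI')))
      have hB := ihi (fun p hp hnp => hloc p (le_sup_left.trans hp) hnp)
      intro x y hxy
      rw [hcomp x, hcomp y] at hxy
      exact hB (hA hxy)

theorem HmapOfLE_surj_inj (I I' : Ideal R) (h : I ≤ I') (M : Type u) [AddCommGroup M]
    [Module R M] (i : ℕ) :
    ((∀ p : PrimeSpectrum R, I ≤ p.asIdeal → ¬ I' ≤ p.asIdeal →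
      Subsingleton (LocCoh.H (IsLocalRing.maximalIdeal (Localization.AtPrime p.asIdeal)) i
        (LocalizedModule p.asIdeal.primeCompl M))) →
      Function.Surjective ((Dual2.HmapOfLE h i).app (ModuleCat.of R M)).hom) ∧
    ((∀ p : PrimeSpectrum R, I ≤ p.asIdeal → ¬ I' ≤ p.asIdeal → ∀ j : ℕ, j + 1 = i →
      Subsingleton (LocCoh.H (IsLocalRing.maximalIdeal (Localization.AtPrime p.asIdeal)) j
        (LocalizedModule p.asIdeal.primeCompl M))) →
      Function.Injective ((Dual2.HmapOfLE h i).app (ModuleCat.of R M)).hom) := by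
  obtain ⟨s, hs⟩ := (isNoetherianRing_iff_ideal_fg R).1 inferInstance I'
  refine HmapOfLE_surj_inj_aux M i s I I' h ?_
  rw [hs]
  exact (sup_eq_right.2 h).symm

end Groth.Agent.Lib.helper2.LCNat
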