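import Mathlib

/-!
# helper2: a finiteness property of Artinian modules over a Noetherian local ring

For an Artinian module `L` over a Noetherian local ring `(R, m)` there is a finite set `s` of
non-maximal primes such that for every `x ∈ m` avoiding all primes of `s`, some power `m ^ k`
maps `L` into `x L`.  (This is the elementary core of the theory of secondary representations.)
-/

set_option autoImplicit false
universe u v

open IsLocalRing

namespace Groth.Agent.Lib.helper2.GNV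

variable {R : Type u} [CommRing R] [IsLocalRing R]
variable {L : Type v} [AddCommGroup L] [Module R L]

/-- the property, for a submodule -/
def Good (N : Submodule R L) : Prop :=
  ∃ s : Finset (Ideal R), (∀ p ∈ s, p.IsPrime ∧ p ≠ maximalIdeal R) ∧
    ∀ x ∈ maximalIdeal R, (∀ p ∈ s, x ∉ p) →
      ∃ k : ℕ, ∀ a ∈ (maximalIdeal R) ^ k, ∀ l ∈ N, ∃ l' ∈ N, a • l = x • l'

lemma good_sup {N₁ N₂ : Submodule R L} (h₁ : Good N₁) (h₂ : Good N₂) : Good (N₁ ⊔ N₂) := by
  classical
  obtain ⟨s₁, hs₁, H₁⟩ := h₁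
  obtain ⟨s₂, hs₂, H₂⟩ := h₂
  refine ⟨s₁ ∪ s₂, ?_, ?_⟩
  · intro p hp
    rcases Finset.mem_union.mp hp with h | h
    · exact hs₁ p h
    · exact hs₂ p h
  · intro x hx hxs
    obtain ⟨k₁, hk₁⟩ := H₁ x hx (fun p hp => hxs p (Finset.mem_union_left _ hp))
    obtain ⟨k₂, hk₂⟩ := H₂ x hx (fun p hp => hxs p (Finset.mem_union_right _ hp))
    refine ⟨max k₁ k₂, ?_⟩
    intro a ha l hl
    obtain ⟨l₁, hl₁, l₂, hl₂, rfl⟩ := Submodule.mem_sup.mp hl
    obtain ⟨l₁', hl₁', e₁⟩ := hk₁ a (Ideal.pow_le_pow_right (le_max_left _ _) ha) l₁ hl₁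
    obtain ⟨l₂', hl₂', e₂⟩ := hk₂ a (Ideal.pow_le_pow_right (le_max_right _ _) ha) l₂ hl₂
    refine ⟨l₁' + l₂', Submodule.add_mem_sup hl₁' hl₂', ?_⟩
    rw [smul_add, smul_add, e₁, e₂]

/-- `r` acts surjectively on `N` -/
def Surj (N : Submodule R L) (r : R) : Prop := ∀ l ∈ N, ∃ l' ∈ N, l = r • l'

/-- `r` acts nilpotently on `N` -/
def Nil (N : Submodule R L) (r : R) : Prop := ∃ k : ℕ, ∀ l ∈ N, r ^ k • l = 0

lemma surj_pow {N : Submodule R L} {r : R} (h : Surj N r) (k : ℕ) : Surj N (r ^ k) := by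
  induction k with
  | zero => intro l hl; exact ⟨l, hl, by simp⟩
  | succ k ih =>
    intro l hl
    obtain ⟨l', hl', rfl⟩ := ih l hl
    obtain ⟨l'', hl'', rfl⟩ := h l' hl'
    exact ⟨l'', hl'', by rw [pow_succ, mul_smul]⟩

lemma surj_or_nil [IsArtinian R L] (N : Submodule R L)
    (hirr : ∀ N₁ N₂ : Submodule R L, N₁ ⊔ N₂ = N → N₁ = N ∨ N₂ = N) (r : R) :
    Surj N r ∨ Nil N r := by
  obtain ⟨n, hn⟩ := IsArtinian.range_smul_pow_stabilizes N r
  -- stabilization in element form
  have hstab : ∀ m, n ≤ m → ∀ l ∈ N, ∃ z ∈ N, r ^ m • z = r ^ n • l := by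
    intro m hm l hl
    have h1 : (r ^ n • (⟨l, hl⟩ : N)) ∈ LinearMap.range (r ^ n • LinearMap.id : N →ₗ[R] N) :=
      ⟨⟨l, hl⟩, rfl⟩
    rw [hn m hm] at h1
    obtain ⟨z, hz⟩ := h1
    refine ⟨z.1, z.2, ?_⟩
    have := congrArg Subtype.val hz
    simpa using this
  let N₁ : Submodule R L := N.map (r ^ n • LinearMap.id : L →ₗ[R] L)
  let N₂ : Submodule R L := N ⊓ LinearMap.ker (r ^ n • LinearMap.id : L →ₗ[R] L)
  have hsup : N₁ ⊔ N₂ = N := by
    apply le_antisymm
    · apply sup_le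
      · rintro _ ⟨l, hl, rfl⟩
        exact N.smul_mem _ hl
      · exact inf_le_left
    · intro l hl
      obtain ⟨z, hz, hzl⟩ := hstab (n + n) (Nat.le_add_right n n) l hl
      have hl' : l = r ^ n • z + (l - r ^ n • z) := by abel
      rw [hl']
      refine Submodule.add_mem_sup ⟨z, hz, rfl⟩ ⟨N.sub_mem hl (N.smul_mem _ hz), ?_⟩
      show (r ^ n • LinearMap.id : L →ₗ[R] L) (l - r ^ n • z) = 0
      rw [LinearMap.smul_apply, LinearMap.id_apply, smul_sub, ← mul_smul,
        ← pow_add, hzl, sub_self]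
  rcases hirr N₁ N₂ hsup with h | h
  · left
    intro l hl
    have hl1 : l ∈ N₁ := h ▸ hl
    obtain ⟨l₀, hl₀, rfl⟩ := hl1
    obtain ⟨z, hz, hzl⟩ := hstab (n + 1) (Nat.le_succ n) l₀ hl₀
    refine ⟨r ^ n • z, N.smul_mem _ hz, ?_⟩
    rw [LinearMap.smul_apply, LinearMap.id_apply, ← hzl, pow_succ', mul_smul]
  · right
    refine ⟨n, fun l hl => ?_⟩
    have hl2 : l ∈ N₂ := h ▸ hl
    simpa using hl2.2

theorem good_of_isArtinian [IsNoetherianRing R] [IsArtinian R L] (N : Submodule R L) : Good N := by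
  classical
  induction N using WellFoundedLT.induction with
  | _ N ih =>
  by_cases hred : ∃ N₁ N₂ : Submodule R L, N₁ ⊔ N₂ = N ∧ N₁ ≠ N ∧ N₂ ≠ N
  · obtain ⟨N₁, N₂, hsup, h1, h2⟩ := hred
    have hle1 : N₁ ≤ N := hsup ▸ le_sup_left
    have hle2 : N₂ ≤ N := hsup ▸ le_sup_right
    rw [← hsup]
    exact good_sup (ih N₁ (lt_of_le_of_ne hle1 h1)) (ih N₂ (lt_of_le_of_ne hle2 h2))
  · have hirr : ∀ N₁ N₂ : Submodule R L, N₁ ⊔ N₂ = N → N₁ = N ∨ N₂ = N := by
      intro N₁ N₂ hsup
      by_contra hcon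
      rw [not_or] at hcon
      exact hred ⟨N₁, N₂, hsup, hcon.1, hcon.2⟩
    have hsn := surj_or_nil N hirr
    by_cases hall : ∀ r ∈ maximalIdeal R, Nil N r
    · -- all of `m` nilpotent on `N`
      have hle : maximalIdeal R ≤ (N.annihilator).radical := by
        intro r hr
        obtain ⟨k, hk⟩ := hall r hr
        exact ⟨k, Submodule.mem_annihilator.mpr hk⟩
      obtain ⟨K, hK⟩ := Ideal.exists_pow_le_of_le_radical_of_fg hle
        ((isNoetherianRing_iff_ideal_fg R).mp inferInstance _)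
      refine ⟨∅, by simp, ?_⟩
      intro x _ _
      refine ⟨K, fun a ha l hl => ⟨0, N.zero_mem, ?_⟩⟩
      rw [smul_zero]
      exact Submodule.mem_annihilator.mp (hK ha) l hl
    · push Not at hall
      obtain ⟨r₀, hr₀m, hr₀⟩ := hall
      let p : Ideal R := (N.annihilator).radical
      have hnil_iff : ∀ r, r ∈ p ↔ Nil N r := by
        intro r
        constructor
        · rintro ⟨k, hk⟩
          exact ⟨k, Submodule.mem_annihilator.mp hk⟩
        · rintro ⟨k, hk⟩
          exact ⟨k, Submodule.mem_annihilator.mpr hk⟩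
      have hp : p.IsPrime := by
        refine ⟨?_, ?_⟩
        · intro htop
          have h1 : (1 : R) ∈ p := htop ▸ Submodule.mem_top
          obtain ⟨k, hk⟩ := (hnil_iff 1).mp h1
          apply hr₀
          refine ⟨0, fun l hl => ?_⟩
          have := hk l hl
          simpa using this
        · intro a b hab
          by_cases ha : a ∈ p
          · exact Or.inl ha
          · right
            have hsa : Surj N a := (hsn a).resolve_right (fun h => ha ((hnil_iff a).mpr h))
            obtain ⟨k, hk⟩ := (hnil_iff (a * b)).mp hab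
            rw [hnil_iff]
            refine ⟨k, fun l hl => ?_⟩
            obtain ⟨l', hl', rfl⟩ := surj_pow hsa k l hl
            rw [← mul_smul, ← mul_pow, mul_comm b a]
            exact hk l' hl'
      have hpm : p ≠ maximalIdeal R := by
        intro h
        exact hr₀ ((hnil_iff r₀).mp (h ▸ hr₀m))
      refine ⟨{p}, ?_, ?_⟩
      · intro q hq
        rw [Finset.mem_singleton] at hq
        subst hq
        exact ⟨hp, hpm⟩
      · intro x _ hxs
        have hxp : x ∉ p := hxs p (Finset.mem_singleton_self p)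
        have hsx : Surj N x := (hsn x).resolve_right (fun h => hxp ((hnil_iff x).mpr h))
        refine ⟨0, fun a _ l hl => ?_⟩
        obtain ⟨l', hl', e⟩ := hsx (a • l) (N.smul_mem a hl)
        exact ⟨l', hl', e⟩

/-- **Main algebraic lemma**: for an Artinian module over a Noetherian local ring, there is a
finite set of non-maximal primes such that for `x ∈ m` avoiding them, `m ^ k L ⊆ x L`. -/
theorem exists_finset_primes (R : Type u) [CommRing R] [IsNoetherianRing R] [IsLocalRing R]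
    (L : Type v) [AddCommGroup L] [Module R L] [IsArtinian R L] :
    ∃ s : Finset (Ideal R), (∀ p ∈ s, p.IsPrime ∧ p ≠ maximalIdeal R) ∧
      ∀ x ∈ maximalIdeal R, (∀ p ∈ s, x ∉ p) →
        ∃ k : ℕ, ∀ a ∈ (maximalIdeal R) ^ k, ∀ l : L, ∃ l' : L, a • l = x • l' := by
  obtain ⟨s, hs, H⟩ := good_of_isArtinian (⊤ : Submodule R L)
  refine ⟨s, hs, fun x hx hxs => ?_⟩
  obtain ⟨k, hk⟩ := H x hx hxs
  refine ⟨k, fun a ha l => ?_⟩
  obtain ⟨l', -, e⟩ := hk a ha l Submodule.mem_top
  exact ⟨l', e⟩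

/-- prime avoidance for a finite set of non-maximal primes -/
theorem exists_mem_maximalIdeal_notMem (R : Type u) [CommRing R] [IsLocalRing R]
    (s : Finset (Ideal R)) (hs : ∀ p ∈ s, p.IsPrime ∧ p ≠ maximalIdeal R) :
    ∃ x ∈ maximalIdeal R, ∀ p ∈ s, x ∉ p := by
  by_contra hcon
  push Not at hcon
  have hsub : ((maximalIdeal R : Ideal R) : Set R) ⊆ ⋃ p ∈ (s : Set (Ideal R)), (p : Set R) := by
    intro x hx
    obtain ⟨p, hp, hxp⟩ := hcon x hx
    exact Set.mem_biUnion hp hxp
  have := (Ideal.subset_union_prime (s := s) (f := fun p => p) (maximalIdeal R) (maximalIdeal R)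
    (fun p hp _ _ => (hs p hp).1)).mp hsub
  obtain ⟨p, hp, hle⟩ := this
  have : maximalIdeal R = p :=
    (maximalIdeal.isMaximal R).eq_of_le (hs p hp).1.ne_top hle
  exact (hs p hp).2 this.symm

end Groth.Agent.Lib.helper2.GNV
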