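import Mathlib
import Groth.Agent.Lib.Helper2.GNV1
import Groth.Agent.Lib.Helper19.LCGroth
import Groth.Agent.Lib.Helper19.LCLes2

/-!
# helper2: Grothendieck non-vanishing, part 2: top-degree surjectivity and the regular sequence step
-/

set_option autoImplicit false
universe u

open CategoryTheory IsLocalRing
open scoped Pointwise
open Groth.Agent.Lib.helper19.LCBridge Groth.Agent.Lib.helper19.LCLes
  Groth.Agent.Lib.helper19.LCZero Groth.Agent.Lib.helper19.LCFactor
  Groth.Agent.Lib.helper19.LCGroth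

namespace Groth.Agent.Lib.helper2.GNV

variable {R : Type u} [CommRing R]

/-- shorthand for the underlying module of local cohomology -/
abbrev HH (I : Ideal R) (i : ℕ) (M : Type u) [AddCommGroup M] [Module R M] : Type u :=
  ((localCohomology I i).obj (ModuleCat.of R M) : ModuleCat.{u} R)

lemma withBot_lt_of_add_one_le {a : WithBot ℕ∞} {d : ℕ} (h : a + 1 ≤ (d : WithBot ℕ∞)) :
    a < (d : WithBot ℕ∞) := by
  induction a with
  | bot => exact WithBot.bot_lt_coe _
  | coe e =>
    induction e with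
    | top =>
      exfalso
      have : ((⊤ : ℕ∞) : WithBot ℕ∞) + 1 = ((⊤ : ℕ∞) : WithBot ℕ∞) := rfl
      rw [this] at h
      have h2 : ((⊤ : ℕ∞) : WithBot ℕ∞) ≤ ((d : ℕ∞) : WithBot ℕ∞) := h
      rw [WithBot.coe_le_coe] at h2
      exact absurd h2 (by simp)
    | coe e =>
      have h2 : (((e + 1 : ℕ) : ℕ∞) : WithBot ℕ∞) ≤ ((d : ℕ∞) : WithBot ℕ∞) := by
        simpa using h
      rw [WithBot.coe_le_coe, Nat.cast_le] at h2
      have : (((e : ℕ) : ℕ∞) : WithBot ℕ∞) < ((d : ℕ∞) : WithBot ℕ∞) := by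
        rw [WithBot.coe_lt_coe, Nat.cast_lt]; omega
      exact this

lemma withBot_eq_of_add_one_eq {a : WithBot ℕ∞} {d : ℕ} (h : a + 1 = ((d + 1 : ℕ) : WithBot ℕ∞)) :
    a = (d : WithBot ℕ∞) := by
  induction a with
  | bot =>
    exfalso
    have h2 : (⊥ : WithBot ℕ∞) = (((d + 1 : ℕ) : ℕ∞) : WithBot ℕ∞) := h
    exact WithBot.bot_ne_coe h2
  | coe e =>
    induction e with
    | top =>
      exfalso
      have : ((⊤ : ℕ∞) : WithBot ℕ∞) + 1 = ((⊤ : ℕ∞) : WithBot ℕ∞) := rfl
      rw [this] at h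
      have h2 : ((⊤ : ℕ∞) : WithBot ℕ∞) = (((d + 1 : ℕ) : ℕ∞) : WithBot ℕ∞) := h
      rw [WithBot.coe_inj] at h2
      exact ENat.top_ne_natCast _ h2
    | coe e =>
      have h2 : (((e + 1 : ℕ) : ℕ∞) : WithBot ℕ∞) = (((d + 1 : ℕ) : ℕ∞) : WithBot ℕ∞) := by
        simpa using h
      rw [WithBot.coe_inj, Nat.cast_inj] at h2
      have : e = d := by omega
      subst this
      rfl

variable [IsNoetherianRing R]

/-- In top degree `d = dim N`, an element avoiding the minimal primes of `N` acts surjectively on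
`H^d_I(N)`. -/
theorem smul_surjective_top (I : Ideal R) (N : Type u) [AddCommGroup N] [Module R N]
    [Module.Finite R N] (d : ℕ) (hd : Module.supportDim R N = d) (y : R)
    (hy : ∀ p ∈ (Module.annihilator R N).minimalPrimes, y ∉ p) (h : HH I d N) :
    ∃ h' : HH I d N, h = y • h' := by
  let K : Submodule R N := y • (⊤ : Submodule R N)
  let φ : N →ₗ[R] K := (LinearMap.lsmul R N y).codRestrict K
    (fun n => Submodule.smul_mem_pointwise_smul n y ⊤ Submodule.mem_top)
  have hφsurj : Function.Surjective φ := by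
    rintro ⟨k, hk⟩
    obtain ⟨n, -, rfl⟩ := (Submodule.mem_smul_pointwise_iff_exists k y ⊤).mp hk
    exact ⟨n, rfl⟩
  have hQ : Subsingleton (HH I d (N ⧸ K)) := by
    apply vanish I _ d
    have h1 := Module.supportDim_quotSMulTop_succ_le_of_notMem_minimalPrimes (M := N) hy
    rw [hd] at h1
    exact withBot_lt_of_add_one_le h1
  have hK : Subsingleton (HH I (d + 1) (LinearMap.ker φ)) := by
    apply vanish I _ (d + 1)
    refine lt_of_le_of_lt (Module.supportDim_le_of_injective (LinearMap.ker φ).subtype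
      (Submodule.injective_subtype _)) ?_
    rw [hd]
    exact_mod_cast Nat.lt_succ_self d
  let S₁ : ShortComplex (ModuleCat.{u} R) :=
    ShortComplex.mk (ModuleCat.ofHom (LinearMap.ker φ).subtype) (ModuleCat.ofHom φ) (by
      apply ModuleCat.hom_ext
      apply LinearMap.ext
      intro x
      exact x.2)
  have hS₁ : S₁.ShortExact := ModuleCat.shortComplex_shortExact S₁
    (LinearMap.exact_subtype_ker_map _) (Submodule.injective_subtype _) hφsurj
  let S₂ : ShortComplex (ModuleCat.{u} R) :=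
    ShortComplex.mk (ModuleCat.ofHom K.subtype) (ModuleCat.ofHom K.mkQ) (by
      apply ModuleCat.hom_ext
      apply LinearMap.ext
      intro x
      exact (Submodule.Quotient.mk_eq_zero _).2 x.2)
  have hS₂ : S₂.ShortExact := ModuleCat.shortComplex_shortExact S₂
    (LinearMap.exact_subtype_mkQ _) (Submodule.injective_subtype _) (Submodule.mkQ_surjective _)
  have h1 := H_surjective_of_vanish I d hS₁ hK
  have h2 := H_f_surjective_of_vanish I d hS₂ hQ
  obtain ⟨y₁, rfl⟩ := h2 h
  obtain ⟨x, rfl⟩ := h1 y₁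
  refine ⟨x, ?_⟩
  have hφ' : S₁.g ≫ S₂.f = y • 𝟙 (ModuleCat.of R N) := rfl
  have h3 := H_map_smul_id I d (ModuleCat.of R N) y x
  rw [← hφ', Functor.map_comp] at h3
  exact h3

/-- iterate: `H = y^k H` -/
theorem pow_smul_surjective_top (I : Ideal R) (N : Type u) [AddCommGroup N] [Module R N]
    [Module.Finite R N] (d : ℕ) (hd : Module.supportDim R N = d) (y : R)
    (hy : ∀ p ∈ (Module.annihilator R N).minimalPrimes, y ∉ p) (k : ℕ) (h : HH I d N) :
    ∃ h' : HH I d N, h = y ^ k • h' := by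
  induction k with
  | zero => exact ⟨h, by simp⟩
  | succ k ih =>
    obtain ⟨h', rfl⟩ := ih
    obtain ⟨h'', rfl⟩ := smul_surjective_top I N d hd y hy h'
    exact ⟨h'', by rw [pow_succ, mul_smul]⟩

end Groth.Agent.Lib.helper2.GNV
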