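import Mathlib
import Groth.Agent.Lib.Helper2.GNV2
import Groth.Agent.S0817
import Groth.Agent.S11589

/-!
# helper2: Grothendieck non-vanishing `H^n_m(M) ≠ 0`, `n = dim M`
-/

set_option autoImplicit false
universe u

open CategoryTheory IsLocalRing
open scoped Pointwise
open Groth.Agent.Lib.helper19.LCBridge Groth.Agent.Lib.helper19.LCLes
  Groth.Agent.Lib.helper19.LCZero Groth.Agent.Lib.helper19.LCFactor
  Groth.Agent.Lib.helper19.LCGroth

namespace Groth.Agent.Lib.helper2.GNV

variable {R : Type u} [CommRing R] [IsNoetherianRing R] [IsLocalRing R]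

/-- a regular element of `m` avoiding a finite set of non-maximal primes -/
theorem exists_regular_avoid (M : Type u) [AddCommGroup M] [Module R M] [Module.Finite R M]
    (htors : DRing.torsionSub (maximalIdeal R) M = ⊥)
    (s : Finset (Ideal R)) (hs : ∀ p ∈ s, p.IsPrime ∧ p ≠ maximalIdeal R) :
    ∃ x ∈ maximalIdeal R, IsSMulRegular M x ∧ ∀ p ∈ s, x ∉ p := by
  classical
  have hfin : (associatedPrimes R M).Finite := associatedPrimes.finite R M
  let s' : Finset (Ideal R) := s ∪ hfin.toFinset
  have hs' : ∀ p ∈ s', p.IsPrime ∧ p ≠ maximalIdeal R := by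
    intro p hp
    rcases Finset.mem_union.mp hp with h | h
    · exact hs p h
    · rw [Set.Finite.mem_toFinset] at h
      refine ⟨h.isPrime, ?_⟩
      rintro rfl
      obtain ⟨-, z, hz⟩ := (isAssociatedPrime_iff).mp h
      have hz0 : z ≠ 0 := by
        rintro rfl
        have : (1 : R) ∈ maximalIdeal R := by
          rw [hz, Submodule.mem_colon_singleton, smul_zero]
          exact Submodule.zero_mem _
        exact (Ideal.ne_top_iff_one _).mp (maximalIdeal.isMaximal R).ne_top this
      have hzt : z ∈ DRing.torsionSub (maximalIdeal R) M := by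
        refine ⟨1, fun a ha => ?_⟩
        rw [pow_one] at ha
        rw [hz, Submodule.mem_colon_singleton, Submodule.mem_bot] at ha
        exact ha
      rw [htors, Submodule.mem_bot] at hzt
      exact hz0 hzt
  obtain ⟨x, hxm, hx⟩ := exists_mem_maximalIdeal_notMem R s' hs'
  refine ⟨x, hxm, ?_, fun p hp => hx p (Finset.mem_union_left _ hp)⟩
  have h1 := biUnion_associatedPrimes_eq_compl_regular R M
  by_contra hreg
  have : x ∈ {r : R | IsSMulRegular M r}ᶜ := hreg
  rw [← h1] at this
  obtain ⟨p, hp, hxp⟩ := Set.mem_iUnion₂.mp this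
  exact hx p (Finset.mem_union_right _ ((Set.Finite.mem_toFinset hfin).mpr hp)) hxp

/-- an element of `m` avoiding the minimal primes of a module of positive dimension -/
theorem exists_avoid_minimalPrimes (N : Type u) [AddCommGroup N] [Module R N] [Module.Finite R N]
    (n : ℕ) (hdim : Module.supportDim R N = ((n + 1 : ℕ) : WithBot ℕ∞)) :
    ∃ y ∈ maximalIdeal R, ∀ p ∈ (Module.annihilator R N).minimalPrimes, y ∉ p := by
  classical
  have hfin : ((Module.annihilator R N).minimalPrimes).Finite :=
    Ideal.finite_minimalPrimes_of_isNoetherianRing R _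
  have hs' : ∀ p ∈ hfin.toFinset, p.IsPrime ∧ p ≠ maximalIdeal R := by
    intro p hp
    rw [Set.Finite.mem_toFinset] at hp
    refine ⟨hp.1.1, ?_⟩
    rintro rfl
    -- then the support is `{m}` and the dimension is `0`
    have hsub : ∀ q ∈ Module.support R N, q = IsLocalRing.closedPoint R := by
      intro q hq
      rw [Module.mem_support_iff_of_finite] at hq
      have hle : q.asIdeal ≤ maximalIdeal R := le_maximalIdeal q.2.ne_top
      have := hp.2 ⟨q.2, hq⟩ hle
      exact PrimeSpectrum.ext (le_antisymm hle this)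
    have hss : Subsingleton (Module.support R N) :=
      ⟨fun a b => Subtype.ext ((hsub a.1 a.2).trans (hsub b.1 b.2).symm)⟩
    have : Module.supportDim R N ≤ 0 := Order.krullDim_nonpos_of_subsingleton
    rw [hdim] at this
    have h2 : ((n + 1 : ℕ) : WithBot ℕ∞) ≤ ((0 : ℕ) : WithBot ℕ∞) := by simp at this
    rw [Nat.cast_le] at h2
    omega
  obtain ⟨y, hym, hy⟩ := exists_mem_maximalIdeal_notMem R hfin.toFinset hs'
  exact ⟨y, hym, fun p hp => hy p ((Set.Finite.mem_toFinset hfin).mpr hp)⟩

/-- the inductive step, for modules without `m`-torsion -/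
theorem step (n : ℕ)
    (IH : ∀ (N : Type u) [AddCommGroup N] [Module R N] [Module.Finite R N],
      Module.supportDim R N = (n : WithBot ℕ∞) → Nontrivial (HH (maximalIdeal R) n N))
    (M : Type u) [AddCommGroup M] [Module R M] [Module.Finite R M]
    (htors : DRing.torsionSub (maximalIdeal R) M = ⊥)
    (hdim : Module.supportDim R M = ((n + 1 : ℕ) : WithBot ℕ∞)) :
    Nontrivial (HH (maximalIdeal R) (n + 1) M) := by
  by_contra hnt
  rw [not_nontrivial_iff_subsingleton] at hnt
  haveI : IsArtinian R (HH (maximalIdeal R) n M) := Groth.Agent.S0817.result R M n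
  obtain ⟨s, hs, Hs⟩ := exists_finset_primes R (HH (maximalIdeal R) n M)
  obtain ⟨x, hxm, hreg, hxs⟩ := exists_regular_avoid M htors s hs
  obtain ⟨k, hk⟩ := Hs x hxm hxs
  have hdimN : Module.supportDim R (QuotSMulTop x M) = (n : WithBot ℕ∞) := by
    have h1 := Module.supportDim_quotSMulTop_succ_eq_supportDim (M := M) hreg hxm
    rw [hdim] at h1
    exact withBot_eq_of_add_one_eq h1
  have hntN := IH (QuotSMulTop x M) hdimN
  -- the short exact sequence `0 → M → M → M/xM → 0`
  let S : ShortComplex (ModuleCat.{u} R) :=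
    ShortComplex.mk (x • 𝟙 (ModuleCat.of R M))
      (ModuleCat.ofHom (x • (⊤ : Submodule R M)).mkQ) (by
        apply ModuleCat.hom_ext
        apply LinearMap.ext
        intro z
        exact (Submodule.Quotient.mk_eq_zero _).2
          (Submodule.smul_mem_pointwise_smul z x ⊤ Submodule.mem_top))
  have hS : S.ShortExact := by
    refine ModuleCat.shortComplex_shortExact S ?_ ?_ (Submodule.mkQ_surjective _)
    · intro z
      constructor
      · intro hz
        have hz' : z ∈ x • (⊤ : Submodule R M) := (Submodule.Quotient.mk_eq_zero _).1 hz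
        obtain ⟨w, -, rfl⟩ := (Submodule.mem_smul_pointwise_iff_exists z x ⊤).mp hz'
        exact ⟨w, rfl⟩
      · rintro ⟨w, rfl⟩
        exact (Submodule.Quotient.mk_eq_zero _).2
          (Submodule.smul_mem_pointwise_smul w x ⊤ Submodule.mem_top)
    · intro a b hab
      exact hreg hab
  -- `g_*` is surjective
  have hsurj : Function.Surjective ((localCohomology (maximalIdeal R) n).map S.g) :=
    H_surjective_of_vanish (maximalIdeal R) n hS hnt
  -- `m^k` kills `H^n(M/xM)`
  have hkill : ∀ a ∈ (maximalIdeal R) ^ k, ∀ h : HH (maximalIdeal R) n (QuotSMulTop x M),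
      a • h = 0 := by
    intro a ha h
    obtain ⟨l, rfl⟩ := hsurj h
    obtain ⟨l', hl'⟩ := hk a ha l
    have e1 : a • ((localCohomology (maximalIdeal R) n).map S.g).hom l =
        ((localCohomology (maximalIdeal R) n).map S.g).hom (a • l) := (map_smul _ _ _).symm
    have e2 : x • l' = ((localCohomology (maximalIdeal R) n).map S.f).hom l' :=
      (H_map_smul_id (maximalIdeal R) n (ModuleCat.of R M) x l').symm
    have e3 : ((localCohomology (maximalIdeal R) n).map S.g).hom
        (((localCohomology (maximalIdeal R) n).map S.f).hom l') = 0 := by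
      have := congrArg (fun φ => φ.hom l') ((localCohomology (maximalIdeal R) n).map_comp S.f S.g)
      simp only [ModuleCat.hom_comp, LinearMap.comp_apply] at this
      rw [← this, S.zero]
      exact H_map_zero (maximalIdeal R) n l'
    show a • ((localCohomology (maximalIdeal R) n).map S.g).hom l = 0
    rw [e1, hl', e2, e3]
  -- conclude
  have hzero : ∀ h : HH (maximalIdeal R) n (QuotSMulTop x M), h = 0 := by
    intro h
    rcases Nat.eq_zero_or_pos n with hn | hn
    · subst hn
      -- `H^0(M) = 0`
      have hL : Subsingleton (HH (maximalIdeal R) 0 M) := by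
        have hbij := gammaToH_bijective (maximalIdeal R) (ModuleCat.of R M)
        refine ⟨fun a b => ?_⟩
        obtain ⟨a', rfl⟩ := hbij.2 a
        obtain ⟨b', rfl⟩ := hbij.2 b
        have hz : ∀ c : DRing.torsionSub (maximalIdeal R) M, c = 0 := by
          intro c
          apply Subtype.ext
          have h1 : (c : M) ∈ DRing.torsionSub (maximalIdeal R) M := c.2
          have h2 : (c : M) ∈ (⊥ : Submodule R M) := htors ▸ h1
          exact (Submodule.mem_bot R).mp h2
        have ha : a' = 0 := hz a'
        have hb : b' = 0 := hz b'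
        rw [ha, hb]
      obtain ⟨l, rfl⟩ := hsurj h
      rw [hL.elim l 0, map_zero]
    · obtain ⟨n', rfl⟩ : ∃ n', n = n' + 1 := ⟨n - 1, by omega⟩
      obtain ⟨y, hym, hy⟩ := exists_avoid_minimalPrimes (QuotSMulTop x M) n' hdimN
      obtain ⟨h', rfl⟩ := pow_smul_surjective_top (maximalIdeal R) (QuotSMulTop x M) (n' + 1) hdimN
        y hy k h
      exact hkill _ (Ideal.pow_mem_pow hym k) h'
  obtain ⟨a, b, hab⟩ := hntN
  exact hab ((hzero a).trans (hzero b).symm)

end Groth.Agent.Lib.helper2.GNV
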