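import Mathlib
import Groth.Agent.Lib.Helper2.GNV3

/-!
# helper2: Grothendieck non-vanishing `H^n_m(M) ≠ 0`, `n = dim M` (main theorem)
-/

set_option autoImplicit false
universe u

open CategoryTheory IsLocalRing
open scoped Pointwise
open Groth.Agent.Lib.helper19.LCBridge Groth.Agent.Lib.helper19.LCLes
  Groth.Agent.Lib.helper19.LCZero Groth.Agent.Lib.helper19.LCFactor
  Groth.Agent.Lib.helper19.LCGroth

namespace Groth.Agent.Lib.helper2.GNV

variable {R : Type u} [CommRing R] [IsNoetherianRing R] [IsLocalRing R]

/-- the support of the `m`-torsion is contained in the closed point -/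
lemma support_torsionSub_subset (M : Type u) [AddCommGroup M] [Module R M]
    (q : PrimeSpectrum R) (hq : q ∈ Module.support R (DRing.torsionSub (maximalIdeal R) M)) :
    q = IsLocalRing.closedPoint R := by
  rw [Module.mem_support_iff_exists_annihilator] at hq
  obtain ⟨⟨z, k, hz⟩, hzq⟩ := hq
  have hle : (maximalIdeal R) ^ k ≤ q.asIdeal := by
    intro a ha
    apply hzq
    rw [Submodule.mem_annihilator_span_singleton]
    apply Subtype.ext
    exact hz a ha
  have h1 : maximalIdeal R ≤ q.asIdeal := Ideal.IsPrime.le_of_pow_le hle
  exact PrimeSpectrum.ext (le_antisymm (le_maximalIdeal q.2.ne_top) h1)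

/-- dimension zero implies `m`-torsion -/
lemma isTors_of_supportDim_eq_zero (M : Type u) [AddCommGroup M] [Module R M] [Module.Finite R M]
    (h : Module.supportDim R M = 0) : IsTors (maximalIdeal R) M := by
  have hsupp := support_of_supportDim_eq_zero (R := R) (N := M) h
  rw [Module.support_eq_zeroLocus, PrimeSpectrum.zeroLocus_eq_iff] at hsupp
  have hle : maximalIdeal R ≤ (Module.annihilator R M).radical := by
    rw [hsupp]; exact Ideal.le_radical
  obtain ⟨K, hK⟩ := Ideal.exists_pow_le_of_le_radical_of_fg hle
    ((isNoetherianRing_iff_ideal_fg R).mp inferInstance _)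
  intro z
  exact ⟨K, fun a ha => Module.mem_annihilator.mp (hK ha) z⟩

/-- **Grothendieck's non-vanishing theorem**. -/
theorem nontrivial_H_supportDim (n : ℕ) :
    ∀ (M : Type u) [AddCommGroup M] [Module R M] [Module.Finite R M],
      Module.supportDim R M = (n : WithBot ℕ∞) → Nontrivial (HH (maximalIdeal R) n M) := by
  induction n with
  | zero =>
    intro M _ _ _ hdim
    have hdim0 : Module.supportDim R M = 0 := hdim
    haveI : Nontrivial M := by
      rw [← Module.supportDim_ne_bot_iff_nontrivial R, hdim0]
      exact WithBot.coe_ne_bot
    exact (zeroEquivOfTorsion (maximalIdeal R) M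
      (isTors_of_supportDim_eq_zero M hdim0)).symm.injective.nontrivial
  | succ n IH =>
    intro M _ _ _ hdim
    let T : Submodule R M := DRing.torsionSub (maximalIdeal R) M
    -- `M/T` is nontrivial
    have hMT : Nontrivial (M ⧸ T) := by
      by_contra hcon
      rw [not_nontrivial_iff_subsingleton, Submodule.Quotient.subsingleton_iff] at hcon
      have hsub : ∀ q ∈ Module.support R M, q = IsLocalRing.closedPoint R := by
        intro q hq
        apply support_torsionSub_subset M q
        have hsurj : Function.Surjective T.subtype := by
          intro z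
          exact ⟨⟨z, hcon ▸ Submodule.mem_top⟩, rfl⟩
        exact Module.support_subset_of_surjective T.subtype hsurj hq
      have hss : Subsingleton (Module.support R M) :=
        ⟨fun a b => Subtype.ext ((hsub a.1 a.2).trans (hsub b.1 b.2).symm)⟩
      have : Module.supportDim R M ≤ 0 := Order.krullDim_nonpos_of_subsingleton
      rw [hdim] at this
      have h2 : ((n + 1 : ℕ) : WithBot ℕ∞) ≤ ((0 : ℕ) : WithBot ℕ∞) := this
      rw [Nat.cast_le] at h2
      omega
    -- supports agree
    have hsupp : Module.support R (M ⧸ T) = Module.support R M := by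
      apply le_antisymm
      · exact Module.support_subset_of_surjective T.mkQ (Submodule.mkQ_surjective _)
      · rw [Module.support_of_exact (LinearMap.exact_subtype_mkQ T) (Submodule.injective_subtype _)
          (Submodule.mkQ_surjective _)]
        rintro q (hq | hq)
        · rw [support_torsionSub_subset M q hq]
          exact IsLocalRing.closedPoint_mem_support R (M ⧸ T)
        · exact hq
    have hdim' : Module.supportDim R (M ⧸ T) = ((n + 1 : ℕ) : WithBot ℕ∞) := by
      rw [← hdim]
      unfold Module.supportDim
      rw [hsupp]
    have htors : DRing.torsionSub (maximalIdeal R) (M ⧸ T) = ⊥ :=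
      torsionSub_quotient_eq_bot (maximalIdeal R) M
    have hnt := step n IH (M ⧸ T) htors hdim'
    have hbij := Groth.Agent.S11589.result R (maximalIdeal R) M (n + 1) (Nat.succ_pos n)
    exact hbij.2.nontrivial

end Groth.Agent.Lib.helper2.GNV
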