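import Mathlib
import Groth.Agent.Lib.Helper2.GNV4
import Groth.Agent.S11618

/-!
# helper2: `H^h_I(R) ≠ 0` for `h = ht I`
-/

set_option autoImplicit false
universe u

open CategoryTheory IsLocalRing
open scoped Pointwise

namespace Groth.Agent.Lib.helper2.GNV

variable {R : Type u} [CommRing R] [IsNoetherianRing R]

/-- the radical of the extension of `I` to the localization at a minimal prime of `I` is the
maximal ideal -/
lemma radical_map_eq_maximalIdeal (I p : Ideal R) [p.IsPrime] (hp : p ∈ I.minimalPrimes) :
    (Ideal.map (algebraMap R (Localization.AtPrime p)) I).radical =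
      maximalIdeal (Localization.AtPrime p) := by
  have hcm : Ideal.comap (algebraMap R (Localization.AtPrime p))
      (maximalIdeal (Localization.AtPrime p)) = p :=
    IsLocalization.AtPrime.under_maximalIdeal (Localization.AtPrime p) p
  have hne : Ideal.map (algebraMap R (Localization.AtPrime p)) I ≠ ⊤ := by
    intro htop
    have h1 : Ideal.map (algebraMap R (Localization.AtPrime p)) I ≤
        maximalIdeal (Localization.AtPrime p) := by
      rw [Ideal.map_le_iff_le_comap, hcm]
      exact hp.1.2
    rw [htop] at h1
    exact (maximalIdeal.isMaximal _).ne_top (top_le_iff.mp h1)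
  apply le_antisymm
  · have h1 : Ideal.map (algebraMap R (Localization.AtPrime p)) I ≤
        maximalIdeal (Localization.AtPrime p) := le_maximalIdeal hne
    exact (Ideal.radical_mono h1).trans
      (Ideal.IsPrime.radical (maximalIdeal.isMaximal _).isPrime).le
  · rw [Ideal.radical_eq_sInf]
    apply le_sInf
    rintro q ⟨hIq, hq⟩
    have hq' : (q.comap (algebraMap R (Localization.AtPrime p))).IsPrime := Ideal.comap_isPrime _ q
    have hle : q.comap (algebraMap R (Localization.AtPrime p)) ≤ p := by
      have h2 : q ≤ maximalIdeal (Localization.AtPrime p) := le_maximalIdeal hq.ne_top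
      have := Ideal.comap_mono (f := algebraMap R (Localization.AtPrime p)) h2
      rwa [hcm] at this
    have hIle : I ≤ q.comap (algebraMap R (Localization.AtPrime p)) :=
      Ideal.map_le_iff_le_comap.mp hIq
    have hpq : p ≤ q.comap (algebraMap R (Localization.AtPrime p)) := hp.2 ⟨hq', hIle⟩ hle
    have : q.comap (algebraMap R (Localization.AtPrime p)) =
        (maximalIdeal (Localization.AtPrime p)).comap (algebraMap R (Localization.AtPrime p)) := by
      rw [hcm]
      exact le_antisymm hle hpq
    have hqm : q = maximalIdeal (Localization.AtPrime p) := by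
      have h3 := congrArg (Ideal.map (algebraMap R (Localization.AtPrime p))) this
      rwa [IsLocalization.map_under p.primeCompl, IsLocalization.map_under p.primeCompl] at h3
    rw [hqm]

/-- `H^h_I(R) ≠ 0` for `h = ht I`. -/
theorem nontrivial_H_height (I : Ideal R) (h : ℕ) (hh : I.height = h) :
    Nontrivial (HH I h R) := by
  obtain ⟨p, hp, hIp, hph⟩ := Ideal.exists_isPrime_height_eq hh
  have hpmin : p ∈ I.minimalPrimes :=
    Ideal.mem_minimalPrimes_of_height_le hIp (hph.le.trans hh.ge)
  obtain ⟨e⟩ := Groth.Agent.S11618.result R I p.primeCompl R h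
  -- the local ring
  let Rp := Localization.AtPrime p
  let N := LocalizedModule p.primeCompl R
  have e0 : N ≃ₗ[Rp] Rp :=
    (IsLocalizedModule.iso p.primeCompl (Algebra.linearMap R Rp)).extendScalarsOfIsLocalization
      p.primeCompl Rp
  have hdim : Module.supportDim Rp N = (h : WithBot ℕ∞) := by
    rw [Module.supportDim_eq_of_equiv e0, Module.supportDim_self_eq_ringKrullDim,
      IsLocalization.AtPrime.ringKrullDim_eq_height p Rp, hph]
    rfl
  haveI : Module.Finite Rp N := Module.Finite.equiv e0.symm
  have hnt : Nontrivial (HH (maximalIdeal Rp) h N) := nontrivial_H_supportDim h N hdim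
  have hrad := radical_map_eq_maximalIdeal I p hpmin
  have hrad' : (Ideal.map (algebraMap R Rp) I).radical = (maximalIdeal Rp).radical := by
    rw [hrad, Ideal.IsPrime.radical (maximalIdeal.isMaximal _).isPrime]
  have iso := (localCohomology.isoOfSameRadical hrad' h).app (ModuleCat.of Rp N)
  have hnt2 : Nontrivial (HH (Ideal.map (algebraMap R Rp) I) h N) :=
    iso.toLinearEquiv.symm.injective.nontrivial
  have hnt3 : Nontrivial (LocalizedModule p.primeCompl (HH I h R)) :=
    e.symm.injective.nontrivial
  by_contra hcon
  rw [not_nontrivial_iff_subsingleton] at hcon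
  exact not_subsingleton _ (inferInstance : Subsingleton (LocalizedModule p.primeCompl (HH I h R)))

end Groth.Agent.Lib.helper2.GNV
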