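import Mathlib
import Groth.Agent.Lib.Helper24.FlatDepth3

/-!
# helper2: depth of a base change along a flat local homomorphism
-/

set_option autoImplicit false
universe u
open TensorProduct IsLocalRing LocCoh
open Groth.Agent.Lib.helper26.Depth Groth.Agent.Lib.Helper24.FlatDepth

namespace Groth.Agent.Lib.helper2.DepthBC

section fibre

variable (S : Type u) [CommRing S] [IsLocalRing S] [IsNoetherianRing S]

/-- if the maximal ideal is the only prime containing `J`, then `depth_S (S/J) = 0` -/
theorem depth_quotient_eq_zero (J : Ideal S) (hJ : J ≠ ⊤)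
    (h : ∀ P : Ideal S, P.IsPrime → J ≤ P → P = maximalIdeal S) :
    depth S (S ⧸ (J • (⊤ : Submodule S S))) = 0 := by
  have hJtop : (J • (⊤ : Submodule S S)) = J := by
    rw [smul_eq_mul, Ideal.mul_top]
  have hrad : maximalIdeal S ≤ J.radical := by
    rw [Ideal.radical_eq_sInf]
    refine le_sInf fun P hP => ?_
    rw [h P hP.2 hP.1]
  obtain ⟨k, hk⟩ := Ideal.exists_pow_le_of_le_radical_of_fg hrad (IsNoetherian.noetherian _)
  -- the least such `k`
  classical
  let k0 := Nat.find (⟨k, hk⟩ : ∃ k, maximalIdeal S ^ k ≤ J)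
  have hk0 : maximalIdeal S ^ k0 ≤ J := Nat.find_spec (⟨k, hk⟩ : ∃ k, maximalIdeal S ^ k ≤ J)
  have hk0pos : k0 ≠ 0 := by
    intro h0
    rw [h0, pow_zero, Ideal.one_eq_top, top_le_iff] at hk0
    exact hJ hk0
  obtain ⟨j, hj⟩ : ∃ j, k0 = j + 1 := ⟨k0 - 1, by omega⟩
  have hjnot : ¬ maximalIdeal S ^ j ≤ J :=
    Nat.find_min (⟨k, hk⟩ : ∃ k, maximalIdeal S ^ k ≤ J) (by omega)
  obtain ⟨x, hxj, hxJ⟩ := SetLike.not_le_iff_exists.1 hjnot
  haveI : Nontrivial (S ⧸ (J • (⊤ : Submodule S S))) := by
    rw [hJtop]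
    exact Ideal.Quotient.nontrivial_iff.mpr hJ
  have hIM := maximalIdeal_smul_top_ne_top (A := S) (S ⧸ (J • (⊤ : Submodule S S)))
  refine idealDepth_eq_zero_of_annihilated (maximalIdeal S) _ hIM
    (Submodule.Quotient.mk x) ?_ ?_
  · intro h0
    rw [Submodule.Quotient.mk_eq_zero, hJtop] at h0
    exact hxJ h0
  · intro s hs
    rw [← Submodule.Quotient.mk_smul, Submodule.Quotient.mk_eq_zero, hJtop]
    apply hk0
    rw [hj, pow_succ']
    exact Ideal.mul_mem_mul hs hxj

end fibre

section main

variable (R S : Type u) [CommRing R] [CommRing S] [Algebra R S] [IsLocalRing R] [IsLocalRing S]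
  [IsNoetherianRing R] [IsNoetherianRing S] [IsLocalHom (algebraMap R S)] [Module.Flat R S]
  (M : Type u) [AddCommGroup M] [Module R M] [Module.Finite R M]
  (M' : Type u) [AddCommGroup M'] [Module R M'] [Module S M'] [IsScalarTower R S M']
  (ψ : M →ₗ[R] M') (hψ : IsBaseChange S ψ)

include hψ in
/-- depth formula for a base change -/
theorem depth_baseChange :
    depth S M' = depth R M +
      depth S (S ⧸ ((maximalIdeal R).map (algebraMap R S) • (⊤ : Submodule S S))) := by
  rw [← depth_tensor' R S S M]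
  exact idealDepth_congr (I := maximalIdeal S) hψ.equiv.symm

include hψ in
theorem depth_le_depth_baseChange : depth R M ≤ depth S M' := by
  rw [depth_baseChange R S M M' ψ hψ]
  exact le_self_add

include hψ in
theorem depth_baseChange_eq
    (h : ∀ P : Ideal S, P.IsPrime → (maximalIdeal R).map (algebraMap R S) ≤ P →
      P = maximalIdeal S) : depth S M' = depth R M := by
  rw [depth_baseChange R S M M' ψ hψ, depth_quotient_eq_zero S _ ?_ h, add_zero]
  intro htop
  have hle : (maximalIdeal R).map (algebraMap R S) ≤ maximalIdeal S :=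
    ((IsLocalRing.local_hom_TFAE (algebraMap R S)).out 0 2).mp ‹IsLocalHom (algebraMap R S)›
  rw [htop] at hle
  exact (IsLocalRing.maximalIdeal.isMaximal S).ne_top (top_le_iff.mp hle)

end main

end Groth.Agent.Lib.helper2.DepthBC
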