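import Mathlib

/-! Artin–Schreier: the ring map `x ↦ x - x^p` on `Sym_R(R)` is faithfully flat and finitely presented. -/

namespace Groth.Agent.Lib.helper2.AS

open Polynomial

universe u

section Ring
variable (R : Type u) [CommRing R] (p : ℕ)

/-- the generator of `Sym_R(R)` -/
noncomputable abbrev gen : SymmetricAlgebra R R := SymmetricAlgebra.ι R R 1

/-- the algebra endomorphism `x ↦ x - x ^ p` -/
noncomputable def psi : SymmetricAlgebra R R →ₐ[R] SymmetricAlgebra R R :=
  SymmetricAlgebra.lift (LinearMap.toSpanSingleton R (SymmetricAlgebra R R) (gen R - gen R ^ p))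

lemma psi_gen : psi R p (gen R) = gen R - gen R ^ p := by
  unfold psi gen
  rw [SymmetricAlgebra.lift_ι_apply, LinearMap.toSpanSingleton_apply, one_smul]

variable {R} in
lemma algHom_ext_gen {B : Type*} [CommSemiring B] [Algebra R B] (g h : SymmetricAlgebra R R →ₐ[R] B)
    (e : g (gen R) = h (gen R)) : g = h := by
  apply SymmetricAlgebra.algHom_ext
  apply LinearMap.ext_ring
  exact e

/-- the Artin–Schreier polynomial `X^p - X + C x` over `Sym_R(R)` -/
noncomputable def asPoly : (SymmetricAlgebra R R)[X] := X ^ p - X + C (gen R)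

variable {p} in
lemma asPoly_monic (hp : 2 ≤ p) : (asPoly R p).Monic := by
  unfold asPoly
  nontriviality SymmetricAlgebra R R
  have h1 : (X ^ p - X + C (gen R) : (SymmetricAlgebra R R)[X]) = X ^ p + (- X + C (gen R)) := by
    ring
  rw [h1]
  apply Polynomial.monic_X_pow_add
  calc (-X + C (gen R) : (SymmetricAlgebra R R)[X]).degree
      ≤ max (-X : (SymmetricAlgebra R R)[X]).degree (C (gen R)).degree := degree_add_le _ _
    _ ≤ 1 := by
        rw [degree_neg]
        exact max_le degree_X_le (degree_C_le.trans zero_le_one)
    _ < p := by exact_mod_cast hp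


/-- `Sym_R(R)` as an algebra over itself through `psi` -/
@[reducible] noncomputable def psiAlgebra : Algebra (SymmetricAlgebra R R) (SymmetricAlgebra R R) :=
  (psi R p).toRingHom.toAlgebra

/-- the comparison map `Sym[X]/(X^p - X + x) → Sym` -/
noncomputable def alpha : AdjoinRoot (asPoly R p) →+* SymmetricAlgebra R R :=
  AdjoinRoot.lift (psi R p).toRingHom (gen R) (by
    unfold asPoly
    rw [eval₂_add, eval₂_sub, eval₂_pow, eval₂_X, eval₂_C]
    change gen R ^ p - gen R + psi R p (gen R) = 0
    rw [psi_gen]
    ring)

lemma alpha_root : alpha R p (AdjoinRoot.root _) = gen R := AdjoinRoot.lift_root _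

lemma alpha_of (x : SymmetricAlgebra R R) : alpha R p (AdjoinRoot.of _ x) = psi R p x :=
  AdjoinRoot.lift_of _

/-- the inverse comparison map -/
noncomputable def beta : SymmetricAlgebra R R →ₐ[R] AdjoinRoot (asPoly R p) :=
  SymmetricAlgebra.lift (LinearMap.toSpanSingleton R _ (AdjoinRoot.root (asPoly R p)))

lemma beta_gen : beta R p (gen R) = AdjoinRoot.root (asPoly R p) := by
  unfold beta gen
  rw [SymmetricAlgebra.lift_ι_apply, LinearMap.toSpanSingleton_apply, one_smul]

lemma of_gen : AdjoinRoot.of (asPoly R p) (gen R) =
    AdjoinRoot.root (asPoly R p) - AdjoinRoot.root (asPoly R p) ^ p := by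
  have h := AdjoinRoot.eval₂_root (asPoly R p)
  unfold asPoly at h
  rw [eval₂_add, eval₂_sub, eval₂_pow, eval₂_X, eval₂_C] at h
  have h2 := eq_neg_of_add_eq_zero_right h
  change AdjoinRoot.of (asPoly R p) (gen R) = _
  unfold asPoly
  rw [h2]
  ring

lemma alpha_beta (x : SymmetricAlgebra R R) : alpha R p (beta R p x) = x := by
  have h : ((alpha R p).comp (beta R p).toRingHom) = RingHom.id _ := by
    let a1 : SymmetricAlgebra R R →ₐ[R] SymmetricAlgebra R R :=
      { ((alpha R p).comp (beta R p).toRingHom) with
        commutes' := by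
          intro r
          change alpha R p (beta R p (algebraMap R _ r)) = _
          rw [AlgHom.commutes]
          have : algebraMap R (AdjoinRoot (asPoly R p)) r =
              AdjoinRoot.of _ (algebraMap R (SymmetricAlgebra R R) r) := rfl
          rw [this, alpha_of, AlgHom.commutes] }
    have h1 : a1 = AlgHom.id R _ := by
      apply algHom_ext_gen
      change alpha R p (beta R p (gen R)) = gen R
      rw [beta_gen, alpha_root]
    exact congrArg (fun f : SymmetricAlgebra R R →ₐ[R] SymmetricAlgebra R R => f.toRingHom) h1
  exact congrFun (congrArg DFunLike.coe h) x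

lemma beta_alpha (y : AdjoinRoot (asPoly R p)) : beta R p (alpha R p y) = y := by
  have h : ((beta R p).toRingHom.comp (alpha R p)) = RingHom.id _ := by
    apply AdjoinRoot.ringHom_ext
    · -- on `of`
      let a1 : SymmetricAlgebra R R →ₐ[R] AdjoinRoot (asPoly R p) :=
        { (((beta R p).toRingHom.comp (alpha R p)).comp (AdjoinRoot.of _)) with
          commutes' := by
            intro r
            change beta R p (alpha R p (AdjoinRoot.of _ (algebraMap R _ r))) = _
            rw [alpha_of, AlgHom.commutes, AlgHom.commutes] }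
      let a2 : SymmetricAlgebra R R →ₐ[R] AdjoinRoot (asPoly R p) :=
        { ((RingHom.id _).comp (AdjoinRoot.of (asPoly R p))) with
          commutes' := by
            intro r
            rfl }
      have h1 : a1 = a2 := by
        apply algHom_ext_gen
        change beta R p (alpha R p (AdjoinRoot.of _ (gen R))) = AdjoinRoot.of _ (gen R)
        rw [alpha_of, psi_gen, map_sub, map_pow, beta_gen, of_gen]
      exact congrArg (fun f : SymmetricAlgebra R R →ₐ[R] AdjoinRoot (asPoly R p) => f.toRingHom) h1
    · change beta R p (alpha R p (AdjoinRoot.root _)) = AdjoinRoot.root _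
      rw [alpha_root, beta_gen]
  exact congrFun (congrArg DFunLike.coe h) y


/-- a copy of `Sym_R(R)`, regarded as an algebra over `Sym_R(R)` through `psi` -/
def Tgt (R : Type u) [CommRing R] (_p : ℕ) : Type u := SymmetricAlgebra R R

noncomputable instance : CommRing (Tgt R p) := inferInstanceAs (CommRing (SymmetricAlgebra R R))

noncomputable instance : Algebra (SymmetricAlgebra R R) (Tgt R p) :=
  RingHom.toAlgebra (R := SymmetricAlgebra R R) (S := Tgt R p) (psi R p).toRingHom

/-- the comparison as an algebra isomorphism over `Sym_R(R)` acting through `psi` -/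
noncomputable def alphaEquiv :
    AdjoinRoot (asPoly R p) ≃ₐ[SymmetricAlgebra R R] Tgt R p :=
  AlgEquiv.ofRingEquiv (f := RingEquiv.ofRingHom (alpha R p : AdjoinRoot (asPoly R p) →+* Tgt R p)
      ((beta R p).toRingHom : Tgt R p →+* AdjoinRoot (asPoly R p))
      (by apply RingHom.ext; intro x; exact alpha_beta R p x)
      (by apply RingHom.ext; intro y; exact beta_alpha R p y))
    (by
      intro b
      change alpha R p (AdjoinRoot.of _ b) = psi R p b
      exact alpha_of R p b)

variable {p} in
theorem psi_faithfullyFlat [Nontrivial R] (hp : 2 ≤ p) : (psi R p).toRingHom.FaithfullyFlat := by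
  haveI : Nontrivial (SymmetricAlgebra R R) :=
    (SymmetricAlgebra.algebraMap_leftInverse (R := R) (M := R)).injective.nontrivial
  haveI : Nontrivial (Tgt R p) := inferInstanceAs (Nontrivial (SymmetricAlgebra R R))
  haveI : Module.Free (SymmetricAlgebra R R) (AdjoinRoot (asPoly R p)) :=
    (asPoly_monic R hp).free_adjoinRoot
  haveI : Module.Free (SymmetricAlgebra R R) (Tgt R p) :=
    Module.Free.of_equiv (alphaEquiv R p).toLinearEquiv
  have : Module.FaithfullyFlat (SymmetricAlgebra R R) (Tgt R p) := inferInstance
  exact this

theorem psi_finitePresentation : (psi R p).toRingHom.FinitePresentation := by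
  have : Algebra.FinitePresentation (SymmetricAlgebra R R) (Tgt R p) :=
    Algebra.FinitePresentation.equiv (alphaEquiv R p)
  exact this

end Ring

end Groth.Agent.Lib.helper2.AS
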