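import Mathlib
import Groth.Prelude.Def_Red2
import Groth.Prelude.Def_NonAbH2
import Groth.Agent.Lib.Helper15.DSPts
import Groth.Agent.Lib.Helper2.ASRing

/-! Artin–Schreier: the morphism `x ↦ x - x^p` of `𝔾_a` (helper2). -/

set_option autoImplicit false

namespace Groth.Agent.Lib.helper2.AS

open CategoryTheory MonoidalCategory CartesianMonoidalCategory MonObj GrpObj AlgebraicGeometry Limits
open Groth.Agent.Lib.helper15.GaGm Groth.Agent.Lib.helper15.DSPts

universe u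

section Cat

/-- a morphism of group objects which is multiplicative on points is a homomorphism -/
theorem isMonHom_of_mul {C : Type*} [Category C] [CartesianMonoidalCategory C]
    {G H : C} [GrpObj G] [GrpObj H] (f : G ⟶ H)
    (h : ∀ (T : C) (x y : T ⟶ G), (x * y) ≫ f = (x ≫ f) * (y ≫ f)) : IsMonHom f where
  one_hom := by
    have h1 := h (𝟙_ C) (1 : 𝟙_ C ⟶ G) 1
    rw [_root_.mul_one] at h1
    have h2 : (1 : 𝟙_ C ⟶ G) ≫ f = 1 := by
      have := mul_eq_left.1 h1.symm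
      exact this
    have h3 : (1 : 𝟙_ C ⟶ G) = η[G] := by
      rw [Hom.one_def]
      have : toUnit (𝟙_ C) = 𝟙 _ := toUnit_unique _ _
      rw [this, Category.id_comp]
    have h4 : (1 : 𝟙_ C ⟶ H) = η[H] := by
      rw [Hom.one_def]
      have : toUnit (𝟙_ C) = 𝟙 _ := toUnit_unique _ _
      rw [this, Category.id_comp]
    rw [← h3, h2, h4]
  mul_hom := by
    have h1 := h (G ⊗ G) (fst G G) (snd G G)
    have h2 : fst G G * snd G G = μ[G] := by
      rw [Hom.mul_def, lift_fst_snd, Category.id_comp]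
    have h3 : (fst G G ≫ f) * (snd G G ≫ f) = (f ⊗ₘ f) ≫ μ[H] := by
      rw [Hom.mul_def]
      congr 1
      ext <;> simp
    rw [← h2, h1, h3]

end Cat

section Scheme

variable (S : Scheme.{u}) (p : ℕ)

/-- `x ↦ x - x^p` on `𝔾_a` over `ℤ` -/
noncomputable def PZ : Red.GaZ.{u} ⟶ Red.GaZ.{u} := specMap (psi (ULift.{u} ℤ) p)

/-- `x ↦ x - x^p` on `𝔾_{a,S}` -/
noncomputable def PS : Red.Ga S ⟶ Red.Ga S := (Over.pullback (fS S)).map (PZ p)

variable {S}

lemma gaFn_comp_PS {X : Over S} (x : X ⟶ Red.Ga S) :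
    Red.gaFn (x ≫ PS S p) = Red.gaFn x - Red.gaFn x ^ p := by
  rw [gaFn_eq_pt, gaFn_eq_pt, PS, PZ, pt_map]
  have : (gaGen.{u}) = gen (ULift.{u} ℤ) := rfl
  rw [this, psi_gen, map_sub, map_pow]

variable {p}

theorem PS_cover (hp : 2 ≤ p) :
    Flat (PS S p).left ∧ Surjective (PS S p).left ∧ LocallyOfFinitePresentation (PS S p).left := by
  have hff := psi_faithfullyFlat (ULift.{u} ℤ) hp
  have hfp := psi_finitePresentation (ULift.{u} ℤ) p
  have h1 := (flat_and_surjective_SpecMap_iff (CommRingCat.ofHom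
    (psi (ULift.{u} ℤ) p).toRingHom)).mpr hff
  have h2 : LocallyOfFinitePresentation (Spec.map (CommRingCat.ofHom
    (psi (ULift.{u} ℤ) p).toRingHom)) :=
    (HasRingHomProperty.Spec_iff (P := @LocallyOfFinitePresentation)).mpr hfp
  refine ⟨?_, ?_, ?_⟩
  · exact Groth.Agent.Lib.helper15.DSMap.pullback_map_left_of_stable @Flat _ _ h1.1
  · exact Groth.Agent.Lib.helper15.DSMap.pullback_map_left_of_stable @Surjective _ _ h1.2
  · exact Groth.Agent.Lib.helper15.DSMap.pullback_map_left_of_stable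
      @LocallyOfFinitePresentation _ _ h2


section CharP

variable [Fact p.Prime] (hp : (p : Γ(S, ⊤)) = 0)
include hp

lemma natCast_eq_zero (T : Over S) : (p : Γ(T.left, ⊤)) = 0 := by
  have h := congrArg T.hom.appTop hp
  rwa [map_natCast, map_zero] at h

lemma add_pow_p (T : Over S) (a b : Γ(T.left, ⊤)) : (a + b) ^ p = a ^ p + b ^ p := by
  obtain ⟨r, hr⟩ := exists_add_pow_prime_eq (Fact.out : p.Prime) a b
  rw [hr, natCast_eq_zero hp T]
  ring

lemma PS_mul {T : Over S} (x y : T ⟶ Red.Ga S) :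
    (x * y) ≫ PS S p = (x ≫ PS S p) * (y ≫ PS S p) := by
  apply gaFn_injective
  rw [gaFn_comp_PS, gaFn_mul, gaFn_mul, gaFn_comp_PS, gaFn_comp_PS, add_pow_p hp]
  ring

omit hp in
theorem eq_PS (F : Red.Ga S ⟶ Red.Ga S)
    (hF : ∀ (T : Over S) (x : T ⟶ Red.Ga S), Red.gaFn (x ≫ F) = Red.gaFn x ^ p) :
    𝟙 (Red.Ga S) * F⁻¹ = PS S p := by
  apply gaFn_injective
  have h1 : Red.gaFn (PS S p) = Red.gaFn (𝟙 (Red.Ga S)) - Red.gaFn (𝟙 (Red.Ga S)) ^ p := by
    rw [← gaFn_comp_PS, Category.id_comp]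
  have h2 : Red.gaFn F = Red.gaFn (𝟙 (Red.Ga S)) ^ p := by
    rw [← hF, Category.id_comp]
  rw [gaFn_mul, gaFn_inv, h1, h2]
  ring

end CharP

end Scheme

end Groth.Agent.Lib.helper2.AS
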