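import Mathlib
import Groth.Prelude.Def_TwC
import Groth.Prelude.Def_Red2
import Groth.Agent.Lib.Helper15.GaGm
import Groth.Agent.Lib.Helper2.ConstPts

/-! Morphisms from constant schemes to `𝔾_a` with pairwise unit differences are monomorphisms on
points, with image cut out by `∏ (x - c_m) = 0` (helper2). -/

set_option autoImplicit false

namespace Groth.Agent.Lib.helper2.ConstPts

open CategoryTheory MonoidalCategory CartesianMonoidalCategory AlgebraicGeometry Limits
open Groth.Agent.Lib.helper15.GaGm

universe u v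

section Ga

variable {S : Scheme.{u}} {M : Type v} [Small.{u} M] (j : TwC.const S M ⟶ Red.Ga S)

/-- the value of `j` on the `m`-th copy -/
noncomputable def val (m : M) : Γ((𝟙_ (Over S)).left, ⊤) := Red.gaFn (TwC.pt S M m ≫ j)

lemma gaFn_toUnit_pt {T : Over S} (m : M) :
    Red.gaFn (toUnit T ≫ TwC.pt S M m ≫ j) = (toUnit T).left.appTop (val j m) := by
  rw [gaFn_comp]
  rfl

theorem const_hom_ext {T : Over S} (w w' : T ⟶ TwC.const S M)
    (hunit : ∀ m m' : M, m ≠ m' → IsUnit (val j m - val j m'))
    (h : w ≫ j = w' ≫ j) : w = w' := by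
  apply Over.OverMorphism.ext
  let V : M × M → T.left.Opens := fun q => piece w q.1 ⊓ piece w' q.2
  have hV : TopologicalSpace.IsOpenCover V := by
    apply TopologicalSpace.IsOpenCover.mk
    apply top_unique
    intro x _
    rw [TopologicalSpace.Opens.mem_iSup]
    have h1 : x ∈ ⨆ m, piece w m := by rw [(isOpenCover_piece w).iSup_eq_top]; trivial
    have h2 : x ∈ ⨆ m, piece w' m := by rw [(isOpenCover_piece w').iSup_eq_top]; trivial
    rw [TopologicalSpace.Opens.mem_iSup] at h1 h2
    obtain ⟨m, hm⟩ := h1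
    obtain ⟨m', hm'⟩ := h2
    exact ⟨(m, m'), hm, hm'⟩
  apply (T.left.openCoverOfIsOpenCover V hV).hom_ext
  rintro ⟨m, m'⟩
  change (V (m, m')).ι ≫ w.left = (V (m, m')).ι ≫ w'.left
  let VO : Over S := Over.mk ((V (m, m')).ι ≫ T.hom)
  let a : VO ⟶ T := Over.homMk (V (m, m')).ι rfl
  have e1 : a ≫ w = toUnit VO ≫ TwC.pt S M m :=
    comp_eq_of_le_piece w a m (fun x => (x.2).1)
  have e2 : a ≫ w' = toUnit VO ≫ TwC.pt S M m' :=
    comp_eq_of_le_piece w' a m' (fun x => (x.2).2)
  by_cases hm : m = m'
  · subst hm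
    exact congrArg (fun f => f.left) (e1.trans e2.symm)
  · have hemp : IsEmpty VO.left := by
      apply isEmpty_of_one_eq_zero
      have h3 : Red.gaFn (a ≫ w ≫ j) = Red.gaFn (a ≫ w' ≫ j) := by rw [h]
      rw [← Category.assoc, ← Category.assoc, e1, e2, Category.assoc, Category.assoc,
        gaFn_toUnit_pt, gaFn_toUnit_pt] at h3
      have h4 : (toUnit VO).left.appTop (val j m - val j m') = 0 := by
        rw [map_sub, h3, sub_self]
      have h5 := (hunit m m' hm).map (toUnit VO).left.appTop.hom
      rw [h4] at h5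
      exact (isUnit_zero_iff.1 h5).symm
    exact (isInitialOfIsEmpty (X := VO.left)).hom_ext _ _


theorem exists_const_hom [Fintype M] [DecidableEq M] {T : Over S}
    (hunit : ∀ m m' : M, m ≠ m' → IsUnit (val j m - val j m'))
    (x : T ⟶ Red.Ga S)
    (hx : ∏ m, (Red.gaFn x - (toUnit T).left.appTop (val j m)) = 0) :
    ∃ w : T ⟶ TwC.const S M, w ≫ j = x := by
  classical
  set d := Red.gaFn x with hd
  set c : M → Γ(T.left, ⊤) := fun m => (toUnit T).left.appTop (val j m) with hc
  have hcunit : ∀ m m', m ≠ m' → IsUnit (c m - c m') := by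
    intro m m' hm
    have := (hunit m m' hm).map (toUnit T).left.appTop.hom
    rwa [map_sub] at this
  let u : M → Γ(T.left, ⊤) := fun m => ∏ m' ∈ Finset.univ.erase m, (d - c m')
  have hmul : ∀ m, (d - c m) * u m = 0 := by
    intro m
    rw [Finset.mul_prod_erase Finset.univ (fun m' => d - c m') (Finset.mem_univ m)]
    exact hx
  let U : M → T.left.Opens := fun m => T.left.basicOpen (u m)
  have hU : TopologicalSpace.IsOpenCover U := by
    apply TopologicalSpace.IsOpenCover.mk
    apply top_unique
    intro x₀ _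
    rw [TopologicalSpace.Opens.mem_iSup]
    let g := (T.left.presheaf.germ ⊤ x₀ trivial).hom
    have h0 : ∏ m, g (d - c m) = 0 := by rw [← map_prod, hx, map_zero]
    have h1 : ∃ m, ¬ IsUnit (g (d - c m)) := by
      by_contra hcon
      push_neg at hcon
      have : IsUnit (∏ m, g (d - c m)) :=
        Finset.prod_induction _ IsUnit (fun _ _ => IsUnit.mul) isUnit_one (fun m _ => hcon m)
      rw [h0] at this
      exact not_isUnit_zero this
    obtain ⟨m, hm⟩ := h1
    refine ⟨m, ?_⟩
    rw [T.left.mem_basicOpen_top]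
    change IsUnit (g (u m))
    rw [map_prod]
    apply Finset.prod_induction _ IsUnit (fun _ _ => IsUnit.mul) isUnit_one
    intro m' hm'
    have hne : m ≠ m' := fun h => (Finset.ne_of_mem_erase hm') h.symm
    have h2 : IsUnit (g (d - c m') + (- g (d - c m))) := by
      have h3 : g (d - c m') + (- g (d - c m)) = g (c m - c m') := by
        rw [← map_neg, ← map_add]
        congr 1
        ring
      rw [h3]
      exact (hcunit m m' hne).map g
    rcases IsLocalRing.isUnit_or_isUnit_of_isUnit_add h2 with h4 | h4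
    · exact h4
    · exact (hm (IsUnit.neg_iff _ |>.1 h4)).elim
  -- the local pieces
  let TU : M → Over S := fun m => Over.mk ((U m).ι ≫ T.hom)
  let incl : ∀ m, TU m ⟶ T := fun m => Over.homMk (U m).ι rfl
  obtain ⟨z, hzdef⟩ : ∃ z : ∀ m, TU m ⟶ TwC.const S M,
      ∀ m, z m = toUnit (TU m) ≫ TwC.pt S M m := ⟨_, fun _ => rfl⟩
  have hzj : ∀ m, z m ≫ j = incl m ≫ x := by
    intro m
    apply gaFn_injective
    rw [hzdef m, Category.assoc]
    rw [gaFn_toUnit_pt, gaFn_comp]
    change ((U m).ι ≫ (toUnit T).left).appTop (val j m) = (U m).ι.appTop d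
    rw [Scheme.Hom.comp_appTop]
    change (U m).ι.appTop (c m) = (U m).ι.appTop d
    have h1 : IsUnit ((U m).ι.appTop (u m)) := by
      apply isUnit_of_basicOpen_eq_top
      rw [← Scheme.preimage_basicOpen_top]
      exact Scheme.Opens.ι_preimage_self _
    have h2 : (U m).ι.appTop (d - c m) * (U m).ι.appTop (u m) = 0 := by
      rw [← map_mul, hmul, map_zero]
    have h3 : (U m).ι.appTop (d - c m) = 0 := (h1.mul_left_eq_zero).1 h2
    rw [map_sub, sub_eq_zero] at h3
    exact h3.symm
  have hz : ∀ m m', pullback.fst (U m).ι (U m').ι ≫ (z m).left =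
      pullback.snd (U m).ι (U m').ι ≫ (z m').left := by
    intro m m'
    let QO : Over S := Over.mk (pullback.fst (U m).ι (U m').ι ≫ (U m).ι ≫ T.hom)
    let a : QO ⟶ TU m := Over.homMk (pullback.fst (U m).ι (U m').ι) rfl
    let b : QO ⟶ TU m' := Over.homMk (pullback.snd (U m).ι (U m').ι) (by
      change pullback.snd (U m).ι (U m').ι ≫ (U m').ι ≫ T.hom = _
      rw [← pullback.condition_assoc]
      rfl)
    have hab : a ≫ incl m = b ≫ incl m' := by
      apply Over.OverMorphism.ext
      exact pullback.condition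
    have h1 : (a ≫ z m) ≫ j = (b ≫ z m') ≫ j := by
      rw [Category.assoc, Category.assoc, hzj m, hzj m', ← Category.assoc, ← Category.assoc, hab]
    have h2 := const_hom_ext j _ _ hunit h1
    exact congrArg (fun f => f.left) h2
  obtain ⟨w, hw⟩ := exists_glue U hU z hz
  refine ⟨w, ?_⟩
  apply gaFn_injective
  apply Scheme.OpenCover.ext_elem _ _ (T.left.openCoverOfIsOpenCover U hU)
  intro m
  change (incl m).left.appTop (Red.gaFn (w ≫ j)) = (incl m).left.appTop (Red.gaFn x)
  rw [← gaFn_comp, ← gaFn_comp, ← Category.assoc]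
  have := hw m
  change incl m ≫ w = z m at this
  rw [this, hzj]

end Ga

end Groth.Agent.Lib.helper2.ConstPts
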