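import Mathlib
import Groth.Prelude.Def_TwC
import Groth.Prelude.Def_Red2
import Groth.Prelude.Def_NonAbH2
import Groth.Agent.Lib.Helper15.DSPts
import Groth.Agent.Lib.Helper2.ASMap
import Groth.Agent.Lib.Helper2.ConstGa

/-! The Artin–Schreier sequence is exact for the fpqc topology (helper2). -/

set_option autoImplicit false

namespace Groth.Agent.Lib.helper2.AS

open CategoryTheory MonoidalCategory CartesianMonoidalCategory MonObj GrpObj AlgebraicGeometry Limits
open Groth.Agent.Lib.helper15.GaGm Groth.Agent.Lib.helper15.DSPts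
open Groth.Agent.Lib.helper2.ConstPts

universe u

section ZMod

variable (p : ℕ) [Fact p.Prime]

/-- the ring homomorphism `ℤ/p → R` when `p = 0` in `R` -/
noncomputable def zmodHom (R : Type*) [CommRing R] (h : (p : R) = 0) : ZMod p →+* R :=
  (Ideal.Quotient.lift (Ideal.span {(p : ℤ)}) (Int.castRingHom R) (by
    intro a ha
    obtain ⟨b, rfl⟩ := Ideal.mem_span_singleton'.1 ha
    simp [h])).comp (Int.quotientSpanNatEquivZMod p).symm.toRingHom

open Polynomial in
theorem prod_X_sub_C : ∏ a : ZMod p, (X - C a) = (X ^ p - X : (ZMod p)[X]) := by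
  have hp1 : 1 < p := (Fact.out : p.Prime).one_lt
  have hroots : (X ^ p - X : (ZMod p)[X]).roots = Finset.univ.val := by
    have := FiniteField.roots_X_pow_card_sub_X (ZMod p)
    rwa [ZMod.card] at this
  have hdeg : (X ^ p - X : (ZMod p)[X]).natDegree = p :=
    FiniteField.X_pow_card_sub_X_natDegree_eq (ZMod p) hp1
  have hmonic : (X ^ p - X : (ZMod p)[X]).Monic := by
    apply Polynomial.monic_X_pow_sub
    rw [degree_X]
    exact_mod_cast hp1
  have h := Polynomial.prod_multiset_X_sub_C_of_monic_of_roots_card_eq hmonic (by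
    rw [hroots, hdeg]
    simp [ZMod.card])
  rw [hroots] at h
  exact h

theorem prod_sub_eq {R : Type*} [CommRing R] (φ : ZMod p →+* R) (d : R) :
    ∏ a : ZMod p, (d - φ a) = d ^ p - d := by
  have h := congrArg (Polynomial.eval₂ φ d) (prod_X_sub_C p)
  rw [Polynomial.eval₂_finsetProd] at h
  simpa using h

end ZMod

section Main

theorem val_eq (p : ℕ) [Fact p.Prime] {S : Scheme.{u}} (hp : (p : Γ(S, ⊤)) = 0)
    {G' : Over S} [GrpObj G'] (e : G' ≅ TwC.const S (Multiplicative (ZMod p)))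
    (he : TwC.IsConstGrp (Multiplicative (ZMod p)) G' e)
    (i : G' ⟶ Red.Ga S) [IsMonHom i]
    (hi : Red.gaFn (TwC.pt S (Multiplicative (ZMod p)) (Multiplicative.ofAdd 1) ≫ e.inv ≫ i) = 1)
    (m : Multiplicative (ZMod p)) :
    val (e.inv ≫ i) m = zmodHom p Γ((𝟙_ (Over S)).left, ⊤) hp (Multiplicative.toAdd m) := by
  have hadd : ∀ m n : Multiplicative (ZMod p),
      val (e.inv ≫ i) (m * n) = val (e.inv ≫ i) m + val (e.inv ≫ i) n := by
    intro m n
    unfold val
    have h1 := he m n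
    calc Red.gaFn (TwC.pt S _ (m * n) ≫ e.inv ≫ i)
        = Red.gaFn ((TwC.pt S _ (m * n) ≫ e.inv) ≫ i) := by rw [Category.assoc]
      _ = Red.gaFn (((TwC.pt S _ m ≫ e.inv) * (TwC.pt S _ n ≫ e.inv)) ≫ i) := by rw [h1]
      _ = Red.gaFn (((TwC.pt S _ m ≫ e.inv) ≫ i) * ((TwC.pt S _ n ≫ e.inv) ≫ i)) := by
          exact congrArg Red.gaFn (MonObj.mul_comp _ _ i)
      _ = _ := by rw [gaFn_mul, Category.assoc, Category.assoc]
  let Ψ : Multiplicative (ZMod p) →* Multiplicative Γ((𝟙_ (Over S)).left, ⊤) :=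
    MonoidHom.mk' (fun m => Multiplicative.ofAdd (val (e.inv ≫ i) m)) (fun a b => by
      rw [hadd]; rfl)
  have h1 : Ψ (Multiplicative.ofAdd (1 : ZMod p)) = Multiplicative.ofAdd 1 := by
    change Multiplicative.ofAdd (val (e.inv ≫ i) (Multiplicative.ofAdd 1)) = _
    unfold val
    rw [hi]
  obtain ⟨a, ha⟩ : ∃ a : ZMod p, m = Multiplicative.ofAdd a := ⟨Multiplicative.toAdd m, rfl⟩
  rw [ha]
  have h2 : (Multiplicative.ofAdd a) = (Multiplicative.ofAdd (1 : ZMod p)) ^ a.val := by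
    rw [← ofAdd_nsmul, nsmul_one, ZMod.natCast_zmod_val]
  have h3 : Ψ (Multiplicative.ofAdd a) = Multiplicative.ofAdd ((a.val : ℕ) : Γ((𝟙_ (Over S)).left, ⊤)) := by
    rw [h2, map_pow, h1, ← ofAdd_nsmul, nsmul_one]
  have h4 : val (e.inv ≫ i) (Multiplicative.ofAdd a) = ((a.val : ℕ) : Γ((𝟙_ (Over S)).left, ⊤)) :=
    Multiplicative.ofAdd.injective h3
  rw [h4, toAdd_ofAdd]
  conv_rhs => rw [← ZMod.natCast_zmod_val a, map_natCast]

theorem val_unit (p : ℕ) [Fact p.Prime] {S : Scheme.{u}} (hp : (p : Γ(S, ⊤)) = 0)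
    {G' : Over S} [GrpObj G'] (e : G' ≅ TwC.const S (Multiplicative (ZMod p)))
    (he : TwC.IsConstGrp (Multiplicative (ZMod p)) G' e)
    (i : G' ⟶ Red.Ga S) [IsMonHom i]
    (hi : Red.gaFn (TwC.pt S (Multiplicative (ZMod p)) (Multiplicative.ofAdd 1) ≫ e.inv ≫ i) = 1)
    (m m' : Multiplicative (ZMod p)) (h : m ≠ m') :
    IsUnit (val (e.inv ≫ i) m - val (e.inv ≫ i) m') := by
  rw [val_eq p hp e he i hi, val_eq p hp e he i hi, ← map_sub]
  apply IsUnit.map
  rw [isUnit_iff_ne_zero, sub_ne_zero]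
  intro h'
  exact h (Multiplicative.toAdd.injective h')

theorem artinSchreier (p : ℕ) [Fact p.Prime] {S : Scheme.{u}}
    (hp : (p : Γ(S, ⊤)) = 0) (F : Red.Ga S ⟶ Red.Ga S)
    (hF : ∀ (T : Over S) (x : T ⟶ Red.Ga S), Red.gaFn (x ≫ F) = Red.gaFn x ^ p)
    {G' : Over S} [GrpObj G'] (e : G' ≅ TwC.const S (Multiplicative (ZMod p)))
    (he : TwC.IsConstGrp (Multiplicative (ZMod p)) G' e)
    (i : G' ⟶ Red.Ga S) [IsMonHom i]
    (hi : Red.gaFn (TwC.pt S (Multiplicative (ZMod p)) (Multiplicative.ofAdd 1) ≫ e.inv ≫ i) = 1) :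
    NonAbH1.IsExactSeq Scheme.fpqcPrecoverage i (𝟙 (Red.Ga S) * F⁻¹) := by
  rw [eq_PS F hF]
  have hp2 : 2 ≤ p := (Fact.out : p.Prime).two_le
  haveI hPmon : IsMonHom (PS S p) := isMonHom_of_mul _ (fun T x y => PS_mul hp x y)
  obtain ⟨j, hj⟩ : ∃ j : TwC.const S (Multiplicative (ZMod p)) ⟶ Red.Ga S, j = e.inv ≫ i :=
    ⟨_, rfl⟩
  have hval : ∀ m, val j m = zmodHom p Γ((𝟙_ (Over S)).left, ⊤) hp (Multiplicative.toAdd m) := by
    intro m; rw [hj]; exact val_eq p hp e he i hi m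
  have hunit : ∀ m m' : Multiplicative (ZMod p), m ≠ m' → IsUnit (val j m - val j m') := by
    intro m m' h; rw [hj]; exact val_unit p hp e he i hi m m' h
  have hij : i = e.hom ≫ j := by rw [hj, Iso.hom_inv_id_assoc]
  -- the composite is trivial
  have hcomp : i ≫ PS S p = 1 := by
    apply gaFn_injective
    rw [gaFn_comp_PS, gaFn_one, sub_eq_zero]
    rw [hij, gaFn_comp, ← map_pow]
    congr 1
    apply Scheme.OpenCover.ext_elem _ _ (sigmaOpenCover (fun _ : Multiplicative (ZMod p) => S))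
    intro (m : Multiplicative (ZMod p))
    change (TwC.pt S (Multiplicative (ZMod p)) m).left.appTop (Red.gaFn j) =
      (TwC.pt S (Multiplicative (ZMod p)) m).left.appTop (Red.gaFn j ^ p)
    rw [map_pow, ← gaFn_comp]
    change val j m = val j m ^ p
    rw [hval, ← map_pow, ZMod.pow_card]
  have hex : ∀ (T : Over S) (c : T ⟶ Red.Ga S), c ≫ PS S p = 1 → ∃ z : T ⟶ G', z ≫ i = c := by
    intro T c hc
    have h1 : Red.gaFn c ^ p = Red.gaFn c := by
      have := congrArg Red.gaFn hc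
      rw [gaFn_comp_PS, gaFn_one, sub_eq_zero] at this
      exact this.symm
    have hx : ∏ m : Multiplicative (ZMod p),
        (Red.gaFn c - (toUnit T).left.appTop (val j m)) = 0 := by
      let φ : ZMod p →+* Γ(T.left, ⊤) :=
        ((toUnit T).left.appTop.hom).comp (zmodHom p Γ((𝟙_ (Over S)).left, ⊤) hp)
      have h2 : ∀ m : Multiplicative (ZMod p),
          (toUnit T).left.appTop (val j m) = φ (Multiplicative.toAdd m) := by
        intro m; rw [hval]; rfl
      simp only [h2]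
      rw [Fintype.prod_equiv Multiplicative.toAdd
        (fun m => Red.gaFn c - φ (Multiplicative.toAdd m)) (fun a => Red.gaFn c - φ a)
        (fun _ => rfl)]
      rw [prod_sub_eq, h1, sub_self]
    obtain ⟨w, hw⟩ := exists_const_hom j hunit c hx
    exact ⟨w ≫ e.inv, by rw [Category.assoc, ← hj]; exact hw⟩
  have huniq : ∀ (T : Over S) (z z' : T ⟶ G'), z ≫ i = z' ≫ i → z = z' := by
    intro T z z' h
    have h1 : (z ≫ e.hom) ≫ j = (z' ≫ e.hom) ≫ j := by
      rw [Category.assoc, Category.assoc, ← hij]; exact h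
    have h2 := const_hom_ext j _ _ hunit h1
    exact (cancel_mono e.hom).1 h2
  obtain ⟨h1, h2, h3⟩ := PS_cover (S := S) hp2
  refine ⟨inferInstance, hPmon, hcomp, isPullback_of_kernel _ _ hex huniq hcomp, ?_⟩
  refine ⟨_, Scheme.fppfPrecoverage_le_fpqcPrecoverage _
    (Scheme.Hom.singleton_mem_fppfPrecoverage (PS S p).left), ?_⟩
  intro S' f hf
  cases hf
  exact ⟨𝟙 _, Category.id_comp _⟩

end Main

end Groth.Agent.Lib.helper2.AS
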