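import Groth.Agent.Lib.Helper2.IM5
import Groth.Agent.Lib.Helper7.TorAPI3

/-!
# helper2: `Tor` on modules: linearity in the second variable, vanishing above the projective
dimension, finiteness
-/

universe u

open CategoryTheory Category Limits MonoidalCategory TensorProduct

namespace Groth.Agent.Lib.helper2.Aus

open Groth.Agent.Lib.helper7.TorAPI

variable {A : Type u} [CommRing A]

set_option backward.isDefEq.respectTransparency false in
theorem homologyMap_smul {K L : ChainComplex (ModuleCat.{u} A) ℕ} (a : A) (φ : K ⟶ L) (i : ℕ) :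
    HomologicalComplex.homologyMap (a • φ) i = a • HomologicalComplex.homologyMap φ i := by
  dsimp [HomologicalComplex.homologyMap]
  rw [← ShortComplex.homologyMap_smul]
  rfl

/-- `Tor_i(M, x • 𝟙) = x • 𝟙`. -/
theorem leftDerived_map_smul (M N : ModuleCat.{u} A) (i : ℕ) (x : A) :
    ((tF M).leftDerived i).map (x • 𝟙 N) = x • 𝟙 _ := by
  let P := ProjectiveResolution.of N
  have comm : (x • 𝟙 P.complex : P.complex ⟶ P.complex).f 0 ≫ P.π.f 0 =
      P.π.f 0 ≫ (x • 𝟙 N) := by
    simp
  have nat := P.isoLeftDerivedObj_hom_naturality (x • 𝟙 N) P (x • 𝟙 P.complex) comm (tF M) i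
  have h1 : ((tF M).mapHomologicalComplex (ComplexShape.down ℕ)).map (x • 𝟙 P.complex) =
      x • 𝟙 _ := by
    rw [Functor.map_smul, CategoryTheory.Functor.map_id]
  have h2 : ((tF M).mapHomologicalComplex (ComplexShape.down ℕ) ⋙
      HomologicalComplex.homologyFunctor (ModuleCat A) (ComplexShape.down ℕ) i).map
        (x • 𝟙 P.complex) = x • 𝟙 _ := by
    rw [Functor.comp_map, h1]
    change HomologicalComplex.homologyMap (x • 𝟙 _) i = _
    rw [homologyMap_smul, HomologicalComplex.homologyMap_id]
    rfl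
  rw [h2] at nat
  have h3 : ((tF M).leftDerived i).map (x • 𝟙 N) ≫ (P.isoLeftDerivedObj (tF M) i).hom =
      (x • 𝟙 _) ≫ (P.isoLeftDerivedObj (tF M) i).hom := by
    refine nat.trans ?_
    rw [Linear.comp_smul, Linear.smul_comp]
    erw [comp_id]
  exact (cancel_mono (P.isoLeftDerivedObj (tF M) i).hom).1 h3

theorem T_map_smul (M N : ModuleCat.{u} A) (i : ℕ) (x : A) :
    (T i M).map (x • 𝟙 N) = x • 𝟙 _ := leftDerived_map_smul M N i x

end Groth.Agent.Lib.helper2.Aus

namespace Groth.Agent.Lib.helper2.Aus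

open Groth.Agent.Lib.helper7.TorAPI

variable {A : Type u} [CommRing A]

/-- `Tor_i(N, M) = 0` for `i > p` when `pd M ≤ p` (second variable). -/
theorem isZero_T_of_hasProjectiveDimensionLT (N : ModuleCat.{u} A) :
    ∀ (p : ℕ) (M : ModuleCat.{u} A), HasProjectiveDimensionLT M (p + 1) →
      ∀ i, p < i → IsZero ((T i N).obj M) := by
  intro p
  induction p with
  | zero =>
    intro M hM i hi
    haveI : Projective M := projective_iff_hasProjectiveDimensionLT_one.2 hM
    obtain ⟨j, rfl⟩ : ∃ j, i = j + 1 := ⟨i - 1, by omega⟩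
    exact isZero_T_projective N M j
  | succ p ih =>
    intro M hM i hi
    have hS := pres_shortExact M
    haveI : Projective (pres M).X₂ := inferInstance
    have hK : HasProjectiveDimensionLT (pres M).X₁ (p + 1) :=
      hS.hasProjectiveDimensionLT_X₁ (p + 1) inferInstance hM
    obtain ⟨j, rfl⟩ : ∃ j, i = j + 1 := ⟨i - 1, by omega⟩
    obtain ⟨k, rfl⟩ : ∃ k, j = k + 1 := ⟨j - 1, by omega⟩
    exact (isZero_succ_iff N hS (k + 1) (isZero_T_projective N _ (k + 1))
      (isZero_T_projective N _ k)).2 (ih _ hK (k + 1) (by omega))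

end Groth.Agent.Lib.helper2.Aus

namespace Groth.Agent.Lib.helper2.Aus

open Groth.Agent.Lib.helper7.TorAPI

variable {A : Type u} [CommRing A]

/-- `Tor_i(M, N)` is finite for finite `M`, `N` over a Noetherian ring. -/
theorem finite_T [IsNoetherianRing A] (M : ModuleCat.{u} A) [Module.Finite A M] :
    ∀ (i : ℕ) (N : ModuleCat.{u} A) [Module.Finite A N], Module.Finite A ((T i M).obj N) := by
  intro i
  induction i with
  | zero =>
    intro N _
    have e : (T 0 M).obj N ≃ₗ[A] (M ⊗[A] N) := ((tor0Iso M).app N).toLinearEquiv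
    exact Module.Finite.equiv e.symm
  | succ i ih =>
    intro N _
    obtain ⟨r, π, hπ⟩ := Module.Finite.exists_fin' A N
    have hS := LinearMap.shortExact_shortComplexKer hπ
    obtain ⟨δ, w₁, w₂, e₁, e₂⟩ := T_exists_δ M hS i
    haveI : Projective (π.shortComplexKer).X₂ := by
      change Projective (ModuleCat.of A (Fin r → A))
      infer_instance
    haveI : Mono δ := e₁.mono_g ((isZero_T_projective M _ i).eq_of_src _ _)
    haveI : Module.Finite A ((π.shortComplexKer).X₁) := by
      change Module.Finite A (LinearMap.ker π)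
      infer_instance
    have hfin := ih (π.shortComplexKer).X₁
    exact Module.Finite.of_injective δ.hom ((ModuleCat.mono_iff_injective δ).1 inferInstance)

theorem smul_T_eq_zero_right (M N : ModuleCat.{u} A) (i : ℕ) (a : A)
    (ha : ∀ n : N, a • n = 0) (t : (T i M).obj N) : a • t = 0 := by
  have h0 : a • 𝟙 N = (0 : A) • 𝟙 N := by
    ext n
    change a • n = (0 : A) • n
    rw [ha n, zero_smul]
  have h1 := leftDerived_map_smul M N i a
  rw [h0, leftDerived_map_smul, zero_smul] at h1
  have h2 := congrArg (fun f => f.hom t) h1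
  exact h2.symm

theorem smul_T_eq_zero_left (M N : ModuleCat.{u} A) (i : ℕ) (a : A)
    (ha : ∀ m : M, a • m = 0) (t : (T i M).obj N) : a • t = 0 := by
  obtain ⟨e⟩ := Groth.Agent.Lib.helper2.IM.nonempty_tor_symm M N i
  have h1 := smul_T_eq_zero_right N M i a ha (e.hom.hom t)
  have h2 : e.hom.hom (a • t) = 0 := by rw [map_smul, h1]
  have h3 : Function.Injective e.hom.hom := (ModuleCat.mono_iff_injective e.hom).1 inferInstance
  exact h3 (h2.trans (map_zero _).symm)

end Groth.Agent.Lib.helper2.Aus
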