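import Groth.Agent.Lib.Helper2.IM5
import Groth.Agent.Lib.Helper26.Kos15
import Groth.Agent.Lib.Helper26.CM2
import Groth.Agent.Lib.Helper26.SkLift

/-!
# helper2: `χ(A/J, A/I) = length A/(J + I)` for `I` generated by an `A`-regular sequence which
is a system of parameters on the Cohen–Macaulay ring `A/J`
-/

universe u

open CategoryTheory Category Limits MonoidalCategory TensorProduct RingTheory.Sequence IsLocalRing

namespace Groth.Agent.Lib.helper2.IM

open Groth.Agent.Lib.helper7.TorAPI Groth.Agent.Lib.helper26.Kos Groth.Agent.Lib.helper26.Depth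

variable {A : Type u} [CommRing A] [IsNoetherianRing A] [IsLocalRing A]

theorem chi_eq_length_of_isWeaklyRegular (J I : Ideal A) (l : List A)
    (hI : I = Ideal.span {b | b ∈ l}) (hl : IsWeaklyRegular A l)
    (hmem : ∀ r ∈ l, r ∈ maximalIdeal A) (hJ : IsWeaklyRegular (A ⧸ J) l) :
    IntMult.chi A (A ⧸ J) (A ⧸ I) = ((Module.length A (A ⧸ (J ⊔ I))).toNat : ℤ) := by
  rw [chi_symm]
  have hvan := (isWeaklyRegular_iff_tor_eq_zero (A ⧸ J) l hmem hl I hI).1 hJ
  unfold IntMult.chi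
  rw [finsum_eq_single _ 0]
  · rw [pow_zero, one_mul]
    congr 2
    have e1 : DRing.Tor A 0 (A ⧸ I) (A ⧸ J) ≃ₗ[A] ((A ⧸ I) ⊗[A] (A ⧸ J)) :=
      ((tor0Iso (ModuleCat.of A (A ⧸ I))).app (ModuleCat.of A (A ⧸ J))).toLinearEquiv
    rw [sup_comm]
    exact (e1 ≪≫ₗ tensorQuotEquiv I J).length_eq
  · intro i hi
    have hz := hvan i (Nat.one_le_iff_ne_zero.2 hi)
    rw [Module.length_eq_zero]
    simp

theorem isCohenMacaulayModule_quotient (J : Ideal A)
    (hCM : LocCoh.IsCohenMacaulayLocalRing (A ⧸ J)) : LocCoh.IsCohenMacaulayModule A (A ⧸ J) := by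
  have h := hCM.supportDim_eq_depth
  unfold LocCoh.IsCohenMacaulayModule
  rw [Module.supportDim_quotient_eq_ringKrullDim, ← Module.supportDim_self_eq_ringKrullDim, h,
    depth_quotient_ring_eq J]
  rfl

theorem supportDim_quot_ofList_smul_top (J : Ideal A) (l : List A) :
    Module.supportDim A ((A ⧸ J) ⧸ (Ideal.ofList l • ⊤ : Submodule A (A ⧸ J))) =
      ringKrullDim (A ⧸ (J ⊔ Ideal.ofList l)) := by
  have e : ((A ⧸ J) ⧸ (Ideal.ofList l • ⊤ : Submodule A (A ⧸ J))) ≃ₗ[A]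
      (A ⧸ (J ⊔ Ideal.ofList l)) :=
    (Submodule.quotEquivOfEq _ _ (smul_top_quot (Ideal.ofList l) J)) ≪≫ₗ
      (Submodule.quotientQuotientEquivQuotient J (Ideal.ofList l ⊔ J) le_sup_right) ≪≫ₗ
      (Submodule.quotEquivOfEq _ _ (sup_comm _ _))
  rw [Module.supportDim_eq_of_equiv e, Module.supportDim_quotient_eq_ringKrullDim]

theorem isWeaklyRegular_quot_of_cm (J : Ideal A) (l : List A)
    (hmem : ∀ r ∈ l, r ∈ maximalIdeal A)
    (hCM : LocCoh.IsCohenMacaulayLocalRing (A ⧸ J))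
    (hdim : ringKrullDim (A ⧸ (J ⊔ Ideal.ofList l)) + l.length = ringKrullDim (A ⧸ J)) :
    IsWeaklyRegular (A ⧸ J) l := by
  apply isWeaklyRegular_of_supportDim_quot_ofList l (A ⧸ J) (isCohenMacaulayModule_quotient J hCM)
    hmem
  rw [Module.supportDim_quotient_eq_ringKrullDim, ← hdim]
  congr 1
  have e : ((A ⧸ J) ⧸ (Ideal.ofList l • ⊤ : Submodule A (A ⧸ J))) ≃ₗ[A]
      (A ⧸ (J ⊔ Ideal.ofList l)) :=
    (Submodule.quotEquivOfEq _ _ (smul_top_quot (Ideal.ofList l) J)) ≪≫ₗ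
      (Submodule.quotientQuotientEquivQuotient J (Ideal.ofList l ⊔ J) le_sup_right) ≪≫ₗ
      (Submodule.quotEquivOfEq _ _ (sup_comm _ _))
  rw [Module.supportDim_eq_of_equiv e, Module.supportDim_quotient_eq_ringKrullDim]

end Groth.Agent.Lib.helper2.IM
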