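import Groth.Agent.Lib.Helper2.AUS2
import Groth.Agent.Lib.Helper2.IM6
import Groth.Agent.Lib.Helper19.Falt2

/-!
# helper2: `χ(A/Q, A/P) = length A/(P + Q)` for Cohen–Macaulay quotients of a regular local ring
meeting properly
-/

universe u

open CategoryTheory Category Limits MonoidalCategory TensorProduct IsLocalRing
  RingTheory.Sequence LocCoh

namespace Groth.Agent.Lib.helper2.Aus

open Groth.Agent.Lib.helper7.TorAPI Groth.Agent.Lib.helper26.Depth

variable {A : Type u} [CommRing A]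

/-- the depth of a Cohen–Macaulay quotient ring as a module. -/
theorem depth_quotient_of_cm [IsNoetherianRing A] [IsLocalRing A] (Q : Ideal A) (w : ℕ)
    (hw : ringKrullDim (A ⧸ Q) = w) (hCM : LocCoh.IsCohenMacaulayLocalRing (A ⧸ Q)) :
    LocCoh.depth A (A ⧸ Q) = (w : ℕ∞) := by
  have h := hCM.supportDim_eq_depth
  rw [Module.supportDim_self_eq_ringKrullDim, hw, depth_quotient_ring_eq Q] at h
  have h' : ((w : ℕ∞) : WithBot ℕ∞) = ((idealDepth (maximalIdeal A) (A ⧸ Q) : ℕ∞) : WithBot ℕ∞) := h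
  exact (WithBot.coe_injective h').symm

theorem chi_eq_length_of_cm [IsRegularLocalRing A] (P Q : Ideal A) (hP : P ≠ ⊤) (hQ : Q ≠ ⊤)
    (a v w : ℕ) (ha : ringKrullDim A = a) (hv : ringKrullDim (A ⧸ P) = v)
    (hw : ringKrullDim (A ⧸ Q) = w) (hdim : a ≤ v + w)
    (hCMP : LocCoh.IsCohenMacaulayLocalRing (A ⧸ P))
    (hCMQ : LocCoh.IsCohenMacaulayLocalRing (A ⧸ Q))
    (hsupp : ∀ Qr : PrimeSpectrum A, P ⊔ Q ≤ Qr.asIdeal → Qr.asIdeal.IsMaximal) :
    IntMult.chi A (A ⧸ Q) (A ⧸ P) = ((Module.length A (A ⧸ (P ⊔ Q))).toNat : ℤ) := by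
  have hdP := depth_quotient_of_cm P v hv hCMP
  have hdQ := depth_quotient_of_cm Q w hw hCMQ
  haveI : Nontrivial (A ⧸ Q) := Ideal.Quotient.nontrivial_iff.2 hQ
  haveI : Nontrivial (A ⧸ P) := Ideal.Quotient.nontrivial_iff.2 hP
  -- projective dimension of `A/Q`
  have hpd : HasProjectiveDimensionLT (ModuleCat.of A (A ⧸ Q)) (a - w + 1) := by
    rw [Groth.Agent.Lib.helper19.Falt.pd_lt_iff A (A ⧸ Q) (a : ℕ∞) (by rw [ha]; rfl) (a - w + 1)]
    right
    rw [hdQ]
    have : a < (a - w + 1) + w := by omega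
    exact_mod_cast this
  have hp : ∀ (N' : ModuleCat.{u} A) (i : ℕ), a - w < i →
      IsZero ((T i (ModuleCat.of A (A ⧸ Q))).obj N') := by
    intro N' i hi
    obtain ⟨e⟩ := Groth.Agent.Lib.helper2.IM.nonempty_tor_symm (ModuleCat.of A (A ⧸ Q)) N' i
    exact (isZero_T_of_hasProjectiveDimensionLT N' (a - w) _ hpd i hi).of_iso e
  -- a regular sequence of length `v` on `A/P`
  have htop : maximalIdeal A • (⊤ : Submodule A (A ⧸ P)) ≠ ⊤ := by
    intro h
    have := Submodule.eq_bot_of_le_smul_of_le_jacobson_bot (maximalIdeal A)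
      (⊤ : Submodule A (A ⧸ P)) (IsNoetherian.noetherian _) h.ge
      (IsLocalRing.maximalIdeal_le_jacobson _)
    exact top_ne_bot this
  obtain ⟨rs, hlen, hmem, hreg⟩ := exists_isWeaklyRegular_of_le (I := maximalIdeal A)
    (M := A ⧸ P) htop (n := v) (by unfold LocCoh.depth at hdP; rw [hdP])
  have hS : SuppCond A (A ⧸ Q) (A ⧸ P) := by
    intro Qr hQr
    apply hsupp Qr
    rw [Ideal.annihilator_quotient, Ideal.annihilator_quotient, sup_comm] at hQr
    exact hQr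
  have hvan : ∀ i, 1 ≤ i → IsZero ((T i (ModuleCat.of A (A ⧸ Q))).obj (ModuleCat.of A (A ⧸ P))) := by
    intro i hi
    exact isZero_T_of_isWeaklyRegular (A ⧸ Q) (a - w) hp rs (A ⧸ P) hreg hmem hS i (by omega)
  unfold IntMult.chi
  rw [finsum_eq_single _ 0]
  · rw [pow_zero, one_mul]
    congr 2
    have e1 : DRing.Tor A 0 (A ⧸ Q) (A ⧸ P) ≃ₗ[A] ((A ⧸ Q) ⊗[A] (A ⧸ P)) :=
      ((tor0Iso (ModuleCat.of A (A ⧸ Q))).app (ModuleCat.of A (A ⧸ P))).toLinearEquiv
    rw [sup_comm]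
    exact (e1 ≪≫ₗ Groth.Agent.Lib.helper2.IM.tensorQuotEquiv Q P).length_eq
  · intro i hi
    have hz := hvan i (Nat.one_le_iff_ne_zero.2 hi)
    have hsub : Subsingleton (DRing.Tor A i (A ⧸ Q) (A ⧸ P)) :=
      ModuleCat.subsingleton_of_isZero hz
    rw [Module.length_eq_zero]
    simp

end Groth.Agent.Lib.helper2.Aus
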