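import Mathlib
import Groth.Prelude.Def_CAlg
import Groth.Agent.Lib.Helper2.Acyc6
import Groth.Agent.Lib.Helper8.StalkLenAlg

/-!
# helper2: the local step of the Buchsbaum–Eisenbud criterion
-/

set_option autoImplicit false
universe u

open LocCoh CategoryTheory Abelian IsLocalRing

namespace Groth.Agent.Lib.helper2.Acyc

open Groth.Agent.Lib.helper26.Depth

section MatLoc

variable {R : Type u} [CommRing R] (p : Ideal R) [p.IsPrime]

lemma loc_zero {a : ℕ} (x : Fin a → R)
    (hx : ∀ k, algebraMap R (Localization.AtPrime p) (x k) = 0) : ∃ u, u ∉ p ∧ u • x = 0 := by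
  have h1 : ∀ k, ∃ t : p.primeCompl, (t : R) * x k = 0 := fun k =>
    (IsLocalization.map_eq_zero_iff p.primeCompl (Localization.AtPrime p) (x k)).mp (hx k)
  choose t ht using h1
  refine ⟨((∏ k, t k : p.primeCompl) : R), (∏ k, t k : p.primeCompl).2, ?_⟩
  ext k
  rw [Pi.smul_apply, Pi.zero_apply, smul_eq_mul, Submonoid.coe_finset_prod,
    ← Finset.prod_erase_mul _ _ (Finset.mem_univ k), mul_assoc, ht k, mul_zero]

lemma loc_ker_bot {a b : ℕ} (P : Matrix (Fin a) (Fin b) R)
    (h : LinearMap.ker (P.map (algebraMap R (Localization.AtPrime p))).mulVecLin = ⊥)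
    (x : Fin b → R) (hx : P.mulVec x = 0) : ∃ u, u ∉ p ∧ u • x = 0 := by
  apply loc_zero p x
  have h1 : (algebraMap R (Localization.AtPrime p)) ∘ x ∈
      LinearMap.ker (P.map (algebraMap R (Localization.AtPrime p))).mulVecLin := by
    rw [LinearMap.mem_ker, Matrix.mulVecLin_apply]
    ext k
    rw [← RingHom.map_mulVec, hx]
    simp
  rw [h, Submodule.mem_bot] at h1
  intro k
  exact congrFun h1 k

lemma loc_ker_le_range {a b c : ℕ} (P : Matrix (Fin a) (Fin b) R) (Q : Matrix (Fin b) (Fin c) R)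
    (h : LinearMap.ker (P.map (algebraMap R (Localization.AtPrime p))).mulVecLin ≤
      LinearMap.range (Q.map (algebraMap R (Localization.AtPrime p))).mulVecLin)
    (x : Fin b → R) (hx : P.mulVec x = 0) : ∃ u, u ∉ p ∧ ∃ y, Q.mulVec y = u • x := by
  have h1 : (algebraMap R (Localization.AtPrime p)) ∘ x ∈
      LinearMap.ker (P.map (algebraMap R (Localization.AtPrime p))).mulVecLin := by
    rw [LinearMap.mem_ker, Matrix.mulVecLin_apply]
    ext k
    rw [← RingHom.map_mulVec, hx]
    simp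
  obtain ⟨y', hy'⟩ := h h1
  rw [Matrix.mulVecLin_apply] at hy'
  obtain ⟨s, hs⟩ := IsLocalization.exist_integer_multiples_of_finite p.primeCompl y'
  choose y hy using hs
  have h2 : ∀ k, algebraMap R (Localization.AtPrime p) ((Q.mulVec y - (s : R) • x) k) = 0 := by
    intro k
    rw [Pi.sub_apply, map_sub, RingHom.map_mulVec, Pi.smul_apply, smul_eq_mul, map_mul]
    have : (algebraMap R (Localization.AtPrime p)) ∘ y = (s : R) • y' := by
      ext k'
      rw [Function.comp_apply, hy k', Pi.smul_apply]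
    rw [this, Matrix.mulVec_smul, Pi.smul_apply, hy', Function.comp_apply, Algebra.smul_def]
    ring
  obtain ⟨t, ht, ht0⟩ := loc_zero p _ h2
  refine ⟨t * s, ?_, t • y, ?_⟩
  · exact (p.primeCompl.mul_mem (show t ∈ p.primeCompl from ht) s.2)
  · rw [Matrix.mulVec_smul, mul_smul]
    rw [smul_sub, sub_eq_zero] at ht0
    exact ht0

end MatLoc

section BE

variable {R : Type u} [CommRing R] [IsLocalRing R] [IsNoetherianRing R]
  (e : ℕ) (n : ℕ → ℕ) (A : (i : ℕ) → Matrix (Fin (n i)) (Fin (n (i + 1))) R)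
  (hA : ∀ i, i + 2 ≤ e → A i * A (i + 1) = 0)

/-- the differentials -/
noncomputable def beD (i : ℕ) :
    ModuleCat.of R (Fin (n (i + 1)) → R) ⟶ ModuleCat.of R (Fin (n i) → R) :=
  ModuleCat.ofHom (if i + 1 ≤ e then (A i).mulVecLin else 0)

include hA in
omit [IsLocalRing R] [IsNoetherianRing R] in
lemma beD_sq (i : ℕ) : beD e n A (i + 1) ≫ beD e n A i = 0 := by
  unfold beD
  by_cases h : i + 2 ≤ e
  · rw [if_pos (by lia), if_pos (by lia), ← ModuleCat.ofHom_comp, ← Matrix.mulVecLin_mul, hA i h]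
    ext
    simp
  · rw [if_neg (by lia)]
    ext
    simp

/-- the complex of free modules attached to the matrices -/
noncomputable def beCx : ChainComplex (ModuleCat.{u} R) ℕ :=
  ChainComplex.of (fun i => ModuleCat.of R (Fin (n i) → R)) (beD e n A) (beD_sq e n A hA)

omit [IsLocalRing R] [IsNoetherianRing R] in
lemma beCx_d (i : ℕ) : (beCx e n A hA).d (i + 1) i = beD e n A i :=
  ChainComplex.of_d (fun i => ModuleCat.of R (Fin (n i) → R)) (beD e n A) i

omit [IsLocalRing R] [IsNoetherianRing R] in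
lemma be_key (p : Ideal R) [p.IsPrime]
    (hloc : LinearMap.ker ((A (e - 1)).map (algebraMap R (Localization.AtPrime p))).mulVecLin = ⊥ ∧
        ∀ i, i + 2 ≤ e →
          LinearMap.ker ((A i).map (algebraMap R (Localization.AtPrime p))).mulVecLin =
            LinearMap.range ((A (i + 1)).map (algebraMap R (Localization.AtPrime p))).mulVecLin) :
    ∀ a b c, b = c + 1 → a = b + 1 → b ≤ e → ∀ x : (beCx e n A hA).X b,
      ((beCx e n A hA).d b c).hom x = 0 →
      ∃ u, u ∉ p ∧ ∃ y : (beCx e n A hA).X a, ((beCx e n A hA).d a b).hom y = u • x := by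
  rintro a b c rfl rfl hbe x hx
  rw [beCx_d] at hx
  have hx' : (A c).mulVec x = 0 := by
    rw [beD, if_pos hbe] at hx
    exact hx
  by_cases h2 : c + 2 ≤ e
  · obtain ⟨u, hu, y, hy⟩ := loc_ker_le_range p (A c) (A (c + 1)) (le_of_eq (hloc.2 c h2)) x hx'
    refine ⟨u, hu, y, ?_⟩
    rw [beCx_d, beD, if_pos h2]
    exact hy
  · have key0 : ∀ c', c' = e - 1 → LinearMap.ker
        ((A c').map (algebraMap R (Localization.AtPrime p))).mulVecLin = ⊥ := by
      rintro c' rfl
      exact hloc.1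
    obtain ⟨u, hu, hux⟩ := loc_ker_bot p (A c) (key0 c (by lia)) x hx'
    refine ⟨u, hu, 0, ?_⟩
    rw [map_zero]
    exact hux.symm

include hA in
theorem be_local (he : 1 ≤ e)
    (rs : List R) (hlen : rs.length = e) (hmem : ∀ x ∈ rs, x ∈ IsLocalRing.maximalIdeal R)
    (hreg : RingTheory.Sequence.IsRegular R rs)
    (hloc : ∀ (p : Ideal R) [p.IsPrime], p ≠ IsLocalRing.maximalIdeal R →
      LinearMap.ker ((A (e - 1)).map (algebraMap R (Localization.AtPrime p))).mulVecLin = ⊥ ∧
        ∀ i, i + 2 ≤ e →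
          LinearMap.ker ((A i).map (algebraMap R (Localization.AtPrime p))).mulVecLin =
            LinearMap.range ((A (i + 1)).map (algebraMap R (Localization.AtPrime p))).mulVecLin) :
    LinearMap.ker (A (e - 1)).mulVecLin = ⊥ ∧
      ∀ i, i + 2 ≤ e → LinearMap.ker (A i).mulVecLin = LinearMap.range (A (i + 1)).mulVecLin := by
  set C := beCx e n A hA with hC
  haveI : ∀ j, Module.Finite R (C.X (e - j)) :=
    fun j => show Module.Finite R (Fin (n (e - j)) → R) from inferInstance
  haveI : ∀ j, Module.Free R (C.X (e - j)) :=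
    fun j => show Module.Free R (Fin (n (e - j)) → R) from inferInstance
  have hdepthR : (e : ℕ∞) ≤ idealDepth (maximalIdeal R) R := by
    rw [← hlen]
    exact length_le_idealDepth hreg.toIsWeaklyRegular hmem
  have hK : ∀ j, ((e - j : ℕ) : ℕ∞) ≤ idealDepth (maximalIdeal R) (C.X (e - j)) := by
    intro j
    rcases subsingleton_or_nontrivial (C.X (e - j)) with h | h
    · rw [idealDepth_of_subsingleton]
      exact le_top
    · rw [idealDepth_free]
      refine le_trans ?_ hdepthR
      exact_mod_cast Nat.sub_le e j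
  have hd0 : C.d (e + 1) (e - 0) = 0 := by
    show C.d (e + 1) e = 0
    rw [hC, beCx_d, beD, if_neg (by lia)]
    rfl
  -- the family form of the localization hypothesis
  have hfam : ∀ (Q : Ideal R) [Q.IsPrime], Q ≠ maximalIdeal R → ∀ j, j < e →
      ∀ z ∈ Zd (fun j => C.X (e - j)) (gd C e) j, ∃ u, u ∉ Q ∧
        u • z ∈ Bd (fun j => C.X (e - j)) (gd C e) j := by
    intro Q _ hQ j hj z hz
    cases j with
    | zero =>
      obtain ⟨u, hu, y, hy⟩ := be_key e n A hA Q (hloc Q hQ) (e + 1) (e - 0) (e - (0 + 1))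
        (by lia) (by lia) (by lia) z hz
      refine ⟨u, hu, ?_⟩
      show u • z ∈ (⊥ : Submodule R (C.X (e - 0)))
      rw [Submodule.mem_bot, ← hy, hd0]
      rfl
    | succ j' =>
      obtain ⟨u, hu, y, hy⟩ := be_key e n A hA Q (hloc Q hQ) (e - j') (e - (j' + 1))
        (e - (j' + 1 + 1)) (by lia) (by lia) (by lia) z hz
      exact ⟨u, hu, y, hy⟩
  have hfl : ∀ j, j ≤ e - 1 → IsFiniteLength R (Hd (fun j => C.X (e - j)) (gd C e) j) := by
    intro j hj
    apply Groth.Agent.Lib.helper8.StalkLen.isFiniteLength_of_support_isMaximal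
    intro Q hQ
    by_contra hQm
    have hne : Q.asIdeal ≠ maximalIdeal R := by
      intro h
      apply hQm
      rw [h]
      infer_instance
    refine absurd hQ (Module.notMem_support_iff'.mpr ?_)
    intro y
    obtain ⟨z, rfl⟩ := Submodule.mkQ_surjective _ y
    obtain ⟨u, hu, huz⟩ := hfam Q.asIdeal hne j (by lia) z.1 z.2
    refine ⟨u, hu, ?_⟩
    rw [← map_smul, Submodule.mkQ_apply, Submodule.Quotient.mk_eq_zero]
    exact huz
  have hacyc := acyclic_fam (fun j => C.X (e - j)) (gd C e) (gd_gd C e) e (e - 1) hK hfl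
  have hZB : ∀ j, j < e → Zd (fun j => C.X (e - j)) (gd C e) j =
      Bd (fun j => C.X (e - j)) (gd C e) j :=
    fun j hj => Zd_eq_Bd_of_subsingleton' _ _ (gd_gd C e) j (hacyc j (by lia) hj)
  have claim1 : ∀ b c i, c = i → b = c + 1 → b ≤ e → LinearMap.ker (C.d b c).hom = ⊥ →
      LinearMap.ker (A i).mulVecLin = ⊥ := by
    rintro b c i rfl rfl hbe h
    rw [hC, beCx_d, beD, if_pos hbe] at h
    exact h
  have claim2 : ∀ a b c i, c = i → b = c + 1 → a = b + 1 → a ≤ e →
      LinearMap.ker (C.d b c).hom = LinearMap.range (C.d a b).hom →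
      LinearMap.ker (A i).mulVecLin = LinearMap.range (A (i + 1)).mulVecLin := by
    rintro a b c i rfl rfl rfl hae h
    rw [hC, beCx_d, beCx_d, beD, beD, if_pos hae, if_pos (show c + 1 ≤ e by lia)] at h
    exact h
  constructor
  · exact claim1 (e - 0) (e - (0 + 1)) (e - 1) rfl (by lia) (by lia) (hZB 0 (by lia))
  · intro i hi
    obtain ⟨j', hj'⟩ : ∃ j', e = i + 2 + j' := ⟨e - (i + 2), by lia⟩
    exact claim2 (e - j') (e - (j' + 1)) (e - (j' + 1 + 1)) i (by lia) (by lia) (by lia) (by lia)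
      (hZB (j' + 1) (by lia))

end BE

end Groth.Agent.Lib.helper2.Acyc
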