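import Mathlib

/-!
# Adjunctions with invertible counit: formal lemmas (helper2)
-/

open CategoryTheory

namespace Groth.Agent.Lib.helper2.AdjIdem

variable {C D : Type*} [Category C] [Category D] {L : C ⥤ D} {R : D ⥤ C} (adj : L ⊣ R)
  [IsIso adj.counit]

theorem unit_R_eq (G : D) : adj.unit.app (R.obj G) = R.map (inv (adj.counit.app G)) := by
  have h := adj.right_triangle_components G
  rw [← cancel_mono (R.map (adj.counit.app G)), h, ← R.map_comp, IsIso.inv_hom_id, R.map_id]
  rfl

theorem map_unit_eq (F : C) :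
    R.map (L.map (adj.unit.app F)) = adj.unit.app (R.obj (L.obj F)) := by
  rw [unit_R_eq adj]
  have h := adj.left_triangle_components F
  rw [← cancel_mono (R.map (adj.counit.app (L.obj F))), ← R.map_comp, h, ← R.map_comp,
    IsIso.inv_hom_id]
  rfl

instance isIso_map_unit (F : C) : IsIso (R.map (L.map (adj.unit.app F))) := by
  rw [map_unit_eq adj, unit_R_eq adj]
  infer_instance

theorem isIso_unit_of_retraction (F : C) (r : R.obj (L.obj F) ⟶ F)
    (h : adj.unit.app F ≫ r = 𝟙 F) : IsIso (adj.unit.app F) := by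
  refine ⟨r, h, ?_⟩
  have h1 : r ≫ adj.unit.app F = adj.unit.app (R.obj (L.obj F)) ≫ R.map (L.map r) :=
    adj.unit.naturality r
  rw [h1, ← map_unit_eq adj, ← R.map_comp, ← L.map_comp, h]
  erw [L.map_id, R.map_id]
  rfl

theorem hom_ext_of_unit (F G : C) [IsIso (adj.unit.app G)] (φ₁ φ₂ : R.obj (L.obj F) ⟶ G)
    (h : adj.unit.app F ≫ φ₁ = adj.unit.app F ≫ φ₂) : φ₁ = φ₂ := by
  rw [← cancel_mono (adj.unit.app G)]
  have n1 : φ₁ ≫ adj.unit.app G = adj.unit.app _ ≫ R.map (L.map φ₁) := adj.unit.naturality φ₁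
  have n2 : φ₂ ≫ adj.unit.app G = adj.unit.app _ ≫ R.map (L.map φ₂) := adj.unit.naturality φ₂
  rw [n1, n2]
  congr 1
  have h2 := congrArg (fun t => R.map (L.map t)) h
  simp only [Functor.map_comp] at h2
  exact (cancel_epi (R.map (L.map (adj.unit.app F)))).1 h2

end Groth.Agent.Lib.helper2.AdjIdem
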