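import Mathlib
import Groth.Agent.Lib.Helper16.CycClosed2

/-!
# helper2: orders and principal divisors under preimmersions (e.g. inclusions of fibres)

The lemmas of helper16's `CycClosed1` for closed immersions hold verbatim for preimmersions
(topological embeddings which are surjective on stalks), except that specializations of points of
the image need not stay in the image.
-/

set_option autoImplicit false
universe u
open CategoryTheory CategoryTheory.Limits AlgebraicGeometry TopologicalSpace Opposite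

namespace Groth.Agent.Lib.helper2.AffB

open Groth.Agent.Lib.helper16.CycOpen

variable {X Z : Scheme.{u}} (ι : Z ⟶ X) [IsPreimmersion ι]

theorem residueFieldMap_bijective (z : Z) : Function.Bijective (ι.residueFieldMap z).hom := by
  refine ⟨(ι.residueFieldMap z).hom.injective, ?_⟩
  intro b
  obtain ⟨a, rfl⟩ := Z.residue_surjective z b
  obtain ⟨a', rfl⟩ := ι.stalkMap_surjective z a
  refine ⟨X.residue (ι z) a', ?_⟩
  have h2 := ConcreteCategory.congr_hom (Scheme.residue_residueFieldMap ι z) a'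
  simpa using h2

/-- the isomorphism of residue fields induced by a preimmersion -/
noncomputable def resEquiv (z : Z) : X.residueField (ι z) ≃+* Z.residueField z :=
  RingEquiv.ofBijective (ι.residueFieldMap z).hom (residueFieldMap_bijective ι z)

@[simp] theorem resEquiv_apply (z : Z) (a : X.residueField (ι z)) :
    resEquiv ι z a = ι.residueFieldMap z a := rfl

theorem specializes_iff (z ξ : Z) : ι ξ ⤳ ι z ↔ ξ ⤳ z :=
  ι.isEmbedding.isInducing.specializes_iff

theorem ker_specMap_comp (z ξ : Z) (h : ξ ⤳ z) (h' : ι ξ ⤳ ι z) :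
    RingHom.ker ((Ideal.Quotient.mk (RingHom.ker (Cyc.specMap z ξ h))).comp (ι.stalkMap z).hom) =
      RingHom.ker (Cyc.specMap (ι z) (ι ξ) h') := by
  ext a
  simp only [RingHom.mem_ker, RingHom.comp_apply, Ideal.Quotient.eq_zero_iff_mem]
  rw [specMap_stalkMap ι z ξ h h' a]
  constructor
  · intro hx
    exact (ι.residueFieldMap ξ).hom.injective (by rw [hx, map_zero])
  · intro hx
    rw [hx, map_zero]

/-- the isomorphism of the local rings of the closure of `ξ` induced by a preimmersion -/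
noncomputable def locQuotEquiv (z ξ : Z) (h : ξ ⤳ z) (h' : ι ξ ⤳ ι z) :
    Cyc.LocQuot (ι z) (ι ξ) h' ≃+* Cyc.LocQuot z ξ h :=
  (Ideal.quotEquivOfEq (ker_specMap_comp ι z ξ h h').symm).trans
    (RingHom.quotientKerEquivOfSurjective
      (f := (Ideal.Quotient.mk (RingHom.ker (Cyc.specMap z ξ h))).comp (ι.stalkMap z).hom)
      (Ideal.Quotient.mk_surjective.comp (ι.stalkMap_surjective z)))

theorem locQuotEquiv_mk (z ξ : Z) (h : ξ ⤳ z) (h' : ι ξ ⤳ ι z) (a : X.presheaf.stalk (ι z)) :
    locQuotEquiv ι z ξ h h' (Ideal.Quotient.mk _ a) = Ideal.Quotient.mk _ (ι.stalkMap z a) :=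
  rfl

theorem ordAt_preimmersion (z ξ : Z) (h : ξ ⤳ z) (h' : ι ξ ⤳ ι z)
    (f' : X.residueField (ι ξ)) :
    Cyc.ordAt (ι z) (ι ξ) h' f' = Cyc.ordAt z ξ h (ι.residueFieldMap ξ f') := by
  unfold Cyc.ordAt
  refine ordFrac_ringEquiv (locQuotEquiv ι z ξ h h') (resEquiv ι ξ) ?_ f'
  intro r
  obtain ⟨a, rfl⟩ := Ideal.Quotient.mk_surjective r
  rw [locQuotEquiv_mk]
  exact (specMap_stalkMap ι z ξ h h' a).symm

/-- principal divisors at the points of the image of a preimmersion; the dimension function on the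
source may differ from the restricted one by a constant. -/
theorem divFun_preimmersion (δ : X → ℤ) (δZ : Z → ℤ) (c : ℤ) (hc : ∀ v, δZ v = δ (ι v) + c)
    (z ξ : Z) (f' : X.residueField (ι ξ)) :
    Cyc.divFun δ (ι ξ) f' (ι z) = Cyc.divFun δZ ξ (ι.residueFieldMap ξ f') z := by
  unfold Cyc.divFun
  by_cases h : ξ ⤳ z ∧ δZ z + 1 = δZ ξ
  · have h' : ι ξ ⤳ ι z ∧ δ (ι z) + 1 = δ (ι ξ) :=
      ⟨(specializes_iff ι z ξ).2 h.1, by have := h.2; rw [hc, hc] at this; omega⟩
    rw [dif_pos h, dif_pos h']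
    exact ordAt_preimmersion ι z ξ h.1 h'.1 f'
  · have h' : ¬ (ι ξ ⤳ ι z ∧ δ (ι z) + 1 = δ (ι ξ)) := fun h' =>
      h ⟨(specializes_iff ι z ξ).1 h'.1, by rw [hc, hc]; have := h'.2; omega⟩
    rw [dif_neg h, dif_neg h']

end Groth.Agent.Lib.helper2.AffB
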