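import Mathlib
import Groth.Agent.Lib.Helper2.AffB1

/-!
# helper2: the fibres of a Zariski-locally trivial affine bundle are affine spaces over the residue fields
-/

set_option autoImplicit false
universe u
open CategoryTheory CategoryTheory.Limits AlgebraicGeometry TopologicalSpace Opposite

namespace Groth.Agent.Lib.helper2.AffB

section fibre

variable {X Y : Scheme.{u}} (f : X ⟶ Y) (n : Type u) (U : Y.Opens)
  (e : (↑(f ⁻¹ᵁ U) : Scheme.{u}) ≅ 𝔸(n; (↑U : Scheme.{u})))
  (he : e.hom ≫ (𝔸(n; (↑U : Scheme.{u})) ↘ (↑U : Scheme.{u})) = f ∣_ U) (y : Y) (hy : y ∈ U)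

/-- the residue field point as a point of `U` -/
noncomputable def toU : Spec (Y.residueField y) ⟶ (↑U : Scheme.{u}) :=
  IsOpenImmersion.lift U.ι (Y.fromSpecResidueField y) (by
    rw [Scheme.range_fromSpecResidueField, Scheme.Opens.range_ι]
    exact Set.singleton_subset_iff.2 hy)

@[reassoc (attr := simp)]
theorem toU_ι : toU U y hy ≫ U.ι = Y.fromSpecResidueField y :=
  IsOpenImmersion.lift_fac _ _ _

include he in
theorem isPullback_affine :
    IsPullback (AffineSpace.map n (toU U y hy) ≫ e.inv ≫ (f ⁻¹ᵁ U).ι)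
      (𝔸(n; Spec (Y.residueField y)) ↘ Spec (Y.residueField y)) f
      (Y.fromSpecResidueField y) := by
  have sq1 := AffineSpace.isPullback_map (n := n) (toU U y hy)
  have sq2 : IsPullback (e.inv ≫ (f ⁻¹ᵁ U).ι) (𝔸(n; (↑U : Scheme.{u})) ↘ (↑U : Scheme.{u})) f U.ι := by
    refine IsPullback.of_iso (isPullback_morphismRestrict f U).flip e (Iso.refl _) (Iso.refl _)
      (Iso.refl _) ?_ ?_ ?_ ?_
    · simp
    · rw [Iso.refl_hom, Category.comp_id, he]
    · simp
    · simp
  have h := sq1.paste_horiz sq2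
  rwa [toU_ι] at h

/-- the fibre over `y ∈ U` is the affine space over the residue field -/
noncomputable def fiberIso : 𝔸(n; Spec (Y.residueField y)) ≅ f.fiber y :=
  (isPullback_affine f n U e he y hy).isoPullback

theorem fiberIso_hom_fiberι :
    (fiberIso f n U e he y hy).hom ≫ f.fiberι y =
      AffineSpace.map n (toU U y hy) ≫ e.inv ≫ (f ⁻¹ᵁ U).ι :=
  (isPullback_affine f n U e he y hy).isoPullback_hom_fst

theorem fiberIso_hom_toSpec :
    (fiberIso f n U e he y hy).hom ≫ f.fiberToSpecResidueField y =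
      (𝔸(n; Spec (Y.residueField y)) ↘ Spec (Y.residueField y)) :=
  (isPullback_affine f n U e he y hy).isoPullback_hom_snd

include he hy in
theorem isIntegral_fiber : IsIntegral (f.fiber y) := by
  haveI : Nonempty ↥(f.fiber y) :=
    ⟨(fiberIso f n U e he y hy).hom (Classical.arbitrary _)⟩
  exact isIntegral_of_isOpenImmersion (fiberIso f n U e he y hy).inv

end fibre

end Groth.Agent.Lib.helper2.AffB
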