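import Mathlib
import Groth.Agent.Lib.Helper2.AffB2
import Groth.Agent.Lib.Helper16.ShiftPull
import Groth.Agent.Lib.Helper17.FibreStalk

/-!
# helper2: generic points of the fibres of an affine bundle
-/

set_option autoImplicit false
universe u
open CategoryTheory CategoryTheory.Limits AlgebraicGeometry TopologicalSpace Opposite IsLocalRing

namespace Groth.Agent.Lib.helper2.AffB

open Groth.Agent.Lib.helper16.ShiftPull Groth.Agent.Lib.helper17.FibreStalk

/-- `f` is Zariski locally on the target an affine space of dimension `r` -/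
def IsAffBundle {X Y : Scheme.{u}} (f : X ⟶ Y) (r : ℕ) : Prop :=
  ∀ y : Y, ∃ U : Y.Opens, y ∈ U ∧
    ∃ e : (↑(f ⁻¹ᵁ U) : Scheme.{u}) ≅ 𝔸(ULift.{u} (Fin r); (↑U : Scheme.{u})),
      e.hom ≫ (𝔸(ULift.{u} (Fin r); (↑U : Scheme.{u})) ↘ (↑U : Scheme.{u})) = f ∣_ U

theorem finite_support_inter_compact {X : Scheme.{u}} (β : AlgebraicCycle X ℤ) (K : Set X)
    (hK : IsCompact K) : {x | β x ≠ 0 ∧ x ∈ K}.Finite := by
  choose T hT hfin using fun x => β.supportLocallyFiniteWithinDomain' x trivial
  obtain ⟨t, ht⟩ := hK.elim_nhds_subcover T (fun x _ => hT x)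
  refine (Set.Finite.biUnion t.finite_toSet (fun x _ => hfin x)).subset ?_
  rintro x ⟨hx1, hx2⟩
  obtain ⟨x₀, hx₀, hxx₀⟩ := Set.mem_iUnion₂.1 (ht.2 hx2)
  exact Set.mem_biUnion hx₀ ⟨hxx₀, hx1⟩

section

variable {X Y : Scheme.{u}} (f : X ⟶ Y) (r : ℕ) (hloc : IsAffBundle f r)

include hloc in
theorem isAffineHom_of_isAffBundle : IsAffineHom f := by
  choose U hyU e he using hloc
  have hsup : iSup U = ⊤ := by
    rw [eq_top_iff]
    intro y _
    exact Opens.mem_iSup.2 ⟨y, hyU y⟩
  rw [IsZariskiLocalAtTarget.iff_of_iSup_eq_top (P := @IsAffineHom) U hsup]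
  intro y
  rw [← he y]
  infer_instance

include hloc in
theorem isIntegral_fiber_of_isAffBundle (y : Y) : IsIntegral (f.fiber y) := by
  obtain ⟨U, hyU, e, he⟩ := hloc y
  exact isIntegral_fiber f _ U e he y hyU

include hloc in
/-- the generic point of the fibre over `y` -/
theorem exists_gen (y : Y) : ∃ ξ : X, f ξ = y ∧ ∀ x, f x = y → ξ ⤳ x := by
  haveI := isIntegral_fiber_of_isAffBundle f r hloc y
  refine ⟨f.fiberι y (genericPoint (f.fiber y)), ?_, ?_⟩
  · have h : f.fiberι y (genericPoint (f.fiber y)) ∈ Set.range (f.fiberι y) := ⟨_, rfl⟩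
    rw [f.range_fiberι y] at h
    exact h
  · intro x hx
    have h : x ∈ Set.range (f.fiberι y) := by
      rw [f.range_fiberι y]; exact hx
    obtain ⟨z, rfl⟩ := h
    exact (genericPoint_specializes z).map (f.fiberι y).continuous

/-- the generic point of the fibre over `y` -/
noncomputable def gen (y : Y) : X := Classical.choose (exists_gen f r hloc y)

theorem f_gen (y : Y) : f (gen f r hloc y) = y := (Classical.choose_spec (exists_gen f r hloc y)).1

theorem gen_specializes (y : Y) (x : X) (hx : f x = y) : gen f r hloc y ⤳ x :=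
  (Classical.choose_spec (exists_gen f r hloc y)).2 x hx

theorem eq_gen_of_specializes (y : Y) (x : X) (hx : f x = y) (h : x ⤳ gen f r hloc y) :
    x = gen f r hloc y :=
  ((h.antisymm (gen_specializes f r hloc y x hx)).eq)

theorem gen_eq_fiberι (y : Y) [IsIntegral (f.fiber y)] :
    gen f r hloc y = f.fiberι y (genericPoint (f.fiber y)) := by
  have h1 : f (f.fiberι y (genericPoint (f.fiber y))) = y := by
    have h : f.fiberι y (genericPoint (f.fiber y)) ∈ Set.range (f.fiberι y) := ⟨_, rfl⟩
    rw [f.range_fiberι y] at h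
    exact h
  have h2 : f.fiberι y (genericPoint (f.fiber y)) ⤳ gen f r hloc y := by
    have h : gen f r hloc y ∈ Set.range (f.fiberι y) := by
      rw [f.range_fiberι y]; exact f_gen f r hloc y
    obtain ⟨z, hz⟩ := h
    rw [← hz]
    exact (genericPoint_specializes z).map (f.fiberι y).continuous
  exact (eq_gen_of_specializes f r hloc y _ h1 h2).symm

theorem length_fibRing_gen (y : Y) :
    Module.length (X.presheaf.stalk (gen f r hloc y)) (FibRing f (gen f r hloc y)) = 1 := by
  haveI := isIntegral_fiber_of_isAffBundle f r hloc y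
  obtain ⟨e1⟩ := fibRing_congr f (gen_eq_fiberι f r hloc y)
  let e2 := fiberStalkEquiv f y (genericPoint (f.fiber y))
  have hfield : IsField (FibRing f (gen f r hloc y)) :=
    (e1.trans e2).toMulEquiv.isField (Field.toIsField (f.fiber y).functionField)
  rw [Module.length_eq_one_iff, isSimpleModule_iff_isCoatom, ← Ideal.isMaximal_def]
  exact Ideal.Quotient.maximal_of_isField _ hfield

end

section dim

variable {X Y : Scheme.{u}} (f : X ⟶ Y) [LocallyOfFiniteType f] (r : ℕ) (hloc : IsAffBundle f r)
  (δX : X → ℤ) (δY : Y → ℤ) (hX : Cyc.IsSetup X δX) (hr : Cyc.HasRelDim f r)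
  (hδ : Cyc.DeltaCompat f δX δY)

include hr hδ in
theorem delta_gen (y : Y) : δX (gen f r hloc y) = δY y + r := by
  have h := hasShift_of_hasRelDim f δX δY r hr hδ (gen f r hloc y) (fun x hx hsp =>
    eq_gen_of_specializes f r hloc y x (hx.trans (f_gen f r hloc y)) hsp)
  rw [h, f_gen]

include hX hr hδ in
theorem delta_eq_iff (x : X) : δX x = δY (f x) + r ↔ x = gen f r hloc (f x) := by
  constructor
  · intro h
    by_contra hne
    have h1 := (hX.2.2 (gen f r hloc (f x)) x (gen_specializes f r hloc (f x) x rfl)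
      (fun h => hne h.symm)).1
    rw [delta_gen f r hloc δX δY hr hδ] at h1
    omega
  · intro h
    have := delta_gen f r hloc δX δY hr hδ (f x)
    rw [← h] at this
    exact this

end dim

end Groth.Agent.Lib.helper2.AffB
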