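import Mathlib
import Groth.Prelude.Def_IntMult
import Groth.Agent.Lib.Helper16.CycClosed2
import Groth.Agent.Lib.Helper16.DivSum9
import Groth.Agent.Lib.Helper3.FibreDimBC
import Groth.Agent.Lib.Helper3.RelDim

/-!
# helper2: rational equivalence to zero with supports; locally finite sums; base change of `HasRelDim`

* `RatEquivZeroIn δ k α C`: `α` is a locally finite sum of principal divisors of functions at points of
  `C` (of `δ`-dimension `k + 1`).
* `ratEquivZeroIn_map`: pushforward along a closed immersion, with support in its range.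
* `ratEquivZero_of_sum`: a locally finite integral combination of such functions is `∼ 0`.
* `hasRelDim_of_isPullback`: `Cyc.HasRelDim` is stable under base change.
-/

set_option autoImplicit false
universe u
open CategoryTheory CategoryTheory.Limits AlgebraicGeometry TopologicalSpace Opposite

namespace Groth.Agent.Lib.helper2.ExtRat

open Groth.Agent.Lib.helper16.CycClosed Groth.Agent.Lib.helper16.DivSum
  Groth.Agent.Lib.helper16.SecOrd

/-- `α` is a locally finite sum of principal divisors of functions at points of `C`. -/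
def RatEquivZeroIn {X : Scheme.{u}} (δ : X → ℤ) (k : ℤ) (α : X → ℤ) (C : Set X) : Prop :=
  ∃ (ι : Type u) (ξ : ι → X) (f : (i : ι) → X.residueField (ξ i)),
    (∀ i, δ (ξ i) = k + 1) ∧ (∀ i, f i ≠ 0) ∧
    (∀ x : X, ∃ U : Set X, IsOpen U ∧ x ∈ U ∧ {i | (closure {ξ i} ∩ U).Nonempty}.Finite) ∧
    (∀ x : X, α x = ∑ᶠ i, Cyc.divFun δ (ξ i) (f i) x) ∧ ∀ i, ξ i ∈ C

section closed

variable {Z X : Scheme.{u}} (ι : Z ⟶ X) [IsClosedImmersion ι]

theorem ratEquivZeroIn_map (δ : X → ℤ) (k : ℤ) (β : AlgebraicCycle Z ℤ)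
    (h : Cyc.RatEquivZero (fun z => δ (ι z)) k β) :
    RatEquivZeroIn δ k (⇑(AlgebraicCycle.map ι (fun z => δ (ι z)) δ β)) (Set.range ι) := by
  obtain ⟨J, ξ, f, hδξ, hf, hlf, hsum⟩ := h
  let f' : ∀ j, X.residueField (ι (ξ j)) := fun j => (resEquiv ι (ξ j)).symm (f j)
  have hf' : ∀ j, f' j ≠ 0 := fun j =>
    (map_ne_zero_iff _ (resEquiv ι (ξ j)).symm.injective).2 (hf j)
  have hσf : ∀ j, ι.residueFieldMap (ξ j) (f' j) = f j := fun j =>
    (resEquiv ι (ξ j)).apply_symm_apply (f j)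
  refine ⟨J, fun j => ι (ξ j), f', hδξ, hf', ?_, ?_, fun j => ⟨ξ j, rfl⟩⟩
  · intro x
    by_cases hx : x ∈ Set.range ι
    · obtain ⟨z, rfl⟩ := hx
      obtain ⟨U', hU', hzU', hfin⟩ := hlf z
      obtain ⟨U, hU, rfl⟩ := ι.isClosedEmbedding.isInducing.isOpen_iff.1 hU'
      refine ⟨U, hU, hzU', hfin.subset ?_⟩
      rintro j ⟨y, hy1, hy2⟩
      have hsp : ι (ξ j) ⤳ y := specializes_iff_mem_closure.2 hy1
      obtain ⟨z', rfl⟩ := mem_range_of_specializes ι (ξ j) y hsp
      exact ⟨z', specializes_iff_mem_closure.1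
        ((specializes_iff_closedImmersion ι z' (ξ j)).1 hsp), hy2⟩
    · refine ⟨(Set.range ι)ᶜ, ι.isClosedEmbedding.isClosed_range.isOpen_compl, hx, ?_⟩
      convert Set.finite_empty
      ext j
      simp only [Set.mem_ofPred_eq, Set.mem_empty_iff_false, iff_false]
      rintro ⟨y, hy1, hy2⟩
      exact hy2 (mem_range_of_specializes ι (ξ j) y (specializes_iff_mem_closure.2 hy1))
  · intro x
    by_cases hx : x ∈ Set.range ι
    · obtain ⟨z, rfl⟩ := hx
      rw [map_apply ι _ δ (fun _ => rfl), hsum z]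
      apply finsum_congr
      intro j
      rw [← hσf j]
      exact (divFun_closedImmersion ι δ z (ξ j) (f' j)).symm
    · rw [map_apply_of_notMem_range ι _ δ β x hx]
      symm
      apply finsum_eq_zero_of_forall_eq_zero
      intro j
      exact divFun_eq_zero_of_notMem_range ι δ (ξ j) (f' j) x hx

end closed

section sum

variable {X : Scheme.{u}}

/-- A locally finite integral combination of cycles which are sums of principal divisors supported
in a locally finite family of closed sets is rationally equivalent to zero. -/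
theorem ratEquivZero_of_sum (δ : X → ℤ) (k : ℤ) {T : Type u} (C : T → Set X)
    (hC : ∀ t, IsClosed (C t))
    (hlf : ∀ x : X, ∃ U : Set X, IsOpen U ∧ x ∈ U ∧ {t | (C t ∩ U).Nonempty}.Finite)
    (n : T → ℤ) (γt : T → X → ℤ) (h : ∀ t, RatEquivZeroIn δ k (γt t) (C t))
    (γ : AlgebraicCycle X ℤ) (hγ : ∀ x, γ x = ∑ᶠ t, n t * γt t x) :
    Cyc.RatEquivZero δ k γ := by
  classical
  choose J ξ f hδ hf hlfJ hsum hmem using h
  have hcl : ∀ t (j : J t), closure {ξ t j} ⊆ C t := fun t j =>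
    (hC t).closure_subset_iff.2 (Set.singleton_subset_iff.2 (hmem t j))
  have hLF : ∀ x : X, ∃ U : Set X, IsOpen U ∧ x ∈ U ∧
      {p : Σ t, J t | (closure {ξ p.1 p.2} ∩ U).Nonempty}.Finite := by
    intro x
    obtain ⟨U₀, hU₀, hxU₀, hfin₀⟩ := hlf x
    choose V hV hxV hfinV using fun t => hlfJ t x
    refine ⟨U₀ ∩ ⋂ t ∈ hfin₀.toFinset, V t, ?_, ⟨hxU₀, ?_⟩, ?_⟩
    · exact hU₀.inter (isOpen_biInter_finset fun t _ => hV t)
    · simp only [Set.mem_iInter]
      exact fun t _ => hxV t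
    · refine (Set.Finite.biUnion hfin₀ (fun t _ => (hfinV t).image (Sigma.mk t))).subset ?_
      rintro ⟨t, j⟩ ⟨z, hz1, hz2, hz3⟩
      have ht : t ∈ {t | (C t ∩ U₀).Nonempty} := ⟨z, hcl t j hz1, hz2⟩
      rw [Set.mem_iUnion₂]
      refine ⟨t, ht, j, ⟨z, hz1, ?_⟩, rfl⟩
      simp only [Set.mem_iInter] at hz3
      exact hz3 t (hfin₀.mem_toFinset.2 ht)
  refine ⟨Σ t, J t, fun p => ξ p.1 p.2, fun p => f p.1 p.2 ^ (n p.1), fun p => hδ p.1 p.2,
    fun p => zpow_ne_zero _ (hf p.1 p.2), hLF, ?_⟩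
  intro x
  rw [hγ x]
  have h1 : ∀ p : Σ t, J t, Cyc.divFun δ (ξ p.1 p.2) (f p.1 p.2 ^ (n p.1)) x =
      n p.1 * Cyc.divFun δ (ξ p.1 p.2) (f p.1 p.2) x := fun p =>
    divFun_zpow δ _ _ (hf p.1 p.2) _ x
  rw [finsum_congr h1]
  have hfinS : (Function.support fun p : Σ t, J t =>
      n p.1 * Cyc.divFun δ (ξ p.1 p.2) (f p.1 p.2) x).Finite := by
    obtain ⟨U, hU, hxU, hfin⟩ := hLF x
    refine hfin.subset ?_
    intro p hp
    rw [Function.mem_support] at hp
    have hsp : ξ p.1 p.2 ⤳ x := by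
      by_contra hns
      apply hp
      unfold Cyc.divFun
      rw [dif_neg (fun h => hns h.1), mul_zero]
    exact ⟨x, specializes_iff_mem_closure.mp hsp, hxU⟩
  rw [finsum_sigma' _ hfinS]
  refine finsum_congr fun t => ?_
  rw [hsum t x]
  exact mul_finsum _ _

end sum

section reldim

/-- `Cyc.HasRelDim` is stable under base change. -/
theorem hasRelDim_of_isPullback {X S X' S' : Scheme.{u}} (f : X ⟶ S) [LocallyOfFiniteType f]
    (g : S' ⟶ S) (g' : X' ⟶ X) (f' : X' ⟶ S') (hsq : IsPullback g' f' f g) (r : ℕ)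
    (hr : Cyc.HasRelDim f r) : Cyc.HasRelDim f' r := by
  haveI : LocallyOfFiniteType f' :=
    MorphismProperty.of_isPullback (P := @LocallyOfFiniteType) hsq inferInstance
  rw [Groth.Agent.Lib.helper3.RelDim.hasRelDim_iff]
  intro x'
  rw [Groth.Agent.Lib.helper3.FibreDimBC.fibreDimAt_eq_of_isPullback f g g' f' hsq x']
  exact Groth.Agent.Lib.helper3.RelDim.fibreDimAt_eq_of_hasRelDim f r hr _

end reldim

end Groth.Agent.Lib.helper2.ExtRat
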