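import Mathlib
import Groth.Agent.Lib.Helper10.CurveBr5
import Groth.Agent.Lib.Helper10.FunFld38
import Groth.Agent.Lib.Helper10.FunFld39

/-!
# The function field of an integral curve over an arbitrary field (helper2)

Adapted from helper10's `CurveBr3`, `CurveBr4` (algebraically closed base field):
`isFunctionField_algebraicClosure_of_finiteType`, `isFunctionField_functionField` : the function
field `L` of an integral scheme of dimension one locally of finite type over a field `k` is a
function field of one variable over the algebraic closure of `k` in `L`.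
-/

set_option autoImplicit false
set_option linter.unusedSectionVars false

namespace Groth.Agent.Lib.helper2.DegDiv

universe u

open Polynomial FunFld Groth.Agent.Lib.helper10 Groth.Agent.Lib.helper10.FF IntermediateField
  Groth.Agent.Lib.Helper10.CurveBr CategoryTheory AlgebraicGeometry

theorem isFunctionField_algebraicClosure_of_finiteType (k A F : Type u) [Field k]
    [CommRing A] [IsDomain A] [Algebra k A] [Algebra.FiniteType k A] (hA : ringKrullDim A = 1)
    [Field F] [Algebra A F] [IsFractionRing A F] [Algebra k F] [IsScalarTower k A F] :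
    IsFunctionField (algebraicClosure k F) F := by
  classical
  obtain ⟨s, g, hginj, hgfin⟩ := exists_finite_inj_algHom_of_fg k A
  have hs : s = 1 := by
    have h1 := ringKrullDim_eq_of_isIntegral_of_injective' g.toRingHom hgfin.to_isIntegral hginj
    rw [hA, MvPolynomial.ringKrullDim_of_isNoetherianRing, ringKrullDim_eq_zero_of_field,
      zero_add, Nat.card_fin] at h1
    exact_mod_cast h1
  subst hs
  let ψ : k[X] ≃ₐ[k] MvPolynomial (Fin 1) k := (MvPolynomial.uniqueAlgEquiv k (Fin 1)).symm
  let φ : k[X] →ₐ[k] A := g.comp ψ.toAlgHom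
  have hφinj : Function.Injective φ := hginj.comp ψ.injective
  have hφfin : φ.toRingHom.Finite := by
    have h1 : (ψ.toAlgHom : k[X] →ₐ[k] MvPolynomial (Fin 1) k).toRingHom.Finite :=
      RingHom.Finite.of_surjective _ ψ.surjective
    exact RingHom.Finite.comp hgfin h1
  letI : Algebra k[X] A := φ.toRingHom.toAlgebra
  haveI : IsScalarTower k k[X] A := IsScalarTower.of_algebraMap_eq (fun c => (φ.commutes c).symm)
  haveI : Module.Finite k[X] A := hφfin
  haveI : FaithfulSMul k[X] A := (faithfulSMul_iff_algebraMap_injective _ _).2 hφinj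
  letI : Algebra k[X] F := ((algebraMap A F).comp (algebraMap k[X] A)).toAlgebra
  haveI : IsScalarTower k[X] A F := IsScalarTower.of_algebraMap_eq (fun _ => rfl)
  have hinjF : Function.Injective (algebraMap k[X] F) :=
    (IsFractionRing.injective A F).comp hφinj
  letI : Algebra (RatFunc k) F := (IsFractionRing.lift hinjF).toAlgebra
  haveI : IsScalarTower k[X] (RatFunc k) F :=
    IsScalarTower.of_algebraMap_eq (fun p => (IsFractionRing.lift_algebraMap hinjF p).symm)
  haveI : IsScalarTower k (RatFunc k) F := IsScalarTower.of_algebraMap_eq (fun c => by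
    have h1 : algebraMap k (RatFunc k) c = algebraMap k[X] (RatFunc k) (C c) := by
      rw [RatFunc.algebraMap_C]
      rfl
    rw [h1, ← IsScalarTower.algebraMap_apply k[X] (RatFunc k) F,
      IsScalarTower.algebraMap_apply k[X] A F, IsScalarTower.algebraMap_apply k A F]
    congr 1
    exact (φ.commutes c).symm)
  haveI : Algebra.IsAlgebraic k[X] A := (Algebra.IsIntegral.of_finite k[X] A).isAlgebraic
  haveI : FiniteDimensional (RatFunc k) F :=
    Module.Finite.of_isLocalization k[X] A (nonZeroDivisors k[X])
  exact isFunctionField_algebraicClosure' (k := k) (F := RatFunc k) (E := F) isFunctionField_ratFunc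

variable {k : Type u} [Field k] {X : Scheme.{u}} (c : X ⟶ Spec (CommRingCat.of k))

theorem isFunctionField_functionField [IsIntegral X] [Algebra k X.functionField]
    (halg : algebraMap k X.functionField = LocSym.constFun c)
    [LocallyOfFiniteType c] (hdim : topologicalKrullDim X = 1) :
    IsFunctionField (algebraicClosure k X.functionField) X.functionField := by
  obtain ⟨p, hp⟩ := exists_ne_genericPoint hdim
  obtain ⟨W, hW, hpW⟩ : ∃ W : X.Opens, IsAffineOpen W ∧ p ∈ W := by
    obtain ⟨_, ⟨W, hW, rfl⟩, hxW, -⟩ := X.isBasis_affineOpens.exists_subset_of_mem_open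
      (Set.mem_univ p) isOpen_univ
    exact ⟨W, hW, hxW⟩
  haveI : Nonempty W := ⟨⟨p, hpW⟩⟩
  have hle : W ≤ c ⁻¹ᵁ ⊤ := le_top
  let κ : k →+* Γ(X, W) := (c.appLE ⊤ W hle).hom.comp (Scheme.ΓSpecIso (CommRingCat.of k)).inv.hom
  letI : Algebra k Γ(X, W) := κ.toAlgebra
  haveI : IsFractionRing Γ(X, W) X.functionField :=
    functionField_isFractionRing_of_isAffineOpen X W hW
  haveI : IsScalarTower k Γ(X, W) X.functionField := IsScalarTower.of_algebraMap_eq (fun a => by
    rw [halg]
    unfold LocSym.constFun
    simp only [RingHom.comp_apply]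
    show _ = X.germToFunctionField W (κ a)
    simp only [κ, RingHom.comp_apply, Scheme.Hom.appLE]
    have hη : genericPoint X ∈ W :=
      ((genericPoint_spec X).mem_open_set_iff W.isOpen).mpr ⟨p, trivial, hpW⟩
    exact (X.presheaf.germ_res_apply (homOfLE hle) (genericPoint X) hη _).symm)
  haveI : Algebra.FiniteType k Γ(X, W) := by
    have h1 : (c.appLE ⊤ W hle).hom.FiniteType :=
      Scheme.Hom.finiteType_appLE c (isAffineOpen_top _) hW hle
    have h2 : ((Scheme.ΓSpecIso (CommRingCat.of k)).inv.hom).FiniteType :=
      RingHom.FiniteType.of_surjective _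
        ((ConcreteCategory.bijective_of_isIso (Scheme.ΓSpecIso (CommRingCat.of k)).inv).2)
    have h3 : κ.FiniteType := h1.comp h2
    exact h3
  have hdimW : ringKrullDim Γ(X, W) = 1 := by
    apply le_antisymm
    · exact (ringKrullDim_sections_le hW).trans hdim.le
    · set 𝔭 := hW.primeIdealOf ⟨p, hpW⟩ with h𝔭
      letI := X.presheaf.algebra_section_stalk ⟨p, hpW⟩
      haveI : IsLocalization.AtPrime (X.presheaf.stalk p) 𝔭.asIdeal :=
        hW.isLocalization_stalk ⟨p, hpW⟩
      have h1 := ringKrullDim_stalk_eq_one hdim.le p hp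
      rw [IsLocalization.AtPrime.ringKrullDim_eq_height 𝔭.asIdeal (X.presheaf.stalk p)] at h1
      rw [← h1]
      exact Ideal.height_le_ringKrullDim_of_ne_top 𝔭.2.ne_top
  exact isFunctionField_algebraicClosure_of_finiteType k Γ(X, W) X.functionField hdimW

end Groth.Agent.Lib.helper2.DegDiv
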