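import Groth.Agent.Lib.Helper2.NormOrd2

/-!
# Orders of norms: finite extensions of domains, at a prime of the base (helper2)

`sum_ordFrac_eq_ordFrac_norm_global`: for `R ⊆ B` a finite extension of domains, `𝔮` a prime of `R`
with `A = R_𝔮` one-dimensional Noetherian, `P i` the primes of `B` over `𝔮` with models `O i` of
`B_{P i}`, and `f ∈ Frac(B)^*`:
`∑ i, ord_{O i}(f) · [κ(O i) : κ(A)] = ord_A(N f)`.
-/

set_option autoImplicit false
universe u w

namespace Groth.Agent.Lib.helper2.NormOrd

open IsLocalRing

section

variable (R B : Type u) [CommRing R] [CommRing B] [IsDomain B] [Algebra R B]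
  (hinj : Function.Injective (algebraMap R B)) [Module.Finite R B]
  (𝔮 : Ideal R) [𝔮.IsPrime]
  (A : Type u) [CommRing A] [IsDomain A] [IsNoetherianRing A] [IsLocalRing A] [Algebra R A]
  [IsLocalization.AtPrime A 𝔮] (hA : ringKrullDim A = 1)
  (K L : Type u) [Field K] [Field L] [Algebra A K] [IsFractionRing A K] [Algebra B L]
  [IsFractionRing B L] [Algebra K L]
  (hKL : ∀ r : R, algebraMap K L (algebraMap A K (algebraMap R A r)) =
    algebraMap B L (algebraMap R B r))
  {ι : Type w} [Fintype ι] (P : ι → Ideal B) [∀ i, (P i).IsPrime]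
  (hPover : ∀ i, (P i).comap (algebraMap R B) = 𝔮)
  (hPinj : Function.Injective P)
  (hPsurj : ∀ Q : Ideal B, Q.IsPrime → Q.comap (algebraMap R B) = 𝔮 → ∃ i, P i = Q)
  (O : ι → Type u) [∀ i, CommRing (O i)] [∀ i, IsLocalRing (O i)]
  [∀ i, Algebra B (O i)] [∀ i, IsLocalization.AtPrime (O i) (P i)]
  [∀ i, Algebra A (O i)]
  (hAO : ∀ i (r : R), algebraMap A (O i) (algebraMap R A r) =
    algebraMap B (O i) (algebraMap R B r))
  [∀ i, IsLocalHom (algebraMap A (O i))]
  [∀ i, Algebra (O i) L] [∀ i, IsScalarTower B (O i) L]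

include hinj hA hKL hPover hPinj hPsurj hAO in
theorem sum_ordFrac_eq_ordFrac_norm_global (f : L) (hf : f ≠ 0) :
    ∑ i, CycAlg.ordFrac (O i) L f *
        (Module.finrank (ResidueField A) (ResidueField (O i)) : ℤ) =
      CycAlg.ordFrac A K (Algebra.norm K f) := by
  classical
  -- the semi-local ring `C = B_𝔮`
  let S : Submonoid B := Algebra.algebraMapSubmonoid B 𝔮.primeCompl
  let C : Type u := Localization S
  have hS0 : S ≤ nonZeroDivisors B := by
    rintro _ ⟨r, hr, rfl⟩
    rw [mem_nonZeroDivisors_iff_ne_zero]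
    intro h0
    have : r = 0 := hinj (by rw [h0, map_zero])
    exact hr (this ▸ 𝔮.zero_mem)
  haveI : IsDomain C := IsLocalization.isDomain_localization hS0
  letI algAC : Algebra A C := (IsLocalization.map (M := 𝔮.primeCompl) (T := S) C (algebraMap R B)
    (Submonoid.le_comap_map _)).toAlgebra
  have hAC : ∀ r : R, algebraMap A C (algebraMap R A r) = algebraMap B C (algebraMap R B r) :=
    fun r => IsLocalization.map_eq _ r
  haveI : IsScalarTower R A C := IsScalarTower.of_algebraMap_eq fun r => by
    rw [hAC, ← IsScalarTower.algebraMap_apply]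
  haveI : Module.Finite A C := Module.Finite.of_isLocalization R B 𝔮.primeCompl
  haveI : IsLocalization (Submonoid.map (algebraMap R B) 𝔮.primeCompl) C :=
    (inferInstance : IsLocalization S C)
  have hinjAC : Function.Injective (algebraMap A C) :=
    IsLocalization.map_injective_of_injective 𝔮.primeCompl A C hinj
  -- `L` as fraction field of `C`
  have hunitL : ∀ y : S, IsUnit (algebraMap B L y) := fun y =>
    (IsUnit.mk0 _ ((map_ne_zero_iff _ (IsFractionRing.injective B L)).mpr
      (nonZeroDivisors.ne_zero (hS0 y.2))))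
  letI algCL : Algebra C L := (IsLocalization.lift (M := S) hunitL).toAlgebra
  haveI : IsScalarTower B C L := IsScalarTower.of_algebraMap_eq fun b =>
    (IsLocalization.lift_eq hunitL b).symm
  haveI : IsFractionRing C L :=
    IsFractionRing.isFractionRing_of_isDomain_of_isLocalization S C L
  letI algAL : Algebra A L := ((algebraMap K L).comp (algebraMap A K)).toAlgebra
  haveI : IsScalarTower A K L := IsScalarTower.of_algebraMap_eq fun _ => rfl
  haveI : IsScalarTower A C L := IsScalarTower.of_algebraMap_eq' (by
    apply IsLocalization.ringHom_ext 𝔮.primeCompl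
    ext r
    simp only [RingHom.comp_apply]
    rw [hAC, ← IsScalarTower.algebraMap_apply B C L]
    exact hKL r)
  -- the maximal ideals of `C`
  have hdisj : ∀ i, Disjoint (S : Set B) (P i : Set B) := by
    intro i
    rw [Set.disjoint_left]
    rintro _ ⟨r, hr, rfl⟩ hmem
    apply hr
    rw [← hPover i]
    exact hmem
  let 𝔪 : ι → Ideal C := fun i => (P i).map (algebraMap B C)
  haveI h𝔪prime : ∀ i, (𝔪 i).IsPrime := fun i =>
    IsLocalization.isPrime_of_isPrime_disjoint S C (P i) inferInstance (hdisj i)
  have h𝔪comap : ∀ i, (𝔪 i).comap (algebraMap B C) = P i := fun i =>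
    IsLocalization.under_map_of_isPrime_disjoint S C inferInstance (hdisj i)
  haveI : Algebra.IsIntegral A C := inferInstance
  have hcomapA : ∀ I : Ideal A, I.IsPrime → I.comap (algebraMap R A) = 𝔮 →
      I = maximalIdeal A := by
    intro I _ hI
    have h1 := IsLocalization.map_under 𝔮.primeCompl A I
    have h2 := IsLocalization.map_under 𝔮.primeCompl A (maximalIdeal A)
    rw [IsLocalization.AtPrime.under_maximalIdeal A 𝔮] at h2
    rw [Ideal.under_def, hI] at h1
    exact h1.symm.trans h2
  have hcomap_comm : ∀ I : Ideal C, (I.comap (algebraMap A C)).comap (algebraMap R A) =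
      (I.comap (algebraMap B C)).comap (algebraMap R B) := by
    intro I
    rw [Ideal.comap_comap, Ideal.comap_comap]
    congr 1
    ext r
    exact hAC r
  haveI h𝔪max : ∀ i, (𝔪 i).IsMaximal := by
    intro i
    apply Ideal.isMaximal_of_isIntegral_of_isMaximal_comap (R := A) (𝔪 i)
    have := hcomapA ((𝔪 i).comap (algebraMap A C)) inferInstance (by
      rw [hcomap_comm, h𝔪comap, hPover])
    rw [this]
    infer_instance
  have h𝔪inj : Function.Injective 𝔪 := by
    intro i j hij
    apply hPinj
    rw [← h𝔪comap i, ← h𝔪comap j, hij]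
  have h𝔪surj : ∀ I : Ideal C, I.IsMaximal → ∃ i, 𝔪 i = I := by
    intro I hI
    have h1 : I.comap (algebraMap A C) = maximalIdeal A :=
      IsLocalRing.eq_maximalIdeal (Ideal.isMaximal_comap_of_isIntegral_of_isMaximal I)
    have h2 : (I.comap (algebraMap B C)).comap (algebraMap R B) = 𝔮 := by
      rw [← hcomap_comm, h1]
      exact IsLocalization.AtPrime.under_maximalIdeal A 𝔮
    obtain ⟨i, hi⟩ := hPsurj (I.comap (algebraMap B C)) inferInstance h2
    refine ⟨i, ?_⟩
    show (P i).map (algebraMap B C) = I
    rw [hi]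
    exact IsLocalization.map_under S C I
  -- `O i` as localization of `C`
  have hunitO : ∀ i, ∀ y : S, IsUnit (algebraMap B (O i) y) := by
    intro i y
    apply IsLocalization.map_units (O i) (⟨y, ?_⟩ : (P i).primeCompl)
    intro hmem
    exact Set.disjoint_left.mp (hdisj i) y.2 hmem
  letI algCO : ∀ i, Algebra C (O i) := fun i =>
    (IsLocalization.lift (M := S) (hunitO i)).toAlgebra
  haveI : ∀ i, IsScalarTower B C (O i) := fun i => IsScalarTower.of_algebraMap_eq fun b =>
    (IsLocalization.lift_eq (hunitO i) b).symm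
  haveI : ∀ i, IsScalarTower A C (O i) := fun i => IsScalarTower.of_algebraMap_eq' (by
    apply IsLocalization.ringHom_ext 𝔮.primeCompl
    ext r
    simp only [RingHom.comp_apply]
    rw [hAC, ← IsScalarTower.algebraMap_apply B C (O i)]
    exact hAO i r)
  haveI : ∀ i, IsScalarTower C (O i) L := fun i => IsScalarTower.of_algebraMap_eq' (by
    apply IsLocalization.ringHom_ext S
    ext b
    simp only [RingHom.comp_apply]
    rw [← IsScalarTower.algebraMap_apply B C L, ← IsScalarTower.algebraMap_apply B C (O i),
      ← IsScalarTower.algebraMap_apply B (O i) L])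
  haveI : ∀ i, IsLocalization.AtPrime (O i) (𝔪 i) := by
    intro i
    have hle : S ≤ (P i).primeCompl := by
      intro y hy hmem
      exact Set.disjoint_left.mp (hdisj i) hy hmem
    haveI l3 : IsLocalization ((P i).primeCompl.map (algebraMap B C)) (O i) :=
      IsLocalization.isLocalization_of_submonoid_le C (O i) S (P i).primeCompl hle
    refine IsLocalization.of_le (M := (P i).primeCompl.map (algebraMap B C)) (𝔪 i).primeCompl ?_ ?_
    · rintro _ ⟨s, hs, rfl⟩
      show algebraMap B C s ∉ 𝔪 i
      intro hmem
      apply hs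
      rw [← h𝔪comap i]
      exact hmem
    · intro c hc
      obtain ⟨⟨b, s⟩, hbs⟩ := IsLocalization.surj S c
      have hb : b ∉ P i := by
        intro hb
        apply hc
        have h1 : c * algebraMap B C s ∈ 𝔪 i := by
          rw [hbs]
          exact Ideal.mem_map_of_mem _ hb
        rcases (h𝔪prime i).mem_or_mem h1 with h | h
        · exact h
        · exfalso
          have : (s : B) ∈ P i := by
            rw [← h𝔪comap i]
            exact h
          exact Set.disjoint_left.mp (hdisj i) s.2 this
      have hu1 : IsUnit (algebraMap C (O i) (c * algebraMap B C s)) := by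
        rw [hbs, ← IsScalarTower.algebraMap_apply B C (O i)]
        exact IsLocalization.map_units (O i) (⟨b, hb⟩ : (P i).primeCompl)
      rw [map_mul] at hu1
      exact isUnit_of_mul_isUnit_left hu1
  exact sum_ordFrac_eq_ordFrac_norm A hA C hinjAC K L 𝔪 h𝔪inj h𝔪surj O f hf

end

end Groth.Agent.Lib.helper2.NormOrd
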