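import Mathlib
import Groth.Agent.Lib.Helper2.NormOrd3
import Groth.Agent.Lib.Helper10.FunFld38
import Groth.Agent.Lib.Helper10.FunFld50
import Groth.Agent.Lib.Helper10.CurveBr1

/-!
# Places of a function field centred at a prime of a one-dimensional domain (helper2), part 1

* `ordFrac_O_eq_ord` : for a place `P` of a function field `L/k`, the order of vanishing along the
  valuation ring `P.O` (the prelude's `CycAlg.ordFrac`) is `P.ord`.
* `toO`, `Qof`, `mem_Qof`, `isLocalization_O` : for a Dedekind domain `B'` with fraction field `L`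
  contained in the valuation ring of the place `P`, the prime `Q = 𝔪_P ∩ B'`; if `Q ≠ 0` then
  `P.O` is the localization of `B'` at `Q`.
-/

set_option autoImplicit false
set_option linter.unusedSectionVars false

universe u v

namespace Groth.Agent.Lib.helper2.DegDiv

open FunFld Groth.Agent.Lib.helper10 Groth.Agent.Lib.helper10.FF IsDedekindDomain IsLocalRing

section PlaceDVR

variable {k : Type v} {L : Type u} [Field k] [Field L] [Algebra k L]

/-- the order at a place is the order of vanishing along its valuation ring -/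
theorem ordFrac_O_eq_ord (hL : IsFunctionField k L) (P : Place k L) (f : L) :
    CycAlg.ordFrac P.O L f = P.ord f := by
  haveI := Place.isDVR hL P
  rw [Groth.Agent.Lib.Helper10.CurveBr.cycOrdFrac_eq_neg_log]
  have h : placeOf P.O hL (Place.algebraMap_mem_O P) (Place.O_ne_top P) = P :=
    Place.eq_of_O_eq _ _ (placeOf_O P.O hL _ _)
  have h2 : Groth.Agent.Lib.Helper10.CurveBr.dvrVal P.O L = P.1 := congrArg Subtype.val h
  rw [h2]
  rfl

theorem val_eq_one_of_le_of_not_lt (P : Place k L) {x : L} (h1 : P.1 x ≤ 1) (h2 : ¬ P.1 x < 1) :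
    P.1 x = 1 := le_antisymm h1 (not_lt.mp h2)

end PlaceDVR

section Ded

variable {k : Type v} {L : Type u} [Field k] [Field L] [Algebra k L]
variable (B' : Type u) [CommRing B'] [Algebra B' L]

/-- `B' → O_P` -/
def toO (P : Place k L) (hP : ∀ b : B', P.1 (algebraMap B' L b) ≤ 1) : B' →+* P.O :=
  (algebraMap B' L).codRestrict P.O hP

@[simp] theorem toO_coe (P : Place k L) (hP : ∀ b : B', P.1 (algebraMap B' L b) ≤ 1) (b : B') :
    ((toO B' P hP b : P.O) : L) = algebraMap B' L b := rfl

/-- the prime of `B'` cut out by a place -/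
def Qof (P : Place k L) (hP : ∀ b : B', P.1 (algebraMap B' L b) ≤ 1) : Ideal B' :=
  (maximalIdeal P.O).comap (toO B' P hP)

instance (P : Place k L) (hP : ∀ b : B', P.1 (algebraMap B' L b) ≤ 1) : (Qof B' P hP).IsPrime :=
  Ideal.comap_isPrime _ _

theorem mem_maximalIdeal_O_iff (P : Place k L) (a : P.O) :
    a ∈ maximalIdeal P.O ↔ P.1 (a : L) < 1 := by
  rw [ValuationSubring.valuation_lt_one_iff]
  exact ((Valuation.isEquiv_valuation_valuationSubring P.1).lt_one_iff_lt_one).symm

theorem mem_Qof (P : Place k L) (hP : ∀ b : B', P.1 (algebraMap B' L b) ≤ 1) (b : B') :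
    b ∈ Qof B' P hP ↔ P.1 (algebraMap B' L b) < 1 := by
  unfold Qof
  rw [Ideal.mem_comap, mem_maximalIdeal_O_iff]
  rfl

theorem val_eq_one_of_notMem_Qof (P : Place k L) (hP : ∀ b : B', P.1 (algebraMap B' L b) ≤ 1)
    {b : B'} (hb : b ∉ Qof B' P hP) : P.1 (algebraMap B' L b) = 1 :=
  val_eq_one_of_le_of_not_lt P (hP b) (fun h => hb ((mem_Qof B' P hP b).mpr h))

variable [IsDedekindDomain B'] [IsFractionRing B' L]

/-- if `Q = 𝔪_P ∩ B'` is nonzero then `O_P = B'_Q` -/
theorem isLocalization_O (P : Place k L) (hP : ∀ b : B', P.1 (algebraMap B' L b) ≤ 1)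
    (hQ : Qof B' P hP ≠ ⊥) :
    @IsLocalization.AtPrime B' _ P.O _ (toO B' P hP).toAlgebra (Qof B' P hP) _ := by
  letI : Algebra B' P.O := (toO B' P hP).toAlgebra
  have halg : ∀ b : B', ((algebraMap B' P.O b : P.O) : L) = algebraMap B' L b := fun b => rfl
  let v : HeightOneSpectrum B' := ⟨Qof B' P hP, inferInstance, hQ⟩
  refine ⟨?_, ?_, ?_⟩
  · rintro ⟨y, hy⟩
    have hy' : y ∉ Qof B' P hP := hy
    have : toO B' P hP y ∉ maximalIdeal P.O := fun h => hy' h
    exact (IsLocalRing.notMem_maximalIdeal.mp this)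
  · intro w
    obtain ⟨n, d, h | h⟩ := v.exists_primeCompl_mul_eq_or_mul_eq (K := L) (w : L)
    · exact ⟨⟨n, d⟩, Subtype.ext h⟩
    · -- `w * n = d`
      by_cases hn : n ∈ Qof B' P hP
      · exfalso
        have h1 : P.1 (algebraMap B' L n) < 1 := (mem_Qof B' P hP n).mp hn
        have h2 : P.1 (algebraMap B' L d) = 1 := val_eq_one_of_notMem_Qof B' P hP d.2
        have h3 : P.1 (w : L) ≤ 1 := w.2
        have h4 : P.1 ((w : L) * algebraMap B' L n) < 1 := by
          rw [map_mul]
          calc P.1 (w : L) * P.1 (algebraMap B' L n) ≤ 1 * P.1 (algebraMap B' L n) :=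
                mul_le_mul_left h3 _
            _ = P.1 (algebraMap B' L n) := one_mul _
            _ < 1 := h1
        rw [h, h2] at h4
        exact lt_irrefl _ h4
      · exact ⟨⟨d, ⟨n, hn⟩⟩, Subtype.ext h⟩
  · intro x y hxy
    refine ⟨1, ?_⟩
    have h1 : algebraMap B' L x = algebraMap B' L y := by
      rw [← halg x, ← halg y, hxy]
    rw [IsFractionRing.injective B' L h1]

end Ded

end Groth.Agent.Lib.helper2.DegDiv
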