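import Mathlib
import Groth.Agent.Lib.Helper2.DegDiv1

/-!
# Places of a function field centred at a prime of a one-dimensional domain (helper2), part 2

`Dom A P` : the valuation ring of the place `P` of `L/k` dominates the local ring `A ⊆ L`.

`finrank_mul_ordFrac_eq_finsum_places` : for `A = B_𝔮` a one-dimensional localization of a
Noetherian domain `B` of dimension `≤ 1` with fraction field `L` whose integral closure is finite,
`[κ(A) : K₀] · ord_A(f) = ∑_{P dominating A} ord_P(f) · deg_{K₀}(P)`.
-/

set_option autoImplicit false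
set_option linter.unusedSectionVars false

universe u v w

namespace Groth.Agent.Lib.helper2.DegDiv

open FunFld Groth.Agent.Lib.helper10 Groth.Agent.Lib.helper10.FF IsDedekindDomain IsLocalRing

section Dom

variable {k : Type v} {L : Type u} [Field k] [Field L] [Algebra k L]
variable (A : Type u) [CommRing A] [IsLocalRing A] [Algebra A L]

/-- the valuation ring of the place `P` dominates the local ring `A ⊆ L` -/
def Dom (P : Place k L) : Prop :=
  (∀ a : A, P.1 (algebraMap A L a) ≤ 1) ∧ ∀ a ∈ maximalIdeal A, P.1 (algebraMap A L a) < 1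

variable {A}

theorem Dom.val_unit {P : Place k L} (h : Dom A P) {a : A} (ha : IsUnit a) :
    P.1 (algebraMap A L a) = 1 := by
  obtain ⟨u, rfl⟩ := ha
  have h1 := h.1 (u : A)
  have h2 := h.1 ((u⁻¹ : Aˣ) : A)
  have h3 : P.1 (algebraMap A L (u : A)) * P.1 (algebraMap A L ((u⁻¹ : Aˣ) : A)) = 1 := by
    rw [← map_mul, ← map_mul, Units.mul_inv, map_one, map_one]
  apply le_antisymm h1
  by_contra hlt
  rw [not_le] at hlt
  have : P.1 (algebraMap A L (u : A)) * P.1 (algebraMap A L ((u⁻¹ : Aˣ) : A)) < 1 := by
    calc _ ≤ P.1 (algebraMap A L (u : A)) * 1 := mul_le_mul_right h2 _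
      _ = P.1 (algebraMap A L (u : A)) := mul_one _
      _ < 1 := hlt
  rw [h3] at this
  exact lt_irrefl _ this

theorem Dom.lt_one_iff {P : Place k L} (h : Dom A P) (a : A) :
    P.1 (algebraMap A L a) < 1 ↔ a ∈ maximalIdeal A := by
  constructor
  · intro hlt
    by_contra hna
    have := h.val_unit (IsLocalRing.notMem_maximalIdeal.mp hna)
    rw [this] at hlt
    exact lt_irrefl _ hlt
  · exact h.2 a

theorem Dom.isLocalHom {P : Place k L} (h : Dom A P) : IsLocalHom (toO A P h.1) := by
  constructor
  intro a ha
  by_contra hna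
  have h1 : a ∈ maximalIdeal A := hna
  have h2 : P.1 (algebraMap A L a) < 1 := h.2 a h1
  have h3 : toO A P h.1 a ∈ maximalIdeal P.O := (mem_maximalIdeal_O_iff P _).mpr h2
  exact h3 ha

end Dom

section Deg

variable {k : Type v} {L : Type u} [Field k] [Field L] [Algebra k L]
variable {A : Type u} [CommRing A] [IsLocalRing A] [Algebra A L]
variable (K₀ : Type w) [Field K₀] [Algebra K₀ k] [Algebra K₀ L] [IsScalarTower K₀ k L]
  [Algebra K₀ A] [IsScalarTower K₀ A L]

/-- tower law for the residue field of a place dominating `A` -/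
theorem deg_down_eq (P : Place k L) (h : Dom A P) :
    (Place.down (k := K₀) P).deg = Module.finrank K₀ (ResidueField A) *
      @Module.finrank (ResidueField A) (ResidueField P.O) _ _
        (@Algebra.toModule _ _ _ _ (@IsLocalRing.ResidueField.instAlgebra A P.O _ _ _ _
          (toO A P h.1).toAlgebra h.isLocalHom)) := by
  letI algAO : Algebra A P.O := (toO A P h.1).toAlgebra
  haveI : IsLocalHom (algebraMap A P.O) := h.isLocalHom
  letI a1 : Algebra K₀ (ResidueField P.O) := Place.algRes (Place.down (k := K₀) P)
  haveI : IsScalarTower K₀ (ResidueField A) (ResidueField P.O) :=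
    IsScalarTower.of_algebraMap_eq (fun c => by
      show residue _ (algebraMap K₀ (Place.down (k := K₀) P).O c) =
        algebraMap (ResidueField A) (ResidueField P.O) (algebraMap K₀ (ResidueField A) c)
      rw [IsScalarTower.algebraMap_apply K₀ A (ResidueField A), ResidueField.algebraMap_eq,
        ResidueField.algebraMap_residue]
      congr 1
      apply Subtype.ext
      exact IsScalarTower.algebraMap_apply K₀ A L c)
  exact (Module.finrank_mul_finrank K₀ (ResidueField A) (ResidueField P.O)).symm

end Deg

section Main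

variable {k : Type v} {L : Type u} [Field k] [Field L] [Algebra k L]

variable (B : Type u) [CommRing B] [IsDomain B] [IsNoetherianRing B] [Algebra B L]
  [IsFractionRing B L]

theorem isFractionRing_integralClosure : IsFractionRing (integralClosure B L) L := by
  haveI : Algebra.IsAlgebraic B L := IsLocalization.isAlgebraic L (nonZeroDivisors B)
  exact integralClosure.isFractionRing_of_algebraic
    (fun x hx => IsFractionRing.injective B L (by rw [hx, map_zero]))

variable [Ring.DimensionLEOne B] [Module.Finite B (integralClosure B L)]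

/-- the integral closure of `B` in its fraction field is a Dedekind domain -/
theorem isDedekindDomain_integralClosure : IsDedekindDomain (integralClosure B L) := by
  haveI := isFractionRing_integralClosure (L := L) B
  rw [isDedekindDomain_iff _ L]
  refine ⟨inferInstance, IsNoetherianRing.of_finite B _, inferInstance, ?_⟩
  intro x hx
  have hx' : IsIntegral B x := isIntegral_trans x hx
  exact ⟨⟨x, hx'⟩, rfl⟩

theorem finrank_mul_ordFrac_eq_finsum_places (hL : IsFunctionField k L)
    (hk : ∀ c : k, IsIntegral B (algebraMap k L c))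
    (𝔮 : Ideal B) [𝔮.IsPrime]
    (A : Type u) [CommRing A] [IsDomain A] [IsNoetherianRing A] [IsLocalRing A] [Algebra B A]
    [IsLocalization.AtPrime A 𝔮] (hA : ringKrullDim A = 1)
    [Algebra A L] [IsFractionRing A L] [IsScalarTower B A L]
    (K₀ : Type w) [Field K₀] [Algebra K₀ k] [Algebra K₀ L] [IsScalarTower K₀ k L]
    [Algebra K₀ A] [IsScalarTower K₀ A L]
    (f : L) (hf : f ≠ 0) :
    (Module.finrank K₀ (ResidueField A) : ℤ) * CycAlg.ordFrac A L f =
      ∑ᶠ (P : Place k L) (_ : Dom A P), P.ord f * ((Place.down (k := K₀) P).deg : ℤ) := by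
  classical
  haveI hDed : IsDedekindDomain (integralClosure B L) := isDedekindDomain_integralClosure B
  haveI hFr : IsFractionRing (integralClosure B L) L := isFractionRing_integralClosure B
  have hinj : Function.Injective (algebraMap B (integralClosure B L)) := by
    intro x y hxy
    apply IsFractionRing.injective B L
    have := congrArg (algebraMap (integralClosure B L) L) hxy
    rwa [← IsScalarTower.algebraMap_apply, ← IsScalarTower.algebraMap_apply] at this
  have h𝔮 : 𝔮 ≠ ⊥ := by
    intro h0
    have h1 := IsLocalization.AtPrime.ringKrullDim_eq_height 𝔮 A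
    rw [hA, h0, Ideal.height_bot] at h1
    exact one_ne_zero (α := WithBot ℕ∞) (by exact_mod_cast h1)
  -- the index type
  let ι := {P : Place k L // Dom A P}
  have hB : ∀ (i : ι) (b : B), i.1.1 (algebraMap B L b) ≤ 1 := fun i b => by
    rw [IsScalarTower.algebraMap_apply B A L]
    exact i.2.1 _
  have hB' : ∀ (i : ι) (b : integralClosure B L),
      i.1.1 (algebraMap (integralClosure B L) L b) ≤ 1 := fun i b =>
    val_le_one_of_isIntegral i.1.1 (hB i) b.2
  let Pid : ι → Ideal (integralClosure B L) := fun i => Qof (integralClosure B L) i.1 (hB' i)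
  haveI : ∀ i, (Pid i).IsPrime := fun i => inferInstance
  have hlt : ∀ (i : ι) (b : B), i.1.1 (algebraMap B L b) < 1 ↔ b ∈ 𝔮 := fun i b => by
    rw [IsScalarTower.algebraMap_apply B A L, i.2.lt_one_iff,
      IsLocalization.AtPrime.to_map_mem_maximal_iff A 𝔮]
  have hPover : ∀ i, (Pid i).comap (algebraMap B (integralClosure B L)) = 𝔮 := fun i => by
    ext b
    rw [Ideal.mem_comap, mem_Qof, ← IsScalarTower.algebraMap_apply, hlt]
  have hPne : ∀ i, Pid i ≠ ⊥ := fun i h0 => by
    have := hPover i
    rw [h0, Ideal.comap_bot_of_injective _ hinj] at this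
    exact h𝔮 this.symm
  have hPinj : Function.Injective Pid := by
    intro i j hij
    apply Subtype.ext
    apply Place.eq_of_O_le
    intro w hw
    letI : Algebra (integralClosure B L) i.1.O := (toO (integralClosure B L) i.1 (hB' i)).toAlgebra
    haveI : IsLocalization.AtPrime i.1.O (Pid i) :=
      isLocalization_O (integralClosure B L) i.1 (hB' i) (hPne i)
    obtain ⟨⟨n, d⟩, hnd⟩ := IsLocalization.surj (Pid i).primeCompl (⟨w, hw⟩ : i.1.O)
    have hnd' : w * algebraMap (integralClosure B L) L d = algebraMap (integralClosure B L) L n :=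
      congrArg Subtype.val hnd
    have hd : (d : integralClosure B L) ∉ Pid j := hij ▸ d.2
    have h1 : j.1.1 (algebraMap (integralClosure B L) L d) = 1 :=
      val_eq_one_of_notMem_Qof (integralClosure B L) j.1 (hB' j) hd
    have h2 := congrArg j.1.1 hnd'
    rw [map_mul, h1, mul_one] at h2
    show j.1.1 w ≤ 1
    rw [h2]
    exact hB' j n
  have hPsurj : ∀ Q : Ideal (integralClosure B L), Q.IsPrime →
      Q.comap (algebraMap B (integralClosure B L)) = 𝔮 → ∃ i, Pid i = Q := by
    intro Q hQp hQ
    have hQ0 : Q ≠ ⊥ := by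
      intro h0
      rw [h0, Ideal.comap_bot_of_injective _ hinj] at hQ
      exact h𝔮 hQ.symm
    let v : HeightOneSpectrum (integralClosure B L) := ⟨Q, hQp, hQ0⟩
    let P : Place k L := ⟨v.valuation L, fun c => by
      have : algebraMap k L c = algebraMap (integralClosure B L) L ⟨algebraMap k L c, hk c⟩ := rfl
      rw [this]
      exact v.valuation_le_one _, v.valuation_surjective L⟩
    have hPB : ∀ b : B, P.1 (algebraMap B L b) ≤ 1 := fun b => by
      rw [IsScalarTower.algebraMap_apply B (integralClosure B L) L]
      exact v.valuation_le_one _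
    have hPs : ∀ s : B, s ∉ 𝔮 → P.1 (algebraMap B L s) = 1 := fun s hs => by
      rw [IsScalarTower.algebraMap_apply B (integralClosure B L) L]
      show v.valuation L (algebraMap (integralClosure B L) L _) = 1
      rw [HeightOneSpectrum.valuation_eq_one_iff_notMem]
      intro hmem
      apply hs
      rw [← hQ]
      exact hmem
    have hPq : ∀ b : B, b ∈ 𝔮 → P.1 (algebraMap B L b) < 1 := fun b hb => by
      rw [IsScalarTower.algebraMap_apply B (integralClosure B L) L]
      show v.valuation L (algebraMap (integralClosure B L) L _) < 1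
      rw [HeightOneSpectrum.valuation_lt_one_iff_mem]
      rw [← hQ] at hb
      exact hb
    have hval : ∀ a : A, ∃ b : B, P.1 (algebraMap A L a) = P.1 (algebraMap B L b) ∧
        (a ∈ maximalIdeal A → b ∈ 𝔮) := by
      intro a
      obtain ⟨⟨b, s⟩, hbs⟩ := IsLocalization.surj 𝔮.primeCompl a
      have h1 := congrArg (algebraMap A L) hbs
      rw [map_mul, ← IsScalarTower.algebraMap_apply, ← IsScalarTower.algebraMap_apply] at h1
      have h2 := congrArg P.1 h1
      rw [map_mul, hPs s s.2, mul_one] at h2
      refine ⟨b, h2, fun ha => ?_⟩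
      rw [← IsLocalization.AtPrime.to_map_mem_maximal_iff A 𝔮]
      simp only at hbs
      rw [← hbs]
      exact Ideal.mul_mem_right _ _ ha
    have hdom : Dom A P := by
      constructor
      · intro a
        obtain ⟨b, h1, -⟩ := hval a
        rw [h1]
        exact hPB b
      · intro a ha
        obtain ⟨b, h1, h2⟩ := hval a
        rw [h1]
        exact hPq b (h2 ha)
    refine ⟨⟨P, hdom⟩, ?_⟩
    ext b'
    show b' ∈ Qof (integralClosure B L) P _ ↔ _
    rw [mem_Qof]
    exact v.valuation_lt_one_iff_mem b'
  haveI : Finite ι := by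
    haveI : Finite (𝔮.primesOver (integralClosure B L)) :=
      (Algebra.QuasiFinite.finite_primesOver 𝔮).to_subtype
    let g : ι → 𝔮.primesOver (integralClosure B L) := fun i =>
      ⟨Pid i, inferInstance, ⟨(hPover i).symm⟩⟩
    refine Finite.of_injective g ?_
    intro i j hij
    exact hPinj (congrArg Subtype.val hij)
  haveI : Fintype ι := Fintype.ofFinite ι
  -- the family of local rings
  letI algB'O : ∀ i : ι, Algebra (integralClosure B L) (i.1.O) := fun i =>
    (toO (integralClosure B L) i.1 (hB' i)).toAlgebra
  haveI : ∀ i : ι, IsLocalization.AtPrime (i.1.O) (Pid i) := fun i =>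
    isLocalization_O (integralClosure B L) i.1 (hB' i) (hPne i)
  letI algAO : ∀ i : ι, Algebra A (i.1.O) := fun i => (toO A i.1 i.2.1).toAlgebra
  haveI : ∀ i : ι, IsLocalHom (algebraMap A (i.1.O)) := fun i => i.2.isLocalHom
  haveI : ∀ i : ι, IsScalarTower (integralClosure B L) (i.1.O) L := fun i =>
    IsScalarTower.of_algebraMap_eq (fun _ => rfl)
  have key := Groth.Agent.Lib.helper2.NormOrd.sum_ordFrac_eq_ordFrac_norm_global B
    (integralClosure B L) hinj 𝔮 A hA L L
    (fun r => by
      rw [← IsScalarTower.algebraMap_apply, ← IsScalarTower.algebraMap_apply]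
      rfl) Pid hPover hPinj hPsurj (fun i : ι => i.1.O)
    (fun i r => by
      apply Subtype.ext
      show algebraMap A L (algebraMap B A r) =
        algebraMap (integralClosure B L) L (algebraMap B (integralClosure B L) r)
      rw [← IsScalarTower.algebraMap_apply, ← IsScalarTower.algebraMap_apply]) f hf
  rw [Algebra.norm_self, MonoidHom.id_apply] at key
  rw [← key, Finset.mul_sum]
  have hsum : ∑ᶠ (P : Place k L) (_ : Dom A P), P.ord f * ((Place.down (k := K₀) P).deg : ℤ) =
      ∑ i : ι, i.1.ord f * ((Place.down (k := K₀) i.1).deg : ℤ) := by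
    rw [← finsum_eq_sum_of_fintype]
    exact (finsum_set_coe_eq_finsum_mem (s := {P : Place k L | Dom A P})
      (f := fun P => P.ord f * ((Place.down (k := K₀) P).deg : ℤ))).symm
  rw [hsum]
  refine Finset.sum_congr rfl (fun i _ => ?_)
  rw [ordFrac_O_eq_ord hL, deg_down_eq K₀ i.1 i.2]
  push_cast
  ring

end Main

end Groth.Agent.Lib.helper2.DegDiv
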