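import Mathlib
import Groth.Agent.Lib.Helper2.DegDiv2
import Groth.Agent.Lib.Helper10.CurveBr5

/-!
# Centres of places on a proper integral scheme over a field (helper2)

For `c : X ⟶ Spec K` with `X` integral, `L = K(X)` a `K`-algebra through `LocSym.constFun c`:
* `exists_centre` : if `c` is proper, every place `P` of `L/K` dominates the local ring of a
  non-generic point of `X` (adapted from helper10 `CurveBr5.exists_pt_of_place`);
* `centre_unique` : if `c` is separated, that point is unique.
-/

set_option autoImplicit false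
set_option linter.unusedSectionVars false

namespace Groth.Agent.Lib.helper2.DegDiv

universe u

open FunFld Groth.Agent.Lib.helper10 Groth.Agent.Lib.helper10.FF
  Groth.Agent.Lib.Helper10.CurveBr CategoryTheory AlgebraicGeometry IsLocalRing

variable {K : Type u} [Field K] {X : Scheme.{u}} (c : X ⟶ Spec (CommRingCat.of K)) [IsIntegral X]
  [Algebra K X.functionField] (halg : algebraMap K X.functionField = LocSym.constFun c)

include halg in
theorem exists_centre [IsProper c] (P : Place K X.functionField) :
    ∃ x : X, x ≠ genericPoint X ∧ Dom (X.presheaf.stalk x) P := by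
  let A : ValuationSubring X.functionField := P.O
  let y := c.base (genericPoint X)
  have hξ : c.base (genericPoint X) ⤳ y := specializes_rfl
  have hA : ∀ g, A.valuation g ≤ 1 ↔ P.1 g ≤ 1 := fun g => by
    rw [ValuationSubring.valuation_le_one_iff]
    exact Valuation.mem_valuationSubring_iff _ _
  have hA' : ∀ g, A.valuation g < 1 ↔ P.1 g < 1 := fun g =>
    ((Valuation.isEquiv_valuation_valuationSubring P.1).lt_one_iff_lt_one).symm
  have h1 : ∀ r : (Spec (CommRingCat.of K)).presheaf.stalk y, A.valuation
      (((Spec (CommRingCat.of K)).presheaf.stalkSpecializes hξ ≫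
        c.stalkMap (genericPoint X)) r) ≤ 1 := by
    intro r
    obtain ⟨a, rfl⟩ := exists_toStalk_eq y r
    rw [hA]
    have e : (((Spec (CommRingCat.of K)).presheaf.stalkSpecializes hξ ≫
        c.stalkMap (genericPoint X)) ((StructureSheaf.toStalk K y).hom a)) =
        LocSym.constFun c a := by
      rw [TopCat.Presheaf.stalkSpecializes_refl, Category.id_comp]
      exact stalkMap_toStalk c a
    rw [e, ← halg]
    exact P.2.1 a
  have h2 : ∀ r ∈ IsLocalRing.maximalIdeal ((Spec (CommRingCat.of K)).presheaf.stalk y),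
      A.valuation (((Spec (CommRingCat.of K)).presheaf.stalkSpecializes hξ ≫
        c.stalkMap (genericPoint X)) r) < 1 := by
    intro r hr
    obtain ⟨a, rfl⟩ := exists_toStalk_eq y r
    have ha : a = 0 := by
      by_contra ha
      rw [IsLocalRing.mem_maximalIdeal, mem_nonunits_iff] at hr
      exact hr ((IsUnit.mk0 a ha).map _)
    rw [ha, map_zero]
    erw [map_zero]
    rw [map_zero]
    exact zero_lt_one
  obtain ⟨x, -, hx1, hx2⟩ :=
    Groth.Agent.Lib.helper4.FunFieldProperLocal.exists_dominated_of_isProper_restrict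
      c y hξ ⊤ trivial A h1 h2
  have hxη : x ≠ genericPoint X := by
    rintro rfl
    obtain ⟨z, hz⟩ := P.2.2 (WithZero.exp 1)
    have h3 := hx1 z
    have h4 : X.presheaf.stalkSpecializes (genericPoint_specializes (genericPoint X)) = 𝟙 _ :=
      TopCat.Presheaf.stalkSpecializes_refl _ _
    rw [h4, hA] at h3
    have h5 : P.1 z ≤ 1 := h3
    rw [hz, ← WithZero.exp_zero, WithZero.exp_le_exp] at h5
    omega
  refine ⟨x, hxη, ?_, ?_⟩
  · intro r
    exact (hA _).mp (hx1 r)
  · intro r hr
    exact (hA' _).mp (hx2 r hr)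

/-- separatedness: the centre of a place is unique -/
theorem centre_unique [IsSeparated c] (P : Place K X.functionField) {x x' : X}
    (h : Dom (X.presheaf.stalk x) P) (h' : Dom (X.presheaf.stalk x') P) : x = x' := by
  let R : CommRingCat.{u} := CommRingCat.of P.O
  let ε : X.presheaf.stalk x ⟶ R := CommRingCat.ofHom (toO (X.presheaf.stalk x) P h.1)
  let ε' : X.presheaf.stalk x' ⟶ R := CommRingCat.ofHom (toO (X.presheaf.stalk x') P h'.1)
  let ℓ₁ : Spec R ⟶ X := Spec.map ε ≫ X.fromSpecStalk x
  let ℓ₂ : Spec R ⟶ X := Spec.map ε' ≫ X.fromSpecStalk x'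
  let j : R ⟶ CommRingCat.of X.functionField := CommRingCat.ofHom (algebraMap P.O X.functionField)
  let ι : Spec (CommRingCat.of X.functionField) ⟶ Spec R := Spec.map j
  have hcomp : ε ≫ j = X.presheaf.stalkSpecializes
      (show genericPoint X ⤳ x from (genericPoint_spec X).specializes trivial) := by
    ext r
    rfl
  have hcomp' : ε' ≫ j = X.presheaf.stalkSpecializes
      (show genericPoint X ⤳ x' from (genericPoint_spec X).specializes trivial) := by
    ext r
    rfl
  have hι1 : ι ≫ ℓ₁ = X.fromSpecStalk (genericPoint X) := by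
    calc ι ≫ ℓ₁ = Spec.map (ε ≫ j) ≫ X.fromSpecStalk x := by
          simp only [ι, ℓ₁, Spec.map_comp, Category.assoc]
      _ = X.fromSpecStalk (genericPoint X) := by
          rw [hcomp]
          exact Scheme.SpecMap_stalkSpecializes_fromSpecStalk _
  have hι2 : ι ≫ ℓ₂ = X.fromSpecStalk (genericPoint X) := by
    calc ι ≫ ℓ₂ = Spec.map (ε' ≫ j) ≫ X.fromSpecStalk x' := by
          simp only [ι, ℓ₂, Spec.map_comp, Category.assoc]
      _ = X.fromSpecStalk (genericPoint X) := by
          rw [hcomp']
          exact Scheme.SpecMap_stalkSpecializes_fromSpecStalk _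
  haveI : IsDominant ι := isDominant_SpecMap_of_injective _
    (IsFractionRing.injective P.O X.functionField)
  have h12c : ℓ₁ ≫ c = ℓ₂ ≫ c := by
    refine ext_of_isDominant ι ?_
    have e1 : ι ≫ ℓ₁ ≫ c = (ι ≫ ℓ₁) ≫ c := (Category.assoc _ _ _).symm
    have e2 : ι ≫ ℓ₂ ≫ c = (ι ≫ ℓ₂) ≫ c := (Category.assoc _ _ _).symm
    rw [e1, e2, hι1, hι2]
  have h12 : ℓ₁ = ℓ₂ := ext_of_isDominant_of_isSeparated c h12c ι (hι1.trans hι2.symm)
  have h1 : ℓ₁ (IsLocalRing.closedPoint P.O) = x := by
    show (Spec.map ε ≫ X.fromSpecStalk x) _ = x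
    rw [Scheme.Hom.comp_apply]
    haveI := h.isLocalHom
    have : Spec.map ε (IsLocalRing.closedPoint P.O) =
        IsLocalRing.closedPoint (X.presheaf.stalk x) :=
      IsLocalRing.comap_closedPoint (toO (X.presheaf.stalk x) P h.1)
    rw [this]
    exact Scheme.fromSpecStalk_closedPoint
  have h2 : ℓ₂ (IsLocalRing.closedPoint P.O) = x' := by
    show (Spec.map ε' ≫ X.fromSpecStalk x') _ = x'
    rw [Scheme.Hom.comp_apply]
    haveI := h'.isLocalHom
    have : Spec.map ε' (IsLocalRing.closedPoint P.O) =
        IsLocalRing.closedPoint (X.presheaf.stalk x') :=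
      IsLocalRing.comap_closedPoint (toO (X.presheaf.stalk x') P h'.1)
    rw [this]
    exact Scheme.fromSpecStalk_closedPoint
  rw [← h1, h12, h2]

end Groth.Agent.Lib.helper2.DegDiv
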