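import Mathlib
import Groth.Agent.Lib.Helper2.DegDiv3
import Groth.Agent.Lib.Helper2.DegDiv4
import Groth.Agent.Lib.Helper13.PIns2

/-!
# The degree of a principal divisor on a proper integral curve over a field (helper2)
-/

set_option autoImplicit false
set_option linter.unusedSectionVars false

namespace Groth.Agent.Lib.helper2.DegDiv

universe u

open FunFld Groth.Agent.Lib.helper10 Groth.Agent.Lib.helper10.FF
  Groth.Agent.Lib.Helper10.CurveBr CategoryTheory AlgebraicGeometry IsLocalRing

/-- regrouping a `finsum` along the fibres of a map (copied from helper16 `PushPull2`) -/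
theorem finsum_mem_fiberwise {A B : Type*} (π : A → B) (T : Set A) (G : A → ℤ)
    (hfin : (T ∩ Function.support G).Finite) (S : Set B) (hS : ∀ a ∈ T, π a ∈ S) :
    ∑ᶠ a ∈ T, G a = ∑ᶠ b ∈ S, ∑ᶠ a ∈ {a | π a = b ∧ a ∈ T}, G a := by
  classical
  set s : Finset A := hfin.toFinset with hs
  have mem_s : ∀ a, a ∈ s ↔ a ∈ T ∧ G a ≠ 0 := by
    intro a
    simp [hs]
  have hL : ∑ᶠ a ∈ T, G a = ∑ a ∈ s, G a := by
    refine finsum_mem_eq_sum_of_subset _ ?_ ?_
    · rintro a ⟨h1, h2⟩
      rw [Finset.mem_coe, mem_s]
      exact ⟨h1, h2⟩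
    · intro a ha
      exact ((mem_s a).mp ha).1
  have hI : ∀ b, ∑ᶠ a ∈ {a | π a = b ∧ a ∈ T}, G a = ∑ a ∈ s with π a = b, G a := by
    intro b
    refine finsum_mem_eq_sum_of_subset _ ?_ ?_
    · rintro a ⟨⟨h1, h2⟩, h3⟩
      rw [Finset.mem_coe, Finset.mem_filter, mem_s]
      exact ⟨⟨h2, h3⟩, h1⟩
    · intro a ha
      rw [Finset.mem_coe, Finset.mem_filter, mem_s] at ha
      exact ⟨ha.2, ha.1.1⟩
  have hR : ∑ᶠ b ∈ S, ∑ᶠ a ∈ {a | π a = b ∧ a ∈ T}, G a =
      ∑ b ∈ s.image π, ∑ a ∈ s with π a = b, G a := by
    simp_rw [hI]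
    refine finsum_mem_eq_sum_of_subset _ ?_ ?_
    · rintro b ⟨_, h2⟩
      obtain ⟨a, ha, -⟩ := Finset.exists_ne_zero_of_sum_ne_zero h2
      rw [Finset.mem_filter] at ha
      rw [Finset.mem_coe, Finset.mem_image]
      exact ⟨a, ha.1, ha.2⟩
    · intro b hb
      rw [Finset.mem_coe, Finset.mem_image] at hb
      obtain ⟨a, ha, rfl⟩ := hb
      exact hS a ((mem_s a).mp ha).1
  rw [hL, hR]
  exact (Finset.sum_fiberwise_of_maps_to (fun a ha => Finset.mem_image_of_mem π ha) _).symm

variable {K : Type u} [Field K] {X : Scheme.{u}} (c : X ⟶ Spec (CommRingCat.of K))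

/-- the residue degree of a point of a `K`-scheme is the degree of its residue field over `K` -/
theorem residueDegree_eq_finrank (x : X) :
    letI : Algebra K (X.presheaf.stalk x) := (constStalk c x).toAlgebra
    c.residueDegree x = Module.finrank K (IsLocalRing.ResidueField (X.presheaf.stalk x)) := by
  letI : Algebra K (X.presheaf.stalk x) := (constStalk c x).toAlgebra
  unfold Scheme.Hom.residueDegree
  letI alg2 : Algebra ((Spec (CommRingCat.of K)).residueField (c x)) (X.residueField x) :=
    (c.residueFieldMap x).hom.toAlgebra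
  let e0 : K →+* (Spec (CommRingCat.of K)).residueField (c x) :=
    ((Spec (CommRingCat.of K)).residue (c x)).hom.comp (StructureSheaf.toStalk K (c x)).hom
  have hbij : Function.Bijective e0 := by
    refine ⟨e0.injective, fun z => ?_⟩
    obtain ⟨r, rfl⟩ := IsLocalRing.residue_surjective z
    obtain ⟨a, rfl⟩ := exists_toStalk_eq (c x) r
    exact ⟨a, rfl⟩
  let e : K ≃+* (Spec (CommRingCat.of K)).residueField (c x) := RingEquiv.ofBijective e0 hbij
  symm
  refine Algebra.finrank_eq_of_equiv_equiv e (RingEquiv.refl _) ?_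
  ext a
  show (c.residueFieldMap x).hom (IsLocalRing.residue _ ((StructureSheaf.toStalk K (c x)).hom a)) =
    IsLocalRing.residue _ (constStalk c x a)
  have h1 : (c.residueFieldMap x).hom
      (IsLocalRing.residue _ ((StructureSheaf.toStalk K (c x)).hom a)) =
      IsLocalRing.residue _ ((c.stalkMap x).hom ((StructureSheaf.toStalk K (c x)).hom a)) :=
    IsLocalRing.ResidueField.map_residue (c.stalkMap x).hom _
  rw [h1]
  congr 1
  exact Scheme.Hom.germ_stalkMap_apply c ⊤ x trivial _

variable [IsIntegral X] [Algebra K X.functionField]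
  (halg : algebraMap K X.functionField = LocSym.constFun c)

include halg in
/-- the local formula at a non-generic point of an integral curve over `K` -/
theorem residueDegree_mul_ordFrac_eq [LocallyOfFiniteType c] (hdim : topologicalKrullDim X = 1)
    (x : X) (hx : x ≠ genericPoint X) (f : X.functionField) (hf : f ≠ 0) :
    (c.residueDegree x : ℤ) * CycAlg.ordFrac (X.presheaf.stalk x) X.functionField f =
      ∑ᶠ (P : Place (algebraicClosure K X.functionField) X.functionField)
        (_ : Dom (X.presheaf.stalk x) P), P.ord f * ((Place.down (k := K) P).deg : ℤ) := by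
  have hL := isFunctionField_functionField c halg hdim
  obtain ⟨U, hU, hxU⟩ : ∃ U : X.Opens, IsAffineOpen U ∧ x ∈ U := by
    obtain ⟨_, ⟨U, hU, rfl⟩, hxU, -⟩ := X.isBasis_affineOpens.exists_subset_of_mem_open
      (Set.mem_univ x) isOpen_univ
    exact ⟨U, hU, hxU⟩
  haveI : Nonempty U := ⟨⟨x, hxU⟩⟩
  have hle : U ≤ c ⁻¹ᵁ ⊤ := le_top
  let κ : K →+* Γ(X, U) := (c.appLE ⊤ U hle).hom.comp (Scheme.ΓSpecIso (CommRingCat.of K)).inv.hom
  letI : Algebra K Γ(X, U) := κ.toAlgebra
  haveI : IsFractionRing Γ(X, U) X.functionField :=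
    functionField_isFractionRing_of_isAffineOpen X U hU
  haveI : IsScalarTower K Γ(X, U) X.functionField := IsScalarTower.of_algebraMap_eq (fun a => by
    rw [halg]
    unfold LocSym.constFun
    simp only [RingHom.comp_apply]
    show _ = X.germToFunctionField U (κ a)
    simp only [κ, RingHom.comp_apply, Scheme.Hom.appLE]
    have hη : genericPoint X ∈ U :=
      ((genericPoint_spec X).mem_open_set_iff U.isOpen).mpr ⟨x, trivial, hxU⟩
    exact (X.presheaf.germ_res_apply (homOfLE hle) (genericPoint X) hη _).symm)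
  haveI : Algebra.FiniteType K Γ(X, U) := by
    have h1 : (c.appLE ⊤ U hle).hom.FiniteType :=
      Scheme.Hom.finiteType_appLE c (isAffineOpen_top _) hU hle
    have h2 : ((Scheme.ΓSpecIso (CommRingCat.of K)).inv.hom).FiniteType :=
      RingHom.FiniteType.of_surjective _
        ((ConcreteCategory.bijective_of_isIso (Scheme.ΓSpecIso (CommRingCat.of K)).inv).2)
    have h3 : κ.FiniteType := h1.comp h2
    exact h3
  haveI : IsNoetherianRing Γ(X, U) := Algebra.FiniteType.isNoetherianRing K _
  haveI : Ring.KrullDimLE 1 Γ(X, U) :=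
    Ring.krullDimLE_iff.mpr ((ringKrullDim_sections_le hU).trans hdim.le)
  haveI : Ring.DimensionLEOne Γ(X, U) := ⟨fun hp hprime => hprime.isMaximal_of_ne_bot hp⟩
  haveI : Module.Finite Γ(X, U) (integralClosure Γ(X, U) X.functionField) :=
    Groth.Agent.Lib.helper13.PIns.finite_integralClosure_of_finiteType_field K Γ(X, U)
      X.functionField X.functionField
  have hk : ∀ a : algebraicClosure K X.functionField,
      IsIntegral Γ(X, U) (algebraMap (algebraicClosure K X.functionField) X.functionField a) :=
    fun a => by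
      have h1 : IsIntegral K (a : X.functionField) := a.2
      exact h1.tower_top
  set 𝔭 := hU.primeIdealOf ⟨x, hxU⟩ with h𝔭
  letI := X.presheaf.algebra_section_stalk ⟨x, hxU⟩
  haveI : IsLocalization.AtPrime (X.presheaf.stalk x) 𝔭.asIdeal := hU.isLocalization_stalk ⟨x, hxU⟩
  haveI : IsNoetherianRing (X.presheaf.stalk x) :=
    IsLocalization.isNoetherianRing 𝔭.asIdeal.primeCompl _ inferInstance
  have hA := ringKrullDim_stalk_eq_one hdim.le x hx
  haveI : IsScalarTower Γ(X, U) (X.presheaf.stalk x) X.functionField :=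
    IsScalarTower.of_algebraMap_eq (fun b =>
      (Scheme.algebraMap_germ_eq_germToFunctionField (X := X) hxU b).symm)
  letI : Algebra K (X.presheaf.stalk x) := (constStalk c x).toAlgebra
  haveI : IsScalarTower K (X.presheaf.stalk x) X.functionField :=
    IsScalarTower.of_algebraMap_eq (fun a => algebraMap_eq_constStalk c halg x a)
  have key := finrank_mul_ordFrac_eq_finsum_places
    (k := algebraicClosure K X.functionField) Γ(X, U) hL hk 𝔭.asIdeal (X.presheaf.stalk x) hA K f hf
  rw [← key, residueDegree_eq_finrank c x]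

/-- the degree of a principal divisor of a function field is zero, as a `finsum` -/
theorem finsum_ord_mul_deg_eq_zero {k L : Type*} [Field k] [Field L] [Algebra k L]
    (hL : IsFunctionField k L) (f : L) :
    ∑ᶠ P : Place k L, P.ord f * (P.deg : ℤ) = 0 := by
  classical
  have h := deg_div hL f
  unfold Divisor.deg at h
  rw [Finsupp.sum] at h
  rw [← h, finsum_eq_sum_of_support_subset (s := (FunFld.div k f).support)]
  · exact Finset.sum_congr rfl (fun P _ => by rw [div_apply hL])
  · intro P hP
    rw [Finset.mem_coe, Finsupp.mem_support_iff, div_apply hL]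
    intro h0
    apply hP
    show P.ord f * _ = 0
    rw [h0, zero_mul]

theorem ne_genericPoint_of_isClosed (hdim : topologicalKrullDim X = 1) (x : X)
    (hx : IsClosed ({x} : Set X)) : x ≠ genericPoint X := by
  rintro rfl
  obtain ⟨p, hp⟩ := exists_ne_genericPoint hdim
  have h2 : closure ({genericPoint X} : Set X) = Set.univ := (genericPoint_spec X).def
  rw [hx.closure_eq] at h2
  have : p ∈ ({genericPoint X} : Set X) := h2 ▸ Set.mem_univ p
  exact hp this

include halg in
/-- **Degree of a principal divisor on a proper integral curve is zero.** -/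
theorem finsum_residueDegree_mul_ordFrac_eq_zero [IsProper c]
    (hdim : topologicalKrullDim X = 1) (f : X.functionField) (hf : f ≠ 0) :
    ∑ᶠ (x : X) (_ : IsClosed ({x} : Set X)),
      (c.residueDegree x : ℤ) * CycAlg.ordFrac (X.presheaf.stalk x) X.functionField f = 0 := by
  classical
  have hL := isFunctionField_functionField c halg hdim
  have hcen : ∀ P : Place (algebraicClosure K X.functionField) X.functionField,
      ∃ x : X, x ≠ genericPoint X ∧ Dom (X.presheaf.stalk x) P := fun P =>
    exists_centre c halg (Place.down (k := K) P)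
  choose cen hcen1 hcen2 using hcen
  have hcen_iff : ∀ (P : Place (algebraicClosure K X.functionField) X.functionField) (x : X),
      Dom (X.presheaf.stalk x) P ↔ cen P = x := fun P x =>
    ⟨fun h => centre_unique c (Place.down (k := K) P) (hcen2 P) h, fun h => h ▸ hcen2 P⟩
  let g : Place (algebraicClosure K X.functionField) X.functionField → ℤ :=
    fun P => P.ord f * ((Place.down (k := K) P).deg : ℤ)
  have hfin : (Set.univ ∩ Function.support g).Finite := by
    refine (support_ord_finite hL f).subset ?_
    rintro P ⟨-, hP⟩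
    intro h0
    apply hP
    have h0' : P.ord f = 0 := h0
    show P.ord f * _ = 0
    rw [h0', zero_mul]
  have h1 : ∑ᶠ (x : X) (_ : IsClosed ({x} : Set X)),
      (c.residueDegree x : ℤ) * CycAlg.ordFrac (X.presheaf.stalk x) X.functionField f =
      ∑ᶠ x ∈ {x : X | IsClosed ({x} : Set X)}, ∑ᶠ P ∈ {P | cen P = x ∧ P ∈ Set.univ}, g P := by
    refine finsum_mem_congr rfl (fun x hx => ?_)
    rw [residueDegree_mul_ordFrac_eq c halg hdim x (ne_genericPoint_of_isClosed hdim x hx) f hf]
    refine finsum_congr (fun P => ?_)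
    refine finsum_congr_Prop ?_ (fun _ => rfl)
    rw [hcen_iff]
    exact propext ⟨fun h => ⟨h, trivial⟩, fun h => h.1⟩
  rw [h1, ← finsum_mem_fiberwise cen Set.univ g hfin _
    (fun P _ => isClosed_singleton_of_ne_genericPoint hdim.le _ (hcen1 P)), finsum_mem_univ]
  have h2 : ∀ P : Place (algebraicClosure K X.functionField) X.functionField,
      g P = (Module.finrank K (algebraicClosure K X.functionField) : ℤ) *
        (P.ord f * (P.deg : ℤ)) := fun P => by
    show P.ord f * ((Place.down (k := K) P).deg : ℤ) = _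
    rw [Place.deg_down]
    push_cast
    ring
  rw [finsum_congr h2, ← mul_finsum, finsum_ord_mul_deg_eq_zero hL f, mul_zero]

end Groth.Agent.Lib.helper2.DegDiv
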