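import Mathlib
import Groth.Agent.Lib.Helper17.FibreStalk
import Groth.Agent.Lib.Helper3.DimFibre

/-!
# The generic fibre of a dominant morphism of integral schemes (helper2)
-/

set_option autoImplicit false
set_option linter.unusedSectionVars false

namespace Groth.Agent.Lib.helper2.GenFib

universe u

open CategoryTheory AlgebraicGeometry IsLocalRing

variable {X Y : Scheme.{u}} [IsIntegral X] [IsIntegral Y] (p : X ⟶ Y)

theorem maximalIdeal_stalk_eq_bot (y : Y) (hy : y = genericPoint Y) :
    maximalIdeal (Y.presheaf.stalk y) = ⊥ := by
  subst hy
  letI : Field (Y.presheaf.stalk (genericPoint Y)) := inferInstanceAs (Field Y.functionField)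
  exact IsLocalRing.maximalIdeal_eq_bot

theorem bijective_stalkMap_fiberι (y : Y) (hy : y = genericPoint Y) (z : p.fiber y) :
    Function.Bijective ((p.fiberι y).stalkMap z).hom := by
  refine ⟨?_, (p.fiberι y).stalkMap_surjective z⟩
  rw [RingHom.injective_iff_ker_eq_bot,
    Groth.Agent.Lib.helper17.FibreStalk.ker_fiberι_stalkMap]
  have h1 : p (p.fiberι y z) = y := by
    have : p.fiberι y z ∈ p ⁻¹' {y} := by
      rw [← p.range_fiberι y]
      exact ⟨z, rfl⟩
    exact this
  rw [maximalIdeal_stalk_eq_bot _ (h1.trans hy), Ideal.map_bot]

instance isProper_fiberToSpecResidueField [IsProper p] (y : Y) :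
    IsProper (p.fiberToSpecResidueField y) :=
  MorphismProperty.pullback_snd _ _ inferInstance

section Generic

variable (hdom : p (genericPoint X) = genericPoint Y)

theorem asFiber_specializes (z : p.fiber (p (genericPoint X))) :
    p.asFiber (genericPoint X) ⤳ z := by
  rw [← (p.fiberι (p (genericPoint X))).isEmbedding.isInducing.specializes_iff, p.fiberι_asFiber]
  exact genericPoint_specializes _

include hdom in
theorem isIntegral_fiber : IsIntegral (p.fiber (p (genericPoint X))) := by
  haveI : IrreducibleSpace (p.fiber (p (genericPoint X))) :=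
    Groth.Agent.Lib.helper3.DimFibre.irreducibleSpace_of_forall_specializes
      (p.asFiber (genericPoint X)) (asFiber_specializes p)
  haveI : IsReduced (p.fiber (p (genericPoint X))) := by
    haveI : ∀ z : p.fiber (p (genericPoint X)),
        _root_.IsReduced ((p.fiber (p (genericPoint X))).presheaf.stalk z) := fun z => by
      have hb := bijective_stalkMap_fiberι p _ hdom z
      let e : X.presheaf.stalk (p.fiberι _ z) ≃+* (p.fiber (p (genericPoint X))).presheaf.stalk z :=
        RingEquiv.ofBijective _ hb
      exact isReduced_of_injective e.symm.toRingHom e.symm.injective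
    exact isReduced_of_isReduced_stalk _
  exact isIntegral_of_irreducibleSpace_of_isReduced _

include hdom in
theorem genericPoint_fiber :
    haveI := isIntegral_fiber p hdom
    genericPoint (p.fiber (p (genericPoint X))) = p.asFiber (genericPoint X) := by
  haveI := isIntegral_fiber p hdom
  exact Groth.Agent.Lib.helper3.DimFibre.genericPoint_eq_of_forall_specializes _
    (asFiber_specializes p)

include hdom in
theorem fiberι_genericPoint :
    haveI := isIntegral_fiber p hdom
    p.fiberι _ (genericPoint (p.fiber (p (genericPoint X)))) = genericPoint X := by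
  haveI := isIntegral_fiber p hdom
  rw [genericPoint_fiber p hdom, p.fiberι_asFiber]

theorem dim_fiber [LocallyOfFiniteType p]
    (htd : Groth.Agent.Lib.helper3.DimIneq.td (p.residueFieldMap (genericPoint X)).hom = 1) :
    topologicalKrullDim (p.fiber (p (genericPoint X))) = 1 := by
  have := Groth.Agent.Lib.helper3.DimFibre.dim_fiber_generic p (genericPoint X)
    (fun z => genericPoint_specializes z) 1 (by rw [htd]; rfl)
  exact_mod_cast this

end Generic

end Groth.Agent.Lib.helper2.GenFib
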