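import Mathlib
import Groth.Agent.Lib.Helper4.GenFinite5

/-!
# Finite fibres of proper morphisms: topological criterion and affine neighbourhoods (helper2)

* `finite_of_noetherianSpace_of_specializes_eq`: a Noetherian quasi-sober space without nontrivial
  specializations is finite.
* `finite_preimage_singleton_of_specializes_eq`: a fibre of a quasi-compact morphism locally of
  finite type without nontrivial specializations is finite.
* `exists_affine_finite_of_finite_preimage`: for `p` proper with finite fibre over `y` there is an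
  affine open `W ∋ y` with `p ⁻¹ W` affine and `Γ(W) → Γ(p ⁻¹ W)` finite.
-/

set_option autoImplicit false
universe u
open CategoryTheory CategoryTheory.Limits AlgebraicGeometry TopologicalSpace Opposite

namespace Groth.Agent.Lib.helper2.NormPush

theorem finite_of_noetherianSpace_of_specializes_eq {α : Type*} [TopologicalSpace α]
    [NoetherianSpace α] [QuasiSober α] (h : ∀ a b : α, a ⤳ b → a = b) : Finite α := by
  have hfin : (irreducibleComponents α).Finite := NoetherianSpace.finite_irreducibleComponents
  haveI : Finite (irreducibleComponents α) := hfin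
  let φ : α → irreducibleComponents α := fun a =>
    ⟨irreducibleComponent a, irreducibleComponent_mem_irreducibleComponents a⟩
  have hφ : Function.Injective φ := by
    intro a b hab
    have hab' : irreducibleComponent a = irreducibleComponent b := congrArg Subtype.val hab
    obtain ⟨ζ, hζ⟩ := QuasiSober.sober (isIrreducible_irreducibleComponent (x := a))
      isClosed_irreducibleComponent
    have h1 : ζ = a := h ζ a (hζ.specializes mem_irreducibleComponent)
    have h2 : ζ = b := h ζ b (hζ.specializes (hab' ▸ mem_irreducibleComponent))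
    exact h1.symm.trans h2
  exact Finite.of_injective φ hφ

variable {X Y : Scheme.{u}} (p : X ⟶ Y)

theorem finite_preimage_singleton_of_specializes_eq [LocallyOfFiniteType p] [QuasiCompact p]
    (y : Y) (h : ∀ a b : X, p a = y → p b = y → a ⤳ b → a = b) : (p ⁻¹' {y}).Finite := by
  haveI : LocallyOfFiniteType (p.fiberToSpecResidueField y) :=
    MorphismProperty.pullback_snd _ _ inferInstance
  haveI : IsLocallyNoetherian (p.fiber y) :=
    LocallyOfFiniteType.isLocallyNoetherian (p.fiberToSpecResidueField y)
  haveI : IsNoetherian (p.fiber y) := { }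
  have hfib : Finite (p.fiber y) := by
    apply finite_of_noetherianSpace_of_specializes_eq
    intro a b hab
    have h1 : p.fiberι y a ⤳ p.fiberι y b := hab.map (p.fiberι y).continuous
    have ha : p (p.fiberι y a) = y := by
      have := (p.fiberHomeo y a).2
      simpa using this
    have hb : p (p.fiberι y b) = y := by
      have := (p.fiberHomeo y b).2
      simpa using this
    exact (p.fiberι y).isEmbedding.injective (h _ _ ha hb h1)
  exact Set.finite_coe_iff.mp ((p.fiberHomeo y).finite_iff.mp hfib)

theorem exists_affine_finite_of_finite_preimage [IsProper p] (y : Y)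
    (hfin : (p ⁻¹' {y}).Finite) :
    ∃ W : Y.Opens, IsAffineOpen W ∧ y ∈ W ∧ IsAffineOpen (p ⁻¹ᵁ W) ∧
      (p.appLE W (p ⁻¹ᵁ W) le_rfl).hom.Finite := by
  obtain ⟨V, hyV, hV⟩ := exists_isFinite_morphismRestrict_of_finite_preimage_singleton p y hfin
  obtain ⟨_, ⟨W : Y.Opens, hW : IsAffineOpen W, rfl⟩, hyW, hWV⟩ :=
    Y.isBasis_affineOpens.exists_subset_of_mem_open hyV V.isOpen
  have hWV' : W ≤ V := hWV
  have hfinW : IsFinite (p ∣_ W) := by
    have e := morphismRestrictRestrict p V (V.ι ⁻¹ᵁ W)
    have h1 : IsFinite (p ∣_ V ∣_ (V.ι ⁻¹ᵁ W)) := inferInstance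
    have h2 : IsFinite (p ∣_ V.ι ''ᵁ (V.ι ⁻¹ᵁ W)) :=
      (MorphismProperty.arrow_mk_iso_iff @IsFinite e).mp h1
    have h3 : V.ι ''ᵁ (V.ι ⁻¹ᵁ W) = W := by
      rw [Scheme.Hom.image_preimage_eq_opensRange_inf, Scheme.Opens.opensRange_ι]
      exact inf_eq_right.mpr hWV'
    rwa [h3] at h2
  have hU : IsAffineOpen (p ⁻¹ᵁ W) := by
    haveI : IsAffine W.toScheme := hW
    have : IsAffine (p ⁻¹ᵁ W).toScheme := isAffine_of_isAffineHom (p ∣_ W)
    exact this
  refine ⟨W, hW, hyW, hU, ?_⟩
  apply Groth.Agent.Lib.helper4.GenFinite5.finite_appLE_of_isFinite_resLE p W (p ⁻¹ᵁ W) hW hU le_rfl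
  rw [Scheme.Hom.resLE_eq_morphismRestrict]
  exact hfinW

end Groth.Agent.Lib.helper2.NormPush
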