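import Groth.Agent.Lib.Helper16.OrdGen
import Groth.Agent.Lib.Helper2.NormPush1

/-!
# Dictionary between stalks/residue fields and fraction-ring data (helper2)

* `isFractionRing_sections_residueField`: `κ(η)` is the fraction field of `Γ(X, U)`, `U` affine.
* `isFractionRing_stalk_residueField`: `κ(ξ)` is the fraction field of `O_{X,x}` if the prime of
  `ξ` in `O_{X,x}` is zero.
* `ordFrac_stalk_eq_ordAt`: `Cyc.ordAt` computed with `O_{X,x}` itself.
* `stalkAlg`, `finrank_residueField_eq_residueDegree`: the residue degree via the local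
  homomorphism `O_{Y,y} → O_{X,x}` for `p x = y`.
-/

set_option autoImplicit false
universe u
open CategoryTheory CategoryTheory.Limits AlgebraicGeometry TopologicalSpace Opposite

namespace Groth.Agent.Lib.helper2.NormPush

open Groth.Agent.Lib.helper16.SecOrd Groth.Agent.Lib.helper16.CycOpen
  Groth.Agent.Lib.helper16.OrdGen

variable {X : Scheme.{u}}

theorem ker_specMap_eq_bot [IsIntegral X] {x ξ : X} (h : ξ ⤳ x) (hξ : ξ = genericPoint X) :
    RingHom.ker (Cyc.specMap x ξ h) = ⊥ := by
  subst hξ
  exact ker_specMap_genericPoint x h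

theorem isFractionRing_stalk_residueField {x ξ : X} (h : ξ ⤳ x)
    (hker : RingHom.ker (Cyc.specMap x ξ h) = ⊥) :
    letI := (Cyc.specMap x ξ h).toAlgebra
    IsFractionRing (X.presheaf.stalk x) (X.residueField ξ) := by
  letI := (Cyc.specMap x ξ h).toAlgebra
  haveI : FaithfulSMul (X.presheaf.stalk x) (X.residueField ξ) :=
    (faithfulSMul_iff_algebraMap_injective _ _).2
      ((RingHom.injective_iff_ker_eq_bot _).2 hker)
  refine IsFractionRing.of_field _ _ fun z => ?_
  by_cases hz : z = 0
  · exact ⟨0, 1, by rw [hz, map_zero, zero_div]⟩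
  · obtain ⟨a, b, -, -, hab⟩ := exists_div_eq h z hz
    exact ⟨a, b, hab⟩

/-- `O_{X,x} ≃ O_{X,x}/𝔭_ξ` when `𝔭_ξ = 0`. -/
noncomputable def locQuotEquivOfKer {x ξ : X} (h : ξ ⤳ x)
    (hker : RingHom.ker (Cyc.specMap x ξ h) = ⊥) :
    X.presheaf.stalk x ≃+* Cyc.LocQuot x ξ h :=
  RingEquiv.ofBijective (Ideal.Quotient.mk _) ⟨by
    rw [RingHom.injective_iff_ker_eq_bot, Ideal.mk_ker]
    exact hker, Ideal.Quotient.mk_surjective⟩

theorem ordFrac_stalk_eq_ordAt {x ξ : X} (h : ξ ⤳ x)
    (hker : RingHom.ker (Cyc.specMap x ξ h) = ⊥) (g : X.residueField ξ) :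
    @CycAlg.ordFrac (X.presheaf.stalk x) _ (X.residueField ξ) _
      (Cyc.specMap x ξ h).toAlgebra g = Cyc.ordAt x ξ h g := by
  letI := (Cyc.specMap x ξ h).toAlgebra
  unfold Cyc.ordAt
  exact ordFrac_ringEquiv (locQuotEquivOfKer h hker) (RingEquiv.refl _) (fun r => rfl) g

theorem isFractionRing_sections_residueField [IsIntegral X] (U : X.Opens) (hU : IsAffineOpen U)
    (hη : genericPoint X ∈ U) :
    letI := (X.evaluation U (genericPoint X) hη).hom.toAlgebra
    IsFractionRing Γ(X, U) (X.residueField (genericPoint X)) := by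
  letI := (X.evaluation U (genericPoint X) hη).hom.toAlgebra
  haveI : Nonempty U := ⟨⟨genericPoint X, hη⟩⟩
  have hinj : Function.Injective (X.evaluation U (genericPoint X) hη).hom := by
    intro a b hab
    have h1 : (X.residue (genericPoint X)).hom (X.presheaf.germ U (genericPoint X) hη a) =
        (X.residue (genericPoint X)).hom (X.presheaf.germ U (genericPoint X) hη b) := hab
    exact germ_injective_of_isIntegral X (genericPoint X) hη (residue_genericPoint_injective h1)
  haveI : FaithfulSMul Γ(X, U) (X.residueField (genericPoint X)) :=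
    (faithfulSMul_iff_algebraMap_injective _ _).2 hinj
  haveI := functionField_isFractionRing_of_isAffineOpen X U hU
  refine IsFractionRing.of_field _ _ fun z => ?_
  obtain ⟨w, rfl⟩ := X.residue_surjective (genericPoint X) z
  obtain ⟨a, b, -, hab⟩ := IsFractionRing.div_surjective (A := Γ(X, U)) (K := X.functionField) w
  refine ⟨a, b, ?_⟩
  rw [← hab, map_div₀]
  rfl

section degree

variable {Y : Scheme.{u}} (p : X ⟶ Y)

/-- the local homomorphism `O_{Y,y} → O_{X,x}` for `p x = y`, as an algebra structure. -/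
@[reducible] noncomputable def stalkAlg (x : X) (y : Y) (hxy : p x = y) :
    Algebra (Y.presheaf.stalk y) (X.presheaf.stalk x) :=
  (Y.presheaf.stalkSpecializes (specializes_of_eq hxy) ≫ p.stalkMap x).hom.toAlgebra

theorem isLocalHom_stalkAlg (x : X) (y : Y) (hxy : p x = y) :
    letI := stalkAlg p x y hxy
    IsLocalHom (algebraMap (Y.presheaf.stalk y) (X.presheaf.stalk x)) := by
  subst hxy
  letI := stalkAlg p x (p x) rfl
  show IsLocalHom (Y.presheaf.stalkSpecializes (specializes_of_eq rfl) ≫ p.stalkMap x).hom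
  have : Y.presheaf.stalkSpecializes (specializes_of_eq (rfl : p x = p x)) = 𝟙 _ :=
    Y.presheaf.stalkSpecializes_refl _
  rw [this, Category.id_comp]
  infer_instance

theorem stalkAlg_germ (x : X) (y : Y) (hxy : p x = y) (W : Y.Opens) (hyW : y ∈ W)
    (r : Γ(Y, W)) :
    letI := stalkAlg p x y hxy
    algebraMap (Y.presheaf.stalk y) (X.presheaf.stalk x) (Y.presheaf.germ W y hyW r) =
      X.presheaf.germ (p ⁻¹ᵁ W) x (show p x ∈ W from hxy ▸ hyW) (p.app W r) := by
  subst hxy
  show (Y.presheaf.stalkSpecializes (specializes_of_eq rfl) ≫ p.stalkMap x).hom _ = _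
  have : Y.presheaf.stalkSpecializes (specializes_of_eq (rfl : p x = p x)) = 𝟙 _ :=
    Y.presheaf.stalkSpecializes_refl _
  rw [this, Category.id_comp]
  exact Scheme.Hom.germ_stalkMap_apply p W x hyW r

theorem finrank_residueField_eq_residueDegree (x : X) (y : Y) (hxy : p x = y) :
    letI := stalkAlg p x y hxy
    haveI := isLocalHom_stalkAlg p x y hxy
    Module.finrank (IsLocalRing.ResidueField (Y.presheaf.stalk y))
      (IsLocalRing.ResidueField (X.presheaf.stalk x)) = p.residueDegree x := by
  subst hxy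
  letI := stalkAlg p x (p x) rfl
  haveI := isLocalHom_stalkAlg p x (p x) rfl
  unfold Scheme.Hom.residueDegree
  letI alg2 : Algebra (Y.residueField (p x)) (X.residueField x) :=
    (p.residueFieldMap x).hom.toAlgebra
  refine Algebra.finrank_eq_of_equiv_equiv (RingEquiv.refl _) (RingEquiv.refl _) ?_
  ext a
  obtain ⟨a, rfl⟩ := IsLocalRing.residue_surjective a
  show (p.residueFieldMap x).hom (IsLocalRing.residue _ a) =
    algebraMap (IsLocalRing.ResidueField (Y.presheaf.stalk (p x)))
      (IsLocalRing.ResidueField (X.presheaf.stalk x)) (IsLocalRing.residue _ a)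
  rw [IsLocalRing.ResidueField.algebraMap_residue]
  have h1 : algebraMap (Y.presheaf.stalk (p x)) (X.presheaf.stalk x) a = (p.stalkMap x).hom a := by
    show (Y.presheaf.stalkSpecializes (specializes_of_eq rfl) ≫ p.stalkMap x).hom a = _
    have : Y.presheaf.stalkSpecializes (specializes_of_eq (rfl : p x = p x)) = 𝟙 _ :=
      Y.presheaf.stalkSpecializes_refl _
    rw [this, Category.id_comp]
  rw [h1]
  exact IsLocalRing.ResidueField.map_residue (p.stalkMap x).hom a

end degree

end Groth.Agent.Lib.helper2.NormPush
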