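import Mathlib
import Groth.Agent.Lib.Helper2.GenFib1
import Groth.Agent.Lib.Helper2.NormPush2
import Groth.Agent.Lib.Helper16.CycOpen1

/-!
# The generic fibre of a dominant morphism of integral schemes: orders and residue degrees (helper2)
-/

set_option autoImplicit false
set_option linter.unusedSectionVars false

namespace Groth.Agent.Lib.helper2.GenFib

universe u

open CategoryTheory AlgebraicGeometry IsLocalRing

section ResDeg

variable {X Y Z : Scheme.{u}}

theorem residueDegree_comp (f : X ⟶ Y) (g : Y ⟶ Z) (x : X) :
    (f ≫ g).residueDegree x = g.residueDegree (f x) * f.residueDegree x := by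
  unfold Scheme.Hom.residueDegree
  letI a1 : Algebra (Z.residueField (g (f x))) (Y.residueField (f x)) :=
    (g.residueFieldMap (f x)).hom.toAlgebra
  letI a2 : Algebra (Y.residueField (f x)) (X.residueField x) := (f.residueFieldMap x).hom.toAlgebra
  letI a3 : Algebra (Z.residueField (g (f x))) (X.residueField x) :=
    ((f ≫ g).residueFieldMap x).hom.toAlgebra
  haveI : IsScalarTower (Z.residueField (g (f x))) (Y.residueField (f x)) (X.residueField x) :=
    IsScalarTower.of_algebraMap_eq (fun a => by
      show ((f ≫ g).residueFieldMap x).hom a =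
        (f.residueFieldMap x).hom ((g.residueFieldMap (f x)).hom a)
      rw [Scheme.residueFieldMap_comp]
      rfl)
  exact (Module.finrank_mul_finrank (Z.residueField (g (f x))) (Y.residueField (f x))
    (X.residueField x)).symm

theorem residueDegree_eq_one_of_surjectiveOnStalks (f : X ⟶ Y) [SurjectiveOnStalks f] (x : X) :
    f.residueDegree x = 1 := by
  unfold Scheme.Hom.residueDegree
  letI a2 : Algebra (Y.residueField (f x)) (X.residueField x) := (f.residueFieldMap x).hom.toAlgebra
  have hbij : Function.Bijective (algebraMap (Y.residueField (f x)) (X.residueField x)) := by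
    refine ⟨(f.residueFieldMap x).hom.injective, ?_⟩
    intro z
    obtain ⟨a, rfl⟩ := X.residue_surjective x z
    obtain ⟨b, rfl⟩ := f.stalkMap_surjective x a
    refine ⟨(Y.residue (f x)).hom b, ?_⟩
    have := congrArg (fun φ => φ.hom b) (Scheme.residue_residueFieldMap f x)
    exact this
  have e : (Y.residueField (f x)) ≃ₗ[Y.residueField (f x)] (X.residueField x) :=
    LinearEquiv.ofBijective (Algebra.linearMap _ _) hbij
  rw [← e.finrank_eq, Module.finrank_self]

theorem residueDegree_fiber (p : X ⟶ Y) (y : Y) (z : p.fiber y) :
    (p.fiberToSpecResidueField y).residueDegree z = p.residueDegree (p.fiberι y z) := by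
  have h1 : (p.fiberι y ≫ p).residueDegree z =
      (p.fiberToSpecResidueField y ≫ Y.fromSpecResidueField y).residueDegree z := by
    rw [p.fiber_fac y]
  rw [residueDegree_comp, residueDegree_comp,
    residueDegree_eq_one_of_surjectiveOnStalks (p.fiberι y),
    residueDegree_eq_one_of_surjectiveOnStalks (Y.fromSpecResidueField y), mul_one, one_mul] at h1
  exact h1.symm

end ResDeg

section Ord

variable {X Y : Scheme.{u}} [IsIntegral X] [IsIntegral Y] (p : X ⟶ Y) (y : Y)
  (hy : y = genericPoint Y) [IsIntegral (p.fiber y)]
  (hηF : p.fiberι y (genericPoint (p.fiber y)) = genericPoint X)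

theorem bijective_stalkSpecializes_of_eq {a b : X} (h : a = b) :
    Function.Bijective (X.presheaf.stalkSpecializes (specializes_of_eq h)).hom := by
  subst h
  rw [TopCat.Presheaf.stalkSpecializes_refl]
  exact Function.bijective_id

theorem bijective_residue_genericPoint :
    Function.Bijective (X.residue (genericPoint X)).hom := by
  refine ⟨?_, IsLocalRing.residue_surjective⟩
  rw [RingHom.injective_iff_ker_eq_bot]
  show RingHom.ker (IsLocalRing.residue (X.presheaf.stalk (genericPoint X))) = ⊥
  rw [IsLocalRing.ker_residue, maximalIdeal_stalk_eq_bot (genericPoint X) rfl]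

/-- `O_{X,η_X} → K(F)`, `F` the generic fibre -/
noncomputable def sigma0 :
    X.presheaf.stalk (genericPoint X) →+* (p.fiber y).functionField :=
  (X.presheaf.stalkSpecializes (specializes_of_eq hηF) ≫
    (p.fiberι y).stalkMap (genericPoint (p.fiber y))).hom

include hy in
theorem bijective_sigma0 : Function.Bijective (sigma0 p y hηF) := by
  unfold sigma0
  rw [CommRingCat.hom_comp, RingHom.coe_comp]
  exact (bijective_stalkMap_fiberι p y hy _).comp (bijective_stalkSpecializes_of_eq hηF)

/-- `κ(η_X) ≃ K(F)` -/
noncomputable def sigma : X.residueField (genericPoint X) ≃+* (p.fiber y).functionField :=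
  (RingEquiv.ofBijective (X.residue (genericPoint X)).hom bijective_residue_genericPoint).symm.trans
    (RingEquiv.ofBijective (sigma0 p y hηF) (bijective_sigma0 p y hy hηF))

theorem sigma_residue (r : X.presheaf.stalk (genericPoint X)) :
    sigma p y hy hηF ((X.residue (genericPoint X)).hom r) = sigma0 p y hηF r := by
  unfold sigma
  rw [RingEquiv.trans_apply]
  have : (RingEquiv.ofBijective (X.residue (genericPoint X)).hom
      bijective_residue_genericPoint).symm ((X.residue (genericPoint X)).hom r) = r :=
    (RingEquiv.ofBijective (X.residue (genericPoint X)).hom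
      bijective_residue_genericPoint).symm_apply_apply r
  rw [this]
  rfl

theorem sigma0_stalkSpecializes (z : p.fiber y) (h : genericPoint X ⤳ p.fiberι y z)
    (r : X.presheaf.stalk (p.fiberι y z)) :
    sigma0 p y hηF ((X.presheaf.stalkSpecializes h).hom r) =
      algebraMap ((p.fiber y).presheaf.stalk z) (p.fiber y).functionField
        (((p.fiberι y).stalkMap z).hom r) := by
  have hz : genericPoint (p.fiber y) ⤳ z := genericPoint_specializes z
  have h1 := Scheme.Hom.stalkSpecializes_stalkMap_apply (p.fiberι y) _ _ hz r
  show ((p.fiberι y).stalkMap (genericPoint (p.fiber y))).hom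
    ((X.presheaf.stalkSpecializes (specializes_of_eq hηF)).hom
      ((X.presheaf.stalkSpecializes h).hom r)) = (p.fiber y).presheaf.stalkSpecializes _ _
  rw [← h1]
  congr 1
  exact congrArg (fun φ => φ.hom r)
    (TopCat.Presheaf.stalkSpecializes_comp X.presheaf (specializes_of_eq hηF) h)

theorem ordAt_eq_ordFrac_fiber (z : p.fiber y) (h : genericPoint X ⤳ p.fiberι y z)
    (f : X.residueField (genericPoint X)) :
    Cyc.ordAt (p.fiberι y z) (genericPoint X) h f =
      CycAlg.ordFrac ((p.fiber y).presheaf.stalk z) (p.fiber y).functionField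
        (sigma p y hy hηF f) := by
  rw [← Groth.Agent.Lib.helper2.NormPush.ordFrac_stalk_eq_ordAt h
    (Groth.Agent.Lib.helper2.NormPush.ker_specMap_eq_bot h rfl)]
  letI := (Cyc.specMap (p.fiberι y z) (genericPoint X) h).toAlgebra
  let e : X.presheaf.stalk (p.fiberι y z) ≃+* (p.fiber y).presheaf.stalk z :=
    RingEquiv.ofBijective _ (bijective_stalkMap_fiberι p y hy z)
  refine Groth.Agent.Lib.helper16.CycOpen.ordFrac_ringEquiv e (sigma p y hy hηF) (fun r => ?_) f
  show sigma p y hy hηF ((X.residue (genericPoint X)).hom ((X.presheaf.stalkSpecializes h).hom r)) = _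
  rw [sigma_residue, sigma0_stalkSpecializes]
  rfl

end Ord

end Groth.Agent.Lib.helper2.GenFib
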