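import Mathlib
import Groth.Agent.Lib.Helper2.GenFib2
import Groth.Agent.Lib.Helper2.DegDiv5
import Groth.Agent.S1860

/-!
# Proper pushforward of a principal divisor vanishes when the dimension drops (helper2)

`map_divFun_eq_zero` (= S16921): `p : X ⟶ Y` proper dominant between integral schemes with
dimension functions, `δX(η_X) ≠ δY(η_Y)`: `p_*(div f) = 0`.
-/

set_option autoImplicit false
set_option linter.unusedSectionVars false

namespace Groth.Agent.Lib.helper2.GenFib

universe u

open CategoryTheory AlgebraicGeometry IsLocalRing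

variable {X Y : Scheme.{u}} [IsIntegral X] [IsIntegral Y]

open Classical in
theorem map_divFun_eq_zero (δX : X → ℤ) (δY : Y → ℤ) (hX : Cyc.IsSetup X δX)
    (hY : Cyc.IsSetup Y δY) (p : X ⟶ Y) [IsProper p] (hδ : Cyc.DeltaCompat p δX δY)
    (hdom : p (genericPoint X) = genericPoint Y)
    (hn : δX (genericPoint X) ≠ δY (genericPoint Y)) (f : X.residueField (genericPoint X))
    (hf : f ≠ 0) (α : AlgebraicCycle X ℤ) (hα : ⇑α = Cyc.divFun δX (genericPoint X) f) :
    AlgebraicCycle.map p δX δY α = 0 := by
  haveI := hX.1
  haveI := hY.1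
  obtain ⟨n, hn1, hn2⟩ := hδ (genericPoint X)
  have hn0 : n ≠ 0 := by
    rintro rfl
    apply hn
    rw [hn2, hdom]
    simp
  -- a nonzero term forces `n = 1` and `p x = p η_X`
  have hterm : ∀ x : X, α x * ((AlgebraicCycle.mapCoeff p δX δY x : ℕ) : ℤ) ≠ 0 →
      n = 1 ∧ p x = p (genericPoint X) := by
    intro x hx
    have hαx : α x ≠ 0 := left_ne_zero_of_mul hx
    have hcx : AlgebraicCycle.mapCoeff p δX δY x ≠ 0 := by
      intro h0
      apply hx
      rw [h0]
      simp
    rw [hα] at hαx
    unfold Cyc.divFun at hαx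
    by_cases hh : genericPoint X ⤳ x ∧ δX x + 1 = δX (genericPoint X)
    · have hδx : δX x = δY (p x) := by
        unfold AlgebraicCycle.mapCoeff at hcx
        by_contra hne
        rw [if_neg hne] at hcx
        exact hcx rfl
      have hsp : p (genericPoint X) ⤳ p x := hh.1.map p.continuous
      by_cases hpx : p (genericPoint X) = p x
      · refine ⟨?_, hpx.symm⟩
        have := hh.2
        rw [hδx, ← hpx, hn2] at this
        omega
      · have := (hY.2.2 _ _ hsp hpx).1
        have h2 := hh.2
        rw [hδx, hn2] at h2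
        omega
    · rw [dif_neg hh] at hαx
      exact absurd rfl hαx
  ext y'
  show ∑ᶠ x ∈ p ⁻¹' {y'}, α x * ((AlgebraicCycle.mapCoeff p δX δY x : ℕ) : ℤ) = 0
  by_cases hcase : n = 1 ∧ y' = p (genericPoint X)
  swap
  · apply finsum_mem_eq_zero_of_forall_eq_zero
    intro x hx
    by_contra hne
    obtain ⟨h1, h2⟩ := hterm x hne
    apply hcase
    refine ⟨h1, ?_⟩
    rw [← h2]
    exact (hx : p x = y').symm
  obtain ⟨hn1', rfl⟩ := hcase
  subst hn1'
  -- the generic fibre
  haveI hFint := isIntegral_fiber p hdom
  have hηF := fiberι_genericPoint p hdom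
  have htd : Groth.Agent.Lib.helper3.DimIneq.td (p.residueFieldMap (genericPoint X)).hom = 1 := by
    show (letI := (p.residueFieldMap (genericPoint X)).hom.toAlgebra
      Algebra.trdeg (Y.residueField (p (genericPoint X))) (X.residueField (genericPoint X))) = 1
    rw [hn1]
    simp
  have hdimF := dim_fiber p htd
  set F := p.fiber (p (genericPoint X)) with hF
  set ι := p.fiberι (p (genericPoint X)) with hι
  let c : F ⟶ Spec (CommRingCat.of (Y.residueField (p (genericPoint X)))) :=
    p.fiberToSpecResidueField (p (genericPoint X))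
  haveI : IsProper c := isProper_fiberToSpecResidueField p _
  set fF := sigma p (p (genericPoint X)) hdom hηF f with hfF
  have hfF0 : fF ≠ 0 := by
    rw [hfF]
    exact (map_ne_zero_iff _ (sigma p _ hdom hηF).injective).mpr hf
  have key := Groth.Agent.S1860.result (Y.residueField (p (genericPoint X))) F c hdimF fF hfF0
  rw [← key, ← p.range_fiberι (p (genericPoint X)),
    finsum_mem_range (p.fiberι (p (genericPoint X))).isEmbedding.injective]
  refine finsum_congr (fun z => ?_)
  have hιinj : Function.Injective ι := (p.fiberι (p (genericPoint X))).isEmbedding.injective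
  have hpz : p (ι z) = p (genericPoint X) := by
    have : ι z ∈ p ⁻¹' {p (genericPoint X)} := by
      rw [← p.range_fiberι (p (genericPoint X))]
      exact ⟨z, rfl⟩
    exact this
  by_cases hz : IsClosed ({z} : Set F)
  · rw [finsum_eq_if, if_pos hz]
    have hzη : z ≠ genericPoint F :=
      Groth.Agent.Lib.helper2.DegDiv.ne_genericPoint_of_isClosed hdimF z hz
    have hxη : genericPoint X ≠ ι z := fun h => hzη (hιinj (h.symm.trans hηF.symm))
    have hsp : genericPoint X ⤳ ι z := genericPoint_specializes _
    have hlt := (hX.2.2 _ _ hsp hxη).1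
    obtain ⟨m, -, hm2⟩ := hδ (ι z)
    rw [hpz] at hm2
    have hδz : δX (ι z) = δY (p (genericPoint X)) := by omega
    have hc : AlgebraicCycle.mapCoeff p δX δY (ι z) = p.residueDegree (ι z) := by
      unfold AlgebraicCycle.mapCoeff
      rw [if_pos]
      rw [hδz, hpz]
    rw [hc, hα]
    unfold Cyc.divFun
    rw [dif_pos ⟨hsp, by rw [hδz, hn2]; simp⟩,
      ordAt_eq_ordFrac_fiber p (p (genericPoint X)) hdom hηF z hsp f,
      ← residueDegree_fiber p (p (genericPoint X)) z]
    exact mul_comm _ _
  · rw [finsum_eq_if, if_neg hz]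
    have hzη : z = genericPoint F := by
      by_contra hne
      exact hz (Groth.Agent.Lib.Helper10.CurveBr.isClosed_singleton_of_ne_genericPoint
        hdimF.le z hne)
    have hx : ι z = genericPoint X := by rw [hzη]; exact hηF
    rw [hx, hα]
    unfold Cyc.divFun
    rw [dif_neg (fun h => by have := h.2; omega), zero_mul]

end Groth.Agent.Lib.helper2.GenFib
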