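import Groth.Agent.Lib.Helper2.IM2
import Groth.Agent.Lib.Helper21.UfdExt2
import Groth.Agent.Lib.Helper17.RegNear
import Groth.Agent.Lib.Helper8.DimLt

/-!
# helper2: stalks of ideal sheaves (`IntMult.stalkIdeal`)
-/

universe u

open CategoryTheory AlgebraicGeometry

namespace Groth.Agent.Lib.helper2.IM

variable {X : Scheme.{u}}

theorem stalkIdeal_eq_map (I : X.IdealSheafData) (x : X) (U : X.affineOpens) (hx : x ∈ U.1) :
    IntMult.stalkIdeal I x = (I.ideal U).map (X.presheaf.germ U.1 x hx).hom := by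
  unfold IntMult.stalkIdeal
  apply le_antisymm
  · exact iSup₂_le fun V hV =>
      (Groth.Agent.Lib.helper21.UfdExt.map_germ_eq I V U x hV hx).le
  · exact le_iSup₂_of_le U hx le_rfl

theorem stalkIdeal_eq_ker (I : X.IdealSheafData) (y : I.subscheme) :
    IntMult.stalkIdeal I (I.subschemeι y) = RingHom.ker (I.subschemeι.stalkMap y).hom := by
  obtain ⟨_, ⟨W, hW, rfl⟩, hyW, -⟩ := X.isBasis_affineOpens.exists_subset_of_mem_open
    (Set.mem_univ (I.subschemeι y)) isOpen_univ
  rw [stalkIdeal_eq_map I _ ⟨W, hW⟩ hyW,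
    ← Groth.Agent.Lib.helper17.RegNear.ker_stalkMap_eq_map I.subschemeι y W hW hyW,
    I.ker_subschemeι_app ⟨W, hW⟩]
  rfl

theorem isPrime_stalkIdeal (I : X.IdealSheafData) [IsIntegral I.subscheme] (x : X)
    (hx : x ∈ I.support) : (IntMult.stalkIdeal I x).IsPrime := by
  rw [← SetLike.mem_coe, ← I.range_subschemeι] at hx
  obtain ⟨y, rfl⟩ := hx
  rw [stalkIdeal_eq_ker]
  exact RingHom.ker_isPrime _

end Groth.Agent.Lib.helper2.IM
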