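import Groth.Agent.Lib.Helper16.DivSum5
import Groth.Agent.Lib.Helper26.Mult1
import Groth.Agent.Lib.Helper2.IM3

/-!
# helper2: dictionary between generizations of a point `ζ` and primes of `O_{X,ζ}`:
dimension functions, the ideal of the closure of a point
-/

set_option autoImplicit false
universe u
open CategoryTheory CategoryTheory.Limits AlgebraicGeometry TopologicalSpace Opposite IsLocalRing

namespace Groth.Agent.Lib.helper2.DevSch

open Groth.Agent.Lib.helper16.OrdGen Groth.Agent.Lib.helper16.GenFib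
  Groth.Agent.Lib.helper16.DivSum

variable {X : Scheme.{u}}

theorem gen_specializes_iff (ζ : X) (P Q : PrimeSpectrum (X.presheaf.stalk ζ)) :
    X.fromSpecStalk ζ P ⤳ X.fromSpecStalk ζ Q ↔ P ≤ Q := by
  have hP := specializes_fromSpecStalk ζ P
  have hQ := specializes_fromSpecStalk ζ Q
  rw [specializes_iff_pOf_le hP hQ, pOf_fromSpecStalk ζ P hP, pOf_fromSpecStalk ζ Q hQ]
  rfl

theorem delta_lt_of_lt (δ : X → ℤ) (hδ : Cyc.IsDimFun X δ) (ζ : X)
    {P Q : PrimeSpectrum (X.presheaf.stalk ζ)} (h : P < Q) :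
    δ (X.fromSpecStalk ζ Q) < δ (X.fromSpecStalk ζ P) := by
  refine (hδ _ _ ((gen_specializes_iff ζ P Q).2 h.le) ?_).1
  intro he
  exact h.ne (fromSpecStalk_injective ζ he)

theorem delta_le_gen (δ : X → ℤ) (hδ : Cyc.IsDimFun X δ) (ζ : X)
    (P : PrimeSpectrum (X.presheaf.stalk ζ)) : δ ζ ≤ δ (X.fromSpecStalk ζ P) := by
  by_cases he : X.fromSpecStalk ζ P = ζ
  · rw [he]
  · exact (hδ _ _ (specializes_fromSpecStalk ζ P) he).1.le

theorem coheight_eq_of_delta (δ : X → ℤ) (hδ : Cyc.IsDimFun X δ) (ζ : X) :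
    ∀ (k : ℕ) (P : PrimeSpectrum (X.presheaf.stalk ζ)),
      δ (X.fromSpecStalk ζ P) = δ ζ + k → Order.coheight P = (k : ℕ∞) := by
  intro k
  induction k using Nat.strong_induction_on with
  | _ k ih =>
  intro P hP
  apply le_antisymm
  · rw [Order.coheight_le_coe_iff]
    intro Q hQ
    have h1 := delta_lt_of_lt δ hδ ζ hQ
    have h2 := delta_le_gen δ hδ ζ Q
    obtain ⟨j, hj⟩ : ∃ j : ℕ, δ (X.fromSpecStalk ζ Q) = δ ζ + j :=
      ⟨(δ (X.fromSpecStalk ζ Q) - δ ζ).toNat, by omega⟩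
    have hjk : j < k := by omega
    rw [ih j hjk Q hj]
    exact_mod_cast hjk
  · cases k with
    | zero => simp
    | succ k' =>
      -- `P` is not maximal
      have hne : X.fromSpecStalk ζ P ≠ ζ := by
        intro he
        rw [he] at hP
        push_cast at hP
        omega
      have hPlt : P < closedPoint (X.presheaf.stalk ζ) := by
        refine lt_of_le_of_ne (IsLocalRing.le_maximalIdeal P.2.ne_top) ?_
        intro he
        apply hne
        rw [he]
        exact Scheme.fromSpecStalk_closedPoint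
      obtain ⟨ub, ⟨Q₀, hQ₀, rfl⟩, hub⟩ := Int.exists_greatest_of_bdd
        (P := fun z => ∃ Q : PrimeSpectrum (X.presheaf.stalk ζ), P < Q ∧
          δ (X.fromSpecStalk ζ Q) = z)
        ⟨δ (X.fromSpecStalk ζ P), fun z ⟨Q, hQ, hz⟩ => by
          rw [← hz]
          exact (delta_lt_of_lt δ hδ ζ hQ).le⟩
        ⟨_, _, hPlt, rfl⟩
      have himm : ∀ z : X, X.fromSpecStalk ζ P ⤳ z → z ⤳ X.fromSpecStalk ζ Q₀ →
          z = X.fromSpecStalk ζ P ∨ z = X.fromSpecStalk ζ Q₀ := by
        intro z hz1 hz2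
        have hz : z ⤳ ζ := hz2.trans (specializes_fromSpecStalk ζ Q₀)
        set Q' : PrimeSpectrum (X.presheaf.stalk ζ) := ⟨pOf hz, inferInstance⟩ with hQ'
        have hgen : X.fromSpecStalk ζ Q' = z := fromSpecStalk_pOf hz
        rw [← hgen] at hz1 hz2 ⊢
        have hPQ' : P ≤ Q' := (gen_specializes_iff ζ P Q').1 hz1
        have hQ'Q₀ : Q' ≤ Q₀ := (gen_specializes_iff ζ Q' Q₀).1 hz2
        by_cases he : Q' = P
        · left
          rw [he]
        · right
          have hlt : P < Q' := lt_of_le_of_ne hPQ' (Ne.symm he)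
          have hle := hub _ ⟨Q', hlt, rfl⟩
          by_contra hne'
          have hlt2 : Q' < Q₀ := lt_of_le_of_ne hQ'Q₀ (fun h => hne' (by rw [h]))
          have := delta_lt_of_lt δ hδ ζ hlt2
          omega
      have hne2 : X.fromSpecStalk ζ P ≠ X.fromSpecStalk ζ Q₀ :=
        fun he => hQ₀.ne (fromSpecStalk_injective ζ he)
      have hstep := (hδ _ _ ((gen_specializes_iff ζ P Q₀).2 hQ₀.le) hne2).2 himm
      have hQk : δ (X.fromSpecStalk ζ Q₀) = δ ζ + k' := by
        push_cast at hP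
        omega
      have h3 := ih k' (Nat.lt_succ_self k') Q₀ hQk
      have h4 := Order.coheight_add_one_le hQ₀
      rw [h3] at h4
      exact_mod_cast h4

/-- For a dimension function `δ` and `ξ ⤳ ζ`: `δ ξ = δ ζ + dim O_ζ/𝔭_ξ`. -/
theorem delta_eq_add_dim (δ : X → ℤ) (hδ : Cyc.IsDimFun X δ) {ξ ζ : X} (h : ξ ⤳ ζ) :
    ∃ k : ℕ, δ ξ = δ ζ + k ∧
      ringKrullDim (X.presheaf.stalk ζ ⧸ pOf h) = (k : WithBot ℕ∞) := by
  set P : PrimeSpectrum (X.presheaf.stalk ζ) := ⟨pOf h, inferInstance⟩ with hP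
  have hgen : X.fromSpecStalk ζ P = ξ := fromSpecStalk_pOf h
  have hle := delta_le_gen δ hδ ζ P
  rw [hgen] at hle
  refine ⟨(δ ξ - δ ζ).toNat, by omega, ?_⟩
  have := coheight_eq_of_delta δ hδ ζ (δ ξ - δ ζ).toNat P (by rw [hgen]; omega)
  rw [Groth.Agent.Lib.helper26.HS.ringKrullDim_quotient_eq_coheight P, this]
  rfl

end Groth.Agent.Lib.helper2.DevSch
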