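import Groth.Agent.Lib.Helper2.NormPush3
import Groth.Agent.Lib.Helper2.DevSch1

/-!
# Proper pushforward of a principal divisor is the divisor of the norm (helper2)

`map_divFun_eq_divFun_norm`: for `p : X ⟶ Y` proper dominant between integral schemes with
dimension functions, `δX(η_X) = δY(η_Y)`: `p_*(div f) = div(N f)`.
-/

set_option autoImplicit false
universe u
open CategoryTheory CategoryTheory.Limits AlgebraicGeometry TopologicalSpace Opposite

namespace Groth.Agent.Lib.helper2.NormPush

open Groth.Agent.Lib.helper16.SecOrd Groth.Agent.Lib.helper16.CycOpen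
  Groth.Agent.Lib.helper16.OrdGen Groth.Agent.Lib.helper2.NormOrd

variable {X Y : Scheme.{u}} [IsIntegral X] [IsIntegral Y]

theorem delta_eq_of_mem_fibre (δX : X → ℤ) (δY : Y → ℤ) (hX : Cyc.IsDimFun X δX) (p : X ⟶ Y)
    (hδ : Cyc.DeltaCompat p δX δY) (hdom : p (genericPoint X) = genericPoint Y)
    (hn : δX (genericPoint X) = δY (genericPoint Y)) (y : Y)
    (hy : δY y + 1 = δY (genericPoint Y)) (x : X) (hx : p x = y) : δX x = δY y := by
  obtain ⟨n, -, hn'⟩ := hδ x
  rw [hx] at hn'
  have hne : genericPoint X ≠ x := by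
    intro h
    rw [← h, hdom] at hx
    rw [← hx] at hy
    omega
  have h1 := (hX (genericPoint X) x (genericPoint_specializes x) hne).1
  omega

theorem ringKrullDim_stalk_eq_one [IsLocallyNoetherian Y] (δY : Y → ℤ) (hY : Cyc.IsDimFun Y δY)
    (y ξ : Y) (hξ : ξ = genericPoint Y) (h : ξ ⤳ y) (hy : δY y + 1 = δY ξ) :
    ringKrullDim (Y.presheaf.stalk y) = 1 := by
  obtain ⟨k, hk1, hk2⟩ := Groth.Agent.Lib.helper2.DevSch.delta_eq_add_dim δY hY h
  have hk : k = 1 := by omega
  subst hk
  rw [ringKrullDim_eq_of_ringEquiv (locQuotEquivOfKer h (ker_specMap_eq_bot h hξ))]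
  exact hk2

open Classical in
theorem map_divFun_eq_divFun_norm (δX : X → ℤ) (δY : Y → ℤ) (hX : Cyc.IsSetup X δX)
    (hY : Cyc.IsSetup Y δY) (p : X ⟶ Y) [IsProper p] (hδ : Cyc.DeltaCompat p δX δY)
    (hdom : p (genericPoint X) = genericPoint Y)
    (hn : δX (genericPoint X) = δY (genericPoint Y)) (f : X.residueField (genericPoint X))
    (hf : f ≠ 0) (α : AlgebraicCycle X ℤ) (hα : ⇑α = Cyc.divFun δX (genericPoint X) f) :
    ⇑(AlgebraicCycle.map p δX δY α) =
      Cyc.divFun δY (p (genericPoint X)) (Cyc.normGen p (genericPoint X) f) := by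
  haveI := hX.1
  haveI := hY.1
  funext y
  show ∑ᶠ x ∈ p ⁻¹' {y}, α x * ((AlgebraicCycle.mapCoeff p δX δY x : ℕ) : ℤ) = _
  have hspec : p (genericPoint X) ⤳ y := hdom ▸ genericPoint_specializes y
  by_cases hy : δY y + 1 = δY (p (genericPoint X))
  · have hy' : δY y + 1 = δY (genericPoint Y) := by rw [← hdom]; exact hy
    have hδx : ∀ x, p x = y → δX x = δY y := fun x hx =>
      delta_eq_of_mem_fibre δX δY hX.2.2 p hδ hdom hn y hy' x hx
    have hfin : (p ⁻¹' {y}).Finite := by
      apply finite_preimage_singleton_of_specializes_eq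
      intro a b ha hb hab
      by_contra hne
      have := (hX.2.2 a b hab hne).1
      rw [hδx a ha, hδx b hb] at this
      exact lt_irrefl _ this
    obtain ⟨W, hW, hyW, hU, hfinite⟩ := exists_affine_finite_of_finite_preimage p y hfin
    have hdim := ringKrullDim_stalk_eq_one δY hY.2.2 y _ hdom hspec hy
    have key := sum_ordAt_mul_residueDegree_eq p hdom y hfin W hW hyW hU hfinite hdim hspec f hf
    unfold Cyc.divFun
    rw [dif_pos ⟨hspec, hy⟩, ← key]
    refine finsum_mem_congr rfl fun x hx => ?_
    have hx' : p x = y := hx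
    have hc : AlgebraicCycle.mapCoeff p δX δY x = p.residueDegree x := by
      unfold AlgebraicCycle.mapCoeff
      rw [if_pos]
      rw [hδx x hx']
      exact congrArg δY hx'.symm
    rw [hc, hα]
    unfold Cyc.divFun
    rw [dif_pos ⟨genericPoint_specializes x, by rw [hδx x hx', hn]; exact hy'⟩]
  · unfold Cyc.divFun
    rw [dif_neg (fun h => hy h.2)]
    apply finsum_mem_eq_zero_of_forall_eq_zero
    intro x hx
    have hx' : p x = y := hx
    by_cases hαx : α x = 0
    · rw [hαx, zero_mul]
    · have hc : AlgebraicCycle.mapCoeff p δX δY x = 0 := by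
        unfold AlgebraicCycle.mapCoeff
        rw [if_neg]
        intro hxe
        apply hy
        rw [hα] at hαx
        unfold Cyc.divFun at hαx
        by_cases hh : genericPoint X ⤳ x ∧ δX x + 1 = δX (genericPoint X)
        · have h2 := hh.2
          have hxe' : δX x = δY (p x) := hxe
          rw [hx'] at hxe'
          rw [hdom]
          omega
        · rw [dif_neg hh] at hαx
          exact absurd rfl hαx
      rw [hc]
      simp

end Groth.Agent.Lib.helper2.NormPush
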