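import Mathlib
import Groth.Agent.Lib.Helper12.Chow1

/-!
# The integral closed subscheme with a given generic point (helper2)

For a point `ξ` of a scheme `X`: `Wc ξ` is the scheme-theoretic image of `Spec κ(ξ) ⟶ X`, an
integral closed subscheme `jc ξ : Wc ξ ⟶ X` with `range = closure {ξ}` and generic point over `ξ`.
For `p : X ⟶ Y`, `qc p ξ : Wc ξ ⟶ Wc (p ξ)` is the induced morphism.
-/

set_option autoImplicit false
set_option linter.unusedSectionVars false

namespace Groth.Agent.Lib.helper2.PushPt

universe u

open CategoryTheory AlgebraicGeometry TopologicalSpace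

/-- The scheme-theoretic image of a quasi-compact morphism from an integral scheme is
integral. (copied from helper9 `SectionExtend`) -/
theorem isIntegral_image_of_quasiCompact {T P : Scheme.{u}} [IsIntegral T] (g : T ⟶ P)
    [QuasiCompact g] : IsIntegral g.image := by
  have hirr : IrreducibleSpace g.image := by
    have h1 : IsIrreducible (Set.range g.toImage) := by
      rw [← Set.image_univ]
      exact (IrreducibleSpace.isIrreducible_univ T).image _ g.toImage.continuous.continuousOn
    have h2 := h1.closure
    rw [g.toImage.denseRange.closure_range] at h2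
    exact (irreducibleSpace_def _).mpr h2
  have hred : IsReduced g.image := by
    have hcov : IsOpenCover (fun U : P.affineOpens => g.imageι ⁻¹ᵁ U.1) := by
      have := (iSup_affineOpens_eq_top P)
      rw [IsOpenCover, ← Scheme.Hom.preimage_iSup, this]
      rfl
    let 𝒰 := g.image.openCoverOfIsOpenCover _ hcov
    have : ∀ i, IsReduced (𝒰.X i) := by
      intro U
      have haff : IsAffineOpen (g.imageι ⁻¹ᵁ U.1) := U.2.preimage g.imageι
      have h1 : IsAffine (𝒰.X U) := haff
      have h2 : _root_.IsReduced Γ(g.image, g.imageι ⁻¹ᵁ U.1) :=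
        isReduced_of_injective (g.toImage.app (g.imageι ⁻¹ᵁ U.1)).hom (g.toImage_app_injective U)
      have h3 : _root_.IsReduced Γ(𝒰.X U, ⊤) :=
        isReduced_of_injective (Scheme.Opens.topIso (g.imageι ⁻¹ᵁ U.1)).hom.hom
          ((ConcreteCategory.bijective_of_isIso (Scheme.Opens.topIso (g.imageι ⁻¹ᵁ U.1)).hom).1)
      exact isReduced_of_isAffine_isReduced _
    exact IsReduced.of_openCover _ 𝒰
  exact isIntegral_of_irreducibleSpace_of_isReduced _

variable {X Y : Scheme.{u}}

instance quasiCompact_fromSpecResidueField (ξ : X) : QuasiCompact (X.fromSpecResidueField ξ) := by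
  constructor
  intro U _ _
  haveI : Subsingleton (Spec (X.residueField ξ)) :=
    inferInstanceAs (Subsingleton (PrimeSpectrum (X.residueField ξ)))
  exact (Set.subsingleton_of_subsingleton).isCompact

/-- the integral closed subscheme with generic point `ξ` -/
noncomputable abbrev Wc (ξ : X) : Scheme.{u} := (X.fromSpecResidueField ξ).image

/-- the closed immersion `closure {ξ} ⟶ X` -/
noncomputable abbrev jc (ξ : X) : Wc ξ ⟶ X := (X.fromSpecResidueField ξ).imageι

instance isIntegral_Wc (ξ : X) : IsIntegral (Wc ξ) :=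
  isIntegral_image_of_quasiCompact _

theorem range_jc (ξ : X) : Set.range (jc ξ) = closure {ξ} := by
  rw [Scheme.IdealSheafData.range_subschemeι, Scheme.Hom.support_ker,
    Scheme.range_fromSpecResidueField]

theorem jc_genericPoint (ξ : X) : jc ξ (genericPoint (Wc ξ)) = ξ := by
  set g := X.fromSpecResidueField ξ with hg
  let pt : Spec (X.residueField ξ) := IsLocalRing.closedPoint (X.residueField ξ)
  have h1 : jc ξ (g.toImage pt) = ξ := by
    rw [← Scheme.Hom.comp_apply, g.toImage_imageι]
    exact Scheme.fromSpecResidueField_apply ξ pt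
  have h2 : g.toImage pt = genericPoint (Wc ξ) := by
    symm
    apply (genericPoint_spec (Wc ξ)).eq
    rw [isGenericPoint_def]
    have hr : Set.range g.toImage = {g.toImage pt} := by
      ext w
      constructor
      · rintro ⟨a, rfl⟩
        haveI : Subsingleton (Spec (X.residueField ξ)) :=
          inferInstanceAs (Subsingleton (PrimeSpectrum (X.residueField ξ)))
        rw [Subsingleton.elim a pt]
        rfl
      · rintro rfl
        exact ⟨pt, rfl⟩
    rw [← hr]
    exact g.toImage.denseRange.closure_range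
  rw [← h2, h1]

section q

variable (p : X ⟶ Y) (ξ : X)

theorem ker_jc_le : (jc (p ξ)).ker ≤ (jc ξ ≫ p).ker := by
  have h1 : (jc (p ξ)).ker = (Y.fromSpecResidueField (p ξ)).ker :=
    Scheme.IdealSheafData.ker_subschemeι _
  have h2 : (jc ξ ≫ p).ker = (X.fromSpecResidueField ξ ≫ p).ker := by
    have : X.fromSpecResidueField ξ ≫ p =
        (X.fromSpecResidueField ξ).toImage ≫ (jc ξ ≫ p) := by
      rw [← Category.assoc, (X.fromSpecResidueField ξ).toImage_imageι]
    rw [this, Scheme.Hom.ker_comp (X.fromSpecResidueField ξ).toImage,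
      Groth.Agent.Lib.helper12.Chow1.ker_toImage, Scheme.IdealSheafData.map_bot]
  rw [h1, h2, ← Scheme.Hom.SpecMap_residueFieldMap_fromSpecResidueField]
  exact Scheme.Hom.le_ker_comp _ _

/-- the morphism `closure {ξ} ⟶ closure {p ξ}` induced by `p` -/
noncomputable def qc : Wc ξ ⟶ Wc (p ξ) :=
  IsClosedImmersion.lift (jc (p ξ)) (jc ξ ≫ p) (ker_jc_le p ξ)

@[reassoc]
theorem qc_jc : qc p ξ ≫ jc (p ξ) = jc ξ ≫ p := IsClosedImmersion.lift_fac _ _ _

theorem jc_qc_apply (w : Wc ξ) : jc (p ξ) (qc p ξ w) = p (jc ξ w) := by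
  rw [← Scheme.Hom.comp_apply, qc_jc, Scheme.Hom.comp_apply]

instance isProper_qc [IsProper p] : IsProper (qc p ξ) := by
  haveI : IsProper (qc p ξ ≫ jc (p ξ)) := by
    rw [qc_jc]
    infer_instance
  exact IsProper.of_comp (qc p ξ) (jc (p ξ))

theorem qc_genericPoint : qc p ξ (genericPoint (Wc ξ)) = genericPoint (Wc (p ξ)) := by
  apply (jc (p ξ)).isClosedEmbedding.injective
  rw [jc_qc_apply, jc_genericPoint, jc_genericPoint]

end q

end Groth.Agent.Lib.helper2.PushPt
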