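import Mathlib
import Groth.Agent.Lib.Helper2.PushPt1
import Groth.Agent.Lib.Helper2.NormPush4
import Groth.Agent.Lib.Helper2.GenFib3
import Groth.Agent.Lib.Helper16.CycClosed4
import Groth.Agent.Lib.Helper3.EquidimIrr

/-!
# Proper pushforward of a principal divisor of a point (helper2)

`push_divFun`: for `p : X ⟶ Y` proper (with dimension functions), `ξ : X`, `f ∈ κ(ξ)^*`:
`p_*(div_ξ f) = div_{p ξ} g` for some `g ∈ κ(p ξ)^*` if `δX ξ = δY (p ξ)`, and `0` otherwise.
-/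

set_option autoImplicit false
set_option linter.unusedSectionVars false

namespace Groth.Agent.Lib.helper2.PushPt

universe u

open CategoryTheory AlgebraicGeometry TopologicalSpace
open Groth.Agent.Lib.helper16.CycClosed

variable {X Y : Scheme.{u}}

theorem normGen_ne_zero (f : X ⟶ Y) (x : X) (g : X.residueField x) (hg : g ≠ 0) :
    Cyc.normGen f x g ≠ 0 := by
  unfold Cyc.normGen
  letI := (f.residueFieldMap x).hom.toAlgebra
  by_cases hfin : Module.Finite (Y.residueField (f x)) (X.residueField x)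
  · exact Algebra.norm_ne_zero_iff.2 hg
  · rw [Algebra.norm_eq_one_of_not_module_finite hfin]
    exact one_ne_zero

section closed

variable {Z : Scheme.{u}} (ι : Z ⟶ X) [IsClosedImmersion ι]

theorem exists_divFun_up (δ : X → ℤ) (ζ : Z) (x₀ : X) (h : ι ζ = x₀)
    (g' : Z.residueField ζ) (hg' : g' ≠ 0) :
    ∃ g : X.residueField x₀, g ≠ 0 ∧
      (∀ z, Cyc.divFun δ x₀ g (ι z) = Cyc.divFun (fun v => δ (ι v)) ζ g' z) ∧
      ∀ x, x ∉ Set.range ι → Cyc.divFun δ x₀ g x = 0 := by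
  subst h
  refine ⟨(resEquiv ι ζ).symm g', ?_, ?_, ?_⟩
  · exact (map_ne_zero_iff _ (resEquiv ι ζ).symm.injective).2 hg'
  · intro z
    rw [divFun_closedImmersion ι δ z ζ]
    congr 1
    exact (resEquiv ι ζ).apply_symm_apply g'
  · intro x hx
    exact divFun_eq_zero_of_notMem_range ι δ ζ _ x hx

theorem exists_divFun_down (δ : X → ℤ) (ζ : Z) (x₀ : X) (h : ι ζ = x₀)
    (f : X.residueField x₀) (hf : f ≠ 0) :
    ∃ f' : Z.residueField ζ, f' ≠ 0 ∧
      (∀ z, Cyc.divFun δ x₀ f (ι z) = Cyc.divFun (fun v => δ (ι v)) ζ f' z) ∧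
      ∀ x, x ∉ Set.range ι → Cyc.divFun δ x₀ f x = 0 := by
  subst h
  refine ⟨ι.residueFieldMap ζ f, ?_, ?_, ?_⟩
  · exact (map_ne_zero_iff _ (ι.residueFieldMap ζ).hom.injective).2 hf
  · intro z
    exact divFun_closedImmersion ι δ z ζ f
  · intro x hx
    exact divFun_eq_zero_of_notMem_range ι δ ζ _ x hx

end closed

section square

variable {W W' : Scheme.{u}} (j : W ⟶ X) (j' : W' ⟶ Y) [IsClosedImmersion j]
  [IsClosedImmersion j'] (q : W ⟶ W') (p : X ⟶ Y) (hfac : q ≫ j' = j ≫ p)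

include hfac

theorem square_apply (w : W) : j' (q w) = p (j w) := by
  rw [← Scheme.Hom.comp_apply, hfac, Scheme.Hom.comp_apply]

theorem finsum_mem_preimage_square (F : X → ℤ) (hF : ∀ x, x ∉ Set.range j → F x = 0) (w' : W') :
    ∑ᶠ x ∈ p ⁻¹' {j' w'}, F x = ∑ᶠ w ∈ q ⁻¹' {w'}, F (j w) := by
  have hinj : Function.Injective j := j.isClosedEmbedding.injective
  have hinj' : Function.Injective j' := j'.isClosedEmbedding.injective
  rw [← finsum_mem_image (g := j) hinj.injOn]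
  apply finsum_mem_inter_support_eq
  ext x
  simp only [Set.mem_inter_iff, Set.mem_preimage, Set.mem_singleton_iff, Function.mem_support,
    Set.mem_image]
  constructor
  · rintro ⟨h1, h2⟩
    have hx : x ∈ Set.range j := by
      by_contra hx
      exact h2 (hF x hx)
    obtain ⟨w, rfl⟩ := hx
    refine ⟨⟨w, ?_, rfl⟩, h2⟩
    apply hinj'
    rw [square_apply j j' q p hfac, h1]
  · rintro ⟨⟨w, hw, rfl⟩, h2⟩
    refine ⟨?_, h2⟩
    rw [← square_apply j j' q p hfac, hw]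

theorem finsum_mem_preimage_square_of_notMem (F : X → ℤ) (hF : ∀ x, x ∉ Set.range j → F x = 0)
    (y : Y) (hy : y ∉ Set.range j') :
    ∑ᶠ x ∈ p ⁻¹' {y}, F x = 0 := by
  apply finsum_mem_eq_zero_of_forall_eq_zero
  intro x hx
  apply hF
  rintro ⟨w, rfl⟩
  apply hy
  refine ⟨q w, ?_⟩
  rw [square_apply j j' q p hfac]
  exact hx

open Groth.Agent.Lib.helper3.DimIneq Groth.Agent.Lib.helper3.FibreField
  Groth.Agent.Lib.helper3.EquidimIrr in
theorem td_square (w : W) :
    td (q.residueFieldMap w).hom = td (p.residueFieldMap (j w)).hom := by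
  have h1 : td ((q ≫ j').residueFieldMap w).hom = td (q.residueFieldMap w).hom := by
    rw [Scheme.residueFieldMap_comp]
    change td ((q.residueFieldMap w).hom.comp (j'.residueFieldMap (q w)).hom) = _
    exact td_comp_left _ _ (residueFieldMap_surjective _ _)
  rw [← h1, hfac]
  exact td_comp_of_surjectiveOnStalks j p w

theorem deltaCompat_square (δX : X → ℤ) (δY : Y → ℤ) (hδ : Cyc.DeltaCompat p δX δY) :
    Cyc.DeltaCompat q (fun w => δX (j w)) (fun w' => δY (j' w')) := by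
  intro w
  obtain ⟨n, hn1, hn2⟩ := hδ (j w)
  refine ⟨n, ?_, ?_⟩
  · have := td_square j j' q p hfac w
    exact this.trans hn1
  · show δX (j w) = δY (j' (q w)) + n
    rw [square_apply j j' q p hfac]
    exact hn2

open Classical in
theorem mapCoeff_square (δX : X → ℤ) (δY : Y → ℤ) (w : W) :
    AlgebraicCycle.mapCoeff q (fun w => δX (j w)) (fun w' => δY (j' w')) w =
      AlgebraicCycle.mapCoeff p δX δY (j w) := by
  unfold AlgebraicCycle.mapCoeff
  have h1 : j' (q w) = p (j w) := square_apply j j' q p hfac w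
  have h2 : q.residueDegree w = p.residueDegree (j w) := by
    have h3 : (q ≫ j').residueDegree w = (j ≫ p).residueDegree w := by rw [hfac]
    rw [GenFib.residueDegree_comp, GenFib.residueDegree_comp,
      GenFib.residueDegree_eq_one_of_surjectiveOnStalks j',
      GenFib.residueDegree_eq_one_of_surjectiveOnStalks j, one_mul, mul_one] at h3
    exact h3
  show (if δX (j w) = δY (j' (q w)) then q.residueDegree w else 0) = _
  rw [h1, h2]

end square

section main

open Classical in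
theorem push_divFun (δX : X → ℤ) (δY : Y → ℤ) (hX : Cyc.IsSetup X δX) (hY : Cyc.IsSetup Y δY)
    (p : X ⟶ Y) [IsProper p] (hδ : Cyc.DeltaCompat p δX δY) (ξ : X) (f : X.residueField ξ)
    (hf : f ≠ 0) :
    ∃ g : Y.residueField (p ξ), g ≠ 0 ∧ ∀ y : Y,
      ∑ᶠ x ∈ p ⁻¹' {y}, Cyc.divFun δX ξ f x * ((AlgebraicCycle.mapCoeff p δX δY x : ℕ) : ℤ) =
        if δX ξ = δY (p ξ) then Cyc.divFun δY (p ξ) g y else 0 := by
  haveI := hX.1
  haveI := hY.1
  have hW : Cyc.IsSetup (Wc ξ) (fun w => δX (jc ξ w)) := isSetup_closedImmersion (jc ξ) δX hX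
  have hW' : Cyc.IsSetup (Wc (p ξ)) (fun w => δY (jc (p ξ) w)) :=
    isSetup_closedImmersion (jc (p ξ)) δY hY
  haveI := hW.1
  haveI := hW'.1
  have hfac := qc_jc p ξ
  have hδq := deltaCompat_square (jc ξ) (jc (p ξ)) (qc p ξ) p hfac δX δY hδ
  obtain ⟨fW, hfW0, hfW1, hfW2⟩ := exists_divFun_down (jc ξ) δX (genericPoint (Wc ξ)) ξ
    (jc_genericPoint ξ) f hf
  have hdom := qc_genericPoint p ξ
  -- the cycle on `W`
  obtain ⟨αW, hαW, -, -⟩ := exists_cycle_of_family (X := Wc ξ) (fun w => δX (jc ξ w)) hW.2.2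
    (δX ξ - 1) (J := PUnit.{u+1}) (fun _ => genericPoint (Wc ξ)) (fun _ => fW)
    (fun _ => by
      show δX (jc ξ (genericPoint (Wc ξ))) = δX ξ - 1 + 1
      rw [jc_genericPoint]; ring) (fun _ => hfW0)
    (fun x => ⟨Set.univ, isOpen_univ, trivial, Set.toFinite _⟩)
  have hαW' : ⇑αW = Cyc.divFun (fun w => δX (jc ξ w)) (genericPoint (Wc ξ)) fW := by
    funext w
    rw [hαW w, finsum_unique]
  -- the sum over a fibre of `p` as a value of the pushforward along `q`
  have hF : ∀ x, x ∉ Set.range (jc ξ) →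
      Cyc.divFun δX ξ f x * ((AlgebraicCycle.mapCoeff p δX δY x : ℕ) : ℤ) = 0 := by
    intro x hx
    rw [hfW2 x hx, zero_mul]
  have hsum : ∀ w' : Wc (p ξ),
      ∑ᶠ x ∈ p ⁻¹' {jc (p ξ) w'},
        Cyc.divFun δX ξ f x * ((AlgebraicCycle.mapCoeff p δX δY x : ℕ) : ℤ) =
      AlgebraicCycle.map (qc p ξ) (fun w => δX (jc ξ w)) (fun w' => δY (jc (p ξ) w')) αW w' := by
    intro w'
    rw [finsum_mem_preimage_square (jc ξ) (jc (p ξ)) (qc p ξ) p hfac _ hF w']
    show _ = ∑ᶠ w ∈ (qc p ξ) ⁻¹' {w'}, αW w * ((AlgebraicCycle.mapCoeff (qc p ξ)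
      (fun w => δX (jc ξ w)) (fun w' => δY (jc (p ξ) w')) w : ℕ) : ℤ)
    apply finsum_mem_congr rfl
    intro w _
    rw [mapCoeff_square (jc ξ) (jc (p ξ)) (qc p ξ) p hfac δX δY w, hαW', hfW1 w]
  have hsum0 : ∀ y, y ∉ Set.range (jc (p ξ)) →
      ∑ᶠ x ∈ p ⁻¹' {y},
        Cyc.divFun δX ξ f x * ((AlgebraicCycle.mapCoeff p δX δY x : ℕ) : ℤ) = 0 := fun y hy =>
    finsum_mem_preimage_square_of_notMem (jc ξ) (jc (p ξ)) (qc p ξ) p hfac _ hF y hy
  have hgen : δX (jc ξ (genericPoint (Wc ξ))) = δX ξ := by rw [jc_genericPoint]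
  have hgen' : δY (jc (p ξ) (genericPoint (Wc (p ξ)))) = δY (p ξ) := by rw [jc_genericPoint]
  by_cases hn : δX ξ = δY (p ξ)
  · have key := NormPush.map_divFun_eq_divFun_norm (fun w => δX (jc ξ w))
      (fun w' => δY (jc (p ξ) w')) hW hW' (qc p ξ) hδq hdom (by rw [hgen, hgen', hn]) fW hfW0 αW hαW'
    obtain ⟨g, hg0, hg1, hg2⟩ := exists_divFun_up (jc (p ξ)) δY
      (qc p ξ (genericPoint (Wc ξ))) (p ξ) (by rw [hdom, jc_genericPoint])
      (Cyc.normGen (qc p ξ) (genericPoint (Wc ξ)) fW) (normGen_ne_zero _ _ _ hfW0)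
    refine ⟨g, hg0, fun y => ?_⟩
    rw [if_pos hn]
    by_cases hy : y ∈ Set.range (jc (p ξ))
    · obtain ⟨w', rfl⟩ := hy
      rw [hsum w', key, hg1 w']
    · rw [hsum0 y hy, hg2 y hy]
  · have key := GenFib.map_divFun_eq_zero (fun w => δX (jc ξ w))
      (fun w' => δY (jc (p ξ) w')) hW hW' (qc p ξ) hδq hdom (by rw [hgen, hgen']; exact hn)
      fW hfW0 αW hαW'
    refine ⟨1, one_ne_zero, fun y => ?_⟩
    rw [if_neg hn]
    by_cases hy : y ∈ Set.range (jc (p ξ))
    · obtain ⟨w', rfl⟩ := hy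
      rw [hsum w', key]
      rfl
    · exact hsum0 y hy

end main

end Groth.Agent.Lib.helper2.PushPt
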