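import Mathlib

set_option autoImplicit false

namespace Groth.Agent.Lib.helper2.PushPt

open Function

theorem finsum_mem_sub_of_finite {A : Type*} (K : Set A) (a b : A → ℤ)
    (ha : (K ∩ support a).Finite) (hb : (K ∩ support b).Finite) :
    ∑ᶠ x ∈ K, a x - ∑ᶠ x ∈ K, b x = ∑ᶠ x ∈ K, (a x - b x) := by
  set T := (K ∩ support a) ∪ (K ∩ support b) with hT
  have hTfin : T.Finite := ha.union hb
  have h1 : ∑ᶠ x ∈ K, a x = ∑ᶠ x ∈ T, a x := by
    apply finsum_mem_inter_support_eq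
    ext x
    simp only [hT, Set.mem_inter_iff, Set.mem_union, mem_support]
    tauto
  have h2 : ∑ᶠ x ∈ K, b x = ∑ᶠ x ∈ T, b x := by
    apply finsum_mem_inter_support_eq
    ext x
    simp only [hT, Set.mem_inter_iff, Set.mem_union, mem_support]
    tauto
  have h3 : ∑ᶠ x ∈ K, (a x - b x) = ∑ᶠ x ∈ T, (a x - b x) := by
    apply finsum_mem_inter_support_eq
    ext x
    simp only [hT, Set.mem_inter_iff, Set.mem_union, mem_support]
    constructor
    · rintro ⟨hK, hne⟩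
      refine ⟨?_, hne⟩
      by_contra hcon
      rw [not_or] at hcon
      apply hne
      have h1 : a x = 0 := by
        by_contra h; exact hcon.1 ⟨hK, h⟩
      have h2 : b x = 0 := by
        by_contra h; exact hcon.2 ⟨hK, h⟩
      rw [h1, h2, sub_zero]
    · rintro ⟨hT, hne⟩
      refine ⟨?_, hne⟩
      rcases hT with h | h
      · exact h.1
      · exact h.1
  rw [h1, h2, h3, finsum_mem_sub_distrib _ _ hTfin]

theorem finsum_eq_finsum_mem_of_forall {I : Type*} (G : I → ℤ) (I₀ : Set I)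
    (h : ∀ i, i ∉ I₀ → G i = 0) : ∑ᶠ i, G i = ∑ᶠ i ∈ I₀, G i := by
  rw [← finsum_mem_univ]
  apply finsum_mem_inter_support_eq
  ext i
  simp only [Set.mem_inter_iff, Set.mem_univ, true_and, mem_support]
  constructor
  · intro hne
    refine ⟨?_, hne⟩
    by_contra hi
    exact hne (h i hi)
  · exact fun h => h.2

theorem finsum_mem_finsum_comm {A I : Type*} (K : Set A) (D : I → A → ℤ) (I₀ : Set I)
    (hI₀ : I₀.Finite) (h0 : ∀ i, i ∉ I₀ → ∀ x ∈ K, D i x = 0)
    (hfin : ∀ i ∈ I₀, (K ∩ support (D i)).Finite) (c : A → ℤ) :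
    ∑ᶠ x ∈ K, (∑ᶠ i, D i x) * c x = ∑ᶠ i, ∑ᶠ x ∈ K, D i x * c x := by
  set T : Set A := ⋃ i ∈ I₀, K ∩ support (D i) with hT
  have hTfin : T.Finite := Set.Finite.biUnion hI₀ hfin
  have hTK : T ⊆ K := by
    intro x hx
    simp only [hT, Set.mem_iUnion, Set.mem_inter_iff] at hx
    obtain ⟨i, -, hx, -⟩ := hx
    exact hx
  have hmem : ∀ i ∈ I₀, ∀ x ∈ K, D i x ≠ 0 → x ∈ T := by
    intro i hi x hx hne
    simp only [hT, Set.mem_iUnion, Set.mem_inter_iff]
    exact ⟨i, hi, hx, hne⟩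
  have hinner : ∀ x ∈ K, ∑ᶠ i, D i x = ∑ᶠ i ∈ I₀, D i x := fun x hx =>
    finsum_eq_finsum_mem_of_forall _ I₀ (fun i hi => h0 i hi x hx)
  have h1 : ∑ᶠ x ∈ K, (∑ᶠ i, D i x) * c x = ∑ᶠ x ∈ T, (∑ᶠ i, D i x) * c x := by
    apply finsum_mem_inter_support_eq
    ext x
    simp only [Set.mem_inter_iff, mem_support]
    constructor
    · rintro ⟨hK, hne⟩
      refine ⟨?_, hne⟩
      have hne' : ∑ᶠ i, D i x ≠ 0 := left_ne_zero_of_mul hne
      rw [hinner x hK] at hne'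
      obtain ⟨i, hi, hi'⟩ := exists_ne_zero_of_finsum_mem_ne_zero hne'
      exact hmem i hi x hK hi'
    · exact fun h => ⟨hTK h.1, h.2⟩
  rw [h1]
  have h2 : ∀ x ∈ T, (∑ᶠ i, D i x) * c x = ∑ᶠ i ∈ I₀, D i x * c x := by
    intro x hx
    rw [hinner x (hTK hx), finsum_mem_mul]
  rw [finsum_mem_congr rfl h2, finsum_mem_comm _ hTfin hI₀]
  have h3 : ∀ i ∈ I₀, ∑ᶠ x ∈ T, D i x * c x = ∑ᶠ x ∈ K, D i x * c x := by
    intro i hi
    apply finsum_mem_inter_support_eq
    ext x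
    simp only [Set.mem_inter_iff, mem_support]
    constructor
    · exact fun h => ⟨hTK h.1, h.2⟩
    · rintro ⟨hK, hne⟩
      exact ⟨hmem i hi x hK (left_ne_zero_of_mul hne), hne⟩
  rw [finsum_mem_congr rfl h3]
  symm
  apply finsum_eq_finsum_mem_of_forall
  intro i hi
  apply finsum_mem_eq_zero_of_forall_eq_zero
  intro x hx
  rw [h0 i hi x hx, zero_mul]

theorem finsum_ite_eq_finsum_subtype {I : Type*} (P : I → Prop) [DecidablePred P] (E : I → ℤ) :
    ∑ᶠ i, (if P i then E i else 0) = ∑ᶠ j : {i // P i}, E j.1 := by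
  rw [finsum_subtype_eq_finsum_cond]
  apply finsum_congr
  intro i
  rw [finsum_eq_if]

end Groth.Agent.Lib.helper2.PushPt
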