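import Mathlib
import Groth.Agent.Lib.Helper2.PushPt2
import Groth.Agent.Lib.Helper2.PushPt3a

/-!
# Proper pushforward preserves rational equivalence (helper2)
-/

set_option autoImplicit false
set_option linter.unusedSectionVars false

namespace Groth.Agent.Lib.helper2.PushPt

universe u

open CategoryTheory AlgebraicGeometry TopologicalSpace Function
open Groth.Agent.Lib.helper16.CycClosed

variable {X Y : Scheme.{u}}

theorem finite_meets_compact {I : Type*} (ξ : I → X)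
    (hlf : ∀ x : X, ∃ U : Set X, IsOpen U ∧ x ∈ U ∧ {i | (closure {ξ i} ∩ U).Nonempty}.Finite)
    (K : Set X) (hK : IsCompact K) : {i | (closure {ξ i} ∩ K).Nonempty}.Finite := by
  choose U hUo hxU hUfin using hlf
  obtain ⟨t, ht⟩ := hK.elim_nhds_subcover U (fun x _ => (hUo x).mem_nhds (hxU x))
  refine (Set.Finite.biUnion t.finite_toSet (fun x _ => hUfin x)).subset ?_
  rintro i ⟨z, hz1, hz2⟩
  obtain ⟨x, hx, hzx⟩ := Set.mem_iUnion₂.1 (ht.2 hz2)
  exact Set.mem_biUnion hx ⟨z, hz1, hzx⟩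

theorem exists_cycle_divFun [IsLocallyNoetherian X] (δ : X → ℤ) (hδ : Cyc.IsDimFun X δ) (ξ : X)
    (f : X.residueField ξ) (hf : f ≠ 0) :
    ∃ c : AlgebraicCycle X ℤ, ⇑c = Cyc.divFun δ ξ f := by
  obtain ⟨c, hc, -, -⟩ := exists_cycle_of_family (X := X) δ hδ
    (δ ξ - 1) (J := PUnit.{u+1}) (fun _ => ξ) (fun _ => f)
    (fun _ => by ring) (fun _ => hf)
    (fun x => ⟨Set.univ, isOpen_univ, trivial, Set.toFinite _⟩)
  refine ⟨c, ?_⟩
  funext w
  rw [hc w, finsum_unique]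

theorem finite_inter_support_divFun [IsLocallyNoetherian X] (δ : X → ℤ) (hδ : Cyc.IsDimFun X δ)
    (ξ : X) (f : X.residueField ξ) (hf : f ≠ 0) (K : Set X) (hK : IsCompact K) :
    (K ∩ support (Cyc.divFun δ ξ f)).Finite := by
  obtain ⟨c, hc⟩ := exists_cycle_divFun δ hδ ξ f hf
  rw [← hc]
  exact c.locallyFiniteSupport.finite_inter_support_of_isCompact hK

open Classical in
theorem ratEquiv_map (δX : X → ℤ) (δY : Y → ℤ) (hX : Cyc.IsSetup X δX) (hY : Cyc.IsSetup Y δY)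
    (p : X ⟶ Y) [IsProper p] (hδ : Cyc.DeltaCompat p δX δY) (k : ℤ) (α β : AlgebraicCycle X ℤ)
    (h : Cyc.RatEquiv δX k α β) :
    Cyc.RatEquiv δY k (AlgebraicCycle.map p δX δY α) (AlgebraicCycle.map p δX δY β) := by
  haveI := hX.1
  haveI := hY.1
  obtain ⟨ι, ξ, f, hξ, hf, hlf, hsum⟩ := h
  choose g hg0 hg using fun i => push_divFun δX δY hX hY p hδ (ξ i) (f i) (hf i)
  refine ⟨{i : ι // δX (ξ i) = δY (p (ξ i))}, fun j => p (ξ j.1), fun j => g j.1, ?_,
    fun j => hg0 j.1, ?_, ?_⟩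
  · intro j
    rw [← j.2]
    exact hξ j.1
  · intro y
    obtain ⟨_, ⟨V, hV, rfl⟩, hyV, -⟩ :=
      Y.isBasis_affineOpens.exists_subset_of_mem_open (Set.mem_univ y) isOpen_univ
    have hKc : IsCompact (p ⁻¹' (V : Set Y)) :=
      QuasiCompact.isCompact_preimage (f := p) _ V.isOpen hV.isCompact
    have hfin := finite_meets_compact ξ hlf _ hKc
    refine ⟨V, V.isOpen, hyV, ?_⟩
    refine (hfin.preimage Subtype.val_injective.injOn).subset ?_
    rintro j ⟨y', hy1, hy2⟩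
    have hcl : closure {p (ξ j.1)} = p '' closure {ξ j.1} := by
      rw [← Set.image_singleton]
      exact p.isClosedMap.closure_image_eq_of_continuous p.continuous _
    rw [hcl] at hy1
    obtain ⟨x, hx1, rfl⟩ := hy1
    exact ⟨x, hx1, hy2⟩
  · intro y
    have hK : IsCompact (p ⁻¹' {y}) := p.isCompact_preimage_singleton y
    have hI₀ := finite_meets_compact ξ hlf _ hK
    have ha : ∀ γ : AlgebraicCycle X ℤ, ((p ⁻¹' {y}) ∩ support (fun x =>
        γ x * ((AlgebraicCycle.mapCoeff p δX δY x : ℕ) : ℤ))).Finite := by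
      intro γ
      refine (γ.locallyFiniteSupport.finite_inter_support_of_isCompact hK).subset ?_
      rintro x ⟨hx1, hx2⟩
      exact ⟨hx1, left_ne_zero_of_mul hx2⟩
    show ∑ᶠ x ∈ p ⁻¹' {y}, α x * ((AlgebraicCycle.mapCoeff p δX δY x : ℕ) : ℤ) -
      ∑ᶠ x ∈ p ⁻¹' {y}, β x * ((AlgebraicCycle.mapCoeff p δX δY x : ℕ) : ℤ) = _
    rw [finsum_mem_sub_of_finite _ _ _ (ha α) (ha β)]
    have hrew : ∀ x, α x * ((AlgebraicCycle.mapCoeff p δX δY x : ℕ) : ℤ) -
        β x * ((AlgebraicCycle.mapCoeff p δX δY x : ℕ) : ℤ) =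
        (∑ᶠ i, Cyc.divFun δX (ξ i) (f i) x) * ((AlgebraicCycle.mapCoeff p δX δY x : ℕ) : ℤ) := by
      intro x
      rw [← sub_mul, ← hsum x]
      rfl
    rw [finsum_mem_congr rfl (fun x _ => hrew x),
      finsum_mem_finsum_comm (p ⁻¹' {y}) (fun i x => Cyc.divFun δX (ξ i) (f i) x) _ hI₀ ?_ ?_]
    · refine Eq.trans ?_ (finsum_ite_eq_finsum_subtype (fun i => δX (ξ i) = δY (p (ξ i)))
        (fun i => Cyc.divFun δY (p (ξ i)) (g i) y))
      apply finsum_congr
      intro i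
      exact hg i y
    · intro i hi x hx
      by_contra hne
      apply hi
      exact ⟨x, specializes_iff_mem_closure.1 (divFun_ne_zero_specializes δX _ _ x hne).1, hx⟩
    · intro i _
      exact finite_inter_support_divFun δX hX.2.2 (ξ i) (f i) (hf i) _ hK

end Groth.Agent.Lib.helper2.PushPt
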