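import Mathlib
import Groth.Agent.Lib.Helper3.DimFormulaSch
import Groth.Agent.Lib.Helper24.ExcLoc
import Groth.Agent.S0553
import Groth.Agent.S9684

/-!
# `Cyc.IsSetup` is inherited by schemes locally of finite type (helper2)

* `uc_of_affine`: sections over an affine open of a locally Noetherian scheme with universally catenary
  local rings form a universally catenary ring.
* `uc_stalk_of_lft`: local rings of a scheme locally of finite type over such a scheme are universally
  catenary.
* `isSetup_of_lft`: `(X', δ')` is a setup if `(S, δ)` is, `X' ⟶ S` is locally of finite type and `δ'` is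
  the induced function.
-/

set_option autoImplicit false

namespace Groth.Agent.Lib.helper2.SetupLft

universe u

open CategoryTheory AlgebraicGeometry TopologicalSpace Function
open Groth.Agent.Lib.helper3.DimIneq

theorem uc_of_affine {S : Scheme.{u}} [IsLocallyNoetherian S]
    (huc : ∀ s : S, CAlg.IsUniversallyCatenary (S.presheaf.stalk s)) {V : S.Opens}
    (hV : IsAffineOpen V) : CAlg.IsUniversallyCatenary Γ(S, V) := by
  haveI : IsNoetherianRing Γ(S, V) := IsLocallyNoetherian.component_noetherian ⟨V, hV⟩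
  rw [Groth.Agent.S0553.result]
  intro m hm
  let pt : Spec Γ(S, V) := ⟨m, hm.isPrime⟩
  have hs : hV.fromSpec pt ∈ V := by
    have : hV.fromSpec pt ∈ Set.range hV.fromSpec := ⟨pt, rfl⟩
    rw [hV.range_fromSpec] at this
    exact this
  have hpt : hV.primeIdealOf ⟨hV.fromSpec pt, hs⟩ = pt := by
    apply hV.fromSpec.isOpenEmbedding.injective
    exact hV.fromSpec_primeIdealOf ⟨hV.fromSpec pt, hs⟩
  have h1 := uc_localization_of_stalk hV (hV.fromSpec pt) hs (huc _)
  exact uc_congr (congrArg PrimeSpectrum.asIdeal hpt) h1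

theorem uc_stalk_of_lft {X S : Scheme.{u}} (f : X ⟶ S) [LocallyOfFiniteType f]
    [IsLocallyNoetherian S]
    (huc : ∀ s : S, CAlg.IsUniversallyCatenary (S.presheaf.stalk s)) (x : X) :
    CAlg.IsUniversallyCatenary (X.presheaf.stalk x) := by
  obtain ⟨_, ⟨V, hV : IsAffineOpen V, rfl⟩, hfxV, -⟩ :=
    S.isBasis_affineOpens.exists_subset_of_mem_open (Set.mem_univ (f x)) isOpen_univ
  obtain ⟨_, ⟨U, hU : IsAffineOpen U, rfl⟩, hxU, hUV⟩ :=
    X.isBasis_affineOpens.exists_subset_of_mem_open (show x ∈ (f ⁻¹ᵁ V : Set X) from hfxV)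
      (f ⁻¹ᵁ V).isOpen
  have e : U ≤ f ⁻¹ᵁ V := hUV
  have hA := uc_of_affine huc hV
  have hft : (f.appLE V U e).hom.FiniteType := LocallyOfFiniteType.finiteType_appLE f hV hU e
  letI : Algebra Γ(S, V) Γ(X, U) := (f.appLE V U e).hom.toAlgebra
  haveI : Algebra.FiniteType Γ(S, V) Γ(X, U) := hft
  have hB : CAlg.IsUniversallyCatenary Γ(X, U) :=
    Groth.Agent.Lib.helper26.DimFormula.isUniversallyCatenary_of_finiteType hA
  haveI : IsNoetherianRing Γ(X, U) := hB.1
  letI : Algebra Γ(X, U) (X.presheaf.stalk x) :=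
    TopCat.Presheaf.algebra_section_stalk X.presheaf ⟨x, hxU⟩
  haveI := hU.isLocalization_stalk ⟨x, hxU⟩
  exact Groth.Agent.Lib.Helper24.ExcLoc.isUniversallyCatenary_localization Γ(X, U)
    (hU.primeIdealOf ⟨x, hxU⟩).asIdeal.primeCompl (X.presheaf.stalk x) hB

theorem isSetup_of_lft {X S : Scheme.{u}} (f : X ⟶ S) [LocallyOfFiniteType f] (δ : S → ℤ)
    (δ' : X → ℤ) (hS : Cyc.IsSetup S δ) (hc : Cyc.DeltaCompat f δ' δ) : Cyc.IsSetup X δ' := by
  haveI := hS.1
  refine ⟨LocallyOfFiniteType.isLocallyNoetherian f, fun x => uc_stalk_of_lft f hS.2.1 x, ?_⟩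
  exact Groth.Agent.S9684.result f δ hS δ' hc

end Groth.Agent.Lib.helper2.SetupLft
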