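import Mathlib
import Groth.Prelude.Def_Bivar2
import Groth.Agent.Lib.Helper2.SetupLft
import Groth.Agent.Lib.Helper2.PushPt3
import Groth.Agent.Lib.Helper3.DimIneqSch2

/-!
# Operational Chow groups: basic API (helper2)

* `deltaCompat_cancel`, `exists_deltaCompat`: induced dimension functions.
* `Sq.lft_g'`, `Sq.isSetup_Y'`, `Sq.isSetup_X'`: the schemes of a square over `f` are setups.
* `pushCH`: proper pushforward on the Chow groups `ChowOps.CH`; `cl_map_eq_of_cl_eq`.
-/

set_option autoImplicit false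

namespace Groth.Agent.Lib.helper2.BivarPush

universe u

open CategoryTheory CategoryTheory.Limits AlgebraicGeometry TopologicalSpace Function
open Groth.Agent.Lib.helper3.DimIneq

theorem deltaCompat_cancel {T S X : Scheme.{u}} (a : T ⟶ S) (b : S ⟶ X) (δT : T → ℤ) (δS : S → ℤ)
    (δX : X → ℤ) (h1 : Cyc.DeltaCompat (a ≫ b) δT δX) (h2 : Cyc.DeltaCompat b δS δX) :
    Cyc.DeltaCompat a δT δS := by
  intro t
  obtain ⟨n, hn, hδn⟩ := h1 t
  obtain ⟨m, hm, hδm⟩ := h2 (a t)
  let algST : Algebra (S.residueField (a t)) (T.residueField t) := (a.residueFieldMap t).hom.toAlgebra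
  let algXS : Algebra (X.residueField (b (a t))) (S.residueField (a t)) :=
    (b.residueFieldMap (a t)).hom.toAlgebra
  let algXT : Algebra (X.residueField (b (a t))) (T.residueField t) :=
    ((a ≫ b).residueFieldMap t).hom.toAlgebra
  have hST : IsScalarTower (X.residueField (b (a t))) (S.residueField (a t)) (T.residueField t) :=
    IsScalarTower.of_algebraMap_eq' (by
      change ((a ≫ b).residueFieldMap t).hom = (a.residueFieldMap t).hom.comp (b.residueFieldMap (a t)).hom
      rw [Scheme.residueFieldMap_comp]; rfl)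
  have hf1 : FaithfulSMul (X.residueField (b (a t))) (S.residueField (a t)) :=
    (faithfulSMul_iff_algebraMap_injective _ _).mpr (RingHom.injective _)
  have hf2 : FaithfulSMul (S.residueField (a t)) (T.residueField t) :=
    (faithfulSMul_iff_algebraMap_injective _ _).mpr (RingHom.injective _)
  have key := trdeg_add_eq (X.residueField (b (a t))) (S.residueField (a t)) (A := T.residueField t)
  have hn' : Algebra.trdeg (X.residueField (b (a t))) (T.residueField t) = n := hn
  have hm' : Algebra.trdeg (X.residueField (b (a t))) (S.residueField (a t)) = m := hm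
  rw [hn', hm'] at key
  have hlt : Algebra.trdeg (S.residueField (a t)) (T.residueField t) < Cardinal.aleph0 := by
    refine lt_of_le_of_lt ?_ (Cardinal.natCast_lt_aleph0 (n := n))
    rw [← key]
    exact le_add_self
  obtain ⟨l, hl⟩ := Cardinal.lt_aleph0.1 hlt
  refine ⟨l, hl, ?_⟩
  rw [hl] at key
  have hml : m + l = n := by exact_mod_cast key
  have e : (a ≫ b) t = b (a t) := rfl
  rw [hδn, e, hδm, ← hml]
  push_cast
  ring

theorem exists_deltaCompat {Y' Y : Scheme.{u}} (g : Y' ⟶ Y) [LocallyOfFiniteType g] (δY : Y → ℤ) :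
    ∃ δ' : Y' → ℤ, Cyc.DeltaCompat g δ' δY := by
  choose n hn using exists_nat_td_residueFieldMap g
  exact ⟨fun y => δY (g y) + n y, fun y => ⟨n y, hn y, rfl⟩⟩

section Sq

variable {X Y : Scheme.{u}} {f : X ⟶ Y} {δX : X → ℤ} {δY : Y → ℤ}

theorem Sq.lft_g' (s : Bivar.Sq f δX δY) : LocallyOfFiniteType s.g' :=
  MorphismProperty.of_isPullback (P := @LocallyOfFiniteType) s.isPullback s.lft

theorem Sq.isSetup_Y' (hY : Cyc.IsSetup Y δY) (s : Bivar.Sq f δX δY) : Cyc.IsSetup s.Y' s.δY' := by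
  haveI := s.lft
  exact SetupLft.isSetup_of_lft s.g δY s.δY' hY s.compatY

theorem Sq.isSetup_X' (hX : Cyc.IsSetup X δX) (s : Bivar.Sq f δX δY) : Cyc.IsSetup s.X' s.δX' := by
  haveI := Sq.lft_g' s
  exact SetupLft.isSetup_of_lft s.g' δX s.δX' hX s.compatX

end Sq

section pushCH

variable {T S : Scheme.{u}} (δT : T → ℤ) (δS : S → ℤ) (hT : Cyc.IsSetup T δT)
  (hS : Cyc.IsSetup S δS) (p : T ⟶ S) [IsProper p] (hδ : Cyc.DeltaCompat p δT δS) (k : ℤ)

/-- proper pushforward on `k`-cycles as a group homomorphism -/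
noncomputable def pushZk : ↥(ChowOps.zk T δT k) →+ ↥(ChowOps.zk S δS k) where
  toFun c := ⟨AlgebraicCycle.map p δT δS c.1, Bivar.cycMap_mem_Zk p δT δS k c.2⟩
  map_zero' := Subtype.ext (Bivar.cycMap_zero p δT δS)
  map_add' a b := Subtype.ext (Bivar.cycMap_add p δT δS a.1 b.1)

include hT hS hδ in
theorem ratEquivZero_map {c : AlgebraicCycle T ℤ} (hc : Cyc.RatEquivZero δT k c) :
    Cyc.RatEquivZero δS k (AlgebraicCycle.map p δT δS c) := by
  have h1 : Cyc.RatEquiv δT k c 0 := by
    show Cyc.RatEquivZero δT k (c - 0)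
    rw [sub_zero]
    exact hc
  have h2 := PushPt.ratEquiv_map δT δS hT hS p hδ k c 0 h1
  have h3 : Cyc.RatEquivZero δS k (AlgebraicCycle.map p δT δS c - AlgebraicCycle.map p δT δS 0) := h2
  rw [Bivar.cycMap_zero, sub_zero] at h3
  exact h3

include hT hS hδ in
theorem ratTriv_le_comap :
    ChowOps.ratTriv T δT k ≤ (ChowOps.ratTriv S δS k).comap (pushZk δT δS p k) := by
  unfold ChowOps.ratTriv
  rw [AddSubgroup.closure_le]
  intro a ha
  apply AddSubgroup.subset_closure
  exact ratEquivZero_map δT δS hT hS p hδ k ha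

/-- proper pushforward on Chow groups -/
noncomputable def pushCH : ChowOps.CH T δT k →+ ChowOps.CH S δS k :=
  QuotientAddGroup.map (ChowOps.ratTriv T δT k) (ChowOps.ratTriv S δS k) (pushZk δT δS p k)
    (ratTriv_le_comap δT δS hT hS p hδ k)

theorem pushCH_cl (c : AlgebraicCycle T ℤ) (hc : c ∈ Cyc.Zk T δT k) :
    pushCH δT δS hT hS p hδ k (ChowOps.cl c hc) =
      ChowOps.cl (AlgebraicCycle.map p δT δS c) (Bivar.cycMap_mem_Zk p δT δS k hc) := rfl

include hT hS hδ in
theorem cl_map_eq_of_cl_eq {c₁ c₂ : AlgebraicCycle T ℤ} (h₁ : c₁ ∈ Cyc.Zk T δT k)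
    (h₂ : c₂ ∈ Cyc.Zk T δT k) (h : ChowOps.cl c₁ h₁ = ChowOps.cl c₂ h₂) :
    ChowOps.cl (AlgebraicCycle.map p δT δS c₁) (Bivar.cycMap_mem_Zk p δT δS k h₁) =
      ChowOps.cl (AlgebraicCycle.map p δT δS c₂) (Bivar.cycMap_mem_Zk p δT δS k h₂) := by
  rw [← pushCH_cl δT δS hT hS p hδ k c₁ h₁, ← pushCH_cl δT δS hT hS p hδ k c₂ h₂, h]

end pushCH

end Groth.Agent.Lib.helper2.BivarPush
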