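import Mathlib

/-!
# Amitsur exactness in degree one (helper2)

For a faithfully flat ring map `R → C`, a degree-one Amitsur cocycle `y ∈ C ⊗ C`
(`y₂₃ - y₁₃ + y₁₂ = 0` in `C ⊗ (C ⊗ C)`) is a coboundary: `y = 1 ⊗ h - h ⊗ 1`.
-/

set_option autoImplicit false
open TensorProduct
universe u v w

namespace Groth.Agent.Lib.helper2.AmitsurOne

section monad
variable (R : Type u) [CommRing R] (A : Type u) [CommRing A] [Algebra R A]
variable (X : Type v) [AddCommGroup X] [Module R X] {Y : Type w} [AddCommGroup Y] [Module R Y]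

/-- the multiplication of the monad `T = A ⊗ -` -/
noncomputable def muT : A ⊗[R] (A ⊗[R] X) →ₗ[R] A ⊗[R] X :=
  (LinearMap.mul' R A).rTensor X ∘ₗ (TensorProduct.assoc R A A X).symm.toLinearMap

theorem muT_tmul (a b : A) (x : X) : muT R A X (a ⊗ₜ[R] (b ⊗ₜ[R] x)) = (a * b) ⊗ₜ[R] x := by
  simp only [muT, LinearMap.coe_comp, LinearEquiv.coe_coe, Function.comp_apply,
    TensorProduct.assoc_symm_tmul, LinearMap.rTensor_tmul, LinearMap.mul'_apply]

variable {X}

theorem muT_natural (f : X →ₗ[R] Y) (z : A ⊗[R] (A ⊗[R] X)) :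
    muT R A Y (((f.lTensor A).lTensor A) z) = (f.lTensor A) (muT R A X z) := by
  induction z using TensorProduct.induction_on with
  | zero => simp only [map_zero]
  | tmul a w =>
    induction w using TensorProduct.induction_on with
    | zero => simp only [TensorProduct.tmul_zero, map_zero]
    | tmul b x =>
      simp only [LinearMap.lTensor_tmul, muT_tmul]
    | add w w' hw hw' => simp only [TensorProduct.tmul_add, map_add, hw, hw']
  | add z z' hz hz' => simp only [map_add, hz, hz']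

theorem muT_unit (w : A ⊗[R] X) :
    muT R A X (((TensorProduct.mk R A X 1).lTensor A) w) = w := by
  induction w using TensorProduct.induction_on with
  | zero => simp only [map_zero]
  | tmul a x =>
    simp only [LinearMap.lTensor_tmul, TensorProduct.mk_apply, muT_tmul, mul_one]
  | add w w' hw hw' => simp only [map_add, hw, hw']

/-- the homotopy identity: on the kernel of `T(η - T d)`, `T d ∘ μ` is the identity -/
theorem homotopy (d : X →ₗ[R] A ⊗[R] X) (z : A ⊗[R] (A ⊗[R] X))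
    (hz : ((TensorProduct.mk R A (A ⊗[R] X) 1 - d.lTensor A).lTensor A) z = 0) :
    z = (d.lTensor A) (muT R A X z) := by
  have h1 := congrArg (muT R A (A ⊗[R] X)) hz
  rw [LinearMap.lTensor_sub, LinearMap.sub_apply, map_sub, muT_unit, muT_natural, map_zero,
    sub_eq_zero] at h1
  exact h1

/-- Amitsur exactness, general step: for any `R`-linear `d : X → A ⊗ X`, the kernel of
`η - A ⊗ d : A ⊗ X → A ⊗ (A ⊗ X)` is contained in the range of `d`, if `A` is faithfully flat. -/
theorem step [Module.FaithfullyFlat R A] (d : X →ₗ[R] A ⊗[R] X) (y : A ⊗[R] X)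
    (hy : (TensorProduct.mk R A (A ⊗[R] X) 1 - d.lTensor A) y = 0) : ∃ x : X, d x = y := by
  let q := (LinearMap.range d).mkQ
  have hqd : q ∘ₗ d = 0 := LinearMap.range_mkQ_comp d
  have hz : ((TensorProduct.mk R A (A ⊗[R] X) 1 - d.lTensor A).lTensor A) ((1 : A) ⊗ₜ[R] y) = 0 := by
    rw [LinearMap.lTensor_tmul, hy, TensorProduct.tmul_zero]
  have h1 := homotopy R A d _ hz
  have h2 : (q.lTensor A) ((1 : A) ⊗ₜ[R] y) = 0 := by
    rw [h1, ← LinearMap.comp_apply, ← LinearMap.lTensor_comp, hqd, LinearMap.lTensor_zero,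
      LinearMap.zero_apply]
  rw [LinearMap.lTensor_tmul] at h2
  have h3 : q y = 0 := by
    apply Module.FaithfullyFlat.tensorProduct_mk_injective (A := R) (B := A)
    rw [map_zero]
    exact h2
  have h4 : y ∈ LinearMap.range d := by
    rwa [Submodule.mkQ_apply, Submodule.Quotient.mk_eq_zero] at h3
  exact h4

end monad

section degone
variable (R : Type u) [CommRing R] (C : Type u) [CommRing C] [Algebra R C]

/-- `a ⊗ b ↦ a ⊗ (b ⊗ 1)` -/
noncomputable abbrev j12 : C ⊗[R] C →ₐ[R] C ⊗[R] (C ⊗[R] C) :=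
  Algebra.TensorProduct.map (AlgHom.id R C) (Algebra.TensorProduct.includeLeft : C →ₐ[R] C ⊗[R] C)
/-- `a ⊗ b ↦ a ⊗ (1 ⊗ b)` -/
noncomputable abbrev j13 : C ⊗[R] C →ₐ[R] C ⊗[R] (C ⊗[R] C) :=
  Algebra.TensorProduct.map (AlgHom.id R C) (Algebra.TensorProduct.includeRight : C →ₐ[R] C ⊗[R] C)
/-- `y ↦ 1 ⊗ y` -/
noncomputable abbrev j23 : C ⊗[R] C →ₐ[R] C ⊗[R] (C ⊗[R] C) :=
  Algebra.TensorProduct.includeRight

/-- the Amitsur differential `h ↦ 1 ⊗ h - h ⊗ 1` -/
noncomputable def d0 : C →ₗ[R] C ⊗[R] C :=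
  (Algebra.TensorProduct.includeRight : C →ₐ[R] C ⊗[R] C).toLinearMap -
    (Algebra.TensorProduct.includeLeft : C →ₐ[R] C ⊗[R] C).toLinearMap

theorem d0_apply (h : C) : d0 R C h = 1 ⊗ₜ[R] h - h ⊗ₜ[R] 1 := rfl

theorem lTensor_d0 (y : C ⊗[R] C) : (d0 R C).lTensor C y = j13 R C y - j12 R C y := by
  induction y using TensorProduct.induction_on with
  | zero => simp only [map_zero, sub_zero]
  | tmul a b =>
    rw [LinearMap.lTensor_tmul, d0_apply, TensorProduct.tmul_sub,
      Algebra.TensorProduct.map_tmul, Algebra.TensorProduct.map_tmul]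
    rfl
  | add y y' hy hy' => rw [map_add, map_add, map_add, hy, hy']; abel

/-- **Amitsur exactness in degree one.** -/
theorem main [Module.FaithfullyFlat R C] (y : C ⊗[R] C)
    (hy : j13 R C y = j12 R C y + j23 R C y) :
    ∃ h : C, y = 1 ⊗ₜ[R] h - h ⊗ₜ[R] 1 := by
  obtain ⟨h, hh⟩ := step R C (d0 R C) y (by
    rw [LinearMap.sub_apply, lTensor_d0, hy]
    show (1 : C) ⊗ₜ[R] y - _ = 0
    have : j23 R C y = (1 : C) ⊗ₜ[R] y := rfl
    rw [this]
    abel)
  exact ⟨h, hh.symm⟩

end degone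

end Groth.Agent.Lib.helper2.AmitsurOne
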