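import Mathlib
import Groth.Agent.Lib.Helper24.FlatDepth4
import Groth.Agent.Lib.Helper24.SerreNormal4
import Groth.Agent.Lib.Helper26.ArtFlat2

/-!
# Depth `≥ 2` for flat algebras over Artinian local rings with normal special fibre (helper2)
-/

set_option autoImplicit false
universe u

namespace Groth.Agent.Lib.helper2.ArtNormal

open IsLocalRing LocCoh Groth.Agent.Lib.helper26.Depth

theorem map_maximalIdeal_le_nilradical (C : Type u) [CommRing C] [IsLocalRing C]
    [IsArtinianRing C] (A : Type u) [CommRing A] [Algebra C A] :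
    (maximalIdeal C).map (algebraMap C A) ≤ nilradical A := by
  have hmnil : IsNilpotent (maximalIdeal C) := by
    have := IsArtinianRing.isNilpotent_jacobson_bot (R := C)
    rwa [IsLocalRing.jacobson_eq_maximalIdeal ⊥ bot_ne_top] at this
  obtain ⟨n, hn⟩ := hmnil
  rw [Ideal.map_le_iff_le_comap]
  intro c hc
  rw [Ideal.mem_comap, mem_nilradical]
  refine ⟨n, ?_⟩
  rw [← map_pow]
  have : c ^ n ∈ (maximalIdeal C) ^ n := Ideal.pow_mem_pow hc n
  rw [hn] at this
  rw [(Ideal.mem_bot).mp this, map_zero]

theorem algebraMapSubmonoid_primeCompl {A : Type u} [CommRing A] (I p : Ideal A) [p.IsPrime]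
    (hI : I ≤ p) (hp' : (p.map (Ideal.Quotient.mk I)).IsPrime) :
    Algebra.algebraMapSubmonoid (A ⧸ I) p.primeCompl =
      (p.map (Ideal.Quotient.mk I)).primeCompl := by
  ext x
  constructor
  · rintro ⟨a, ha, rfl⟩
    intro hmem
    apply ha
    have h1 : a ∈ (p.map (Ideal.Quotient.mk I)).comap (Ideal.Quotient.mk I) := hmem
    rw [Ideal.comap_map_of_surjective _ Ideal.Quotient.mk_surjective, ← RingHom.ker_eq_comap_bot,
      Ideal.mk_ker, sup_eq_left.mpr hI] at h1
    exact h1
  · intro hx
    obtain ⟨a, rfl⟩ := Ideal.Quotient.mk_surjective x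
    refine ⟨a, ?_, rfl⟩
    intro ha
    exact hx (Ideal.mem_map_of_mem _ ha)

theorem two_le_depth_localization (C : Type u) [CommRing C] [IsLocalRing C] [IsArtinianRing C]
    (A : Type u) [CommRing A] [IsNoetherianRing A] [Algebra C A] [Module.Flat C A]
    (hnorm : ∀ (q : Ideal (A ⧸ (maximalIdeal C).map (algebraMap C A))) [q.IsPrime],
      IsDomain (Localization.AtPrime q) ∧ IsIntegrallyClosed (Localization.AtPrime q))
    (p : Ideal A) [hp : p.IsPrime] (hht : 2 ≤ p.height) :
    (2 : ℕ∞) ≤ depth (Localization.AtPrime p) (Localization.AtPrime p) := by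
  set I : Ideal A := (maximalIdeal C).map (algebraMap C A) with hI
  have hInil : I ≤ nilradical A := map_maximalIdeal_le_nilradical C A
  have hIp : I ≤ p := hInil.trans (nilradical_le_prime p)
  -- flatness and locality
  haveI : Module.Flat A (Localization.AtPrime p) := IsLocalization.flat _ p.primeCompl
  haveI : Module.Flat C (Localization.AtPrime p) := Module.Flat.trans C A _
  haveI hloc : IsLocalHom (algebraMap C (Localization.AtPrime p)) := by
    constructor
    intro c hc
    by_contra hcu
    have hcm : c ∈ maximalIdeal C := (IsLocalRing.mem_maximalIdeal c).mpr hcu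
    have h1 : algebraMap C A c ∈ p := hIp (Ideal.mem_map_of_mem _ hcm)
    rw [IsScalarTower.algebraMap_apply C A (Localization.AtPrime p)] at hc
    have h2 := (IsLocalization.AtPrime.isUnit_to_map_iff (Localization.AtPrime p) p _).mp hc
    exact h2 h1
  have hdepth := Groth.Agent.Lib.Helper24.FlatDepth.depth_eq_add_idealDepth_of_flat C
    (Localization.AtPrime p)
  -- the closed fibre
  set J : Ideal (Localization.AtPrime p) := I.map (algebraMap A (Localization.AtPrime p)) with hJ
  have hJeq : (maximalIdeal C).map (algebraMap C (Localization.AtPrime p)) = J := by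
    rw [hJ, hI, Ideal.map_map, ← IsScalarTower.algebraMap_eq]
  have hJle : J ≤ maximalIdeal (Localization.AtPrime p) := by
    rw [← hJeq]
    exact ((IsLocalRing.local_hom_TFAE (algebraMap C (Localization.AtPrime p))).out 0 2).mp hloc
  haveI : Nontrivial (Localization.AtPrime p ⧸ J) :=
    Ideal.Quotient.nontrivial_iff.mpr
      (ne_top_of_le_ne_top (maximalIdeal.isMaximal _).ne_top hJle)
  haveI : IsLocalRing (Localization.AtPrime p ⧸ J) :=
    .of_surjective' _ Ideal.Quotient.mk_surjective
  have hp₀ : (p.map (Ideal.Quotient.mk I)).IsPrime :=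
    Ideal.map_isPrime_of_surjective Ideal.Quotient.mk_surjective
      (by rw [Ideal.mk_ker]; exact hIp)
  have hloc' : IsLocalization (Algebra.algebraMapSubmonoid (A ⧸ I) p.primeCompl)
      (Localization.AtPrime p ⧸ J) := inferInstance
  rw [algebraMapSubmonoid_primeCompl I p hIp hp₀] at hloc'
  haveI : IsLocalization.AtPrime (Localization.AtPrime p ⧸ J) (p.map (Ideal.Quotient.mk I)) :=
    hloc'
  let e : Localization.AtPrime (p.map (Ideal.Quotient.mk I)) ≃ₐ[A ⧸ I]
      (Localization.AtPrime p ⧸ J) :=
    IsLocalization.algEquiv (p.map (Ideal.Quotient.mk I)).primeCompl _ _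
  obtain ⟨hdom, hic⟩ := hnorm (p.map (Ideal.Quotient.mk I))
  haveI : IsDomain (Localization.AtPrime p ⧸ J) := e.symm.toRingEquiv.toMulEquiv.isDomain _
  haveI : IsIntegrallyClosed (Localization.AtPrime p ⧸ J) :=
    IsIntegrallyClosed.of_equiv e.toRingEquiv
  have hsk := Groth.Agent.Lib.Helper24.SerreNormal.sk_two_of_normal (Localization.AtPrime p ⧸ J)
  have hdim : (2 : WithBot ℕ∞) ≤ ringKrullDim (Localization.AtPrime p ⧸ J) := by
    rw [IsLocalization.AtPrime.ringKrullDim_eq_height (p.map (Ideal.Quotient.mk I))]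
    have := Groth.Agent.Lib.helper26.ArtFlat.two_le_height_map_mk I hInil p hht
    exact WithBot.coe_le_coe.mpr this
  rw [min_eq_left hdim] at hsk
  have hsk' : (2 : ℕ∞) ≤ depth (Localization.AtPrime p ⧸ J) (Localization.AtPrime p ⧸ J) :=
    WithBot.coe_le_coe.mp hsk
  rw [← Groth.Agent.Lib.Helper24.FlatDepth.idealDepth_quotient_eq] at hsk'
  rw [hdepth]
  refine le_trans hsk' (le_trans (le_of_eq ?_) le_add_self)
  exact idealDepth_congr (Submodule.quotEquivOfEq _ _ hJeq.symm)

end Groth.Agent.Lib.helper2.ArtNormal
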