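import Mathlib
import Groth.Prelude.Def_CAlg
import Groth.Agent.S0564
import Groth.Agent.Lib.Helper26.ProjDimBaseChange
import Groth.Agent.Lib.Helper26.DepthCR

/-!
# helper2: `ht p ≤ pd M` for associated primes over a regular local ring
-/

set_option autoImplicit false
universe u

open LocCoh CategoryTheory Abelian IsLocalRing TensorProduct

namespace Groth.Agent.Lib.helper2.AssPD

open Groth.Agent.Lib.helper26.Depth

theorem height_le (B : Type u) [CommRing B] [IsRegularLocalRing B] (M : Type u) [AddCommGroup M]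
    [Module B M] [Module.Finite B M] (p : Ideal B) (hp : p ∈ associatedPrimes B M) (n : ℕ)
    (hn : HasProjectiveDimensionLE (ModuleCat.of B M) n) : p.height ≤ n := by
  obtain ⟨hprime, x, hx⟩ := (isAssociatedPrime_iff (R := B)).mp hp
  haveI := hprime
  have hmem : ∀ a : B, a ∈ p ↔ a • x = 0 := by
    intro a
    rw [hx, Submodule.mem_colon_singleton, Submodule.mem_bot]
  let Bp := Localization.AtPrime p
  haveI : IsRegularLocalRing Bp := Groth.Agent.S0564.result B p
  have h1 := Groth.Agent.Lib.helper26.PDBC.hasProjectiveDimensionLE_baseChange B Bp n M hn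
  -- the element `1 ⊗ x`
  have hx0 : (1 : Bp) ⊗ₜ[B] x ≠ 0 := by
    intro h0
    have := (IsLocalizedModule.eq_zero_iff p.primeCompl (TensorProduct.mk B Bp M 1)).mp h0
    obtain ⟨s, hs⟩ := this
    have : (s : B) ∈ p := (hmem _).mpr hs
    exact s.2 this
  have hkill : ∀ s ∈ maximalIdeal Bp, s • ((1 : Bp) ⊗ₜ[B] x) = 0 := by
    intro s hs
    rw [← Localization.AtPrime.map_eq_maximalIdeal] at hs
    refine Submodule.span_induction (p := fun s _ => s • ((1 : Bp) ⊗ₜ[B] x) = 0) ?_ ?_ ?_ ?_ hs
    · rintro _ ⟨a, ha, rfl⟩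
      have hax : a • x = 0 := (hmem a).mp ha
      rw [TensorProduct.smul_tmul', smul_eq_mul, mul_one, Algebra.algebraMap_eq_smul_one,
        TensorProduct.smul_tmul, hax, TensorProduct.tmul_zero]
    · simp
    · intro a b _ _ ha hb
      rw [add_smul, ha, hb, add_zero]
    · intro a b _ hb
      rw [smul_eq_mul, mul_smul, hb, smul_zero]
  haveI : Nontrivial (Bp ⊗[B] M) := ⟨⟨_, _, hx0⟩⟩
  have hdepth0 : depth Bp (Bp ⊗[B] M) = 0 :=
    idealDepth_eq_zero_of_annihilated _ _ (maximalIdeal_smul_top_ne_top (A := Bp) _) _ hx0 hkill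
  -- projective dimension
  have hle : projectiveDimension (ModuleCat.of Bp (Bp ⊗[B] M)) ≤ n :=
    (projectiveDimension_le_iff _ n).mpr h1
  have hnb : projectiveDimension (ModuleCat.of Bp (Bp ⊗[B] M)) ≠ ⊥ := by
    rw [Ne, projectiveDimension_eq_bot_iff]
    intro hz
    exact not_subsingleton _ (ModuleCat.subsingleton_of_isZero hz)
  obtain ⟨e, he⟩ : ∃ e : ℕ, projectiveDimension (ModuleCat.of Bp (Bp ⊗[B] M)) = (e : WithBot ℕ∞) := by
    generalize projectiveDimension (ModuleCat.of Bp (Bp ⊗[B] M)) = q at hle hnb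
    induction q with
    | bot => exact absurd rfl hnb
    | coe q =>
      induction q with
      | top =>
        exfalso
        have : ((⊤ : ℕ∞) : WithBot ℕ∞) ≤ ((n : ℕ∞) : WithBot ℕ∞) := hle
        rw [WithBot.coe_le_coe] at this
        simp at this
      | coe e => exact ⟨e, rfl⟩
  have hen : e ≤ n := by
    rw [he] at hle
    exact_mod_cast hle
  have hAB := auslander_buchsbaum e (Bp ⊗[B] M) he
  rw [hdepth0, add_zero] at hAB
  have hreg := depth_eq_ringKrullDim_of_isRegularLocalRing Bp
  rw [IsLocalization.AtPrime.ringKrullDim_eq_height p Bp, hAB] at hreg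
  have : p.height = (e : ℕ∞) := by
    have h2 : ((e : ℕ∞) : WithBot ℕ∞) = ((p.height : ℕ∞) : WithBot ℕ∞) := by exact_mod_cast hreg
    exact (WithBot.coe_injective h2).symm
  rw [this]
  exact_mod_cast hen

end Groth.Agent.Lib.helper2.AssPD
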