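import Mathlib

/-!
# A stably free ideal of a domain is principal (helper2)

`isPrincipal_of_stablyFree`: `R` a domain, `P` an ideal with `P × R^a ≃ R^b`; then `P` is principal.
The proof uses the determinant functional `w ↦ det [w | e(0,e₁) | … | e(0,e_a)]`.
-/

set_option autoImplicit false
universe u

namespace Groth.Agent.Lib.helper2.StabFreeIdeal

open Module

variable {R : Type u} [CommRing R]

section det
variable {a : ℕ} (N : Fin a → (Fin (a + 1) → R))

/-- the determinant functional `w ↦ det [w ; N]` -/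
noncomputable def detFun : (Fin (a + 1) → R) →ₗ[R] R where
  toFun w := (Matrix.detRowAlternating (n := Fin (a + 1)) (R := R)) (Fin.cons w N)
  map_add' x y := (Matrix.detRowAlternating (n := Fin (a + 1)) (R := R)).toMultilinearMap.cons_add
    N x y
  map_smul' c x := (Matrix.detRowAlternating (n := Fin (a + 1)) (R := R)).toMultilinearMap.cons_smul
    N c x

lemma detFun_apply (w : Fin (a + 1) → R) :
    detFun N w = Matrix.det (Matrix.of (Fin.cons w N : Fin (a + 1) → Fin (a + 1) → R)) := rfl

lemma detFun_row (j : Fin a) : detFun N (N j) = 0 := by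
  show (Matrix.detRowAlternating (n := Fin (a + 1)) (R := R)) (Fin.cons (N j) N) = 0
  refine AlternatingMap.map_eq_zero_of_eq _ _ (i := 0) (j := j.succ) ?_ (Fin.succ_ne_zero j).symm
  simp

lemma map_detFun {k : Type*} [CommRing k] (φ : R →+* k) (w : Fin (a + 1) → R) :
    φ (detFun N w) = detFun (fun j => φ ∘ N j) (φ ∘ w) := by
  rw [detFun_apply, detFun_apply, RingHom.map_det]
  congr 1
  ext i j
  refine Fin.cases ?_ (fun i' => ?_) i
  · simp
  · simp

end det

/-- over a field, a linearly independent family of `a` vectors of `k^(a+1)` extends to a matrix of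
nonzero determinant -/
lemma exists_detFun_ne_zero {k : Type*} [Field k] {a : ℕ} (N : Fin a → (Fin (a + 1) → k))
    (hN : LinearIndependent k N) : ∃ w, detFun N w ≠ 0 := by
  have hlt : finrank k (Submodule.span k (Set.range N)) < finrank k (Fin (a + 1) → k) := by
    have h1 : finrank k (Submodule.span k (Set.range N)) ≤ a := by
      have := finrank_range_le_card (R := k) N
      rw [Fintype.card_fin] at this
      exact this
    rw [Module.finrank_fin_fun]
    omega
  obtain ⟨w, hw⟩ : ∃ w : Fin (a + 1) → k, w ∉ Submodule.span k (Set.range N) := by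
    by_contra hcon
    push_neg at hcon
    have : Submodule.span k (Set.range N) = ⊤ := by
      rw [eq_top_iff]; intro x _; exact hcon x
    rw [this, finrank_top] at hlt
    exact lt_irrefl _ hlt
  refine ⟨w, ?_⟩
  have hli : LinearIndependent k (Fin.cons w N : Fin (a + 1) → (Fin (a + 1) → k)) :=
    linearIndependent_finCons.2 ⟨hN, hw⟩
  have hu : IsUnit (Matrix.of (Fin.cons w N : Fin (a + 1) → Fin (a + 1) → k)) :=
    Matrix.linearIndependent_rows_iff_isUnit.1 hli
  rw [detFun_apply]
  exact ((Matrix.isUnit_iff_isUnit_det _).1 hu).ne_zero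

variable [IsDomain R]

/-- the rank count -/
lemma eq_add_one_of_linearEquiv (P : Ideal R) (hP : P ≠ ⊥) {a b : ℕ}
    (e : (P × (Fin a → R)) ≃ₗ[R] (Fin b → R)) : b = a + 1 := by
  have h1 : Module.rank R (P × (Fin a → R)) = b := by
    rw [e.rank_eq, rank_fin_fun]
  have h2 := LinearMap.rank_range_add_rank_ker (LinearMap.snd R P (Fin a → R))
  rw [rank_range_of_surjective _ LinearMap.snd_surjective, LinearMap.ker_snd,
    rank_range_of_injective _ LinearMap.inl_injective, rank_fin_fun, h1] at h2
  have h3 : Module.rank R P = 1 := by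
    apply le_antisymm
    · have := Submodule.rank_le (R := R) (M := R) P
      rwa [rank_self] at this
    · rw [Cardinal.one_le_iff_pos, rank_pos_iff_exists_ne_zero]
      obtain ⟨x, hx, hx0⟩ := Submodule.exists_mem_ne_zero_of_ne_bot hP
      exact ⟨⟨x, hx⟩, fun h => hx0 (congrArg Subtype.val h)⟩
  rw [h3] at h2
  have : ((a + 1 : ℕ) : Cardinal) = (b : Cardinal) := by
    rw [← h2]; push_cast; rfl
  exact (Nat.cast_injective this).symm

/-- **A stably free ideal of a domain is principal.** -/
theorem isPrincipal_of_stablyFree (P : Ideal R) {a b : ℕ}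
    (e : (P × (Fin a → R)) ≃ₗ[R] (Fin b → R)) : Submodule.IsPrincipal P := by
  by_cases hP : P = ⊥
  · rw [hP]; exact bot_isPrincipal
  obtain rfl := eq_add_one_of_linearEquiv P hP e
  let N : Fin a → (Fin (a + 1) → R) := fun j => e (0, Pi.single j 1)
  let ρ : (Fin (a + 1) → R) →ₗ[R] (Fin a → R) := (LinearMap.snd R P (Fin a → R)) ∘ₗ e.symm.toLinearMap
  have hρN : ∀ j, ρ (N j) = Pi.single j 1 := by
    intro j
    simp [ρ, N]
  -- surjectivity of the determinant functional
  have hsurj : Function.Surjective (detFun N) := by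
    by_contra hns
    have hne : LinearMap.range (detFun N) ≠ ⊤ := fun h => hns (LinearMap.range_eq_top.1 h)
    obtain ⟨𝔪, h𝔪, hle⟩ := Ideal.exists_le_maximal (LinearMap.range (detFun N) : Ideal R) hne
    letI : Field (R ⧸ 𝔪) := Ideal.Quotient.field 𝔪
    let φ : R →+* R ⧸ 𝔪 := Ideal.Quotient.mk 𝔪
    have hφ : Function.Surjective φ := Ideal.Quotient.mk_surjective
    have hli : LinearIndependent (R ⧸ 𝔪) (fun j => φ ∘ N j) := by
      rw [Fintype.linearIndependent_iff]
      intro c hc j
      choose c' hc' using fun j => hφ (c j)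
      -- `∑ c' j • N j` has entries in `𝔪`
      have hmem : ∀ i, (∑ j, c' j • N j) i ∈ 𝔪 := by
        intro i
        rw [← Ideal.Quotient.eq_zero_iff_mem]
        have := congrFun hc i
        simp only [Finset.sum_apply, Pi.smul_apply, Function.comp_apply, smul_eq_mul,
          Pi.zero_apply] at this
        rw [Finset.sum_apply, map_sum]
        rw [← this]
        refine Finset.sum_congr rfl (fun j _ => ?_)
        rw [Pi.smul_apply, smul_eq_mul, map_mul]
        show φ (c' j) * φ (N j i) = _
        rw [hc']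
      -- apply `ρ`
      have h1 : ρ (∑ j, c' j • N j) = c' := by
        rw [map_sum]
        simp_rw [map_smul, hρN]
        ext i
        simp [Finset.sum_apply, Pi.single_apply]
      have h2 : ∀ (v : Fin (a + 1) → R), (∀ i, v i ∈ 𝔪) → ∀ i, ρ v i ∈ 𝔪 := by
        intro v hv i
        have hv' : v = ∑ l, v l • (Pi.single l 1 : Fin (a + 1) → R) := by
          ext l'
          simp [Finset.sum_apply, Pi.single_apply]
        rw [hv', map_sum, Finset.sum_apply]
        refine Ideal.sum_mem _ (fun l _ => ?_)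
        rw [map_smul, Pi.smul_apply, smul_eq_mul]
        exact Ideal.mul_mem_right _ _ (hv l)
      have h3 := h2 _ hmem j
      rw [h1] at h3
      rw [← hc' j]
      exact Ideal.Quotient.eq_zero_iff_mem.2 h3
    obtain ⟨wb, hwb⟩ := exists_detFun_ne_zero _ hli
    choose w hw using fun i => hφ (wb i)
    have hw' : φ ∘ w = wb := funext hw
    apply hwb
    rw [← hw', ← map_detFun]
    exact Ideal.Quotient.eq_zero_iff_mem.2 (hle ⟨w, rfl⟩)
  -- the functional on `P`
  let Λ : (P × (Fin a → R)) →ₗ[R] R := detFun N ∘ₗ e.toLinearMap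
  have hΛ0 : ∀ v : Fin a → R, Λ (0, v) = 0 := by
    have : Λ ∘ₗ LinearMap.inr R P (Fin a → R) = 0 := by
      apply LinearMap.pi_ext'
      intro j
      ext
      simp only [LinearMap.coe_comp, Function.comp_apply, LinearMap.coe_single, LinearMap.coe_inr,
        LinearMap.zero_apply]
      exact detFun_row N j
    intro v
    exact LinearMap.congr_fun this v
  obtain ⟨w₀, hw₀⟩ := hsurj 1
  obtain ⟨⟨p₀, v₀⟩, hpv⟩ := e.surjective w₀
  have hp₀ : Λ (p₀, 0) = 1 := by
    have h1 : Λ (p₀, v₀) = 1 := by
      show detFun N (e (p₀, v₀)) = 1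
      rw [hpv, hw₀]
    have h2 : ((p₀, v₀) : P × (Fin a → R)) = (p₀, 0) + (0, v₀) := by simp
    rw [h2, map_add, hΛ0, add_zero] at h1
    exact h1
  refine ⟨⟨(p₀ : R), ?_⟩⟩
  apply le_antisymm
  · intro p hp
    have h1 : Λ ((⟨p, hp⟩ : P) , 0) * (p₀ : R) = p := by
      have e1 : ((p₀ : R) • (⟨p, hp⟩ : P) : P) = (p • p₀ : P) := by
        apply Subtype.ext
        simp [mul_comm]
      have e2 : Λ (((p₀ : R) • (⟨p, hp⟩ : P) : P), 0) = (p₀ : R) * Λ ((⟨p, hp⟩ : P), 0) := by
        have : ((((p₀ : R) • (⟨p, hp⟩ : P) : P), 0) : P × (Fin a → R)) =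
            (p₀ : R) • ((⟨p, hp⟩ : P), (0 : Fin a → R)) := by simp
        rw [this, map_smul, smul_eq_mul]
      have e3 : Λ ((p • p₀ : P), 0) = p * Λ (p₀, 0) := by
        have : (((p • p₀ : P), 0) : P × (Fin a → R)) = p • (p₀, (0 : Fin a → R)) := by simp
        rw [this, map_smul, smul_eq_mul]
      rw [e1, e3, hp₀, mul_one] at e2
      rw [mul_comm, ← e2]
    rw [← h1]
    exact Submodule.smul_mem _ _ (Submodule.mem_span_singleton_self _)
  · rw [Submodule.span_singleton_le_iff_mem]
    exact p₀.2

end Groth.Agent.Lib.helper2.StabFreeIdeal
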