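import Mathlib

/-!
# Stably free modules; localizations of modules of finite projective dimension over a local ring
(helper2)

* `StabFree R M`: `M × R^a ≃ R^b` for some `a b`.
* `stabFree_of_exact`: for `0 → K → F → M → 0` exact with `F` finite free, `M` projective and `K` stably
  free, `M` is stably free (and `K` is projective: `projective_of_exact`).
* `stabFree_localizedModule`: over a Noetherian local ring `A`, if `M` is a finite module of finite
  projective dimension and `S⁻¹M` is projective over `S⁻¹A`, then `S⁻¹M` is stably free.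
-/

set_option autoImplicit false
universe u

namespace Groth.Agent.Lib.helper2.StabFreeLoc

open CategoryTheory Module

/-- `M` is stably free (of finite rank) -/
def StabFree (R : Type u) (M : Type u) [CommRing R] [AddCommGroup M] [Module R M] : Prop :=
  ∃ a b : ℕ, Nonempty ((M × (Fin a → R)) ≃ₗ[R] (Fin b → R))

section basic
variable {R : Type u} [CommRing R] {M N F K : Type u} [AddCommGroup M] [Module R M]
  [AddCommGroup N] [Module R N] [AddCommGroup F] [Module R F] [AddCommGroup K] [Module R K]

lemma StabFree.congr (e : M ≃ₗ[R] N) (h : StabFree R M) : StabFree R N := by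
  obtain ⟨a, b, ⟨ε⟩⟩ := h
  exact ⟨a, b, ⟨((e.symm.prodCongr (LinearEquiv.refl R _)).trans ε)⟩⟩

lemma stabFree_of_equiv_fin {k : ℕ} (e : M ≃ₗ[R] (Fin k → R)) : StabFree R M :=
  ⟨0, k, ⟨(LinearEquiv.prodUnique).trans e⟩⟩

/-- a retraction of `ι` from a section of `f` -/
lemma exists_retraction (ι : K →ₗ[R] F) (f : F →ₗ[R] M) (hι : Function.Injective ι)
    (hex : Function.Exact ι f) (s : M →ₗ[R] F) (hs : f ∘ₗ s = LinearMap.id) :
    ∃ r : F →ₗ[R] K, r ∘ₗ ι = LinearMap.id ∧ ∀ x, ι (r x) = x - s (f x) := by
  let e := LinearEquiv.ofInjective ι hι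
  have hmem : ∀ x : F, x - s (f x) ∈ LinearMap.range ι := by
    intro x
    rw [← (LinearMap.exact_iff.1 hex), LinearMap.mem_ker, map_sub]
    have : f (s (f x)) = f x := LinearMap.congr_fun hs (f x)
    rw [this, sub_self]
  let g : F →ₗ[R] LinearMap.range ι :=
    LinearMap.codRestrict (LinearMap.range ι) (LinearMap.id - s ∘ₗ f) hmem
  refine ⟨e.symm.toLinearMap ∘ₗ g, ?_, ?_⟩
  · ext k
    simp only [LinearMap.coe_comp, LinearEquiv.coe_coe, Function.comp_apply, LinearMap.id_coe, id_eq]
    apply hι
    have h1 : ι (e.symm (g (ι k))) = (g (ι k) : F) := by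
      have := e.apply_symm_apply (g (ι k))
      exact congrArg Subtype.val this
    rw [h1]
    show ι k - s (f (ι k)) = ι k
    rw [hex.apply_apply_eq_zero, map_zero, sub_zero]
  · intro x
    have h1 : ι (e.symm (g x)) = (g x : F) := by
      have := e.apply_symm_apply (g x)
      exact congrArg Subtype.val this
    exact h1

/-- a short exact sequence with a section splits -/
noncomputable def equivProdOfSection (ι : K →ₗ[R] F) (f : F →ₗ[R] M) (r : F →ₗ[R] K)
    (s : M →ₗ[R] F) (hs : f ∘ₗ s = LinearMap.id) (hr : r ∘ₗ ι = LinearMap.id)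
    (hfι : f ∘ₗ ι = 0) (hrs : ∀ x, ι (r x) = x - s (f x)) : F ≃ₗ[R] (M × K) :=
  LinearEquiv.ofLinearMap (f.prod r) (s.coprod ι)
    (by
      have hrs0 : ∀ m, r (s m) = 0 := by
        intro m
        have h1 := hrs (s m)
        have h2 : f (s m) = m := LinearMap.congr_fun hs m
        rw [h2, sub_self] at h1
        have h3 : r (ι (r (s m))) = r (s m) := LinearMap.congr_fun hr (r (s m))
        rw [← h3, h1, map_zero]
      apply LinearMap.ext
      rintro ⟨m, k⟩
      have h2 : f (s m) = m := LinearMap.congr_fun hs m
      have h3 : f (ι k) = 0 := LinearMap.congr_fun hfι k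
      have h4 : r (ι k) = k := LinearMap.congr_fun hr k
      simp [h2, h3, h4, hrs0])
    (by
      apply LinearMap.ext
      intro x
      simp [hrs])

lemma projective_of_exact [Module.Projective R F] (ι : K →ₗ[R] F) (f : F →ₗ[R] M)
    (hι : Function.Injective ι) (hf : Function.Surjective f) (hex : Function.Exact ι f)
    [Module.Projective R M] : Module.Projective R K := by
  obtain ⟨s, hs⟩ := Module.projective_lifting_property f LinearMap.id hf
  obtain ⟨r, hr, -⟩ := exists_retraction ι f hι hex s hs
  exact Module.Projective.of_split ι r hr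

lemma stabFree_of_exact {k : ℕ} (eF : F ≃ₗ[R] (Fin k → R)) (ι : K →ₗ[R] F) (f : F →ₗ[R] M)
    (hι : Function.Injective ι) (hf : Function.Surjective f) (hex : Function.Exact ι f)
    [Module.Projective R M] (hK : StabFree R K) : StabFree R M := by
  obtain ⟨s, hs⟩ := Module.projective_lifting_property f LinearMap.id hf
  obtain ⟨r, hr, hrs⟩ := exists_retraction ι f hι hex s hs
  have hfι : f ∘ₗ ι = 0 := by
    ext x; exact hex.apply_apply_eq_zero x
  let e1 : F ≃ₗ[R] (M × K) := equivProdOfSection ι f r s hs hr hfι hrs
  obtain ⟨a, b, ⟨ε⟩⟩ := hK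
  refine ⟨b, k + a, ⟨?_⟩⟩
  -- `M × R^b ≃ M × (K × R^a) ≃ (M × K) × R^a ≃ F × R^a ≃ R^k × R^a ≃ R^(k+a)`
  have t1 : (M × (Fin b → R)) ≃ₗ[R] (M × (K × (Fin a → R))) :=
    (LinearEquiv.refl R M).prodCongr ε.symm
  have t2 : (M × (K × (Fin a → R))) ≃ₗ[R] ((M × K) × (Fin a → R)) :=
    (LinearEquiv.prodAssoc R M K (Fin a → R)).symm
  have t3 : ((M × K) × (Fin a → R)) ≃ₗ[R] (F × (Fin a → R)) :=
    e1.symm.prodCongr (LinearEquiv.refl R (Fin a → R))
  have t4 : (F × (Fin a → R)) ≃ₗ[R] ((Fin k → R) × (Fin a → R)) :=
    eF.prodCongr (LinearEquiv.refl R (Fin a → R))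
  have t5 : ((Fin k → R) × (Fin a → R)) ≃ₗ[R] ((Fin k ⊕ Fin a) → R) :=
    (LinearEquiv.sumArrowLequivProdArrow (Fin k) (Fin a) R R).symm
  have t6 : ((Fin k ⊕ Fin a) → R) ≃ₗ[R] (Fin (k + a) → R) :=
    LinearEquiv.funCongrLeft R R finSumFinEquiv.symm
  exact t1.trans (t2.trans (t3.trans (t4.trans (t5.trans t6))))

end basic

section local_ring
variable (A : Type u) [CommRing A] [IsLocalRing A] [IsNoetherianRing A] (S : Submonoid A)

theorem stabFree_localizedModule (n : ℕ) :
    ∀ (M : Type u) [AddCommGroup M] [Module A M] [Module.Finite A M],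
      HasProjectiveDimensionLE (ModuleCat.of A M) n →
      Module.Projective (Localization S) (LocalizedModule S M) →
      StabFree (Localization S) (LocalizedModule S M) := by
  induction n with
  | zero =>
    intro M _ _ _ hpd _
    have h1 : Projective (ModuleCat.of A M) :=
      projective_iff_hasProjectiveDimensionLT_one.2 hpd
    have h2 : Module.Projective A M := (IsProjective.iff_projective (R := A) (P := M)).2 h1
    haveI : Module.Free A M := Module.free_of_flat_of_isLocalRing
    let b := Module.finBasis A M
    let b' := b.ofIsLocalizedModule (Localization S) S (LocalizedModule.mkLinearMap S M)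
    exact stabFree_of_equiv_fin b'.equivFun
  | succ n ih =>
    intro M _ _ _ hpd hproj
    obtain ⟨k, f, hf⟩ := Module.Finite.exists_fin' A M
    let K := LinearMap.ker f
    have hex : Function.Exact K.subtype f := LinearMap.exact_subtype_ker_map f
    -- projective dimension of the kernel
    have hpdK : HasProjectiveDimensionLE (ModuleCat.of A K) n := by
      let SC : ShortComplex (ModuleCat.{u} A) :=
        ModuleCat.shortComplexOfCompEqZero K.subtype f (by ext x; exact x.2)
      have hSC : SC.ShortExact := by
        refine { exact := ?_, mono_f := ?_, epi_g := ?_ }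
        · rw [ShortComplex.ShortExact.moduleCat_exact_iff_function_exact]
          exact hex
        · rw [ModuleCat.mono_iff_injective]
          exact K.injective_subtype
        · rw [ModuleCat.epi_iff_surjective]
          exact hf
      have hF : Projective (ModuleCat.of A (Fin k → A)) :=
        (IsProjective.iff_projective (R := A) (P := (Fin k → A))).1 inferInstance
      have h2 : HasProjectiveDimensionLT SC.X₂ (n + 1) :=
        hasProjectiveDimensionLT_of_ge (ModuleCat.of A (Fin k → A)) 1 (n + 1) (by omega)
      exact hSC.hasProjectiveDimensionLT_X₁ (n + 1) h2 hpd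
    -- localize
    let ιS := LocalizedModule.map S K.subtype
    let fS := LocalizedModule.map S f
    have hιS : Function.Injective ιS :=
      IsLocalizedModule.map_injective S (LocalizedModule.mkLinearMap S K)
        (LocalizedModule.mkLinearMap S (Fin k → A)) K.subtype K.injective_subtype
    have hfS : Function.Surjective fS :=
      IsLocalizedModule.map_surjective S (LocalizedModule.mkLinearMap S (Fin k → A))
        (LocalizedModule.mkLinearMap S M) f hf
    have hexS : Function.Exact ιS fS :=
      LocalizedModule.map_exact S K.subtype f hex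
    let bF := (Pi.basisFun A (Fin k)).ofIsLocalizedModule (Localization S) S
      (LocalizedModule.mkLinearMap S (Fin k → A))
    haveI : Module.Projective (Localization S) (LocalizedModule S (Fin k → A)) :=
      Module.Projective.of_basis bF
    haveI : Module.Projective (Localization S) (LocalizedModule S K) :=
      projective_of_exact (R := Localization S) (K := LocalizedModule S K)
        (F := LocalizedModule S (Fin k → A)) (M := LocalizedModule S M) ιS fS hιS hfS hexS
    have hK := ih K hpdK inferInstance
    exact stabFree_of_exact (R := Localization S) (K := LocalizedModule S K)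
      (F := LocalizedModule S (Fin k → A)) (M := LocalizedModule S M) bF.equivFun ιS fS hιS hfS hexS hK

end local_ring

end Groth.Agent.Lib.helper2.StabFreeLoc
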