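import Mathlib
import Groth.Agent.Lib.Helper2.StabFreeIdeal
import Groth.Agent.Lib.Helper2.StabFreeLoc

/-!
# Auslander–Buchsbaum, part 1: local-global lemmas (helper2)

* `isPrincipal_of_mem_minimalPrimes_span_singleton`: in a UFD, a prime minimal over a nonzero principal
  ideal is principal.
* `projective_of_mem_minimalPrimes`: in a Noetherian domain all of whose localizations at maximal ideals
  are UFDs, a prime minimal over a nonzero principal ideal is a projective module.
* `isPrincipal_of_localization`: `A` Noetherian local, `S` a submonoid, `B = S⁻¹A` a domain all of whose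
  localizations at maximal ideals are UFDs, `P` a prime of `B` minimal over a nonzero principal ideal
  whose contraction to `A` has finite projective dimension: then `P` is principal.
-/

set_option autoImplicit false
universe u

namespace Groth.Agent.Lib.helper2.AusBuch

open CategoryTheory Groth.Agent.Lib.helper2.StabFreeLoc

section ufd
variable {R : Type u} [CommRing R] [IsDomain R]

theorem isPrincipal_of_mem_minimalPrimes_span_singleton [UniqueFactorizationMonoid R]
    (y : R) (hy : y ≠ 0) (P : Ideal R) (hP : P ∈ (Ideal.span {y}).minimalPrimes) :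
    ∃ π : R, π ≠ 0 ∧ P = Ideal.span {π} := by
  haveI : P.IsPrime := hP.1.1
  have hyP : y ∈ P := hP.1.2 (Ideal.subset_span rfl)
  obtain ⟨f, hf, hfy⟩ := UniqueFactorizationMonoid.exists_prime_factors y hy
  have hprod : f.prod ∈ P := by
    obtain ⟨u, hu⟩ := hfy
    have : f.prod = y * ↑u⁻¹ := by rw [← hu, mul_assoc, Units.mul_inv, mul_one]
    rw [this]
    exact Ideal.mul_mem_right _ _ hyP
  obtain ⟨b, hbf, hbP⟩ := (Ideal.IsPrime.multiset_prod_mem_iff_exists_mem ‹_› f).1 hprod
  have hb : Prime b := hf b hbf
  refine ⟨b, hb.ne_zero, ?_⟩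
  have hbprime : (Ideal.span {b}).IsPrime := (Ideal.span_singleton_prime hb.ne_zero).2 hb
  have hle : Ideal.span {b} ≤ P := (Ideal.span_singleton_le_iff_mem _).2 hbP
  have hyb : Ideal.span {y} ≤ Ideal.span {b} := by
    rw [Ideal.span_singleton_le_iff_mem, Ideal.mem_span_singleton]
    exact (Multiset.dvd_prod hbf).trans hfy.dvd
  exact le_antisymm (hP.2 ⟨hbprime, hyb⟩ hle) hle

end ufd

section proj
variable {B : Type u} [CommRing B] [IsDomain B] [IsNoetherianRing B]

theorem projective_of_mem_minimalPrimes
    (hloc : ∀ (𝔫 : Ideal B) [𝔫.IsMaximal], UniqueFactorizationMonoid (Localization.AtPrime 𝔫))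
    (y : B) (hy : y ≠ 0) (P : Ideal B) (hP : P ∈ (Ideal.span {y}).minimalPrimes) :
    Module.Projective B P := by
  haveI : P.IsPrime := hP.1.1
  haveI : Module.FinitePresentation B P := Module.finitePresentation_of_finite B P
  refine Module.projective_of_localization_maximal'
    (Rₚ := fun 𝔫 _ => Localization.AtPrime 𝔫)
    (Mₚ := fun 𝔫 _ => (P.map (algebraMap B (Localization.AtPrime 𝔫)) : Ideal _))
    (f := fun 𝔫 _ => Algebra.idealMap (Localization.AtPrime 𝔫) P) ?_
  intro 𝔫 h𝔫
  haveI := h𝔫
  haveI := hloc 𝔫
  by_cases hle : P ≤ 𝔫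
  · -- `P B_𝔫` is minimal over `y B_𝔫`
    have hmin : P.map (algebraMap B (Localization.AtPrime 𝔫)) ∈
        (Ideal.span {algebraMap B (Localization.AtPrime 𝔫) y}).minimalPrimes := by
      have h1 := IsLocalization.minimalPrimes_map 𝔫.primeCompl (Localization.AtPrime 𝔫)
        (Ideal.span {y})
      rw [Ideal.map_span, Set.image_singleton] at h1
      rw [h1]
      show Ideal.under B (P.map (algebraMap B (Localization.AtPrime 𝔫))) ∈
        (Ideal.span {y}).minimalPrimes
      have hdisj : Disjoint (𝔫.primeCompl : Set B) P := by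
        rw [Set.disjoint_left]
        intro a ha haP
        exact ha (hle haP)
      rw [IsLocalization.under_map_of_isPrime_disjoint 𝔫.primeCompl _ ‹P.IsPrime› hdisj]
      exact hP
    have hy' : algebraMap B (Localization.AtPrime 𝔫) y ≠ 0 := by
      intro h0
      apply hy
      exact (IsLocalization.injective (Localization.AtPrime 𝔫)
        𝔫.primeCompl_le_nonZeroDivisors) (by rw [h0, map_zero])
    obtain ⟨π, hπ0, hπ⟩ := isPrincipal_of_mem_minimalPrimes_span_singleton _ hy' _ hmin
    rw [hπ]
    haveI : Module.Free (Localization.AtPrime 𝔫) (Ideal.span {π} : Ideal (Localization.AtPrime 𝔫)) :=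
      Module.Free.of_equiv (LinearEquiv.toSpanNonzeroSingleton (Localization.AtPrime 𝔫)
        (Localization.AtPrime 𝔫) π hπ0)
    infer_instance
  · have htop : P.map (algebraMap B (Localization.AtPrime 𝔫)) = ⊤ := by
      obtain ⟨a, haP, ha𝔫⟩ := Set.not_subset.1 hle
      apply Ideal.eq_top_of_isUnit_mem _ (Ideal.mem_map_of_mem _ haP)
      exact IsLocalization.map_units (Localization.AtPrime 𝔫) (⟨a, ha𝔫⟩ : 𝔫.primeCompl)
    rw [htop]
    haveI : Module.Free (Localization.AtPrime 𝔫) (⊤ : Ideal (Localization.AtPrime 𝔫)) :=
      Module.Free.of_equiv (Submodule.topEquiv (R := Localization.AtPrime 𝔫)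
        (M := Localization.AtPrime 𝔫)).symm
    infer_instance

end proj

section loc
variable (A : Type u) [CommRing A] [IsLocalRing A] [IsNoetherianRing A] (S : Submonoid A)
  [IsDomain (Localization S)]

theorem isPrincipal_of_localization
    (hloc : ∀ (𝔫 : Ideal (Localization S)) [𝔫.IsMaximal],
      UniqueFactorizationMonoid (Localization.AtPrime 𝔫))
    (n : ℕ) (hpd : ∀ p : Ideal A, HasProjectiveDimensionLE (ModuleCat.of A p) n)
    (y : Localization S) (hy : y ≠ 0) (P : Ideal (Localization S))
    (hP : P ∈ (Ideal.span {y}).minimalPrimes) : Submodule.IsPrincipal P := by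
  haveI : IsNoetherianRing (Localization S) := IsLocalization.isNoetherianRing S _ inferInstance
  let p : Ideal A := P.comap (algebraMap A (Localization S))
  have hPp : p.map (algebraMap A (Localization S)) = P := IsLocalization.map_under S _ P
  have hproj : Module.Projective (Localization S) P :=
    projective_of_mem_minimalPrimes hloc y hy P hP
  rw [← hPp] at hproj ⊢
  let eqv : LocalizedModule S p ≃ₗ[Localization S] (p.map (algebraMap A (Localization S)) : Ideal _) :=
    IsLocalizedModule.mapEquiv S (LocalizedModule.mkLinearMap S p)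
      (Algebra.idealMap (Localization S) p) (Localization S) (LinearEquiv.refl A p)
  haveI : Module.Projective (Localization S) (LocalizedModule S p) :=
    Module.Projective.of_equiv eqv.symm
  have hsf := stabFree_localizedModule A S n p (hpd p) inferInstance
  obtain ⟨a, b, ⟨e⟩⟩ := hsf.congr eqv
  exact Groth.Agent.Lib.helper2.StabFreeIdeal.isPrincipal_of_stablyFree _ e

end loc

end Groth.Agent.Lib.helper2.AusBuch
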