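import Mathlib
import Groth.Agent.Lib.Helper2.AusBuch1
import Groth.Agent.Lib.Helper15.Regular
import Groth.Agent.Lib.Helper26.ProjDimRegular
import Groth.Agent.S0564
import Groth.Agent.S2119

/-!
# Auslander–Buchsbaum: a regular local ring is a unique factorisation domain (helper2)

Induction on the dimension: pick `x ∈ m ∖ m²` (a prime element); by Nagata's criterion (`S2119`) it
suffices that `A_x` is a UFD; by Kaplansky's criterion it suffices that every prime `P` of `A_x`
minimal over a nonzero principal ideal is principal; `P` is locally principal (induction, using that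
localizations of `A` are regular, `S0564`), hence projective, and it is the localization of a module of
finite projective dimension over `A`, hence stably free, hence free.
-/

set_option autoImplicit false
universe u

namespace Groth.Agent.Lib.helper2.AusBuch

open CategoryTheory IsLocalRing

theorem ufd_aux (d : ℕ) : ∀ (A : Type u) [CommRing A] [IsDomain A] [IsRegularLocalRing A],
    (maximalIdeal A).spanFinrank = d → UniqueFactorizationMonoid A := by
  induction d using Nat.strong_induction_on with
  | _ d ih =>
  intro A _ _ _ hd
  by_cases hm : maximalIdeal A = ⊥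
  · refine UniqueFactorizationMonoid.of_exists_prime_factors ?_
    intro a ha
    have hu : IsUnit a := by
      by_contra h
      have h1 := (IsLocalRing.mem_maximalIdeal a).2 h
      rw [hm] at h1
      exact ha h1
    exact ⟨0, by simp, by simpa using (associated_one_iff_isUnit.2 hu).symm⟩
  · have hfg : (maximalIdeal A).FG := IsNoetherian.noetherian _
    have hm2 : ¬ (maximalIdeal A ≤ maximalIdeal A ^ 2) := by
      intro h
      exact hm (Submodule.eq_bot_of_le_smul_of_le_jacobson_bot (maximalIdeal A) (maximalIdeal A) hfg
        (by rwa [smul_eq_mul, ← pow_two]) (maximalIdeal_le_jacobson _))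
    obtain ⟨x, hxm, hx2⟩ := Set.not_subset.1 hm2
    obtain ⟨hreg, -⟩ := Groth.Agent.Lib.helper15.isRegularLocalRing_quotient_singleton x hxm hx2
    have hx0 : x ≠ 0 := by
      rintro rfl
      exact hx2 (Ideal.zero_mem _)
    have hprime : Prime x := by
      haveI := hreg
      have hdom := Groth.Agent.Lib.helper15.isDomain_of_isRegularLocalRing (A ⧸ Ideal.span {x})
      rw [← Ideal.span_singleton_prime hx0, ← Ideal.Quotient.isDomain_iff_prime]
      exact hdom
    -- Nagata
    let S := Submonoid.closure ({x} : Set A)
    have hxS : x ∈ S := Submonoid.subset_closure rfl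
    have hSle : S ≤ nonZeroDivisors A := by
      rw [Submonoid.closure_le]
      rintro _ rfl
      exact mem_nonZeroDivisors_of_ne_zero hx0
    haveI : IsDomain (Localization S) := IsLocalization.isDomain_localization hSle
    haveI : IsNoetherianRing (Localization S) := IsLocalization.isNoetherianRing S _ inferInstance
    refine Groth.Agent.S2119.result (fun a ha _ => WfDvdMonoid.exists_factors a ha) {x}
      (by rintro _ rfl; exact hprime) ?_
    -- the localizations of `A_x` at maximal ideals are UFDs
    have hloc : ∀ (𝔫 : Ideal (Localization S)) [𝔫.IsMaximal],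
        UniqueFactorizationMonoid (Localization.AtPrime 𝔫) := by
      intro 𝔫 h𝔫
      let q : Ideal A := 𝔫.comap (algebraMap A (Localization S))
      haveI : q.IsPrime := Ideal.IsPrime.comap _
      let e : Localization.AtPrime q ≃ₐ[A] Localization.AtPrime 𝔫 :=
        IsLocalization.localizationLocalizationAtPrimeIsoLocalization S 𝔫
      haveI : IsRegularLocalRing (Localization.AtPrime q) := Groth.Agent.S0564.result A q
      have hxq : x ∉ q := by
        intro hx
        have h1 : algebraMap A (Localization S) x ∈ 𝔫 := hx
        have h2 : IsUnit (algebraMap A (Localization S) x) :=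
          IsLocalization.map_units (Localization S) (⟨x, hxS⟩ : S)
        exact h𝔫.ne_top (Ideal.eq_top_of_isUnit_mem _ h1 h2)
      have hqlt : q < maximalIdeal A := by
        refine lt_of_le_of_ne (le_maximalIdeal (Ideal.IsPrime.ne_top ‹_›)) ?_
        intro h
        exact hxq (h ▸ hxm)
      have hht : q.height < (maximalIdeal A).height :=
        Ideal.height_strict_mono_of_isPrime_of_isPrime hqlt
      have h1 : ((maximalIdeal (Localization.AtPrime q)).spanFinrank : ℕ∞) = q.height := by
        rw [Groth.Agent.Lib.helper15.spanFinrank_eq_height]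
        have h2 := IsLocalization.AtPrime.ringKrullDim_eq_height q (Localization.AtPrime q)
        rw [← IsLocalRing.maximalIdeal_height_eq_ringKrullDim] at h2
        exact_mod_cast h2
      have h3 : ((maximalIdeal A).spanFinrank : ℕ∞) = (maximalIdeal A).height :=
        Groth.Agent.Lib.helper15.spanFinrank_eq_height
      have hlt : (maximalIdeal (Localization.AtPrime q)).spanFinrank < d := by
        rw [← hd]
        have : ((maximalIdeal (Localization.AtPrime q)).spanFinrank : ℕ∞) <
            ((maximalIdeal A).spanFinrank : ℕ∞) := by rw [h1, h3]; exact hht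
        exact_mod_cast this
      have hufd := ih _ hlt (Localization.AtPrime q) rfl
      exact e.toRingEquiv.toMulEquiv.uniqueFactorizationMonoid hufd
    have hpd : ∀ p : Ideal A, HasProjectiveDimensionLE (ModuleCat.of A p) d := fun p =>
      Groth.Agent.Lib.helper26.PDReg.hasProjectiveDimensionLE_of_isRegularLocalRing d A hd p
    -- Kaplansky
    rw [UniqueFactorizationMonoid.iff_exists_prime_mem_of_isPrime]
    intro Q hQ0 hQprime
    obtain ⟨y, hyQ, hy0⟩ := Submodule.exists_mem_ne_zero_of_ne_bot hQ0
    obtain ⟨P, hP, hPQ⟩ := Ideal.exists_minimalPrimes_le (I := Ideal.span {y}) (J := Q)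
      ((Ideal.span_singleton_le_iff_mem _).2 hyQ)
    haveI : P.IsPrime := hP.1.1
    obtain ⟨π, hπ⟩ := (isPrincipal_of_localization A S hloc d hpd y hy0 P hP).principal
    have hπ' : P = Ideal.span {π} := hπ
    have hπ0 : π ≠ 0 := by
      rintro rfl
      have hyP : y ∈ P := hP.1.2 (Ideal.subset_span rfl)
      rw [hπ', Ideal.span_singleton_eq_bot.2 rfl] at hyP
      exact hy0 hyP
    refine ⟨π, hPQ (hπ' ▸ Ideal.mem_span_singleton_self π), ?_⟩
    rw [← Ideal.span_singleton_prime hπ0, ← hπ']
    infer_instance

/-- **Auslander–Buchsbaum.** -/
theorem ufd_of_isRegularLocalRing (A : Type u) [CommRing A] [IsRegularLocalRing A] :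
    IsDomain A ∧ UniqueFactorizationMonoid A := by
  haveI := Groth.Agent.Lib.helper15.isDomain_of_isRegularLocalRing A
  exact ⟨inferInstance, ufd_aux _ A rfl⟩

end Groth.Agent.Lib.helper2.AusBuch
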