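import Mathlib

/-!
# Serre's proposition (helper2), part 3: topology of the maximal spectrum

Zero loci in the maximal spectrum, vanishing ideals, J-primes (primes which are intersections of
maximal ideals) and their correspondence with irreducible closed subsets.
-/

set_option autoImplicit false
universe u

namespace Groth.Agent.Lib.helper2.SP

open TopologicalSpace

variable {R : Type u} [CommRing R]

/-- zero locus of an ideal in the maximal spectrum -/
def zloc (I : Ideal R) : Set (MaximalSpectrum R) := {x | I ≤ x.asIdeal}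

theorem mem_zloc {I : Ideal R} {x : MaximalSpectrum R} : x ∈ zloc I ↔ I ≤ x.asIdeal := Iff.rfl

theorem isClosed_zloc (I : Ideal R) : IsClosed (zloc I) := by
  have h1 : zloc I = MaximalSpectrum.toPrimeSpectrum ⁻¹' (PrimeSpectrum.zeroLocus (I : Set R)) := by
    ext x
    simp only [zloc, Set.mem_ofPred_eq, Set.mem_preimage, PrimeSpectrum.mem_zeroLocus,
      SetLike.coe_subset_coe]
    rfl
  rw [h1]
  exact (PrimeSpectrum.isClosed_zeroLocus _).preimage MaximalSpectrum.toPrimeSpectrum_continuous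

theorem exists_zloc_of_isClosed {F : Set (MaximalSpectrum R)} (hF : IsClosed F) :
    ∃ I : Ideal R, F = zloc I := by
  obtain ⟨C, hC, rfl⟩ := isClosed_induced_iff.mp hF
  obtain ⟨I, rfl⟩ := (PrimeSpectrum.isClosed_iff_zeroLocus_ideal C).mp hC
  refine ⟨I, ?_⟩
  ext x
  simp only [zloc, Set.mem_ofPred_eq, Set.mem_preimage, PrimeSpectrum.mem_zeroLocus,
    SetLike.coe_subset_coe]
  rfl

theorem zloc_anti {I J : Ideal R} (h : I ≤ J) : zloc J ⊆ zloc I := fun _ hx => h.trans hx

/-- vanishing ideal of a set of maximal ideals -/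
def vanI (F : Set (MaximalSpectrum R)) : Ideal R := ⨅ x ∈ F, x.asIdeal

theorem mem_vanI {F : Set (MaximalSpectrum R)} {a : R} :
    a ∈ vanI F ↔ ∀ x ∈ F, a ∈ x.asIdeal := by
  simp only [vanI, Ideal.mem_iInf]

theorem le_vanI_iff {I : Ideal R} {F : Set (MaximalSpectrum R)} : I ≤ vanI F ↔ F ⊆ zloc I := by
  simp only [vanI, le_iInf_iff]
  rfl

theorem vanI_le {F : Set (MaximalSpectrum R)} {x : MaximalSpectrum R} (hx : x ∈ F) :
    vanI F ≤ x.asIdeal := fun _ ha => mem_vanI.mp ha x hx

theorem vanI_anti {F G : Set (MaximalSpectrum R)} (h : F ⊆ G) : vanI G ≤ vanI F :=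
  le_vanI_iff.mpr fun _ hx => vanI_le (h hx)

theorem zloc_vanI {F : Set (MaximalSpectrum R)} (hF : IsClosed F) : zloc (vanI F) = F := by
  obtain ⟨I, rfl⟩ := exists_zloc_of_isClosed hF
  apply Set.Subset.antisymm
  · have : I ≤ vanI (zloc I) := le_vanI_iff.mpr subset_rfl
    exact zloc_anti this
  · exact fun x hx => vanI_le hx

theorem zloc_mul (I J : Ideal R) : zloc (I * J) = zloc I ∪ zloc J := by
  ext x
  haveI := x.isMaximal.isPrime
  simp only [mem_zloc, Set.mem_union]
  exact Ideal.IsPrime.mul_le x.isMaximal.isPrime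

theorem isPrime_vanI {Z : Set (MaximalSpectrum R)} (hZ : IsIrreducible Z) : (vanI Z).IsPrime := by
  obtain ⟨x, hx⟩ := hZ.nonempty
  refine ⟨?_, ?_⟩
  · intro h
    have := vanI_le hx
    rw [h, top_le_iff] at this
    exact x.isMaximal.ne_top this
  · intro a b hab
    have h1 : Z ⊆ zloc (Ideal.span {a}) ∪ zloc (Ideal.span {b}) := by
      intro y hy
      have := mem_vanI.mp hab y hy
      rcases y.isMaximal.isPrime.mem_or_mem this with h | h
      · left
        rw [mem_zloc, Ideal.span_singleton_le_iff_mem]; exact h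
      · right
        rw [mem_zloc, Ideal.span_singleton_le_iff_mem]; exact h
    rcases (isPreirreducible_iff_isClosed_union_isClosed.mp hZ.isPreirreducible) _ _
      (isClosed_zloc _) (isClosed_zloc _) h1 with h | h
    · left
      rw [mem_vanI]
      intro y hy
      have := h hy
      rwa [mem_zloc, Ideal.span_singleton_le_iff_mem] at this
    · right
      rw [mem_vanI]
      intro y hy
      have := h hy
      rwa [mem_zloc, Ideal.span_singleton_le_iff_mem] at this

/-- a prime is a J-prime if it is the intersection of the maximal ideals containing it -/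
def IsJ (p : PrimeSpectrum R) : Prop := vanI (zloc p.asIdeal) ≤ p.asIdeal

theorem IsJ.eq {p : PrimeSpectrum R} (hp : IsJ p) : vanI (zloc p.asIdeal) = p.asIdeal :=
  le_antisymm hp (le_vanI_iff.mpr subset_rfl)

theorem IsJ.le_of_forall {p : PrimeSpectrum R} (hp : IsJ p) {I : Ideal R}
    (h : ∀ x ∈ zloc p.asIdeal, I ≤ x.asIdeal) : I ≤ p.asIdeal :=
  (le_vanI_iff.mpr h).trans hp

theorem isIrreducible_zloc_of_isJ {p : PrimeSpectrum R} (hp : IsJ p) :
    IsIrreducible (zloc p.asIdeal) := by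
  constructor
  · obtain ⟨m, hm, hpm⟩ := Ideal.exists_le_maximal p.asIdeal p.isPrime.ne_top
    exact ⟨⟨m, hm⟩, hpm⟩
  · rw [isPreirreducible_iff_isClosed_union_isClosed]
    intro z₁ z₂ hz₁ hz₂ hsub
    obtain ⟨I₁, rfl⟩ := exists_zloc_of_isClosed hz₁
    obtain ⟨I₂, rfl⟩ := exists_zloc_of_isClosed hz₂
    rw [← zloc_mul] at hsub
    have h1 : I₁ * I₂ ≤ p.asIdeal := hp.le_of_forall fun x hx => hsub hx
    rcases (Ideal.IsPrime.mul_le p.isPrime).mp h1 with h | h
    · left; exact zloc_anti h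
    · right; exact zloc_anti h

/-- the irreducible closed subset attached to a J-prime -/
def Zof (p : PrimeSpectrum R) (hp : IsJ p) : IrreducibleCloseds (MaximalSpectrum R) :=
  ⟨zloc p.asIdeal, isIrreducible_zloc_of_isJ hp, isClosed_zloc _⟩

/-- the J-prime attached to an irreducible closed subset -/
def Pof (Z : IrreducibleCloseds (MaximalSpectrum R)) : PrimeSpectrum R :=
  ⟨vanI (Z : Set (MaximalSpectrum R)), isPrime_vanI Z.isIrreducible⟩

theorem zloc_Pof (Z : IrreducibleCloseds (MaximalSpectrum R)) :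
    zloc (Pof Z).asIdeal = (Z : Set (MaximalSpectrum R)) :=
  zloc_vanI Z.isClosed

theorem isJ_Pof (Z : IrreducibleCloseds (MaximalSpectrum R)) : IsJ (Pof Z) := by
  unfold IsJ
  rw [zloc_Pof]
  exact le_rfl

theorem Zof_Pof (Z : IrreducibleCloseds (MaximalSpectrum R)) : Zof (Pof Z) (isJ_Pof Z) = Z := by
  apply IrreducibleCloseds.ext
  exact zloc_Pof Z

theorem Zof_le_Zof {p q : PrimeSpectrum R} (hp : IsJ p) (hq : IsJ q)
    (h : p.asIdeal ≤ q.asIdeal) : Zof q hq ≤ Zof p hp := by
  show zloc q.asIdeal ⊆ zloc p.asIdeal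
  exact zloc_anti h

theorem Zof_lt_Zof {p q : PrimeSpectrum R} (hp : IsJ p) (hq : IsJ q)
    (h : p.asIdeal < q.asIdeal) : Zof q hq < Zof p hp := by
  refine lt_of_le_of_ne (Zof_le_Zof hp hq h.le) ?_
  intro heq
  have h1 : zloc q.asIdeal = zloc p.asIdeal :=
    congrArg (fun Z : IrreducibleCloseds (MaximalSpectrum R) => Z.carrier) heq
  have h2 : q.asIdeal = p.asIdeal := by rw [← hq.eq, ← hp.eq, h1]
  exact h.ne h2.symm

/-- finitely many elements of the vanishing ideal of a closed set cut it out, in a Noetherian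
maximal spectrum -/
theorem exists_finset_vanI [NoetherianSpace (MaximalSpectrum R)] {F : Set (MaximalSpectrum R)}
    (hF : IsClosed F) : ∃ T : Finset R, (∀ a ∈ T, a ∈ vanI F) ∧
      ∀ x : MaximalSpectrum R, x ∉ F → ∃ a ∈ T, a ∉ x.asIdeal := by
  classical
  have hcomp : IsCompact (Fᶜ) := NoetherianSpace.isCompact _
  have hcover : Fᶜ ⊆ ⋃ a : vanI F, (zloc (Ideal.span {(a : R)}))ᶜ := by
    intro x hx
    rw [Set.mem_compl_iff, ← zloc_vanI hF, mem_zloc] at hx
    obtain ⟨a, ha, hax⟩ := SetLike.not_le_iff_exists.mp hx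
    rw [Set.mem_iUnion]
    refine ⟨⟨a, ha⟩, ?_⟩
    rw [Set.mem_compl_iff, mem_zloc, Ideal.span_singleton_le_iff_mem]
    exact hax
  obtain ⟨t, ht⟩ := hcomp.elim_finite_subcover _ (fun a => (isClosed_zloc _).isOpen_compl) hcover
  refine ⟨t.image Subtype.val, ?_, ?_⟩
  · intro a ha
    obtain ⟨b, _, rfl⟩ := Finset.mem_image.mp ha
    exact b.2
  · intro x hx
    have := ht hx
    simp only [Set.mem_iUnion, Set.mem_compl_iff, mem_zloc, Ideal.span_singleton_le_iff_mem,
      exists_prop] at this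
    obtain ⟨b, hb, hbx⟩ := this
    exact ⟨b, Finset.mem_image.mpr ⟨b, hb, rfl⟩, hbx⟩

/-- in a Noetherian maximal spectrum, every irreducible closed subset of a closed set lies in
one of finitely many irreducible closed subsets of it -/
theorem exists_finite_irreducibleCloseds [NoetherianSpace (MaximalSpectrum R)]
    {C : Set (MaximalSpectrum R)} (hC : IsClosed C) :
    ∃ S : Set (IrreducibleCloseds (MaximalSpectrum R)), S.Finite ∧
      (∀ G ∈ S, (G : Set (MaximalSpectrum R)) ⊆ C) ∧ (C = ⋃ G ∈ S, (G : Set (MaximalSpectrum R))) ∧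
      ∀ Y : Set (MaximalSpectrum R), IsIrreducible Y → Y ⊆ C →
        ∃ G ∈ S, Y ⊆ (G : Set (MaximalSpectrum R)) := by
  classical
  obtain ⟨S, hSf, hSc, hSi, hSU⟩ := NoetherianSpace.exists_finite_set_isClosed_irreducible hC
  set S' : Set (IrreducibleCloseds (MaximalSpectrum R)) := {G | (G : Set _) ∈ S} with hS'
  have hS'f : S'.Finite := by
    refine Set.Finite.of_injOn (f := fun G : IrreducibleCloseds (MaximalSpectrum R) =>
      (G : Set (MaximalSpectrum R))) (fun G hG => hG) ?_ hSf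
    intro G _ G' _ h
    exact IrreducibleCloseds.ext h
  refine ⟨S', hS'f, ?_, ?_, ?_⟩
  · intro G hG
    rw [hSU]
    exact Set.subset_sUnion_of_mem hG
  · rw [hSU]
    ext x
    simp only [Set.mem_sUnion, Set.mem_iUnion, exists_prop]
    constructor
    · rintro ⟨t, ht, hxt⟩
      exact ⟨⟨t, hSi t ht, hSc t ht⟩, ht, hxt⟩
    · rintro ⟨G, hG, hxG⟩
      exact ⟨G, hG, hxG⟩
  · intro Y hY hYC
    lift S to Finset (Set (MaximalSpectrum R)) using hSf
    obtain ⟨t, ht, hYt⟩ := isIrreducible_iff_sUnion_isClosed.mp hY S hSc (hSU ▸ hYC)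
    exact ⟨⟨t, hSi t ht, hSc t ht⟩, ht, hYt⟩

end Groth.Agent.Lib.helper2.SP
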