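import Mathlib
import Groth.Prelude.Def_CAlgX
import Groth.Agent.Lib.Helper2.SP3
import Groth.Agent.S0582

/-!
# Bass: big projective modules (helper2), part 1

* the maximal spectrum of a ring with Noetherian `R / rad R` is a Noetherian space;
* `BigAt x M`: the image of `M` in `P / xP` is not finitely generated;
* a projective module whose localization at `x` is not finitely generated is big at `x`.
-/

set_option autoImplicit false
universe u

namespace Groth.Agent.Lib.helper2.BB

open Module TopologicalSpace Groth.Agent.Lib.helper2.SP

variable {R : Type u} [CommRing R]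

theorem jacobson_le_asIdeal (x : MaximalSpectrum R) : (⊥ : Ideal R).jacobson ≤ x.asIdeal :=
  sInf_le ⟨bot_le, x.isMaximal⟩

theorem jacobson_le_vanI (F : Set (MaximalSpectrum R)) : (⊥ : Ideal R).jacobson ≤ vanI F :=
  le_vanI_iff.mpr fun x _ => jacobson_le_asIdeal x

theorem noetherianSpace_maxSpec [IsNoetherianRing (R ⧸ (⊥ : Ideal R).jacobson)] :
    NoetherianSpace (MaximalSpectrum R) := by
  refine ((noetherianSpace_TFAE (MaximalSpectrum R)).out 0 1).mpr ?_
  set jac := (⊥ : Ideal R).jacobson with hjac
  set f : Closeds (MaximalSpectrum R) → Ideal (R ⧸ jac) :=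
    fun F => (vanI (F : Set (MaximalSpectrum R))).map (Ideal.Quotient.mk jac) with hf
  have hanti : StrictAnti f := by
    intro F G hFG
    have hle : vanI (G : Set (MaximalSpectrum R)) ≤ vanI (F : Set (MaximalSpectrum R)) :=
      vanI_anti hFG.le
    refine lt_of_le_of_ne (Ideal.map_mono hle) ?_
    intro heq
    have h1 := congrArg (Ideal.comap (Ideal.Quotient.mk jac)) heq
    simp only [hf] at h1
    rw [Ideal.comap_map_mk (jacobson_le_vanI _), Ideal.comap_map_mk (jacobson_le_vanI _)] at h1
    have h2 : (G : Set (MaximalSpectrum R)) = (F : Set (MaximalSpectrum R)) := by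
      rw [← zloc_vanI G.isClosed, ← zloc_vanI F.isClosed, h1]
    exact hFG.ne (SetLike.coe_injective h2.symm)
  exact hanti.wellFoundedLT

variable {P : Type u} [AddCommGroup P] [Module R P]

/-- the image of `M` in `P / xP` is not finitely generated -/
def BigAt (x : MaximalSpectrum R) (M : Submodule R P) : Prop :=
  ∀ T : Finset P, ¬ M ≤ Submodule.span R (T : Set P) ⊔ (x.asIdeal • ⊤ : Submodule R P)

theorem BigAt.mono {x : MaximalSpectrum R} {M M' : Submodule R P} (h : BigAt x M) (hle : M ≤ M') :
    BigAt x M' := fun T hT => h T (hle.trans hT)

/-- bigness passes to a submodule of finite "codimension" -/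
theorem BigAt.of_le_sup_span {x : MaximalSpectrum R} {M M₁ : Submodule R P} (h : BigAt x M)
    (T₀ : Finset P) (hle : M ≤ M₁ ⊔ Submodule.span R (T₀ : Set P)) : BigAt x M₁ := by
  classical
  intro T hT
  apply h (T ∪ T₀)
  refine hle.trans ?_
  rw [sup_le_iff]
  constructor
  · refine hT.trans (sup_le_sup_right (Submodule.span_mono ?_) _)
    simp
  · refine le_sup_of_le_left (Submodule.span_mono ?_)
    simp

theorem BigAt.exists_add_notMem {x : MaximalSpectrum R} {M : Submodule R P} (h : BigAt x M)
    (s : P) : ∃ m ∈ M, s + m ∉ (x.asIdeal • ⊤ : Submodule R P) := by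
  by_contra hcon
  push Not at hcon
  apply h ∅
  intro m hm
  have h0 := hcon 0 M.zero_mem
  rw [add_zero] at h0
  have h1 := hcon m hm
  have : m = (s + m) - s := by abel
  rw [this]
  exact Submodule.mem_sup_right (Submodule.sub_mem _ h1 h0)

/-- a projective module whose localization at `x` is not finitely generated is big at `x` -/
theorem bigAt_top_of_not_finite [Module.Projective R P] (x : MaximalSpectrum R)
    (hx : ¬ Module.Finite (Localization.AtPrime x.asIdeal)
      (LocalizedModule x.asIdeal.primeCompl P)) : BigAt x (⊤ : Submodule R P) := by
  classical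
  haveI := x.isMaximal
  intro T hT
  apply hx
  set A := Localization.AtPrime x.asIdeal with hA
  set Px := LocalizedModule x.asIdeal.primeCompl P with hPx
  haveI : Module.Projective A Px :=
    Module.Projective.of_equiv (LocalizedModule.equivTensorProduct x.asIdeal.primeCompl P).symm
  haveI : Module.Free A Px := Groth.Agent.S0582.result A Px
  -- the image of `T` generates modulo the maximal ideal
  set N : Submodule A Px := Submodule.span A
    ((LocalizedModule.mkLinearMap x.asIdeal.primeCompl P) '' (T : Set P)) with hN
  have hsup : N ⊔ (IsLocalRing.maximalIdeal A • ⊤ : Submodule A Px) = ⊤ := by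
    rw [eq_top_iff]
    rintro y -
    induction y using LocalizedModule.induction_on with
    | h p w =>
      have hp : p ∈ Submodule.span R (T : Set P) ⊔ (x.asIdeal • ⊤ : Submodule R P) :=
        hT Submodule.mem_top
      obtain ⟨p₁, hp₁, p₂, hp₂, rfl⟩ := Submodule.mem_sup.mp hp
      have hmk : (LocalizedModule.mk (p₁ + p₂) w : Px) =
          (IsLocalization.mk' A (1 : R) w) • (LocalizedModule.mk p₁ 1 : Px) +
          (IsLocalization.mk' A (1 : R) w) • (LocalizedModule.mk p₂ 1 : Px) := by
        rw [← smul_add, LocalizedModule.mk_add_mk]
        simp only [one_smul, mul_one]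
        rw [← Localization.mk_eq_mk', LocalizedModule.mk_smul_mk]
        simp
      rw [hmk]
      apply Submodule.add_mem
      · apply Submodule.mem_sup_left
        apply Submodule.smul_mem
        have : ∀ p₁ ∈ Submodule.span R (T : Set P), (LocalizedModule.mk p₁ 1 : Px) ∈ N := by
          intro p₁ hp₁
          induction hp₁ using Submodule.span_induction with
          | mem z hz => exact Submodule.subset_span ⟨z, hz, rfl⟩
          | zero => rw [LocalizedModule.zero_mk]; exact Submodule.zero_mem _
          | add a b _ _ ha hb =>
            have : (LocalizedModule.mk (a + b) 1 : Px) =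
                LocalizedModule.mk a 1 + LocalizedModule.mk b 1 := by
              rw [LocalizedModule.mk_add_mk]; simp
            rw [this]
            exact Submodule.add_mem _ ha hb
          | smul r a _ ha =>
            have : (LocalizedModule.mk (r • a) 1 : Px) = r • (LocalizedModule.mk a 1 : Px) := by
              rw [LocalizedModule.smul'_mk]
            rw [this, ← algebraMap_smul A r]
            exact Submodule.smul_mem _ _ ha
        exact this p₁ hp₁
      · apply Submodule.mem_sup_right
        apply Submodule.smul_mem
        have : ∀ p₂ ∈ (x.asIdeal • ⊤ : Submodule R P), (LocalizedModule.mk p₂ 1 : Px) ∈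
            (IsLocalRing.maximalIdeal A • ⊤ : Submodule A Px) := by
          intro p₂ hp₂
          refine Submodule.smul_induction_on hp₂ ?_ ?_
          · intro r hr n _
            have : (LocalizedModule.mk (r • n) 1 : Px) = r • (LocalizedModule.mk n 1 : Px) := by
              rw [LocalizedModule.smul'_mk]
            rw [this, ← algebraMap_smul A r]
            refine Submodule.smul_mem_smul ?_ Submodule.mem_top
            rw [← Localization.AtPrime.map_eq_maximalIdeal]
            exact Ideal.mem_map_of_mem _ hr
          · intro a b ha hb
            have : (LocalizedModule.mk (a + b) 1 : Px) =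
                LocalizedModule.mk a 1 + LocalizedModule.mk b 1 := by
              rw [LocalizedModule.mk_add_mk]; simp
            rw [this]
            exact Submodule.add_mem _ ha hb
        exact this p₂ hp₂
  -- a free module which is finitely generated modulo the maximal ideal is finitely generated
  set b := Module.Free.chooseBasis A Px with hb
  set k := IsLocalRing.ResidueField A with hk
  -- the quotient `Px / m Px` is finitely generated over `A`
  have hfinq : Module.Finite A (Px ⧸ (IsLocalRing.maximalIdeal A • ⊤ : Submodule A Px)) := by
    have hNfg : N.FG := Submodule.fg_span (Set.Finite.image _ T.finite_toSet)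
    have hsurj : Function.Surjective
        ((IsLocalRing.maximalIdeal A • ⊤ : Submodule A Px).mkQ ∘ₗ N.subtype) := by
      intro y
      obtain ⟨y', rfl⟩ := Submodule.mkQ_surjective _ y
      have hy' : y' ∈ N ⊔ (IsLocalRing.maximalIdeal A • ⊤ : Submodule A Px) := by
        rw [hsup]; trivial
      obtain ⟨n, hn, z, hz, rfl⟩ := Submodule.mem_sup.mp hy'
      refine ⟨⟨n, hn⟩, ?_⟩
      simp only [LinearMap.coe_comp, Function.comp_apply, Submodule.subtype_apply, map_add]
      have hz0 : (IsLocalRing.maximalIdeal A • ⊤ : Submodule A Px).mkQ z = 0 := by
        rw [Submodule.mkQ_apply, Submodule.Quotient.mk_eq_zero]; exact hz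
      rw [hz0, add_zero]
    haveI : Module.Finite A N := Module.Finite.iff_fg.mpr hNfg
    exact Module.Finite.of_surjective _ hsurj
  -- hence the basis is finite
  have hfinidx : Finite (Module.Free.ChooseBasisIndex A Px) := by
    by_contra hinf
    rw [not_finite_iff_infinite] at hinf
    -- coordinates give a surjection onto an infinite direct sum of copies of the residue field
    obtain ⟨S, hS⟩ := (Module.finite_def.mp hfinq)
    -- each generator involves finitely many coordinates
    choose lift hlift using fun y : (Px ⧸ (IsLocalRing.maximalIdeal A • ⊤ : Submodule A Px)) =>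
      Submodule.mkQ_surjective _ y
    set I₀ : Finset (Module.Free.ChooseBasisIndex A Px) :=
      S.biUnion fun y => (b.repr (lift y)).support with hI₀
    obtain ⟨i, hi⟩ := Infinite.exists_notMem_finset I₀
    -- the coordinate functional `i` modulo the maximal ideal
    set c : Px →ₗ[A] k := (Algebra.linearMap A k) ∘ₗ (b.coord i) with hc
    have hcker : (IsLocalRing.maximalIdeal A • ⊤ : Submodule A Px) ≤ LinearMap.ker c := by
      rw [Submodule.smul_le]
      intro r hr n _
      rw [LinearMap.mem_ker, hc, LinearMap.comp_apply, map_smul, smul_eq_mul,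
        Algebra.linearMap_apply, map_mul, IsLocalRing.ResidueField.algebraMap_eq,
        (IsLocalRing.residue_eq_zero_iff _).mpr hr, zero_mul]
    set cbar := (IsLocalRing.maximalIdeal A • ⊤ : Submodule A Px).liftQ c hcker with hcbar
    have hzero : ∀ y ∈ Submodule.span A (S : Set (Px ⧸ _)), cbar y = 0 := by
      intro y hy
      induction hy using Submodule.span_induction with
      | mem y hy =>
        rw [← hlift y, hcbar, Submodule.mkQ_apply, Submodule.liftQ_apply, hc, LinearMap.comp_apply,
          Module.Basis.coord_apply]
        have : (b.repr (lift y)) i = 0 := by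
          rw [← Finsupp.notMem_support_iff]
          intro hmem
          exact hi (Finset.mem_biUnion.mpr ⟨y, hy, hmem⟩)
        rw [this, map_zero]
      | zero => exact map_zero _
      | add a b' _ _ ha hb' => rw [map_add, ha, hb', add_zero]
      | smul r a _ ha => rw [map_smul, ha, smul_zero]
    have h1 : cbar ((IsLocalRing.maximalIdeal A • ⊤ : Submodule A Px).mkQ (b i)) = 1 := by
      rw [hcbar, Submodule.mkQ_apply, Submodule.liftQ_apply, hc, LinearMap.comp_apply,
        Module.Basis.coord_apply, Module.Basis.repr_self, Finsupp.single_eq_same,
        Algebra.linearMap_apply, map_one]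
    have h2 := hzero ((IsLocalRing.maximalIdeal A • ⊤ : Submodule A Px).mkQ (b i))
      (by rw [hS]; trivial)
    rw [h1] at h2
    exact one_ne_zero h2
  exact Module.Finite.of_basis b

end Groth.Agent.Lib.helper2.BB
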