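import Mathlib

/-!
# Serre splitting / Bass cancellation, part 2 (helper2): the Eisenbud–Evans induction

Vectors in `R^N`, their reductions modulo primes, ranks of reductions, and the general position
argument producing a basic element `m 0 + a • ∑ c i • m (i+1)`.
-/

set_option autoImplicit false
universe u

namespace Groth.Agent.Lib.helper2.SB

open Module

variable {R : Type u} [CommRing R] {N : ℕ}

/-- residue field at a point of the prime spectrum -/
abbrev kap (p : PrimeSpectrum R) : Type u := p.asIdeal.ResidueField

/-- reduction of vectors modulo a prime -/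
noncomputable def red (p : PrimeSpectrum R) : (Fin N → R) →ₗ[R] (Fin N → kap p) :=
  (Algebra.linearMap R (kap p)).compLeft (Fin N)

theorem red_apply (p : PrimeSpectrum R) (v : Fin N → R) (i : Fin N) :
    red p v i = algebraMap R (kap p) (v i) := rfl

theorem red_eq_zero_iff (p : PrimeSpectrum R) (v : Fin N → R) :
    red p v = 0 ↔ ∀ i, v i ∈ p.asIdeal := by
  constructor
  · intro h i
    have := congrFun h i
    rw [red_apply, Pi.zero_apply, Ideal.algebraMap_residueField_eq_zero] at this
    exact this
  · intro h
    ext i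
    rw [red_apply, Pi.zero_apply, Ideal.algebraMap_residueField_eq_zero]
    exact h i

theorem red_smul_of_mem (p : PrimeSpectrum R) {r : R} (hr : r ∈ p.asIdeal) (v : Fin N → R) :
    red p (r • v) = 0 := by
  rw [red_eq_zero_iff]
  intro i
  exact Ideal.mul_mem_right _ _ hr

theorem red_smul (p : PrimeSpectrum R) (r : R) (v : Fin N → R) :
    red p (r • v) = algebraMap R (kap p) r • red p v := by
  rw [map_smul, algebraMap_smul]

/-- rank modulo `p` of a family of vectors -/
noncomputable def rk (p : PrimeSpectrum R) {u : ℕ} (m : Fin u → (Fin N → R)) : ℕ :=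
  finrank (kap p) (Submodule.span (kap p) (Set.range fun i => red p (m i)))

theorem red_ne_zero_of_rk_pos (p : PrimeSpectrum R) (m : Fin 1 → (Fin N → R))
    (h : 1 ≤ rk p m) : red p (m 0) ≠ 0 := by
  intro h0
  have : Submodule.span (kap p) (Set.range fun i => red p (m i)) = ⊥ := by
    rw [Submodule.span_eq_bot]
    rintro _ ⟨i, rfl⟩
    rw [Subsingleton.elim i 0]; exact h0
  rw [rk, this, finrank_bot] at h
  omega

section field

variable {K : Type u} [Field K] {V : Type u} [AddCommGroup V] [Module K V]

/-- the local general position lemma -/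
theorem exists_functional_avoid {n : ℕ} (w : Fin (n + 1) → V) (z : V) (abar : K)
    (hdim : finrank K (Submodule.span K (Set.range (Fin.snoc w z : Fin (n + 2) → V))) ≤ n + 1)
    (h0 : abar = 0 → w 0 ≠ 0) :
    ∃ (ct : Fin (n + 1) → K) (cz : K), (ct = 0 → cz ≠ 0) ∧
      ∀ β : Fin (n + 1) → K, ∑ i, ct i * β i ≠ cz →
        z ∈ Submodule.span K (Set.range fun i : Fin (n + 1) =>
          w i + (if i = 0 then abar * β 0 else β i) • z) := by
  classical
  have hnli : ¬ LinearIndependent K (Fin.snoc w z : Fin (n + 2) → V) := by
    intro hli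
    have := linearIndependent_iff_card_eq_finrank_span.mp hli
    rw [Fintype.card_fin, Set.finrank] at this
    omega
  obtain ⟨g, hg, j, hj⟩ := Fintype.not_linearIndependent_iff.mp hnli
  rw [Fin.sum_univ_castSucc] at hg
  simp only [Fin.snoc_castSucc, Fin.snoc_last] at hg
  set c : Fin (n + 1) → K := fun i => g i.castSucc with hc
  set gl : K := g (Fin.last (n + 1)) with hgl
  refine ⟨fun i => if i = 0 then abar * c 0 else c i, gl, ?_, ?_⟩
  · intro hct hgl0
    have hci : ∀ i : Fin (n + 1), i ≠ 0 → c i = 0 := by
      intro i hi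
      have := congrFun hct i
      simpa [hi] using this
    have hc0 : abar * c 0 = 0 := by
      have := congrFun hct 0
      simpa using this
    have hc0ne : c 0 ≠ 0 := by
      intro hc0z
      induction j using Fin.lastCases with
      | last => exact hj hgl0
      | cast i =>
        by_cases hi : i = 0
        · subst hi; exact hj hc0z
        · exact hj (hci i hi)
    have ha0 : abar = 0 := by
      rcases mul_eq_zero.mp hc0 with h | h
      · exact h
      · exact absurd h hc0ne
    have hrel : c 0 • w 0 = 0 := by
      rw [hgl0, zero_smul, add_zero] at hg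
      rw [← hg]
      symm
      apply Finset.sum_eq_single_of_mem 0 (Finset.mem_univ _)
      intro i _ hi
      show c i • w i = 0
      rw [hci i hi, zero_smul]
    rcases smul_eq_zero.mp hrel with h | h
    · exact hc0ne h
    · exact h0 ha0 h
  · intro β hβ
    set α : Fin (n + 1) → K := fun i => if i = 0 then abar * β 0 else β i with hα
    have hsum : ∑ i, c i * α i = ∑ i, (if i = 0 then abar * c 0 else c i) * β i := by
      refine Finset.sum_congr rfl fun i _ => ?_
      by_cases hi : i = 0
      · subst hi; simp [hα]; ring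
      · simp [hα, hi]
    have hmem : ∑ i, c i • (w i + α i • z) ∈ Submodule.span K (Set.range fun i : Fin (n + 1) =>
        w i + α i • z) :=
      Submodule.sum_mem _ fun i _ => Submodule.smul_mem _ _ (Submodule.subset_span ⟨i, rfl⟩)
    have hcalc : ∑ i, c i • (w i + α i • z) = (∑ i, c i * α i - gl) • z := by
      have h1 : ∑ i, c i • w i = -(gl • z) := eq_neg_of_add_eq_zero_left hg
      simp only [smul_add, Finset.sum_add_distrib, smul_smul]
      rw [h1, ← Finset.sum_smul, sub_smul]
      abel
    rw [hcalc] at hmem
    have hne : ∑ i, c i * α i - gl ≠ 0 := by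
      rw [hsum]; exact sub_ne_zero.mpr hβ
    have := Submodule.smul_mem _ (∑ i, c i * α i - gl)⁻¹ hmem
    rwa [smul_smul, inv_mul_cancel₀ hne, one_smul] at this

end field

/-- simultaneous avoidance of finitely many affine conditions at distinct primes -/
theorem exists_avoid_affine (n : ℕ) (s : Finset (PrimeSpectrum R))
    (ct : ∀ p : PrimeSpectrum R, Fin n → kap p) (cz : ∀ p : PrimeSpectrum R, kap p)
    (h : ∀ p ∈ s, ct p = 0 → cz p ≠ 0) :
    ∃ b : Fin n → R, ∀ p ∈ s, ∑ i, ct p i * algebraMap R (kap p) (b i) ≠ cz p := by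
  classical
  induction s using Finset.strongInduction with
  | H s ih =>
    rcases s.eq_empty_or_nonempty with rfl | hne
    · exact ⟨0, by simp⟩
    obtain ⟨p₀, hp₀, hmin⟩ := s.exists_minimal hne
    obtain ⟨b₀, hb₀⟩ := ih (s.erase p₀) (Finset.erase_ssubset hp₀)
      (fun p hp => h p (Finset.mem_of_mem_erase hp))
    by_cases hgood : ∑ i, ct p₀ i * algebraMap R (kap p₀) (b₀ i) ≠ cz p₀
    · refine ⟨b₀, fun p hp => ?_⟩
      by_cases hpp : p = p₀
      · subst hpp; exact hgood
      · exact hb₀ p (Finset.mem_erase.mpr ⟨hpp, hp⟩)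
    push Not at hgood
    have hctne : ct p₀ ≠ 0 := by
      intro h0
      apply h p₀ hp₀ h0
      rw [← hgood, h0]
      simp
    obtain ⟨i₀, hi₀⟩ : ∃ i₀, ct p₀ i₀ ≠ 0 := by
      by_contra hcon
      push Not at hcon
      exact hctne (funext hcon)
    have hprod : ¬ (∏ q ∈ s.erase p₀, q.asIdeal) ≤ p₀.asIdeal := by
      intro hle
      obtain ⟨q, hq, hqle⟩ := (p₀.isPrime.prod_le).mp hle
      have hqne : q ≠ p₀ := (Finset.mem_erase.mp hq).1
      have hqle' : q ≤ p₀ := hqle
      exact hqne (le_antisymm hqle' (hmin (Finset.mem_of_mem_erase hq) hqle'))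
    obtain ⟨r, hr, hrp⟩ := SetLike.not_le_iff_exists.mp hprod
    have hrq : ∀ q ∈ s.erase p₀, r ∈ q.asIdeal := by
      intro q hq
      have h1 : (∏ q ∈ s.erase p₀, q.asIdeal) ≤ q.asIdeal :=
        (Ideal.prod_le_inf).trans (Finset.inf_le hq)
      exact h1 hr
    refine ⟨b₀ + (Pi.single i₀ r : Fin n → R), fun p hp => ?_⟩
    by_cases hpp : p = p₀
    · subst hpp
      have : ∑ i, ct p i * algebraMap R (kap p) ((b₀ + (Pi.single i₀ r : Fin n → R)) i) =
          cz p + ct p i₀ * algebraMap R (kap p) r := by
        rw [← hgood]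
        simp only [Pi.add_apply, map_add, mul_add, Finset.sum_add_distrib]
        congr 1
        rw [Finset.sum_eq_single_of_mem i₀ (Finset.mem_univ _)]
        · simp
        · intro i _ hi
          simp [Pi.single_apply, hi]
      rw [this]
      intro hcon
      have h2 : ct p i₀ * algebraMap R (kap p) r = 0 := by
        have := hcon
        rwa [add_eq_left] at this
      rcases mul_eq_zero.mp h2 with h3 | h3
      · exact hi₀ h3
      · rw [Ideal.algebraMap_residueField_eq_zero] at h3
        exact hrp h3
    · have hq : p ∈ s.erase p₀ := Finset.mem_erase.mpr ⟨hpp, hp⟩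
      have : ∑ i, ct p i * algebraMap R (kap p) ((b₀ + (Pi.single i₀ r : Fin n → R)) i) =
          ∑ i, ct p i * algebraMap R (kap p) (b₀ i) := by
        refine Finset.sum_congr rfl fun i _ => ?_
        congr 1
        rw [Pi.add_apply, map_add]
        by_cases hi : i = i₀
        · subst hi
          rw [Pi.single_eq_same, (Ideal.algebraMap_residueField_eq_zero).mpr (hrq p hq), add_zero]
        · rw [Pi.single_eq_of_ne hi, map_zero, add_zero]
      rw [this]
      exact hb₀ p hq

end Groth.Agent.Lib.helper2.SB
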