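import Mathlib

/-!
# Serre's proposition on sections in general position (helper2), part 1: linear algebra

Independence modulo the common kernel of a family of functionals, via determinants.
-/

set_option autoImplicit false
universe u

namespace Groth.Agent.Lib.helper2.SP

open Module

variable {K : Type*} [Field K] {l : ℕ}

theorem exists_ne_zero_dot_eq_zero (Y : Set (Fin l → K)) (hY : Submodule.span K Y ≠ ⊤) :
    ∃ c : Fin l → K, c ≠ 0 ∧ ∀ y ∈ Y, ∑ a, c a * y a = 0 := by
  classical
  obtain ⟨f, hf0, hle⟩ := Submodule.exists_le_ker_of_lt_top _ (lt_top_iff_ne_top.mpr hY)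
  have hf : ∀ y : Fin l → K, f y = ∑ a, f (Pi.single a 1) * y a := by
    intro y
    rw [LinearMap.pi_apply_eq_sum_univ f y]
    refine Finset.sum_congr rfl fun a _ => ?_
    rw [smul_eq_mul, mul_comm]
    congr 2
    ext j
    simp [Pi.single_apply, eq_comm]
  refine ⟨fun a => f (Pi.single a 1), ?_, fun y hy => ?_⟩
  · intro h0
    apply hf0
    apply LinearMap.ext
    intro y
    rw [hf y]
    simp only [LinearMap.zero_apply]
    apply Finset.sum_eq_zero
    intro a _
    rw [congrFun h0 a, Pi.zero_apply, zero_mul]
  · rw [← hf y]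
    exact hle (Submodule.subset_span hy)

theorem exists_det_ne_zero_of_span_eq_top (Y : Set (Fin l → K)) (hY : Submodule.span K Y = ⊤) :
    ∃ y : Fin l → (Fin l → K), (∀ b, y b ∈ Y) ∧ (Matrix.of fun a b => y b a).det ≠ 0 := by
  obtain ⟨f, hfY, -, hli⟩ := Submodule.exists_fun_fin_finrank_span_eq K Y
  have hl : finrank K (Submodule.span K Y) = l := by
    rw [hY, finrank_top, Module.finrank_fin_fun]
  refine ⟨f ∘ Fin.cast hl.symm, fun b => hfY _, ?_⟩
  have hli' : LinearIndependent K (f ∘ Fin.cast hl.symm) :=
    hli.comp _ (Fin.cast_injective _)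
  have h1 : LinearIndependent K (Matrix.of (f ∘ Fin.cast hl.symm)).row := hli'
  rw [Matrix.linearIndependent_rows_iff_isUnit, Matrix.isUnit_iff_isUnit_det,
    isUnit_iff_ne_zero] at h1
  rw [← Matrix.det_transpose]
  exact h1

/-- independence modulo the common kernel of a family of functionals -/
theorem linearIndependent_mkQ_iInf_ker_iff {E : Type*} [AddCommGroup E] [Module K E]
    {ι : Type*} (ψ : ι → (E →ₗ[K] K)) (w : Fin l → E) :
    LinearIndependent K (fun a => (⨅ i, LinearMap.ker (ψ i)).mkQ (w a)) ↔
      ∃ i : Fin l → ι, (Matrix.of fun a b => ψ (i b) (w a)).det ≠ 0 := by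
  constructor
  · intro hli
    set Y : Set (Fin l → K) := Set.range fun i : ι => fun a => ψ i (w a) with hYdef
    have hY : Submodule.span K Y = ⊤ := by
      by_contra hne
      obtain ⟨c, hc0, hc⟩ := exists_ne_zero_dot_eq_zero Y hne
      apply hc0
      have hmem : ∑ a, c a • w a ∈ ⨅ i, LinearMap.ker (ψ i) := by
        rw [Submodule.mem_iInf]
        intro i
        rw [LinearMap.mem_ker, map_sum]
        have := hc _ ⟨i, rfl⟩
        simpa using this
      have h0 : ∑ a, c a • (⨅ i, LinearMap.ker (ψ i)).mkQ (w a) = 0 := by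
        rw [← (Submodule.Quotient.mk_eq_zero _).mpr hmem, ← Submodule.mkQ_apply, map_sum]
        simp
      exact funext (Fintype.linearIndependent_iff.mp hli c h0)
    obtain ⟨y, hyY, hdet⟩ := exists_det_ne_zero_of_span_eq_top Y hY
    choose i hi using hyY
    refine ⟨i, ?_⟩
    convert hdet using 2
    ext a b
    simp only [Matrix.of_apply]
    rw [← hi b]
  · rintro ⟨i, hdet⟩
    rw [Fintype.linearIndependent_iff]
    intro c hc
    have hmem : ∑ a, c a • w a ∈ ⨅ i, LinearMap.ker (ψ i) := by
      rw [← Submodule.Quotient.mk_eq_zero, ← Submodule.mkQ_apply, map_sum]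
      simpa using hc
    rw [Submodule.mem_iInf] at hmem
    have hv : Matrix.vecMul c (Matrix.of fun a b => ψ (i b) (w a)) = 0 := by
      ext b
      have := hmem (i b)
      rw [LinearMap.mem_ker, map_sum] at this
      simp only [Matrix.vecMul, dotProduct, Matrix.of_apply, Pi.zero_apply]
      simpa using this
    have := Matrix.eq_zero_of_vecMul_eq_zero hdet hv
    intro a
    exact congrFun this a

/-- the rank of a family is at least `r` iff it contains an independent subfamily of size `r` -/
theorem le_finrank_span_iff {E : Type*} [AddCommGroup E] [Module K E] {u : ℕ} (w : Fin u → E)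
    (r : ℕ) : r ≤ finrank K (Submodule.span K (Set.range w)) ↔
      ∃ f : Fin r → Fin u, LinearIndependent K (w ∘ f) := by
  haveI : Module.Finite K (Submodule.span K (Set.range w)) :=
    Module.Finite.span_of_finite K (Set.finite_range w)
  constructor
  · intro hr
    obtain ⟨g, hg, -, hli⟩ := Submodule.exists_fun_fin_finrank_span_eq K (Set.range w)
    choose idx hidx using hg
    refine ⟨idx ∘ Fin.castLE hr, ?_⟩
    have : w ∘ (idx ∘ Fin.castLE hr) = g ∘ Fin.castLE hr := by
      ext a
      simp only [Function.comp_apply]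
      rw [hidx]
    rw [this]
    exact hli.comp _ (Fin.castLE_injective hr)
  · rintro ⟨f, hli⟩
    have h1 : LinearIndependent K (fun a : Fin r =>
        (⟨w (f a), Submodule.subset_span ⟨f a, rfl⟩⟩ : Submodule.span K (Set.range w))) := by
      apply LinearIndependent.of_comp (Submodule.span K (Set.range w)).subtype
      exact hli
    have := h1.fintype_card_le_finrank
    simpa using this

end Groth.Agent.Lib.helper2.SP
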