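import Mathlib
import Groth.Agent.Lib.Helper2.SP1

/-!
# Serre's proposition (helper2), part 2: the fibres `V(x)` at closed points

`Bq`, `img` as in the statement of S7163, and the determinant criterion for independence.
-/

set_option autoImplicit false
universe u

namespace Groth.Agent.Lib.helper2.SP

open Module

variable (R : Type u) [CommRing R] (M : Type u) [AddCommGroup M] [Module R M]

/-- the subspace `B(x)` of `M(x) = M / xM` -/
def Bq (x : MaximalSpectrum R) :
    Submodule (R ⧸ x.asIdeal) (M ⧸ (x.asIdeal • ⊤ : Submodule R M)) :=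
  Submodule.span (R ⧸ x.asIdeal)
    ((x.asIdeal • ⊤ : Submodule R M).mkQ '' {m : M | ∀ φ : M →ₗ[R] R, φ m ∈ x.asIdeal})

/-- image of a section in `V(x) = M(x) / B(x)` -/
def img (x : MaximalSpectrum R) (m : M) :
    (M ⧸ (x.asIdeal • ⊤ : Submodule R M)) ⧸ Bq R M x :=
  (Bq R M x).mkQ ((x.asIdeal • ⊤ : Submodule R M).mkQ m)

variable {R M}

/-- the submodule of elements all of whose coordinates lie in `x` -/
def Sx (x : MaximalSpectrum R) : Submodule R M where
  carrier := {m : M | ∀ φ : M →ₗ[R] R, φ m ∈ x.asIdeal}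
  add_mem' := fun {a b} ha hb φ => by rw [map_add]; exact Ideal.add_mem _ (ha φ) (hb φ)
  zero_mem' := fun φ => by rw [map_zero]; exact Ideal.zero_mem _
  smul_mem' := fun r m hm φ => by rw [map_smul, smul_eq_mul]; exact Ideal.mul_mem_left _ _ (hm φ)

theorem mem_Sx (x : MaximalSpectrum R) (m : M) : m ∈ Sx x ↔ ∀ φ : M →ₗ[R] R, φ m ∈ x.asIdeal :=
  Iff.rfl

theorem smul_top_le_Sx (x : MaximalSpectrum R) : (x.asIdeal • ⊤ : Submodule R M) ≤ Sx x := by
  rw [Submodule.smul_le]
  intro r hr m _ φ
  rw [map_smul, smul_eq_mul]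
  exact Ideal.mul_mem_right _ _ hr

theorem mkQ_mem_Bq_iff (x : MaximalSpectrum R) (m : M) :
    (x.asIdeal • ⊤ : Submodule R M).mkQ m ∈ Bq R M x ↔ m ∈ Sx x := by
  constructor
  · intro h
    have key : ∀ y ∈ Bq R M x, ∃ m' ∈ Sx x, (x.asIdeal • ⊤ : Submodule R M).mkQ m' = y := by
      intro y hy
      induction hy using Submodule.span_induction with
      | mem y hy =>
        obtain ⟨m', hm', rfl⟩ := hy
        exact ⟨m', hm', rfl⟩
      | zero => exact ⟨0, Submodule.zero_mem _, map_zero _⟩
      | add a b _ _ ha hb =>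
        obtain ⟨m1, h1, rfl⟩ := ha
        obtain ⟨m2, h2, rfl⟩ := hb
        exact ⟨m1 + m2, Submodule.add_mem _ h1 h2, map_add _ _ _⟩
      | smul c a _ ha =>
        obtain ⟨m1, h1, rfl⟩ := ha
        obtain ⟨r, rfl⟩ := Ideal.Quotient.mk_surjective c
        exact ⟨r • m1, Submodule.smul_mem _ _ h1, rfl⟩
    obtain ⟨m', hm', heq⟩ := key _ h
    have h1 : m' - m ∈ (x.asIdeal • ⊤ : Submodule R M) := by
      rw [← Submodule.Quotient.mk_eq_zero, Submodule.Quotient.mk_sub]
      exact sub_eq_zero.mpr heq
    have h2 := smul_top_le_Sx x h1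
    have : m = m' - (m' - m) := by abel
    rw [this]
    exact Submodule.sub_mem _ hm' h2
  · intro h
    exact Submodule.subset_span ⟨m, h, rfl⟩

theorem img_eq_zero_iff (x : MaximalSpectrum R) (m : M) :
    img R M x m = 0 ↔ ∀ φ : M →ₗ[R] R, φ m ∈ x.asIdeal := by
  rw [img, Submodule.mkQ_apply, Submodule.Quotient.mk_eq_zero, mkQ_mem_Bq_iff, mem_Sx]

theorem img_add (x : MaximalSpectrum R) (m m' : M) :
    img R M x (m + m') = img R M x m + img R M x m' := by
  simp only [img, map_add]

theorem img_zero (x : MaximalSpectrum R) : img R M x 0 = 0 := by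
  simp only [img, map_zero]

theorem img_smul (x : MaximalSpectrum R) (r : R) (m : M) :
    img R M x (r • m) = Ideal.Quotient.mk x.asIdeal r • img R M x m := by
  simp only [img]
  rw [← map_smul]
  rfl

theorem img_sum {ι : Type*} (s : Finset ι) (x : MaximalSpectrum R) (r : ι → R) (t : ι → M) :
    img R M x (∑ a ∈ s, r a • t a) = ∑ a ∈ s, Ideal.Quotient.mk x.asIdeal (r a) • img R M x (t a) := by
  classical
  induction s using Finset.induction_on with
  | empty => simp [img_zero]
  | insert a s ha ih =>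
    rw [Finset.sum_insert ha, Finset.sum_insert ha, img_add, img_smul, ih]

theorem img_surjective (x : MaximalSpectrum R) : Function.Surjective (img R M x) := by
  intro y
  obtain ⟨y', rfl⟩ := Submodule.mkQ_surjective _ y
  obtain ⟨m, rfl⟩ := Submodule.mkQ_surjective _ y'
  exact ⟨m, rfl⟩

theorem img_eq_of_sub_mem (x : MaximalSpectrum R) (m m' : M)
    (h : m - m' ∈ (x.asIdeal • ⊤ : Submodule R M)) : img R M x m = img R M x m' := by
  have : (x.asIdeal • ⊤ : Submodule R M).mkQ m = (x.asIdeal • ⊤ : Submodule R M).mkQ m' := by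
    rw [Submodule.mkQ_apply, Submodule.mkQ_apply, Submodule.Quotient.eq]
    exact h
  simp only [img, this]

/-- **determinant criterion** for independence in `V(x)` -/
theorem linearIndependent_img_iff {l : ℕ} (x : MaximalSpectrum R) (t : Fin l → M) :
    LinearIndependent (R ⧸ x.asIdeal) (fun a => img R M x (t a)) ↔
      ∃ φ : Fin l → (M →ₗ[R] R), (Matrix.of fun a b => φ b (t a)).det ∉ x.asIdeal := by
  haveI := x.isMaximal
  letI : Field (R ⧸ x.asIdeal) := Ideal.Quotient.field x.asIdeal
  constructor
  · intro hli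
    set Y : Set (Fin l → (R ⧸ x.asIdeal)) :=
      Set.range fun φ : M →ₗ[R] R => fun a => Ideal.Quotient.mk x.asIdeal (φ (t a)) with hYdef
    have hY : Submodule.span (R ⧸ x.asIdeal) Y = ⊤ := by
      by_contra hne
      obtain ⟨c, hc0, hc⟩ := exists_ne_zero_dot_eq_zero Y hne
      apply hc0
      choose r hr using fun a => Ideal.Quotient.mk_surjective (c a)
      have h0 : img R M x (∑ a, r a • t a) = 0 := by
        rw [img_eq_zero_iff]
        intro φ
        rw [← Ideal.Quotient.eq_zero_iff_mem, map_sum, map_sum]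
        have := hc _ ⟨φ, rfl⟩
        rw [← this]
        refine Finset.sum_congr rfl fun a _ => ?_
        rw [map_smul, smul_eq_mul, map_mul, hr]
      rw [img_sum] at h0
      have h1 := Fintype.linearIndependent_iff.mp hli (fun a => Ideal.Quotient.mk x.asIdeal (r a)) h0
      ext a
      rw [← hr a, h1 a, Pi.zero_apply]
    obtain ⟨y, hyY, hdet⟩ := exists_det_ne_zero_of_span_eq_top Y hY
    choose φ hφ using hyY
    refine ⟨φ, ?_⟩
    intro hmem
    apply hdet
    have h2 : (Matrix.of fun a b => y b a) =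
        (Ideal.Quotient.mk x.asIdeal).mapMatrix (Matrix.of fun a b => φ b (t a)) := by
      ext a b
      simp only [Matrix.of_apply, RingHom.mapMatrix_apply, Matrix.map_apply]
      rw [← hφ b]
    rw [h2, ← RingHom.map_det]
    exact Ideal.Quotient.eq_zero_iff_mem.mpr hmem
  · rintro ⟨φ, hdet⟩
    rw [Fintype.linearIndependent_iff]
    intro c hc
    choose r hr using fun a => Ideal.Quotient.mk_surjective (c a)
    have h0 : img R M x (∑ a, r a • t a) = 0 := by
      rw [img_sum]
      simp only [hr]
      exact hc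
    rw [img_eq_zero_iff] at h0
    have hdet' : ((Ideal.Quotient.mk x.asIdeal).mapMatrix
        (Matrix.of fun a b => φ b (t a))).det ≠ 0 := by
      rw [← RingHom.map_det]
      intro h
      exact hdet (Ideal.Quotient.eq_zero_iff_mem.mp h)
    have hv : Matrix.vecMul c ((Ideal.Quotient.mk x.asIdeal).mapMatrix
        (Matrix.of fun a b => φ b (t a))) = 0 := by
      ext b
      have := h0 (φ b)
      rw [← Ideal.Quotient.eq_zero_iff_mem, map_sum, map_sum] at this
      simp only [Matrix.vecMul, dotProduct, RingHom.mapMatrix_apply, Matrix.map_apply,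
        Matrix.of_apply, Pi.zero_apply]
      rw [← this]
      refine Finset.sum_congr rfl fun a _ => ?_
      rw [map_smul, smul_eq_mul, map_mul, hr]
    have := Matrix.eq_zero_of_vecMul_eq_zero hdet' hv
    intro a
    exact congrFun this a

/-- from a dimension bound to an independent family with nonvanishing determinant -/
theorem exists_det_notMem_of_le_finrank (x : MaximalSpectrum R) (r : ℕ)
    (hr : r ≤ finrank (R ⧸ x.asIdeal) ((M ⧸ (x.asIdeal • ⊤ : Submodule R M)) ⧸ Bq R M x)) :
    ∃ (t : Fin r → M) (φ : Fin r → (M →ₗ[R] R)),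
      (Matrix.of fun a b => φ b (t a)).det ∉ x.asIdeal := by
  obtain ⟨f, hf⟩ := exists_linearIndependent_of_le_finrank hr
  choose t ht using fun a => img_surjective x (f a)
  have hf' : LinearIndependent (R ⧸ x.asIdeal) (fun a => img R M x (t a)) := by
    simp only [ht]; exact hf
  obtain ⟨φ, hφ⟩ := (linearIndependent_img_iff x t).mp hf'
  exact ⟨t, φ, hφ⟩

end Groth.Agent.Lib.helper2.SP
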