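import Mathlib

/-!
# Serre splitting / Bass cancellation, part 1 (helper2): rank and minors over a field

`rank_le_iff_forall_det_eq_zero`: over a field, a matrix has rank `≤ t` iff all its minors of size
`t + 1` vanish.
-/

set_option autoImplicit false
universe u

namespace Groth.Agent.Lib.helper2.SB

open Matrix Module

variable {K : Type u} [Field K]

/-- from a family spanning a subspace of dimension `≥ k` one can extract `k` independent vectors -/
theorem exists_linearIndependent_comp {V : Type u} [AddCommGroup V] [Module K V]
    {ι : Type} [Finite ι] (v : ι → V) (k : ℕ)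
    (h : k ≤ finrank K (Submodule.span K (Set.range v))) :
    ∃ f : Fin k → ι, LinearIndependent K (v ∘ f) := by
  classical
  cases nonempty_fintype ι
  obtain ⟨κ, a, ha, hspan, hli⟩ := exists_linearIndependent' K v
  haveI : Finite κ := Finite.of_injective a ha
  cases nonempty_fintype κ
  have hcard : Fintype.card κ = finrank K (Submodule.span K (Set.range v)) := by
    rw [← hspan]
    exact linearIndependent_iff_card_eq_finrank_span.mp hli
  have hk : k ≤ Fintype.card κ := by rw [hcard]; exact h
  obtain ⟨g⟩ : Nonempty (Fin k ↪ κ) := by
    rw [Function.Embedding.nonempty_iff_card_le]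
    simpa using hk
  refine ⟨a ∘ g, ?_⟩
  have := hli.comp g g.injective
  exact this

theorem rank_le_iff_forall_det_eq_zero {N n : ℕ} (Y : Matrix (Fin N) (Fin n) K) (t : ℕ) :
    Y.rank ≤ t ↔ ∀ (f : Fin (t + 1) → Fin N) (g : Fin (t + 1) → Fin n),
      (Y.submatrix f g).det = 0 := by
  constructor
  · intro h f g
    by_contra hne
    have hunit : IsUnit (Y.submatrix f g) := by
      rw [Matrix.isUnit_iff_isUnit_det]
      exact isUnit_iff_ne_zero.mpr hne
    have h1 : (Y.submatrix f g).rank = t + 1 := by
      rw [Matrix.rank_of_isUnit _ hunit, Fintype.card_fin]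
    have h2 := Matrix.rank_submatrix_le Y f g
    omega
  · intro h
    by_contra hlt
    push Not at hlt
    -- independent rows
    have h1 : t + 1 ≤ finrank K (Submodule.span K (Set.range Y.row)) := by
      rw [← Matrix.rank_eq_finrank_span_row]; exact hlt
    obtain ⟨f, hf⟩ := exists_linearIndependent_comp Y.row (t + 1) h1
    set Z := Y.submatrix f id with hZ
    have hZrow : Z.row = Y.row ∘ f := by
      ext i j; rfl
    have hZrank : Z.rank = t + 1 := by
      have : LinearIndependent K Z.row := by rw [hZrow]; exact hf
      rw [this.rank_matrix, Fintype.card_fin]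
    -- independent columns
    have h2 : t + 1 ≤ finrank K (Submodule.span K (Set.range Z.col)) := by
      rw [← Matrix.rank_eq_finrank_span_cols, hZrank]
    obtain ⟨g, hg⟩ := exists_linearIndependent_comp Z.col (t + 1) h2
    have hW : LinearIndependent K (Y.submatrix f g).col := by
      have : (Y.submatrix f g).col = Z.col ∘ g := by
        ext j i; rfl
      rw [this]; exact hg
    have hunit : IsUnit (Y.submatrix f g) := Matrix.linearIndependent_cols_iff_isUnit.mp hW
    rw [Matrix.isUnit_iff_isUnit_det, h f g] at hunit
    exact not_isUnit_zero hunit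

end Groth.Agent.Lib.helper2.SB
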