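import Mathlib
import Groth.Agent.Lib.Helper2.SB2

/-!
# Serre splitting / Bass cancellation, part 3 (helper2): the Eisenbud–Evans theorem for vectors

`exists_basic_combination`: for a set `X` of primes with a dimension function `d`, vectors
`m 0, …, m u'` of `R^N` which are `min (u'+1) (d p + 1)`-fold basic at every `p ∈ X`, and `a ∈ R`
with `(a, m 0)` basic, some `m 0 + a • ∑ c i • m (i+1)` is basic at every `p ∈ X`.
-/

set_option autoImplicit false
universe u

namespace Groth.Agent.Lib.helper2.SB

open Module

variable {R : Type u} [CommRing R] {N : ℕ}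

/-- the family `m i + a' i • m last` -/
def modFam {u' : ℕ} (m : Fin (u' + 2) → (Fin N → R)) (a' : Fin (u' + 1) → R) :
    Fin (u' + 1) → (Fin N → R) :=
  fun i => m i.castSucc + a' i • m (Fin.last (u' + 1))

theorem span_le_sup_modFam (p : PrimeSpectrum R) {u' : ℕ} (m : Fin (u' + 2) → (Fin N → R))
    (a' : Fin (u' + 1) → R) :
    Submodule.span (kap p) (Set.range fun i => red p (m i)) ≤
      Submodule.span (kap p) (Set.range fun i => red p (modFam m a' i)) ⊔
        Submodule.span (kap p) {red p (m (Fin.last (u' + 1)))} := by
  rw [Submodule.span_le]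
  rintro _ ⟨i, rfl⟩
  induction i using Fin.lastCases with
  | last =>
    exact Submodule.mem_sup_right (Submodule.subset_span rfl)
  | cast j =>
    have h1 : red p (m j.castSucc) = red p (modFam m a' j) -
        algebraMap R (kap p) (a' j) • red p (m (Fin.last (u' + 1))) := by
      rw [modFam, map_add, red_smul, add_sub_cancel_right]
    show red p (m j.castSucc) ∈ _
    rw [h1]
    exact Submodule.sub_mem _ (Submodule.mem_sup_left (Submodule.subset_span ⟨j, rfl⟩))
      (Submodule.mem_sup_right (Submodule.smul_mem _ _ (Submodule.subset_span rfl)))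

theorem rk_le_rk_modFam_add_one (p : PrimeSpectrum R) {u' : ℕ}
    (m : Fin (u' + 2) → (Fin N → R)) (a' : Fin (u' + 1) → R) :
    rk p m ≤ rk p (modFam m a') + 1 := by
  unfold rk
  refine (Submodule.finrank_mono (span_le_sup_modFam p m a')).trans ?_
  refine (Submodule.finrank_add_le_finrank_add_finrank _ _).trans ?_
  have : finrank (kap p) (Submodule.span (kap p) {red p (m (Fin.last (u' + 1)))}) ≤ 1 := by
    refine (finrank_span_le_card _).trans ?_
    simp
  omega

theorem rk_le_rk_modFam_of_mem (p : PrimeSpectrum R) {u' : ℕ}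
    (m : Fin (u' + 2) → (Fin N → R)) (a' : Fin (u' + 1) → R)
    (h : red p (m (Fin.last (u' + 1))) ∈
      Submodule.span (kap p) (Set.range fun i => red p (modFam m a' i))) :
    rk p m ≤ rk p (modFam m a') := by
  unfold rk
  apply Submodule.finrank_mono
  refine (span_le_sup_modFam p m a').trans ?_
  rw [sup_le_iff]
  refine ⟨le_rfl, ?_⟩
  rw [Submodule.span_le, Set.singleton_subset_iff]
  exact h

variable (X : Set (PrimeSpectrum R)) (d : PrimeSpectrum R → ℕ)

theorem exists_basic_combination
    (H1 : ∀ p ∈ X, ∀ q ∈ X, p.asIdeal < q.asIdeal → d q < d p)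
    (H2 : ∀ (u : ℕ) (m : Fin u → (Fin N → R)) (t : ℕ),
      {p | p ∈ X ∧ rk p m ≤ t ∧ ∀ q ∈ X, q.asIdeal < p.asIdeal → t < rk q m}.Finite) :
    ∀ (u' : ℕ) (m : Fin (u' + 1) → (Fin N → R)) (a : R),
      (∀ p ∈ X, min (u' + 1) (d p + 1) ≤ rk p m) →
      (∀ p ∈ X, a ∈ p.asIdeal → red p (m 0) ≠ 0) →
      ∃ c : Fin u' → R, ∀ p ∈ X, red p (m 0 + a • ∑ i, c i • m i.succ) ≠ 0 := by
  classical
  intro u'
  induction u' with
  | zero =>
    intro m a hrk _
    refine ⟨Fin.elim0, fun p hp => ?_⟩
    have h1 : 1 ≤ rk p m := by
      have := hrk p hp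
      have h2 : min (0 + 1) (d p + 1) = 1 := by omega
      omega
    simpa using red_ne_zero_of_rk_pos p m h1
  | succ u' ih =>
    intro m a hrk hbasic
    -- trouble primes
    set T : Set (PrimeSpectrum R) := {p | p ∈ X ∧ rk p m ≤ min (u' + 1) (d p + 1)} with hT
    have hTfin : T.Finite := by
      have hsub : T ⊆ ⋃ t ∈ Finset.range (u' + 2),
          {p | p ∈ X ∧ rk p m ≤ t ∧ ∀ q ∈ X, q.asIdeal < p.asIdeal → t < rk q m} := by
        rintro p ⟨hpX, hpT⟩
        simp only [Set.mem_iUnion, Finset.mem_range, Set.mem_ofPred_eq, exists_prop]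
        refine ⟨rk p m, by omega, hpX, le_rfl, fun q hqX hqp => ?_⟩
        by_contra hcon
        push Not at hcon
        have h1 := hrk q hqX
        have h2 := H1 q hqX p hpX hqp
        omega
      refine Set.Finite.subset ?_ hsub
      exact Set.Finite.biUnion (Finset.finite_toSet _) fun t _ => H2 _ m t
    -- local data at trouble primes
    have hloc : ∀ p : PrimeSpectrum R, ∃ (ct : Fin (u' + 1) → kap p) (cz : kap p),
        (p ∈ T → (ct = 0 → cz ≠ 0)) ∧ (p ∈ T → ∀ b : Fin (u' + 1) → R,
          ∑ i, ct i * algebraMap R (kap p) (b i) ≠ cz →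
          red p (m (Fin.last (u' + 1))) ∈ Submodule.span (kap p)
            (Set.range fun i => red p (modFam m (Function.update b 0 (a * b 0)) i))) := by
      intro p
      by_cases hpT : p ∈ T
      · obtain ⟨hpX, hpr⟩ := hpT
        have hdim : finrank (kap p) (Submodule.span (kap p) (Set.range
            (Fin.snoc (fun i : Fin (u' + 1) => red p (m i.castSucc))
              (red p (m (Fin.last (u' + 1)))) : Fin (u' + 2) → (Fin N → kap p)))) ≤ u' + 1 := by
          have : (Fin.snoc (fun i : Fin (u' + 1) => red p (m i.castSucc))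
              (red p (m (Fin.last (u' + 1)))) : Fin (u' + 2) → (Fin N → kap p)) =
              fun i => red p (m i) := by
            ext i : 1
            induction i using Fin.lastCases with
            | last => simp
            | cast j => simp
          rw [this]
          have : rk p m ≤ u' + 1 := hpr.trans (min_le_left _ _)
          exact this
        obtain ⟨ct, cz, h1, h2⟩ := exists_functional_avoid
          (fun i : Fin (u' + 1) => red p (m i.castSucc)) (red p (m (Fin.last (u' + 1))))
          (algebraMap R (kap p) a) hdim (by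
            intro ha0
            rw [Ideal.algebraMap_residueField_eq_zero] at ha0
            have := hbasic p hpX ha0
            simpa using this)
        refine ⟨ct, cz, fun _ => h1, fun _ b hb => ?_⟩
        have h3 := h2 (fun i => algebraMap R (kap p) (b i)) hb
        have hfun : (fun i => red p (modFam m (Function.update b 0 (a * b 0)) i)) =
            fun i : Fin (u' + 1) => red p (m i.castSucc) +
              (if i = 0 then algebraMap R (kap p) a * algebraMap R (kap p) (b 0)
                else algebraMap R (kap p) (b i)) • red p (m (Fin.last (u' + 1))) := by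
          funext i
          show red p (m i.castSucc + _ • m (Fin.last (u' + 1))) = _
          rw [map_add, red_smul]
          congr 2
          by_cases hi : i = 0
          · subst hi; simp
          · simp [hi]
        rw [hfun]
        exact h3
      · exact ⟨0, 1, fun h => absurd h hpT, fun h => absurd h hpT⟩
    choose ct cz hct hgood using hloc
    obtain ⟨b, hb⟩ := exists_avoid_affine (u' + 1) hTfin.toFinset ct cz
      (fun p hp => hct p (hTfin.mem_toFinset.mp hp))
    set a' : Fin (u' + 1) → R := Function.update b 0 (a * b 0) with ha'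
    -- the new family satisfies the hypotheses
    have hrk' : ∀ p ∈ X, min (u' + 1) (d p + 1) ≤ rk p (modFam m a') := by
      intro p hpX
      by_cases hpT : p ∈ T
      · have h1 := hgood p hpT b (hb p (hTfin.mem_toFinset.mpr hpT))
        have h2 := rk_le_rk_modFam_of_mem p m a' h1
        have h3 := hrk p hpX
        omega
      · have h1 : ¬ rk p m ≤ min (u' + 1) (d p + 1) := fun h => hpT ⟨hpX, h⟩
        have h2 := rk_le_rk_modFam_add_one p m a'
        omega
    have hbasic' : ∀ p ∈ X, a ∈ p.asIdeal → red p (modFam m a' 0) ≠ 0 := by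
      intro p hpX ha
      have h1 : red p (modFam m a' 0) = red p (m 0) := by
        rw [modFam, map_add, ha', Function.update_self, mul_smul, red_smul_of_mem p ha, add_zero]
        rfl
      rw [h1]
      exact hbasic p hpX ha
    obtain ⟨c', hc'⟩ := ih (modFam m a') a hrk' hbasic'
    -- assemble
    refine ⟨Fin.snoc c' (b 0 + ∑ i, c' i * a' i.succ), fun p hpX => ?_⟩
    have hkey : m 0 + a • ∑ i, (Fin.snoc c' (b 0 + ∑ i, c' i * a' i.succ) : Fin (u' + 1) → R) i •
        m i.succ = modFam m a' 0 + a • ∑ i, c' i • modFam m a' i.succ := by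
      rw [Fin.sum_univ_castSucc]
      simp only [Fin.snoc_castSucc, Fin.snoc_last, modFam, Fin.succ_last]
      have h0 : a' 0 = a * b 0 := by rw [ha', Function.update_self]
      rw [h0]
      simp only [smul_add, Finset.sum_add_distrib, add_smul, Finset.sum_smul, mul_smul,
        Fin.castSucc_zero, Fin.succ_castSucc]
      abel
    rw [hkey]
    exact hc' p hpX

end Groth.Agent.Lib.helper2.SB
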