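import Mathlib
import Groth.Prelude.Def_CAlgX
import Groth.Agent.Lib.Helper2.SB1
import Groth.Agent.Lib.Helper2.SB3

/-!
# Serre splitting / Bass cancellation, part 4 (helper2): the Noetherian case

* `rk_le_iff_minorIdeal_le`: rank modulo `p` and determinantal ideals.
* `finite_minimal_rk_le`: hypothesis `H2` of `exists_basic_combination` over a Noetherian ring.
* `exists_basic_combination_of_ringKrullDim`: the stable range theorem for vectors over a
  Noetherian ring of finite Krull dimension.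
-/

set_option autoImplicit false
universe u

namespace Groth.Agent.Lib.helper2.SB

open Module CAlgX

variable {R : Type u} [CommRing R] {N : ℕ}

/-- the matrix whose columns are the vectors of the family -/
def colMat {u : ℕ} (m : Fin u → (Fin N → R)) : Matrix (Fin N) (Fin u) R :=
  Matrix.of fun i j => m j i

theorem rk_eq_rank (p : PrimeSpectrum R) {u : ℕ} (m : Fin u → (Fin N → R)) :
    rk p m = ((colMat m).map (algebraMap R (kap p))).rank := by
  rw [Matrix.rank_eq_finrank_span_cols, rk]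
  rfl

theorem rk_le_iff_minorIdeal_le (p : PrimeSpectrum R) {u : ℕ} (m : Fin u → (Fin N → R))
    (t : ℕ) : rk p m ≤ t ↔ minorIdeal (colMat m) (t + 1) ≤ p.asIdeal := by
  rw [rk_eq_rank, rank_le_iff_forall_det_eq_zero]
  unfold minorIdeal
  rw [Ideal.span_le]
  constructor
  · rintro h _ ⟨⟨f, g⟩, rfl⟩
    have := h f g
    rw [Matrix.submatrix_map, ← RingHom.mapMatrix_apply, ← RingHom.map_det,
      Ideal.algebraMap_residueField_eq_zero] at this
    exact this
  · intro h f g
    rw [Matrix.submatrix_map, ← RingHom.mapMatrix_apply, ← RingHom.map_det,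
      Ideal.algebraMap_residueField_eq_zero]
    exact h ⟨(f, g), rfl⟩

variable [IsNoetherianRing R]

theorem finite_minimal_rk_le (X : Set (PrimeSpectrum R))
    (hX : ∀ p ∈ X, ∀ q : PrimeSpectrum R, q.asIdeal ≤ p.asIdeal → q ∈ X)
    (u : ℕ) (m : Fin u → (Fin N → R)) (t : ℕ) :
    {p | p ∈ X ∧ rk p m ≤ t ∧ ∀ q ∈ X, q.asIdeal < p.asIdeal → t < rk q m}.Finite := by
  set I := minorIdeal (colMat m) (t + 1) with hI
  have hfin : {p : PrimeSpectrum R | p.asIdeal ∈ I.minimalPrimes}.Finite := by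
    have h1 := Ideal.finite_minimalPrimes_of_isNoetherianRing R I
    refine Set.Finite.of_injOn (f := PrimeSpectrum.asIdeal) (fun p hp => hp) ?_ h1
    intro p _ q _ hpq
    exact PrimeSpectrum.ext hpq
  refine hfin.subset ?_
  rintro p ⟨hpX, hpr, hmin⟩
  have hIp : I ≤ p.asIdeal := (rk_le_iff_minorIdeal_le p m t).mp hpr
  refine ⟨⟨p.isPrime, hIp⟩, ?_⟩
  rintro q ⟨hqprime, hIq⟩ hqp
  by_contra hne
  have hlt : q < p.asIdeal := lt_of_le_not_ge hqp hne
  have hqX : (⟨q, hqprime⟩ : PrimeSpectrum R) ∈ X := hX p hpX ⟨q, hqprime⟩ hqp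
  have h1 := hmin ⟨q, hqprime⟩ hqX hlt
  have h2 : rk (⟨q, hqprime⟩ : PrimeSpectrum R) m ≤ t :=
    (rk_le_iff_minorIdeal_le ⟨q, hqprime⟩ m t).mpr hIq
  omega

/-- The stable range theorem for vectors over a Noetherian ring of Krull dimension `D`. -/
theorem exists_basic_combination_of_ringKrullDim (D : ℕ) (hD : ringKrullDim R = D)
    (u' : ℕ) (m : Fin (u' + 1) → (Fin N → R)) (a : R)
    (hrk : ∀ p : PrimeSpectrum R, min (u' + 1) (D + 1) ≤ rk p m)
    (hbasic : ∀ p : PrimeSpectrum R, a ∈ p.asIdeal → red p (m 0) ≠ 0) :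
    ∃ c : Fin u' → R, ∀ p : PrimeSpectrum R, red p (m 0 + a • ∑ i, c i • m i.succ) ≠ 0 := by
  set d : PrimeSpectrum R → ℕ := fun p => D - p.asIdeal.height.toNat with hd
  have hht : ∀ p : PrimeSpectrum R, p.asIdeal.height.toNat ≤ D := by
    intro p
    have h1 : (p.asIdeal.height : WithBot ℕ∞) ≤ ringKrullDim R :=
      Ideal.height_le_ringKrullDim_of_isPrime
    rw [hD] at h1
    have h2 : p.asIdeal.height ≤ (D : ℕ∞) := by exact_mod_cast h1
    exact ENat.toNat_le_of_le_natCast h2
  have H1 : ∀ p ∈ (Set.univ : Set (PrimeSpectrum R)), ∀ q ∈ (Set.univ : Set (PrimeSpectrum R)),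
      p.asIdeal < q.asIdeal → d q < d p := by
    intro p _ q _ hpq
    have h1 : p.asIdeal.height < q.asIdeal.height := Ideal.height_strict_mono_of_isPrime hpq
    have h2 : p.asIdeal.height.toNat < q.asIdeal.height.toNat := by
      obtain ⟨a, ha⟩ := ENat.ne_top_iff_exists.mp
        (Ideal.height_ne_top_of_isPrime (I := p.asIdeal))
      obtain ⟨b, hb⟩ := ENat.ne_top_iff_exists.mp
        (Ideal.height_ne_top_of_isPrime (I := q.asIdeal))
      rw [← ha, ← hb] at h1 ⊢
      simpa using h1
    have h3 := hht q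
    simp only [hd]
    omega
  obtain ⟨c, hc⟩ := exists_basic_combination (Set.univ) d H1
    (finite_minimal_rk_le Set.univ (fun _ _ _ _ => Set.mem_univ _)) u' m a
    (fun p _ => by
      have := hrk p
      have h2 : d p + 1 ≤ D + 1 := by simp only [hd]; omega
      omega)
    (fun p _ => hbasic p)
  exact ⟨c, fun p => hc p (Set.mem_univ p)⟩

end Groth.Agent.Lib.helper2.SB
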