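import Mathlib
import Groth.Prelude.Def_CAlgX
import Groth.Agent.Lib.Helper2.SB4

/-!
# Serre splitting / Bass cancellation, part 5 (helper2): stable range for projective modules
-/

set_option autoImplicit false
universe u

namespace Groth.Agent.Lib.helper2.SB

open Module TensorProduct

variable {R : Type u} [CommRing R] {N : ℕ}
variable {P : Type u} [AddCommGroup P] [Module R P]

/-- family of vectors attached to a presentation of `P` as a retract of `R^N` -/
def retFam (s : (Fin N → R) →ₗ[R] P) (i : P →ₗ[R] (Fin N → R)) : Fin N → (Fin N → R) :=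
  fun j => i (s (Pi.single j 1))

theorem sum_smul_single (v : Fin N → R) : ∑ j, v j • (Pi.single j (1 : R) : Fin N → R) = v := by
  classical
  ext k
  simp [Pi.single_apply]

theorem eq_sum_of_comp_eq_id (s : (Fin N → R) →ₗ[R] P) (i : P →ₗ[R] (Fin N → R))
    (hsi : s ∘ₗ i = LinearMap.id) (x : P) :
    x = ∑ j, (i x) j • s (Pi.single j 1) := by
  have h1 : s (i x) = x := by
    have := LinearMap.congr_fun hsi x
    simpa using this
  conv_lhs => rw [← h1, ← sum_smul_single (i x)]
  rw [map_sum]
  simp only [map_smul]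

/-- the comparison map `κ(p) ⊗ P → κ(p)^N` -/
noncomputable def fibMap (p : PrimeSpectrum R) (i : P →ₗ[R] (Fin N → R)) :
    kap p ⊗[R] P →ₗ[kap p] (Fin N → kap p) :=
  (TensorProduct.piScalarRight R (kap p) (kap p) (Fin N)).toLinearMap ∘ₗ (i.baseChange (kap p))

theorem fibMap_tmul (p : PrimeSpectrum R) (i : P →ₗ[R] (Fin N → R)) (c : kap p) (x : P) :
    fibMap p i (c ⊗ₜ x) = c • red p (i x) := by
  ext j
  simp only [fibMap, LinearMap.coe_comp, LinearEquiv.coe_coe, Function.comp_apply,
    LinearMap.baseChange_tmul, piScalarRight_apply, piScalarRightHom_tmul, Pi.smul_apply,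
    red_apply, smul_eq_mul]
  rw [Algebra.smul_def, mul_comm]

theorem fibMap_injective (p : PrimeSpectrum R) (s : (Fin N → R) →ₗ[R] P)
    (i : P →ₗ[R] (Fin N → R)) (hsi : s ∘ₗ i = LinearMap.id) :
    Function.Injective (fibMap (N := N) p i) := by
  have hinj : Function.Injective (i.baseChange (kap p)) := by
    apply Function.LeftInverse.injective (g := s.baseChange (kap p))
    intro t
    have : (s.baseChange (kap p)) ∘ₗ (i.baseChange (kap p)) = LinearMap.id := by
      rw [← LinearMap.baseChange_comp, hsi, LinearMap.baseChange_id]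
    exact LinearMap.congr_fun this t
  exact (TensorProduct.piScalarRight R (kap p) (kap p) (Fin N)).injective.comp hinj

theorem range_fibMap (p : PrimeSpectrum R) (s : (Fin N → R) →ₗ[R] P)
    (i : P →ₗ[R] (Fin N → R)) (hsi : s ∘ₗ i = LinearMap.id) :
    LinearMap.range (fibMap (N := N) p i) =
      Submodule.span (kap p) (Set.range fun j => red p (retFam s i j)) := by
  apply le_antisymm
  · rintro _ ⟨t, rfl⟩
    induction t using TensorProduct.induction_on with
    | zero => simp
    | add a b ha hb => rw [map_add]; exact Submodule.add_mem _ ha hb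
    | tmul c x =>
      rw [fibMap_tmul]
      apply Submodule.smul_mem
      have hx := eq_sum_of_comp_eq_id s i hsi x
      rw [hx, map_sum, map_sum]
      apply Submodule.sum_mem
      intro j _
      rw [map_smul, red_smul]
      apply Submodule.smul_mem
      exact Submodule.subset_span ⟨j, rfl⟩
  · rw [Submodule.span_le]
    rintro _ ⟨j, rfl⟩
    refine ⟨(1 : kap p) ⊗ₜ s (Pi.single j 1), ?_⟩
    rw [fibMap_tmul, one_smul]
    rfl

theorem rk_retFam [Module.Finite R P] [Module.Projective R P] (s : (Fin N → R) →ₗ[R] P)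
    (i : P →ₗ[R] (Fin N → R)) (hsi : s ∘ₗ i = LinearMap.id) (p : PrimeSpectrum R) :
    rk p (retFam s i) = Module.rankAtStalk P p := by
  rw [rk, ← range_fibMap p s i hsi, LinearMap.finrank_range_of_inj (fibMap_injective p s i hsi),
    Module.rankAtStalk_eq]

theorem rk_mono (p : PrimeSpectrum R) {u v : ℕ} (m : Fin u → (Fin N → R))
    (m' : Fin v → (Fin N → R)) (h : ∀ j, ∃ k, m' k = m j) : rk p m ≤ rk p m' := by
  unfold rk
  apply Submodule.finrank_mono
  apply Submodule.span_mono
  rintro _ ⟨j, rfl⟩
  obtain ⟨k, hk⟩ := h j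
  exact ⟨k, by simp only [hk]⟩

/-- unimodularity from non-vanishing of all reductions -/
theorem exists_functional_of_red_ne_zero (v : Fin N → R)
    (h : ∀ p : PrimeSpectrum R, red p v ≠ 0) : ∃ b : Fin N → R, ∑ j, b j * v j = 1 := by
  have htop : Ideal.span (Set.range v) = ⊤ := by
    by_contra hne
    obtain ⟨M, hM, hle⟩ := Ideal.exists_le_maximal _ hne
    apply h ⟨M, hM.isPrime⟩
    rw [red_eq_zero_iff]
    intro j
    exact hle (Ideal.subset_span ⟨j, rfl⟩)
  have h1 : (1 : R) ∈ Ideal.span (Set.range v) := by rw [htop]; trivial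
  rw [Ideal.mem_span_range_iff_exists_fun] at h1
  obtain ⟨b, hb⟩ := h1
  exact ⟨b, hb⟩

/-- **Stable range for projective modules** (Bass/Serre): over a Noetherian ring of Krull dimension
`D`, if `P` is f.g. projective of rank `≥ D+1` everywhere and `(x, a)` is unimodular in `P × R`,
then `x + a • q` is unimodular in `P` for some `q`. -/
theorem exists_unimodular_add [IsNoetherianRing R] [Module.Finite R P] [Module.Projective R P]
    (D : ℕ) (hD : ringKrullDim R = D)
    (hrk : ∀ p : PrimeSpectrum R, D + 1 ≤ Module.rankAtStalk P p)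
    (x : P) (a : R) (φ : P →ₗ[R] R) (r : R) (h : r * a + φ x = 1) :
    ∃ (q : P) (ψ : P →ₗ[R] R), ψ (x + a • q) = 1 := by
  obtain ⟨N, s, i, -, -, hsi⟩ := Module.Finite.exists_comp_eq_id_of_projective R P
  set M : Fin (N + 1) → (Fin N → R) := Fin.cons (i x) (retFam s i) with hM
  have hrkM : ∀ p : PrimeSpectrum R, min (N + 1) (D + 1) ≤ rk p M := by
    intro p
    have h1 : rk p (retFam s i) ≤ rk p M :=
      rk_mono p _ _ (fun j => ⟨j.succ, by simp [hM]⟩)
    rw [rk_retFam s i hsi p] at h1
    exact (min_le_right _ _).trans ((hrk p).trans h1)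
  have hbasic : ∀ p : PrimeSpectrum R, a ∈ p.asIdeal → red p (M 0) ≠ 0 := by
    intro p hap h0
    have hM0 : M 0 = i x := by simp [hM]
    rw [hM0, red_eq_zero_iff] at h0
    have hφ : φ x ∈ p.asIdeal := by
      rw [eq_sum_of_comp_eq_id s i hsi x, map_sum]
      apply Ideal.sum_mem
      intro j _
      rw [map_smul, smul_eq_mul]
      exact Ideal.mul_mem_right _ _ (h0 j)
    have h1 : (1 : R) ∈ p.asIdeal := by
      rw [← h]
      exact Ideal.add_mem _ (Ideal.mul_mem_left _ _ hap) hφ
    exact p.isPrime.ne_top ((Ideal.eq_top_iff_one _).mpr h1)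
  obtain ⟨c, hc⟩ := exists_basic_combination_of_ringKrullDim D hD N M a hrkM hbasic
  set q : P := ∑ j, c j • s (Pi.single j 1) with hq
  have hv : i (x + a • q) = M 0 + a • ∑ j, c j • M j.succ := by
    have hM0 : M 0 = i x := by simp [hM]
    have hMs : ∀ j : Fin N, M j.succ = i (s (Pi.single j 1)) := by
      intro j; simp [hM, retFam]
    rw [hM0, map_add, map_smul, hq, map_sum]
    simp only [map_smul, hMs]
  obtain ⟨b, hb⟩ := exists_functional_of_red_ne_zero (i (x + a • q)) (by rw [hv]; exact hc)
  refine ⟨q, (∑ j, b j • LinearMap.proj j) ∘ₗ i, ?_⟩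
  rw [LinearMap.comp_apply, LinearMap.sum_apply, ← hb]
  refine Finset.sum_congr rfl fun j _ => ?_
  simp

end Groth.Agent.Lib.helper2.SB
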