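import Mathlib
import Groth.Prelude.Def_CAlgX
import Groth.Agent.Lib.Helper2.SB4
import Groth.Agent.Lib.Helper2.SBG1

/-!
# Eisenbud–Evans basic elements modulo relations (helper2)

For relations `k : Fin L → R^N`, `Wq k p = κ(p)^N / span (red p k)` and
`rhoQ k p : R^N → Wq k p`.  Rank of a family modulo the relations, and finiteness of minimal primes
of the rank loci.
-/

set_option autoImplicit false
universe u

namespace Groth.Agent.Lib.helper2.SBG

open Module Groth.Agent.Lib.helper2.SB

variable {R : Type u} [CommRing R] {N L : ℕ}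

/-- semilinear version of `red` -/
noncomputable def redS (p : PrimeSpectrum R) :
    (Fin N → R) →ₛₗ[algebraMap R (kap p)] (Fin N → kap p) where
  toFun v := red p v
  map_add' := map_add _
  map_smul' r v := red_smul p r v

theorem redS_apply (p : PrimeSpectrum R) (v : Fin N → R) : redS p v = red p v := rfl

/-- span of the reduced relations -/
noncomputable def Kp (k : Fin L → (Fin N → R)) (p : PrimeSpectrum R) :
    Submodule (kap p) (Fin N → kap p) :=
  Submodule.span (kap p) (Set.range fun j => red p (k j))

/-- the quotient of `κ(p)^N` by the relations -/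
abbrev Wq (k : Fin L → (Fin N → R)) (p : PrimeSpectrum R) : Type u :=
  (Fin N → kap p) ⧸ Kp k p

/-- reduction modulo `p` and the relations -/
noncomputable def rhoQ (k : Fin L → (Fin N → R)) (p : PrimeSpectrum R) :
    (Fin N → R) →ₛₗ[algebraMap R (kap p)] Wq k p :=
  (Kp k p).mkQ.comp (redS p)

theorem rhoQ_apply (k : Fin L → (Fin N → R)) (p : PrimeSpectrum R) (v : Fin N → R) :
    rhoQ k p v = (Kp k p).mkQ (red p v) := rfl

theorem rhoQ_eq_zero_iff (k : Fin L → (Fin N → R)) (p : PrimeSpectrum R) (v : Fin N → R) :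
    rhoQ k p v = 0 ↔ red p v ∈ Kp k p := by
  rw [rhoQ_apply, Submodule.mkQ_apply, Submodule.Quotient.mk_eq_zero]

theorem span_append (k : Fin L → (Fin N → R)) (p : PrimeSpectrum R) {u : ℕ}
    (m : Fin u → (Fin N → R)) :
    Submodule.span (kap p) (Set.range fun i => red p (Fin.append k m i)) =
      Submodule.span (kap p) (Set.range fun i => red p (m i)) ⊔ Kp k p := by
  apply le_antisymm
  · rw [Submodule.span_le]
    rintro _ ⟨i, rfl⟩
    induction i using Fin.addCases with
    | left j =>
      show red p (Fin.append k m (Fin.castAdd u j)) ∈ _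
      rw [Fin.append_left]
      exact Submodule.mem_sup_right (Submodule.subset_span ⟨j, rfl⟩)
    | right j =>
      show red p (Fin.append k m (Fin.natAdd L j)) ∈ _
      rw [Fin.append_right]
      exact Submodule.mem_sup_left (Submodule.subset_span ⟨j, rfl⟩)
  · rw [sup_le_iff]
    constructor
    · rw [Submodule.span_le]
      rintro _ ⟨j, rfl⟩
      exact Submodule.subset_span ⟨Fin.natAdd L j, by simp only [Fin.append_right]⟩
    · unfold Kp
      rw [Submodule.span_le]
      rintro _ ⟨j, rfl⟩
      exact Submodule.subset_span ⟨Fin.castAdd u j, by simp only [Fin.append_left]⟩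

theorem rkG_rhoQ_add (k : Fin L → (Fin N → R)) (p : PrimeSpectrum R) {u : ℕ}
    (m : Fin u → (Fin N → R)) :
    rkG (rhoQ k) p m + rk p k = rk p (Fin.append k m) := by
  set K := Kp k p with hK
  set S := Submodule.span (kap p) (Set.range fun i => red p (m i)) with hS
  set T := S ⊔ K with hT
  have h1 : rkG (rhoQ k) p m = finrank (kap p) (T.map K.mkQ) := by
    unfold rkG
    have : (Set.range fun i => rhoQ k p (m i)) = K.mkQ '' (Set.range fun i => red p (m i)) := by
      ext w
      simp only [Set.mem_range, Set.mem_image, exists_exists_eq_and]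
      rfl
    have heq : Submodule.span (kap p) (Set.range fun i => rhoQ k p (m i)) = T.map K.mkQ := by
      rw [this, ← Submodule.map_span, hT, Submodule.map_sup, Submodule.mkQ_map_self, sup_bot_eq]
    rw [heq]
  have h2 : rk p k = finrank (kap p) K := rfl
  have h3 : rk p (Fin.append k m) = finrank (kap p) T := by
    unfold rk
    rw [span_append]
  rw [h1, h2, h3]
  have hKT : K ≤ T := le_sup_right
  have h4 := LinearMap.finrank_range_add_finrank_ker (K.mkQ.domRestrict T)
  rw [LinearMap.range_domRestrict] at h4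
  have h5 : LinearMap.ker (K.mkQ.domRestrict T) = K.comap T.subtype := by
    ext x
    simp [LinearMap.domRestrict_apply]
  rw [h5, (Submodule.comapSubtypeEquivOfLe hKT).finrank_eq] at h4
  exact h4

theorem rk_anti (k : Fin L → (Fin N → R)) {p q : PrimeSpectrum R}
    (hqp : q.asIdeal ≤ p.asIdeal) : rk p k ≤ rk q k := by
  rw [rk_le_iff_minorIdeal_le]
  exact ((rk_le_iff_minorIdeal_le q k (rk q k)).mp le_rfl).trans hqp

theorem rk_le_card (k : Fin L → (Fin N → R)) (p : PrimeSpectrum R) : rk p k ≤ L := by
  unfold rk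
  exact (finrank_range_le_card (R := kap p) (fun j => red p (k j))).trans (by simp)

theorem finite_minimal_rkG_le [IsNoetherianRing R] (k : Fin L → (Fin N → R))
    (X : Set (PrimeSpectrum R))
    (hX : ∀ p ∈ X, ∀ q : PrimeSpectrum R, q.asIdeal ≤ p.asIdeal → q ∈ X)
    (u : ℕ) (m : Fin u → (Fin N → R)) (t : ℕ) :
    {p | p ∈ X ∧ rkG (rhoQ k) p m ≤ t ∧
      ∀ q ∈ X, q.asIdeal < p.asIdeal → t < rkG (rhoQ k) q m}.Finite := by
  have hsub : {p | p ∈ X ∧ rkG (rhoQ k) p m ≤ t ∧
      ∀ q ∈ X, q.asIdeal < p.asIdeal → t < rkG (rhoQ k) q m} ⊆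
      ⋃ s ∈ Finset.range (L + 1), {p | p ∈ X ∧ rk p (Fin.append k m) ≤ t + s ∧
        ∀ q ∈ X, q.asIdeal < p.asIdeal → t + s < rk q (Fin.append k m)} := by
    rintro p ⟨hpX, hpr, hmin⟩
    simp only [Set.mem_iUnion, Finset.mem_range, Set.mem_ofPred_eq, exists_prop]
    refine ⟨rk p k, Nat.lt_succ_of_le (rk_le_card k p), hpX, ?_, fun q hqX hqp => ?_⟩
    · rw [← rkG_rhoQ_add]; omega
    · have h1 := hmin q hqX hqp
      have h2 := rk_anti k hqp.le
      rw [← rkG_rhoQ_add]; omega
  refine Set.Finite.subset ?_ hsub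
  exact Set.Finite.biUnion (Finset.finite_toSet _) fun s _ =>
    finite_minimal_rk_le X hX _ (Fin.append k m) (t + s)

/-- the standard basis has full rank modulo the relations -/
theorem rkG_rhoQ_single (k : Fin L → (Fin N → R)) (p : PrimeSpectrum R) :
    rkG (rhoQ k) p (fun i : Fin N => (Pi.single i (1 : R) : Fin N → R)) =
      finrank (kap p) (Wq k p) := by
  classical
  unfold rkG
  have : Submodule.span (kap p) (Set.range fun i : Fin N =>
      rhoQ k p (Pi.single i (1 : R) : Fin N → R)) = ⊤ := by
    have h1 : (Set.range fun i : Fin N => rhoQ k p (Pi.single i (1 : R) : Fin N → R)) =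
        (Kp k p).mkQ '' (Set.range fun i : Fin N => (Pi.single i (1 : kap p) : Fin N → kap p)) := by
      ext w
      simp only [Set.mem_range, Set.mem_image, exists_exists_eq_and]
      constructor
      · rintro ⟨i, rfl⟩
        refine ⟨i, ?_⟩
        rw [rhoQ_apply]
        congr 1
        ext j
        simp [red_apply, Pi.single_apply, apply_ite]
      · rintro ⟨i, rfl⟩
        refine ⟨i, ?_⟩
        rw [rhoQ_apply]
        congr 1
        ext j
        simp [red_apply, Pi.single_apply, apply_ite]
    rw [h1, ← Submodule.map_span]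
    have h2 : Submodule.span (kap p) (Set.range fun i : Fin N =>
        (Pi.single i (1 : kap p) : Fin N → kap p)) = ⊤ :=
      (Pi.basisFun (kap p) (Fin N)).span_eq ▸ by
        congr 2
        ext i j
        simp [Pi.basisFun_apply]
    rw [h2, Submodule.map_top, Submodule.range_mkQ]
  rw [this, finrank_top]

end Groth.Agent.Lib.helper2.SBG
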