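import Mathlib
import Groth.Prelude.Def_CAlgX
import Groth.Agent.Lib.Helper2.SB5
import Groth.Agent.Lib.Helper2.SBG2
import Groth.Agent.Lib.Helper2.SP1

/-!
# Serre's proposition (helper2), part 4: fibres at arbitrary primes via a presentation

For `π : R^N → M` and a prime `p`: `Bp π p ⊆ κ(p)^N` the common kernel of the functionals induced
by `M* = Hom(M, R)`; ranks modulo `Bp` via determinants; the quotient by `Bp ⊔ span (red p s̃)`.
-/

set_option autoImplicit false
universe u

namespace Groth.Agent.Lib.helper2.SP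

open Module Groth.Agent.Lib.helper2.SB Groth.Agent.Lib.helper2.SBG

variable {R : Type u} [CommRing R] {M : Type u} [AddCommGroup M] [Module R M] {N : ℕ}
variable (π : (Fin N → R) →ₗ[R] M)

/-- the functional on `κ(p)^N` induced by `φ : M → R` -/
noncomputable def psiP (p : PrimeSpectrum R) (φ : M →ₗ[R] R) :
    (Fin N → kap p) →ₗ[kap p] kap p :=
  ∑ j, (algebraMap R (kap p) (φ (π (Pi.single j 1)))) • LinearMap.proj j

theorem psiP_apply (p : PrimeSpectrum R) (φ : M →ₗ[R] R) (w : Fin N → kap p) :
    psiP π p φ w = ∑ j, algebraMap R (kap p) (φ (π (Pi.single j 1))) * w j := by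
  simp [psiP, Algebra.smul_def]

theorem psiP_red (p : PrimeSpectrum R) (φ : M →ₗ[R] R) (v : Fin N → R) :
    psiP π p φ (red p v) = algebraMap R (kap p) (φ (π v)) := by
  rw [psiP_apply]
  conv_rhs => rw [← sum_smul_single v, map_sum, map_sum, map_sum]
  refine Finset.sum_congr rfl fun j _ => ?_
  rw [map_smul, map_smul, smul_eq_mul, map_mul, red_apply, mul_comm]

/-- the common kernel of the functionals induced by `M*` -/
noncomputable def Bp (p : PrimeSpectrum R) : Submodule (kap p) (Fin N → kap p) :=
  ⨅ φ : M →ₗ[R] R, LinearMap.ker (psiP π p φ)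

/-- determinant criterion for independence modulo `Bp` -/
theorem linearIndependent_mkQ_Bp_iff {l : ℕ} (p : PrimeSpectrum R) (w : Fin l → (Fin N → R)) :
    LinearIndependent (kap p) (fun a => (Bp π p).mkQ (red p (w a))) ↔
      ∃ φ : Fin l → (M →ₗ[R] R), (Matrix.of fun a b => φ b (π (w a))).det ∉ p.asIdeal := by
  unfold Bp
  rw [linearIndependent_mkQ_iInf_ker_iff]
  have key : ∀ φ : Fin l → (M →ₗ[R] R),
      (Matrix.of fun a b => psiP π p (φ b) (red p (w a))).det =
        algebraMap R (kap p) (Matrix.of fun a b => φ b (π (w a))).det := by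
    intro φ
    rw [RingHom.map_det]
    congr 1
    ext a b
    simp only [Matrix.of_apply, RingHom.mapMatrix_apply, Matrix.map_apply, psiP_red]
  constructor
  · rintro ⟨φ, hφ⟩
    refine ⟨φ, fun hmem => hφ ?_⟩
    rw [key, Ideal.algebraMap_residueField_eq_zero]
    exact hmem
  · rintro ⟨φ, hφ⟩
    refine ⟨φ, fun h0 => hφ ?_⟩
    rw [key, Ideal.algebraMap_residueField_eq_zero] at h0
    exact h0

/-- rank modulo `Bp` -/
noncomputable def rkB (p : PrimeSpectrum R) {u : ℕ} (w : Fin u → (Fin N → R)) : ℕ :=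
  finrank (kap p) (Submodule.span (kap p) (Set.range fun a => (Bp π p).mkQ (red p (w a))))

theorem le_rkB_iff (p : PrimeSpectrum R) {u : ℕ} (w : Fin u → (Fin N → R)) (r : ℕ) :
    r ≤ rkB π p w ↔ ∃ (f : Fin r → Fin u) (φ : Fin r → (M →ₗ[R] R)),
      (Matrix.of fun a b => φ b (π (w (f a)))).det ∉ p.asIdeal := by
  unfold rkB
  rw [le_finrank_span_iff]
  constructor
  · rintro ⟨f, hf⟩
    exact ⟨f, (linearIndependent_mkQ_Bp_iff π p (w ∘ f)).mp hf⟩
  · rintro ⟨f, hf⟩
    exact ⟨f, (linearIndependent_mkQ_Bp_iff π p (w ∘ f)).mpr hf⟩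

/-- ideal of `r`-minors of a family against `M*` -/
def minI {u : ℕ} (w : Fin u → (Fin N → R)) (r : ℕ) : Ideal R :=
  Ideal.span {d | ∃ (f : Fin r → Fin u) (φ : Fin r → (M →ₗ[R] R)),
    d = (Matrix.of fun a b => φ b (π (w (f a)))).det}

theorem rkB_lt_iff (p : PrimeSpectrum R) {u : ℕ} (w : Fin u → (Fin N → R)) (r : ℕ) :
    rkB π p w < r ↔ minI π w r ≤ p.asIdeal := by
  rw [← not_le, le_rkB_iff, minI, Ideal.span_le]
  constructor
  · intro h d hd
    obtain ⟨f, φ, rfl⟩ := hd
    by_contra hcon
    exact h ⟨f, φ, hcon⟩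
  · rintro h ⟨f, φ, hcon⟩
    exact hcon (h ⟨f, φ, rfl⟩)

theorem rkB_le_card (p : PrimeSpectrum R) {u : ℕ} (w : Fin u → (Fin N → R)) :
    rkB π p w ≤ u := by
  unfold rkB
  exact (finrank_range_le_card (R := kap p) (fun a => (Bp π p).mkQ (red p (w a)))).trans (by simp)

theorem rkB_eq_of_linearIndependent (p : PrimeSpectrum R) {u : ℕ} (w : Fin u → (Fin N → R))
    (h : LinearIndependent (kap p) (fun a => (Bp π p).mkQ (red p (w a)))) : rkB π p w = u := by
  unfold rkB
  rw [finrank_span_eq_card h, Fintype.card_fin]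

/-- general rank bookkeeping for a quotient of `κ(p)^N` -/
theorem finrank_span_mkQ_add (p : PrimeSpectrum R) (K : Submodule (kap p) (Fin N → kap p))
    {u : ℕ} (m : Fin u → (Fin N → R)) :
    finrank (kap p) (Submodule.span (kap p) (Set.range fun a => K.mkQ (red p (m a)))) +
      finrank (kap p) K =
      finrank (kap p)
        (Submodule.span (kap p) (Set.range fun a => red p (m a)) ⊔ K : Submodule _ _) := by
  set S := Submodule.span (kap p) (Set.range fun i => red p (m i)) with hS
  set T := S ⊔ K with hT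
  have heq : Submodule.span (kap p) (Set.range fun a => K.mkQ (red p (m a))) = T.map K.mkQ := by
    have : (Set.range fun a => K.mkQ (red p (m a))) =
        K.mkQ '' (Set.range fun i => red p (m i)) := by
      ext w
      simp only [Set.mem_range, Set.mem_image, exists_exists_eq_and]
    rw [this, ← Submodule.map_span, hT, Submodule.map_sup, Submodule.mkQ_map_self, sup_bot_eq]
  rw [heq]
  have hKT : K ≤ T := le_sup_right
  have h4 := LinearMap.finrank_range_add_finrank_ker (K.mkQ.domRestrict T)
  rw [LinearMap.range_domRestrict] at h4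
  have h5 : LinearMap.ker (K.mkQ.domRestrict T) = K.comap T.subtype := by
    ext x
    simp [LinearMap.domRestrict_apply]
  rw [h5, (Submodule.comapSubtypeEquivOfLe hKT).finrank_eq] at h4
  exact h4

variable {h : ℕ} (st : Fin h → (Fin N → R))

/-- `Bp` together with the reductions of the given sections -/
noncomputable def KpS (p : PrimeSpectrum R) : Submodule (kap p) (Fin N → kap p) :=
  Bp π p ⊔ Submodule.span (kap p) (Set.range fun i => red p (st i))

/-- the quotient `κ(p)^N / KpS` -/
abbrev WpS (p : PrimeSpectrum R) : Type u := (Fin N → kap p) ⧸ KpS π st p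

/-- reduction to `WpS` -/
noncomputable def rhoS (p : PrimeSpectrum R) :
    (Fin N → R) →ₛₗ[algebraMap R (kap p)] WpS π st p :=
  (KpS π st p).mkQ.comp (redS p)

theorem rhoS_apply (p : PrimeSpectrum R) (v : Fin N → R) :
    rhoS π st p v = (KpS π st p).mkQ (red p v) := rfl

theorem rhoS_eq_zero_iff (p : PrimeSpectrum R) (v : Fin N → R) :
    rhoS π st p v = 0 ↔ red p v ∈ KpS π st p := by
  rw [rhoS_apply, Submodule.mkQ_apply, Submodule.Quotient.mk_eq_zero]

/-- rank relation -/
theorem rkG_rhoS_add (p : PrimeSpectrum R) {u : ℕ} (m : Fin u → (Fin N → R)) :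
    rkG (rhoS π st) p m + rkB π p st = rkB π p (Fin.append st m) := by
  have h1 := finrank_span_mkQ_add p (KpS π st p) m
  have h2 := finrank_span_mkQ_add p (Bp π p) st
  have h3 := finrank_span_mkQ_add p (Bp π p) (Fin.append st m)
  rw [SBG.span_append] at h3
  have e1 : (Submodule.span (kap p) (Set.range fun a => red p (m a)) ⊔ KpS π st p) =
      (Submodule.span (kap p) (Set.range fun i => red p (m i)) ⊔ SBG.Kp st p ⊔ Bp π p) := by
    unfold KpS SBG.Kp
    rw [sup_assoc, sup_comm (Bp π p)]
  have e2 : KpS π st p =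
      (Submodule.span (kap p) (Set.range fun a => red p (st a)) ⊔ Bp π p) := by
    unfold KpS
    rw [sup_comm]
  have h1' : rkG (rhoS π st) p m + finrank (kap p) (KpS π st p) =
      finrank (kap p) (Submodule.span (kap p) (Set.range fun a => red p (m a)) ⊔ KpS π st p :
        Submodule _ _) := h1
  rw [e1] at h1'
  rw [e2] at h1'
  unfold rkB
  omega

/-- the standard basis has full rank in `WpS` -/
theorem span_rhoS_eq_top_of (p : PrimeSpectrum R) {u : ℕ} (m : Fin u → (Fin N → R))
    (hm : ∀ j : Fin N, ∃ (i : Fin u) (a : R), a ∉ p.asIdeal ∧ m i = a • Pi.single j (1 : R)) :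
    rkG (rhoS π st) p m = finrank (kap p) (WpS π st p) := by
  classical
  unfold rkG
  have : Submodule.span (kap p) (Set.range fun i => rhoS π st p (m i)) = ⊤ := by
    rw [eq_top_iff]
    rintro y -
    obtain ⟨w, rfl⟩ := Submodule.mkQ_surjective _ y
    have hw : w = ∑ j, w j • red p (Pi.single j (1 : R) : Fin N → R) := by
      ext k
      simp [red_apply, Pi.single_apply, apply_ite]
    rw [hw, map_sum]
    apply Submodule.sum_mem
    intro j _
    rw [map_smul]
    apply Submodule.smul_mem
    obtain ⟨i, a, ha, hia⟩ := hm j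
    have h1 : rhoS π st p (m i) = algebraMap R (kap p) a •
        (KpS π st p).mkQ (red p (Pi.single j (1 : R) : Fin N → R)) := by
      rw [hia, rhoS_apply, red_smul, map_smul]
    have ha' : algebraMap R (kap p) a ≠ 0 := by
      rw [Ne, Ideal.algebraMap_residueField_eq_zero]
      exact ha
    have h2 : (KpS π st p).mkQ (red p (Pi.single j (1 : R) : Fin N → R)) =
        (algebraMap R (kap p) a)⁻¹ • rhoS π st p (m i) := by
      rw [h1, smul_smul, inv_mul_cancel₀ ha', one_smul]
    rw [h2]
    exact Submodule.smul_mem _ _ (Submodule.subset_span ⟨i, rfl⟩)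
  rw [this, finrank_top]

/-- lower bound for the dimension of `WpS` -/
theorem le_finrank_WpS (p : PrimeSpectrum R) (k : ℕ)
    (hk : h + k ≤ finrank (kap p) ((Fin N → kap p) ⧸ Bp π p)) :
    k ≤ finrank (kap p) (WpS π st p) := by
  show k ≤ finrank (kap p) ((Fin N → kap p) ⧸ KpS π st p)
  have h1 := (KpS π st p).finrank_quotient_add_finrank
  have h2 := (Bp π p).finrank_quotient_add_finrank
  have h3 : finrank (kap p) (KpS π st p) ≤ finrank (kap p) (Bp π p) + h := by
    unfold KpS
    refine (Submodule.finrank_add_le_finrank_add_finrank _ _).trans ?_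
    have : finrank (kap p) (Submodule.span (kap p) (Set.range fun i => red p (st i))) ≤ h :=
      (finrank_range_le_card (R := kap p) (fun i => red p (st i))).trans (by simp)
    omega
  omega

/-- dimension of `κ(p)^N / Bp` from a nonvanishing minor -/
theorem le_finrank_quot_Bp (hπ : Function.Surjective π) (p : PrimeSpectrum R) (r : ℕ)
    (t : Fin r → M) (φ : Fin r → (M →ₗ[R] R))
    (hdet : (Matrix.of fun a b => φ b (t a)).det ∉ p.asIdeal) :
    r ≤ finrank (kap p) ((Fin N → kap p) ⧸ Bp π p) := by
  choose w hw using fun a => hπ (t a)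
  have hli : LinearIndependent (kap p) (fun a => (Bp π p).mkQ (red p (w a))) := by
    rw [linearIndependent_mkQ_Bp_iff]
    refine ⟨φ, ?_⟩
    simp only [hw]
    exact hdet
  have := hli.fintype_card_le_finrank
  simpa using this

/-- from `rhoS ≠ 0` to a nonvanishing minor of the extended family -/
theorem exists_det_snoc_notMem (p : PrimeSpectrum R)
    (hst : LinearIndependent (kap p) (fun a => (Bp π p).mkQ (red p (st a))))
    (v : Fin N → R) (hv : rhoS π st p v ≠ 0) :
    ∃ φ : Fin (h + 1) → (M →ₗ[R] R),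
      (Matrix.of fun a b => φ b (π ((Fin.snoc st v : Fin (h + 1) → (Fin N → R)) a))).det ∉
        p.asIdeal := by
  rw [← linearIndependent_mkQ_Bp_iff]
  have hfun : (fun a => (Bp π p).mkQ (red p ((Fin.snoc st v : Fin (h + 1) → (Fin N → R)) a))) =
      Fin.snoc (fun a => (Bp π p).mkQ (red p (st a))) ((Bp π p).mkQ (red p v)) := by
    have := Fin.comp_snoc (fun x : Fin N → R => (Bp π p).mkQ (red p x)) st v
    exact this
  rw [hfun, linearIndependent_finSnoc]
  refine ⟨hst, fun hmem => hv ?_⟩
  rw [rhoS_eq_zero_iff]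
  have h1 : (Set.range fun a => (Bp π p).mkQ (red p (st a))) =
      (Bp π p).mkQ '' (Set.range fun a => red p (st a)) := by
    ext w
    simp only [Set.mem_range, Set.mem_image, exists_exists_eq_and]
  rw [h1, ← Submodule.map_span] at hmem
  have h2 : red p v ∈ Submodule.comap (Bp π p).mkQ
      (Submodule.map (Bp π p).mkQ (Submodule.span (kap p) (Set.range fun a => red p (st a)))) :=
    hmem
  rw [Submodule.comap_map_mkQ] at h2
  exact h2

end Groth.Agent.Lib.helper2.SP
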