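import Mathlib
import Groth.Prelude.Def_CAlgX
import Groth.Agent.Lib.Helper2.SBG1
import Groth.Agent.Lib.Helper2.SP2
import Groth.Agent.Lib.Helper2.SP3
import Groth.Agent.Lib.Helper2.SP4

/-!
# Serre's proposition (helper2), part 5: assembly
-/

set_option autoImplicit false
universe u

namespace Groth.Agent.Lib.helper2.SP

open Module TopologicalSpace Function Groth.Agent.Lib.helper2.SB Groth.Agent.Lib.helper2.SBG

variable {R : Type u} [CommRing R] {M : Type u} [AddCommGroup M] [Module R M]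

theorem exists_crt_element {n : ℕ} (xs : Fin n → MaximalSpectrum R)
    (hxs : Function.Injective xs) (i : Fin n) :
    ∃ e : R, e - 1 ∈ (xs i).asIdeal ∧ ∀ j, j ≠ i → e ∈ (xs j).asIdeal := by
  classical
  have hcop : Pairwise (IsCoprime on fun j => (xs j).asIdeal) := by
    intro a b hab
    haveI := (xs a).isMaximal
    haveI := (xs b).isMaximal
    apply Ideal.isCoprime_of_isMaximal
    intro h
    exact hab (hxs (MaximalSpectrum.ext h))
  obtain ⟨q, hq⟩ := Ideal.quotientInfToPiQuotient_surj hcop (Pi.single i 1)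
  obtain ⟨e, rfl⟩ := Ideal.Quotient.mk_surjective q
  refine ⟨e, ?_, fun j hj => ?_⟩
  · have := congrFun hq i
    rw [Ideal.quotientInfToPiQuotient_mk', Pi.single_eq_same] at this
    rw [← Ideal.Quotient.eq_zero_iff_mem, map_sub, this, map_one, sub_self]
  · have := congrFun hq j
    rw [Ideal.quotientInfToPiQuotient_mk', Pi.single_eq_of_ne hj] at this
    exact Ideal.Quotient.eq_zero_iff_mem.mp this

theorem exists_crt_section {n : ℕ} (xs : Fin n → MaximalSpectrum R)
    (hxs : Function.Injective xs)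
    (v : ∀ i : Fin n, M ⧸ ((xs i).asIdeal • ⊤ : Submodule R M)) :
    ∃ m₀ : M, ∀ i, ((xs i).asIdeal • ⊤ : Submodule R M).mkQ m₀ = v i := by
  classical
  choose e he1 he2 using exists_crt_element xs hxs
  choose vt hvt using fun i => Submodule.mkQ_surjective _ (v i)
  refine ⟨∑ j, e j • vt j, fun i => ?_⟩
  rw [map_sum, Finset.sum_eq_single_of_mem i (Finset.mem_univ _)]
  · rw [← hvt i, Submodule.mkQ_apply, Submodule.mkQ_apply, Submodule.Quotient.eq]
    have : e i • vt i - vt i = (e i - 1) • vt i := by rw [sub_smul, one_smul]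
    rw [this]
    exact Submodule.smul_mem_smul (he1 i) Submodule.mem_top
  · intro j _ hj
    rw [Submodule.mkQ_apply, Submodule.Quotient.mk_eq_zero]
    exact Submodule.smul_mem_smul (he2 j i (Ne.symm hj)) Submodule.mem_top

theorem exists_subset_of_isIrreducible_subset_biUnion {X : Type*} [TopologicalSpace X]
    {ι : Type*} (S : Set ι) (hS : S.Finite) (G : ι → Set X) (hG : ∀ i ∈ S, IsClosed (G i))
    (Y : Set X) (hY : IsIrreducible Y) (hsub : Y ⊆ ⋃ i ∈ S, G i) : ∃ i ∈ S, Y ⊆ G i := by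
  classical
  lift S to Finset ι using hS
  obtain ⟨z, hz, hYz⟩ := isIrreducible_iff_sUnion_isClosed.mp hY (S.image G)
    (by
      intro z hz
      obtain ⟨i, hi, rfl⟩ := Finset.mem_image.mp hz
      exact hG i hi)
    (by
      intro y hy
      obtain ⟨_, ⟨i, rfl⟩, _, ⟨hi, rfl⟩, hyi⟩ := hsub hy
      exact ⟨G i, Finset.mem_coe.mpr (Finset.mem_image.mpr ⟨i, hi, rfl⟩), hyi⟩)
  obtain ⟨i, hi, rfl⟩ := Finset.mem_image.mp hz
  exact ⟨i, hi, hYz⟩


section main

variable [NoetherianSpace (MaximalSpectrum R)] [Module.Finite R M]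

/-- **Serre's proposition** on sections in general position. -/
theorem serre_proposition
    (h : ℕ) (s : Fin h → M) (F : Set (MaximalSpectrum R)) (hF : IsClosed F)
    (n : ℕ) (xs : Fin n → MaximalSpectrum R) (hxs : Function.Injective xs) (hxF : ∀ i, xs i ∈ F)
    (v : ∀ i : Fin n, M ⧸ ((xs i).asIdeal • ⊤ : Submodule R M)) (k : ℕ)
    (hdim : ∀ x : MaximalSpectrum R, h + k ≤
      finrank (R ⧸ x.asIdeal) ((M ⧸ (x.asIdeal • ⊤ : Submodule R M)) ⧸ Bq R M x))
    (hZ : ∀ x : MaximalSpectrum R,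
      ¬ LinearIndependent (R ⧸ x.asIdeal) (fun i => img R M x (s i)) → x ∈ F) :
    ∃ (t : M) (F' : Set (MaximalSpectrum R)), IsClosed F' ∧
      (∀ i : Fin n, img R M (xs i) t = (Bq R M (xs i)).mkQ (v i)) ∧
      (∀ x : MaximalSpectrum R,
        ¬ LinearIndependent (R ⧸ x.asIdeal)
          (Fin.snoc (fun i => img R M x (s i)) (img R M x t)) → x ∈ F ∪ F') ∧
      ∀ Z : IrreducibleCloseds (MaximalSpectrum R), (Z : Set (MaximalSpectrum R)) ⊆ F' →
        (k : ℕ∞) ≤ Order.coheight Z := by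
  classical
  -- presentation
  obtain ⟨N, π, hπ⟩ := Module.Finite.exists_fin' R M
  choose st hst using fun i => hπ (s i)
  obtain ⟨m₀, hm₀⟩ := exists_crt_section xs hxs v
  obtain ⟨mt₀, hmt₀⟩ := hπ m₀
  obtain ⟨T, hTF, hTcov⟩ := exists_finset_vanI hF
  set La := T.card with hLa
  set a : Fin La → R := fun l => ((T.equivFin.symm l : T) : R) with ha
  have haF : ∀ l, a l ∈ vanI F := fun l => hTF _ (T.equivFin.symm l).2
  have hacov : ∀ x : MaximalSpectrum R, x ∉ F → ∃ l, a l ∉ x.asIdeal := by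
    intro x hx
    obtain ⟨b, hb, hbx⟩ := hTcov x hx
    refine ⟨T.equivFin ⟨b, hb⟩, ?_⟩
    simp only [ha, Equiv.symm_apply_apply]
    exact hbx
  set fam : Fin (La * N + 1) → (Fin N → R) :=
    Fin.cons mt₀ (fun i => a (finProdFinEquiv.symm i).1 •
      (Pi.single (finProdFinEquiv.symm i).2 (1 : R) : Fin N → R)) with hfam
  -- the set of primes
  set X : Set (PrimeSpectrum R) := {p | ∃ hj : IsJ p, ¬ zloc p.asIdeal ⊆ F ∧
    Order.coheight (Zof p hj) + 1 ≤ (k : ℕ∞)} with hX
  set d : PrimeSpectrum R → ℕ := fun p =>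
    if hj : IsJ p then k - 1 - (Order.coheight (Zof p hj)).toNat else 0 with hd
  -- basic facts on X
  have hpoint : ∀ p ∈ X, ∃ x ∈ zloc p.asIdeal, x ∉ F := by
    rintro p ⟨_, hpF, _⟩
    exact Set.not_subset.mp hpF
  have hF1 : ∀ p ∈ X, ∃ l, a l ∉ p.asIdeal := by
    intro p hp
    obtain ⟨x, hxp, hxF'⟩ := hpoint p hp
    obtain ⟨l, hl⟩ := hacov x hxF'
    exact ⟨l, fun hmem => hl (hxp hmem)⟩
  have hF2 : ∀ p ∈ X, LinearIndependent (kap p) (fun i => (Bp π p).mkQ (red p (st i))) := by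
    intro p hp
    by_contra hcon
    obtain ⟨hj, hpF, _⟩ := hp
    apply hpF
    intro x hx
    apply hZ x
    intro hli
    obtain ⟨φ, hφ⟩ := (linearIndependent_img_iff x s).mp hli
    apply hcon
    rw [linearIndependent_mkQ_Bp_iff]
    refine ⟨φ, fun hmem => hφ ?_⟩
    simp only [hst] at hmem
    exact hx hmem
  have hF3 : ∀ p : PrimeSpectrum R, (zloc p.asIdeal).Nonempty →
      h + k ≤ finrank (kap p) ((Fin N → kap p) ⧸ Bp π p) := by
    rintro p ⟨x, hx⟩
    obtain ⟨t, φ, hdet⟩ := exists_det_notMem_of_le_finrank x (h + k) (hdim x)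
    exact le_finrank_quot_Bp π hπ p (h + k) t φ (fun hmem => hdet (hx hmem))
  have hcoht : ∀ (p : PrimeSpectrum R) (hj : IsJ p), Order.coheight (Zof p hj) + 1 ≤ (k : ℕ∞) →
      (Order.coheight (Zof p hj)).toNat + 1 ≤ k ∧
        ((Order.coheight (Zof p hj)).toNat : ℕ∞) = Order.coheight (Zof p hj) := by
    intro p hj hle
    have hne : Order.coheight (Zof p hj) ≠ ⊤ := by
      intro htop
      rw [htop] at hle
      simp at hle
    obtain ⟨c, hc⟩ := ENat.ne_top_iff_exists.mp hne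
    rw [← hc] at hle ⊢
    refine ⟨?_, by simp⟩
    simp only [ENat.toNat_natCast]
    exact_mod_cast hle
  -- H1
  have H1 : ∀ p ∈ X, ∀ q ∈ X, p.asIdeal < q.asIdeal → d q < d p := by
    rintro p ⟨hjp, _, hcp⟩ q ⟨hjq, _, hcq⟩ hpq
    have hlt := Zof_lt_Zof hjp hjq hpq
    have hfin : Order.coheight (Zof p hjp) < ⊤ := by
      refine lt_of_le_of_lt ?_ (ENat.natCast_lt_top k)
      exact le_trans le_self_add hcp
    have h1 : Order.coheight (Zof p hjp) < Order.coheight (Zof q hjq) :=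
      Order.coheight_strictAnti hlt hfin
    obtain ⟨hp1, hp2⟩ := hcoht p hjp hcp
    obtain ⟨hq1, hq2⟩ := hcoht q hjq hcq
    rw [← hp2, ← hq2] at h1
    have h2 : (Order.coheight (Zof p hjp)).toNat < (Order.coheight (Zof q hjq)).toNat := by
      exact_mod_cast h1
    simp only [hd, dif_pos hjp, dif_pos hjq]
    omega
  -- rank locus description
  have hlocus : ∀ p ∈ X, ∀ (u : ℕ) (m : Fin u → (Fin N → R)) (t : ℕ),
      rkG (rhoS π st) p m ≤ t ↔ minI π (Fin.append st m) (t + h + 1) ≤ p.asIdeal := by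
    intro p hp u m t
    rw [← rkB_lt_iff, ← rkG_rhoS_add, rkB_eq_of_linearIndependent π p st (hF2 p hp)]
    omega
  -- H2
  have H2 : ∀ (u : ℕ) (m : Fin u → (Fin N → R)) (t : ℕ),
      {p | p ∈ X ∧ rkG (rhoS π st) p m ≤ t ∧
        ∀ q ∈ X, q.asIdeal < p.asIdeal → t < rkG (rhoS π st) q m}.Finite := by
    intro u m t
    set I := minI π (Fin.append st m) (t + h + 1) with hI
    obtain ⟨S, hSfin, hSC, -, hSirr⟩ := exists_finite_irreducibleCloseds (isClosed_zloc I)
    refine (hSfin.image Pof).subset ?_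
    rintro p ⟨hpX, hpr, hmin⟩
    have hIp : I ≤ p.asIdeal := (hlocus p hpX u m t).mp hpr
    obtain ⟨hjp, hpF, hcp⟩ := hpX
    obtain ⟨G, hGS, hpG⟩ := hSirr (zloc p.asIdeal) (isIrreducible_zloc_of_isJ hjp) (zloc_anti hIp)
    refine ⟨G, hGS, ?_⟩
    have hqJ := isJ_Pof G
    have hqle : (Pof G).asIdeal ≤ p.asIdeal := by
      have : vanI (G : Set (MaximalSpectrum R)) ≤ vanI (zloc p.asIdeal) := vanI_anti hpG
      rw [hjp.eq] at this
      exact this
    have hIq : I ≤ (Pof G).asIdeal := le_vanI_iff.mpr (hSC G hGS)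
    have hqX : Pof G ∈ X := by
      refine ⟨hqJ, ?_, ?_⟩
      · rw [zloc_Pof]
        intro hGF
        exact hpF (hpG.trans hGF)
      · have hle : Zof p hjp ≤ Zof (Pof G) hqJ := by
          rw [Zof_Pof]
          exact hpG
        exact le_trans (add_le_add_left (Order.coheight_anti hle) 1) hcp
    have hqr : rkG (rhoS π st) (Pof G) m ≤ t := (hlocus (Pof G) hqX u m t).mpr hIq
    rcases lt_or_eq_of_le hqle with hlt | heq
    · exact absurd (hmin (Pof G) hqX hlt) (not_lt.mpr hqr)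
    · exact PrimeSpectrum.ext heq
  -- rank hypothesis
  have hrk : ∀ p ∈ X, min (La * N + 1) (d p + 1) ≤ rkG (rhoS π st) p fam := by
    intro p hp
    have hfull : rkG (rhoS π st) p fam = finrank (kap p) (WpS π st p) := by
      apply span_rhoS_eq_top_of
      intro j
      obtain ⟨l, hl⟩ := hF1 p hp
      refine ⟨Fin.succ (finProdFinEquiv (l, j)), a l, hl, ?_⟩
      simp only [hfam, Fin.cons_succ, Equiv.symm_apply_apply]
    obtain ⟨x, hxp, _⟩ := hpoint p hp
    have hk := le_finrank_WpS π st p k (hF3 p ⟨x, hxp⟩)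
    obtain ⟨hj, _, hc⟩ := hp
    obtain ⟨hc1, _⟩ := hcoht p hj hc
    have hdp : d p + 1 ≤ k := by
      simp only [hd, dif_pos hj]
      omega
    rw [hfull]
    exact (min_le_right _ _).trans (hdp.trans hk)
  have hbasic : ∀ p ∈ X, (1 : R) ∈ p.asIdeal → rhoS π st p (fam 0) ≠ 0 := by
    intro p _ h1
    exact absurd ((Ideal.eq_top_iff_one _).mpr h1) p.isPrime.ne_top
  obtain ⟨c, hc⟩ := SBG.exists_basic_combination (rhoS π st) X d H1 H2 (La * N) fam 1 hrk hbasic
  set vt : Fin N → R := fam 0 + (1 : R) • ∑ i, c i • fam i.succ with hvt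
  -- the section
  refine ⟨π vt, ?_⟩
  -- (a)
  have hpa : ∀ i : Fin n, ((xs i).asIdeal • ⊤ : Submodule R M).mkQ (π vt) = v i := by
    intro i
    rw [← hm₀ i, ← hmt₀, hvt, one_smul, map_add, map_add]
    have hfam0 : fam 0 = mt₀ := by simp [hfam]
    rw [hfam0]
    have : ((xs i).asIdeal • ⊤ : Submodule R M).mkQ (π (∑ j, c j • fam j.succ)) = 0 := by
      rw [map_sum, map_sum]
      apply Finset.sum_eq_zero
      intro j _
      rw [Submodule.mkQ_apply, Submodule.Quotient.mk_eq_zero]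
      simp only [hfam, Fin.cons_succ, map_smul]
      apply Submodule.smul_mem
      exact Submodule.smul_mem_smul (mem_vanI.mp (haF _) (xs i) (hxF i)) Submodule.mem_top
    rw [this, add_zero]
  -- the bad locus
  have hsnoc : (fun b => π ((Fin.snoc st vt : Fin (h + 1) → (Fin N → R)) b)) =
      (Fin.snoc s (π vt) : Fin (h + 1) → M) := by
    have := Fin.comp_snoc (fun x : Fin N → R => π x) st vt
    rw [show (fun x : Fin N → R => π x) ∘ st = s from funext hst] at this
    exact this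
  have himgsnoc : ∀ x : MaximalSpectrum R,
      (Fin.snoc (fun i => img R M x (s i)) (img R M x (π vt)) :
        Fin (h + 1) → (M ⧸ (x.asIdeal • ⊤ : Submodule R M)) ⧸ Bq R M x) =
      fun b => img R M x ((Fin.snoc s (π vt) : Fin (h + 1) → M) b) := by
    intro x
    exact (Fin.comp_snoc (img R M x) s (π vt)).symm
  set Jd : Ideal R := Ideal.span {dd | ∃ φ : Fin (h + 1) → (M →ₗ[R] R),
    dd = (Matrix.of fun b b' => φ b' ((Fin.snoc s (π vt) : Fin (h + 1) → M) b)).det} with hJd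
  have hbad : ∀ x : MaximalSpectrum R,
      ¬ LinearIndependent (R ⧸ x.asIdeal)
        (Fin.snoc (fun i => img R M x (s i)) (img R M x (π vt))) ↔ x ∈ zloc Jd := by
    intro x
    rw [himgsnoc x, linearIndependent_img_iff, mem_zloc, hJd, Ideal.span_le]
    constructor
    · intro hno dd hdd
      obtain ⟨φ, rfl⟩ := hdd
      by_contra hcon
      exact hno ⟨φ, hcon⟩
    · rintro hle ⟨φ, hφ⟩
      exact hφ (hle ⟨φ, rfl⟩)
  obtain ⟨S, hSfin, hSC, hSU, -⟩ := exists_finite_irreducibleCloseds (isClosed_zloc Jd)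
  set S' : Set (IrreducibleCloseds (MaximalSpectrum R)) :=
    {G | G ∈ S ∧ ¬ (G : Set (MaximalSpectrum R)) ⊆ F} with hS'
  have hS'fin : S'.Finite := hSfin.subset fun G hG => hG.1
  refine ⟨⋃ G ∈ S', (G : Set (MaximalSpectrum R)), ?_, ?_, ?_, ?_⟩
  · exact hS'fin.isClosed_biUnion fun G _ => G.isClosed
  · intro i
    rw [img, hpa i]
  · intro x hx
    have hxJ : x ∈ zloc Jd := (hbad x).mp hx
    rw [hSU] at hxJ
    simp only [Set.mem_iUnion, exists_prop] at hxJ
    obtain ⟨G, hGS, hxG⟩ := hxJ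
    by_cases hGF : (G : Set (MaximalSpectrum R)) ⊆ F
    · exact Or.inl (hGF hxG)
    · right
      simp only [Set.mem_iUnion, exists_prop]
      exact ⟨G, ⟨hGS, hGF⟩, hxG⟩
  · intro Zc hZc
    by_contra hcon
    have hlt : Order.coheight Zc < (k : ℕ∞) := not_le.mp hcon
    obtain ⟨G, ⟨hGS, hGF⟩, hZG⟩ := exists_subset_of_isIrreducible_subset_biUnion S' hS'fin
      (fun G => (G : Set (MaximalSpectrum R))) (fun G _ => G.isClosed) _ Zc.isIrreducible hZc
    have hle : Zc ≤ G := hZG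
    have hcG : Order.coheight G + 1 ≤ (k : ℕ∞) :=
      le_trans (add_le_add_left (Order.coheight_anti hle) 1) (Order.add_one_le_of_lt hlt)
    have hpX : Pof G ∈ X := by
      refine ⟨isJ_Pof G, ?_, ?_⟩
      · rw [zloc_Pof]; exact hGF
      · rw [Zof_Pof]; exact hcG
    have hne := hc (Pof G) hpX
    obtain ⟨φ, hφ⟩ := exists_det_snoc_notMem π st (Pof G) (hF2 (Pof G) hpX) vt hne
    have hsnoc' : ∀ b, π ((Fin.snoc st vt : Fin (h + 1) → (Fin N → R)) b) =
        (Fin.snoc s (π vt) : Fin (h + 1) → M) b := fun b => congrFun hsnoc b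
    simp only [hsnoc'] at hφ
    have hφ' : ¬ (∀ x ∈ (G : Set (MaximalSpectrum R)),
        (Matrix.of fun b b' => φ b' ((Fin.snoc s (π vt) : Fin (h + 1) → M) b)).det ∈
          x.asIdeal) := fun hall => hφ (mem_vanI.mpr hall)
    push Not at hφ'
    obtain ⟨x, hxG, hxdet⟩ := hφ'
    have hxJ : x ∈ zloc Jd := hSC G hGS hxG
    rw [mem_zloc, hJd, Ideal.span_le] at hxJ
    exact hxdet (hxJ ⟨φ, rfl⟩)

end main

end Groth.Agent.Lib.helper2.SP
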