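import Mathlib
import Groth.Prelude.Def_CAlgX
import Groth.Agent.Lib.Helper2.SP5
import Groth.Agent.Lib.Helper2.BB1

/-!
# Bass: big projective modules (helper2), part 2: the unimodular element lemma
-/

set_option autoImplicit false
universe u

namespace Groth.Agent.Lib.helper2.BB

open Module TopologicalSpace Groth.Agent.Lib.helper2.SP

variable {R : Type u} [CommRing R] {P : Type u} [AddCommGroup P] [Module R P]

section coords

variable (σ : P →ₗ[R] (P →₀ R)) (hσ : Finsupp.linearCombination R id ∘ₗ σ = LinearMap.id)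

include hσ in
theorem eq_sum_coords (p : P) : p = (σ p).sum fun q r => r • q := by
  have := LinearMap.congr_fun hσ p
  simp only [LinearMap.coe_comp, Function.comp_apply, LinearMap.id_coe, id_eq,
    Finsupp.linearCombination_apply] at this
  exact this.symm

theorem coord_mem_of_mem_smul_top (x : MaximalSpectrum R) (p : P)
    (hp : p ∈ (x.asIdeal • ⊤ : Submodule R P)) (q : P) : σ p q ∈ x.asIdeal := by
  refine Submodule.smul_induction_on hp ?_ ?_
  · intro r hr n _
    rw [map_smul, Finsupp.smul_apply, smul_eq_mul]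
    exact Ideal.mul_mem_right _ _ hr
  · intro a b ha hb
    rw [map_add, Finsupp.add_apply]
    exact Ideal.add_mem _ ha hb

include hσ in
theorem mem_smul_top_iff_coords (x : MaximalSpectrum R) (p : P) :
    p ∈ (x.asIdeal • ⊤ : Submodule R P) ↔ ∀ q, σ p q ∈ x.asIdeal := by
  constructor
  · intro hp q
    exact coord_mem_of_mem_smul_top σ x p hp q
  · intro h
    rw [eq_sum_coords σ hσ p]
    apply Submodule.sum_mem
    intro q _
    exact Submodule.smul_mem_smul (h q) Submodule.mem_top

include hσ in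
/-- an element which is nonzero modulo every maximal ideal is unimodular -/
theorem exists_functional_eq_one (p : P)
    (hp : ∀ x : MaximalSpectrum R, p ∉ (x.asIdeal • ⊤ : Submodule R P)) :
    ∃ φ : P →ₗ[R] R, φ p = 1 := by
  set I : Ideal R := LinearMap.range (LinearMap.applyₗ p : (P →ₗ[R] R) →ₗ[R] R) with hI
  have hItop : I = ⊤ := by
    by_contra hne
    obtain ⟨m, hm, hle⟩ := Ideal.exists_le_maximal I hne
    apply hp ⟨m, hm⟩
    rw [mem_smul_top_iff_coords σ hσ]
    intro q
    exact hle ⟨(Finsupp.lapply q) ∘ₗ σ, rfl⟩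
  have h1 : (1 : R) ∈ I := by rw [hItop]; trivial
  obtain ⟨φ, hφ⟩ := h1
  exact ⟨φ, hφ⟩

end coords

/-- simultaneous choice at finitely many closed points -/
theorem exists_add_notMem_finset (pts : Finset (MaximalSpectrum R)) (s₀ : P) (M : Submodule R P)
    (hbig : ∀ x ∈ pts, BigAt x M) :
    ∃ m ∈ M, ∀ x ∈ pts, s₀ + m ∉ (x.asIdeal • ⊤ : Submodule R P) := by
  classical
  set n := pts.card with hn
  set xs : Fin n → MaximalSpectrum R := fun i => ((pts.equivFin.symm i : pts) : MaximalSpectrum R)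
    with hxs
  have hxinj : Function.Injective xs := by
    intro i j hij
    have : (pts.equivFin.symm i : pts) = pts.equivFin.symm j := Subtype.ext hij
    exact pts.equivFin.symm.injective this
  have hxmem : ∀ i, xs i ∈ pts := fun i => (pts.equivFin.symm i).2
  choose e he1 he2 using exists_crt_element xs hxinj
  choose mi hmiM hmi using fun i => (hbig (xs i) (hxmem i)).exists_add_notMem s₀
  refine ⟨∑ j, e j • mi j, Submodule.sum_mem _ fun j _ => Submodule.smul_mem _ _ (hmiM j), ?_⟩
  intro x hx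
  obtain ⟨i, rfl⟩ : ∃ i, xs i = x := ⟨pts.equivFin ⟨x, hx⟩, by simp [hxs]⟩
  intro hmem
  apply hmi i
  have hdiff : (∑ j, e j • mi j) - mi i ∈ ((xs i).asIdeal • ⊤ : Submodule R P) := by
    have : (∑ j, e j • mi j) - mi i =
        (e i - 1) • mi i + ∑ j ∈ Finset.univ.erase i, e j • mi j := by
      rw [← Finset.add_sum_erase _ _ (Finset.mem_univ i), sub_smul, one_smul]
      abel
    rw [this]
    apply Submodule.add_mem
    · exact Submodule.smul_mem_smul (he1 i) Submodule.mem_top
    · apply Submodule.sum_mem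
      intro j hj
      exact Submodule.smul_mem_smul (he2 j i (Ne.symm (Finset.ne_of_mem_erase hj)))
        Submodule.mem_top
  have : s₀ + mi i = (s₀ + ∑ j, e j • mi j) - ((∑ j, e j • mi j) - mi i) := by abel
  rw [this]
  exact Submodule.sub_mem _ hmem hdiff

/-- the submodule of `M` of elements whose coordinates in `J` lie in the Jacobson radical -/
noncomputable def subJ (σ : P →ₗ[R] (P →₀ R)) (J : Finset P) (M : Submodule R P) : Submodule R P :=
  M ⊓ ⨅ q ∈ J, Submodule.comap ((Finsupp.lapply q) ∘ₗ σ) ((⊥ : Ideal R).jacobson : Submodule R R)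

theorem mem_subJ (σ : P →ₗ[R] (P →₀ R)) (J : Finset P) (M : Submodule R P) (m : P) :
    m ∈ subJ σ J M ↔ m ∈ M ∧ ∀ q ∈ J, σ m q ∈ (⊥ : Ideal R).jacobson := by
  simp only [subJ, Submodule.mem_inf, Submodule.mem_iInf, Submodule.mem_comap,
    LinearMap.coe_comp, Function.comp_apply, Finsupp.lapply_apply]

section main

variable [IsNoetherianRing (R ⧸ (⊥ : Ideal R).jacobson)]

/-- `M` is generated by `subJ` and finitely many elements -/
theorem exists_finset_le_subJ_sup (σ : P →ₗ[R] (P →₀ R)) (J : Finset P) (M : Submodule R P) :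
    ∃ T₀ : Finset P, M ≤ subJ σ J M ⊔ Submodule.span R (T₀ : Set P) := by
  classical
  set jac := (⊥ : Ideal R).jacobson with hjac
  set Θ : P →ₗ[R] (J → R ⧸ jac) :=
    LinearMap.pi fun q => (Ideal.Quotient.mkₐ R jac).toLinearMap ∘ₗ (Finsupp.lapply (q : P)) ∘ₗ σ
    with hΘ
  have hΘapp : ∀ (p : P) (q : J), Θ p q = Ideal.Quotient.mk jac (σ p q) := fun p q => rfl
  have hfg : (Submodule.span (R ⧸ jac) (Θ '' (M : Set P))).FG := IsNoetherian.noetherian _
  obtain ⟨T', hT'sub, hT'span⟩ := (Submodule.fg_span_iff_fg_span_finset_subset _).mp hfg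
  choose! lift hliftM hlift using fun t (ht : t ∈ T') => hT'sub ht
  refine ⟨T'.image lift, ?_⟩
  intro m hm
  have hΘm : Θ m ∈ Submodule.span (R ⧸ jac) (T' : Set (J → R ⧸ jac)) := by
    rw [← hT'span]
    exact Submodule.subset_span ⟨m, hm, rfl⟩
  obtain ⟨c, hc⟩ := (Submodule.mem_span_finset).mp hΘm
  choose r hr using fun t => Ideal.Quotient.mk_surjective (c t)
  set m' : P := ∑ t ∈ T', r t • lift t with hm'
  have hm'M : m' ∈ Submodule.span R ((T'.image lift : Finset P) : Set P) := by
    apply Submodule.sum_mem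
    intro t ht
    apply Submodule.smul_mem
    apply Submodule.subset_span
    exact Finset.mem_coe.mpr (Finset.mem_image_of_mem _ ht)
  have hΘm' : Θ m' = Θ m := by
    rw [hm', map_sum, ← hc.2]
    refine Finset.sum_congr rfl fun t ht => ?_
    rw [map_smul, hlift t ht, ← hr t]
    ext q
    simp only [Pi.smul_apply]
    rw [Algebra.smul_def, Ideal.Quotient.algebraMap_eq, smul_eq_mul]
  have hdiff : m - m' ∈ subJ σ J M := by
    rw [mem_subJ]
    constructor
    · refine Submodule.sub_mem _ hm ?_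
      apply Submodule.sum_mem
      intro t ht
      exact Submodule.smul_mem _ _ (hliftM t ht)
    · intro q hq
      have := congrFun hΘm' ⟨q, hq⟩
      rw [hΘapp, hΘapp] at this
      rw [map_sub, Finsupp.sub_apply, ← Ideal.Quotient.eq_zero_iff_mem, map_sub, this, sub_self]
  have : m = (m - m') + m' := by abel
  rw [this]
  exact Submodule.add_mem _ (Submodule.mem_sup_left hdiff) (Submodule.mem_sup_right hm'M)

/-- **Bass's lemma**, Noetherian induction on closed subsets of the maximal spectrum -/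
theorem exists_add_notMem_of_bigAt [NoetherianSpace (MaximalSpectrum R)]
    (σ : P →ₗ[R] (P →₀ R)) (hσ : Finsupp.linearCombination R id ∘ₗ σ = LinearMap.id) :
    ∀ (C : Closeds (MaximalSpectrum R)) (s₀ : P) (M : Submodule R P),
      (∀ x ∈ (C : Set (MaximalSpectrum R)), BigAt x M) →
      ∃ m ∈ M, ∀ x ∈ (C : Set (MaximalSpectrum R)), s₀ + m ∉ (x.asIdeal • ⊤ : Submodule R P) := by
  classical
  intro C
  induction C using WellFoundedLT.induction with
  | ind C ih =>
    intro s₀ M hbig
    by_cases hCempty : (C : Set (MaximalSpectrum R)) = ∅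
    · exact ⟨0, M.zero_mem, fun x hx => by rw [hCempty] at hx; exact absurd hx (Set.notMem_empty x)⟩
    obtain ⟨x₀, hx₀⟩ := Set.nonempty_iff_ne_empty.mpr hCempty
    haveI : Nonempty (MaximalSpectrum R) := ⟨x₀⟩
    obtain ⟨S, hSfin, hSC, hSU, -⟩ := exists_finite_irreducibleCloseds C.isClosed
    -- a point in each irreducible piece
    choose! pt hpt using fun (G : IrreducibleCloseds (MaximalSpectrum R)) (_ : G ∈ S) =>
      G.isIrreducible.nonempty
    set pts : Finset (MaximalSpectrum R) := hSfin.toFinset.image pt with hpts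
    have hptsC : ∀ x ∈ pts, x ∈ (C : Set (MaximalSpectrum R)) := by
      intro x hx
      obtain ⟨G, hG, rfl⟩ := Finset.mem_image.mp hx
      exact hSC G (hSfin.mem_toFinset.mp hG) (hpt G (hSfin.mem_toFinset.mp hG))
    obtain ⟨m₀, hm₀M, hm₀⟩ := exists_add_notMem_finset pts s₀ M
      (fun x hx => hbig x (hptsC x hx))
    set s₁ := s₀ + m₀ with hs₁
    set J := (σ s₁).support with hJ
    set 𝔞 : Ideal R := Ideal.span ((fun q => σ s₁ q) '' (J : Set P)) with h𝔞
    have hzl : ∀ x : MaximalSpectrum R, x ∈ zloc 𝔞 ↔ s₁ ∈ (x.asIdeal • ⊤ : Submodule R P) := by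
      intro x
      rw [mem_zloc, h𝔞, Ideal.span_le, mem_smul_top_iff_coords σ hσ]
      constructor
      · intro h q
        by_cases hq : q ∈ J
        · exact h ⟨q, hq, rfl⟩
        · rw [hJ, Finsupp.notMem_support_iff] at hq
          rw [hq]; exact Ideal.zero_mem _
      · rintro h _ ⟨q, _, rfl⟩
        exact h q
    set C' : Closeds (MaximalSpectrum R) :=
      ⟨(C : Set (MaximalSpectrum R)) ∩ zloc 𝔞, C.isClosed.inter (isClosed_zloc _)⟩ with hC'
    have hlt : C' < C := by
      refine lt_of_le_of_ne (fun x hx => hx.1) ?_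
      intro heq
      obtain ⟨x, hx⟩ := Set.nonempty_iff_ne_empty.mpr hCempty
      rw [hSU] at hx
      simp only [Set.mem_iUnion, exists_prop] at hx
      obtain ⟨G, hGS, -⟩ := hx
      have hptG : pt G ∈ pts := Finset.mem_image.mpr ⟨G, hSfin.mem_toFinset.mpr hGS, rfl⟩
      have h1 : pt G ∈ (C : Set (MaximalSpectrum R)) := hptsC _ hptG
      rw [← heq] at h1
      exact hm₀ _ hptG ((hzl _).mp h1.2)
    -- the smaller submodule
    obtain ⟨T₀, hT₀⟩ := exists_finset_le_subJ_sup σ J M
    have hbig₁ : ∀ x ∈ (C' : Set (MaximalSpectrum R)), BigAt x (subJ σ J M) :=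
      fun x hx => (hbig x hx.1).of_le_sup_span T₀ hT₀
    obtain ⟨m₁, hm₁, hm₁C'⟩ := ih C' hlt s₁ (subJ σ J M) hbig₁
    rw [mem_subJ] at hm₁
    refine ⟨m₀ + m₁, M.add_mem hm₀M hm₁.1, fun x hx => ?_⟩
    rw [← add_assoc]
    by_cases hxa : x ∈ zloc 𝔞
    · exact hm₁C' x ⟨hx, hxa⟩
    · rw [hzl, mem_smul_top_iff_coords σ hσ] at hxa
      push Not at hxa
      obtain ⟨q, hq⟩ := hxa
      have hqJ : q ∈ J := by
        rw [hJ, Finsupp.mem_support_iff]
        intro h0
        rw [h0] at hq
        exact hq (Ideal.zero_mem _)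
      intro hmem
      have h2 := coord_mem_of_mem_smul_top σ x _ hmem q
      rw [map_add, Finsupp.add_apply] at h2
      have h3 : σ m₁ q ∈ x.asIdeal := jacobson_le_asIdeal x (hm₁.2 q hqJ)
      have : σ s₁ q = (σ s₁ q + σ m₁ q) - σ m₁ q := by ring
      rw [this] at hq
      exact hq (Ideal.sub_mem _ h2 h3)

/-- **Bass**: unimodular elements in big projective modules -/
theorem bass_unimodular [Module.Projective R P]
    (hP : ∀ (m : Ideal R) [m.IsMaximal],
      ¬ Module.Finite (Localization.AtPrime m) (LocalizedModule m.primeCompl P))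
    (s : P) (M : Submodule R P) (hM : Submodule.span R {s} ⊔ M = ⊤) :
    ∃ m ∈ M, ∃ φ : P →ₗ[R] R, φ (s + m) = 1 := by
  classical
  haveI := noetherianSpace_maxSpec (R := R)
  obtain ⟨σ, hσ⟩ := (Module.projective_def').mp (inferInstance : Module.Projective R P)
  have hbig : ∀ x ∈ ((⊤ : Closeds (MaximalSpectrum R)) : Set (MaximalSpectrum R)), BigAt x M := by
    intro x _
    haveI := x.isMaximal
    have h1 := bigAt_top_of_not_finite (P := P) x (hP x.asIdeal)
    refine h1.of_le_sup_span {s} ?_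
    rw [← hM, sup_comm]
    simp
  obtain ⟨m, hmM, hm⟩ := exists_add_notMem_of_bigAt σ hσ ⊤ s M hbig
  obtain ⟨φ, hφ⟩ := exists_functional_eq_one σ hσ (s + m) (fun x => hm x (Set.mem_univ x))
  exact ⟨m, hmM, φ, hφ⟩

end main

end Groth.Agent.Lib.helper2.BB
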