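import Mathlib
import Groth.Prelude.Def_CAlgX
import Groth.Agent.Lib.Helper2.BB2
import Groth.Agent.S7109

/-!
# Bass: big projective modules (helper2), part 3: finite free summands
-/

set_option autoImplicit false
universe u

namespace Groth.Agent.Lib.helper2.BB

open Module TopologicalSpace Groth.Agent.Lib.helper2.SP

variable {R : Type u} [CommRing R]

section transfer

variable {A : Type u} [AddCommGroup A] [Module R A] {B : Type u} [AddCommGroup B] [Module R B]

theorem BigAt.of_map {x : MaximalSpectrum R} (f : A →ₗ[R] B) {M : Submodule R A}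
    (h : BigAt x (M.map f)) : BigAt x M := by
  classical
  intro T hT
  apply h (T.image f)
  refine (Submodule.map_mono hT).trans ?_
  rw [Submodule.map_sup, Submodule.map_span, Submodule.map_smul'', Finset.coe_image]
  exact sup_le_sup_left (Submodule.smul_mono le_rfl le_top) _

theorem BigAt.map_of_surjective {x : MaximalSpectrum R} (f : A →ₗ[R] B)
    (hf : Function.Surjective f) (hker : (LinearMap.ker f).FG) {M : Submodule R A}
    (h : BigAt x M) : BigAt x (M.map f) := by
  classical
  intro T hT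
  obtain ⟨G, hG⟩ := hker
  apply h (T.image (Function.surjInv hf) ∪ G)
  have h1 : Submodule.span R (T : Set B) ⊔ (x.asIdeal • ⊤ : Submodule R B) =
      (Submodule.span R ((T.image (Function.surjInv hf) : Finset A) : Set A) ⊔
        (x.asIdeal • ⊤ : Submodule R A)).map f := by
    rw [Submodule.map_sup, Submodule.map_span, Submodule.map_smul'', Submodule.map_top,
      LinearMap.range_eq_top.mpr hf, Finset.coe_image, ← Set.image_comp]
    congr 2
    have : f ∘ Function.surjInv hf = id := funext (Function.surjInv_eq hf)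
    rw [this, Set.image_id]
  rw [h1] at hT
  have h2 := Submodule.comap_mono (f := f) hT
  rw [Submodule.comap_map_eq, Submodule.comap_map_eq] at h2
  refine (le_sup_left.trans h2).trans ?_
  rw [← hG, Finset.coe_union, Submodule.span_union]
  rw [sup_assoc, sup_assoc]
  refine sup_le_sup_left ?_ _
  rw [sup_comm]

end transfer

section step

variable {P : Type u} [AddCommGroup P] [Module R P]

/-- `BigAt` version of Bass's unimodular element lemma -/
theorem bass_unimodular_of_bigAt [IsNoetherianRing (R ⧸ (⊥ : Ideal R).jacobson)]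
    [Module.Projective R P] (s : P) (M : Submodule R P)
    (hbig : ∀ x : MaximalSpectrum R, BigAt x M) :
    ∃ m ∈ M, ∃ φ : P →ₗ[R] R, φ (s + m) = 1 := by
  classical
  haveI := noetherianSpace_maxSpec (R := R)
  obtain ⟨σ, hσ⟩ := (Module.projective_def').mp (inferInstance : Module.Projective R P)
  obtain ⟨m, hmM, hm⟩ := exists_add_notMem_of_bigAt σ hσ ⊤ s M (fun x _ => hbig x)
  obtain ⟨φ, hφ⟩ := exists_functional_eq_one σ hσ (s + m) (fun x => hm x (Set.mem_univ x))
  exact ⟨m, hmM, φ, hφ⟩

/-- one step: a finite summand of `R × P` containing `(0, s)` can be moved into `P` -/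
theorem exists_summand_step [IsNoetherianRing (R ⧸ (⊥ : Ideal R).jacobson)]
    [Module.Projective R P] (hbig : ∀ x : MaximalSpectrum R, BigAt x (⊤ : Submodule R P))
    (s : P) (K₀ K₀' : Submodule R (R × P)) (hc : IsCompl K₀ K₀') (hfin : Module.Finite R K₀)
    (hs : ((0, s) : R × P) ∈ K₀) :
    ∃ K K' : Submodule R P, IsCompl K K' ∧ Nonempty (K ≃ₗ[R] K₀) ∧ s ∈ K := by
  classical
  set ψ : (R × P) →ₗ[R] K₀' := Submodule.projectionOnto K₀' K₀ hc.symm with hψ
  have hψsurj : Function.Surjective ψ := Submodule.projectionOnto_surjective hc.symm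
  have hψker : LinearMap.ker ψ = K₀ := Submodule.ker_projectionOnto hc.symm
  haveI : Module.Projective R K₀' := Module.Projective.of_split K₀'.subtype ψ
    (Submodule.projectionOnto_comp_subtype hc.symm)
  set M : Submodule R K₀' := (LinearMap.range (LinearMap.inr R R P)).map ψ with hM
  have hbigM : ∀ x, BigAt x M := by
    intro x
    apply BigAt.map_of_surjective ψ hψsurj
    · rw [hψker]; exact (Submodule.fg_top K₀).mp hfin.fg_top
    · apply BigAt.of_map (LinearMap.snd R R P)
      have : (LinearMap.range (LinearMap.inr R R P)).map (LinearMap.snd R R P) = ⊤ := by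
        rw [← LinearMap.range_comp, LinearMap.snd_comp_inr, LinearMap.range_id]
      rw [this]; exact hbig x
  obtain ⟨m, hmM, φ, hφ⟩ := bass_unimodular_of_bigAt (ψ (1, 0)) M hbigM
  obtain ⟨_, ⟨p, rfl⟩, rfl⟩ := hmM
  set μ₀ : (R × P) →ₗ[R] R := φ ∘ₗ ψ with hμ₀
  have hμ1 : μ₀ (1, p) = 1 := by
    have : ((1, p) : R × P) = (1, 0) + LinearMap.inr R R P p := by simp
    rw [this, hμ₀, LinearMap.comp_apply, map_add]; exact hφ
  have hμK : ∀ k ∈ K₀, μ₀ k = 0 := by
    intro k hk
    have : ψ k = 0 := by rw [← LinearMap.mem_ker, hψker]; exact hk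
    rw [hμ₀, LinearMap.comp_apply, this, map_zero]
  set γ : (R × P) →ₗ[R] P := LinearMap.snd R R P - (LinearMap.fst R R P).smulRight p with hγ
  set β : P →ₗ[R] (R × P) :=
    LinearMap.inr R R P - (μ₀ ∘ₗ LinearMap.inr R R P).smulRight ((1, p) : R × P) with hβ
  have hγapp : ∀ e : R × P, γ e = e.2 - e.1 • p := fun e => rfl
  have hβapp : ∀ q : P, β q = ((0, q) : R × P) - μ₀ (0, q) • ((1, p) : R × P) := fun q => rfl
  have hγβ : ∀ q, γ (β q) = q := by
    intro q
    rw [hγapp, hβapp]
    simp
  have hμβ : ∀ q, μ₀ (β q) = 0 := by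
    intro q
    rw [hβapp, map_sub, map_smul, hμ1]
    simp
  have hβγ : ∀ e, μ₀ e = 0 → β (γ e) = e := by
    intro e he
    have h1 : ((0, γ e) : R × P) = e - e.1 • ((1, p) : R × P) := by
      rw [hγapp]
      ext <;> simp
    rw [hβapp, h1, map_sub, map_smul, he, hμ1]
    ext <;> simp
  set π₀ : (R × P) →ₗ[R] K₀ := Submodule.projectionOnto K₀ K₀' hc with hπ₀
  set K := K₀.map γ with hK
  set ρ : P →ₗ[R] K := (γ.submoduleMap K₀) ∘ₗ π₀ ∘ₗ β with hρ
  have hρK : ∀ k : K, ρ k = k := by
    rintro ⟨_, k, hk, rfl⟩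
    apply Subtype.ext
    have h1 : β (γ k) = k := hβγ k (hμK k hk)
    have h2 : π₀ k = ⟨k, hk⟩ := Submodule.projectionOnto_apply_left hc ⟨k, hk⟩
    simp only [hρ, LinearMap.comp_apply, h1, h2]
    rfl
  have hinj : Function.Injective (γ.submoduleMap K₀) := by
    rw [injective_iff_map_eq_zero]
    rintro ⟨k, hk⟩ h0
    have h1 : γ k = 0 := congrArg Subtype.val h0
    have h2 := hβγ k (hμK k hk)
    rw [h1, map_zero] at h2
    exact Subtype.ext h2.symm
  refine ⟨K, LinearMap.ker ρ, LinearMap.isCompl_of_proj hρK,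
    ⟨(LinearEquiv.ofBijective (γ.submoduleMap K₀) ⟨hinj, γ.submoduleMap_surjective K₀⟩).symm⟩,
    ⟨(0, s), hs, ?_⟩⟩
  rw [hγapp]
  simp

end step

section induction

theorem isCompl_map_equiv {A B : Type u} [AddCommGroup A] [Module R A] [AddCommGroup B]
    [Module R B] (e : A ≃ₗ[R] B) {K K' : Submodule R A} (hc : IsCompl K K') :
    IsCompl (K.map (e : A →ₗ[R] B)) (K'.map (e : A →ₗ[R] B)) :=
  (Submodule.orderIsoMapComap e).isCompl hc

theorem exists_summand_of_prod [IsNoetherianRing (R ⧸ (⊥ : Ideal R).jacobson)] :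
    ∀ (n : ℕ) (P : Type u) [AddCommGroup P] [Module R P] [Module.Projective R P]
      (_ : ∀ x : MaximalSpectrum R, BigAt x (⊤ : Submodule R P)) (s : P)
      (K₀ K₀' : Submodule R ((Fin n → R) × P)), IsCompl K₀ K₀' → Module.Free R K₀ →
      Module.Finite R K₀ → ((0, s) : (Fin n → R) × P) ∈ K₀ →
      ∃ K K' : Submodule R P, IsCompl K K' ∧ Module.Free R K ∧ Module.Finite R K ∧ s ∈ K := by
  intro n
  induction n with
  | zero =>
    intro P _ _ _ hbig s K₀ K₀' hc hfree hfin hs
    set e : ((Fin 0 → R) × P) ≃ₗ[R] P := LinearEquiv.uniqueProd with he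
    refine ⟨K₀.map (e : _ →ₗ[R] P), K₀'.map (e : _ →ₗ[R] P), isCompl_map_equiv e hc, ?_, ?_, ?_⟩
    · exact Module.Free.of_equiv (e.submoduleMap K₀)
    · exact Module.Finite.equiv (e.submoduleMap K₀)
    · exact ⟨(0, s), hs, by simp [he]⟩
  | succ n ih =>
    intro P _ _ _ hbig s K₀ K₀' hc hfree hfin hs
    set e : ((Fin (n + 1) → R) × P) ≃ₗ[R] R × ((Fin n → R) × P) :=
      ((Fin.consLinearEquiv R (fun _ : Fin (n + 1) => R)).symm.prodCongr (LinearEquiv.refl R P))
        ≪≫ₗ LinearEquiv.prodAssoc R R (Fin n → R) P with he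
    set K₁ := K₀.map (e : ((Fin (n + 1) → R) × P) →ₗ[R] R × ((Fin n → R) × P)) with hK₁
    set K₁' := K₀'.map (e : ((Fin (n + 1) → R) × P) →ₗ[R] R × ((Fin n → R) × P)) with hK₁'
    have hc₁ : IsCompl K₁ K₁' := isCompl_map_equiv e hc
    have hfin₁ : Module.Finite R K₁ := Module.Finite.equiv (e.submoduleMap K₀)
    have hs₁ : ((0, ((0, s) : (Fin n → R) × P)) : R × ((Fin n → R) × P)) ∈ K₁ := by
      refine ⟨(0, s), hs, ?_⟩
      simp only [he, LinearEquiv.coe_coe, LinearEquiv.trans_apply]
      ext <;> simp [Fin.tail]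
    have hbig' : ∀ x : MaximalSpectrum R, BigAt x (⊤ : Submodule R ((Fin n → R) × P)) := by
      intro x
      apply BigAt.of_map (LinearMap.snd R (Fin n → R) P)
      rw [Submodule.map_top, LinearMap.range_eq_top.mpr LinearMap.snd_surjective]
      exact hbig x
    obtain ⟨K, K', hcK, ⟨eK⟩, hsK⟩ :=
      exists_summand_step hbig' ((0, s) : (Fin n → R) × P) K₁ K₁' hc₁ hfin₁ hs₁
    have eK₀ : K ≃ₗ[R] K₀ := eK ≪≫ₗ (e.submoduleMap K₀).symm
    exact ih P hbig s K K' hcK (Module.Free.of_equiv eK₀.symm) (Module.Finite.equiv eK₀.symm) hsK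

/-- **Bass**: every element of a big projective module lies in a finite free direct summand -/
theorem exists_finite_free_summand [IsNoetherianRing (R ⧸ (⊥ : Ideal R).jacobson)]
    (P : Type u) [AddCommGroup P] [Module R P] [Module.Projective R P]
    (hP : ∀ (m : Ideal R) [m.IsMaximal],
      ¬ Module.Finite (Localization.AtPrime m) (LocalizedModule m.primeCompl P))
    (s : P) :
    ∃ (K K' : Submodule R P), IsCompl K K' ∧ Module.Free R K ∧ Module.Finite R K ∧ s ∈ K := by
  obtain ⟨n, K₀, K₀', hc, hfree, hfin, hs⟩ := Groth.Agent.S7109.result R P s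
  have hbig : ∀ x : MaximalSpectrum R, BigAt x (⊤ : Submodule R P) := by
    intro x
    haveI := x.isMaximal
    exact bigAt_top_of_not_finite (P := P) x (hP x.asIdeal)
  exact exists_summand_of_prod n P hbig s K₀ K₀' hc hfree hfin hs

end induction

end Groth.Agent.Lib.helper2.BB
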