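import Mathlib
import Groth.Prelude.Def_CAlgX
import Groth.Prelude.Def_Found
import Groth.Agent.Lib.Helper2.BB3

/-!
# Bass: big projective modules (helper2), part 4: countably generated big projectives are free
-/

set_option autoImplicit false
universe u

namespace Groth.Agent.Lib.helper2.BB

open Module TopologicalSpace Groth.Agent.Lib.helper2.SP

variable {R : Type u} [CommRing R]

section indep

variable {M : Type u} [AddCommGroup M] [Module R M]

/-- a sequence of submodules each disjoint from the span of the previous ones is independent -/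
theorem iSupIndep_of_disjoint_nat (F : ℕ → Submodule R M)
    (h : ∀ n, Disjoint (⨆ i < n, F i) (F n)) : iSupIndep F := by
  classical
  apply iSupIndep_of_dfinsupp_lsum_injective
  rw [← LinearMap.ker_eq_bot, LinearMap.ker_eq_bot']
  intro v hv
  by_contra hne
  have hsupp : v.support.Nonempty := by
    rw [Finset.nonempty_iff_ne_empty]
    intro h0
    exact hne (DFinsupp.support_eq_empty.mp h0)
  set N := v.support.max' hsupp with hN
  have hNmem : N ∈ v.support := Finset.max'_mem _ _
  have hvN : v N ≠ 0 := (DFinsupp.mem_support_iff).mp hNmem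
  rw [DFinsupp.lsum_apply_apply, DFinsupp.sumAddHom_apply, DFinsupp.sum] at hv
  rw [← Finset.add_sum_erase _ _ hNmem] at hv
  have h1 : ((v N : F N) : M) = - ∑ i ∈ v.support.erase N, ((v i : F i) : M) := by
    simp only [Submodule.subtype_apply, LinearMap.toAddMonoidHom_coe] at hv
    exact eq_neg_of_add_eq_zero_left hv
  have h2 : ((v N : F N) : M) ∈ ⨆ i < N, F i := by
    rw [h1]
    apply Submodule.neg_mem
    apply Submodule.sum_mem
    intro i hi
    have hiN : i < N := lt_of_le_of_ne (Finset.le_max' _ _ (Finset.mem_of_mem_erase hi))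
      (Finset.ne_of_mem_erase hi)
    exact Submodule.mem_iSup_of_mem i (Submodule.mem_iSup_of_mem hiN (v i).2)
  have h3 := (Submodule.disjoint_def.mp (h N)) _ h2 (v N).2
  exact hvN (Subtype.ext h3)

end indep

section bigfree

variable [IsNoetherianRing (R ⧸ (⊥ : Ideal R).jacobson)]

theorem exists_finite_free_summand_of_bigAt
    (P : Type u) [AddCommGroup P] [Module R P] [Module.Projective R P]
    (hbig : ∀ x : MaximalSpectrum R, BigAt x (⊤ : Submodule R P)) (s : P) :
    ∃ (K K' : Submodule R P), IsCompl K K' ∧ Module.Free R K ∧ Module.Finite R K ∧ s ∈ K := by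
  obtain ⟨n, K₀, K₀', hc, hfree, hfin, hs⟩ := Groth.Agent.S7109.result R P s
  exact exists_summand_of_prod n P hbig s K₀ K₀' hc hfree hfin hs

variable {P : Type u} [AddCommGroup P] [Module R P]

/-- the states of the recursion: a decomposition `P = G ⊕ Q` with `Q` big -/
structure Good (R : Type u) [CommRing R] (P : Type u) [AddCommGroup P] [Module R P] where
  G : Submodule R P
  Q : Submodule R P
  compl : IsCompl G Q
  big : ∀ x : MaximalSpectrum R, BigAt x Q

theorem exists_good_step [Module.Projective R P] (S : Good R P) (t : P) :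
    ∃ (F : Submodule R P) (S' : Good R P), S'.G = S.G ⊔ F ∧ F ≤ S.Q ∧ Module.Free R F ∧
      t ∈ S'.G := by
  classical
  obtain ⟨G, Q, hc, hbig⟩ := S
  -- `Q` is projective and big
  haveI : Module.Projective R Q := Module.Projective.of_split Q.subtype
    (Submodule.projectionOnto Q G hc.symm) (Submodule.projectionOnto_comp_subtype hc.symm)
  have hbigQ : ∀ x : MaximalSpectrum R, BigAt x (⊤ : Submodule R Q) := by
    intro x
    apply BigAt.of_map Q.subtype
    rw [Submodule.map_subtype_top]
    exact hbig x
  -- decompose `t`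
  have ht : t ∈ G ⊔ Q := by rw [hc.sup_eq_top]; trivial
  obtain ⟨g, hg, q, hq, rfl⟩ := Submodule.mem_sup.mp ht
  obtain ⟨K, K', hcK, hfree, hfin, hqK⟩ := exists_finite_free_summand_of_bigAt Q hbigQ ⟨q, hq⟩
  set F := K.map Q.subtype with hF
  set Q' := K'.map Q.subtype with hQ'
  have hFQ : F ≤ Q := Submodule.map_subtype_le Q K
  have hsup : F ⊔ Q' = Q := by
    rw [hF, hQ', ← Submodule.map_sup, hcK.sup_eq_top, Submodule.map_subtype_top]
  have hdisj : Disjoint F Q' := by
    rw [hF, hQ', disjoint_iff, ← Submodule.map_inf _ Q.injective_subtype, hcK.inf_eq_bot,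
      Submodule.map_bot]
  have hcompl : IsCompl (G ⊔ F) Q' :=
    Disjoint.isCompl_sup_left_of_isCompl_sup_right hdisj (by rw [hsup]; exact hc)
  have hFfg : F.FG := by
    rw [hF]
    exact Submodule.FG.map _ ((Submodule.fg_top K).mp hfin.fg_top)
  obtain ⟨T₀, hT₀⟩ := hFfg
  have hbig' : ∀ x : MaximalSpectrum R, BigAt x Q' := by
    intro x
    refine (hbig x).of_le_sup_span T₀ ?_
    rw [hT₀, sup_comm, hsup]
  refine ⟨F, ⟨G ⊔ F, Q', hcompl, hbig'⟩, rfl, hFQ, ?_, ?_⟩
  · exact Module.Free.of_equiv (Submodule.equivSubtypeMap Q K)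
  · exact Submodule.add_mem _ (Submodule.mem_sup_left hg)
      (Submodule.mem_sup_right ⟨⟨q, hq⟩, hqK, rfl⟩)

theorem free_of_seq_of_bigAt [Module.Projective R P]
    (hbig : ∀ x : MaximalSpectrum R, BigAt x (⊤ : Submodule R P))
    (s : ℕ → P) (hs : Submodule.span R (Set.range s) = ⊤) : Module.Free R P := by
  classical
  choose F' S' h1 h2 h3 h4 using exists_good_step (R := R) (P := P)
  set S₀ : Good R P := ⟨⊥, ⊤, isCompl_bot_top, hbig⟩ with hS₀
  set seq : ℕ → Good R P := fun n => Nat.rec S₀ (fun n S => S' S (s n)) n with hseq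
  have hseq0 : seq 0 = S₀ := rfl
  have hseqS : ∀ n, seq (n + 1) = S' (seq n) (s n) := fun n => rfl
  set F : ℕ → Submodule R P := fun n => F' (seq n) (s n) with hF
  have hG : ∀ n, (seq (n + 1)).G = (seq n).G ⊔ F n := fun n => by rw [hseqS]; exact h1 _ _
  have hFQ : ∀ n, F n ≤ (seq n).Q := fun n => h2 _ _
  have hfree : ∀ n, Module.Free R (F n) := fun n => h3 _ _
  have hsn : ∀ n, s n ∈ (seq (n + 1)).G := fun n => by rw [hseqS]; exact h4 _ _
  have hGeq : ∀ n, (seq n).G = ⨆ i < n, F i := by
    intro n
    induction n with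
    | zero => simp [hseq0, hS₀]
    | succ n ih => rw [hG, ih, Nat.iSup_lt_succ]
  have hindep : iSupIndep F := by
    apply iSupIndep_of_disjoint_nat
    intro n
    rw [← hGeq]
    exact (seq n).compl.disjoint.mono_right (hFQ n)
  have htop : ⨆ n, F n = ⊤ := by
    rw [eq_top_iff, ← hs, Submodule.span_le]
    rintro _ ⟨n, rfl⟩
    have h5 : s n ∈ ⨆ i < n + 1, F i := by
      rw [← hGeq]; exact hsn n
    exact (iSup₂_le fun i _ => le_iSup F i) h5
  have hint := DirectSum.isInternal_submodule_of_iSupIndep_of_iSup_eq_top hindep htop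
  exact Module.Free.of_basis (hint.collectedBasis fun n => Module.Free.chooseBasis R (F n))

/-- **Bass**: a countably generated big projective module is free -/
theorem free_of_countablyGenerated
    (P : Type u) [AddCommGroup P] [Module R P] [Module.Projective R P]
    (hP : ∀ (m : Ideal R) [m.IsMaximal],
      ¬ Module.Finite (Localization.AtPrime m) (LocalizedModule m.primeCompl P))
    (hc : CAlg.IsCountablyGenerated R P) : Module.Free R P := by
  obtain ⟨T, hTc, hT⟩ := hc
  have hne : (T ∪ {0}).Nonempty := ⟨0, Or.inr rfl⟩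
  obtain ⟨s, hs⟩ := (hTc.union (Set.countable_singleton 0)).exists_eq_range hne
  have hbig : ∀ x : MaximalSpectrum R, BigAt x (⊤ : Submodule R P) := by
    intro x
    haveI := x.isMaximal
    exact bigAt_top_of_not_finite (P := P) x (hP x.asIdeal)
  apply free_of_seq_of_bigAt hbig s
  rw [← hs, eq_top_iff, ← hT]
  exact Submodule.span_mono Set.subset_union_left

end bigfree

end Groth.Agent.Lib.helper2.BB
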