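import Mathlib
import Groth.Prelude.Def_CAlgX
import Groth.Agent.Lib.Helper6.McCoy

/-!
# Buchsbaum–Eisenbud, part 1 (helper2): determinantal ideals `CAlgX.minorIdeal`

* `minorIdeal_map`: minors commute with ring homomorphisms.
* `minorIdeal_succ_le`, `minorIdeal_anti`: Laplace expansion.
* `minorIdeal_zero`.
* `minorIdeal_matrixRank_succ`, `matrixRank_eq_of`, `minorIdeal_eq_bot_of_matrixRank_lt`.
-/

set_option autoImplicit false
universe u

namespace Groth.Agent.Lib.helper2.BE

open CAlgX Matrix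

variable {R : Type u} [CommRing R]

theorem minorIdeal_map {S : Type u} [CommRing S] (f : R →+* S) {m n : Type} [Fintype m]
    [Fintype n] (A : Matrix m n R) (r : ℕ) :
    minorIdeal (A.map f) r = (minorIdeal A r).map f := by
  unfold minorIdeal
  rw [Ideal.map_span]
  congr 1
  ext x
  constructor
  · rintro ⟨fg, rfl⟩
    refine ⟨_, ⟨fg, rfl⟩, ?_⟩
    rw [RingHom.map_det]
    rfl
  · rintro ⟨_, ⟨fg, rfl⟩, rfl⟩
    refine ⟨fg, ?_⟩
    simp only
    rw [RingHom.map_det]
    rfl

theorem minorIdeal_zero {m n : Type} [Fintype m] [Fintype n] (A : Matrix m n R) :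
    minorIdeal A 0 = ⊤ := by
  unfold minorIdeal
  rw [Ideal.eq_top_iff_one]
  apply Ideal.subset_span
  exact ⟨(Fin.elim0, Fin.elim0), by simp⟩

theorem minorIdeal_succ_le {m n : Type} [Fintype m] [Fintype n] (A : Matrix m n R) (r : ℕ) :
    minorIdeal A (r + 1) ≤ minorIdeal A r := by
  unfold minorIdeal
  rw [Ideal.span_le]
  rintro _ ⟨⟨f, g⟩, rfl⟩
  show (A.submatrix f g).det ∈ _
  rw [Matrix.det_succ_row_zero]
  refine Ideal.sum_mem _ fun j _ => ?_
  apply Ideal.mul_mem_left
  refine Ideal.subset_span ⟨(f ∘ Fin.succ, g ∘ j.succAbove), ?_⟩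
  rfl

theorem minorIdeal_anti {m n : Type} [Fintype m] [Fintype n] (A : Matrix m n R) {r t : ℕ}
    (h : r ≤ t) : minorIdeal A t ≤ minorIdeal A r := by
  induction t, h using Nat.le_induction with
  | base => exact le_rfl
  | succ t _ ih => exact (minorIdeal_succ_le A t).trans ih

theorem minorIdeal_eq_bot_of_card_lt {m n : Type} [Fintype m] [Fintype n] (A : Matrix m n R)
    {r : ℕ} (hr : Fintype.card n < r) : minorIdeal A r = ⊥ := by
  classical
  unfold minorIdeal
  rw [Ideal.span_eq_bot]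
  rintro _ ⟨⟨f, g⟩, rfl⟩
  obtain ⟨k, l, hkl, hg⟩ := Fintype.exists_ne_map_eq_of_card_lt g (by simpa using hr)
  exact Matrix.det_zero_of_column_eq hkl (fun i => by simp [hg])

theorem bddAbove_rankSet {m n : Type} [Fintype m] [Fintype n] (A : Matrix m n R) :
    BddAbove {r : ℕ | minorIdeal A r ≠ ⊥} := by
  refine ⟨Fintype.card n, fun r hr => ?_⟩
  by_contra hlt
  exact hr (minorIdeal_eq_bot_of_card_lt A (by omega))

theorem minorIdeal_eq_bot_of_matrixRank_lt {m n : Type} [Fintype m] [Fintype n]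
    (A : Matrix m n R) {r : ℕ} (h : matrixRank A < r) : minorIdeal A r = ⊥ := by
  by_contra hne
  have : r ≤ matrixRank A := le_csSup (bddAbove_rankSet A) hne
  omega

theorem minorIdeal_matrixRank_succ {m n : Type} [Fintype m] [Fintype n] (A : Matrix m n R) :
    minorIdeal A (matrixRank A + 1) = ⊥ :=
  minorIdeal_eq_bot_of_matrixRank_lt A (Nat.lt_succ_self _)

theorem matrixRank_eq_of {m n : Type} [Fintype m] [Fintype n] (A : Matrix m n R) {r : ℕ}
    (h1 : minorIdeal A r ≠ ⊥) (h2 : minorIdeal A (r + 1) = ⊥) : matrixRank A = r := by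
  apply le_antisymm
  · apply csSup_le ⟨r, h1⟩
    intro t ht
    by_contra hlt
    apply ht
    rw [eq_bot_iff, ← h2]
    exact minorIdeal_anti A (by omega)
  · exact le_csSup (bddAbove_rankSet A) h1

theorem detIdeal_ne_bot [Nontrivial R] {m n : Type} [Fintype m] [Fintype n] (A : Matrix m n R) :
    detIdeal A ≠ ⊥ := by
  unfold detIdeal
  have hne : ({r : ℕ | minorIdeal A r ≠ ⊥}).Nonempty :=
    ⟨0, by show minorIdeal A 0 ≠ ⊥; rw [minorIdeal_zero]; exact top_ne_bot⟩
  exact Nat.sSup_mem hne (bddAbove_rankSet A)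

end Groth.Agent.Lib.helper2.BE
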