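import Mathlib

/-!
# Buchsbaum–Eisenbud, part 2 (helper2): localizing exactness of matrices

For a matrix `A` over `R`, a submonoid `S` and a localization `Rₛ` of `R` at `S`, we relate the
kernel and range of `(A.map (algebraMap R Rₛ)).mulVecLin` with those of `A.mulVecLin`.
-/

set_option autoImplicit false
universe u

namespace Groth.Agent.Lib.helper2.BE

open Matrix

variable {R : Type u} [CommRing R] (S : Submonoid R) (Rₛ : Type u) [CommRing Rₛ] [Algebra R Rₛ]
  [IsLocalization S Rₛ]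

/-- The map `(n → R) → (n → Rₛ)`. -/
def locVec {n : Type} (v : n → R) : n → Rₛ := fun i => algebraMap R Rₛ (v i)

theorem locVec_apply {n : Type} (v : n → R) (i : n) : locVec Rₛ v i = algebraMap R Rₛ (v i) := rfl

theorem locVec_smul {n : Type} (r : R) (v : n → R) :
    locVec Rₛ (r • v) = algebraMap R Rₛ r • locVec Rₛ v := by
  ext i; simp [locVec]

theorem locVec_add {n : Type} (v w : n → R) :
    locVec Rₛ (v + w) = locVec Rₛ v + locVec Rₛ w := by
  ext i; simp [locVec]

theorem locVec_sub {n : Type} (v w : n → R) :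
    locVec Rₛ (v - w) = locVec Rₛ v - locVec Rₛ w := by
  ext i; simp [locVec]

theorem locVec_zero {n : Type} : locVec Rₛ (0 : n → R) = 0 := by
  ext i; simp [locVec]

theorem locVec_mulVec {m n : Type} [Fintype n] (A : Matrix m n R) (v : n → R) :
    locVec Rₛ (A *ᵥ v) = (A.map (algebraMap R Rₛ)) *ᵥ locVec Rₛ v := by
  ext i
  exact RingHom.map_mulVec (algebraMap R Rₛ) A v i

include S in
theorem exists_locVec_eq {n : Type} [Finite n] (w : n → Rₛ) :
    ∃ s ∈ S, ∃ v : n → R, algebraMap R Rₛ s • w = locVec Rₛ v := by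
  obtain ⟨b, hb⟩ := IsLocalization.exist_integer_multiples_of_finite S w
  choose v hv using hb
  refine ⟨b, b.2, v, ?_⟩
  ext i
  rw [locVec_apply, hv i, Pi.smul_apply, smul_eq_mul, Algebra.smul_def]

include S in
theorem locVec_eq_zero_iff {n : Type} [Finite n] (v : n → R) :
    locVec Rₛ v = 0 ↔ ∃ s ∈ S, s • v = 0 := by
  classical
  cases nonempty_fintype n
  constructor
  · intro h
    have h1 : ∀ i, ∃ c : S, (c : R) * v i = 0 := by
      intro i
      have : algebraMap R Rₛ (v i) = algebraMap R Rₛ 0 := by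
        rw [map_zero]; exact congrFun h i
      obtain ⟨c, hc⟩ := (IsLocalization.eq_iff_exists S Rₛ).mp this
      exact ⟨c, by rw [hc, mul_zero]⟩
    choose c hc using h1
    refine ⟨∏ i, (c i : R), Submonoid.prod_mem _ (fun i _ => (c i).2), ?_⟩
    ext i
    rw [Pi.smul_apply, smul_eq_mul, Pi.zero_apply,
      ← Finset.mul_prod_erase Finset.univ _ (Finset.mem_univ i), mul_comm (c i : R), mul_assoc,
      hc i, mul_zero]
  · rintro ⟨s, hs, hsv⟩
    have h1 : algebraMap R Rₛ s • locVec Rₛ v = 0 := by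
      rw [← locVec_smul, hsv, locVec_zero]
    have hu : IsUnit (algebraMap R Rₛ s) := IsLocalization.map_units Rₛ ⟨s, hs⟩
    exact (hu.smul_eq_zero).mp h1

include S in
theorem locVec_mem_range_iff {m n : Type} [Fintype n] [Finite m] (A : Matrix m n R)
    (v : m → R) :
    locVec Rₛ v ∈ LinearMap.range (A.map (algebraMap R Rₛ)).mulVecLin ↔
      ∃ s ∈ S, s • v ∈ LinearMap.range A.mulVecLin := by
  constructor
  · rintro ⟨w, hw⟩
    obtain ⟨s, hs, u, hu⟩ := exists_locVec_eq S Rₛ w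
    have h1 : locVec Rₛ (s • v - A *ᵥ u) = 0 := by
      rw [locVec_sub, locVec_smul, locVec_mulVec, ← hu, ← hw, Matrix.mulVecLin_apply,
        Matrix.mulVec_smul, sub_self]
    obtain ⟨t, ht, htv⟩ := (locVec_eq_zero_iff S Rₛ _).mp h1
    refine ⟨t * s, S.mul_mem ht hs, t • u, ?_⟩
    rw [Matrix.mulVecLin_apply, Matrix.mulVec_smul, mul_smul]
    rw [smul_sub, sub_eq_zero] at htv
    exact htv.symm
  · rintro ⟨s, hs, u, hu⟩
    have hunit : IsUnit (algebraMap R Rₛ s) := IsLocalization.map_units Rₛ ⟨s, hs⟩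
    obtain ⟨c, hc⟩ := hunit.exists_left_inv
    refine ⟨c • locVec Rₛ u, ?_⟩
    rw [Matrix.mulVecLin_apply, Matrix.mulVec_smul, ← locVec_mulVec, ← Matrix.mulVecLin_apply, hu,
      locVec_smul, smul_smul, hc, one_smul]

include S in
theorem ker_eq_range_map {l m n : Type} [Fintype n] [Fintype m] [Finite l]
    (A : Matrix l m R) (B : Matrix m n R)
    (h : LinearMap.ker A.mulVecLin = LinearMap.range B.mulVecLin) :
    LinearMap.ker (A.map (algebraMap R Rₛ)).mulVecLin =
      LinearMap.range (B.map (algebraMap R Rₛ)).mulVecLin := by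
  apply le_antisymm
  · intro w hw
    rw [LinearMap.mem_ker, Matrix.mulVecLin_apply] at hw
    obtain ⟨s, hs, v, hv⟩ := exists_locVec_eq S Rₛ w
    have hunit : IsUnit (algebraMap R Rₛ s) := IsLocalization.map_units Rₛ ⟨s, hs⟩
    have h1 : locVec Rₛ (A *ᵥ v) = 0 := by
      rw [locVec_mulVec, ← hv, Matrix.mulVec_smul, hw, smul_zero]
    obtain ⟨t, ht, htv⟩ := (locVec_eq_zero_iff S Rₛ _).mp h1
    have h2 : t • v ∈ LinearMap.range B.mulVecLin := by
      rw [← h, LinearMap.mem_ker, Matrix.mulVecLin_apply, Matrix.mulVec_smul, htv]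
    have h3 : locVec Rₛ v ∈ LinearMap.range (B.map (algebraMap R Rₛ)).mulVecLin :=
      (locVec_mem_range_iff S Rₛ B v).mpr ⟨t, ht, h2⟩
    rw [← hv] at h3
    obtain ⟨c, hc⟩ := hunit.exists_left_inv
    have h4 := Submodule.smul_mem _ c h3
    rwa [smul_smul, hc, one_smul] at h4
  · rintro _ ⟨w, rfl⟩
    rw [LinearMap.mem_ker]
    obtain ⟨s, hs, v, hv⟩ := exists_locVec_eq S Rₛ w
    have hunit : IsUnit (algebraMap R Rₛ s) := IsLocalization.map_units Rₛ ⟨s, hs⟩
    have h1 : B *ᵥ v ∈ LinearMap.ker A.mulVecLin := by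
      rw [h]; exact ⟨v, rfl⟩
    rw [LinearMap.mem_ker, Matrix.mulVecLin_apply] at h1
    have h2 : algebraMap R Rₛ s • ((A.map (algebraMap R Rₛ)).mulVecLin
        ((B.map (algebraMap R Rₛ)).mulVecLin w)) = 0 := by
      rw [← map_smul, ← map_smul, hv, Matrix.mulVecLin_apply, Matrix.mulVecLin_apply,
        ← locVec_mulVec, ← locVec_mulVec, h1, locVec_zero]
    exact (hunit.smul_eq_zero).mp h2

include S in
theorem ker_eq_bot_map {m n : Type} [Fintype n] [Finite m]
    (A : Matrix m n R) (h : LinearMap.ker A.mulVecLin = ⊥) :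
    LinearMap.ker (A.map (algebraMap R Rₛ)).mulVecLin = ⊥ := by
  rw [eq_bot_iff]
  intro w hw
  rw [LinearMap.mem_ker, Matrix.mulVecLin_apply] at hw
  obtain ⟨s, hs, v, hv⟩ := exists_locVec_eq S Rₛ w
  have hunit : IsUnit (algebraMap R Rₛ s) := IsLocalization.map_units Rₛ ⟨s, hs⟩
  have h1 : locVec Rₛ (A *ᵥ v) = 0 := by
    rw [locVec_mulVec, ← hv, Matrix.mulVec_smul, hw, smul_zero]
  obtain ⟨t, ht, htv⟩ := (locVec_eq_zero_iff S Rₛ _).mp h1
  have h2 : t • v = 0 := by
    have : t • v ∈ LinearMap.ker A.mulVecLin := by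
      rw [LinearMap.mem_ker, Matrix.mulVecLin_apply, Matrix.mulVec_smul, htv]
    rw [h] at this
    exact this
  have h3 : locVec Rₛ v = 0 := (locVec_eq_zero_iff S Rₛ v).mpr ⟨t, ht, h2⟩
  rw [← hv] at h3
  exact (hunit.smul_eq_zero).mp h3

end Groth.Agent.Lib.helper2.BE
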