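import Mathlib
import Groth.Prelude.Def_CAlgX
import Groth.Agent.S10890
import Groth.Agent.Lib.Helper6.McCoy

/-!
# Buchsbaum–Eisenbud, part 3 (helper2): split maps over a local ring

* `free_of_isCompl`: a direct summand of a finite free module over a local ring is finite free.
* `ker_split`: if the range of `g : P → Q` is a direct summand, then `ker g` is a direct summand of
  `P`, and `finrank (ker g) + finrank (range g) = finrank P`.
* `eq_of_le_of_finrank_eq`: direct summand `B ≤ Z` of the same finite rank, `Z` free: `B = Z`.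
* `ker_eq_range_of_minorIdeal`: exactness from unit determinantal ideals and additivity of ranks.
-/

set_option autoImplicit false
universe u

namespace Groth.Agent.Lib.helper2.BE

open CAlgX Matrix

variable {A : Type u} [CommRing A] [IsLocalRing A]

theorem projective_of_isCompl {P : Type u} [AddCommGroup P] [Module A P] [Module.Projective A P]
    {p q : Submodule A P} (h : IsCompl p q) : Module.Projective A p :=
  Module.Projective.of_split p.subtype (Submodule.projectionOnto p q h)
    (by ext x; simp [Submodule.projectionOnto_apply_left])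

theorem finite_of_isCompl {P : Type u} [AddCommGroup P] [Module A P] [Module.Finite A P]
    {p q : Submodule A P} (h : IsCompl p q) : Module.Finite A p :=
  Module.Finite.of_surjective (Submodule.projectionOnto p q h)
    (Submodule.projectionOnto_surjective h)

theorem free_of_isCompl {P : Type u} [AddCommGroup P] [Module A P] [Module.Finite A P]
    [Module.Free A P] {p q : Submodule A P} (h : IsCompl p q) : Module.Free A p := by
  haveI := projective_of_isCompl h
  haveI := finite_of_isCompl h
  exact Module.free_of_flat_of_isLocalRing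

theorem finrank_add_of_isCompl {P : Type u} [AddCommGroup P] [Module A P] [Module.Finite A P]
    [Module.Free A P] {p q : Submodule A P} (h : IsCompl p q) :
    Module.finrank A p + Module.finrank A q = Module.finrank A P := by
  haveI := free_of_isCompl h
  haveI := finite_of_isCompl h
  haveI := free_of_isCompl h.symm
  haveI := finite_of_isCompl h.symm
  rw [← Module.finrank_prod, (Submodule.prodEquivOfIsCompl p q h).finrank_eq]

/-- If the range of `g` is a direct summand of a finite free module, `ker g` is a direct summand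
of the source, of the complementary rank. -/
theorem ker_split {P Q : Type u} [AddCommGroup P] [Module A P] [Module.Finite A P]
    [Module.Free A P] [AddCommGroup Q] [Module A Q] [Module.Finite A Q] [Module.Free A Q]
    (g : P →ₗ[A] Q) {N' : Submodule A Q} (hc : IsCompl (LinearMap.range g) N') :
    ∃ K' : Submodule A P, IsCompl (LinearMap.ker g) K' ∧
      Module.finrank A (LinearMap.ker g) + Module.finrank A (LinearMap.range g) =
        Module.finrank A P := by
  haveI := projective_of_isCompl hc
  obtain ⟨s, hs⟩ := Module.projective_lifting_property g.rangeRestrict LinearMap.id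
    g.surjective_rangeRestrict
  have hs' : ∀ y, g.rangeRestrict (s y) = y := fun y => LinearMap.congr_fun hs y
  have hinj : Function.Injective s := fun a b hab => by
    rw [← hs' a, ← hs' b, hab]
  have hcompl : IsCompl (LinearMap.ker g) (LinearMap.range s) := by
    constructor
    · rw [Submodule.disjoint_def]
      rintro x hx ⟨y, rfl⟩
      have h1 : g.rangeRestrict (s y) = 0 := by
        apply Subtype.ext
        simpa using hx
      rw [hs'] at h1
      rw [h1, map_zero]
    · rw [codisjoint_iff, eq_top_iff]
      intro x _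
      have h1 : x - s (g.rangeRestrict x) ∈ LinearMap.ker g := by
        rw [LinearMap.mem_ker, map_sub, sub_eq_zero]
        have := congrArg Subtype.val (hs' (g.rangeRestrict x))
        simpa using this.symm
      have : x = (x - s (g.rangeRestrict x)) + s (g.rangeRestrict x) := by abel
      rw [this]
      exact Submodule.add_mem_sup h1 ⟨_, rfl⟩
  refine ⟨LinearMap.range s, hcompl, ?_⟩
  rw [← finrank_add_of_isCompl hcompl]
  congr 1
  exact (LinearEquiv.ofInjective s hinj).finrank_eq

/-- A direct summand `B` contained in a finite free submodule `Z` of the same rank equals `Z`. -/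
theorem eq_of_le_of_finrank_eq {P : Type u} [AddCommGroup P] [Module A P] [Module.Finite A P]
    [Module.Free A P] {B Z N' : Submodule A P} (hBZ : B ≤ Z) (hc : IsCompl B N')
    [Module.Free A Z] [Module.Finite A Z]
    (hrank : Module.finrank A B = Module.finrank A Z) : B = Z := by
  haveI := free_of_isCompl hc
  haveI := finite_of_isCompl hc
  apply le_antisymm hBZ
  let q : P →ₗ[A] B := Submodule.projectionOnto B N' hc
  have hq : ∀ b : B, q (b : P) = b := fun b => Submodule.projectionOnto_apply_left hc b
  let qZ : Z →ₗ[A] B := q.comp Z.subtype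
  have hsurj : Function.Surjective qZ := by
    intro b
    exact ⟨⟨b, hBZ b.2⟩, hq b⟩
  obtain ⟨e⟩ : Nonempty (B ≃ₗ[A] Z) := FiniteDimensional.nonempty_linearEquiv_of_finrank_eq hrank
  have hsurj' : Function.Surjective (qZ.comp e.toLinearMap) := by
    rw [LinearMap.coe_comp]
    exact hsurj.comp e.surjective
  have hinj' := OrzechProperty.injective_of_surjective_endomorphism _ hsurj'
  have hinj : Function.Injective qZ := by
    intro a b hab
    obtain ⟨a', rfl⟩ := e.surjective a
    obtain ⟨b', rfl⟩ := e.surjective b
    have : a' = b' := hinj' hab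
    rw [this]
  intro z hz
  have h1 : qZ ⟨z, hz⟩ = qZ ⟨(q z : P), hBZ (q z).2⟩ := by
    show q z = q (q z : P)
    rw [hq]
  have h2 := hinj h1
  have h3 : z = (q z : P) := congrArg Subtype.val h2
  rw [h3]
  exact (q z).2

/-- Exactness of `Aᶜ → Aᵇ → Aᵃ` from determinantal ideals: if `M * N = 0`, the ideals of minors of
sizes `ρ, σ` of `M, N` are the unit ideal, those of sizes `ρ + 1, σ + 1` vanish and `ρ + σ = b`,
then `ker M = range N`. -/
theorem ker_eq_range_of_minorIdeal {a b c : ℕ} (M : Matrix (Fin a) (Fin b) A)
    (N : Matrix (Fin b) (Fin c) A) (hMN : M * N = 0) (ρ σ : ℕ) (hρσ : ρ + σ = b)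
    (hM1 : minorIdeal M (ρ + 1) = ⊥) (hM2 : minorIdeal M ρ = ⊤)
    (hN1 : minorIdeal N (σ + 1) = ⊥) (hN2 : minorIdeal N σ = ⊤) :
    LinearMap.ker M.mulVecLin = LinearMap.range N.mulVecLin := by
  obtain ⟨M', hMc, hMr⟩ := Groth.Agent.S10890.backward a b ρ M hM1 hM2
  obtain ⟨N', hNc, hNr⟩ := Groth.Agent.S10890.backward b c σ N hN1 hN2
  obtain ⟨K', hKc, hKr⟩ := ker_split M.mulVecLin hMc
  haveI := free_of_isCompl hKc
  haveI := finite_of_isCompl hKc
  symm
  apply eq_of_le_of_finrank_eq _ hNc
  · rw [hNr]
    rw [hMr, Module.finrank_fin_fun] at hKr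
    omega
  · rintro _ ⟨w, rfl⟩
    rw [LinearMap.mem_ker, Matrix.mulVecLin_apply, Matrix.mulVecLin_apply, Matrix.mulVec_mulVec, hMN,
      Matrix.zero_mulVec]

/-- Injectivity from the determinantal ideal of maximal size. -/
theorem ker_eq_bot_of_minorIdeal {a b : ℕ} (M : Matrix (Fin a) (Fin b) A)
    (hM2 : minorIdeal M b = ⊤) : LinearMap.ker M.mulVecLin = ⊥ := by
  have hM1 : minorIdeal M (b + 1) = ⊥ :=
    Groth.Agent.Lib.Helper6.McCoy.minorIdeal_eq_bot_of_lt M (Nat.lt_succ_self b)
  have h := ker_eq_range_of_minorIdeal M (0 : Matrix (Fin b) (Fin 0) A) (by simp) b 0 (by simp)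
    hM1 hM2 (Groth.Agent.Lib.Helper6.McCoy.minorIdeal_eq_bot_of_lt _ (by omega))
    (by
      unfold minorIdeal
      rw [Ideal.eq_top_iff_one]
      exact Ideal.subset_span ⟨(Fin.elim0, Fin.elim0), by simp⟩)
  rw [h, eq_bot_iff]
  rintro _ ⟨w, rfl⟩
  simp

/-- The cokernel of a matrix with unit determinantal ideal is free. -/
theorem exists_equiv_quotient_range {a b : ℕ} (M : Matrix (Fin a) (Fin b) A) (ρ : ℕ)
    (hM1 : minorIdeal M (ρ + 1) = ⊥) (hM2 : minorIdeal M ρ = ⊤) :
    ∃ k : ℕ, Nonempty (((Fin a → A) ⧸ LinearMap.range M.mulVecLin) ≃ₗ[A] (Fin k → A)) := by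
  obtain ⟨M', hMc, -⟩ := Groth.Agent.S10890.backward a b ρ M hM1 hM2
  haveI := free_of_isCompl hMc.symm
  haveI := finite_of_isCompl hMc.symm
  let e1 : ((Fin a → A) ⧸ LinearMap.range M.mulVecLin) ≃ₗ[A] M' :=
    Submodule.quotientEquivOfIsCompl _ _ hMc
  let e2 : M' ≃ₗ[A] (Fin (Module.finrank A M') → A) := (Module.finBasis A M').equivFun
  exact ⟨Module.finrank A M', ⟨e1.trans e2⟩⟩

end Groth.Agent.Lib.helper2.BE
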