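import Mathlib
import Groth.Prelude.Def_CAlgX
import Groth.Prelude.Def_CAlg
import Groth.Agent.Lib.Helper26.Depth6
import Groth.Agent.Lib.Helper26.DepthCR

/-!
# Buchsbaum–Eisenbud, part 4 (helper2): depth along an exact complex

`le_idealDepth_coker_chain`: for a complex `⋯ → F (j+1) --ψ j--> F j → ⋯` of finite modules over a
Noetherian ring, exact at `F (j+1)` for `i ≤ j < s`, with `d ≤ depth (F j)` for `i ≤ j < s` and
`d ≤ depth (coker (ψ s))`, one has `d - (s - j) ≤ depth (coker (ψ j))` for `i ≤ j ≤ s`.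
-/

set_option autoImplicit false
universe u

namespace Groth.Agent.Lib.helper2.BE

open LocCoh Groth.Agent.Lib.helper26.Depth

section chain

variable {R : Type u} [CommRing R] [IsNoetherianRing R] (I : Ideal R)
  (F : ℕ → Type u) [∀ j, AddCommGroup (F j)] [∀ j, Module R (F j)] [∀ j, Module.Finite R (F j)]
  (ψ : ∀ j, F (j + 1) →ₗ[R] F j)

theorem le_idealDepth_coker_step (j : ℕ)
    (hex : LinearMap.ker (ψ j) = LinearMap.range (ψ (j + 1))) :
    min (idealDepth I (F j)) (idealDepth I (F (j + 1) ⧸ LinearMap.range (ψ (j + 1))) - 1) ≤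
      idealDepth I (F j ⧸ LinearMap.range (ψ j)) := by
  let f : (F (j + 1) ⧸ LinearMap.range (ψ (j + 1))) →ₗ[R] F j :=
    (LinearMap.range (ψ (j + 1))).liftQ (ψ j) (by rw [hex])
  let g : F j →ₗ[R] (F j ⧸ LinearMap.range (ψ j)) := (LinearMap.range (ψ j)).mkQ
  have hf : Function.Injective f := by
    rw [← LinearMap.ker_eq_bot]
    exact Submodule.ker_liftQ_eq_bot _ _ _ (by rw [hex])
  have hg : Function.Surjective g := Submodule.mkQ_surjective _
  have hfg : Function.Exact f g := by
    rw [LinearMap.exact_iff, Submodule.ker_mkQ, Submodule.range_liftQ]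
  exact min_le_idealDepth_X₃ I f g hf hg hfg

theorem le_idealDepth_coker_chain (i s : ℕ) (d : ℕ∞)
    (h1 : ∀ j, i ≤ j → j < s → LinearMap.ker (ψ j) = LinearMap.range (ψ (j + 1)))
    (h2 : ∀ j, i ≤ j → j < s → d ≤ idealDepth I (F j))
    (h3 : d ≤ idealDepth I (F s ⧸ LinearMap.range (ψ s))) :
    ∀ j, i ≤ j → j ≤ s → d - ((s - j : ℕ) : ℕ∞) ≤ idealDepth I (F j ⧸ LinearMap.range (ψ j)) := by
  intro j hij hjs
  induction hjs using Nat.decreasingInduction with
  | self => simpa using h3
  | of_succ k hks ih =>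
    have ih' := ih (by omega)
    refine le_trans ?_ (le_idealDepth_coker_step I F ψ k (h1 k hij hks))
    rw [le_min_iff]
    constructor
    · exact (tsub_le_self).trans (h2 k hij hks)
    · have h4 : ((s - k : ℕ) : ℕ∞) = ((s - (k + 1) : ℕ) : ℕ∞) + 1 := by
        have : s - k = (s - (k + 1)) + 1 := by omega
        rw [this]; push_cast; rfl
      rw [h4, ← tsub_tsub]
      exact tsub_le_tsub_right ih' 1

end chain

section free

variable {A : Type u} [CommRing A] [IsNoetherianRing A] [IsLocalRing A]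

theorem depth_le_idealDepth_pi (k : ℕ) :
    idealDepth (IsLocalRing.maximalIdeal A) A ≤
      idealDepth (IsLocalRing.maximalIdeal A) (Fin k → A) := by
  rcases Nat.eq_zero_or_pos k with rfl | hk
  · rw [idealDepth_eq_top_of_smul_top_eq_top (IsLocalRing.maximalIdeal A) (Fin 0 → A)
      (Subsingleton.elim _ _)]
    exact le_top
  · haveI : Nonempty (Fin k) := ⟨⟨0, hk⟩⟩
    rw [idealDepth_free (IsLocalRing.maximalIdeal A) (Fin k → A)]

theorem depth_le_idealDepth_of_equiv_pi {M : Type u} [AddCommGroup M] [Module A M] (k : ℕ)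
    (e : M ≃ₗ[A] (Fin k → A)) :
    idealDepth (IsLocalRing.maximalIdeal A) A ≤ idealDepth (IsLocalRing.maximalIdeal A) M := by
  rw [idealDepth_congr e]
  exact depth_le_idealDepth_pi k

end free

end Groth.Agent.Lib.helper2.BE
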