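import Mathlib
import Groth.Prelude.Def_CAlgX
import Groth.Prelude.Def_CAlg
import Groth.Agent.Lib.Helper2.BE1
import Groth.Agent.Lib.Helper2.BE3
import Groth.Agent.Lib.Helper2.BE4

/-!
# Buchsbaum–Eisenbud, part 5 (helper2): the local step

Over a Noetherian local ring `A`, for a complex of matrices `M j : A^(n (j+1)) → A^(n j)` of length
`e` satisfying the rank and depth conditions in local form, which is exact above level `i + 1`:
no element of `A^(n (i+1))` outside the image of `M (i+1)` is sent into that image by the maximal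
ideal (`local_key`).
-/

set_option autoImplicit false
universe u

namespace Groth.Agent.Lib.helper2.BE

open CAlgX LocCoh Groth.Agent.Lib.helper26.Depth

/-- The maps of the complex, truncated at `e`: `psi e n M j = M j` for `j < e` and `0` beyond. -/
noncomputable def psi {R : Type u} [CommRing R] (e : ℕ) (n : ℕ → ℕ)
    (M : (j : ℕ) → Matrix (Fin (n j)) (Fin (n (j + 1))) R) (j : ℕ) :
    (Fin (n (j + 1)) → R) →ₗ[R] (Fin (n j) → R) :=
  if j < e then (M j).mulVecLin else 0

theorem psi_of_lt {R : Type u} [CommRing R] (e : ℕ) (n : ℕ → ℕ)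
    (M : (j : ℕ) → Matrix (Fin (n j)) (Fin (n (j + 1))) R) {j : ℕ} (h : j < e) :
    psi e n M j = (M j).mulVecLin := by
  unfold psi; rw [if_pos h]

theorem psi_of_le {R : Type u} [CommRing R] (e : ℕ) (n : ℕ → ℕ)
    (M : (j : ℕ) → Matrix (Fin (n j)) (Fin (n (j + 1))) R) {j : ℕ} (h : e ≤ j) :
    psi e n M j = 0 := by
  unfold psi; rw [if_neg (by omega)]

variable {A : Type u} [CommRing A] [IsNoetherianRing A] [IsLocalRing A]
  (e : ℕ) (n : ℕ → ℕ) (M : (j : ℕ) → Matrix (Fin (n j)) (Fin (n (j + 1))) A)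

theorem local_key (ρ : ℕ → ℕ) (hρe : ρ (e + 1) = 0)
    (hρ : ∀ j, j < e → ρ (j + 1) + ρ (j + 2) = n (j + 1))
    (hcomp : ∀ j, j + 2 ≤ e → M j * M (j + 1) = 0)
    (hmin : ∀ j, j < e → minorIdeal (M j) (ρ (j + 1) + 1) = ⊥ ∧
      (minorIdeal (M j) (ρ (j + 1)) = ⊤ ∨
        ((j + 1 : ℕ) : ℕ∞) ≤ idealDepth (IsLocalRing.maximalIdeal A) A))
    (i : ℕ) (hi : i < e)
    (hex : ∀ j, i + 1 ≤ j → j < e →
      LinearMap.ker (psi e n M j) = LinearMap.range (psi e n M (j + 1)))
    (x : Fin (n (i + 1)) → A) (hx : (M i).mulVecLin x = 0)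
    (hmx : ∀ a ∈ IsLocalRing.maximalIdeal A, a • x ∈ LinearMap.range (psi e n M (i + 1))) :
    x ∈ LinearMap.range (psi e n M (i + 1)) := by
  set δ := idealDepth (IsLocalRing.maximalIdeal A) A with hδ
  by_cases hiδ : ((i + 1 : ℕ) : ℕ∞) ≤ δ
  · -- depth chain
    by_contra hxn
    obtain ⟨s, his, hse, hsδ, hstop⟩ : ∃ s : ℕ, i + 1 ≤ s ∧ s ≤ e ∧ (s : ℕ∞) ≤ δ ∧
        (s < e → ¬ ((s + 1 : ℕ) : ℕ∞) ≤ δ) := by
      by_cases hcase : (e : ℕ∞) ≤ δ
      · exact ⟨e, hi, le_rfl, hcase, fun h => absurd h (lt_irrefl _)⟩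
      · push Not at hcase
        have hne : δ ≠ ⊤ := ne_top_of_lt hcase
        obtain ⟨t, ht⟩ := ENat.ne_top_iff_exists.mp hne
        rw [← ht] at hcase hiδ
        have h1 : t < e := by exact_mod_cast hcase
        have h2 : i + 1 ≤ t := by exact_mod_cast hiδ
        refine ⟨t, h2, h1.le, by rw [← ht], fun _ => ?_⟩
        rw [← ht]
        intro h3
        have : t + 1 ≤ t := by exact_mod_cast h3
        omega
    have hF : ∀ j, δ ≤ idealDepth (IsLocalRing.maximalIdeal A) (Fin (n j) → A) :=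
      fun j => depth_le_idealDepth_pi (n j)
    have h3 : δ ≤ idealDepth (IsLocalRing.maximalIdeal A)
        ((Fin (n s) → A) ⧸ LinearMap.range (psi e n M s)) := by
      rcases Nat.lt_or_ge s e with hlt | hge
      · rw [psi_of_lt e n M hlt]
        have hm := hmin s hlt
        have h4 : minorIdeal (M s) (ρ (s + 1)) = ⊤ := by
          rcases hm.2 with h | h
          · exact h
          · exact absurd h (hstop hlt)
        obtain ⟨k, ⟨ek⟩⟩ := exists_equiv_quotient_range (M s) (ρ (s + 1)) hm.1 h4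
        exact depth_le_idealDepth_of_equiv_pi k ek
      · rw [psi_of_le e n M hge, LinearMap.range_zero]
        rw [idealDepth_congr (Submodule.quotEquivOfEqBot (⊥ : Submodule A (Fin (n s) → A)) rfl)]
        exact hF s
    have hchain := le_idealDepth_coker_chain (IsLocalRing.maximalIdeal A)
      (fun j => Fin (n j) → A) (psi e n M) (i + 1) s δ
      (fun j h1 h2 => hex j h1 (by omega)) (fun j _ _ => hF j) h3 (i + 1) le_rfl his
    have h5 : (1 : ℕ∞) ≤ δ - ((s - (i + 1) : ℕ) : ℕ∞) := by
      have h6 : ((s : ℕ) : ℕ∞) - ((s - (i + 1) : ℕ) : ℕ∞) ≤ δ - ((s - (i + 1) : ℕ) : ℕ∞) :=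
        tsub_le_tsub_right hsδ _
      refine le_trans ?_ h6
      have h7 : ((s : ℕ) : ℕ∞) - ((s - (i + 1) : ℕ) : ℕ∞) = ((s - (s - (i + 1)) : ℕ) : ℕ∞) := by
        push_cast; rfl
      rw [h7]
      have : 1 ≤ s - (s - (i + 1)) := by omega
      exact_mod_cast this
    have h8 := h5.trans hchain
    set C := (Fin (n (i + 1)) → A) ⧸ LinearMap.range (psi e n M (i + 1)) with hC
    have hxne : (Submodule.Quotient.mk x : C) ≠ 0 := by
      rw [Ne, Submodule.Quotient.mk_eq_zero]
      exact hxn
    haveI : Nontrivial C := ⟨⟨_, _, hxne⟩⟩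
    have h9 := idealDepth_eq_zero_of_annihilated (IsLocalRing.maximalIdeal A) C
      (maximalIdeal_smul_top_ne_top C) (Submodule.Quotient.mk x) hxne
      (fun a ha => by
        rw [← Submodule.Quotient.mk_smul, Submodule.Quotient.mk_eq_zero]
        exact hmx a ha)
    rw [h9] at h8
    exact absurd h8 (by norm_num)
  · -- split case
    have hm := hmin i hi
    have hMi : minorIdeal (M i) (ρ (i + 1)) = ⊤ := by
      rcases hm.2 with h | h
      · exact h
      · exact absurd h hiδ
    rcases Nat.lt_or_ge (i + 1) e with hlt | hge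
    · rw [psi_of_lt e n M hlt]
      have hm' := hmin (i + 1) hlt
      have hMi' : minorIdeal (M (i + 1)) (ρ (i + 2)) = ⊤ := by
        rcases hm'.2 with h | h
        · exact h
        · exfalso
          apply hiδ
          refine le_trans ?_ h
          exact_mod_cast Nat.le_succ _
      have := ker_eq_range_of_minorIdeal (M i) (M (i + 1)) (hcomp i (by omega)) (ρ (i + 1))
        (ρ (i + 2)) (hρ i hi) hm.1 hMi hm'.1 hMi'
      rw [← this]
      exact hx
    · have hie : i + 1 = e := by omega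
      have h1 : ρ (i + 1) = n (i + 1) := by
        have := hρ i hi
        rw [show i + 2 = e + 1 by omega, hρe] at this
        omega
      rw [h1] at hMi
      have := ker_eq_bot_of_minorIdeal (M i) hMi
      have hx0 : x = 0 := by
        have : x ∈ LinearMap.ker (M i).mulVecLin := hx
        rwa [‹LinearMap.ker (M i).mulVecLin = ⊥›] at this
      rw [hx0]
      exact Submodule.zero_mem _

end Groth.Agent.Lib.helper2.BE
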