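import Mathlib
import Groth.Prelude.Def_CAlgX
import Groth.Prelude.Def_CAlg
import Groth.Agent.Lib.Helper2.BE1
import Groth.Agent.Lib.Helper2.BE2
import Groth.Agent.Lib.Helper2.BE5

/-!
# Buchsbaum–Eisenbud, part 6 (helper2): sufficiency of the rank and depth conditions

`be_exact`: over a Noetherian ring, a complex of finite free modules whose maps have the expected
ranks and whose determinantal ideals contain regular sequences of the expected lengths is acyclic.
-/

set_option autoImplicit false
universe u

namespace Groth.Agent.Lib.helper2.BE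

open CAlgX LocCoh Groth.Agent.Lib.helper26.Depth

section altsum

theorem altsum_succ (e : ℕ) (f : ℕ → ℤ) (J : ℕ) (hJ : J ≤ e) :
    ∑ t ∈ Finset.Icc J e, (-1 : ℤ) ^ (t - J) * f t =
      f J - ∑ t ∈ Finset.Icc (J + 1) e, (-1 : ℤ) ^ (t - (J + 1)) * f t := by
  rw [Finset.Icc_eq_cons_Ioc hJ, Finset.sum_cons, Nat.sub_self, pow_zero, one_mul,
    sub_eq_add_neg, ← Finset.sum_neg_distrib]
  congr 1
  have : Finset.Icc (J + 1) e = Finset.Ioc J e := by
    ext t; simp
  rw [this]
  refine Finset.sum_congr rfl fun t ht => ?_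
  rw [Finset.mem_Ioc] at ht
  have h1 : t - J = (t - (J + 1)) + 1 := by omega
  rw [h1, pow_succ]
  ring

end altsum

section psimap

variable {R : Type u} [CommRing R] (S : Submonoid R) (Rₛ : Type u) [CommRing Rₛ] [Algebra R Rₛ]
  [IsLocalization S Rₛ] (e : ℕ) (n : ℕ → ℕ)
  (A : (j : ℕ) → Matrix (Fin (n j)) (Fin (n (j + 1))) R)

include S in
theorem locVec_mem_range_psi_iff (j : ℕ) (v : Fin (n j) → R) :
    locVec Rₛ v ∈ LinearMap.range (psi e n (fun j => (A j).map (algebraMap R Rₛ)) j) ↔
      ∃ s ∈ S, s • v ∈ LinearMap.range (psi e n A j) := by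
  rcases Nat.lt_or_ge j e with h | h
  · rw [psi_of_lt e n _ h, psi_of_lt e n _ h]
    exact locVec_mem_range_iff S Rₛ (A j) v
  · rw [psi_of_le e n _ h, psi_of_le e n _ h, LinearMap.range_zero, LinearMap.range_zero]
    simp only [Submodule.mem_bot]
    exact locVec_eq_zero_iff S Rₛ v

include S in
theorem ker_psi_eq_range_psi_map (j : ℕ) (hj : j < e)
    (h : LinearMap.ker (psi e n A j) = LinearMap.range (psi e n A (j + 1))) :
    LinearMap.ker (psi e n (fun j => (A j).map (algebraMap R Rₛ)) j) =
      LinearMap.range (psi e n (fun j => (A j).map (algebraMap R Rₛ)) (j + 1)) := by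
  rw [psi_of_lt e n _ hj] at h ⊢
  rcases Nat.lt_or_ge (j + 1) e with h' | h'
  · rw [psi_of_lt e n _ h'] at h ⊢
    exact ker_eq_range_map S Rₛ (A j) (A (j + 1)) h
  · rw [psi_of_le e n _ h', LinearMap.range_zero] at h ⊢
    exact ker_eq_bot_map S Rₛ (A j) h

end psimap

variable {R : Type u} [CommRing R] [IsNoetherianRing R]

/-- **Buchsbaum–Eisenbud acyclicity criterion**, sufficiency, in terms of `psi`. -/
theorem be_exact_aux (e : ℕ) (n : ℕ → ℕ)
    (A : (i : ℕ) → Matrix (Fin (n i)) (Fin (n (i + 1))) R)
    (hA : ∀ i, i + 2 ≤ e → A i * A (i + 1) = 0)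
    (hrank : ∀ j, 1 ≤ j → j ≤ e →
      (matrixRank (A (j - 1)) : ℤ) = ∑ t ∈ Finset.Icc j e, (-1 : ℤ) ^ (t - j) * (n t : ℤ))
    (hdet : ∀ j, 1 ≤ j → j ≤ e →
      detIdeal (A (j - 1)) = ⊤ ∨
        ∃ rs : List R, rs.length = j ∧ (∀ r ∈ rs, r ∈ detIdeal (A (j - 1))) ∧
          RingTheory.Sequence.IsRegular R rs) :
    ∀ i, i < e → ∀ x : Fin (n (i + 1)) → R, (A i).mulVecLin x = 0 →
      x ∈ LinearMap.range (psi e n A (i + 1)) := by
  classical
  -- expected ranks
  set ρ : ℕ → ℕ := fun j => if j ≤ e then matrixRank (A (j - 1)) else 0 with hρdef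
  have hρe : ρ (e + 1) = 0 := by simp [hρdef]
  have hρval : ∀ j, j < e → ρ (j + 1) = matrixRank (A j) := by
    intro j hj
    simp only [hρdef]
    rw [if_pos (by omega), Nat.add_sub_cancel]
  have hρ : ∀ j, j < e → ρ (j + 1) + ρ (j + 2) = n (j + 1) := by
    intro j hj
    have h1 := hrank (j + 1) (by omega) (by omega)
    rw [Nat.add_sub_cancel, altsum_succ e _ (j + 1) (by omega)] at h1
    rw [hρval j hj]
    rcases Nat.lt_or_ge (j + 1) e with h | h
    · have h2 := hrank (j + 2) (by omega) (by omega)
      rw [show j + 2 - 1 = j + 1 by omega] at h2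
      rw [show j + 1 + 1 = j + 2 by omega, ← h2] at h1
      rw [hρval (j + 1) h]
      omega
    · have h3 : Finset.Icc (j + 1 + 1) e = ∅ := Finset.Icc_eq_empty (by omega)
      rw [h3, Finset.sum_empty, sub_zero] at h1
      have h4 : ρ (j + 2) = 0 := by
        simp only [hρdef]; rw [if_neg (by omega)]
      rw [h4]
      omega
  -- descending induction
  intro i
  induction hm : e - i using Nat.strong_induction_on generalizing i with
  | _ m ih =>
    intro hi x hx
    by_contra hxn
    -- exactness above
    have hexR : ∀ j, i + 1 ≤ j → j < e →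
        LinearMap.ker (psi e n A j) = LinearMap.range (psi e n A (j + 1)) := by
      intro j hij hje
      apply le_antisymm
      · intro y hy
        rw [psi_of_lt e n A hje] at hy
        exact ih (e - j) (by omega) j rfl hje y hy
      · rw [psi_of_lt e n A hje]
        rcases Nat.lt_or_ge (j + 1) e with h | h
        · rw [psi_of_lt e n A h]
          rintro _ ⟨w, rfl⟩
          rw [LinearMap.mem_ker, Matrix.mulVecLin_apply, Matrix.mulVecLin_apply,
            Matrix.mulVec_mulVec, hA j (by omega), Matrix.zero_mulVec]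
        · rw [psi_of_le e n A h, LinearMap.range_zero]
          exact bot_le
    -- an associated prime
    set B := LinearMap.range (psi e n A (i + 1)) with hB
    set K := LinearMap.ker (A i).mulVecLin with hK
    let B' : Submodule R K := B.comap K.subtype
    have hnt : Nontrivial (K ⧸ B') := by
      refine ⟨⟨Submodule.Quotient.mk ⟨x, hx⟩, 0, ?_⟩⟩
      rw [Ne, Submodule.Quotient.mk_eq_zero]
      exact hxn
    obtain ⟨P, hP⟩ := associatedPrimes.nonempty R (K ⧸ B')
    obtain ⟨hPprime, ybar, hy⟩ := (isAssociatedPrime_iff).mp hP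
    obtain ⟨⟨y, hyK⟩, rfl⟩ := Submodule.Quotient.mk_surjective _ ybar
    have hPy : ∀ r : R, r ∈ P ↔ r • y ∈ B := by
      intro r
      rw [hy, Submodule.mem_colon_singleton, Submodule.mem_bot, ← Submodule.Quotient.mk_smul,
        Submodule.Quotient.mk_eq_zero]
      rfl
    -- localize
    let Rp := Localization.AtPrime P
    let M : (j : ℕ) → Matrix (Fin (n j)) (Fin (n (j + 1))) Rp :=
      fun j => (A j).map (algebraMap R Rp)
    have hcomp : ∀ j, j + 2 ≤ e → M j * M (j + 1) = 0 := by
      intro j hj
      show (A j).map (algebraMap R Rp) * (A (j + 1)).map (algebraMap R Rp) = 0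
      rw [← Matrix.map_mul, hA j hj, Matrix.map_zero _ (map_zero _)]
    have hmin : ∀ j, j < e → minorIdeal (M j) (ρ (j + 1) + 1) = ⊥ ∧
        (minorIdeal (M j) (ρ (j + 1)) = ⊤ ∨
          ((j + 1 : ℕ) : ℕ∞) ≤ idealDepth (IsLocalRing.maximalIdeal Rp) Rp) := by
      intro j hj
      rw [hρval j hj]
      constructor
      · show minorIdeal ((A j).map (algebraMap R Rp)) _ = ⊥
        rw [minorIdeal_map, minorIdeal_matrixRank_succ, Ideal.map_bot]
      · show minorIdeal ((A j).map (algebraMap R Rp)) _ = ⊤ ∨ _
        rw [minorIdeal_map]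
        have hd := hdet (j + 1) (by omega) (by omega)
        rw [Nat.add_sub_cancel] at hd
        rcases hd with hd | ⟨rs, hlen, hmem, hreg⟩
        · left
          have : minorIdeal (A j) (matrixRank (A j)) = ⊤ := hd
          rw [this, Ideal.map_top]
        · by_cases hall : ∀ r ∈ rs, r ∈ P
          · right
            have hw : RingTheory.Sequence.IsWeaklyRegular Rp (rs.map (algebraMap R Rp)) :=
              RingTheory.Sequence.IsWeaklyRegular.of_isLocalization Rp P.primeCompl
                hreg.toIsWeaklyRegular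
            have := length_le_idealDepth (I := IsLocalRing.maximalIdeal Rp) hw (by
              intro r hr
              obtain ⟨r', hr', rfl⟩ := List.mem_map.mp hr
              exact (IsLocalization.AtPrime.to_map_mem_maximal_iff Rp P r').mpr (hall r' hr'))
            rw [List.length_map, hlen] at this
            exact this
          · left
            push Not at hall
            obtain ⟨r, hr, hrP⟩ := hall
            apply Ideal.eq_top_of_isUnit_mem _ (Ideal.mem_map_of_mem _ (hmem r hr))
            exact IsLocalization.map_units Rp (⟨r, hrP⟩ : P.primeCompl)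
    have hex : ∀ j, i + 1 ≤ j → j < e →
        LinearMap.ker (psi e n M j) = LinearMap.range (psi e n M (j + 1)) := by
      intro j hij hje
      exact ker_psi_eq_range_psi_map P.primeCompl Rp e n A j hje (hexR j hij hje)
    have hx' : (M i).mulVecLin (locVec Rp y) = 0 := by
      rw [Matrix.mulVecLin_apply]
      show ((A i).map (algebraMap R Rp)).mulVec (locVec Rp y) = 0
      rw [← locVec_mulVec]
      have : (A i).mulVec y = 0 := hyK
      rw [this, locVec_zero]
    have hmx : ∀ a ∈ IsLocalRing.maximalIdeal Rp,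
        a • locVec Rp y ∈ LinearMap.range (psi e n M (i + 1)) := by
      intro a ha
      obtain ⟨p, s, rfl⟩ := IsLocalization.exists_mk'_eq P.primeCompl a
      have hp : p ∈ P := (IsLocalization.AtPrime.mk'_mem_maximal_iff Rp P p s).mp ha
      have h1 : locVec Rp (p • y) ∈ LinearMap.range (psi e n M (i + 1)) :=
        (locVec_mem_range_psi_iff P.primeCompl Rp e n A (i + 1) _).mpr
          ⟨1, P.primeCompl.one_mem, by rw [one_smul]; exact (hPy p).mp hp⟩
      have h2 : IsLocalization.mk' Rp p s • locVec Rp y =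
          IsLocalization.mk' Rp 1 s • locVec Rp (p • y) := by
        rw [locVec_smul, smul_smul]
        congr 1
        rw [mul_comm, ← IsLocalization.mk'_eq_mul_mk'_one]
      rw [h2]
      exact Submodule.smul_mem _ _ h1
    have hkey := local_key e n M ρ hρe hρ hcomp hmin i hi hex (locVec Rp y) hx' hmx
    obtain ⟨s, hs, hsy⟩ := (locVec_mem_range_psi_iff P.primeCompl Rp e n A (i + 1) y).mp hkey
    exact hs ((hPy s).mpr hsy)

end Groth.Agent.Lib.helper2.BE
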