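import Mathlib
import Groth.Prelude.Def_CAlgX
import Groth.Prelude.Def_CAlg
import Groth.Agent.Lib.Helper26.Depth6

/-!
# Buchsbaum–Eisenbud, part 7 (helper2): projective dimension along an exact complex

For a complex `⋯ → F (j+1) --ψ j--> F j → ⋯` of projective modules, `C j = coker (ψ j)`:
* `hasProjectiveDimensionLT_coker_desc`: exactness and `C s` projective give `pd (C t) ≤ s - t`;
* `hasProjectiveDimensionLT_coker_asc`: exactness and `pd (C 0) ≤ d` give `pd (C t) ≤ d - t`;
* `projective_coker_of_depth`: over a Noetherian local ring of depth `d`, an exact complex of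
  finite projective modules has `C t` projective for `t ≥ d` (Auslander–Buchsbaum).
-/

set_option autoImplicit false
universe u

namespace Groth.Agent.Lib.helper2.BE

open CategoryTheory LocCoh Groth.Agent.Lib.helper26.Depth

section pd

variable {B : Type u} [CommRing B]
  (F : ℕ → Type u) [∀ j, AddCommGroup (F j)] [∀ j, Module B (F j)]
  (ψ : ∀ j, F (j + 1) →ₗ[B] F j)

/-- the short exact sequence `0 → C (j+1) → F j → C j → 0`. -/
theorem exists_shortExact_coker (j : ℕ)
    (hex : LinearMap.ker (ψ j) = LinearMap.range (ψ (j + 1))) :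
    ∃ S : ShortComplex (ModuleCat.{u} B), S.ShortExact ∧
      S.X₁ = ModuleCat.of B (F (j + 1) ⧸ LinearMap.range (ψ (j + 1))) ∧
      S.X₂ = ModuleCat.of B (F j) ∧ S.X₃ = ModuleCat.of B (F j ⧸ LinearMap.range (ψ j)) := by
  let f : (F (j + 1) ⧸ LinearMap.range (ψ (j + 1))) →ₗ[B] F j :=
    (LinearMap.range (ψ (j + 1))).liftQ (ψ j) (by rw [hex])
  let g : F j →ₗ[B] (F j ⧸ LinearMap.range (ψ j)) := (LinearMap.range (ψ j)).mkQ
  have hf : Function.Injective f := by
    rw [← LinearMap.ker_eq_bot]
    exact Submodule.ker_liftQ_eq_bot _ _ _ (by rw [hex])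
  have hg : Function.Surjective g := Submodule.mkQ_surjective _
  have hfg : Function.Exact f g := by
    rw [LinearMap.exact_iff, Submodule.ker_mkQ, Submodule.range_liftQ]
  refine ⟨ModuleCat.shortComplexOfCompEqZero f g hfg.linearMap_comp_eq_zero,
    ModuleCat.shortComplex_shortExact _ hfg hf hg, rfl, rfl, rfl⟩

variable [∀ j, Module.Projective B (F j)]

theorem hasProjectiveDimensionLT_coker_desc (s : ℕ)
    (h1 : ∀ t, t < s → LinearMap.ker (ψ t) = LinearMap.range (ψ (t + 1)))
    (h3 : Module.Projective B (F s ⧸ LinearMap.range (ψ s))) :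
    ∀ t, t ≤ s → HasProjectiveDimensionLT
      (ModuleCat.of B (F t ⧸ LinearMap.range (ψ t))) (s - t + 1) := by
  intro t hts
  induction hts using Nat.decreasingInduction with
  | self =>
    rw [Nat.sub_self, zero_add]
    infer_instance
  | of_succ k hks ih =>
    obtain ⟨S, hS, h₁, h₂, h₃⟩ := exists_shortExact_coker F ψ k (h1 k hks)
    have e1 : s - k + 1 = (s - (k + 1) + 1) + 1 := by omega
    rw [e1, ← h₃]
    apply hS.hasProjectiveDimensionLT_X₃
    · rw [h₁]; exact ih
    · rw [h₂]
      exact hasProjectiveDimensionLT_of_ge _ 1 _ (by omega)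

theorem hasProjectiveDimensionLT_coker_asc (s d : ℕ)
    (h1 : ∀ t, t < s → LinearMap.ker (ψ t) = LinearMap.range (ψ (t + 1)))
    (h0 : HasProjectiveDimensionLT (ModuleCat.of B (F 0 ⧸ LinearMap.range (ψ 0))) (d + 1)) :
    ∀ t, t ≤ s → HasProjectiveDimensionLT
      (ModuleCat.of B (F t ⧸ LinearMap.range (ψ t))) (d - t + 1) := by
  intro t
  induction t with
  | zero => intro _; exact h0
  | succ k ih =>
    intro hks
    have ih' := ih (by omega)
    obtain ⟨S, hS, h₁, h₂, h₃⟩ := exists_shortExact_coker F ψ k (h1 k (by omega))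
    rw [← h₁]
    apply hS.hasProjectiveDimensionLT_X₁
    · rw [h₂]
      exact hasProjectiveDimensionLT_of_ge _ 1 _ (by omega)
    · rw [h₃]
      exact hasProjectiveDimensionLT_of_ge _ (d - k + 1) _ (by omega)

end pd

section ab

variable {B : Type u} [CommRing B] [IsNoetherianRing B] [IsLocalRing B]

/-- Auslander–Buchsbaum: finite projective dimension is bounded by the depth of the ring. -/
theorem hasProjectiveDimensionLT_of_depth (C : Type u) [AddCommGroup C] [Module B C]
    [Module.Finite B C] (N : ℕ) (hN : HasProjectiveDimensionLT (ModuleCat.of B C) N) (d : ℕ)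
    (hd : idealDepth (IsLocalRing.maximalIdeal B) B = d) :
    HasProjectiveDimensionLT (ModuleCat.of B C) (d + 1) := by
  rcases subsingleton_or_nontrivial C with hC | hC
  · have hz : Limits.IsZero (ModuleCat.of B C) := ModuleCat.isZero_of_subsingleton _
    have := hz.hasProjectiveDimensionLT_zero
    exact hasProjectiveDimensionLT_of_ge _ 0 _ (by omega)
  · have hne_top : projectiveDimension (ModuleCat.of B C) ≠ ⊤ := by
      rw [projectiveDimension_ne_top_iff]
      exact ⟨N, hasProjectiveDimensionLT_of_ge _ N _ (by omega)⟩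
    have hne_bot : projectiveDimension (ModuleCat.of B C) ≠ ⊥ := by
      rw [Ne, projectiveDimension_eq_bot_iff]
      intro hz
      exact not_subsingleton C (ModuleCat.subsingleton_of_isZero hz)
    obtain ⟨k, hk⟩ : ∃ k : ℕ, projectiveDimension (ModuleCat.of B C) = (k : WithBot ℕ∞) := by
      generalize projectiveDimension (ModuleCat.of B C) = p at hne_top hne_bot
      induction p with
      | bot => exact absurd rfl hne_bot
      | coe p =>
        induction p with
        | top => exact absurd rfl hne_top
        | coe k => exact ⟨k, rfl⟩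
    have hab := auslander_buchsbaum k C hk
    have hkd : k ≤ d := by
      have h2 : (k : ℕ∞) ≤ (d : ℕ∞) := by
        rw [← hd]
        show (k : ℕ∞) ≤ depth B B
        rw [hab]
        exact le_self_add
      exact_mod_cast h2
    have : HasProjectiveDimensionLE (ModuleCat.of B C) k := by
      rw [← projectiveDimension_le_iff, hk]
    exact hasProjectiveDimensionLT_of_ge _ (k + 1) _ (by omega)

variable (F : ℕ → Type u) [∀ j, AddCommGroup (F j)] [∀ j, Module B (F j)]
  [∀ j, Module.Finite B (F j)] [∀ j, Module.Projective B (F j)]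
  (ψ : ∀ j, F (j + 1) →ₗ[B] F j)

/-- Over a Noetherian local ring of depth `d`, in an exact complex `0 → F s → ⋯ → F 0` of finite
projective modules the cokernels `C t` are projective for `d ≤ t ≤ s`. -/
theorem projective_coker_of_depth (s d : ℕ)
    (hd : idealDepth (IsLocalRing.maximalIdeal B) B = d)
    (h1 : ∀ t, t < s → LinearMap.ker (ψ t) = LinearMap.range (ψ (t + 1)))
    (h3 : Module.Projective B (F s ⧸ LinearMap.range (ψ s))) :
    ∀ t, d ≤ t → t ≤ s → Module.Projective B (F t ⧸ LinearMap.range (ψ t)) := by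
  intro t hdt hts
  have h0 := hasProjectiveDimensionLT_coker_desc F ψ s h1 h3 0 (Nat.zero_le _)
  have h0' := hasProjectiveDimensionLT_of_depth _ _ h0 d hd
  have ht := hasProjectiveDimensionLT_coker_asc F ψ s d h1 h0' t hts
  rw [show d - t + 1 = 1 by omega] at ht
  rw [IsProjective.iff_projective]
  infer_instance

end ab

end Groth.Agent.Lib.helper2.BE
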