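import Mathlib
import Groth.Prelude.Def_CAlgX
import Groth.Prelude.Def_CAlg
import Groth.Agent.Lib.Helper2.BE5
import Groth.Agent.Lib.Helper2.BE6
import Groth.Agent.Lib.Helper2.BE7

/-!
# Buchsbaum–Eisenbud, part 8 (helper2): necessity, local step

`local_nec`: over a Noetherian local ring `B` of depth `d`, for an exact complex of matrices and
`d ≤ j < e`, the matrix `M j` has unit determinantal ideal of size
`r = ∑_{t ≥ j+1} (-1)^(t-j-1) n t`, and its minors of size `r + 1` vanish.
-/

set_option autoImplicit false
universe u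

namespace Groth.Agent.Lib.helper2.BE

open CAlgX LocCoh

theorem exists_isCompl_of_projective_quotient {B : Type u} [CommRing B] {P : Type u}
    [AddCommGroup P] [Module B P] (K : Submodule B P) [Module.Projective B (P ⧸ K)] :
    ∃ N' : Submodule B P, IsCompl K N' := by
  obtain ⟨s, hs⟩ := Module.projective_lifting_property K.mkQ LinearMap.id
    (Submodule.mkQ_surjective K)
  have hs' : ∀ y, K.mkQ (s y) = y := fun y => LinearMap.congr_fun hs y
  refine ⟨LinearMap.range s, ?_, ?_⟩
  · rw [Submodule.disjoint_def]
    rintro x hx ⟨y, rfl⟩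
    have h1 : K.mkQ (s y) = 0 := by
      rw [Submodule.mkQ_apply, Submodule.Quotient.mk_eq_zero]; exact hx
    rw [hs'] at h1
    rw [h1, map_zero]
  · rw [codisjoint_iff, eq_top_iff]
    intro x _
    have h1 : x - s (K.mkQ x) ∈ K := by
      rw [← Submodule.Quotient.mk_eq_zero, Submodule.Quotient.mk_sub, sub_eq_zero]
      exact (hs' (K.mkQ x)).symm
    have : x = (x - s (K.mkQ x)) + s (K.mkQ x) := by abel
    rw [this]
    exact Submodule.add_mem_sup h1 ⟨_, rfl⟩

variable {B : Type u} [CommRing B] [IsNoetherianRing B] [IsLocalRing B]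
  (e : ℕ) (n : ℕ → ℕ) (M : (j : ℕ) → Matrix (Fin (n j)) (Fin (n (j + 1))) B)

theorem local_nec (hex : ∀ t, t < e →
      LinearMap.ker (psi e n M t) = LinearMap.range (psi e n M (t + 1)))
    (d : ℕ) (hd : idealDepth (IsLocalRing.maximalIdeal B) B = d) (j : ℕ) (hdj : d ≤ j)
    (hje : j < e) :
    ∃ r : ℕ, (r : ℤ) = ∑ t ∈ Finset.Icc (j + 1) e, (-1 : ℤ) ^ (t - (j + 1)) * (n t : ℤ) ∧
      minorIdeal (M j) (r + 1) = ⊥ ∧ minorIdeal (M j) r = ⊤ := by
  have hCe : Module.Projective B ((Fin (n e) → B) ⧸ LinearMap.range (psi e n M e)) := by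
    rw [psi_of_le e n M le_rfl, LinearMap.range_zero]
    exact Module.Projective.of_equiv
      (Submodule.quotEquivOfEqBot (⊥ : Submodule B (Fin (n e) → B)) rfl).symm
  have hproj := projective_coker_of_depth (fun t => Fin (n t) → B) (psi e n M) e d hd hex hCe
  -- ranks of the cokernels
  have hrk : ∀ t, t ≤ e → j + 1 ≤ t →
      (Module.finrank B ((Fin (n t) → B) ⧸ LinearMap.range (psi e n M t)) : ℤ) =
        ∑ s ∈ Finset.Icc t e, (-1 : ℤ) ^ (s - t) * (n s : ℤ) := by
    intro t hte
    induction hte using Nat.decreasingInduction with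
    | self =>
      intro _
      rw [Finset.Icc_self, Finset.sum_singleton, Nat.sub_self, pow_zero, one_mul]
      have h1 : LinearMap.range (psi e n M e) = ⊥ := by
        rw [psi_of_le e n M le_rfl, LinearMap.range_zero]
      rw [(Submodule.quotEquivOfEqBot _ h1).finrank_eq, Module.finrank_fin_fun]
    | of_succ k hke ih =>
      intro hjk
      have ih' := ih (by omega)
      rw [altsum_succ e _ k (by omega), ← ih']
      haveI := hproj k (by omega) (by omega)
      haveI := hproj (k + 1) (by omega) (by omega)
      obtain ⟨N', hc⟩ := exists_isCompl_of_projective_quotient (LinearMap.range (psi e n M k))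
      have h2 := finrank_add_of_isCompl hc
      rw [Module.finrank_fin_fun] at h2
      have h3 : Module.finrank B (LinearMap.range (psi e n M k)) =
          Module.finrank B ((Fin (n (k + 1)) → B) ⧸ LinearMap.range (psi e n M (k + 1))) := by
        rw [← hex k (by omega)]
        exact (LinearMap.quotKerEquivRange (psi e n M k)).symm.finrank_eq
      have h4 : Module.finrank B N' =
          Module.finrank B ((Fin (n k) → B) ⧸ LinearMap.range (psi e n M k)) :=
        (Submodule.quotientEquivOfIsCompl _ _ hc).symm.finrank_eq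
      rw [h3, h4] at h2
      omega
  -- level j
  haveI := hproj j hdj hje.le
  obtain ⟨N', hc⟩ := exists_isCompl_of_projective_quotient (LinearMap.range (psi e n M j))
  have hr : Module.finrank B (LinearMap.range (psi e n M j)) =
      Module.finrank B ((Fin (n (j + 1)) → B) ⧸ LinearMap.range (psi e n M (j + 1))) := by
    rw [← hex j hje]
    exact (LinearMap.quotKerEquivRange (psi e n M j)).symm.finrank_eq
  rw [psi_of_lt e n M hje] at hc hr
  refine ⟨_, hrk (j + 1) (by omega) le_rfl, ?_⟩
  exact Groth.Agent.S10890.forward (n j) (n (j + 1)) _ (M j) N' hc hr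

end Groth.Agent.Lib.helper2.BE
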