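import Mathlib
import Groth.Prelude.Def_CAlgX
import Groth.Prelude.Def_CAlg
import Groth.Agent.Lib.Helper2.BE8
import Groth.Agent.Lib.Helper26.DepthLoc3

/-!
# Buchsbaum–Eisenbud, part 9 (helper2): necessity of the rank and depth conditions

`be_nec`: over a nontrivial Noetherian ring, for an exact complex of matrices
`0 → R^(n e) → ⋯ → R^(n 0)`, the matrix `A j` (`j < e`) has rank the alternating sum
`∑_{t ≥ j+1} (-1)^(t-j-1) n t` and its determinantal ideal is the unit ideal or contains a regular
sequence of length `j + 1`.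
-/

set_option autoImplicit false
universe u

namespace Groth.Agent.Lib.helper2.BE

open CAlgX LocCoh Groth.Agent.Lib.helper26.Depth

variable {R : Type u} [CommRing R] [IsNoetherianRing R]

/-- The localization at an associated prime of the ring has depth zero. -/
theorem depth_localization_eq_zero_of_isAssociatedPrime (P : Ideal R) [hP : P.IsPrime]
    (h : IsAssociatedPrime P R) :
    idealDepth (IsLocalRing.maximalIdeal (Localization.AtPrime P)) (Localization.AtPrime P) = 0 := by
  obtain ⟨-, a, ha⟩ := (isAssociatedPrime_iff).mp h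
  have hmem : ∀ r : R, r ∈ P ↔ r * a = 0 := by
    intro r
    rw [ha, Submodule.mem_colon_singleton, Submodule.mem_bot, smul_eq_mul]
  have hane : algebraMap R (Localization.AtPrime P) a ≠ 0 := by
    intro h0
    rw [← map_zero (algebraMap R (Localization.AtPrime P)),
      IsLocalization.eq_iff_exists P.primeCompl] at h0
    obtain ⟨c, hc⟩ := h0
    rw [mul_zero] at hc
    exact c.2 ((hmem c).mpr hc)
  refine idealDepth_eq_zero_of_annihilated _ _
    (maximalIdeal_smul_top_ne_top (Localization.AtPrime P)) _ hane ?_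
  intro s hs
  obtain ⟨p, t, rfl⟩ := IsLocalization.exists_mk'_eq P.primeCompl s
  have hp : p ∈ P := (IsLocalization.AtPrime.mk'_mem_maximal_iff _ P p t).mp hs
  rw [smul_eq_mul, mul_comm, IsLocalization.mul_mk'_eq_mk'_of_mul, mul_comm a p, (hmem p).mp hp,
    IsLocalization.mk'_zero]

/-- An ideal vanishing at all associated primes of the ring is zero. -/
theorem ideal_eq_bot_of_forall_isAssociatedPrime (I : Ideal R)
    (h : ∀ (P : Ideal R) [P.IsPrime], IsAssociatedPrime P R →
      I.map (algebraMap R (Localization.AtPrime P)) = ⊥) : I = ⊥ := by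
  rw [eq_bot_iff]
  intro a haI
  by_contra hane
  rw [Submodule.mem_bot] at hane
  obtain ⟨P, hP, hle⟩ := exists_le_isAssociatedPrime_of_isNoetherianRing R a hane
  haveI := hP.isPrime
  have h1 : algebraMap R (Localization.AtPrime P) a ∈
      I.map (algebraMap R (Localization.AtPrime P)) := Ideal.mem_map_of_mem _ haI
  rw [h P hP, Submodule.mem_bot, ← map_zero (algebraMap R (Localization.AtPrime P)),
    IsLocalization.eq_iff_exists P.primeCompl] at h1
  obtain ⟨c, hc⟩ := h1
  rw [mul_zero] at hc
  apply c.2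
  apply hle
  rw [Submodule.mem_colon_singleton, Submodule.mem_bot, smul_eq_mul]
  exact hc

theorem depth_localizedModule_self (p : Ideal R) [p.IsPrime] :
    depth (Localization.AtPrime p) (LocalizedModule p.primeCompl R) =
      depth (Localization.AtPrime p) (Localization.AtPrime p) := by
  haveI : IsLocalizedModule p.primeCompl (Algebra.linearMap R (Localization.AtPrime p)) :=
    inferInstance
  exact (depth_eq_of_isLocalizedModule p R (Localization.AtPrime p) (Localization.AtPrime p)
    (Algebra.linearMap R (Localization.AtPrime p))).symm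

theorem be_nec [Nontrivial R] (e : ℕ) (n : ℕ → ℕ)
    (A : (i : ℕ) → Matrix (Fin (n i)) (Fin (n (i + 1))) R)
    (hex : ∀ t, t < e → LinearMap.ker (psi e n A t) = LinearMap.range (psi e n A (t + 1)))
    (j : ℕ) (hje : j < e) :
    (matrixRank (A j) : ℤ) = ∑ t ∈ Finset.Icc (j + 1) e, (-1 : ℤ) ^ (t - (j + 1)) * (n t : ℤ) ∧
      (detIdeal (A j) = ⊤ ∨
        ∃ rs : List R, rs.length = j + 1 ∧ (∀ r ∈ rs, r ∈ detIdeal (A j)) ∧
          RingTheory.Sequence.IsRegular R rs) := by
  classical
  set altsum : ℤ := ∑ t ∈ Finset.Icc (j + 1) e, (-1 : ℤ) ^ (t - (j + 1)) * (n t : ℤ) with haltsum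
  -- local statement at primes of small depth
  have hloc : ∀ (P : Ideal R) [P.IsPrime] (d : ℕ),
      idealDepth (IsLocalRing.maximalIdeal (Localization.AtPrime P)) (Localization.AtPrime P) = d →
      d ≤ j → ∃ r : ℕ, (r : ℤ) = altsum ∧
        (minorIdeal (A j) (r + 1)).map (algebraMap R (Localization.AtPrime P)) = ⊥ ∧
        (minorIdeal (A j) r).map (algebraMap R (Localization.AtPrime P)) = ⊤ := by
    intro P _ d hd hdj
    have hexP : ∀ t, t < e →
        LinearMap.ker (psi e n (fun j => (A j).map (algebraMap R (Localization.AtPrime P))) t) =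
        LinearMap.range (psi e n (fun j => (A j).map (algebraMap R (Localization.AtPrime P)))
          (t + 1)) :=
      fun t ht => ker_psi_eq_range_psi_map P.primeCompl _ e n A t ht (hex t ht)
    obtain ⟨r, hr, h1, h2⟩ := local_nec e n
      (fun j => (A j).map (algebraMap R (Localization.AtPrime P))) hexP d hd j hdj hje
    refine ⟨r, hr, ?_, ?_⟩
    · rw [← minorIdeal_map]; exact h1
    · rw [← minorIdeal_map]; exact h2
  -- an associated prime
  obtain ⟨P₀, hP₀⟩ := associatedPrimes.nonempty R R
  haveI := hP₀.isPrime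
  obtain ⟨r₀, hr₀, -, h₀top⟩ := hloc P₀ 0
    (by rw [depth_localization_eq_zero_of_isAssociatedPrime P₀ hP₀, Nat.cast_zero]) (Nat.zero_le _)
  have hbot : minorIdeal (A j) (r₀ + 1) = ⊥ := by
    apply ideal_eq_bot_of_forall_isAssociatedPrime
    intro P _ hP
    obtain ⟨r, hr, h1, -⟩ := hloc P 0
      (by rw [depth_localization_eq_zero_of_isAssociatedPrime P hP, Nat.cast_zero]) (Nat.zero_le _)
    have : r = r₀ := by
      have : (r : ℤ) = (r₀ : ℤ) := by rw [hr, hr₀]
      exact_mod_cast this
    rw [← this]; exact h1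
  have hne : minorIdeal (A j) r₀ ≠ ⊥ := by
    intro h
    rw [h, Ideal.map_bot] at h₀top
    exact bot_ne_top h₀top
  have hrank : matrixRank (A j) = r₀ := matrixRank_eq_of (A j) hne hbot
  refine ⟨by rw [hrank, hr₀], ?_⟩
  have hdetI : detIdeal (A j) = minorIdeal (A j) r₀ := by
    unfold detIdeal; rw [hrank]
  rw [hdetI]
  set J := minorIdeal (A j) r₀ with hJ
  by_cases hJtop : J = ⊤
  · exact Or.inl hJtop
  right
  have hJsmul : J • (⊤ : Submodule R R) ≠ ⊤ := by
    rw [smul_eq_mul, Ideal.mul_top]; exact hJtop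
  have hdepth : ((j + 1 : ℕ) : ℕ∞) ≤ idealDepth J R := by
    rw [idealDepth_eq_iInf_depth_localization J R]
    refine le_iInf₂ fun p hp => ?_
    haveI := p.2
    rw [depth_localizedModule_self p.asIdeal]
    by_contra hlt
    push Not at hlt
    have hne_top : depth (Localization.AtPrime p.asIdeal) (Localization.AtPrime p.asIdeal) ≠ ⊤ :=
      ne_top_of_lt hlt
    obtain ⟨d, hd⟩ := ENat.ne_top_iff_exists.mp hne_top
    rw [← hd] at hlt
    have hdj : d ≤ j := by
      have : d < j + 1 := by exact_mod_cast hlt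
      omega
    obtain ⟨r, hr, -, h2⟩ := hloc p.asIdeal d hd.symm hdj
    have : r = r₀ := by
      have : (r : ℤ) = (r₀ : ℤ) := by rw [hr, hr₀]
      exact_mod_cast this
    rw [this] at h2
    have h3 : J.map (algebraMap R (Localization.AtPrime p.asIdeal)) ≤
        IsLocalRing.maximalIdeal (Localization.AtPrime p.asIdeal) := by
      rw [Ideal.map_le_iff_le_comap]
      intro x hx
      rw [Ideal.mem_comap]
      exact (IsLocalization.AtPrime.to_map_mem_maximal_iff _ p.asIdeal x).mpr (hp hx)
    rw [h2] at h3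
    exact (IsLocalRing.maximalIdeal.isMaximal _).ne_top (top_le_iff.mp h3)
  obtain ⟨rs, hlen, hmem, hreg⟩ := exists_isWeaklyRegular_of_le hJsmul hdepth
  have hle : Ideal.ofList rs ≤ J := by
    rw [Ideal.ofList, Ideal.span_le]
    intro x hx
    exact hmem x hx
  refine ⟨rs, hlen, hmem, ⟨hreg, fun htop => hJsmul ?_⟩⟩
  rw [eq_top_iff]
  exact htop.le.trans (Submodule.smul_mono_left hle)

end Groth.Agent.Lib.helper2.BE
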