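import Mathlib

/-!
# Total complexes of bifunctors and degreewise split short exact sequences (helper2)

For a bifunctor `F : C₁ ⥤ C₂ ⥤ D` additive in each variable and a fixed cochain complex `K₂`, the functor
`Ψ = Tot(F(-, K₂))` on cochain complexes preserves degreewise split short exact sequences and, if it
preserves acyclic complexes, quasi-isomorphisms.
-/

open CategoryTheory Limits HomologicalComplex

namespace Groth.Agent.Lib.helper2.BifunctorExact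

variable {C₁ C₂ D : Type*} [Category C₁] [Category C₂] [Category D]
  [Preadditive C₁] [Preadditive C₂] [Preadditive D]
  (F : C₁ ⥤ C₂ ⥤ D) [F.Additive] [∀ X₁, (F.obj X₁).Additive]
  (K₂ : CochainComplex C₂ ℤ)
  [∀ K₁ : CochainComplex C₁ ℤ, HasMapBifunctor K₁ K₂ F (ComplexShape.up ℤ)]

section gr

variable {K L M : CochainComplex C₁ ℤ}

/-- the action of a graded map in the first variable on the total complex, in degree `n` -/
noncomputable def gr (g : ∀ p, K.X p ⟶ L.X p) (n : ℤ) :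
    (mapBifunctor K K₂ F (ComplexShape.up ℤ)).X n ⟶ (mapBifunctor L K₂ F (ComplexShape.up ℤ)).X n :=
  mapBifunctorDesc (fun p q h => (F.map (g p)).app (K₂.X q) ≫
    ιMapBifunctor L K₂ F (ComplexShape.up ℤ) p q n h)

@[reassoc (attr := simp)]
lemma ι_gr (g : ∀ p, K.X p ⟶ L.X p) (p q n : ℤ)
    (h : ComplexShape.π (ComplexShape.up ℤ) (ComplexShape.up ℤ) (ComplexShape.up ℤ) (p, q) = n) :
    ιMapBifunctor K K₂ F (ComplexShape.up ℤ) p q n h ≫ gr F K₂ g n =
      (F.map (g p)).app (K₂.X q) ≫ ιMapBifunctor L K₂ F (ComplexShape.up ℤ) p q n h :=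
  ι_mapBifunctorDesc _ _ _ _

lemma gr_id (n : ℤ) : gr F K₂ (fun p => 𝟙 (K.X p)) n = 𝟙 _ := by
  ext p q h
  simp

lemma gr_comp (g : ∀ p, K.X p ⟶ L.X p) (g' : ∀ p, L.X p ⟶ M.X p) (n : ℤ) :
    gr F K₂ (fun p => g p ≫ g' p) n = gr F K₂ g n ≫ gr F K₂ g' n := by
  ext p q h
  simp

lemma gr_add (g g' : ∀ p, K.X p ⟶ L.X p) (n : ℤ) :
    gr F K₂ (fun p => g p + g' p) n = gr F K₂ g n + gr F K₂ g' n := by
  ext p q h
  simp [Functor.map_add]

lemma gr_zero (n : ℤ) : gr F K₂ (fun p => (0 : K.X p ⟶ L.X p)) n = 0 := by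
  ext p q h
  simp

lemma mapBifunctorMap_f (f : K ⟶ L) (n : ℤ) :
    (mapBifunctorMap f (𝟙 K₂) F (ComplexShape.up ℤ)).f n = gr F K₂ (fun p => f.f p) n := by
  ext p q h
  simp

end gr

/-- the functor `K ↦ Tot(F(K, K₂))` -/
@[simps]
noncomputable def Ψ : CochainComplex C₁ ℤ ⥤ CochainComplex D ℤ where
  obj K := mapBifunctor K K₂ F (ComplexShape.up ℤ)
  map f := mapBifunctorMap f (𝟙 K₂) F (ComplexShape.up ℤ)
  map_id K := by
    ext n : 1
    rw [mapBifunctorMap_f]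
    exact gr_id F K₂ n
  map_comp f g := by
    ext n : 1
    rw [HomologicalComplex.comp_f, mapBifunctorMap_f, mapBifunctorMap_f, mapBifunctorMap_f]
    exact gr_comp F K₂ _ _ n

instance : (Ψ F K₂).PreservesZeroMorphisms where
  map_zero K L := by
    ext n : 1
    change (mapBifunctorMap (0 : K ⟶ L) (𝟙 K₂) F (ComplexShape.up ℤ)).f n = 0
    rw [mapBifunctorMap_f]
    exact gr_zero F K₂ n

section splitting

variable (S : ShortComplex (CochainComplex C₁ ℤ)) (σ : ∀ n, (S.map (eval _ _ n)).Splitting)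

/-- the retraction as a graded map -/
def rMap (p : ℤ) : S.X₂.X p ⟶ S.X₁.X p := (σ p).r

/-- the section as a graded map -/
def sMap (p : ℤ) : S.X₃.X p ⟶ S.X₂.X p := (σ p).s

lemma f_rMap (p : ℤ) : S.f.f p ≫ rMap S σ p = 𝟙 _ := (σ p).f_r
lemma sMap_g (p : ℤ) : sMap S σ p ≫ S.g.f p = 𝟙 _ := (σ p).s_g
lemma rMap_sMap_id (p : ℤ) : rMap S σ p ≫ S.f.f p + S.g.f p ≫ sMap S σ p = 𝟙 _ := (σ p).id

lemma aux_f_r (n : ℤ) :
    (mapBifunctorMap S.f (𝟙 K₂) F (ComplexShape.up ℤ)).f n ≫ gr F K₂ (rMap S σ) n =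
      𝟙 ((mapBifunctor S.X₁ K₂ F (ComplexShape.up ℤ)).X n) := by
  rw [mapBifunctorMap_f]
  refine (gr_comp F K₂ _ _ n).symm.trans ?_
  simp only [f_rMap]
  exact gr_id F K₂ n

lemma aux_s_g (n : ℤ) :
    gr F K₂ (sMap S σ) n ≫ (mapBifunctorMap S.g (𝟙 K₂) F (ComplexShape.up ℤ)).f n =
      𝟙 ((mapBifunctor S.X₃ K₂ F (ComplexShape.up ℤ)).X n) := by
  rw [mapBifunctorMap_f]
  refine (gr_comp F K₂ _ _ n).symm.trans ?_
  simp only [sMap_g]
  exact gr_id F K₂ n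

lemma aux_id (n : ℤ) :
    gr F K₂ (rMap S σ) n ≫ (mapBifunctorMap S.f (𝟙 K₂) F (ComplexShape.up ℤ)).f n +
      (mapBifunctorMap S.g (𝟙 K₂) F (ComplexShape.up ℤ)).f n ≫ gr F K₂ (sMap S σ) n =
      𝟙 ((mapBifunctor S.X₂ K₂ F (ComplexShape.up ℤ)).X n) := by
  rw [mapBifunctorMap_f, mapBifunctorMap_f]
  rw [← gr_comp, ← gr_comp, ← gr_add]
  simp only [rMap_sMap_id]
  exact gr_id F K₂ n

/-- `Ψ` preserves degreewise split short exact sequences -/
noncomputable def splittingΨ (n : ℤ) :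
    ((S.map (Ψ F K₂)).map (eval _ _ n)).Splitting where
  r := gr F K₂ (rMap S σ) n
  s := gr F K₂ (sMap S σ) n
  f_r := aux_f_r F K₂ S σ n
  s_g := aux_s_g F K₂ S σ n
  id := aux_id F K₂ S σ n

end splitting

section main

open CochainComplex

variable {A₁ C₂ B : Type*} [Category A₁] [Category C₂] [Category B]
  [Abelian A₁] [Preadditive C₂] [Abelian B]
  (F : A₁ ⥤ C₂ ⥤ B) [F.Additive] [∀ X₁, (F.obj X₁).Additive]
  (K₂ : CochainComplex C₂ ℤ)
  [∀ K₁ : CochainComplex A₁ ℤ, HasMapBifunctor K₁ K₂ F (ComplexShape.up ℤ)]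

theorem shortExact_map_Ψ (S : ShortComplex (CochainComplex A₁ ℤ))
    (σ : ∀ n, (S.map (eval _ _ n)).Splitting) : (S.map (Ψ F K₂)).ShortExact :=
  shortExact_of_degreewise_shortExact _ (fun n => (splittingΨ F K₂ S σ n).shortExact)

/-- the mapping cone of a quasi-isomorphism is acyclic -/
theorem acyclic_mappingCone {K L : CochainComplex A₁ ℤ} (φ : K ⟶ L) [hφ : QuasiIso φ] :
    (mappingCone φ).Acyclic := by
  rw [← HomotopyCategory.quotient_obj_mem_subcategoryAcyclic_iff_acyclic]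
  have h1 : HomotopyCategory.quasiIso A₁ (ComplexShape.up ℤ)
      ((HomotopyCategory.quotient A₁ (ComplexShape.up ℤ)).map φ) :=
    (HomotopyCategory.quotient_map_mem_quasiIso_iff φ).2 hφ
  rw [HomotopyCategory.quasiIso_eq_trW_subcategoryAcyclic] at h1
  exact ((HomotopyCategory.subcategoryAcyclic A₁).trW_iff_of_distinguished
    (mappingCone.triangleh φ) (HomotopyCategory.mappingCone_triangleh_distinguished φ)).1 h1

/-- the morphism of short complexes `[K → cone(𝟙) → K⟦1⟧] ⟶ [L → cone(φ) → K⟦1⟧]` -/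
noncomputable def rotateMap {K L : CochainComplex A₁ ℤ} (φ : K ⟶ L) :
    mappingCone.triangleRotateShortComplex (𝟙 K) ⟶ mappingCone.triangleRotateShortComplex φ where
  τ₁ := φ
  τ₂ := mappingCone.map (𝟙 K) φ (𝟙 K) φ rfl
  τ₃ := (𝟙 K)⟦(1 : ℤ)⟧'
  comm₁₂ := (mappingCone.triangleMap (𝟙 K) φ (𝟙 K) φ rfl).comm₂.symm
  comm₂₃ := (mappingCone.triangleMap (𝟙 K) φ (𝟙 K) φ rfl).comm₃.symm

theorem quasiIso_Ψ_map
    (hK : ∀ L : CochainComplex A₁ ℤ, L.Acyclic → ((Ψ F K₂).obj L).Acyclic)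
    {K L : CochainComplex A₁ ℤ} (φ : K ⟶ L) [QuasiIso φ] : QuasiIso ((Ψ F K₂).map φ) := by
  let S₁ := mappingCone.triangleRotateShortComplex (𝟙 K)
  let S₂ := mappingCone.triangleRotateShortComplex φ
  have hS₁ : (S₁.map (Ψ F K₂)).ShortExact :=
    shortExact_map_Ψ F K₂ S₁ (mappingCone.triangleRotateShortComplexSplitting (𝟙 K))
  have hS₂ : (S₂.map (Ψ F K₂)).ShortExact :=
    shortExact_map_Ψ F K₂ S₂ (mappingCone.triangleRotateShortComplexSplitting φ)
  have ac₁ : ((Ψ F K₂).obj (mappingCone (𝟙 K))).Acyclic := hK _ (acyclic_mappingCone (𝟙 K))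
  have ac₂ : ((Ψ F K₂).obj (mappingCone φ)).Acyclic := hK _ (acyclic_mappingCone φ)
  let τ : S₁.map (Ψ F K₂) ⟶ S₂.map (Ψ F K₂) := (Ψ F K₂).mapShortComplex.map (rotateMap φ)
  refine ⟨fun j => ?_⟩
  rw [quasiIsoAt_iff_isIso_homologyMap]
  have hij : (ComplexShape.up ℤ).Rel (j - 1) j := by simp
  have nat := HomologicalComplex.HomologySequence.δ_naturality τ hS₁ hS₂ (j - 1) j hij
  have iso₁ : IsIso (hS₁.δ (j - 1) j hij) :=
    hS₁.isIso_δ (j - 1) j hij ((exactAt_iff_isZero_homology _ _).1 (ac₁ _))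
      ((exactAt_iff_isZero_homology _ _).1 (ac₁ _))
  have iso₂ : IsIso (hS₂.δ (j - 1) j hij) :=
    hS₂.isIso_δ (j - 1) j hij ((exactAt_iff_isZero_homology _ _).1 (ac₂ _))
      ((exactAt_iff_isZero_homology _ _).1 (ac₂ _))
  have hτ₃ : τ.τ₃ = 𝟙 _ := by
    change (Ψ F K₂).map ((𝟙 K)⟦(1 : ℤ)⟧') = 𝟙 _
    rw [CategoryTheory.Functor.map_id, CategoryTheory.Functor.map_id]
  have e3 : HomologicalComplex.homologyMap τ.τ₃ (j - 1) = 𝟙 _ := by
    rw [hτ₃]
    exact HomologicalComplex.homologyMap_id _ _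
  have nat' : hS₁.δ (j - 1) j hij ≫ HomologicalComplex.homologyMap ((Ψ F K₂).map φ) j =
      hS₂.δ (j - 1) j hij := by
    refine nat.trans ?_
    rw [e3]
    exact Category.id_comp _
  have iso₃ : IsIso (hS₁.δ (j - 1) j hij ≫
      HomologicalComplex.homologyMap ((Ψ F K₂).map φ) j) := by
    rw [nat']
    exact iso₂
  exact IsIso.of_isIso_comp_left (hS₁.δ (j - 1) j hij) _

end main

end Groth.Agent.Lib.helper2.BifunctorExact
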