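import Mathlib
import Groth.Prelude.Def_Cyc
import Groth.Prelude.Def_ChowOps
import Groth.Agent.Lib.Helper16.FinDeg4
import Groth.Agent.Lib.Helper16.C1Pull
import Groth.Agent.Lib.Helper2.BivarPush

/-!
# helper2: Chow groups under a finite purely inseparable base field extension
-/

set_option autoImplicit false
universe u
open CategoryTheory CategoryTheory.Limits AlgebraicGeometry TopologicalSpace Opposite

namespace Groth.Agent.Lib.helper2.PInsep

open Function IsLocalRing Groth.Agent.Lib.helper17.FibreStalk Groth.Agent.Lib.helper3.DimIneq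
  Groth.Agent.Lib.helper3.RelDim Groth.Agent.Lib.helper3.QFinAffineSpace
  Groth.Agent.Lib.helper16.FinDeg Groth.Agent.Lib.helper16.ShiftPull
  Groth.Agent.Lib.helper16.C1Pull Groth.Agent.Lib.helper2.BivarPush

theorem universallyInjective_specMap (k E : Type u) [Field k] [Field E] [Algebra k E]
    [IsPurelyInseparable k E] :
    UniversallyInjective (Spec.map (CommRingCat.ofHom (algebraMap k E))) := by
  refine ((tfae_universallyInjective _).out 0 1).mpr ?_
  intro K _ g₁ g₂ hg
  obtain ⟨φ₁, rfl⟩ := Spec.map_surjective g₁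
  obtain ⟨φ₂, rfl⟩ := Spec.map_surjective g₂
  simp only [← Spec.map_comp] at hg
  have h := Spec.map_injective hg
  congr 1
  ext x
  have h' : φ₁.hom.comp (algebraMap k E) = φ₂.hom.comp (algebraMap k E) := by
    ext a
    exact congrArg (fun m => m.hom a) h
  exact congrArg (fun m => m x) (IsPurelyInseparable.injective_comp_algebraMap k E K h')

section

variable {X Y : Scheme.{u}} (f : X ⟶ Y)

theorem delta_eq_of_isFinite [IsFinite f] (δX : X → ℤ) (δY : Y → ℤ)
    (hδ : Cyc.DeltaCompat f δX δY) (x : X) : δX x = δY (f x) := by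
  obtain ⟨n, hn, hx⟩ := hδ x
  have hn' : td (f.residueFieldMap x).hom = (n : Cardinal.{u}) := hn
  rw [(fibreDimAt_eq_zero_of_lqf f x).2] at hn'
  have : n = 0 := by exact_mod_cast hn'.symm
  rw [hx, this]
  simp

/-- `f^* f_* β = d β` for `f` finite flat of constant rank `d`, injective on points -/
theorem pullFun_map_of_finite_flat_injective [IsFinite f] [Flat f] (hinj : Injective f)
    (δX : X → ℤ) (δY : Y → ℤ) (d : ℕ)
    (hd : ∀ y : Y, f.finrank y = d) (hδ : Cyc.DeltaCompat f δX δY) (β : AlgebraicCycle X ℤ) :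
    Cyc.pullFun f δX δY 0 ⇑(AlgebraicCycle.map f δX δY β) = ⇑(d • β) := by
  funext x
  have hδ0 := delta_eq_of_isFinite f δX δY hδ
  have h1 : (AlgebraicCycle.map f δX δY β) (f x) =
      ∑ᶠ z ∈ f ⁻¹' {f x}, β z * ((AlgebraicCycle.mapCoeff f δX δY z : ℕ) : ℤ) := rfl
  have hpre : f ⁻¹' {f x} = {x} := by
    ext z
    simp only [Set.mem_preimage, Set.mem_singleton_iff]
    exact ⟨fun h => hinj h, fun h => by rw [h]⟩
  have h2 : AlgebraicCycle.mapCoeff f δX δY x = f.residueDegree x := by
    unfold AlgebraicCycle.mapCoeff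
    rw [if_pos (hδ0 x)]
  have h3 := finsum_length_mul_residueDegree f (f x)
  rw [hpre, finsum_mem_singleton, hd] at h3
  show (if δX x = δY (f x) + 0 then (AlgebraicCycle.map f δX δY β) (f x) *
    ((Module.length (X.presheaf.stalk x) (FibRing f x)).toNat : ℤ) else 0) = (d • β) x
  rw [if_pos (by rw [hδ0 x, add_zero]), h1, hpre, finsum_mem_singleton, h2]
  show _ = d • β x
  rw [nsmul_eq_mul, ← h3]
  push_cast
  ring

end

end Groth.Agent.Lib.helper2.PInsep
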