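import Mathlib
import Groth.Agent.Lib.Helper2.BivarPush
import Groth.Agent.S1859

/-!
# The proper pushforward `f_* ∘ c` of a bivariant class: operations and compatibility with
proper pushforward (helper2)
-/

set_option autoImplicit false
set_option linter.unusedSectionVars false

namespace Groth.Agent.Lib.helper2.PPush

universe u

open CategoryTheory CategoryTheory.Limits AlgebraicGeometry TopologicalSpace Function Opposite
open Groth.Agent.Lib.helper2.BivarPush Bivar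

section general

theorem cl_eq_of_ratEquiv {T : Scheme.{u}} {δ : T → ℤ} {k : ℤ} {a b : AlgebraicCycle T ℤ}
    (ha : a ∈ Cyc.Zk T δ k) (hb : b ∈ Cyc.Zk T δ k) (h : Cyc.RatEquiv δ k a b) :
    ChowOps.cl a ha = ChowOps.cl b hb := by
  unfold ChowOps.cl ChowOps.clHom
  rw [QuotientAddGroup.mk'_apply, QuotientAddGroup.mk'_apply, QuotientAddGroup.eq]
  have h1 : (⟨a, ha⟩ - ⟨b, hb⟩ : ↥(ChowOps.zk T δ k)) ∈ ChowOps.ratTriv T δ k :=
    AddSubgroup.subset_closure h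
  have h2 : (-⟨a, ha⟩ + ⟨b, hb⟩ : ↥(ChowOps.zk T δ k)) = -(⟨a, ha⟩ - ⟨b, hb⟩) := by abel
  rw [h2]
  exact (ChowOps.ratTriv T δ k).neg_mem h1

theorem map_congr_hom {A B : Scheme.{u}} {a a' : A ⟶ B} [QuasiCompact a] [QuasiCompact a']
    (h : a = a') (δA : A → ℤ) (δB : B → ℤ) (α : AlgebraicCycle A ℤ) :
    AlgebraicCycle.map a δA δB α = AlgebraicCycle.map a' δA δB α := by
  subst h
  rfl

theorem map_map {A B C : Scheme.{u}} {δA : A → ℤ} {δB : B → ℤ} {δC : C → ℤ}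
    (hA : Cyc.IsSetup A δA) (hB : Cyc.IsSetup B δB) (hC : Cyc.IsSetup C δC)
    (a : A ⟶ B) (b : B ⟶ C) [IsProper a] [IsProper b] (ab : A ⟶ C) [IsProper ab]
    (h : a ≫ b = ab) (ha : Cyc.DeltaCompat a δA δB) (hb : Cyc.DeltaCompat b δB δC) (k : ℤ)
    (α : AlgebraicCycle A ℤ) (hα : α ∈ Cyc.Zk A δA k) :
    AlgebraicCycle.map b δB δC (AlgebraicCycle.map a δA δB α) = AlgebraicCycle.map ab δA δC α := by
  rw [Groth.Agent.S1859.result A B C δA δB δC hA hB hC a b ha hb k α hα]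
  exact map_congr_hom h δA δC α

end general

variable {X Y Z : Scheme.{u}} {δX : X → ℤ} {δY : Y → ℤ} {δZ : Z → ℤ}
  (f : X ⟶ Y) (g : Y ⟶ Z)

/-- a fibre product of the upper scheme of a square over `g` with `X` over `Y`, with its induced
dimension function -/
structure FP (s : Sq g δY δZ) (δX : X → ℤ) where
  X' : Scheme.{u}
  f' : X' ⟶ s.X'
  gX : X' ⟶ X
  hp : IsPullback f' gX s.g' f
  δX' : X' → ℤ
  hX' : Cyc.DeltaCompat gX δX' δX

namespace FP

variable {f g} {s : Sq g δY δZ} (d : FP f g s δX)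

/-- the pasted square over `f ≫ g` -/
abbrev sq : Sq (f ≫ g) δX δZ :=
  ⟨s.Y', d.X', s.g, d.f' ≫ s.f', d.gX, d.hp.paste_horiz s.isPullback, s.lft, s.δY', d.δX',
    s.compatY, d.hX'⟩

theorem isProper_f' [IsProper f] : IsProper d.f' :=
  MorphismProperty.of_isPullback (P := @IsProper) d.hp.flip inferInstance

theorem deltaCompat_f' (hδf : Cyc.DeltaCompat f δX δY) : Cyc.DeltaCompat d.f' d.δX' s.δX' := by
  refine deltaCompat_cancel d.f' s.g' d.δX' s.δX' δY ?_ s.compatX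
  rw [d.hp.w]
  exact deltaCompat_comp d.gX f d.δX' δX δY d.hX' hδf

theorem isSetup (hX : Cyc.IsSetup X δX) : Cyc.IsSetup d.X' d.δX' :=
  Sq.isSetup_X' hX d.sq

end FP

variable [LocallyOfFiniteType g]

theorem lft_snd (s : Sq g δY δZ) : LocallyOfFiniteType (pullback.snd s.g' f) := by
  haveI := Sq.lft_g' s
  infer_instance

/-- the chosen fibre product -/
noncomputable def chosen (s : Sq g δY δZ) (δX : X → ℤ) : FP f g s δX :=
  haveI := lft_snd f g s
  { X' := pullback s.g' f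
    f' := pullback.fst s.g' f
    gX := pullback.snd s.g' f
    hp := IsPullback.of_hasPullback _ _
    δX' := (exists_deltaCompat (pullback.snd s.g' f) δX).choose
    hX' := (exists_deltaCompat (pullback.snd s.g' f) δX).choose_spec }

variable [IsProper f] (hX : Cyc.IsSetup X δX) (hY : Cyc.IsSetup Y δY)
  (hδf : Cyc.DeltaCompat f δX δY) {p : ℤ} (c : Cl p (f ≫ g) δX δZ)

/-- the operation of `f_* ∘ c` -/
noncomputable def pushOp (s : Sq g δY δZ) (k : ℤ) :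
    ChowOps.CH s.Y' s.δY' k →+ ChowOps.CH s.X' s.δX' (k - p) :=
  haveI := (chosen f g s δX).isProper_f'
  (pushCH (chosen f g s δX).δX' s.δX' ((chosen f g s δX).isSetup hX) (Sq.isSetup_X' hY s)
    (chosen f g s δX).f' ((chosen f g s δX).deltaCompat_f' hδf) (k - p)).comp
    (c.op (chosen f g s δX).sq k)

theorem pushOp_cl (s : Sq g δY δZ) (k : ℤ) (α : AlgebraicCycle s.Y' ℤ)
    (hα : α ∈ Cyc.Zk s.Y' s.δY' k) (β : AlgebraicCycle (chosen f g s δX).X' ℤ)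
    (hβ : β ∈ Cyc.Zk (chosen f g s δX).X' (chosen f g s δX).δX' (k - p))
    (h : c.op (chosen f g s δX).sq k (ChowOps.cl α hα) = ChowOps.cl β hβ) :
    haveI := (chosen f g s δX).isProper_f'
    pushOp f g hX hY hδf c s k (ChowOps.cl α hα) =
      ChowOps.cl (AlgebraicCycle.map (chosen f g s δX).f' (chosen f g s δX).δX' s.δX' β)
        (cycMap_mem_Zk _ _ _ (k - p) hβ) := by
  unfold pushOp
  rw [AddMonoidHom.comp_apply, h]
  rfl

/-- the operation of `f_* ∘ c` may be computed on any fibre product -/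
theorem pushOp_eq (s : Sq g δY δZ) (d : FP f g s δX) (k : ℤ) (α : AlgebraicCycle s.Y' ℤ)
    (hα : α ∈ Cyc.Zk s.Y' s.δY' k) (β : AlgebraicCycle d.X' ℤ)
    (hβ : β ∈ Cyc.Zk d.X' d.δX' (k - p))
    (h : c.op d.sq k (ChowOps.cl α hα) = ChowOps.cl β hβ) :
    haveI := d.isProper_f'
    pushOp f g hX hY hδf c s k (ChowOps.cl α hα) =
      ChowOps.cl (AlgebraicCycle.map d.f' d.δX' s.δX' β) (cycMap_mem_Zk _ _ _ (k - p) hβ) := by
  haveI := d.isProper_f'
  set d₀ := chosen f g s δX with hd₀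
  haveI := d₀.isProper_f'
  let e := d.hp.isoIsPullback _ _ d₀.hp
  have he1 : e.hom ≫ d₀.f' = d.f' := d.hp.isoIsPullback_hom_fst _ _ d₀.hp
  have he2 : e.hom ≫ d₀.gX = d.gX := d.hp.isoIsPullback_hom_snd _ _ d₀.hp
  haveI : IsProper e.hom := inferInstance
  have w1 : 𝟙 s.Y' ≫ d₀.sq.g = d.sq.g := Category.id_comp _
  have w2 : e.hom ≫ d₀.sq.f' = d.sq.f' ≫ 𝟙 s.Y' := by
    show e.hom ≫ d₀.f' ≫ s.f' = (d.f' ≫ s.f') ≫ 𝟙 _
    rw [Category.comp_id, ← Category.assoc, he1]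
  have w3 : e.hom ≫ d₀.sq.g' = d.sq.g' := he2
  obtain ⟨β₀, hβ₀, e₁, e₂⟩ := c.push d₀.sq d.sq (𝟙 s.Y') e.hom w1 w2 w3 k α hα
  have hsd : Cyc.IsSetup d.X' d.δX' := d.isSetup hX
  have hsd₀ : Cyc.IsSetup d₀.X' d₀.δX' := d₀.isSetup hX
  have hsX' : Cyc.IsSetup s.X' s.δX' := Sq.isSetup_X' hY s
  have hδe : Cyc.DeltaCompat e.hom d.δX' d₀.δX' := by
    refine deltaCompat_cancel e.hom d₀.gX d.δX' d₀.δX' δX ?_ d₀.hX'
    rw [he2]
    exact d.hX'
  have hid : AlgebraicCycle.map (𝟙 s.Y') s.δY' s.δY' α = α := AlgebraicCycle.map_id _ _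
  have e₂' : c.op d₀.sq k (ChowOps.cl α hα) =
      ChowOps.cl (AlgebraicCycle.map e.hom d.δX' d₀.δX' β₀)
        (cycMap_mem_Zk e.hom d.δX' d₀.δX' (k - p) hβ₀) := by
    rw [← e₂]
    congr 1
    exact cl_congr hid.symm _ _
  rw [pushOp_cl f g hX hY hδf c s k α hα _ _ e₂']
  have hββ : ChowOps.cl β₀ hβ₀ = ChowOps.cl β hβ := by rw [← e₁, h]
  rw [← cl_map_eq_of_cl_eq d.δX' s.δX' hsd hsX' d.f' (d.deltaCompat_f' hδf) (k - p) hβ₀ hβ hββ]
  exact cl_congr (map_map hsd hsd₀ hsX' e.hom d₀.f' d.f' he1 hδe (d₀.deltaCompat_f' hδf)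
    (k - p) β₀ hβ₀) _ _

end Groth.Agent.Lib.helper2.PPush
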