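import Mathlib
import Groth.Agent.Lib.Helper2.PPush4
import Groth.Agent.Lib.Helper2.PInsep1
import Groth.Agent.Lib.Helper16.CIPull2
import Groth.Agent.S1858

/-!
# Transport of cycles along isomorphisms; flat base change for arbitrary pullback squares (helper2)
-/

set_option autoImplicit false
set_option linter.unusedSectionVars false

namespace Groth.Agent.Lib.helper2.FPull

universe u

open CategoryTheory CategoryTheory.Limits AlgebraicGeometry TopologicalSpace Function Opposite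
open Groth.Agent.Lib.helper2.BivarPush Groth.Agent.Lib.helper2.PPush Bivar
open Groth.Agent.Lib.helper16.CycClosed Groth.Agent.Lib.helper16.CIPull
open Groth.Agent.Lib.helper3.DimIneq Groth.Agent.Lib.helper3.QFinAffineSpace

section iso

variable {A B S : Scheme.{u}} (e : A ≅ B)

theorem inv_hom_apply (b : B) : e.hom (e.inv b) = b := by
  rw [← Scheme.Hom.comp_apply, Iso.inv_hom_id]; rfl

theorem hom_inv_apply (a : A) : e.inv (e.hom a) = a := by
  rw [← Scheme.Hom.comp_apply, Iso.hom_inv_id]; rfl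

theorem deltaCompat_iso (δB : B → ℤ) : Cyc.DeltaCompat e.hom (fun a => δB (e.hom a)) δB := by
  intro a
  refine ⟨0, ?_, by simp⟩
  have h : td (e.hom.residueFieldMap a).hom = 0 := (fibreDimAt_eq_zero_of_lqf e.hom a).2
  show td (e.hom.residueFieldMap a).hom = ((0 : ℕ) : Cardinal.{u})
  rw [h]
  simp

theorem map_iso_apply (δA : A → ℤ) (δB : B → ℤ) (hδ : ∀ a, δA a = δB (e.hom a))
    (α : AlgebraicCycle A ℤ) (a : A) : AlgebraicCycle.map e.hom δA δB α (e.hom a) = α a :=
  map_apply e.hom δA δB hδ α a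

theorem pullFun_comp_iso (q : B ⟶ S) (δA : A → ℤ) (δB : B → ℤ) (δS : S → ℤ)
    (hδ : ∀ a, δA a = δB (e.hom a)) (r : ℤ) (α : S → ℤ) (a : A) :
    Cyc.pullFun (e.hom ≫ q) δA δS r α a = Cyc.pullFun q δB δS r α (e.hom a) := by
  unfold Cyc.pullFun
  have hpt : (e.hom ≫ q) a = q (e.hom a) := rfl
  rw [hδ a]
  by_cases hc : δB (e.hom a) = δS (q (e.hom a)) + r
  · rw [if_pos hc, if_pos (by rw [hpt]; exact hc)]
    congr 3
    have hmap : Ideal.map ((e.hom ≫ q).stalkMap a).hom
        (IsLocalRing.maximalIdeal (S.presheaf.stalk ((e.hom ≫ q) a))) =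
        (Ideal.map (q.stalkMap (e.hom a)).hom
          (IsLocalRing.maximalIdeal (S.presheaf.stalk (q (e.hom a))))).map
          (e.hom.stalkMap a).hom := by
      rw [Ideal.map_map]
      congr 1
      rw [Scheme.Hom.stalkMap_comp]
      rfl
    rw [length_quot_congr' hmap]
    have hbij : Function.Bijective (e.hom.stalkMap a).hom :=
      ConcreteCategory.bijective_of_isIso (e.hom.stalkMap a)
    refine length_quot_map_of_ker_le (e.hom.stalkMap a).hom hbij.2 _ ?_
    rw [(RingHom.injective_iff_ker_eq_bot _).1 hbij.1]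
    exact bot_le
  · rw [if_neg hc, if_neg (by rw [hpt]; exact hc)]

end iso

section square

variable {P X Y Y' : Scheme.{u}} (p1 : P ⟶ X) (p2 : P ⟶ Y') (f : X ⟶ Y) (g : Y' ⟶ Y)

/-- flat base change commutes with proper pushforward, for an arbitrary pullback square -/
theorem map_pullFun_of_isPullback (hsq : IsPullback p1 p2 f g) [IsProper f] [IsProper p2] [Flat g]
    [LocallyOfFiniteType g] (δX : X → ℤ) (δY : Y → ℤ) (δY' : Y' → ℤ) (δP : P → ℤ) (r : ℕ)
    (hr : Cyc.HasRelDim g r) (hY : Cyc.IsSetup Y δY) (hX : Cyc.IsSetup X δX)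
    (hY' : Cyc.IsSetup Y' δY') (hPs : Cyc.IsSetup P δP) (hf : Cyc.DeltaCompat f δX δY)
    (hg : Cyc.DeltaCompat g δY' δY) (hP : Cyc.DeltaCompat p2 δP δY') (k : ℤ)
    (α : AlgebraicCycle X ℤ) (hα : α ∈ Cyc.Zk X δX k) (α' : AlgebraicCycle P ℤ)
    (hα' : ⇑α' = Cyc.pullFun p1 δP δX r ⇑α) :
    ⇑(AlgebraicCycle.map p2 δP δY' α') = Cyc.pullFun g δY' δY r ⇑(AlgebraicCycle.map f δX δY α) := by
  let e : P ≅ pullback f g := hsq.isoPullback
  have he1 : e.hom ≫ pullback.fst f g = p1 := hsq.isoPullback_hom_fst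
  have he2 : e.hom ≫ pullback.snd f g = p2 := hsq.isoPullback_hom_snd
  let δQ : ↥(pullback f g) → ℤ := fun z => δP (e.inv z)
  have hδPQ : ∀ w, δP w = δQ (e.hom w) := fun w => by
    show δP w = δP (e.inv (e.hom w))
    rw [hom_inv_apply]
  have hδe : Cyc.DeltaCompat e.hom δP δQ := by
    have := deltaCompat_iso e δQ
    have h2 : (fun a => δQ (e.hom a)) = δP := funext fun a => (hδPQ a).symm
    rwa [h2] at this
  have he2' : e.inv ≫ p2 = pullback.snd f g := by rw [← he2, Iso.inv_hom_id_assoc]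
  have hδe' : Cyc.DeltaCompat e.inv δQ δP := deltaCompat_iso e.symm δP
  have hQ : Cyc.DeltaCompat (pullback.snd f g) δQ δY' := by
    rw [← he2']
    exact deltaCompat_comp e.inv p2 δQ δP δY' hδe' hP
  have hQs : Cyc.IsSetup (pullback f g) δQ :=
    Groth.Agent.Lib.helper2.SetupLft.isSetup_of_lft (pullback.snd f g) δY' δQ hY' hQ
  have hα'k : α' ∈ Cyc.Zk P δP (k + r) := pullFun_mem_Zk p1 δP δX r k hα α' hα'
  let α'' := AlgebraicCycle.map e.hom δP δQ α'
  have hα'' : ⇑α'' = Cyc.pullFun (pullback.fst f g) δQ δX r ⇑α := by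
    funext z
    have hz : e.hom (e.inv z) = z := inv_hom_apply e z
    rw [← hz]
    show AlgebraicCycle.map e.hom δP δQ α' (e.hom (e.inv z)) = _
    rw [map_iso_apply e δP δQ hδPQ α' (e.inv z), hα',
      ← pullFun_comp_iso e (pullback.fst f g) δP δQ δX hδPQ r ⇑α (e.inv z)]
    have : ∀ (q q' : P ⟶ X) (_ : q = q') (w : P),
        Cyc.pullFun q δP δX r ⇑α w = Cyc.pullFun q' δP δX r ⇑α w := by
      intro q q' h w; subst h; rfl
    exact this _ _ he1.symm _
  have key := Groth.Agent.S1858.result X Y Y' f g δX δY δY' δQ r hr hY hX hY' hf hg hQ k α hα α''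
    hα''
  rw [← key]
  exact congrArg _ (map_map hPs hQs hY' e.hom (pullback.snd f g) p2 he2 hδe hQ (k + r) α' hα'k).symm

end square

end Groth.Agent.Lib.helper2.FPull
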