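import Mathlib
import Groth.Agent.Lib.Helper2.PushPt3
import Groth.Agent.Lib.Helper16.SecOrd3

/-!
# Proper pushforward of the divisor of a pulled-back rational function (helper2)

`push_divFun_pullback`: `p_*(div_ξ(p^♯ g)) = [κ(ξ):κ(pξ)] · div_{pξ}(g)` if `δX ξ = δY (p ξ)`, else `0`:
in both cases `mapCoeff p ξ * div_{pξ}(g)`.
-/

set_option autoImplicit false
set_option linter.unusedSectionVars false

namespace Groth.Agent.Lib.helper2.PushPt

universe u

open CategoryTheory AlgebraicGeometry TopologicalSpace Function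
open Groth.Agent.Lib.helper16.CycClosed

variable {X Y : Scheme.{u}}

theorem normGen_residueFieldMap (f : X ⟶ Y) (x : X) (g : Y.residueField (f x)) :
    Cyc.normGen f x (f.residueFieldMap x g) = g ^ f.residueDegree x := by
  unfold Cyc.normGen Scheme.Hom.residueDegree
  letI := (f.residueFieldMap x).hom.toAlgebra
  exact Algebra.norm_algebraMap g

theorem congr_inv_ne_zero {a b : Y} (h : a = b) (g : Y.residueField b) (hg : g ≠ 0) :
    (Y.residueFieldCongr h).inv g ≠ 0 := by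
  subst h
  exact hg

theorem divFun_congr_inv (δ : Y → ℤ) {a b : Y} (h : a = b) (g : Y.residueField b) :
    Cyc.divFun δ b g = Cyc.divFun δ a ((Y.residueFieldCongr h).inv g) := by
  subst h
  rfl

section square

variable {W W' : Scheme.{u}} (j : W ⟶ X) (j' : W' ⟶ Y) [IsClosedImmersion j]
  [IsClosedImmersion j'] (q : W ⟶ W') (p : X ⟶ Y) (hfac : q ≫ j' = j ≫ p)

include hfac

theorem residueFieldMap_square (w : W) (h : j' (q w) = p (j w)) (g : Y.residueField (p (j w))) :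
    j.residueFieldMap w (p.residueFieldMap (j w) g) =
      q.residueFieldMap w (j'.residueFieldMap (q w) ((Y.residueFieldCongr h).inv g)) := by
  have h1 := Scheme.Hom.residueFieldMap_congr hfac w
  rw [Scheme.residueFieldMap_comp, Scheme.residueFieldMap_comp] at h1
  have h2 := congrArg (fun φ => φ.hom ((Y.residueFieldCongr h).inv g)) h1
  have h3 : (Y.residueFieldCongr h).hom ((Y.residueFieldCongr h).inv g) = g := by
    rw [← CommRingCat.comp_apply, Iso.inv_hom_id]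
    rfl
  symm
  refine h2.trans ?_
  show (j.residueFieldMap w) ((p.residueFieldMap (j w))
    ((Y.residueFieldCongr h).hom ((Y.residueFieldCongr h).inv g))) = _
  rw [h3]

end square

section main

open Classical in
/-- the statement of `push_divFun_pullback` at a point, as a predicate on points -/
def PushPullAt (δX : X → ℤ) (δY : Y → ℤ) (p : X ⟶ Y) [IsProper p] (ξ : X) : Prop :=
  ∀ g : Y.residueField (p ξ), g ≠ 0 → ∀ y : Y,
    ∑ᶠ x ∈ p ⁻¹' {y}, Cyc.divFun δX ξ (p.residueFieldMap ξ g) x *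
        ((AlgebraicCycle.mapCoeff p δX δY x : ℕ) : ℤ) =
      ((AlgebraicCycle.mapCoeff p δX δY ξ : ℕ) : ℤ) * Cyc.divFun δY (p ξ) g y

open Classical in
theorem pushPullAt_jc (δX : X → ℤ) (δY : Y → ℤ) (hX : Cyc.IsSetup X δX) (hY : Cyc.IsSetup Y δY)
    (p : X ⟶ Y) [IsProper p] (hδ : Cyc.DeltaCompat p δX δY) (ξ : X) (η : Wc ξ)
    (hη : η = genericPoint (Wc ξ)) :
    PushPullAt δX δY p (jc ξ η) := by
  intro g hg y
  haveI := hX.1
  haveI := hY.1
  have hW : Cyc.IsSetup (Wc ξ) (fun w => δX (jc ξ w)) := isSetup_closedImmersion (jc ξ) δX hX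
  have hW' : Cyc.IsSetup (Wc (p ξ)) (fun w => δY (jc (p ξ) w)) :=
    isSetup_closedImmersion (jc (p ξ)) δY hY
  haveI := hW.1
  haveI := hW'.1
  have hfac := qc_jc p ξ
  have hδq := deltaCompat_square (jc ξ) (jc (p ξ)) (qc p ξ) p hfac δX δY hδ
  have hdom : qc p ξ η = genericPoint (Wc (p ξ)) := by rw [hη]; exact qc_genericPoint p ξ
  have hsq : jc (p ξ) (qc p ξ η) = p (jc ξ η) := square_apply (jc ξ) (jc (p ξ)) (qc p ξ) p hfac η
  -- the functions
  obtain ⟨f, hf⟩ : ∃ f : X.residueField (jc ξ η), f = p.residueFieldMap (jc ξ η) g := ⟨_, rfl⟩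
  have hf0 : f ≠ 0 := by
    rw [hf]; exact (map_ne_zero_iff _ (p.residueFieldMap (jc ξ η)).hom.injective).2 hg
  obtain ⟨fW, hfW⟩ : ∃ fW : (Wc ξ).residueField η, fW = (jc ξ).residueFieldMap η f := ⟨_, rfl⟩
  have hfW0 : fW ≠ 0 := by
    rw [hfW]; exact (map_ne_zero_iff _ ((jc ξ).residueFieldMap η).hom.injective).2 hf0
  obtain ⟨g₁, hg₁⟩ : ∃ g₁ : Y.residueField (jc (p ξ) (qc p ξ η)),
    g₁ = (Y.residueFieldCongr hsq).inv g := ⟨_, rfl⟩
  have hg₁0 : g₁ ≠ 0 := hg₁ ▸ congr_inv_ne_zero hsq g hg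
  obtain ⟨gW, hgW⟩ : ∃ gW : (Wc (p ξ)).residueField (qc p ξ η),
    gW = (jc (p ξ)).residueFieldMap (qc p ξ η) g₁ := ⟨_, rfl⟩
  have hgW0 : gW ≠ 0 := by
    rw [hgW]
    exact (map_ne_zero_iff _ ((jc (p ξ)).residueFieldMap (qc p ξ η)).hom.injective).2 hg₁0
  have hfg : fW = (qc p ξ).residueFieldMap η gW := by
    have h1 := residueFieldMap_square (jc ξ) (jc (p ξ)) (qc p ξ) p hfac η hsq g
    rw [← hf, ← hfW, ← hg₁, ← hgW] at h1
    exact h1
  -- `div g` downstairs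
  have hg_congr : Cyc.divFun δY (p (jc ξ η)) g = Cyc.divFun δY (jc (p ξ) (qc p ξ η)) g₁ :=
    hg₁ ▸ divFun_congr_inv δY hsq g
  rw [← hf]
  -- the cycle on `W`
  obtain ⟨αW, hαW⟩ := exists_cycle_divFun (X := Wc ξ) (fun w => δX (jc ξ w)) hW.2.2 η fW hfW0
  have hF : ∀ x, x ∉ Set.range (jc ξ) →
      Cyc.divFun δX (jc ξ η) f x * ((AlgebraicCycle.mapCoeff p δX δY x : ℕ) : ℤ) = 0 := by
    intro x hx
    rw [divFun_eq_zero_of_notMem_range (jc ξ) δX η f x hx, zero_mul]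
  by_cases hy : y ∈ Set.range (jc (p ξ))
  · obtain ⟨w', rfl⟩ := hy
    rw [finsum_mem_preimage_square (jc ξ) (jc (p ξ)) (qc p ξ) p hfac _ hF w']
    have hsum : ∑ᶠ w ∈ (qc p ξ) ⁻¹' {w'}, Cyc.divFun δX (jc ξ η) f (jc ξ w) *
        ((AlgebraicCycle.mapCoeff p δX δY (jc ξ w) : ℕ) : ℤ) =
        AlgebraicCycle.map (qc p ξ) (fun w => δX (jc ξ w)) (fun w' => δY (jc (p ξ) w')) αW w' := by
      show _ = ∑ᶠ w ∈ (qc p ξ) ⁻¹' {w'}, αW w * ((AlgebraicCycle.mapCoeff (qc p ξ)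
        (fun w => δX (jc ξ w)) (fun w' => δY (jc (p ξ) w')) w : ℕ) : ℤ)
      apply finsum_mem_congr rfl
      intro w _
      rw [mapCoeff_square (jc ξ) (jc (p ξ)) (qc p ξ) p hfac δX δY w, hαW,
        divFun_closedImmersion (jc ξ) δX w η f, hfW]
    rw [hsum, hg_congr, divFun_closedImmersion (jc (p ξ)) δY w' (qc p ξ η) g₁,
      ← mapCoeff_square (jc ξ) (jc (p ξ)) (qc p ξ) p hfac δX δY η, ← hgW]
    subst hη
    by_cases hn : δX (jc ξ (genericPoint (Wc ξ))) = δY (jc (p ξ) (genericPoint (Wc (p ξ))))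
    · have key := NormPush.map_divFun_eq_divFun_norm (fun w => δX (jc ξ w))
        (fun w' => δY (jc (p ξ) w')) hW hW' (qc p ξ) hδq hdom hn fW hfW0 αW hαW
      rw [key, hfg, normGen_residueFieldMap, ← zpow_natCast,
        Groth.Agent.Lib.helper16.SecOrd.divFun_zpow _ _ _ hgW0]
      congr 1
      unfold AlgebraicCycle.mapCoeff
      rw [if_pos]
      show δX (jc ξ (genericPoint (Wc ξ))) = δY (jc (p ξ) (qc p ξ (genericPoint (Wc ξ))))
      rw [hdom]
      exact hn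
    · have key := GenFib.map_divFun_eq_zero (fun w => δX (jc ξ w))
        (fun w' => δY (jc (p ξ) w')) hW hW' (qc p ξ) hδq hdom hn fW hfW0 αW hαW
      rw [key]
      unfold AlgebraicCycle.mapCoeff
      rw [if_neg]
      · simp
      · show ¬ δX (jc ξ (genericPoint (Wc ξ))) = δY (jc (p ξ) (qc p ξ (genericPoint (Wc ξ))))
        rw [hdom]
        exact hn
  · rw [finsum_mem_preimage_square_of_notMem (jc ξ) (jc (p ξ)) (qc p ξ) p hfac _ hF y hy,
      hg_congr, divFun_eq_zero_of_notMem_range (jc (p ξ)) δY (qc p ξ η) g₁ y hy, mul_zero]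

open Classical in
theorem push_divFun_pullback (δX : X → ℤ) (δY : Y → ℤ) (hX : Cyc.IsSetup X δX)
    (hY : Cyc.IsSetup Y δY) (p : X ⟶ Y) [IsProper p] (hδ : Cyc.DeltaCompat p δX δY) (ξ : X)
    (g : Y.residueField (p ξ)) (hg : g ≠ 0) (y : Y) :
    ∑ᶠ x ∈ p ⁻¹' {y}, Cyc.divFun δX ξ (p.residueFieldMap ξ g) x *
        ((AlgebraicCycle.mapCoeff p δX δY x : ℕ) : ℤ) =
      ((AlgebraicCycle.mapCoeff p δX δY ξ : ℕ) : ℤ) * Cyc.divFun δY (p ξ) g y := by
  have h := pushPullAt_jc δX δY hX hY p hδ ξ _ rfl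
  rw [jc_genericPoint] at h
  exact h g hg y

end main

end Groth.Agent.Lib.helper2.PushPt
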