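import Mathlib
import Groth.Agent.Lib.Helper2.PushPt4
import Groth.Agent.Lib.Helper2.DegDiv5
import Groth.Agent.Lib.Helper16.PullSec
import Groth.Agent.Lib.Helper16.FLF5

/-!
# Projection formula for `c₁(L) ∩ -` and proper pushforward (helper2)

`ratEquiv_map_c1CapFun` (= S1926): `p_*(c₁(p^*L) ∩ α) ∼ c₁(L) ∩ p_*α`.
-/

set_option autoImplicit false
set_option linter.unusedSectionVars false

namespace Groth.Agent.Lib.helper2.PushPt

universe u

open CategoryTheory AlgebraicGeometry TopologicalSpace Function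
open Groth.Agent.Lib.helper16.CycClosed Groth.Agent.Lib.helper16.SecOrd
  Groth.Agent.Lib.helper16.PullStalk

variable {X Y : Scheme.{u}}

/-- if `c₁(L) ∩ α` computed with the sections `s` is a cycle, so is the one computed with `t`. -/
theorem exists_cycle_c1CapFun_of_sections [IsLocallyNoetherian X] (δ : X → ℤ)
    (hδ : Cyc.IsDimFun X δ) (L : X.Modules) (hL : IsLocCyc L) (k : ℤ) (α : AlgebraicCycle X ℤ)
    (hα : α ∈ Cyc.Zk X δ (k + 1)) (s t : (ξ : X) → Cyc.secFibre L ξ) (hs : ∀ ξ, s ξ ≠ 0)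
    (ht : ∀ ξ, t ξ ≠ 0) (γ₁ : AlgebraicCycle X ℤ) (h₁ : ⇑γ₁ = Cyc.c1CapFun δ L ⇑α s) :
    ∃ γ₂ : AlgebraicCycle X ℤ, ⇑γ₂ = Cyc.c1CapFun δ L ⇑α t := by
  choose ρ hρ using fun ξ => exists_smul_eq L hL ξ (t ξ) (s ξ) (hs ξ)
  have hρs : ∀ ξ, ρ ξ • s ξ ≠ 0 := fun ξ => hρ ξ ▸ ht ξ
  let r : ∀ ξ, X.residueField ξ := fun ξ => X.residue ξ (ρ ξ)
  have hr : ∀ ξ, r ξ ≠ 0 := fun ξ => residue_ne_zero_of_smul_ne_zero L ξ (hρs ξ)
  have hdiff : ∀ ξ x, Cyc.secDivFun δ L ξ (t ξ) x =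
      Cyc.divFun δ ξ (r ξ) x + Cyc.secDivFun δ L ξ (s ξ) x := by
    intro ξ x
    rw [hρ ξ]
    exact secDivFun_smul δ L hL ξ (s ξ) (ρ ξ) (hρs ξ) x
  have hsupp : ∀ (x : X) (F : X → ℤ), (∀ ξ, ¬ ξ ⤳ x → F ξ = 0) →
      (Function.support fun ξ => α ξ * F ξ).Finite := by
    intro x F hF
    refine (finite_specializes_support α x).subset ?_
    intro ξ hξ
    rw [Function.mem_support] at hξ
    refine ⟨fun h => hξ (by rw [h, zero_mul]), ?_⟩
    by_contra hne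
    exact hξ (by rw [hF ξ hne, mul_zero])
  have hsec0 : ∀ (u : (ξ : X) → Cyc.secFibre L ξ) (x ξ : X), ¬ ξ ⤳ x →
      Cyc.secDivFun δ L ξ (u ξ) x = 0 := by
    intro u x ξ hne
    unfold Cyc.secDivFun
    rw [dif_neg (fun h => hne h.1)]
  have hdiv0 : ∀ (x ξ : X), ¬ ξ ⤳ x → Cyc.divFun δ ξ (r ξ) x = 0 := by
    intro x ξ hne
    unfold Cyc.divFun
    rw [dif_neg (fun h => hne h.1)]
  -- the cycle `Σ α(ξ) div(r ξ)`
  obtain ⟨D, hD, -, -⟩ := exists_cycle_of_family (X := X) δ hδ k (J := {ξ : X // α ξ ≠ 0})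
    (fun i => i.1) (fun i => r i.1 ^ (α i.1))
    (fun i => by
      by_contra hne
      exact i.2 (hα i.1 hne))
    (fun i => zpow_ne_zero _ (hr i.1))
    (fun x => by
      obtain ⟨V, hV, hfin⟩ := α.supportLocallyFiniteWithinDomain' x trivial
      refine ⟨interior V, isOpen_interior, mem_interior_iff_mem_nhds.2 hV, ?_⟩
      apply (hfin.preimage Subtype.val_injective.injOn).subset
      rintro i ⟨z, hz1, hz2⟩
      have hiz : i.1 ⤳ z := specializes_iff_mem_closure.2 hz1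
      exact ⟨interior_subset (hiz.mem_open isOpen_interior hz2), i.2⟩)
  have hD' : ∀ x, D x = ∑ᶠ ξ, α ξ * Cyc.divFun δ ξ (r ξ) x := by
    intro x
    rw [hD x]
    have h3 : ∀ i : {ξ : X // α ξ ≠ 0}, Cyc.divFun δ i.1 (r i.1 ^ (α i.1)) x =
        (fun ξ => α ξ * Cyc.divFun δ ξ (r ξ) x) i.1 := fun i =>
      divFun_zpow δ i.1 (r i.1) (hr i.1) (α i.1) x
    rw [finsum_congr h3, finsum_subtype_eq_finsum_cond (fun ξ => α ξ ≠ 0)
      (f := fun ξ => α ξ * Cyc.divFun δ ξ (r ξ) x)]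
    apply finsum_congr
    intro ξ
    by_cases hξ : α ξ = 0
    · simp [hξ]
    · simp [hξ]
  refine ⟨γ₁ + D, ?_⟩
  funext x
  rw [Function.locallyFinsuppWithin.coe_add, Pi.add_apply, h₁, hD' x]
  unfold Cyc.c1CapFun
  rw [← finsum_add_distrib (hsupp x _ (hsec0 s x)) (hsupp x _ (hdiv0 x))]
  apply finsum_congr
  intro ξ
  rw [hdiff ξ x]
  ring

theorem secOrdAt_pullSec' (p : X ⟶ Y) (L : Y.Modules) {x ξ : X} (h' : ξ ⤳ x) (y : Y)
    (hx : p x = y) (t : L.presheaf.stalk y)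
    (ht : Submodule.span (Y.presheaf.stalk y) {t} = ⊤) (hsp : p ξ ⤳ y)
    (s : Cyc.secFibre L (p ξ)) (φ : Y.presheaf.stalk (p ξ))
    (hφ : s = φ • (Submodule.Quotient.mk (L.presheaf.stalkSpecializes hsp t) :
      Cyc.secFibre L (p ξ)))
    (hne : pullSec p ξ L s ≠ 0) :
    Cyc.secOrdAt ((Scheme.Modules.pullback p).obj L) ξ x h' (pullSec p ξ L s) =
      Cyc.ordAt x ξ h' (p.residueFieldMap ξ (Y.residue (p ξ) φ)) := by
  subst hx
  exact secOrdAt_pullSec p L h' t ht s φ hφ hne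

open Classical in
/-- `p_*(c₁(p^*L) ∩ α) = c₁(L) ∩ p_*α` on the nose for the pulled back sections. -/
theorem map_c1CapFun_pullSec (δX : X → ℤ) (δY : Y → ℤ) (hX : Cyc.IsSetup X δX)
    (hY : Cyc.IsSetup Y δY) (p : X ⟶ Y) [IsProper p] (hδ : Cyc.DeltaCompat p δX δY)
    (L : Y.Modules) (hL : IsLocCyc L)
    (e : ∀ ξ : X, Cyc.secFibre ((Scheme.Modules.pullback p).obj L) ξ) (he : ∀ ξ, e ξ ≠ 0)
    (α : AlgebraicCycle X ℤ) (v : (η : Y) → Cyc.secFibre L η) (hv : ∀ η, v η ≠ 0)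
    (γ₀ : AlgebraicCycle X ℤ)
    (hγ₀ : ⇑γ₀ = Cyc.c1CapFun δX ((Scheme.Modules.pullback p).obj L) ⇑α
      (fun ξ => pullSec p ξ L (v (p ξ)))) :
    ⇑(AlgebraicCycle.map p δX δY γ₀) =
      Cyc.c1CapFun δY L ⇑(AlgebraicCycle.map p δX δY α) v := by
  haveI := hX.1
  haveI := hY.1
  funext y
  have hmapsp : ∀ {z w : X}, z ⤳ w → p z ⤳ p w := fun h => p.base.hom.map_specializes h
  obtain ⟨t, ht⟩ := hL.cyc y
  have hφex : ∀ ζ : Y, ∀ h : ζ ⤳ y, ∃ φ : Y.presheaf.stalk ζ, v ζ =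
      φ • (Submodule.Quotient.mk (L.presheaf.stalkSpecializes h t) : Cyc.secFibre L ζ) :=
    fun ζ h => exists_smul_mk_eq L ζ _ (hL.spec y ζ h t ht) (v ζ)
  let G : ∀ ζ : Y, Y.residueField ζ := fun ζ =>
    if h : ζ ⤳ y then Y.residue ζ (Classical.choose (hφex ζ h)) else 1
  have hG : ∀ ζ, G ζ ≠ 0 := by
    intro ζ
    by_cases h : ζ ⤳ y
    · simp only [G, dif_pos h]
      have hspec := Classical.choose_spec (hφex ζ h)
      exact residue_ne_zero_of_smul_ne_zero L ζ (hspec ▸ hv ζ)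
    · simp only [G, dif_neg h]
      exact one_ne_zero
  let H : Y → ℤ := fun ζ => Cyc.divFun δY ζ (G ζ) y
  -- (a) `secDivFun` downstairs
  have h1 : ∀ ζ, Cyc.secDivFun δY L ζ (v ζ) y = H ζ := by
    intro ζ
    show _ = Cyc.divFun δY ζ (G ζ) y
    unfold Cyc.secDivFun Cyc.divFun
    by_cases h : ζ ⤳ y ∧ δY y + 1 = δY ζ
    · rw [dif_pos h, dif_pos h]
      have hspec := Classical.choose_spec (hφex ζ h.1)
      rw [secOrdAt_eq L y ζ h.1 (v ζ) (hv ζ) t ht _ hspec]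
      simp only [G, dif_pos h.1]
    · rw [dif_neg h, dif_neg h]
  -- (b) `secDivFun` upstairs
  have h4 : ∀ ξ x : X, p x = y →
      Cyc.secDivFun δX ((Scheme.Modules.pullback p).obj L) ξ (pullSec p ξ L (v (p ξ))) x =
        Cyc.divFun δX ξ (p.residueFieldMap ξ (G (p ξ))) x := by
    intro ξ x hx
    unfold Cyc.secDivFun Cyc.divFun
    by_cases h : ξ ⤳ x ∧ δX x + 1 = δX ξ
    · rw [dif_pos h, dif_pos h]
      have hsp : p ξ ⤳ y := hx ▸ hmapsp h.1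
      have hspec := Classical.choose_spec (hφex (p ξ) hsp)
      obtain ⟨t₁, ht₁⟩ := hL.cyc (p ξ)
      have hne : pullSec p ξ L (v (p ξ)) ≠ 0 :=
        pullSec_ne_zero p ξ L t₁ ht₁ (e ξ) (he ξ) (v (p ξ)) (hv (p ξ))
      rw [secOrdAt_pullSec' p L h.1 y hx t ht hsp (v (p ξ)) _ hspec hne]
      simp only [G, dif_pos hsp]
    · rw [dif_neg h, dif_neg h]
  -- the compact fibre and the finitely many relevant points
  have hK : IsCompact (p ⁻¹' {y}) := p.isCompact_preimage_singleton y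
  have hlf : ∀ x : X, ∃ U : Set X, IsOpen U ∧ x ∈ U ∧
      {i : {ξ : X // α ξ ≠ 0} | (closure {i.1} ∩ U).Nonempty}.Finite := by
    intro x
    obtain ⟨V, hV, hfin⟩ := α.supportLocallyFiniteWithinDomain' x trivial
    refine ⟨interior V, isOpen_interior, mem_interior_iff_mem_nhds.2 hV, ?_⟩
    apply (hfin.preimage Subtype.val_injective.injOn).subset
    rintro i ⟨z, hz1, hz2⟩
    have hiz : i.1 ⤳ z := specializes_iff_mem_closure.2 hz1
    exact ⟨interior_subset (hiz.mem_open isOpen_interior hz2), i.2⟩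
  have hI₀' := finite_meets_compact (fun i : {ξ : X // α ξ ≠ 0} => i.1) hlf _ hK
  have hI₀ : {ξ : X | α ξ ≠ 0 ∧ (closure {ξ} ∩ p ⁻¹' {y}).Nonempty}.Finite := by
    refine (hI₀'.image Subtype.val).subset ?_
    rintro ξ ⟨h1, h2⟩
    exact ⟨⟨ξ, h1⟩, h2, rfl⟩
  -- the left hand side
  have hLHS : AlgebraicCycle.map p δX δY γ₀ y =
      ∑ᶠ ξ : X, α ξ * (((AlgebraicCycle.mapCoeff p δX δY ξ : ℕ) : ℤ) * H (p ξ)) := by
    show ∑ᶠ x ∈ p ⁻¹' {y}, γ₀ x * ((AlgebraicCycle.mapCoeff p δX δY x : ℕ) : ℤ) = _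
    have hstep : ∀ x ∈ p ⁻¹' {y}, γ₀ x * ((AlgebraicCycle.mapCoeff p δX δY x : ℕ) : ℤ) =
        (∑ᶠ ξ : X, α ξ * Cyc.divFun δX ξ (p.residueFieldMap ξ (G (p ξ))) x) *
          ((AlgebraicCycle.mapCoeff p δX δY x : ℕ) : ℤ) := by
      intro x hx
      rw [hγ₀]
      unfold Cyc.c1CapFun
      congr 1
      apply finsum_congr
      intro ξ
      rw [h4 ξ x hx]
    rw [finsum_mem_congr rfl hstep,
      finsum_mem_finsum_comm (p ⁻¹' {y})
        (fun ξ x => α ξ * Cyc.divFun δX ξ (p.residueFieldMap ξ (G (p ξ))) x) _ hI₀ ?_ ?_]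
    · apply finsum_congr
      intro ξ
      have hpush := push_divFun_pullback δX δY hX hY p hδ ξ (G (p ξ)) (hG (p ξ)) y
      rw [← hpush, mul_finsum_mem]
      apply finsum_mem_congr rfl
      intro x _
      ring
    · intro ξ hξ x hx
      by_cases hα0 : α ξ = 0
      · simp [hα0]
      · have : Cyc.divFun δX ξ (p.residueFieldMap ξ (G (p ξ))) x = 0 := by
          by_contra hne
          apply hξ
          exact ⟨hα0, x,
            specializes_iff_mem_closure.1 (divFun_ne_zero_specializes δX _ _ x hne).1, hx⟩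
        show α ξ * _ = 0
        rw [this, mul_zero]
    · intro ξ _
      refine (finite_inter_support_divFun δX hX.2.2 ξ (p.residueFieldMap ξ (G (p ξ)))
        ((map_ne_zero_iff _ (p.residueFieldMap ξ).hom.injective).2 (hG (p ξ))) _ hK).subset ?_
      rintro x ⟨hx1, hx2⟩
      exact ⟨hx1, right_ne_zero_of_mul hx2⟩
  rw [hLHS]
  -- the right hand side
  show _ = ∑ᶠ ζ : Y, AlgebraicCycle.map p δX δY α ζ * Cyc.secDivFun δY L ζ (v ζ) y
  have hR1 : ∀ ζ : Y, AlgebraicCycle.map p δX δY α ζ * Cyc.secDivFun δY L ζ (v ζ) y =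
      ∑ᶠ ξ ∈ {ξ : X | p ξ = ζ ∧ ξ ∈ (Set.univ : Set X)},
        α ξ * (((AlgebraicCycle.mapCoeff p δX δY ξ : ℕ) : ℤ) * H (p ξ)) := by
    intro ζ
    rw [h1 ζ]
    show (∑ᶠ ξ ∈ p ⁻¹' {ζ}, α ξ * ((AlgebraicCycle.mapCoeff p δX δY ξ : ℕ) : ℤ)) * H ζ = _
    rw [finsum_mem_mul]
    have hset : {ξ : X | p ξ = ζ ∧ ξ ∈ (Set.univ : Set X)} = p ⁻¹' {ζ} := by
      ext ξ
      simp
    rw [hset]
    apply finsum_mem_congr rfl
    intro ξ hξ
    have : p ξ = ζ := hξ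
    rw [this]
    ring
  rw [finsum_congr hR1, ← finsum_mem_univ, ← finsum_mem_univ (f := fun ζ : Y => _)]
  refine Groth.Agent.Lib.helper2.DegDiv.finsum_mem_fiberwise (fun ξ : X => p ξ) Set.univ _ ?_ Set.univ (fun _ _ => trivial)
  -- finiteness of the support
  refine hI₀.subset ?_
  rintro ξ ⟨-, hξ⟩
  have hα0 : α ξ ≠ 0 := left_ne_zero_of_mul hξ
  have hH : H (p ξ) ≠ 0 := right_ne_zero_of_mul (right_ne_zero_of_mul hξ)
  have hsp : p ξ ⤳ y := (divFun_ne_zero_specializes δY _ _ y hH).1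
  refine ⟨hα0, ?_⟩
  have hcl : closure {p ξ} = p '' closure {ξ} := by
    rw [← Set.image_singleton]
    exact p.isClosedMap.closure_image_eq_of_continuous p.continuous _
  have hy : y ∈ closure {p ξ} := specializes_iff_mem_closure.1 hsp
  rw [hcl] at hy
  obtain ⟨x, hx1, hx2⟩ := hy
  exact ⟨x, hx1, hx2⟩

/-- projection formula: `p_*(c₁(p^*L) ∩ α) ∼ c₁(L) ∩ p_*α` (= S1926). -/
theorem ratEquiv_map_c1CapFun (δX : X → ℤ) (δY : Y → ℤ) (hX : Cyc.IsSetup X δX)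
    (hY : Cyc.IsSetup Y δY) (p : X ⟶ Y) [IsProper p] (hδ : Cyc.DeltaCompat p δX δY)
    (L : Y.Modules) (hL : PicF.IsInvertible L) (k : ℤ) (α : AlgebraicCycle X ℤ)
    (hα : α ∈ Cyc.Zk X δX (k + 1))
    (u : (ξ : X) → Cyc.secFibre ((Scheme.Modules.pullback p).obj L) ξ) (hu : ∀ ξ, u ξ ≠ 0)
    (v : (η : Y) → Cyc.secFibre L η) (hv : ∀ η, v η ≠ 0) (γ : AlgebraicCycle X ℤ)
    (hγ : ⇑γ = Cyc.c1CapFun δX ((Scheme.Modules.pullback p).obj L) ⇑α u)
    (γ' : AlgebraicCycle Y ℤ)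
    (hγ' : ⇑γ' = Cyc.c1CapFun δY L ⇑(AlgebraicCycle.map p δX δY α) v) :
    Cyc.RatEquiv δY k (AlgebraicCycle.map p δX δY γ) γ' := by
  haveI := hX.1
  haveI := hY.1
  have hLc := isLocCyc_of_isInvertible L hL
  have hP : PicF.IsInvertible ((Scheme.Modules.pullback p).obj L) :=
    (Groth.Agent.Lib.helper16.FLF.isInvertible_iff_isFinLocFreeOfRank_one _).2
      (Groth.Agent.Lib.helper16.FLF.isFinLocFreeOfRank_pullback p
        ((Groth.Agent.Lib.helper16.FLF.isInvertible_iff_isFinLocFreeOfRank_one L).1 hL))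
  have hPc := isLocCyc_of_isInvertible _ hP
  have hu₀ : ∀ ξ, pullSec p ξ L (v (p ξ)) ≠ 0 := fun ξ => by
    obtain ⟨t₁, ht₁⟩ := hLc.cyc (p ξ)
    exact pullSec_ne_zero p ξ L t₁ ht₁ (u ξ) (hu ξ) _ (hv _)
  obtain ⟨γ₀, hγ₀⟩ := exists_cycle_c1CapFun_of_sections δX hX.2.2 _ hPc k α hα u
    (fun ξ => pullSec p ξ L (v (p ξ))) hu hu₀ γ hγ
  have h1 : Cyc.RatEquiv δX k γ γ₀ :=
    ratEquiv_c1CapFun_of_sections X δX _ hPc k α hα u _ hu hu₀ γ γ₀ hγ hγ₀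
  have h2 := ratEquiv_map δX δY hX hY p hδ k γ γ₀ h1
  have h3 : AlgebraicCycle.map p δX δY γ₀ = γ' := by
    apply DFunLike.coe_injective
    rw [hγ']
    exact map_c1CapFun_pullSec δX δY hX hY p hδ L hLc u hu α v hv γ₀ hγ₀
  rw [← h3]
  exact h2

end Groth.Agent.Lib.helper2.PushPt
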