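import Mathlib
import Groth.Agent.Lib.Helper2.PushPt5
import Groth.Agent.Lib.Helper16.GysinFlat3

/-!
# Gysin maps commute with proper pushforward (helper2)

`ratEquiv_gysin_push` (= S1932).
-/

set_option autoImplicit false
set_option linter.unusedSectionVars false

namespace Groth.Agent.Lib.helper2.PushPt

universe u

open CategoryTheory CategoryTheory.Limits AlgebraicGeometry TopologicalSpace Function
open Groth.Agent.Lib.helper16.CycClosed Groth.Agent.Lib.helper16.SecOrd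
  Groth.Agent.Lib.helper16.PullStalk

variable {X Y : Scheme.{u}}

open Classical in
/-- function-level version of `map_c1CapFun_pullSec` (no cycle upstairs needed). -/
theorem push_c1CapFun_pullSec (δX : X → ℤ) (δY : Y → ℤ) (hX : Cyc.IsSetup X δX)
    (hY : Cyc.IsSetup Y δY) (p : X ⟶ Y) [IsProper p] (hδ : Cyc.DeltaCompat p δX δY)
    (L : Y.Modules) (hL : IsLocCyc L)
    (e : ∀ ξ : X, Cyc.secFibre ((Scheme.Modules.pullback p).obj L) ξ) (he : ∀ ξ, e ξ ≠ 0)
    (α : AlgebraicCycle X ℤ) (v : (η : Y) → Cyc.secFibre L η) (hv : ∀ η, v η ≠ 0)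
    (y : Y) :
    ∑ᶠ x ∈ p ⁻¹' {y}, Cyc.c1CapFun δX ((Scheme.Modules.pullback p).obj L) ⇑α
        (fun ξ => pullSec p ξ L (v (p ξ))) x * ((AlgebraicCycle.mapCoeff p δX δY x : ℕ) : ℤ) =
      Cyc.c1CapFun δY L ⇑(AlgebraicCycle.map p δX δY α) v y := by
  haveI := hX.1
  haveI := hY.1
  have hmapsp : ∀ {z w : X}, z ⤳ w → p z ⤳ p w := fun h => p.base.hom.map_specializes h
  obtain ⟨t, ht⟩ := hL.cyc y
  have hφex : ∀ ζ : Y, ∀ h : ζ ⤳ y, ∃ φ : Y.presheaf.stalk ζ, v ζ =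
      φ • (Submodule.Quotient.mk (L.presheaf.stalkSpecializes h t) : Cyc.secFibre L ζ) :=
    fun ζ h => exists_smul_mk_eq L ζ _ (hL.spec y ζ h t ht) (v ζ)
  let G : ∀ ζ : Y, Y.residueField ζ := fun ζ =>
    if h : ζ ⤳ y then Y.residue ζ (Classical.choose (hφex ζ h)) else 1
  have hG : ∀ ζ, G ζ ≠ 0 := by
    intro ζ
    by_cases h : ζ ⤳ y
    · simp only [G, dif_pos h]
      have hspec := Classical.choose_spec (hφex ζ h)
      exact residue_ne_zero_of_smul_ne_zero L ζ (hspec ▸ hv ζ)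
    · simp only [G, dif_neg h]
      exact one_ne_zero
  let H : Y → ℤ := fun ζ => Cyc.divFun δY ζ (G ζ) y
  -- (a) `secDivFun` downstairs
  have h1 : ∀ ζ, Cyc.secDivFun δY L ζ (v ζ) y = H ζ := by
    intro ζ
    show _ = Cyc.divFun δY ζ (G ζ) y
    unfold Cyc.secDivFun Cyc.divFun
    by_cases h : ζ ⤳ y ∧ δY y + 1 = δY ζ
    · rw [dif_pos h, dif_pos h]
      have hspec := Classical.choose_spec (hφex ζ h.1)
      rw [secOrdAt_eq L y ζ h.1 (v ζ) (hv ζ) t ht _ hspec]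
      simp only [G, dif_pos h.1]
    · rw [dif_neg h, dif_neg h]
  -- (b) `secDivFun` upstairs
  have h4 : ∀ ξ x : X, p x = y →
      Cyc.secDivFun δX ((Scheme.Modules.pullback p).obj L) ξ (pullSec p ξ L (v (p ξ))) x =
        Cyc.divFun δX ξ (p.residueFieldMap ξ (G (p ξ))) x := by
    intro ξ x hx
    unfold Cyc.secDivFun Cyc.divFun
    by_cases h : ξ ⤳ x ∧ δX x + 1 = δX ξ
    · rw [dif_pos h, dif_pos h]
      have hsp : p ξ ⤳ y := hx ▸ hmapsp h.1
      have hspec := Classical.choose_spec (hφex (p ξ) hsp)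
      obtain ⟨t₁, ht₁⟩ := hL.cyc (p ξ)
      have hne : pullSec p ξ L (v (p ξ)) ≠ 0 :=
        pullSec_ne_zero p ξ L t₁ ht₁ (e ξ) (he ξ) (v (p ξ)) (hv (p ξ))
      rw [secOrdAt_pullSec' p L h.1 y hx t ht hsp (v (p ξ)) _ hspec hne]
      simp only [G, dif_pos hsp]
    · rw [dif_neg h, dif_neg h]
  -- the compact fibre and the finitely many relevant points
  have hK : IsCompact (p ⁻¹' {y}) := p.isCompact_preimage_singleton y
  have hlf : ∀ x : X, ∃ U : Set X, IsOpen U ∧ x ∈ U ∧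
      {i : {ξ : X // α ξ ≠ 0} | (closure {i.1} ∩ U).Nonempty}.Finite := by
    intro x
    obtain ⟨V, hV, hfin⟩ := α.supportLocallyFiniteWithinDomain' x trivial
    refine ⟨interior V, isOpen_interior, mem_interior_iff_mem_nhds.2 hV, ?_⟩
    apply (hfin.preimage Subtype.val_injective.injOn).subset
    rintro i ⟨z, hz1, hz2⟩
    have hiz : i.1 ⤳ z := specializes_iff_mem_closure.2 hz1
    exact ⟨interior_subset (hiz.mem_open isOpen_interior hz2), i.2⟩
  have hI₀' := finite_meets_compact (fun i : {ξ : X // α ξ ≠ 0} => i.1) hlf _ hK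
  have hI₀ : {ξ : X | α ξ ≠ 0 ∧ (closure {ξ} ∩ p ⁻¹' {y}).Nonempty}.Finite := by
    refine (hI₀'.image Subtype.val).subset ?_
    rintro ξ ⟨h1, h2⟩
    exact ⟨⟨ξ, h1⟩, h2, rfl⟩
  -- the left hand side
  have hLHS : ∑ᶠ x ∈ p ⁻¹' {y}, Cyc.c1CapFun δX ((Scheme.Modules.pullback p).obj L) ⇑α
        (fun ξ => pullSec p ξ L (v (p ξ))) x * ((AlgebraicCycle.mapCoeff p δX δY x : ℕ) : ℤ) =
      ∑ᶠ ξ : X, α ξ * (((AlgebraicCycle.mapCoeff p δX δY ξ : ℕ) : ℤ) * H (p ξ)) := by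
    have hstep : ∀ x ∈ p ⁻¹' {y}, Cyc.c1CapFun δX ((Scheme.Modules.pullback p).obj L) ⇑α
        (fun ξ => pullSec p ξ L (v (p ξ))) x * ((AlgebraicCycle.mapCoeff p δX δY x : ℕ) : ℤ) =
        (∑ᶠ ξ : X, α ξ * Cyc.divFun δX ξ (p.residueFieldMap ξ (G (p ξ))) x) *
          ((AlgebraicCycle.mapCoeff p δX δY x : ℕ) : ℤ) := by
      intro x hx
      unfold Cyc.c1CapFun
      congr 1
      apply finsum_congr
      intro ξ
      rw [h4 ξ x hx]
    rw [finsum_mem_congr rfl hstep,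
      finsum_mem_finsum_comm (p ⁻¹' {y})
        (fun ξ x => α ξ * Cyc.divFun δX ξ (p.residueFieldMap ξ (G (p ξ))) x) _ hI₀ ?_ ?_]
    · apply finsum_congr
      intro ξ
      have hpush := push_divFun_pullback δX δY hX hY p hδ ξ (G (p ξ)) (hG (p ξ)) y
      rw [← hpush, mul_finsum_mem]
      apply finsum_mem_congr rfl
      intro x _
      ring
    · intro ξ hξ x hx
      by_cases hα0 : α ξ = 0
      · simp [hα0]
      · have : Cyc.divFun δX ξ (p.residueFieldMap ξ (G (p ξ))) x = 0 := by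
          by_contra hne
          apply hξ
          exact ⟨hα0, x,
            specializes_iff_mem_closure.1 (divFun_ne_zero_specializes δX _ _ x hne).1, hx⟩
        show α ξ * _ = 0
        rw [this, mul_zero]
    · intro ξ _
      refine (finite_inter_support_divFun δX hX.2.2 ξ (p.residueFieldMap ξ (G (p ξ)))
        ((map_ne_zero_iff _ (p.residueFieldMap ξ).hom.injective).2 (hG (p ξ))) _ hK).subset ?_
      rintro x ⟨hx1, hx2⟩
      exact ⟨hx1, right_ne_zero_of_mul hx2⟩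
  rw [hLHS]
  -- the right hand side
  show _ = ∑ᶠ ζ : Y, AlgebraicCycle.map p δX δY α ζ * Cyc.secDivFun δY L ζ (v ζ) y
  have hR1 : ∀ ζ : Y, AlgebraicCycle.map p δX δY α ζ * Cyc.secDivFun δY L ζ (v ζ) y =
      ∑ᶠ ξ ∈ {ξ : X | p ξ = ζ ∧ ξ ∈ (Set.univ : Set X)},
        α ξ * (((AlgebraicCycle.mapCoeff p δX δY ξ : ℕ) : ℤ) * H (p ξ)) := by
    intro ζ
    rw [h1 ζ]
    show (∑ᶠ ξ ∈ p ⁻¹' {ζ}, α ξ * ((AlgebraicCycle.mapCoeff p δX δY ξ : ℕ) : ℤ)) * H ζ = _
    rw [finsum_mem_mul]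
    have hset : {ξ : X | p ξ = ζ ∧ ξ ∈ (Set.univ : Set X)} = p ⁻¹' {ζ} := by
      ext ξ
      simp
    rw [hset]
    apply finsum_mem_congr rfl
    intro ξ hξ
    have : p ξ = ζ := hξ
    rw [this]
    ring
  rw [finsum_congr hR1, ← finsum_mem_univ, ← finsum_mem_univ (f := fun ζ : Y => _)]
  refine Groth.Agent.Lib.helper2.DegDiv.finsum_mem_fiberwise (fun ξ : X => p ξ) Set.univ _ ?_ Set.univ (fun _ _ => trivial)
  -- finiteness of the support
  refine hI₀.subset ?_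
  rintro ξ ⟨-, hξ⟩
  have hα0 : α ξ ≠ 0 := left_ne_zero_of_mul hξ
  have hH : H (p ξ) ≠ 0 := right_ne_zero_of_mul (right_ne_zero_of_mul hξ)
  have hsp : p ξ ⤳ y := (divFun_ne_zero_specializes δY _ _ y hH).1
  refine ⟨hα0, ?_⟩
  have hcl : closure {p ξ} = p '' closure {ξ} := by
    rw [← Set.image_singleton]
    exact p.isClosedMap.closure_image_eq_of_continuous p.continuous _
  have hy : y ∈ closure {p ξ} := specializes_iff_mem_closure.1 hsp
  rw [hcl] at hy
  obtain ⟨x, hx1, hx2⟩ := hy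
  exact ⟨x, hx1, hx2⟩


section pullbackSquare

variable {X' D : Scheme.{u}} (f : X' ⟶ X) (i : D ⟶ X)

theorem finsum_mem_preimage_pullback [IsClosedImmersion i] (F : X' → ℤ) (d : D) :
    ∑ᶠ x' ∈ f ⁻¹' {i d}, F x' =
      ∑ᶠ z ∈ (pullback.snd f i) ⁻¹' {d}, F (pullback.fst f i z) := by
  have hinj : Function.Injective (pullback.fst f i) :=
    (pullback.fst f i).isClosedEmbedding.injective
  have hinj' : Function.Injective i := i.isClosedEmbedding.injective
  rw [← finsum_mem_image (g := pullback.fst f i) hinj.injOn]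
  have hset : f ⁻¹' {i d} = (pullback.fst f i) '' ((pullback.snd f i) ⁻¹' {d}) := by
    ext x'
    simp only [Set.mem_preimage, Set.mem_singleton_iff, Set.mem_image]
    constructor
    · intro hx'
      obtain ⟨z, hz1, hz2⟩ := Scheme.Pullback.exists_preimage_pullback (f := f) (g := i) x' d hx'
      exact ⟨z, hz2, hz1⟩
    · rintro ⟨z, hz, rfl⟩
      rw [Groth.Agent.Lib.helper16.CIPull.apply_fst_eq_apply_snd f i z, hz]
  rw [hset]

open Classical in
theorem ratEquiv_gysin_push (δ : X → ℤ) (δ' : X' → ℤ) (hX : Cyc.IsSetup X δ)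
    (hX' : Cyc.IsSetup X' δ') [IsProper f] [IsClosedImmersion i] (hδ : Cyc.DeltaCompat f δ' δ)
    (L : X.Modules) (hL : PicF.IsInvertible L)
    (s : L.presheaf.obj (Opposite.op ⊤)) (hD : Cyc.IsZeroSchemeOf i L s)
    (s' : ((Scheme.Modules.pullback f).obj L).presheaf.obj (Opposite.op ⊤))
    (hD' : Cyc.IsZeroSchemeOf (pullback.fst f i) ((Scheme.Modules.pullback f).obj L) s')
    (k : ℤ) (α' : AlgebraicCycle X' ℤ) (hα' : α' ∈ Cyc.Zk X' δ' (k + 1))
    (w : (ξ : X) → Cyc.secFibre L ξ) (hw : ∀ ξ, w ξ ≠ 0)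
    (w' : (ξ : X') → Cyc.secFibre ((Scheme.Modules.pullback f).obj L) ξ) (hw' : ∀ ξ, w' ξ ≠ 0)
    (γ : AlgebraicCycle D ℤ)
    (hγ : ∀ d, γ d = Cyc.c1CapFun δ L ⇑(AlgebraicCycle.map f δ' δ α')
      (Cyc.gysinChoice L s w) (i d))
    (γ' : AlgebraicCycle (pullback f i) ℤ)
    (hγ' : ∀ z, γ' z = Cyc.c1CapFun δ' ((Scheme.Modules.pullback f).obj L) ⇑α'
      (Cyc.gysinChoice ((Scheme.Modules.pullback f).obj L) s' w') (pullback.fst f i z)) :
    Cyc.RatEquiv (fun d => δ (i d)) k γ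
      (AlgebraicCycle.map (pullback.snd f i) (fun z => δ' (pullback.fst f i z))
        (fun d => δ (i d)) γ') := by
  haveI : IsLocallyNoetherian X := hX.1
  haveI : IsLocallyNoetherian X' := hX'.1
  have hLc := isLocCyc_of_isInvertible L hL
  have hL' : PicF.IsInvertible ((Scheme.Modules.pullback f).obj L) :=
    (Groth.Agent.Lib.helper16.FLF.isInvertible_iff_isFinLocFreeOfRank_one _).2
      (Groth.Agent.Lib.helper16.FLF.isFinLocFreeOfRank_pullback f
        ((Groth.Agent.Lib.helper16.FLF.isInvertible_iff_isFinLocFreeOfRank_one L).1 hL))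
  have hL'c := isLocCyc_of_isInvertible _ hL'
  have hfac : pullback.snd f i ≫ i = pullback.fst f i ≫ f := pullback.condition.symm
  have hDs : Cyc.IsSetup D (fun d => δ (i d)) := isSetup_closedImmersion i δ hX
  have hD's : Cyc.IsSetup (pullback f i) (fun z => δ' (pullback.fst f i z)) :=
    isSetup_closedImmersion (pullback.fst f i) δ' hX'
  have hδg := deltaCompat_square (pullback.fst f i) i (pullback.snd f i) f hfac δ' δ hδ
  have hu := Groth.Agent.Lib.helper16.GysinFlat.gysinChoice_ne_zero L s w hw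
  have hu' := Groth.Agent.Lib.helper16.GysinFlat.gysinChoice_ne_zero
    ((Scheme.Modules.pullback f).obj L) s' w' hw'
  have hv' : ∀ ξ' : X', pullSec f ξ' L (Cyc.gysinChoice L s w (f ξ')) ≠ 0 := by
    intro ξ'
    obtain ⟨t, ht⟩ := hLc.cyc (f ξ')
    exact pullSec_ne_zero f ξ' L t ht _ (hu' ξ') _ (hu (f ξ'))
  have hα'k : ∀ ξ', α' ξ' ≠ 0 → δ' ξ' = k + 1 := by
    intro ξ' hne
    by_contra h
    exact hne (hα' ξ' h)
  -- compare the sections
  have hex : ∀ ξ' : X', ∃ ρ : X'.presheaf.stalk ξ',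
      Cyc.gysinChoice ((Scheme.Modules.pullback f).obj L) s' w' ξ' =
        ρ • pullSec f ξ' L (Cyc.gysinChoice L s w (f ξ')) :=
    fun ξ' => exists_smul_eq _ hL'c ξ' _ _ (hv' ξ')
  choose ρ hρ using hex
  have hρt : ∀ ξ', ρ ξ' • pullSec f ξ' L (Cyc.gysinChoice L s w (f ξ')) ≠ 0 :=
    fun ξ' => hρ ξ' ▸ hu' ξ'
  let rr : ∀ ξ' : X', X'.residueField ξ' := fun ξ' => X'.residue ξ' (ρ ξ')
  have hrr : ∀ ξ', rr ξ' ≠ 0 := fun ξ' =>
    residue_ne_zero_of_smul_ne_zero _ ξ' (hρt ξ')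
  have hdiff : ∀ ξ' x',
      Cyc.secDivFun δ' ((Scheme.Modules.pullback f).obj L) ξ'
        (Cyc.gysinChoice ((Scheme.Modules.pullback f).obj L) s' w' ξ') x' =
      Cyc.divFun δ' ξ' (rr ξ') x' +
        Cyc.secDivFun δ' ((Scheme.Modules.pullback f).obj L) ξ'
          (pullSec f ξ' L (Cyc.gysinChoice L s w (f ξ'))) x' := by
    intro ξ' x'
    rw [hρ ξ']
    exact secDivFun_smul δ' _ hL'c ξ' _ (ρ ξ') (hρt ξ') x'
  have hdiv0 : ∀ ξ' z, ξ' ∉ Set.range (pullback.fst f i) →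
      Cyc.divFun δ' ξ' (rr ξ') (pullback.fst f i z) = 0 := by
    intro ξ' z hξ'
    have h1 := hdiff ξ' (pullback.fst f i z)
    rw [Groth.Agent.Lib.helper16.GysinFlat.secDivFun_gysin_pull_eq f i δ' L hL s hD s' hD' w w'
      hw' ξ' hξ' z] at h1
    linarith
  have hsupp : ∀ (x : X') (F : X' → ℤ), (∀ ξ, ¬ ξ ⤳ x → F ξ = 0) →
      (Function.support fun ξ => α' ξ * F ξ).Finite := by
    intro x F hF
    refine (finite_specializes_support α' x).subset ?_
    intro ξ hξ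
    rw [Function.mem_support] at hξ
    refine ⟨fun h => hξ (by rw [h, zero_mul]), ?_⟩
    by_contra hne
    exact hξ (by rw [hF ξ hne, mul_zero])
  have hsec0 : ∀ (u : (ξ : X') → Cyc.secFibre ((Scheme.Modules.pullback f).obj L) ξ) (x ξ : X'),
      ¬ ξ ⤳ x → Cyc.secDivFun δ' ((Scheme.Modules.pullback f).obj L) ξ (u ξ) x = 0 := by
    intro u x ξ hne
    unfold Cyc.secDivFun
    rw [dif_neg (fun h => hne h.1)]
  -- the function upstairs computed with the pulled back sections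
  let γ₀ : X' → ℤ := Cyc.c1CapFun δ' ((Scheme.Modules.pullback f).obj L) ⇑α'
    (fun ξ' => pullSec f ξ' L (Cyc.gysinChoice L s w (f ξ')))
  have hsub : ∀ z, γ' z - γ₀ (pullback.fst f i z) =
      ∑ᶠ ξ', α' ξ' * Cyc.divFun δ' ξ' (rr ξ') (pullback.fst f i z) := by
    intro z
    rw [hγ' z]
    show Cyc.c1CapFun _ _ _ _ _ - Cyc.c1CapFun _ _ _ _ _ = _
    unfold Cyc.c1CapFun
    rw [← finsum_sub_distrib (hsupp _ _ (hsec0 _ _)) (hsupp _ _ (hsec0 _ _))]
    apply finsum_congr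
    intro ξ'
    rw [hdiff ξ' (pullback.fst f i z)]
    ring
  -- the family on `D'`
  obtain ⟨Dc, hDc, -, hDr⟩ := exists_cycle_restrict_family (pullback.fst f i) δ' hX'.2.2 k
    (J := {ξ' : X' // α' ξ' ≠ 0 ∧ ξ' ∈ Set.range (pullback.fst f i)})
    (fun j => j.1) (fun j => rr j.1 ^ (α' j.1))
    (fun j => hα'k j.1 j.2.1) (fun j => zpow_ne_zero _ (hrr j.1))
    (by
      intro x
      obtain ⟨V, hV, hfin⟩ := α'.supportLocallyFiniteWithinDomain' x trivial
      refine ⟨interior V, isOpen_interior, mem_interior_iff_mem_nhds.2 hV, ?_⟩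
      apply (hfin.preimage Subtype.val_injective.injOn).subset
      rintro j ⟨y, hy1, hy2⟩
      have hjy : j.1 ⤳ y := specializes_iff_mem_closure.2 hy1
      exact ⟨interior_subset (hjy.mem_open isOpen_interior hy2), j.2.1⟩)
    (fun j => j.2.2)
  have hE : ∀ z, γ' z - γ₀ (pullback.fst f i z) = Dc z := by
    intro z
    rw [hsub z, hDc z]
    have h3 : ∀ j : {ξ' : X' // α' ξ' ≠ 0 ∧ ξ' ∈ Set.range (pullback.fst f i)},
        Cyc.divFun δ' j.1 (rr j.1 ^ (α' j.1)) (pullback.fst f i z) =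
        (fun ξ' => α' ξ' * Cyc.divFun δ' ξ' (rr ξ') (pullback.fst f i z)) j.1 := fun j =>
      divFun_zpow δ' j.1 (rr j.1) (hrr j.1) (α' j.1) (pullback.fst f i z)
    rw [finsum_congr h3, finsum_subtype_eq_finsum_cond
      (fun ξ' => α' ξ' ≠ 0 ∧ ξ' ∈ Set.range (pullback.fst f i))
      (f := fun ξ' => α' ξ' * Cyc.divFun δ' ξ' (rr ξ') (pullback.fst f i z))]
    apply finsum_congr
    intro ξ'
    by_cases hξ : α' ξ' ≠ 0 ∧ ξ' ∈ Set.range (pullback.fst f i)
    · simp [hξ]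
    · rw [finsum_eq_if, if_neg hξ]
      by_cases h0 : α' ξ' = 0
      · rw [h0, zero_mul]
      · rw [hdiv0 ξ' z (fun hmem => hξ ⟨h0, hmem⟩), mul_zero]
  -- the cycle `γ₁ = γ' - Dc` on `D'`
  have hγ₁ : ∀ z, (γ' - Dc) z = γ₀ (pullback.fst f i z) := by
    intro z
    rw [Function.locallyFinsuppWithin.coe_sub, Pi.sub_apply, ← hE z]
    ring
  have h1 : Cyc.RatEquiv (fun z => δ' (pullback.fst f i z)) k γ' (γ' - Dc) := by
    unfold Cyc.RatEquiv
    rw [sub_sub_cancel]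
    exact hDr
  have h2 := ratEquiv_map (fun z => δ' (pullback.fst f i z)) (fun d => δ (i d)) hD's hDs
    (pullback.snd f i) hδg k γ' (γ' - Dc) h1
  have h3 : AlgebraicCycle.map (pullback.snd f i) (fun z => δ' (pullback.fst f i z))
      (fun d => δ (i d)) (γ' - Dc) = γ := by
    ext d
    show ∑ᶠ z ∈ (pullback.snd f i) ⁻¹' {d}, (γ' - Dc) z *
      ((AlgebraicCycle.mapCoeff (pullback.snd f i) (fun z => δ' (pullback.fst f i z))
        (fun d => δ (i d)) z : ℕ) : ℤ) = γ d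
    have hstep : ∀ z ∈ (pullback.snd f i) ⁻¹' {d}, (γ' - Dc) z *
        ((AlgebraicCycle.mapCoeff (pullback.snd f i) (fun z => δ' (pullback.fst f i z))
          (fun d => δ (i d)) z : ℕ) : ℤ) =
        (fun x' => γ₀ x' * ((AlgebraicCycle.mapCoeff f δ' δ x' : ℕ) : ℤ))
          (pullback.fst f i z) := by
      intro z _
      rw [hγ₁ z, mapCoeff_square (pullback.fst f i) i (pullback.snd f i) f hfac δ' δ z]
    rw [finsum_mem_congr rfl hstep, hγ d]
    refine (finsum_mem_preimage_pullback f i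
      (fun x' => γ₀ x' * ((AlgebraicCycle.mapCoeff f δ' δ x' : ℕ) : ℤ)) d).symm.trans ?_
    exact push_c1CapFun_pullSec δ' δ hX' hX f hδ L hLc
      (Cyc.gysinChoice ((Scheme.Modules.pullback f).obj L) s' w') hu' α'
      (Cyc.gysinChoice L s w) hu (i d)
  rw [h3] at h2
  exact ratEquiv_symm _ _ _ _ h2

end pullbackSquare

end Groth.Agent.Lib.helper2.PushPt
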