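import Mathlib
import Groth.Agent.Lib.Helper2.PushPt6
import Groth.Agent.Lib.Helper16.CIPull2
import Groth.Agent.Lib.Helper16.SpFun7

/-!
# The zero scheme of a pulled back section (helper2)

`isZeroSchemeOf_unitSec`: if `i : D ⟶ X` is the zero scheme of a global section `s` of an invertible
module `L` and `f : X' ⟶ X` is any morphism, then `pullback.fst f i` is the zero scheme of the pulled
back section of `f^* L`.
-/

set_option autoImplicit false
set_option linter.unusedSectionVars false

namespace Groth.Agent.Lib.helper2.PPush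

universe u

open CategoryTheory CategoryTheory.Limits AlgebraicGeometry TopologicalSpace Function Opposite
open Groth.Agent.Lib.helper16.CycClosed Groth.Agent.Lib.helper16.SecOrd
  Groth.Agent.Lib.helper16.PullStalk Groth.Agent.Lib.helper16.CIPull

theorem exists_secFibre_ne_zero {X : Scheme.{u}} (L : X.Modules) (hL : PicF.IsInvertible L)
    (x : X) : ∃ e : Cyc.secFibre L x, e ≠ 0 := by
  obtain ⟨φ⟩ := Groth.Agent.Lib.helper16.SpFun.nonempty_stalk_linearEquiv L hL x
  refine ⟨Submodule.Quotient.mk (φ.symm 1), ?_⟩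
  intro h0
  rw [Submodule.Quotient.mk_eq_zero] at h0
  have key : ∀ m ∈ IsLocalRing.maximalIdeal (X.presheaf.stalk x) •
      (⊤ : Submodule (X.presheaf.stalk x) (L.presheaf.stalk x)),
      φ m ∈ IsLocalRing.maximalIdeal (X.presheaf.stalk x) := by
    intro m hm
    refine Submodule.smul_induction_on hm ?_ ?_
    · intro r hr n _
      rw [map_smul, smul_eq_mul]
      exact Ideal.mul_mem_right _ _ hr
    · intro a b ha hb
      rw [map_add]
      exact add_mem ha hb
  have h1 := key _ h0
  rw [LinearEquiv.apply_symm_apply] at h1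
  exact (Ideal.ne_top_iff_one _).1 (IsLocalRing.maximalIdeal.isMaximal _).ne_top h1

theorem exists_nowhere_zero {X : Scheme.{u}} (L : X.Modules) (hL : PicF.IsInvertible L) :
    ∃ w : (ξ : X) → Cyc.secFibre L ξ, ∀ ξ, w ξ ≠ 0 := by
  choose w hw using exists_secFibre_ne_zero L hL
  exact ⟨w, hw⟩

variable {X' X D : Scheme.{u}} (f : X' ⟶ X) (i : D ⟶ X)

/-- the pulled back global section -/
noncomputable def pullGlobal (L : X.Modules) (s : L.presheaf.obj (op ⊤)) :
    ((Scheme.Modules.pullback f).obj L).presheaf.obj (op ⊤) :=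
  unitSec f L ⊤ s

theorem germ_pullGlobal (L : X.Modules) (s : L.presheaf.obj (op ⊤)) (x' : X') :
    (((Scheme.Modules.pullback f).obj L).presheaf.germ ⊤ x' trivial) (pullGlobal f L s) =
      pullStalk f x' L ((L.presheaf.germ ⊤ (f x') trivial) s) :=
  (pullStalk_germ f x' L ⊤ trivial s).symm

theorem isInvertible_pullback (L : X.Modules) (hL : PicF.IsInvertible L) :
    PicF.IsInvertible ((Scheme.Modules.pullback f).obj L) :=
  (Groth.Agent.Lib.helper16.FLF.isInvertible_iff_isFinLocFreeOfRank_one _).2
    (Groth.Agent.Lib.helper16.FLF.isFinLocFreeOfRank_pullback f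
      ((Groth.Agent.Lib.helper16.FLF.isInvertible_iff_isFinLocFreeOfRank_one L).1 hL))

theorem mk_germ_pullGlobal_eq_zero_iff (L : X.Modules) (hL : PicF.IsInvertible L)
    (s : L.presheaf.obj (op ⊤)) (x' : X') :
    (Submodule.Quotient.mk ((((Scheme.Modules.pullback f).obj L).presheaf.germ ⊤ x' trivial)
      (pullGlobal f L s)) : Cyc.secFibre ((Scheme.Modules.pullback f).obj L) x') = 0 ↔
    (Submodule.Quotient.mk ((L.presheaf.germ ⊤ (f x') trivial) s) :
      Cyc.secFibre L (f x')) = 0 := by
  rw [germ_pullGlobal, ← pullSec_mk]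
  constructor
  · intro h
    by_contra hne
    obtain ⟨t, ht⟩ := (isLocCyc_of_isInvertible L hL).cyc (f x')
    obtain ⟨e, he⟩ := exists_secFibre_ne_zero _ (isInvertible_pullback f L hL) x'
    exact pullSec_ne_zero f x' L t ht e he _ hne h
  · intro h
    rw [h]
    have h2 := pullSec_mk f x' L 0
    rw [pullStalk_zero] at h2
    exact h2

theorem isZeroSchemeOf_pullGlobal [IsClosedImmersion i] (L : X.Modules)
    (hL : PicF.IsInvertible L) (s : L.presheaf.obj (op ⊤)) (hD : Cyc.IsZeroSchemeOf i L s) :
    Cyc.IsZeroSchemeOf (pullback.fst f i) ((Scheme.Modules.pullback f).obj L)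
      (pullGlobal f L s) := by
  have hLc := isLocCyc_of_isInvertible L hL
  refine ⟨?_, ?_⟩
  · rw [Scheme.Pullback.range_fst, hD.1]
    ext x'
    simp only [Set.mem_preimage, Set.mem_setOf_eq]
    exact (mk_germ_pullGlobal_eq_zero_iff f L hL s x').symm
  · intro z
    obtain ⟨t, φ, ht, hφ, hk⟩ := hD.2 (pullback.snd f i z)
    have h : f (pullback.fst f i z) ⤳ i (pullback.snd f i z) :=
      specializes_of_eq (apply_fst_eq_apply_snd f i z)
    refine ⟨pullStalk f (pullback.fst f i z) L (L.presheaf.stalkSpecializes h t),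
      baseMap f i z φ, ?_, ?_, ?_⟩
    · exact span_pullStalk_of_span f _ L _ (hLc.spec _ _ h t ht)
    · rw [germ_pullGlobal]
      have e1 : (L.presheaf.germ ⊤ (f (pullback.fst f i z)) trivial) s =
          L.presheaf.stalkSpecializes h ((L.presheaf.germ ⊤ (i (pullback.snd f i z)) trivial) s) :=
        (ConcreteCategory.congr_hom (TopCat.Presheaf.germ_stalkSpecializes L.presheaf
          (U := ⊤) trivial h) s).symm
      rw [e1, hφ, stalkSpecializes_smul, pullStalk_smul]
      rfl
    · rw [ker_stalkMap_fst, hk, Ideal.map_span, Set.image_singleton]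

end Groth.Agent.Lib.helper2.PPush
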