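import Mathlib
import Groth.Agent.Lib.Helper2.PushPt6
import Groth.Agent.Lib.Helper16.CycOpen3

/-!
# `c₁(L) ∩ α` is a cycle (helper2)

`exists_cycle_c1CapFun`: for `L` invertible, `α` a cycle and nowhere vanishing rational sections,
`Cyc.c1CapFun δ L α s` has locally finite support.
-/

set_option autoImplicit false
set_option linter.unusedSectionVars false

namespace Groth.Agent.Lib.helper2.PPush

universe u

open CategoryTheory CategoryTheory.Limits AlgebraicGeometry TopologicalSpace Function Opposite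
open Groth.Agent.Lib.helper16.CycClosed Groth.Agent.Lib.helper16.SecOrd
  Groth.Agent.Lib.helper16.CycOpen

variable {X : Scheme.{u}}

theorem secDivFun_ne_zero_specializes (δ : X → ℤ) (L : X.Modules) (ξ : X)
    (s : Cyc.secFibre L ξ) (x : X) (h : Cyc.secDivFun δ L ξ s x ≠ 0) :
    ξ ⤳ x ∧ δ x + 1 = δ ξ := by
  unfold Cyc.secDivFun at h
  split_ifs at h with h'
  · exact h'
  · exact absurd rfl h

theorem finite_secDivFun_ne_zero [IsLocallyNoetherian X] (δ : X → ℤ) (hδ : Cyc.IsDimFun X δ)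
    (L : X.Modules) {W₁ W : X.Opens} (hW : IsAffineOpen W) (hWW : W ≤ W₁) (tW : Γ(L, W₁))
    (htW : ∀ (x : X) (hx : x ∈ W₁),
      Submodule.span (X.presheaf.stalk x) {(L.presheaf.germ W₁ x hx).hom tW} = ⊤)
    (ξ : X) (s : Cyc.secFibre L ξ) (hs : s ≠ 0) :
    {x : X | x ∈ W ∧ Cyc.secDivFun δ L ξ s x ≠ 0}.Finite := by
  by_cases hξ : ξ ∈ W
  · have hξ₁ : ξ ∈ W₁ := hWW hξ
    obtain ⟨ψ, hψ⟩ := exists_smul_mk_eq L ξ _ (htW ξ hξ₁) s
    have hr : X.residue ξ ψ ≠ 0 := residue_ne_zero_of_smul_ne_zero L ξ (hψ ▸ hs)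
    refine (finite_divFun_ne_zero δ hδ hW ξ (X.residue ξ ψ) hr).subset ?_
    rintro x ⟨hxW, hx⟩
    refine ⟨hxW, ?_⟩
    obtain ⟨hsp, hd⟩ := secDivFun_ne_zero_specializes δ L ξ s x hx
    have hx₁ : x ∈ W₁ := hWW hxW
    have e2 : L.presheaf.stalkSpecializes hsp ((L.presheaf.germ W₁ x hx₁).hom tW) =
        (L.presheaf.germ W₁ ξ hξ₁).hom tW :=
      ConcreteCategory.congr_hom (TopCat.Presheaf.germ_stalkSpecializes L.presheaf hx₁ hsp) tW
    have e3 : Cyc.secDivFun δ L ξ s x = Cyc.divFun δ ξ (X.residue ξ ψ) x := by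
      unfold Cyc.secDivFun Cyc.divFun
      rw [dif_pos ⟨hsp, hd⟩, dif_pos ⟨hsp, hd⟩]
      exact secOrdAt_eq L x ξ hsp s hs _ (htW x hx₁) ψ (by rw [e2]; exact hψ)
    rw [← e3]
    exact hx
  · convert Set.finite_empty
    ext x
    simp only [Set.mem_setOf_eq, Set.mem_empty_iff_false, iff_false, not_and, not_not]
    intro hxW
    by_contra hne
    exact hξ ((secDivFun_ne_zero_specializes δ L ξ s x hne).1.mem_open W.isOpen hxW)

theorem exists_cycle_c1CapFun [IsLocallyNoetherian X] (δ : X → ℤ) (hδ : Cyc.IsDimFun X δ)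
    (L : X.Modules) (hL : PicF.IsInvertible L) (α : AlgebraicCycle X ℤ)
    (s : (ξ : X) → Cyc.secFibre L ξ) (hs : ∀ ξ, s ξ ≠ 0) :
    ∃ γ : AlgebraicCycle X ℤ, ⇑γ = Cyc.c1CapFun δ L ⇑α s := by
  let F : X → ℤ := Cyc.c1CapFun δ L ⇑α s
  have hFne : ∀ x, F x ≠ 0 → ∃ ξ, α ξ ≠ 0 ∧ Cyc.secDivFun δ L ξ (s ξ) x ≠ 0 := by
    intro x hx
    by_contra hne
    push Not at hne
    apply hx
    show ∑ᶠ ξ : X, α ξ * Cyc.secDivFun δ L ξ (s ξ) x = 0
    refine finsum_eq_zero_of_forall_eq_zero fun ξ => ?_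
    by_cases h : α ξ = 0
    · rw [h, zero_mul]
    · rw [hne ξ h, mul_zero]
  have hlf : ∀ z ∈ (Set.univ : Set X), ∃ t ∈ nhds z, Set.Finite (t ∩ Function.support F) := by
    intro z _
    obtain ⟨W₁, -, hzW₁, tW, htW⟩ := exists_affine_generator L hL z
    obtain ⟨T, hT, hfin⟩ := α.supportLocallyFiniteWithinDomain' z trivial
    obtain ⟨T', hT'T, hT'o, hzT'⟩ := mem_nhds_iff.1 hT
    obtain ⟨_, ⟨W, hW : IsAffineOpen W, rfl⟩, hzW, hWU⟩ :=
      X.isBasis_affineOpens.exists_subset_of_mem_open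
        (show z ∈ (W₁ : Set X) ∩ T' from ⟨hzW₁, hzT'⟩) (W₁.isOpen.inter hT'o)
    have hWW : W ≤ W₁ := fun x hx => (hWU hx).1
    refine ⟨W, W.isOpen.mem_nhds hzW, ?_⟩
    refine (Set.Finite.biUnion hfin
      (fun ξ _ => finite_secDivFun_ne_zero δ hδ L hW hWW tW htW ξ (s ξ) (hs ξ))).subset ?_
    rintro x ⟨hxW, hx⟩
    obtain ⟨ξ, hαξ, hξ⟩ := hFne x hx
    have hξW : ξ ∈ W :=
      (secDivFun_ne_zero_specializes δ L ξ (s ξ) x hξ).1.mem_open W.isOpen hxW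
    exact Set.mem_biUnion (show ξ ∈ T ∩ Function.support ⇑α from ⟨hT'T (hWU hξW).2, hαξ⟩)
      ⟨hxW, hξ⟩
  exact ⟨⟨F, Set.subset_univ _, hlf⟩, rfl⟩

end Groth.Agent.Lib.helper2.PPush
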