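import Groth.Agent.Lib.Helper2.Diag10
import Groth.Agent.Lib.Helper2.AUS1
import Groth.Agent.Lib.Helper26.ProjDimRegular
import Mathlib.AlgebraicGeometry.Morphisms.Smooth
import Mathlib.AlgebraicGeometry.Morphisms.FiniteType
import Mathlib.AlgebraicGeometry.Noetherian

/-!
# helper2: Serre's vanishing and regularity at the local rings of a scheme smooth over a field;
Tor vanishing above the dimension over a regular local ring
-/

universe u

open CategoryTheory CategoryTheory.Limits AlgebraicGeometry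

namespace Groth.Agent.Lib.helper2.Diag

set_option backward.isDefEq.respectTransparency false in
theorem stalk_package {K : Type u} [Field K] {X : Scheme.{u}} (f : X ⟶ Spec (CommRingCat.of K))
    [Smooth f] (ξ : X) :
    IsRegularLocalRing (X.presheaf.stalk ξ) ∧
    ∀ (p q : Ideal (X.presheaf.stalk ξ)), p ≠ ⊤ → q ≠ ⊤ →
      ringKrullDim (X.presheaf.stalk ξ ⧸ (p ⊔ q)) = 0 →
      ringKrullDim (X.presheaf.stalk ξ ⧸ p) + ringKrullDim (X.presheaf.stalk ξ ⧸ q) <
        ringKrullDim (X.presheaf.stalk ξ) →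
      IntMult.chi (X.presheaf.stalk ξ) (X.presheaf.stalk ξ ⧸ q) (X.presheaf.stalk ξ ⧸ p) = 0 := by
  have hess := LocallyOfFiniteType.stalkMap f ξ
  haveI : IsLocallyNoetherian X := LocallyOfFiniteType.isLocallyNoetherian f
  have hx : ξ ∈ f.smoothLocus := by rw [Scheme.Hom.smoothLocus_eq_top]; trivial
  rw [Scheme.Hom.mem_smoothLocus] at hx
  algebraize [(f.stalkMap ξ).hom]
  let K' := (Spec.structureSheaf K).presheaf.stalk (f ξ)
  let e : K ≃ₐ[K] K' := IsLocalization.atUnits _ (f ξ).asIdeal.primeCompl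
      (fun y hy ↦ by aesop (add simp IsUnit.mem_submonoid_iff))
  let : Field K' := (e.toRingEquiv.symm.isField (Field.toIsField K)).toField
  let : Field ((Spec (.of K)).presheaf.stalk (f ξ)) := this
  letI : Algebra K' (X.presheaf.stalk ξ) := (f.stalkMap ξ).hom.toAlgebra
  haveI : Algebra.FormallySmooth ((Spec (.of K)).presheaf.stalk (f ξ)) (X.presheaf.stalk ξ) := hx
  haveI : Algebra.EssFiniteType ((Spec (.of K)).presheaf.stalk (f ξ)) (X.presheaf.stalk ξ) := hess
  exact ⟨isRegularLocalRing_self ((Spec (.of K)).presheaf.stalk (f ξ)) (X.presheaf.stalk ξ),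
    fun p q hp hq h0 hlt =>
      serre_vanish ((Spec (.of K)).presheaf.stalk (f ξ)) (X.presheaf.stalk ξ) p q hp hq h0 hlt⟩

open Groth.Agent.Lib.helper7.TorAPI in
/-- Over a regular local ring of dimension `d`, `Tor_i(M, -) = 0` for `i > d` and `M` finite. -/
theorem isZero_T_of_regular (A : Type u) [CommRing A] [IsRegularLocalRing A] (d : ℕ)
    (hd : ringKrullDim A = (d : WithBot ℕ∞))
    (M : Type u) [AddCommGroup M] [Module A M] [Module.Finite A M] (i : ℕ) (hi : d + 1 ≤ i)
    (N' : ModuleCat.{u} A) : IsZero ((T i (ModuleCat.of A M)).obj N') := by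
  have h1 := IsRegularLocalRing.spanFinrank_maximalIdeal (R := A)
  have hsf : (IsLocalRing.maximalIdeal A).spanFinrank = d := by
    rw [hd] at h1
    exact_mod_cast h1
  have hpd := Groth.Agent.Lib.helper26.PDReg.hasProjectiveDimensionLE_of_isRegularLocalRing
    d A hsf M
  have hz := Groth.Agent.Lib.helper2.Aus.isZero_T_of_hasProjectiveDimensionLT N' d
    (ModuleCat.of A M) hpd i (by omega)
  obtain ⟨e⟩ := Groth.Agent.Lib.helper2.IM.nonempty_tor_symm (ModuleCat.of A M) N' i
  exact hz.of_iso e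

end Groth.Agent.Lib.helper2.Diag
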