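import Groth.Agent.Lib.Helper2.Dev5
import Groth.Agent.Lib.Helper2.DevSch2
import Groth.Agent.Lib.Helper2.DevSch3
import Groth.Agent.Lib.Helper16.StalkLoc

/-!
# helper2: the intersection product of the cycles of two coherent modules on a smooth variety is
the Tor Euler characteristic of the stalks
-/

set_option autoImplicit false
universe u
open CategoryTheory CategoryTheory.Limits AlgebraicGeometry TopologicalSpace Opposite IsLocalRing

namespace Groth.Agent.Lib.helper2.DevSch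

open Groth.Agent.Lib.helper16.OrdGen Groth.Agent.Lib.helper16.GenFib
  Groth.Agent.Lib.helper16.DivSum Groth.Agent.Lib.helper16.StalkLoc
  Groth.Agent.Lib.helper16.CohStalk
  Groth.Agent.Lib.helper26.HS Groth.Agent.Lib.helper2.Dev Groth.Agent.Lib.helper2.Aus

variable {X : Scheme.{u}}

theorem chi_quot_congr {A : Type u} [CommRing A] {I I' J J' : Ideal A} (hI : I = I')
    (hJ : J = J') : IntMult.chi A (A ⧸ I) (A ⧸ J) = IntMult.chi A (A ⧸ I') (A ⧸ J') := by
  subst hI hJ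
  rfl

theorem mult_ptIdeal {ξ η ζ : X} (hξ : ξ ⤳ ζ) (hη : η ⤳ ζ) :
    IntMult.mult (IntMult.ptIdeal ξ) (IntMult.ptIdeal η) ζ =
      IntMult.chi (X.presheaf.stalk ζ) (X.presheaf.stalk ζ ⧸ pOf hη)
        (X.presheaf.stalk ζ ⧸ pOf hξ) := by
  unfold IntMult.mult
  exact chi_quot_congr (stalkIdeal_ptIdeal hη) (stalkIdeal_ptIdeal hξ)

theorem sheafFun_eq_wt [IsLocallyNoetherian X] (δ : X → ℤ) (r : ℤ) (F : X.Modules)
    [F.IsQuasicoherent] {ξ ζ : X} (h : ξ ⤳ ζ) (a : ℕ)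
    (hequiv : δ ξ = r ↔ ringKrullDim (X.presheaf.stalk ζ ⧸ pOf h) = (a : WithBot ℕ∞)) :
    Cyc.sheafFun δ r F ξ = wt a (F.presheaf.stalk ζ)
      (⟨pOf h, inferInstance⟩ : PrimeSpectrum (X.presheaf.stalk ζ)) := by
  unfold Cyc.sheafFun wt
  by_cases hc : δ ξ = r
  · rw [if_pos hc, if_pos (hequiv.1 hc), length_stalk_eq_locLen F h]
    rfl
  · rw [if_neg hc, if_neg (fun h' => hc (hequiv.2 h'))]

theorem sheafFun_eq_zero_of_subsingleton (δ : X → ℤ) (r : ℤ) (F : X.Modules)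
    [F.IsQuasicoherent] {ξ ζ : X} (h : ξ ⤳ ζ) [Subsingleton (F.presheaf.stalk ζ)] :
    Cyc.sheafFun δ r F ξ = 0 := by
  unfold Cyc.sheafFun
  split_ifs
  · rw [length_stalk_eq_locLen F h,
      Groth.Agent.Lib.helper22.length_localized_of_subsingleton]
    rfl
  · rfl


/-- the prime of `O_{X,ζ}` attached to a generization. -/
noncomputable abbrev pr {ξ ζ : X} (h : ξ ⤳ ζ) : PrimeSpectrum (X.presheaf.stalk ζ) :=
  ⟨pOf h, inferInstance⟩

theorem gen_pr {ξ ζ : X} (h : ξ ⤳ ζ) : X.fromSpecStalk ζ (pr h) = ξ := fromSpecStalk_pOf h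

theorem pr_gen (ζ : X) (P : PrimeSpectrum (X.presheaf.stalk ζ)) :
    pr (specializes_fromSpecStalk ζ P) = P :=
  PrimeSpectrum.ext (pOf_fromSpecStalk ζ P _)

theorem nontrivial_stalk_of_mem_support (F : X.Modules) [F.IsQuasicoherent] (ζ : X)
    (P : PrimeSpectrum (X.presheaf.stalk ζ))
    (hP : P ∈ Module.support (X.presheaf.stalk ζ) (F.presheaf.stalk ζ)) :
    Nontrivial (F.presheaf.stalk (X.fromSpecStalk ζ P)) := by
  rw [nontrivial_stalk_iff_mem_support F (specializes_fromSpecStalk ζ P)]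
  have := pr_gen ζ P
  unfold pr at this
  rw [this]
  exact hP

theorem dim_stalk_eq [IsIntegral X] (δ : X → ℤ) (hδ : Cyc.IsDimFun X δ) (ζ : X) :
    ∃ d : ℕ, δ (genericPoint X) = δ ζ + d ∧
      ringKrullDim (X.presheaf.stalk ζ) = (d : WithBot ℕ∞) := by
  have h : genericPoint X ⤳ ζ := genericPoint_specializes ζ
  obtain ⟨d, hd1, hd2⟩ := delta_eq_add_dim δ hδ h
  refine ⟨d, hd1, ?_⟩
  have hbot : pOf h = ⊥ := Groth.Agent.Lib.helper16.SecOrd.ker_specMap_genericPoint ζ h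
  rw [← hd2, hbot]
  exact (ringKrullDim_eq_of_ringEquiv (RingEquiv.quotientBot _)).symm


set_option maxHeartbeats 1600000 in
/-- the main formula at a point `ζ` with `δ ζ = r + s - n`. -/
theorem interProd_sheafFun_eq (K : Type u) [Field K] (f : X ⟶ Spec (CommRingCat.of K)) [Smooth f]
    [IsIntegral X] (δ : X → ℤ) (hX : Cyc.IsSetup X δ) (n : ℤ) (hn : δ (genericPoint X) = n)
    (F G : X.Modules) (hF : Coh.IsCoh F) (hG : Coh.IsCoh G) (r s : ℤ)
    (hr : ∀ x : X, Nontrivial (F.presheaf.stalk x) → δ x ≤ r)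
    (hs : ∀ x : X, Nontrivial (G.presheaf.stalk x) → δ x ≤ s)
    (hrs : ∀ x : X, Nontrivial (F.presheaf.stalk x) → Nontrivial (G.presheaf.stalk x) →
      δ x ≤ r + s - n)
    (ζ : X) (hζ : δ ζ = r + s - n) :
    IntMult.interProd δ n (Cyc.sheafFun δ r F) (Cyc.sheafFun δ s G) ζ =
      IntMult.chi (X.presheaf.stalk ζ) (F.presheaf.stalk ζ) (G.presheaf.stalk ζ) := by
  obtain ⟨hLN, -, hδ⟩ := hX
  haveI := hLN
  haveI : F.IsQuasicoherent := hF.1
  haveI : G.IsQuasicoherent := hG.1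
  haveI : Module.Finite (X.presheaf.stalk ζ) (F.presheaf.stalk ζ) := finite_stalk_of_isCoh F hF ζ
  haveI : Module.Finite (X.presheaf.stalk ζ) (G.presheaf.stalk ζ) := finite_stalk_of_isCoh G hG ζ
  unfold IntMult.interProd
  -- degenerate cases
  by_cases hMs : Subsingleton (F.presheaf.stalk ζ)
  · rw [chi_of_subsingleton_left]
    refine (finsum_congr (fun p => ?_)).trans finsum_zero
    rw [sheafFun_eq_zero_of_subsingleton δ r F p.2.1, zero_mul, zero_mul]
  by_cases hNs : Subsingleton (G.presheaf.stalk ζ)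
  · rw [chi_of_subsingleton_right]
    refine (finsum_congr (fun p => ?_)).trans finsum_zero
    rw [sheafFun_eq_zero_of_subsingleton δ s G p.2.2.1, mul_zero, zero_mul]
  rw [not_subsingleton_iff_nontrivial] at hMs hNs
  have hζr := hr ζ hMs
  have hζs := hs ζ hNs
  obtain ⟨d, hd1, hd2⟩ := dim_stalk_eq δ hδ ζ
  rw [hn] at hd1
  obtain ⟨a, ha⟩ : ∃ a : ℕ, r = δ ζ + a := ⟨(r - δ ζ).toNat, by omega⟩
  obtain ⟨b, hb⟩ : ∃ b : ℕ, s = δ ζ + b := ⟨(s - δ ζ).toNat, by omega⟩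
  have hab : a + b = d := by omega
  -- the dictionary
  have hequivF : ∀ {ξ : X} (h : ξ ⤳ ζ),
      δ ξ = r ↔ ringKrullDim (X.presheaf.stalk ζ ⧸ pOf h) = (a : WithBot ℕ∞) := by
    intro ξ h
    obtain ⟨k, hk1, hk2⟩ := delta_eq_add_dim δ hδ h
    rw [hk2]
    constructor
    · intro h1
      have : k = a := by omega
      rw [this]
    · intro h1
      have : k = a := by exact_mod_cast h1
      omega
  have hequivG : ∀ {ξ : X} (h : ξ ⤳ ζ),
      δ ξ = s ↔ ringKrullDim (X.presheaf.stalk ζ ⧸ pOf h) = (b : WithBot ℕ∞) := by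
    intro ξ h
    obtain ⟨k, hk1, hk2⟩ := delta_eq_add_dim δ hδ h
    rw [hk2]
    constructor
    · intro h1
      have : k = b := by omega
      rw [this]
    · intro h1
      have : k = b := by exact_mod_cast h1
      omega
  -- support dimension
  have hMdim : Module.supportDim (X.presheaf.stalk ζ) (F.presheaf.stalk ζ) ≤ (a : WithBot ℕ∞) := by
    refine supportDim_le_of_forall _ a (fun P hP => ?_)
    have hnt := nontrivial_stalk_of_mem_support F ζ P hP
    have h1 := hr _ hnt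
    obtain ⟨k, hk1, hk2⟩ := delta_eq_add_dim δ hδ (specializes_fromSpecStalk ζ P)
    rw [pOf_fromSpecStalk ζ P] at hk2
    rw [hk2]
    have : k ≤ a := by omega
    exact_mod_cast this
  have hNdim : Module.supportDim (X.presheaf.stalk ζ) (G.presheaf.stalk ζ) ≤ (b : WithBot ℕ∞) := by
    refine supportDim_le_of_forall _ b (fun P hP => ?_)
    have hnt := nontrivial_stalk_of_mem_support G ζ P hP
    have h1 := hs _ hnt
    obtain ⟨k, hk1, hk2⟩ := delta_eq_add_dim δ hδ (specializes_fromSpecStalk ζ P)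
    rw [pOf_fromSpecStalk ζ P] at hk2
    rw [hk2]
    have : k ≤ b := by omega
    exact_mod_cast this
  -- support condition
  have hS : SuppCond (X.presheaf.stalk ζ) (F.presheaf.stalk ζ) (G.presheaf.stalk ζ) := by
    intro Q hQ
    have hQM : Q ∈ Module.support (X.presheaf.stalk ζ) (F.presheaf.stalk ζ) :=
      Module.mem_support_iff_of_finite.2 (le_sup_left.trans hQ)
    have hQN : Q ∈ Module.support (X.presheaf.stalk ζ) (G.presheaf.stalk ζ) :=
      Module.mem_support_iff_of_finite.2 (le_sup_right.trans hQ)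
    have h1 := hrs _ (nontrivial_stalk_of_mem_support F ζ Q hQM)
      (nontrivial_stalk_of_mem_support G ζ Q hQN)
    have hsp := specializes_fromSpecStalk ζ Q
    have heq : X.fromSpecStalk ζ Q = ζ := by
      by_contra hne
      have := (hδ _ _ hsp hne).1
      omega
    have := (pOf_eq_maximalIdeal_iff hsp).2 heq
    rw [pOf_fromSpecStalk ζ Q] at this
    rw [this]
    exact IsLocalRing.maximalIdeal.isMaximal _
  obtain ⟨hreg, hserre⟩ := Groth.Agent.Lib.helper2.Diag.stalk_package f ζ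
  haveI := hreg
  have hD : ∀ (M' : Type u) [AddCommGroup M'] [Module (X.presheaf.stalk ζ) M']
      [Module.Finite (X.presheaf.stalk ζ) M'], ∀ i, d + 1 ≤ i →
      ∀ N' : ModuleCat.{u} (X.presheaf.stalk ζ), IsZero
        ((Groth.Agent.Lib.helper7.TorAPI.T i (ModuleCat.of (X.presheaf.stalk ζ) M')).obj N') :=
    fun M' _ _ _ i hi N' => Groth.Agent.Lib.helper2.Diag.isZero_T_of_regular _ d hd2 M' i hi N'
  have hvan : ∀ P Q : PrimeSpectrum (X.presheaf.stalk ζ),
      ringKrullDim (X.presheaf.stalk ζ ⧸ P.asIdeal) ≤ a →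
      ringKrullDim (X.presheaf.stalk ζ ⧸ Q.asIdeal) ≤ b →
      (ringKrullDim (X.presheaf.stalk ζ ⧸ P.asIdeal) ≠ a ∨
        ringKrullDim (X.presheaf.stalk ζ ⧸ Q.asIdeal) ≠ b) →
      SuppCond (X.presheaf.stalk ζ) (X.presheaf.stalk ζ ⧸ P.asIdeal)
        (X.presheaf.stalk ζ ⧸ Q.asIdeal) →
      IntMult.chi (X.presheaf.stalk ζ) (X.presheaf.stalk ζ ⧸ Q.asIdeal)
        (X.presheaf.stalk ζ ⧸ P.asIdeal) = 0 := by
    intro P Q hPa hQb hne hSPQ
    refine hserre P.asIdeal Q.asIdeal P.2.ne_top Q.2.ne_top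
      (ringKrullDim_quot_sup_eq_zero_of_suppCond _ _ P.2.ne_top Q.2.ne_top hSPQ) ?_
    obtain ⟨kP, hkP1, hkP2⟩ := delta_eq_add_dim δ hδ (specializes_fromSpecStalk ζ P)
    obtain ⟨kQ, hkQ1, hkQ2⟩ := delta_eq_add_dim δ hδ (specializes_fromSpecStalk ζ Q)
    rw [pOf_fromSpecStalk ζ P] at hkP2
    rw [pOf_fromSpecStalk ζ Q] at hkQ2
    rw [hkP2] at hPa hne
    rw [hkQ2] at hQb hne
    rw [hkP2, hkQ2, hd2]
    have h1 : kP ≤ a := by exact_mod_cast hPa
    have h2 : kQ ≤ b := by exact_mod_cast hQb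
    have h3 : kP ≠ a ∨ kQ ≠ b := by
      rcases hne with h | h
      · left
        intro h'
        exact h (by rw [h'])
      · right
        intro h'
        exact h (by rw [h'])
    have h4 : kP + kQ < d := by omega
    exact_mod_cast h4
  rw [chi_eq_double a b (d + 1) hD hvan _ _ hMdim hNdim hS, rhsZ_rhsZ_eq a b _ _ _ hMdim hNdim]
  -- reindexing
  set E : {p : X × X // p.1 ⤳ ζ ∧ p.2 ⤳ ζ ∧ δ p.1 + δ p.2 - n = δ ζ} →
      PrimeSpectrum (X.presheaf.stalk ζ) × PrimeSpectrum (X.presheaf.stalk ζ) :=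
    fun p => (pr p.2.1, pr p.2.2.1) with hE
  have hEinj : Function.Injective E := by
    intro p p' hpp
    have h1 : pr p.2.1 = pr p'.2.1 := congrArg Prod.fst hpp
    have h2 : pr p.2.2.1 = pr p'.2.2.1 := congrArg Prod.snd hpp
    apply Subtype.ext
    apply Prod.ext
    · rw [← gen_pr p.2.1, ← gen_pr p'.2.1, h1]
    · rw [← gen_pr p.2.2.1, ← gen_pr p'.2.2.1, h2]
  set T : PrimeSpectrum (X.presheaf.stalk ζ) × PrimeSpectrum (X.presheaf.stalk ζ) → ℤ :=
    fun x => wt a (F.presheaf.stalk ζ) x.1 * (wt b (G.presheaf.stalk ζ) x.2 *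
      IntMult.chi (X.presheaf.stalk ζ) (X.presheaf.stalk ζ ⧸ x.2.asIdeal)
        (X.presheaf.stalk ζ ⧸ x.1.asIdeal)) with hT
  have hterm : ∀ p : {p : X × X // p.1 ⤳ ζ ∧ p.2 ⤳ ζ ∧ δ p.1 + δ p.2 - n = δ ζ},
      Cyc.sheafFun δ r F p.1.1 * Cyc.sheafFun δ s G p.1.2 *
        IntMult.mult (IntMult.ptIdeal p.1.1) (IntMult.ptIdeal p.1.2) ζ = T (E p) := by
    intro p
    rw [sheafFun_eq_wt δ r F p.2.1 a (hequivF p.2.1), sheafFun_eq_wt δ s G p.2.2.1 b
      (hequivG p.2.2.1), mult_ptIdeal p.2.1 p.2.2.1, mul_assoc]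
  rw [finsum_congr hterm, ← finsum_mem_range (f := T) hEinj, ← finsum_mem_univ (f := T)]
  refine finsum_mem_inter_support_eq' _ _ _ (fun x hx => ?_)
  refine ⟨fun _ => Set.mem_univ _, fun _ => ?_⟩
  rw [Function.mem_support] at hx
  have hx1 : wt a (F.presheaf.stalk ζ) x.1 ≠ 0 := fun h => hx (by
    show wt a (F.presheaf.stalk ζ) x.1 * _ = 0
    rw [h, zero_mul])
  have hx2 : wt b (G.presheaf.stalk ζ) x.2 ≠ 0 := fun h => hx (by
    show _ * (wt b (G.presheaf.stalk ζ) x.2 * _) = 0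
    rw [h, zero_mul, mul_zero])
  have hd1' : ringKrullDim (X.presheaf.stalk ζ ⧸ x.1.asIdeal) = (a : WithBot ℕ∞) := by
    by_contra hc
    apply hx1
    unfold wt
    rw [if_neg hc]
  have hd2' : ringKrullDim (X.presheaf.stalk ζ ⧸ x.2.asIdeal) = (b : WithBot ℕ∞) := by
    by_contra hc
    apply hx2
    unfold wt
    rw [if_neg hc]
  have hsp1 := specializes_fromSpecStalk ζ x.1
  have hsp2 := specializes_fromSpecStalk ζ x.2
  have e1 : δ (X.fromSpecStalk ζ x.1) = r := by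
    rw [hequivF hsp1, pOf_fromSpecStalk ζ x.1]
    exact hd1'
  have e2 : δ (X.fromSpecStalk ζ x.2) = s := by
    rw [hequivG hsp2, pOf_fromSpecStalk ζ x.2]
    exact hd2'
  refine ⟨⟨(X.fromSpecStalk ζ x.1, X.fromSpecStalk ζ x.2), hsp1, hsp2, ?_⟩, ?_⟩
  · show δ (X.fromSpecStalk ζ x.1) + δ (X.fromSpecStalk ζ x.2) - n = δ ζ
    rw [e1, e2]
    omega
  · show (pr hsp1, pr hsp2) = x
    rw [pr_gen, pr_gen]

end Groth.Agent.Lib.helper2.DevSch
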