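import Mathlib
import Groth.Prelude.Def_CycAlg
import Groth.Agent.Lib.Helper8.StalkLenAlg

/-!
# Key lemma, part 1: modules supported on `{r, 𝔪}` (helper2)

`R` Noetherian local, `r` a prime such that the only primes containing `r` are `r` and `𝔪`.
For finite modules killed by a power of `r`: finite length criteria, support dimension bounds.
-/

set_option autoImplicit false
universe u v

namespace Groth.Agent.Lib.helper2.Key

open IsLocalRing CycAlg Pointwise

section basic

variable {R : Type u} [CommRing R] (r : Ideal R)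

/-- every element is killed by an element outside `r` -/
def LocTriv (N : Type v) [AddCommGroup N] [Module R N] : Prop :=
  ∀ z : N, ∃ s : R, s ∉ r ∧ s • z = 0

/-- the module is killed by a power of `r` -/
def KillPow (N : Type v) [AddCommGroup N] [Module R N] : Prop :=
  ∃ k : ℕ, ∀ y ∈ r ^ k, ∀ z : N, y • z = 0

/-- the only primes containing `r` are `r` and the maximal ideal -/
def TwoPrimes [IsLocalRing R] : Prop :=
  ∀ P : Ideal R, P.IsPrime → r ≤ P → P = r ∨ P = maximalIdeal R

variable {r}

theorem KillPow.of_injective {N N' : Type v} [AddCommGroup N] [Module R N] [AddCommGroup N']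
    [Module R N'] (f : N' →ₗ[R] N) (hf : Function.Injective f) (h : KillPow r N) :
    KillPow r N' := by
  obtain ⟨k, hk⟩ := h
  exact ⟨k, fun y hy z => hf (by rw [map_smul, hk y hy, map_zero])⟩

theorem KillPow.of_surjective {N N' : Type v} [AddCommGroup N] [Module R N] [AddCommGroup N']
    [Module R N'] (f : N →ₗ[R] N') (hf : Function.Surjective f) (h : KillPow r N) :
    KillPow r N' := by
  obtain ⟨k, hk⟩ := h
  refine ⟨k, fun y hy z => ?_⟩
  obtain ⟨w, rfl⟩ := hf z
  rw [← map_smul, hk y hy, map_zero]

variable [IsLocalRing R] [r.IsPrime]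

/-- the support of a module killed by a power of `r` is contained in `{r, 𝔪}` -/
theorem mem_support_of_killPow (hV : TwoPrimes r) {N : Type v} [AddCommGroup N] [Module R N]
    (hk : KillPow r N) (Q : PrimeSpectrum R) (hQ : Q ∈ Module.support R N) :
    Q.asIdeal = r ∨ Q.asIdeal = maximalIdeal R := by
  apply hV Q.asIdeal Q.2
  obtain ⟨k, hk⟩ := hk
  intro y hy
  by_contra hyQ
  rw [Module.mem_support_iff'] at hQ
  obtain ⟨z, hz⟩ := hQ
  refine hz (y ^ k) (fun h => hyQ (Q.2.mem_of_pow_mem k h)) (hk _ (Ideal.pow_mem_pow hy k) z)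

theorem length_lt_top_of_locTriv [IsNoetherianRing R] (hV : TwoPrimes r) {N : Type v}
    [AddCommGroup N] [Module R N] [Module.Finite R N] (hk : KillPow r N) (ht : LocTriv r N) :
    Module.length R N < ⊤ := by
  rw [lt_top_iff_ne_top, Module.length_ne_top_iff]
  apply Groth.Agent.Lib.helper8.StalkLen.isFiniteLength_of_support_isMaximal
  intro Q hQ
  rcases mem_support_of_killPow hV hk Q hQ with h | h
  · exfalso
    rw [Module.mem_support_iff'] at hQ
    obtain ⟨z, hz⟩ := hQ
    obtain ⟨s, hs, hsz⟩ := ht z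
    exact hz s (by rwa [h]) hsz
  · rw [h]
    infer_instance

theorem supportDim_le_one (hV : TwoPrimes r) (hrm : r ≠ maximalIdeal R) {N : Type v}
    [AddCommGroup N] [Module R N] (hk : KillPow r N) : Module.supportDim R N ≤ 1 := by
  unfold Module.supportDim
  rw [Order.krullDim_le_one_iff]
  rintro ⟨Q, hQ⟩
  rcases mem_support_of_killPow hV hk Q hQ with h | h
  · left
    rintro ⟨Q', hQ'⟩ hle
    change Q' ≤ Q at hle
    change Q ≤ Q'
    rcases mem_support_of_killPow hV hk Q' hQ' with h' | h'
    · change Q.asIdeal ≤ Q'.asIdeal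
      rw [h, h']
    · exfalso
      have : maximalIdeal R ≤ r := by
        rw [← h, ← h']
        exact hle
      exact hrm ((IsLocalRing.eq_maximalIdeal
        (((maximalIdeal.isMaximal R).eq_of_le (Ideal.IsPrime.ne_top inferInstance) this) ▸
          maximalIdeal.isMaximal R)))
  · right
    rintro ⟨Q', hQ'⟩ _
    change Q'.asIdeal ≤ Q.asIdeal
    rw [h]
    exact le_maximalIdeal Q'.2.ne_top

theorem supportDim_le_zero_of_locTriv (hV : TwoPrimes r) {N : Type v}
    [AddCommGroup N] [Module R N] (hk : KillPow r N) (ht : LocTriv r N) :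
    Module.supportDim R N ≤ 0 := by
  unfold Module.supportDim
  rw [Order.krullDim_nonpos_iff_forall_isMax]
  rintro ⟨Q, hQ⟩ ⟨Q', hQ'⟩ _
  change Q'.asIdeal ≤ Q.asIdeal
  rcases mem_support_of_killPow hV hk Q hQ with h | h
  · exfalso
    rw [Module.mem_support_iff'] at hQ
    obtain ⟨z, hz⟩ := hQ
    obtain ⟨s, hs, hsz⟩ := ht z
    exact hz s (by rwa [h]) hsz
  · rw [h]
    exact le_maximalIdeal Q'.2.ne_top

/-- `N/xN` is locally trivial at `r` when `x ∉ r` -/
theorem locTriv_quot_smul {N : Type v} [AddCommGroup N] [Module R N] {x : R} (hx : x ∉ r) :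
    LocTriv r (N ⧸ x • (⊤ : Submodule R N)) := by
  intro z
  obtain ⟨w, rfl⟩ := Submodule.Quotient.mk_surjective _ z
  refine ⟨x, hx, ?_⟩
  rw [← Submodule.Quotient.mk_smul, Submodule.Quotient.mk_eq_zero]
  exact Submodule.smul_mem_pointwise_smul w x ⊤ Submodule.mem_top

end basic

section perH

variable {R : Type u} [CommRing R] [IsNoetherianRing R] [IsLocalRing R] {r : Ideal R} [r.IsPrime]
  {M : Type v} [AddCommGroup M] [Module R M] [Module.Finite R M]

/-- a cohomology module of a periodic complex on `M` has finite length as soon as it vanishes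
locally at `r` -/
theorem perH_length_lt_top (hV : TwoPrimes r) (hk : KillPow r M) (φ ψ : M →ₗ[R] M)
    (h : ∀ z, φ z = 0 → ∃ s : R, s ∉ r ∧ s • z ∈ LinearMap.range ψ) :
    Module.length R (perH φ ψ) < ⊤ := by
  haveI : IsNoetherian R M := isNoetherian_of_isNoetherianRing_of_finite R M
  apply length_lt_top_of_locTriv hV
  · exact (hk.of_injective (LinearMap.ker φ).subtype (Submodule.subtype_injective _)).of_surjective
      ((LinearMap.range ψ).submoduleOf (LinearMap.ker φ)).mkQ (Submodule.mkQ_surjective _)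
  · intro z
    obtain ⟨⟨w, hw⟩, rfl⟩ := Submodule.Quotient.mk_surjective _ z
    obtain ⟨s, hs, hsw⟩ := h w hw
    refine ⟨s, hs, ?_⟩
    rw [← Submodule.Quotient.mk_smul, Submodule.Quotient.mk_eq_zero]
    exact hsw

end perH

end Groth.Agent.Lib.helper2.Key
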