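import Mathlib
import Groth.Agent.Lib.Helper2.Key1
import Groth.Agent.Lib.Helper15.RelLen3
import Groth.Agent.S1833

/-!
# Key lemma, part 2: the Herbrand quotient of `(N, 0, x)` for `x ∉ r` (helper2)
-/

set_option autoImplicit false
universe u v

namespace Groth.Agent.Lib.helper2.Key

open IsLocalRing CycAlg Pointwise
open Groth.Agent.Lib.helper15.RelLen

section hq

variable {R : Type u} [CommRing R]

/-- the Herbrand quotient of `(N, 0, x)` -/
noncomputable def hq (N : Type v) [AddCommGroup N] [Module R N] (x : R) : ℤ :=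
  herbrand R (0 : N →ₗ[R] N) (x • LinearMap.id)

theorem range_smul_id {N : Type v} [AddCommGroup N] [Module R N] (x : R) :
    LinearMap.range (x • (LinearMap.id : N →ₗ[R] N)) = x • (⊤ : Submodule R N) := by
  ext z
  rw [Submodule.mem_smul_pointwise_iff_exists]
  constructor
  · rintro ⟨w, rfl⟩
    exact ⟨w, Submodule.mem_top, rfl⟩
  · rintro ⟨w, -, rfl⟩
    exact ⟨w, rfl⟩

theorem hq_eq {N : Type v} [AddCommGroup N] [Module R N] (x : R) :
    hq N x = ((Module.length R (N ⧸ x • (⊤ : Submodule R N))).toNat : ℤ) -
      ((Module.length R (LinearMap.ker (LinearMap.lsmul R N x))).toNat : ℤ) := by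
  unfold hq herbrand
  have h1 : Module.length R (perH (0 : N →ₗ[R] N) (x • LinearMap.id)) =
      Module.length R (N ⧸ x • (⊤ : Submodule R N)) := by
    change rl (LinearMap.range (x • (LinearMap.id : N →ₗ[R] N))) (LinearMap.ker (0 : N →ₗ[R] N)) = _
    rw [LinearMap.ker_zero, rl_top, range_smul_id]
  have h2 : Module.length R (perH (x • (LinearMap.id : N →ₗ[R] N)) 0) =
      Module.length R (LinearMap.ker (LinearMap.lsmul R N x)) := by
    change rl (LinearMap.range (0 : N →ₗ[R] N)) (LinearMap.ker (x • (LinearMap.id : N →ₗ[R] N))) = _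
    rw [LinearMap.range_zero, rl_bot]
    have : (x • (LinearMap.id : N →ₗ[R] N)) = LinearMap.lsmul R N x := by
      ext z
      simp
    rw [this]
  rw [h1, h2]

/-- invariance under isomorphisms -/
theorem hq_congr {N N' : Type v} [AddCommGroup N] [Module R N] [AddCommGroup N'] [Module R N']
    (e : N ≃ₗ[R] N') (x : R) : hq N x = hq N' x := by
  rw [hq_eq, hq_eq]
  have h1 : Module.length R (N ⧸ x • (⊤ : Submodule R N)) =
      Module.length R (N' ⧸ x • (⊤ : Submodule R N')) := by
    refine (Submodule.Quotient.equiv _ _ e ?_).length_eq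
    rw [Submodule.map_pointwise_smul, Submodule.map_top, LinearEquiv.range]
  have h2 : Module.length R (LinearMap.ker (LinearMap.lsmul R N x)) =
      Module.length R (LinearMap.ker (LinearMap.lsmul R N' x)) := by
    refine (LinearEquiv.ofSubmodules e _ _ ?_).length_eq
    ext z
    constructor
    · rintro ⟨w, hw, rfl⟩
      change x • e w = 0
      rw [← map_smul]
      have : x • w = 0 := hw
      rw [this, map_zero]
    · intro hz
      refine ⟨e.symm z, ?_, by simp⟩
      change x • e.symm z = 0
      rw [← map_smul]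
      have : x • z = 0 := hz
      rw [this, map_zero]
  rw [h1, h2]

end hq

section eval

variable {R : Type u} [CommRing R] [IsNoetherianRing R] [IsLocalRing R] {r : Ideal R} [r.IsPrime]

/-- evaluation of `hq` through the multiplicity formula -/
theorem hq_eval (hV : TwoPrimes r) (hrm : r ≠ maximalIdeal R) {N : Type u} [AddCommGroup N]
    [Module R N] [Module.Finite R N] (hk : KillPow r N) {x : R} (hx : x ∉ r) :
    hq N x = ((Ring.ord (R ⧸ r) (Ideal.Quotient.mk r x)).toNat : ℤ) *
      ((Module.length (Localization.AtPrime r) (LocalizedModule r.primeCompl N)).toNat : ℤ) := by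
  classical
  have hq0 : KillPow r (N ⧸ x • (⊤ : Submodule R N)) :=
    hk.of_surjective (x • (⊤ : Submodule R N)).mkQ (Submodule.mkQ_surjective _)
  have h0 : Module.supportDim R (N ⧸ x • (⊤ : Submodule R N)) ≤ 0 :=
    supportDim_le_zero_of_locTriv hV hq0 (locTriv_quot_smul hx)
  have hfin : Module.length R (N ⧸ x • (⊤ : Submodule R N)) < ⊤ :=
    length_lt_top_of_locTriv hV hq0 (locTriv_quot_smul hx)
  have key := Groth.Agent.S1833.result R N x (supportDim_le_one hV hrm hk) h0
  -- evaluate the finite sum
  have hsum : (∑ᶠ (p : PrimeSpectrum R)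
      (_ : p ∈ Module.support R N ∧ p.asIdeal ≠ IsLocalRing.maximalIdeal R),
      Ring.ord (R ⧸ p.asIdeal) (Ideal.Quotient.mk p.asIdeal x) *
        Module.length (Localization.AtPrime p.asIdeal)
          (LocalizedModule p.asIdeal.primeCompl N)) =
      Ring.ord (R ⧸ r) (Ideal.Quotient.mk r x) *
        Module.length (Localization.AtPrime r) (LocalizedModule r.primeCompl N) := by
    rw [finsum_eq_single _ (⟨r, inferInstance⟩ : PrimeSpectrum R)]
    · rw [finsum_eq_if]
      split_ifs with h
      · rfl
      · have hns : (⟨r, inferInstance⟩ : PrimeSpectrum R) ∉ Module.support R N := fun hs =>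
          h ⟨hs, hrm⟩
        rw [Module.notMem_support_iff] at hns
        have : Module.length (Localization.AtPrime r) (LocalizedModule r.primeCompl N) = 0 :=
          Module.length_eq_zero_iff.2 hns
        rw [this, mul_zero]
    · intro p hp
      rw [finsum_eq_if, if_neg]
      rintro ⟨hps, hpm⟩
      rcases mem_support_of_killPow hV hk p hps with h | h
      · exact hp (PrimeSpectrum.ext h)
      · exact hpm h
  rw [hsum] at key
  rw [hq_eq, key]
  have hfin2 : Module.length R (LinearMap.ker (LinearMap.lsmul R N x)) +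
      Ring.ord (R ⧸ r) (Ideal.Quotient.mk r x) *
        Module.length (Localization.AtPrime r) (LocalizedModule r.primeCompl N) < ⊤ := by
    rw [← key]
    exact hfin
  rw [ENat.add_lt_top] at hfin2
  obtain ⟨hf1, hf2⟩ := hfin2
  rw [ENat.toNat_add hf1.ne hf2.ne, ENat.toNat_mul]
  push_cast
  ring

end eval

end Groth.Agent.Lib.helper2.Key
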