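import Mathlib

/-!
# Tame symbols, part 10: global representatives of local parameters (helper2)

For a Noetherian semilocal ring `B`, a maximal ideal `q` and an element `π` of `B_q` such that a
power of the maximal ideal lies in `(π)`, there is `x : B` which is a unit multiple of `π` in `B_q`
and a unit at all other maximal ideals (`exists_global_rep`).
-/

set_option autoImplicit false
universe u

namespace Groth.Agent.Lib.helper2.Tame

open IsLocalRing

section dim

variable {R S : Type*} [CommRing R] [CommRing S]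

theorem ringKrullDim_le_of_isIntegral' [Algebra R S] [Algebra.IsIntegral R S] :
    ringKrullDim S ≤ ringKrullDim R := by
  refine Order.krullDim_le_of_strictMono (PrimeSpectrum.comap (algebraMap R S)) ?_
  intro p q hpq
  haveI := p.isPrime
  exact Ideal.IsIntegral.comap_lt_comap (R := R) (I := p.asIdeal) (J := q.asIdeal) hpq

theorem krullDimLE_one_localization [Algebra R S] [Algebra.IsIntegral R S]
    (hR : ringKrullDim R = 1) (q : Ideal S) [q.IsPrime] :
    Ring.KrullDimLE 1 (Localization.AtPrime q) := by
  rw [Ring.krullDimLE_iff, IsLocalization.AtPrime.ringKrullDim_eq_height q]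
  refine (Ideal.height_le_ringKrullDim_of_isPrime (I := q)).trans ?_
  refine (ringKrullDim_le_of_isIntegral' (R := R) (S := S)).trans ?_
  rw [hR]
  rfl

/-- in a Noetherian local ring of dimension `≤ 1` a power of the maximal ideal lies in the ideal
generated by a nonzerodivisor -/
theorem exists_pow_maximalIdeal_le_span (O : Type*) [CommRing O] [IsLocalRing O]
    [IsNoetherianRing O] [Ring.KrullDimLE 1 O] {π : O} (hπ : π ∈ nonZeroDivisors O) :
    ∃ M : ℕ, maximalIdeal O ^ M ≤ Ideal.span {π} := by
  apply Ideal.exists_pow_le_of_le_radical_of_fg _ (IsNoetherian.noetherian _)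
  rw [Ideal.radical_eq_sInf]
  refine le_sInf ?_
  rintro P ⟨hπP, hP⟩
  rcases (Ring.krullDimLE_one_iff.1 ‹_›) P hP with hmin | hmax
  · exact absurd hπ (Set.disjoint_left.mp
      (Ideal.disjoint_nonZeroDivisors_of_mem_minimalPrimes hmin)
      (hπP (Ideal.mem_span_singleton_self π)))
  · rw [IsLocalRing.eq_maximalIdeal hmax]

end dim

section rep

variable {B : Type u} [CommRing B] [Finite (MaximalSpectrum B)]

/-- **Global representative** of a local parameter, a unit at all other maximal ideals. -/
theorem exists_global_rep (q : MaximalSpectrum B) (π : Localization.AtPrime q.asIdeal)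
    (hM : ∃ M : ℕ, maximalIdeal (Localization.AtPrime q.asIdeal) ^ M ≤ Ideal.span {π}) :
    ∃ x : B, (∃ w : (Localization.AtPrime q.asIdeal)ˣ,
        algebraMap B (Localization.AtPrime q.asIdeal) x = w * π) ∧
      ∀ q₂ : MaximalSpectrum B, q₂ ≠ q → x ∉ q₂.asIdeal := by
  classical
  haveI := q.isMaximal
  obtain ⟨M, hM⟩ := hM
  set N := M + 1 with hN
  -- approximate `π` modulo `𝔪^N`
  obtain ⟨x₀, hx₀⟩ : ∃ x₀ : B, algebraMap B (Localization.AtPrime q.asIdeal) x₀ - π ∈ maximalIdeal (Localization.AtPrime q.asIdeal) ^ N := by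
    obtain ⟨y, hy⟩ := (IsLocalization.AtPrime.equivQuotMaximalIdealPow q.asIdeal (Localization.AtPrime q.asIdeal) N).surjective
      (Ideal.Quotient.mk _ π)
    obtain ⟨x₀, rfl⟩ := Ideal.Quotient.mk_surjective y
    refine ⟨x₀, ?_⟩
    rw [IsLocalization.AtPrime.equivQuotMaximalIdealPow_apply_mk] at hy
    rwa [← Ideal.Quotient.eq]
  -- CRT
  let I : MaximalSpectrum B → Ideal B := fun q₂ => if q₂ = q then q.asIdeal ^ N else q₂.asIdeal
  have hcop : Pairwise (Function.onFun IsCoprime I) := by
    intro q₂ q₃ hne
    haveI := q₂.isMaximal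
    haveI := q₃.isMaximal
    have hne' : q₂.asIdeal ≠ q₃.asIdeal := fun h => hne (MaximalSpectrum.ext h)
    have h0 : IsCoprime q₂.asIdeal q₃.asIdeal := Ideal.isCoprime_of_isMaximal hne'
    change IsCoprime (I q₂) (I q₃)
    by_cases h2 : q₂ = q
    · have h3 : q₃ ≠ q := fun h => hne (h2.trans h.symm)
      simp only [I, if_pos h2, if_neg h3]
      rw [← h2]
      exact h0.pow_left
    · by_cases h3 : q₃ = q
      · simp only [I, if_neg h2, if_pos h3]
        rw [← h3]
        exact h0.pow_right
      · simp only [I, if_neg h2, if_neg h3]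
        exact h0
  obtain ⟨x, hx⟩ := Ideal.exists_forall_sub_mem_ideal hcop
    (fun q₂ => if q₂ = q then x₀ else 1)
  refine ⟨x, ?_, ?_⟩
  · have h1 : x - x₀ ∈ q.asIdeal ^ N := by simpa [I] using hx q
    have h2 : algebraMap B (Localization.AtPrime q.asIdeal) (x - x₀) ∈ maximalIdeal (Localization.AtPrime q.asIdeal) ^ N := by
      rw [← Localization.AtPrime.map_eq_maximalIdeal, ← Ideal.map_pow]
      exact Ideal.mem_map_of_mem _ h1
    have h3 : algebraMap B (Localization.AtPrime q.asIdeal) x - π ∈ maximalIdeal (Localization.AtPrime q.asIdeal) ^ N := by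
      have : algebraMap B (Localization.AtPrime q.asIdeal) x - π = algebraMap B (Localization.AtPrime q.asIdeal) (x - x₀) + (algebraMap B (Localization.AtPrime q.asIdeal) x₀ - π) := by
        rw [map_sub]; ring
      rw [this]
      exact Ideal.add_mem _ h2 hx₀
    have h4 : maximalIdeal (Localization.AtPrime q.asIdeal) ^ N ≤ Ideal.span {π} * maximalIdeal (Localization.AtPrime q.asIdeal) := by
      rw [hN, pow_succ]
      exact Ideal.mul_mono_left hM
    obtain ⟨ε, hε, hεe⟩ := Ideal.mem_span_singleton_mul.1 (h4 h3)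
    have hu : IsUnit (1 + ε) := by
      by_contra h
      have h5 : 1 + ε ∈ maximalIdeal (Localization.AtPrime q.asIdeal) := (mem_maximalIdeal _).2 h
      have h6 : (1 : (Localization.AtPrime q.asIdeal)) ∈ maximalIdeal (Localization.AtPrime q.asIdeal) := by
        have := Ideal.sub_mem _ h5 hε
        simpa using this
      exact (Ideal.ne_top_iff_one _).1 (maximalIdeal.isMaximal (Localization.AtPrime q.asIdeal)).ne_top h6
    refine ⟨hu.unit, ?_⟩
    rw [IsUnit.unit_spec]
    have : algebraMap B (Localization.AtPrime q.asIdeal) x = π + π * ε := by rw [hεe]; ring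
    rw [this]
    ring
  · intro q₂ hq₂ hmem
    have h1 : x - 1 ∈ q₂.asIdeal := by simpa [I, hq₂] using hx q₂
    have h2 : (1 : B) ∈ q₂.asIdeal := by
      have := Ideal.sub_mem _ hmem h1
      simpa using this
    exact (Ideal.ne_top_iff_one _).1 q₂.isMaximal.ne_top h2

end rep

end Groth.Agent.Lib.helper2.Tame
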