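import Mathlib
import Groth.Agent.Lib.Helper2.Key2
import Groth.Agent.Lib.Helper2.Tame10

/-!
# Key lemma, part 3: the `r`-saturation of an ideal and the module `R / sat(c)` (helper2)
-/

set_option autoImplicit false
universe u v

namespace Groth.Agent.Lib.helper2.Key

open IsLocalRing CycAlg Pointwise

section sat

variable {R : Type u} [CommRing R] (r : Ideal R) [r.IsPrime]

/-- the `r`-saturation of an ideal: the contraction of its extension to `R_r` -/
def satI (I : Ideal R) : Ideal R :=
  (I.map (algebraMap R (Localization.AtPrime r))).comap (algebraMap R (Localization.AtPrime r))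

variable {r}

theorem mem_satI {I : Ideal R} {z : R} : z ∈ satI r I ↔ ∃ s : R, s ∉ r ∧ s * z ∈ I := by
  unfold satI
  rw [Ideal.mem_comap, IsLocalization.mem_map_algebraMap_iff r.primeCompl]
  constructor
  · rintro ⟨⟨⟨a, ha⟩, ⟨m, hm⟩⟩, h⟩
    simp only at h
    rw [← map_mul, IsLocalization.eq_iff_exists r.primeCompl] at h
    obtain ⟨⟨c, hc⟩, hc'⟩ := h
    simp only at hc'
    refine ⟨c * m, fun hmem => ?_, ?_⟩
    · rcases Ideal.IsPrime.mem_or_mem inferInstance hmem with h1 | h1
      · exact hc h1
      · exact hm h1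
    · have : c * m * z = c * a := by rw [← hc']; ring
      rw [this]
      exact I.mul_mem_left c ha
  · rintro ⟨s, hs, hsz⟩
    refine ⟨⟨⟨s * z, hsz⟩, ⟨s, hs⟩⟩, ?_⟩
    simp only
    rw [← map_mul, mul_comm]

theorem le_satI (I : Ideal R) : I ≤ satI r I := fun z hz =>
  mem_satI.2 ⟨1, (Ideal.ne_top_iff_one r).1 (Ideal.IsPrime.ne_top inferInstance), by simpa using hz⟩

theorem map_satI (I : Ideal R) :
    (satI r I).map (algebraMap R (Localization.AtPrime r)) =
      I.map (algebraMap R (Localization.AtPrime r)) :=
  IsLocalization.map_under r.primeCompl _ _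

theorem mem_satI_of_mul_mem {I : Ideal R} {s z : R} (hs : s ∉ r) (h : s * z ∈ satI r I) :
    z ∈ satI r I := by
  obtain ⟨s', hs', h'⟩ := mem_satI.1 h
  refine mem_satI.2 ⟨s' * s, fun hmem => ?_, by rwa [mul_assoc]⟩
  rcases Ideal.IsPrime.mem_or_mem inferInstance hmem with h1 | h1
  · exact hs' h1
  · exact hs h1

/-- the length of the localisation of `R/J` -/
theorem length_localized_quot (J : Ideal R) :
    Module.length (Localization.AtPrime r) (LocalizedModule r.primeCompl (R ⧸ J)) =
      Module.length (Localization.AtPrime r)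
        (Localization.AtPrime r ⧸ J.map (algebraMap R (Localization.AtPrime r))) := by
  have e1 := IsLocalizedModule.mapEquiv r.primeCompl
    (LocalizedModule.mkLinearMap r.primeCompl (R ⧸ J))
    (Submodule.toLocalizedQuotient' (Localization.AtPrime r) r.primeCompl
      (Algebra.linearMap R (Localization.AtPrime r)) J)
    (Localization.AtPrime r) (LinearEquiv.refl R (R ⧸ J))
  have e2 : J.localized' (Localization.AtPrime r) r.primeCompl
      (Algebra.linearMap R (Localization.AtPrime r)) =
      J.map (algebraMap R (Localization.AtPrime r)) := Ideal.localized'_eq_map _ _ _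
  rw [e1.length_eq]
  exact (Submodule.quotEquivOfEq _ _ e2).length_eq

theorem length_localized_quot_satI (c : R) :
    Module.length (Localization.AtPrime r)
        (LocalizedModule r.primeCompl (R ⧸ satI r (Ideal.span {c}))) =
      Ring.ord (Localization.AtPrime r) (algebraMap R (Localization.AtPrime r) c) := by
  rw [length_localized_quot, map_satI, Ideal.map_span, Set.image_singleton]
  rfl

/-- `R / sat(c)` is killed by a power of `r` when `R_r` is one-dimensional and `c` is a
nonzerodivisor there -/
theorem killPow_quot_satI [IsNoetherianRing R] [Ring.KrullDimLE 1 (Localization.AtPrime r)]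
    {c : R} (hc : algebraMap R (Localization.AtPrime r) c ∈
      nonZeroDivisors (Localization.AtPrime r)) :
    KillPow r (R ⧸ satI r (Ideal.span {c})) := by
  haveI : IsNoetherianRing (Localization.AtPrime r) :=
    IsLocalization.isNoetherianRing r.primeCompl _ inferInstance
  obtain ⟨k, hk⟩ := Groth.Agent.Lib.helper2.Tame.exists_pow_maximalIdeal_le_span
    (Localization.AtPrime r) hc
  refine ⟨k, fun y hy z => ?_⟩
  obtain ⟨w, rfl⟩ := Ideal.Quotient.mk_surjective z
  rw [Algebra.smul_def, Ideal.Quotient.algebraMap_eq, ← map_mul, Ideal.Quotient.eq_zero_iff_mem]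
  apply Ideal.mul_mem_right
  rw [satI, Ideal.mem_comap, Ideal.map_span, Set.image_singleton]
  apply hk
  rw [← IsLocalization.AtPrime.map_eq_maximalIdeal r (Localization.AtPrime r), ← Ideal.map_pow]
  exact Ideal.mem_map_of_mem _ hy

theorem smul_injective_quot_satI {I : Ideal R} {s : R} (hs : s ∉ r) (z : R ⧸ satI r I)
    (h : s • z = 0) : z = 0 := by
  obtain ⟨w, rfl⟩ := Ideal.Quotient.mk_surjective z
  rw [Algebra.smul_def, Ideal.Quotient.algebraMap_eq, ← map_mul,
    Ideal.Quotient.eq_zero_iff_mem] at h
  rw [Ideal.Quotient.eq_zero_iff_mem]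
  exact mem_satI_of_mul_mem hs h

end sat

end Groth.Agent.Lib.helper2.Key
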