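import Mathlib
import Groth.Agent.Lib.Helper2.Key3
import Groth.Agent.S1831
import Groth.Agent.S1832

/-!
# Key lemma, part 4: the Herbrand quotient of `(R / sat(ab), a, b)` under a local factorisation
(helper2)
-/

set_option autoImplicit false
universe u v

namespace Groth.Agent.Lib.helper2.Key

open IsLocalRing CycAlg Pointwise

section mulE

variable {R : Type u} [CommRing R]

/-- multiplication by `c` -/
abbrev mulE (N : Type v) [AddCommGroup N] [Module R N] (c : R) : N →ₗ[R] N := c • LinearMap.id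

variable (N : Type v) [AddCommGroup N] [Module R N]

theorem mulE_apply (c : R) (z : N) : mulE N c z = c • z := rfl

theorem mulE_comp (c d : R) : mulE N c ∘ₗ mulE N d = mulE N (c * d) := by
  ext z
  simp [mul_smul]

theorem smul_mulE (s c : R) : s • mulE N c = mulE N (s * c) := by
  ext z
  simp [mul_smul]

theorem mulE_pow (c : R) (k : ℕ) : (mulE N c) ^ k = mulE N (c ^ k) := by
  induction k with
  | zero =>
    ext z
    simp
  | succ k ih =>
    rw [pow_succ, ih, Module.End.mul_eq_comp, mulE_comp, pow_succ]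

theorem mulE_eq_zero_of_forall {c : R} (h : ∀ z : N, c • z = 0) : mulE N c = 0 := by
  ext z
  exact h z

/-- the image of multiplication by `c` is isomorphic to the image of multiplication by `d` when
`s c = s' d` with `s`, `s'` acting injectively -/
noncomputable def rangeEquiv {c d s s' : R} (h : s * c = s' * d)
    (hs : Function.Injective (mulE N s)) (hs' : Function.Injective (mulE N s')) :
    ↥(LinearMap.range (mulE N c)) ≃ₗ[R] ↥(LinearMap.range (mulE N d)) :=
  have e1 : (LinearMap.range (mulE N c)).map (mulE N s) = LinearMap.range (mulE N (s * c)) := by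
    rw [← LinearMap.range_comp, mulE_comp]
  have e2 : (LinearMap.range (mulE N d)).map (mulE N s') = LinearMap.range (mulE N (s * c)) := by
    rw [← LinearMap.range_comp, mulE_comp, h]
  ((Submodule.equivMapOfInjective (mulE N s) hs _).trans (LinearEquiv.ofEq _ _ e1)).trans
    ((Submodule.equivMapOfInjective (mulE N s') hs' _).trans (LinearEquiv.ofEq _ _ e2)).symm

end mulE

section quot

variable {R : Type u} [CommRing R] {r : Ideal R} [r.IsPrime] (J : Ideal R)

theorem mulE_mk (c z : R) : mulE (R ⧸ J) c (Ideal.Quotient.mk J z) = Ideal.Quotient.mk J (c * z) := by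
  rw [mulE_apply, Algebra.smul_def, Ideal.Quotient.algebraMap_eq, ← map_mul]

/-- translation of local exactness into the ring -/
theorem exact_of (c d : R)
    (h : ∀ z : R, c * z ∈ J → ∃ s : R, s ∉ r ∧ ∃ w : R, s * z - d * w ∈ J) :
    ∀ z : R ⧸ J, mulE (R ⧸ J) c z = 0 →
      ∃ s : R, s ∉ r ∧ s • z ∈ LinearMap.range (mulE (R ⧸ J) d) := by
  intro z hz
  obtain ⟨z, rfl⟩ := Ideal.Quotient.mk_surjective z
  rw [mulE_mk, Ideal.Quotient.eq_zero_iff_mem] at hz
  obtain ⟨s, hs, w, hw⟩ := h z hz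
  refine ⟨s, hs, Ideal.Quotient.mk J w, ?_⟩
  rw [mulE_mk, Algebra.smul_def, Ideal.Quotient.algebraMap_eq, ← map_mul, eq_comm,
    Ideal.Quotient.eq]
  exact hw

end quot


section LC

variable {R : Type u} [CommRing R] [IsNoetherianRing R] [IsLocalRing R] {r : Ideal R} [r.IsPrime]

theorem nzd_cancel {a x : R} (ha : a ∈ nonZeroDivisors R) (h : a * x = 0) : x = 0 :=
  (mem_nonZeroDivisors_iff_right.1 ha) x (by rwa [mul_comm])

/-- the `R`-module `R / sat(ab)` -/
abbrev Mab (r : Ideal R) [r.IsPrime] (a b : R) : Type u := R ⧸ satI r (Ideal.span {a * b})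

theorem mem_satI_span {c z : R} :
    z ∈ satI r (Ideal.span {c}) ↔ ∃ s : R, s ∉ r ∧ ∃ w : R, s * z = c * w := by
  rw [mem_satI]
  constructor
  · rintro ⟨s, hs, h⟩
    obtain ⟨w, hw⟩ := Ideal.mem_span_singleton'.1 h
    exact ⟨s, hs, w, by rw [← hw, mul_comm]⟩
  · rintro ⟨s, hs, w, hw⟩
    exact ⟨s, hs, Ideal.mem_span_singleton'.2 ⟨w, by rw [hw, mul_comm]⟩⟩

variable {a b : R} (ha : a ∈ nonZeroDivisors R) (hb : b ∈ nonZeroDivisors R)

theorem not_mem_mul {s s' : R} (hs : s ∉ r) (hs' : s' ∉ r) : s * s' ∉ r := fun h =>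
  (Ideal.IsPrime.mem_or_mem inferInstance h).elim hs hs'

include ha in
theorem exact_a_b : ∀ z : Mab r a b, mulE (Mab r a b) a z = 0 →
    ∃ s : R, s ∉ r ∧ s • z ∈ LinearMap.range (mulE (Mab r a b) b) := by
  apply exact_of
  intro z hz
  obtain ⟨s, hs, w, hw⟩ := mem_satI_span.1 hz
  refine ⟨s, hs, w, ?_⟩
  have : s * z - b * w = 0 := nzd_cancel ha (by linear_combination hw)
  rw [this]
  exact zero_mem _

include hb in
theorem exact_b_a : ∀ z : Mab r a b, mulE (Mab r a b) b z = 0 →
    ∃ s : R, s ∉ r ∧ s • z ∈ LinearMap.range (mulE (Mab r a b) a) := by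
  apply exact_of
  intro z hz
  obtain ⟨s, hs, w, hw⟩ := mem_satI_span.1 hz
  refine ⟨s, hs, w, ?_⟩
  have : s * z - a * w = 0 := nzd_cancel hb (by linear_combination hw)
  rw [this]
  exact zero_mem _

variable {p x s' y t' : R} {e f : ℕ} (hx : x ∉ r) (hs' : s' ∉ r) (hy : y ∉ r) (ht' : t' ∉ r)
  (h₁ : s' * a = x * p ^ e) (h₂ : t' * b = y * p ^ f)

include ha hs' h₁ in
theorem exact_pe_b : ∀ z : Mab r a b, mulE (Mab r a b) (p ^ e) z = 0 →
    ∃ s : R, s ∉ r ∧ s • z ∈ LinearMap.range (mulE (Mab r a b) b) := by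
  apply exact_of
  intro z hz
  obtain ⟨s, hs, w, hw⟩ := mem_satI_span.1 hz
  refine ⟨s * s', not_mem_mul hs hs', x * w, ?_⟩
  have : s * s' * z - b * (x * w) = 0 :=
    nzd_cancel ha (by linear_combination x * hw + s * z * h₁)
  rw [this]
  exact zero_mem _

include hb hs' h₁ in
theorem exact_b_pe : ∀ z : Mab r a b, mulE (Mab r a b) b z = 0 →
    ∃ s : R, s ∉ r ∧ s • z ∈ LinearMap.range (mulE (Mab r a b) (p ^ e)) := by
  apply exact_of
  intro z hz
  obtain ⟨s, hs, w, hw⟩ := mem_satI_span.1 hz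
  refine ⟨s' * s, not_mem_mul hs' hs, x * w, ?_⟩
  have h3 : s * z - a * w = 0 := nzd_cancel hb (by linear_combination hw)
  have : s' * s * z - p ^ e * (x * w) = 0 := by linear_combination s' * h3 + w * h₁
  rw [this]
  exact zero_mem _

include ha hb hs' ht' h₁ h₂ in
theorem exact_p (hn : 0 < e + f) : ∀ z : Mab r a b, mulE (Mab r a b) p z = 0 →
    ∃ s : R, s ∉ r ∧ s • z ∈ LinearMap.range (mulE (Mab r a b) (p ^ (e + f - 1))) := by
  apply exact_of
  intro z hz
  obtain ⟨s, hs, w, hw⟩ := mem_satI_span.1 hz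
  have hpn : p ^ (e + f) = p * p ^ (e + f - 1) := by
    rw [← pow_succ', Nat.sub_add_cancel hn]
  have hxy : s' * t' * (a * b) = x * y * (p * p ^ (e + f - 1)) := by
    rw [← hpn, pow_add]
    linear_combination t' * b * h₁ + x * p ^ e * h₂
  have h0 : p * (s * s' * t' * z - x * y * p ^ (e + f - 1) * w) = 0 := by
    linear_combination s' * t' * hw + w * hxy
  -- `p` is locally a nonzerodivisor
  obtain ⟨s₂, hs₂, h2⟩ : ∃ s₂ : R, s₂ ∉ r ∧
      s₂ * (s * s' * t' * z - x * y * p ^ (e + f - 1) * w) = 0 := by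
    rcases Nat.eq_zero_or_pos e with he | he
    · have hf : 0 < f := by omega
      refine ⟨t', ht', nzd_cancel hb ?_⟩
      obtain ⟨f', rfl⟩ := Nat.exists_eq_succ_of_ne_zero hf.ne'
      have : b * (t' * (s * s' * t' * z - x * y * p ^ (e + (f' + 1) - 1) * w)) =
          y * p ^ f' * (p * (s * s' * t' * z - x * y * p ^ (e + (f' + 1) - 1) * w)) := by
        rw [pow_succ] at h₂
        linear_combination (s * s' * t' * z - x * y * p ^ (e + (f' + 1) - 1) * w) * h₂
      rw [this, h0, mul_zero]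
    · refine ⟨s', hs', nzd_cancel ha ?_⟩
      obtain ⟨e', rfl⟩ := Nat.exists_eq_succ_of_ne_zero he.ne'
      have : a * (s' * (s * s' * t' * z - x * y * p ^ (e' + 1 + f - 1) * w)) =
          x * p ^ e' * (p * (s * s' * t' * z - x * y * p ^ (e' + 1 + f - 1) * w)) := by
        rw [pow_succ] at h₁
        linear_combination (s * s' * t' * z - x * y * p ^ (e' + 1 + f - 1) * w) * h₁
      rw [this, h0, mul_zero]
  refine ⟨s₂ * (s * s' * t'), not_mem_mul hs₂ (not_mem_mul (not_mem_mul hs hs') ht'),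
    s₂ * (x * y * w), ?_⟩
  have : s₂ * (s * s' * t') * z - p ^ (e + f - 1) * (s₂ * (x * y * w)) = 0 := by
    linear_combination h2
  rw [this]
  exact zero_mem _

end LC

end Groth.Agent.Lib.helper2.Key
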