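import Mathlib
import Groth.Agent.Lib.Helper2.Key4

/-!
# Key lemma, part 5: `e_R(R / sat(ab), a, b)` in terms of orders (helper2)
-/

set_option autoImplicit false
universe u v

namespace Groth.Agent.Lib.helper2.Key

open IsLocalRing CycAlg Pointwise

section LC2

variable {R : Type u} [CommRing R] [IsNoetherianRing R] [IsLocalRing R] {r : Ideal R} [r.IsPrime]
  {a b : R}

theorem mulE_injective_of_notMem {I : Ideal R} {s : R} (hs : s ∉ r) :
    Function.Injective (mulE (R ⧸ satI r I) s) := by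
  rw [injective_iff_map_eq_zero]
  intro z hz
  exact smul_injective_quot_satI hs z hz

theorem mulE_eq_zero_of_mem {I : Ideal R} {c : R} (hc : c ∈ satI r I) :
    mulE (R ⧸ satI r I) c = 0 := by
  apply mulE_eq_zero_of_forall
  intro z
  obtain ⟨w, rfl⟩ := Ideal.Quotient.mk_surjective z
  rw [Algebra.smul_def, Ideal.Quotient.algebraMap_eq, ← map_mul, Ideal.Quotient.eq_zero_iff_mem]
  exact Ideal.mul_mem_right _ _ hc

/-- the image of multiplication by `a` on `R / sat(t)`, `t = ab`, is `R / sat(b)` -/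
noncomputable def rangeMulEquiv (ha : a ∈ nonZeroDivisors R) {t : R} (ht : t = a * b) :
    (R ⧸ satI r (Ideal.span {b})) ≃ₗ[R]
      ↥(LinearMap.range (mulE (R ⧸ satI r (Ideal.span {t})) a)) :=
  let g : R →ₗ[R] R ⧸ satI r (Ideal.span {t}) :=
    mulE (R ⧸ satI r (Ideal.span {t})) a ∘ₗ (satI r (Ideal.span {t})).mkQ
  have hker : LinearMap.ker g = satI r (Ideal.span {b}) := by
    ext z
    rw [LinearMap.mem_ker]
    change mulE (R ⧸ satI r (Ideal.span {t})) a (Ideal.Quotient.mk _ z) = 0 ↔ _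
    rw [mulE_mk, Ideal.Quotient.eq_zero_iff_mem, mem_satI_span, mem_satI_span]
    constructor
    · rintro ⟨s, hs, w, hw⟩
      refine ⟨s, hs, w, ?_⟩
      rw [ht] at hw
      have : s * z - b * w = 0 := nzd_cancel ha (by linear_combination hw)
      linear_combination this
    · rintro ⟨s, hs, w, hw⟩
      refine ⟨s, hs, w, ?_⟩
      rw [ht]
      linear_combination a * hw
  have hrange : LinearMap.range g = LinearMap.range (mulE (R ⧸ satI r (Ideal.span {t})) a) :=
    LinearMap.range_comp_of_range_eq_top _ (Submodule.range_mkQ _)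
  ((Submodule.quotEquivOfEq _ _ hker).symm.trans g.quotKerEquivRange).trans
    (LinearEquiv.ofEq _ _ hrange)

theorem length_localized_range (ha : a ∈ nonZeroDivisors R) {t : R} (ht : t = a * b) :
    Module.length (Localization.AtPrime r)
        (LocalizedModule r.primeCompl
          ↥(LinearMap.range (mulE (R ⧸ satI r (Ideal.span {t})) a))) =
      Ring.ord (Localization.AtPrime r) (algebraMap R (Localization.AtPrime r) b) := by
  rw [← length_localized_quot_satI]
  exact (IsLocalizedModule.mapEquiv r.primeCompl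
    (LocalizedModule.mkLinearMap r.primeCompl _) (LocalizedModule.mkLinearMap r.primeCompl _)
    (Localization.AtPrime r) (rangeMulEquiv (r := r) (b := b) ha ht)).symm.length_eq

end LC2


section main

variable {R : Type u} [CommRing R] [IsNoetherianRing R] [IsLocalRing R] {r : Ideal R} [r.IsPrime]
  [Ring.KrullDimLE 1 (Localization.AtPrime r)] {a b : R}

/-- order in `R / r` of the class of an element, as an integer -/
noncomputable def ordq (r : Ideal R) (z : R) : ℤ :=
  ((Ring.ord (R ⧸ r) (Ideal.Quotient.mk r z)).toNat : ℤ)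

/-- order in `R_r` of the image of an element, as an integer -/
noncomputable def ordr (r : Ideal R) [r.IsPrime] (c : R) : ℤ :=
  ((Ring.ord (Localization.AtPrime r) (algebraMap R (Localization.AtPrime r) c)).toNat : ℤ)

theorem hq_range (hV : TwoPrimes r) (hrm : r ≠ maximalIdeal R) {t : R}
    (hk : KillPow r (R ⧸ satI r (Ideal.span {t}))) {c d : R} (hc : c ∈ nonZeroDivisors R)
    (ht : t = c * d) {z : R} (hz : z ∉ r) :
    hq ↥(LinearMap.range (mulE (R ⧸ satI r (Ideal.span {t})) c)) z = ordq r z * ordr r d := by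
  haveI : IsNoetherian R (R ⧸ satI r (Ideal.span {t})) :=
    isNoetherian_of_isNoetherianRing_of_finite R _
  rw [hq_eval hV hrm (hk.of_injective (LinearMap.range _).subtype
    (Submodule.subtype_injective _)) hz, length_localized_range hc ht]
  rfl

theorem herbrand_Mab (hV : TwoPrimes r) (hrm : r ≠ maximalIdeal R)
    (ha : a ∈ nonZeroDivisors R) (hb : b ∈ nonZeroDivisors R)
    {p x s' y t' : R} {e f : ℕ} (hx : x ∉ r) (hs' : s' ∉ r) (hy : y ∉ r) (ht' : t' ∉ r)
    (h₁ : s' * a = x * p ^ e) (h₂ : t' * b = y * p ^ f) (hn : 0 < e + f) :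
    FinCoh R (mulE (Mab r a b) a) (mulE (Mab r a b) b) ∧
      herbrand R (mulE (Mab r a b) a) (mulE (Mab r a b) b) =
        (ordq r y - ordq r t') * ordr r a - (ordq r x - ordq r s') * ordr r b := by
  set M := Mab r a b with hM
  have hab : a * b ∈ nonZeroDivisors R := mul_mem ha hb
  have hab_loc : algebraMap R (Localization.AtPrime r) (a * b) ∈
      nonZeroDivisors (Localization.AtPrime r) :=
    IsLocalization.map_nonZeroDivisors_le r.primeCompl _ ⟨_, hab, rfl⟩
  have hk : KillPow r M := killPow_quot_satI hab_loc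
  have hsd : ∀ z : R, z ∉ r → Module.supportDim R (M ⧸ z • (⊤ : Submodule R M)) ≤ 0 := fun z hz =>
    supportDim_le_zero_of_locTriv hV
      (hk.of_surjective (z • (⊤ : Submodule R M)).mkQ (Submodule.mkQ_surjective _))
      (locTriv_quot_smul hz)
  -- membership in the saturated ideal
  have hJab : a * b ∈ satI r (Ideal.span {a * b}) := le_satI _ (Ideal.mem_span_singleton_self _)
  have hJpeb : p ^ e * b ∈ satI r (Ideal.span {a * b}) :=
    mem_satI_span.2 ⟨x * t', not_mem_mul hx ht', s' * t', by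
      linear_combination (-(t' * b)) * h₁⟩
  have hJpn : p ^ e * p ^ f ∈ satI r (Ideal.span {a * b}) :=
    mem_satI_span.2 ⟨x * y, not_mem_mul hx hy, s' * t', by
      linear_combination (-(t' * b)) * h₁ - x * p ^ e * h₂⟩
  -- periodicity
  have hper_ab : IsPeriodic (mulE M a) (mulE M b) :=
    ⟨by rw [mulE_comp]; exact mulE_eq_zero_of_mem hJab,
     by rw [mulE_comp, mul_comm b a]; exact mulE_eq_zero_of_mem hJab⟩
  have hper_peb : IsPeriodic (mulE M (p ^ e)) (mulE M b) :=
    ⟨by rw [mulE_comp]; exact mulE_eq_zero_of_mem hJpeb,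
     by rw [mulE_comp, mul_comm b (p ^ e)]; exact mulE_eq_zero_of_mem hJpeb⟩
  have hper_pp : IsPeriodic (mulE M (p ^ e)) (mulE M (p ^ f)) :=
    ⟨by rw [mulE_comp]; exact mulE_eq_zero_of_mem hJpn,
     by rw [mulE_comp, mul_comm (p ^ f) (p ^ e)]; exact mulE_eq_zero_of_mem hJpn⟩
  -- finiteness
  have hfin_ab : FinCoh R (mulE M a) (mulE M b) :=
    ⟨perH_length_lt_top hV hk _ _ (exact_a_b ha), perH_length_lt_top hV hk _ _ (exact_b_a hb)⟩
  have hfin_peb : FinCoh R (mulE M (p ^ e)) (mulE M b) :=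
    ⟨perH_length_lt_top hV hk _ _ (exact_pe_b ha hs' h₁),
     perH_length_lt_top hV hk _ _ (exact_b_pe hb hs' h₁)⟩
  -- the nilpotent complex
  have hnil := Groth.Agent.S1831.result (mulE M p) (e + f) hn
    (by rw [mulE_pow, pow_add]; exact mulE_eq_zero_of_mem hJpn)
    (by rw [mulE_pow]; exact perH_length_lt_top hV hk _ _ (exact_p ha hb hs' ht' h₁ h₂ hn))
    e (Nat.le_add_right e f)
  rw [mulE_pow, mulE_pow, Nat.add_sub_cancel_left] at hnil
  obtain ⟨hfin_pp, h_pp⟩ := hnil
  -- the four applications of the scaling lemma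
  obtain ⟨⟨-, e1⟩, -⟩ := Groth.Agent.S1832.result (mulE M a) (mulE M b) hper_ab hfin_ab s'
    (hsd s' hs')
  obtain ⟨⟨-, e2⟩, ⟨-, e3⟩⟩ := Groth.Agent.S1832.result (mulE M (p ^ e)) (mulE M b) hper_peb
    hfin_peb x (hsd x hx)
  obtain ⟨-, ⟨-, e3'⟩⟩ := Groth.Agent.S1832.result (mulE M (p ^ e)) (mulE M b) hper_peb
    hfin_peb t' (hsd t' ht')
  obtain ⟨-, ⟨-, e4⟩⟩ := Groth.Agent.S1832.result (mulE M (p ^ e)) (mulE M (p ^ f)) hper_pp
    hfin_pp y (hsd y hy)
  rw [smul_mulE, h₁] at e1
  rw [smul_mulE] at e2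
  rw [smul_mulE, h₂] at e3'
  rw [smul_mulE, h_pp, zero_add] at e4
  -- identify the Herbrand quotients of the images
  have i1 : hq ↥(LinearMap.range (mulE M (p ^ e))) x = hq ↥(LinearMap.range (mulE M a)) x :=
    hq_congr (rangeEquiv M h₁.symm (mulE_injective_of_notMem hx) (mulE_injective_of_notMem hs')) x
  have i2 : hq ↥(LinearMap.range (mulE M (p ^ f))) y = hq ↥(LinearMap.range (mulE M b)) y :=
    hq_congr (rangeEquiv M h₂.symm (mulE_injective_of_notMem hy) (mulE_injective_of_notMem ht')) y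
  change _ = _ - hq ↥(LinearMap.range (mulE M a)) s' at e1
  change _ = _ - hq ↥(LinearMap.range (mulE M (p ^ e))) x at e2
  change _ = _ + hq ↥(LinearMap.range (mulE M b)) t' at e3'
  change _ = hq ↥(LinearMap.range (mulE M (p ^ f))) y at e4
  rw [i1] at e2
  rw [i2] at e4
  rw [hq_range hV hrm hk ha rfl hs'] at e1
  rw [hq_range hV hrm hk ha rfl hx] at e2
  rw [hq_range hV hrm hk hb (mul_comm a b) ht'] at e3'
  rw [hq_range hV hrm hk hb (mul_comm a b) hy] at e4
  refine ⟨hfin_ab, ?_⟩
  linarith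

end main

end Groth.Agent.Lib.helper2.Key
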