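import Mathlib
import Groth.Agent.Lib.Helper2.Key5
import Groth.Agent.S1870

/-!
# Key lemma, part 6: decomposition of `R/(ab)` along the height one primes (helper2)
-/

set_option autoImplicit false
universe u v w

namespace Groth.Agent.Lib.helper2.Key

open IsLocalRing CycAlg Pointwise

section pi

variable {R : Type u} [CommRing R] {ι : Type w} [Fintype ι] (M : ι → Type v)
  [∀ i, AddCommGroup (M i)] [∀ i, Module R (M i)]

/-- cohomology of a product of multiplication complexes -/
noncomputable def perHPi (c d : R) :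
    perH (mulE (Π i, M i) c) (mulE (Π i, M i) d) ≃ₗ[R]
      Π i, perH (mulE (M i) c) (mulE (M i) d) := by
  let G : ↥(LinearMap.ker (mulE (Π i, M i) c)) →ₗ[R] Π i, perH (mulE (M i) c) (mulE (M i) d) :=
    LinearMap.pi fun i =>
      ((LinearMap.range (mulE (M i) d)).submoduleOf (LinearMap.ker (mulE (M i) c))).mkQ ∘ₗ
        (LinearMap.codRestrict (LinearMap.ker (mulE (M i) c))
          ((LinearMap.proj i : (Π i, M i) →ₗ[R] M i) ∘ₗ
            (LinearMap.ker (mulE (Π i, M i) c)).subtype)
          (fun z => by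
            have hz : c • (z : Π i, M i) = 0 := z.2
            change c • ((z : Π i, M i) i) = 0
            have := congrFun hz i
            simpa using this))
  have hG : Function.Surjective G := by
    intro y
    have : ∀ i, ∃ w : ↥(LinearMap.ker (mulE (M i) c)), Submodule.Quotient.mk w = y i :=
      fun i => Submodule.Quotient.mk_surjective _ (y i)
    choose w hw using this
    refine ⟨⟨fun i => (w i : M i), ?_⟩, ?_⟩
    · change c • (fun i => (w i : M i)) = 0
      ext i
      exact (w i).2
    · ext i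
      rw [← hw i]
      rfl
  have hker : LinearMap.ker G =
      (LinearMap.range (mulE (Π i, M i) d)).submoduleOf (LinearMap.ker (mulE (Π i, M i) c)) := by
    ext z
    rw [LinearMap.mem_ker]
    constructor
    · intro hz
      have h1 : ∀ i, ∃ v : M i, d • v = (z : Π i, M i) i := by
        intro i
        have := congrFun hz i
        change Submodule.Quotient.mk _ = 0 at this
        rw [Submodule.Quotient.mk_eq_zero] at this
        obtain ⟨v, hv⟩ := this
        exact ⟨v, hv⟩
      choose v hv using h1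
      refine ⟨v, ?_⟩
      ext i
      exact hv i
    · rintro ⟨v, hv⟩
      ext i
      change Submodule.Quotient.mk _ = 0
      rw [Submodule.Quotient.mk_eq_zero]
      refine ⟨v i, ?_⟩
      have := congrFun hv i
      exact this
  exact (Submodule.quotEquivOfEq _ _ hker.symm).trans (G.quotKerEquivOfSurjective hG)

theorem finCoh_pi (c d : R) (h : ∀ i, FinCoh R (mulE (M i) c) (mulE (M i) d)) :
    FinCoh R (mulE (Π i, M i) c) (mulE (Π i, M i) d) := by
  constructor
  · rw [(perHPi M c d).length_eq, Module.length_pi_of_fintype, lt_top_iff_ne_top,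
      ENat.sum_ne_top]
    exact fun i _ => (h i).1.ne
  · rw [(perHPi M d c).length_eq, Module.length_pi_of_fintype, lt_top_iff_ne_top,
      ENat.sum_ne_top]
    exact fun i _ => (h i).2.ne

theorem herbrand_pi (c d : R) (h : ∀ i, FinCoh R (mulE (M i) c) (mulE (M i) d)) :
    herbrand R (mulE (Π i, M i) c) (mulE (Π i, M i) d) =
      ∑ i, herbrand R (mulE (M i) c) (mulE (M i) d) := by
  unfold herbrand
  rw [(perHPi M c d).length_eq, (perHPi M d c).length_eq, Module.length_pi_of_fintype,
    Module.length_pi_of_fintype, ENat.toNat_sum (fun i _ => (h i).1.ne),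
    ENat.toNat_sum (fun i _ => (h i).2.ne), Finset.sum_sub_distrib]
  push_cast
  rfl

end pi


section decomp

variable {R : Type u} [CommRing R] [IsNoetherianRing R] [IsLocalRing R]

/-- the complex `(R/(ab), a, b)` is exact -/
theorem perH_quot_subsingleton {a b : R} (ha : a ∈ nonZeroDivisors R) :
    Subsingleton (perH (mulE (R ⧸ Ideal.span {a * b}) a) (mulE (R ⧸ Ideal.span {a * b}) b)) := by
  rw [Submodule.Quotient.subsingleton_iff, eq_top_iff]
  rintro ⟨z, hz⟩ -
  obtain ⟨z, rfl⟩ := Ideal.Quotient.mk_surjective z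
  rw [LinearMap.mem_ker, mulE_mk, Ideal.Quotient.eq_zero_iff_mem] at hz
  obtain ⟨w, hw⟩ := Ideal.mem_span_singleton'.1 hz
  have h1 : z - b * w = 0 := nzd_cancel ha (by linear_combination -hw)
  have h2 : b * w = z := by linear_combination -h1
  refine ⟨Ideal.Quotient.mk _ w, ?_⟩
  rw [mulE_mk, h2]
  rfl

theorem herbrand_quot_eq_zero {a b : R} (ha : a ∈ nonZeroDivisors R)
    (hb : b ∈ nonZeroDivisors R) :
    FinCoh R (mulE (R ⧸ Ideal.span {a * b}) a) (mulE (R ⧸ Ideal.span {a * b}) b) ∧
      herbrand R (mulE (R ⧸ Ideal.span {a * b}) a) (mulE (R ⧸ Ideal.span {a * b}) b) = 0 := by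
  haveI h1 := perH_quot_subsingleton (b := b) ha
  have h2' := perH_quot_subsingleton (a := b) (b := a) hb
  rw [mul_comm b a] at h2'
  haveI h2 := h2'
  have e1 : Module.length R
      (perH (mulE (R ⧸ Ideal.span {a * b}) a) (mulE (R ⧸ Ideal.span {a * b}) b)) = 0 :=
    Module.length_eq_zero
  have e2 : Module.length R
      (perH (mulE (R ⧸ Ideal.span {a * b}) b) (mulE (R ⧸ Ideal.span {a * b}) a)) = 0 :=
    Module.length_eq_zero
  refine ⟨⟨by rw [e1]; simp, by rw [e2]; simp⟩, ?_⟩
  unfold herbrand
  rw [e1, e2]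
  simp

variable {ι : Type} [Fintype ι] (r : ι → Ideal R) [∀ i, (r i).IsPrime] {a b : R}

/-- the comparison map `R/(ab) → ∏ R/sat_i(ab)` -/
noncomputable def compMap (a b : R) :
    (R ⧸ Ideal.span {a * b}) →ₗ[R] Π i, Mab (r i) a b :=
  LinearMap.pi fun i => Submodule.mapQ (Ideal.span {a * b}) (satI (r i) (Ideal.span {a * b}))
    LinearMap.id (le_satI _)

theorem compMap_mk (z : R) (i : ι) :
    compMap r a b (Ideal.Quotient.mk _ z) i = Ideal.Quotient.mk _ z := rfl

theorem sum_herbrand_eq_zero (ha : a ∈ nonZeroDivisors R) (hb : b ∈ nonZeroDivisors R)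
    (hV : ∀ i, TwoPrimes (r i)) (hinj : Function.Injective r)
    (hrm : ∀ i, r i ≠ maximalIdeal R)
    [∀ i, Ring.KrullDimLE 1 (Localization.AtPrime (r i))]
    (hall : ∀ P : Ideal R, P.IsPrime → a * b ∈ P → P = maximalIdeal R ∨ ∃ i, P = r i)
    (hfin : ∀ i, FinCoh R (mulE (Mab (r i) a b) a) (mulE (Mab (r i) a b) b)) :
    ∑ i, herbrand R (mulE (Mab (r i) a b) a) (mulE (Mab (r i) a b) b) = 0 := by
  classical
  obtain ⟨hfinN, hN⟩ := herbrand_quot_eq_zero ha hb
  rw [← herbrand_pi (fun i => Mab (r i) a b) a b hfin, ← hN]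
  symm
  have hab : a * b ∈ nonZeroDivisors R := mul_mem ha hb
  have hk : ∀ i, KillPow (r i) (Mab (r i) a b) := fun i =>
    killPow_quot_satI (IsLocalization.map_nonZeroDivisors_le (r i).primeCompl _ ⟨_, hab, rfl⟩)
  -- `ab` kills everything
  have hkillN : ∀ z : R ⧸ Ideal.span {a * b}, (a * b) • z = 0 := by
    intro z
    obtain ⟨z, rfl⟩ := Ideal.Quotient.mk_surjective z
    rw [Algebra.smul_def, Ideal.Quotient.algebraMap_eq, ← map_mul,
      Ideal.Quotient.eq_zero_iff_mem]
    exact Ideal.mul_mem_right _ _ (Ideal.mem_span_singleton_self _)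
  have hkillM : ∀ i (z : Mab (r i) a b), (a * b) • z = 0 := by
    intro i z
    have := mulE_eq_zero_of_mem (r := r i) (le_satI _ (Ideal.mem_span_singleton_self (a * b)))
    exact LinearMap.congr_fun this z
  have hincomp : ∀ i j, i ≠ j → ¬ r i ≤ r j := by
    intro i j hij hle
    rcases hV i (r j) inferInstance hle with h | h
    · exact hij (hinj h.symm)
    · exact hrm j h
  apply Groth.Agent.S1870.result (mulE _ a) (mulE _ b) (mulE _ a) (mulE _ b)
    ⟨by rw [mulE_comp]; exact mulE_eq_zero_of_forall _ hkillN,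
     by rw [mulE_comp, mul_comm b a]; exact mulE_eq_zero_of_forall _ hkillN⟩
    ⟨by rw [mulE_comp]; exact mulE_eq_zero_of_forall _ (fun z => funext fun i => hkillM i (z i)),
     by rw [mulE_comp, mul_comm b a];
        exact mulE_eq_zero_of_forall _ (fun z => funext fun i => hkillM i (z i))⟩
    (compMap r a b)
    (by ext z; simp) (by ext z; simp)
    hfinN (finCoh_pi _ a b hfin)
  · -- the kernel has finite length
    haveI : IsNoetherian R (R ⧸ Ideal.span {a * b}) :=
      isNoetherian_of_isNoetherianRing_of_finite R _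
    rw [lt_top_iff_ne_top, Module.length_ne_top_iff]
    apply Groth.Agent.Lib.helper8.StalkLen.isFiniteLength_of_support_isMaximal
    intro Q hQ
    by_contra hQm
    have hQm' : Q.asIdeal ≠ maximalIdeal R := fun h => hQm (h ▸ inferInstance)
    apply (Module.notMem_support_iff'.2 ?_) hQ
    rintro ⟨z, hz⟩
    by_cases ht : a * b ∈ Q.asIdeal
    · rcases hall Q.asIdeal Q.2 ht with h | ⟨j, hj⟩
      · exact absurd h hQm'
      · obtain ⟨z, rfl⟩ := Ideal.Quotient.mk_surjective z
        have h1 : compMap r a b (Ideal.Quotient.mk _ z) j = 0 := by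
          rw [LinearMap.mem_ker] at hz
          rw [hz]
          rfl
        rw [compMap_mk, Ideal.Quotient.eq_zero_iff_mem, mem_satI] at h1
        obtain ⟨s, hs, hsz⟩ := h1
        refine ⟨s, by rwa [hj], Subtype.ext ?_⟩
        change s • Ideal.Quotient.mk _ z = 0
        rw [Algebra.smul_def, Ideal.Quotient.algebraMap_eq, ← map_mul,
          Ideal.Quotient.eq_zero_iff_mem]
        exact hsz
    · exact ⟨a * b, ht, Subtype.ext (hkillN z)⟩
  · -- the cokernel has finite length
    haveI : ∀ i, Module.Finite R (Mab (r i) a b) := fun i => inferInstance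
    rw [lt_top_iff_ne_top, Module.length_ne_top_iff]
    apply Groth.Agent.Lib.helper8.StalkLen.isFiniteLength_of_support_isMaximal
    intro Q hQ
    by_contra hQm
    have hQm' : Q.asIdeal ≠ maximalIdeal R := fun h => hQm (h ▸ inferInstance)
    apply (Module.notMem_support_iff'.2 ?_) hQ
    intro y
    obtain ⟨y, rfl⟩ := Submodule.Quotient.mk_surjective _ y
    by_cases ht : a * b ∈ Q.asIdeal
    · rcases hall Q.asIdeal Q.2 ht with h | ⟨j, hj⟩
      · exact absurd h hQm'
      · -- elements killing the other factors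
        have hex : ∀ i, i ≠ j → ∃ c : R, c ∉ r j ∧ ∀ z : Mab (r i) a b, c • z = 0 := by
          intro i hij
          obtain ⟨c, hc, hcj⟩ := SetLike.not_le_iff_exists.1 (hincomp i j hij)
          obtain ⟨k, hk'⟩ := hk i
          exact ⟨c ^ k, fun h => hcj (Ideal.IsPrime.mem_of_pow_mem inferInstance k h),
            hk' _ (Ideal.pow_mem_pow hc k)⟩
        choose! c hc hckill using hex
        set s : R := ∏ i ∈ Finset.univ.erase j, c i with hs
        have hsj : s ∉ r j := by
          rw [hs, Ideal.IsPrime.prod_mem_iff]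
          rintro ⟨i, hi, hmem⟩
          exact hc i (Finset.ne_of_mem_erase hi) hmem
        have hskill : ∀ i, i ≠ j → ∀ z : Mab (r i) a b, s • z = 0 := by
          intro i hij z
          have hdvd : c i ∣ s := Finset.dvd_prod_of_mem _ (Finset.mem_erase.2 ⟨hij, Finset.mem_univ _⟩)
          obtain ⟨d, hd⟩ := hdvd
          rw [hd, mul_comm (c i) d, mul_smul, hckill i hij, smul_zero]
        obtain ⟨w, hw⟩ := Ideal.Quotient.mk_surjective (y j)
        refine ⟨s, by rwa [hj], ?_⟩
        rw [← Submodule.Quotient.mk_smul, Submodule.Quotient.mk_eq_zero]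
        refine ⟨Ideal.Quotient.mk _ (s * w), ?_⟩
        ext i
        rw [compMap_mk]
        by_cases hij : i = j
        · subst hij
          rw [Pi.smul_apply, ← hw, Algebra.smul_def, Ideal.Quotient.algebraMap_eq, ← map_mul]
        · rw [Pi.smul_apply, hskill i hij, map_mul, ← Ideal.Quotient.algebraMap_eq,
            ← Algebra.smul_def, hskill i hij]
    · refine ⟨a * b, ht, ?_⟩
      rw [← Submodule.Quotient.mk_smul, Submodule.Quotient.mk_eq_zero]
      have : (a * b) • y = 0 := funext fun i => hkillM i (y i)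
      rw [this]
      exact zero_mem _

end decomp

end Groth.Agent.Lib.helper2.Key
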