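import Mathlib

/-!
# Dimension-one facts for integral extensions and localizations (helper2)

* `krullDimLE_one_of_isIntegral`: a domain integral over a domain of dimension `≤ 1` has
  dimension `≤ 1`.
* `krullDimLE_one_of_isLocalization`: a localization of a domain of dimension `≤ 1` has
  dimension `≤ 1`.
* `isLocalHom_of_isIntegral_atPrime`: for `A` local, `C` integral over `A` and `O` the
  localization of `C` at a maximal ideal, `A → O` is local.
-/

set_option autoImplicit false
universe u v w

namespace Groth.Agent.Lib.helper2.NormOrd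

theorem krullDimLE_one_of_isIntegral (A : Type u) (C : Type v) [CommRing A] [IsDomain A]
    [CommRing C] [IsDomain C] [Algebra A C] [Algebra.IsIntegral A C] [Ring.KrullDimLE 1 A] :
    Ring.KrullDimLE 1 C := by
  rw [Ring.krullDimLE_one_iff_of_noZeroDivisors]
  intro P hP hPprime
  have h1 : P.comap (algebraMap A C) ≠ ⊥ := Ideal.IsIntegral.comap_ne_bot A hP
  have h2 : (P.comap (algebraMap A C)).IsMaximal :=
    Ring.krullDimLE_one_iff_of_noZeroDivisors.mp inferInstance _ h1 inferInstance
  exact Ideal.isMaximal_of_isIntegral_of_isMaximal_comap P h2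

theorem krullDimLE_one_of_isLocalization (C : Type u) [CommRing C] [IsDomain C]
    [Ring.KrullDimLE 1 C] (M : Submonoid C) (S : Type v) [CommRing S] [IsDomain S] [Algebra C S]
    [IsLocalization M S] : Ring.KrullDimLE 1 S := by
  rw [Ring.krullDimLE_one_iff_of_noZeroDivisors]
  intro Q hQ hQprime
  have hQ' : Q.comap (algebraMap C S) ≠ ⊥ := by
    intro h
    apply hQ
    rw [← IsLocalization.map_under M S Q, Ideal.under_def, h, Ideal.map_bot]
  have hmax : (Q.comap (algebraMap C S)).IsMaximal :=
    Ring.krullDimLE_one_iff_of_noZeroDivisors.mp inferInstance _ hQ' inferInstance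
  rw [Ideal.isMaximal_def]
  refine ⟨hQprime.ne_top, ?_⟩
  intro J hJ
  by_contra hJtop
  have h1 : Q.comap (algebraMap C S) ≤ J.comap (algebraMap C S) := Ideal.comap_mono hJ.le
  have h2 : J.comap (algebraMap C S) ≠ ⊤ := by
    rw [Ne, Ideal.comap_eq_top_iff]
    exact hJtop
  have h3 := hmax.eq_of_le h2 h1
  have h4 : Q = J := by
    rw [← IsLocalization.map_under M S Q, ← IsLocalization.map_under M S J, Ideal.under_def,
      Ideal.under_def, h3]
  exact (ne_of_lt hJ) h4

theorem comap_maximalIdeal_of_isIntegral_atPrime (A : Type u) [CommRing A] [IsLocalRing A]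
    (C : Type v) [CommRing C] [Algebra A C] [Algebra.IsIntegral A C] (𝔪 : Ideal C) [𝔪.IsMaximal]
    (O : Type w) [CommRing O] [IsLocalRing O] [Algebra C O] [IsLocalization.AtPrime O 𝔪]
    [Algebra A O] [IsScalarTower A C O] :
    (IsLocalRing.maximalIdeal O).comap (algebraMap A O) = IsLocalRing.maximalIdeal A := by
  have h1 : (IsLocalRing.maximalIdeal O).comap (algebraMap C O) = 𝔪 :=
    IsLocalization.AtPrime.under_maximalIdeal O 𝔪
  have h2 : (IsLocalRing.maximalIdeal O).comap (algebraMap A O) = 𝔪.comap (algebraMap A C) := by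
    rw [IsScalarTower.algebraMap_eq A C O, ← Ideal.comap_comap, h1]
  rw [h2]
  exact IsLocalRing.eq_maximalIdeal (Ideal.isMaximal_comap_of_isIntegral_of_isMaximal 𝔪)

theorem isLocalHom_of_isIntegral_atPrime (A : Type u) [CommRing A] [IsLocalRing A]
    (C : Type v) [CommRing C] [Algebra A C] [Algebra.IsIntegral A C] (𝔪 : Ideal C) [𝔪.IsMaximal]
    (O : Type w) [CommRing O] [IsLocalRing O] [Algebra C O] [IsLocalization.AtPrime O 𝔪]
    [Algebra A O] [IsScalarTower A C O] : IsLocalHom (algebraMap A O) :=
  ((IsLocalRing.local_hom_TFAE (algebraMap A O)).out 0 4 rfl rfl).mpr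
    (comap_maximalIdeal_of_isIntegral_atPrime A C 𝔪 O)

end Groth.Agent.Lib.helper2.NormOrd
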