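import Groth.Agent.Lib.Helper2.SemiLocal1

/-!
# Semi-local length formula with arbitrary models of the localizations (helper2)

* `length_eq_sum_semilocal`: `ℓ_A(M) = ∑ i, ℓ_{O i}(N i) · ℓ_{κ(A)}(κ(O i))`.
-/

set_option autoImplicit false
universe u v w

namespace Groth.Agent.Lib.helper2.SemiLocal

open IsLocalRing

theorem length_eq_sum_semilocal (A : Type u) (C : Type v) [CommRing A] [IsLocalRing A]
    [CommRing C] [Algebra A C]
    {ι : Type*} [Fintype ι] (𝔪 : ι → Ideal C) [∀ i, (𝔪 i).IsMaximal]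
    (h𝔪inj : Function.Injective 𝔪)
    (h𝔪surj : ∀ I : Ideal C, I.IsMaximal → ∃ i, 𝔪 i = I)
    (O : ι → Type w) [∀ i, CommRing (O i)] [∀ i, IsLocalRing (O i)] [∀ i, Algebra C (O i)]
    [∀ i, Algebra A (O i)] [∀ i, IsScalarTower A C (O i)]
    [∀ i, IsLocalHom (algebraMap A (O i))]
    (M : Type w) [AddCommGroup M] [Module C M] [Module A M] [IsScalarTower A C M]
    (hM : IsFiniteLength C M)
    (N : ι → Type w) [∀ i, AddCommGroup (N i)] [∀ i, Module C (N i)] [∀ i, Module (O i) (N i)]
    [∀ i, IsScalarTower C (O i) (N i)]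
    (g : ∀ i, M →ₗ[C] N i) [∀ i, IsLocalizedModule (𝔪 i).primeCompl (g i)] :
    Module.length A M =
      ∑ i, Module.length (O i) (N i) * Module.length (ResidueField A) (ResidueField (O i)) := by
  rw [length_eq_sum_localizedModule A C 𝔪 h𝔪inj h𝔪surj M hM]
  refine Finset.sum_congr rfl fun i _ => ?_
  letI : Module A (N i) := Module.compHom (N i) (algebraMap A (O i))
  haveI : IsScalarTower A (O i) (N i) := ⟨fun a o n => by
    show (a • o) • n = algebraMap A (O i) a • (o • n)
    rw [Algebra.smul_def, mul_smul]⟩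
  haveI : IsScalarTower A C (N i) := ⟨fun a c n => by
    show (a • c) • n = algebraMap A (O i) a • (c • n)
    rw [Algebra.smul_def, mul_smul, ← algebraMap_smul (O i) (algebraMap A C a) (c • n),
      ← IsScalarTower.algebraMap_apply]⟩
  rw [((IsLocalizedModule.iso (𝔪 i).primeCompl (g i)).restrictScalars A).length_eq]
  exact IsLocalRing.length_restrictScalars A (O i) (N i)

end Groth.Agent.Lib.helper2.SemiLocal
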