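import Mathlib
import Groth.Agent.Lib.Helper15.HerbLen2

/-!
# Tame symbols, part 1: a unit-coefficient homogeneous relation between two elements (helper2)

`A` a one-dimensional Noetherian local ring, `K` its total ring of fractions, `B ⊆ K` a finite
`A`-subalgebra, `x y ∈ B` with `x` a unit of `K`.  Then there is a homogeneous relation
`∑ c_i x^i y^(d-i) = 0` with coefficients in `A`, one of which is a unit (`exists_relation`).
-/

set_option autoImplicit false
universe u

namespace Groth.Agent.Lib.helper2.Tame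

open Groth.Agent.Lib.helper15.RelLen

section herbrand

variable {R : Type*} [CommRing R] {P : Type*} [AddCommGroup P] [Module R P]

theorem rl_map_inj' (φ : P →ₗ[R] P) (hφ : Function.Injective φ) (Q N : Submodule R P) :
    rl (Q.map φ) (N.map φ) = rl Q N := by
  rw [← rl_map, Submodule.comap_map_eq_of_injective hφ]

theorem rl_anti_left' {Q₁ Q₂ S : Submodule R P} (h1 : Q₁ ≤ Q₂) (h2 : Q₂ ≤ S) :
    rl Q₂ S ≤ rl Q₁ S := by
  rw [rl_add h1 h2]
  exact le_self_add

/-- Herbrand invariance: `ℓ(N/φN) = ℓ(M/φM)` for `N ≤ M` of finite colength, `φ` injective. -/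
theorem rl_herbrand (φ : P →ₗ[R] P) (hφ : Function.Injective φ) (N M : Submodule R P)
    (hNM : N ≤ M) (hN : N.map φ ≤ N) (hM : M.map φ ≤ M) (hfin : rl N M ≠ ⊤) :
    rl (N.map φ) N = rl (M.map φ) M := by
  have h1 : rl (N.map φ) M = rl N M + rl (N.map φ) N := rl_add hN hNM
  have h2 : rl (N.map φ) M = rl (M.map φ) M + rl (N.map φ) (M.map φ) :=
    rl_add (Submodule.map_mono hNM) hM
  rw [rl_map_inj' φ hφ, add_comm] at h2
  rw [h1] at h2
  exact WithTop.add_left_cancel hfin h2

end herbrand

section lower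

variable {A : Type u} [CommRing A] [IsLocalRing A] {M : Type*} [AddCommGroup M] [Module A M]

theorem length_quot_maximalIdeal : Module.length A (A ⧸ IsLocalRing.maximalIdeal A) = 1 := by
  rw [Module.length_eq_one_iff, isSimpleModule_iff_isCoatom]
  exact Ideal.isMaximal_def.1 (IsLocalRing.maximalIdeal.isMaximal A)

/-- `n` elements that are independent modulo the maximal ideal span a module `J` with
`ℓ(J/𝔪J) ≥ n`. -/
theorem le_rl_of_indep (n : ℕ) (v : Fin n → M)
    (hv : ∀ c : Fin n → A, ∑ i, c i • v i = 0 → ∀ i, c i ∈ IsLocalRing.maximalIdeal A) :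
    (n : ℕ∞) ≤ rl (IsLocalRing.maximalIdeal A • Submodule.span A (Set.range v))
      (Submodule.span A (Set.range v)) := by
  classical
  set J := Submodule.span A (Set.range v) with hJ
  set m := IsLocalRing.maximalIdeal A with hm
  let f : (Fin n → A) →ₗ[A] ↥J := (Fintype.linearCombination A v).codRestrict J (fun c => by
    rw [hJ, ← Fintype.range_linearCombination]
    exact LinearMap.mem_range_self _ c)
  let g : (Fin n → A) →ₗ[A] (↥J ⧸ (m • J).submoduleOf J) := ((m • J).submoduleOf J).mkQ ∘ₗ f
  have hker : LinearMap.ker g ≤ Submodule.pi Set.univ (fun _ : Fin n => (m : Submodule A A)) := by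
    intro c hc
    rw [LinearMap.mem_ker] at hc
    change ((m • J).submoduleOf J).mkQ (f c) = 0 at hc
    rw [Submodule.mkQ_apply, Submodule.Quotient.mk_eq_zero] at hc
    have hc' : (∑ i, c i • v i) ∈ m • Submodule.span A (Set.range v) := by
      have : ((f c : ↥J) : M) ∈ m • J := hc
      simpa [f, Fintype.linearCombination_apply] using this
    rw [Submodule.mem_ideal_smul_span_iff_exists_sum] at hc'
    obtain ⟨a, ha, hsum⟩ := hc'
    rw [Finsupp.sum_fintype _ _ (fun i => zero_smul A (v i))] at hsum
    have h0 : ∑ i, (c i - a i) • v i = 0 := by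
      simp only [sub_smul, Finset.sum_sub_distrib, hsum, sub_self]
    have := hv (fun i => c i - a i) h0
    intro i _
    have h1 := this i
    have h2 := ha i
    have : c i = (c i - a i) + a i := by ring
    change c i ∈ m
    rw [this]
    exact Ideal.add_mem _ h1 h2
  unfold rl
  calc (n : ℕ∞) = Module.length A (Fin n → A ⧸ m) := by
        rw [Module.length_pi_of_fintype]
        simp only [Finset.sum_const, Finset.card_univ, Fintype.card_fin, nsmul_eq_mul]
        rw [hm, length_quot_maximalIdeal, mul_one]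
    _ = Module.length A ((Fin n → A) ⧸ Submodule.pi Set.univ (fun _ : Fin n => (m : Submodule A A))) :=
        (Submodule.quotientPi (fun _ : Fin n => (m : Submodule A A))).length_eq.symm
    _ ≤ Module.length A ((Fin n → A) ⧸ LinearMap.ker g) :=
        Module.length_le_of_surjective (Submodule.factor hker) (Submodule.factor_surjective hker)
    _ = Module.length A (LinearMap.range g) := (g.quotKerEquivRange).length_eq
    _ ≤ Module.length A (↥J ⧸ (m • J).submoduleOf J) :=
        Module.length_le_of_injective (LinearMap.range g).subtype (Submodule.subtype_injective _)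

end lower

section relation

variable {A : Type u} [CommRing A] [IsNoetherianRing A] [IsLocalRing A]
  {K : Type u} [CommRing K] [Algebra A K] [IsFractionRing A K]

/-- multiplication by `z : K` as an `A`-linear endomorphism of `K` -/
noncomputable abbrev mulL (A : Type u) [CommRing A] {K : Type u} [CommRing K] [Algebra A K] (z : K) :
    K →ₗ[A] K := LinearMap.mulLeft A z

omit [IsNoetherianRing A] [IsLocalRing A] [IsFractionRing A K] in
theorem mulL_injective {z : K} (hz : IsUnit z) : Function.Injective (mulL A z) := by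
  intro a b hab
  exact hz.mul_right_injective hab

omit [IsNoetherianRing A] [IsLocalRing A] in
/-- common denominator of a finitely generated submodule -/
theorem exists_denominator (N : Submodule A K) (hN : N.FG) :
    ∃ c ∈ nonZeroDivisors A, ∀ z ∈ N, ∃ a : A, c • z = algebraMap A K a := by
  classical
  obtain ⟨G, hG⟩ := hN
  obtain ⟨b, hb⟩ := IsLocalization.exist_integer_multiples_of_finset (nonZeroDivisors A) G
  refine ⟨b, b.2, ?_⟩
  have : N ≤ (LinearMap.range (Algebra.linearMap A K)).comap (LinearMap.lsmul A K (b : A)) := by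
    rw [← hG, Submodule.span_le]
    intro g hg
    obtain ⟨a, ha⟩ := hb g hg
    exact ⟨a, by simpa using ha⟩
  intro z hz
  obtain ⟨a, ha⟩ := this hz
  exact ⟨a, by simpa using ha.symm⟩

omit [IsNoetherianRing A] [IsLocalRing A] in
/-- a unit of `K` is a quotient of nonzerodivisors -/
theorem exists_num_den {x : K} (hx : IsUnit x) :
    ∃ p ∈ nonZeroDivisors A, ∃ s ∈ nonZeroDivisors A, x * algebraMap A K s = algebraMap A K p := by
  obtain ⟨⟨p, s⟩, h⟩ := IsLocalization.surj (nonZeroDivisors A) x
  refine ⟨p, ?_, s, s.2, h⟩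
  have hu : IsUnit (algebraMap A K p) := by
    rw [← h]
    exact hx.mul (IsLocalization.map_units K s)
  rw [mem_nonZeroDivisors_iff_right]
  intro z hz
  apply IsFractionRing.injective A K
  rw [map_zero]
  have : algebraMap A K z * algebraMap A K p = 0 := by rw [← map_mul, hz, map_zero]
  exact hu.mul_left_eq_zero.1 this

/-- finite colength of a submodule containing a nonzerodivisor multiple -/
theorem rl_ne_top (hA : ringKrullDim A = 1) (N M : Submodule A K) (hM : M.FG) {c : A}
    (hc : c ∈ nonZeroDivisors A) (hcN : ∀ z ∈ M, c • z ∈ N) : rl N M ≠ ⊤ := by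
  haveI : Module.Finite A ↥M := Module.Finite.iff_fg.2 hM
  have := Groth.Agent.Lib.helper15.HerbLen.length_quot_lt_top (M := ↥M) hA (N.submoduleOf M) hc
    (fun z => hcN z.1 z.2)
  exact this.ne

/-- **The relation.** -/
theorem exists_relation (hA : ringKrullDim A = 1) (B : Subalgebra A K) (hB : B.toSubmodule.FG)
    (x y : K) (hx : x ∈ B) (hy : y ∈ B) (hxu : IsUnit x) (c₀ : A) (hc₀ : c₀ ∈ nonZeroDivisors A)
    (hc₀m : c₀ ∈ IsLocalRing.maximalIdeal A) :
    ∃ (d : ℕ) (c : Fin (d + 1) → A), (∃ i, IsUnit (c i)) ∧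
      ∑ i : Fin (d + 1), c i • (x ^ (d - (i : ℕ)) * y ^ (i : ℕ)) = 0 := by
  classical
  set Bm := B.toSubmodule with hBm
  set φ := mulL A (algebraMap A K c₀) with hφ
  have hφinj : Function.Injective φ :=
    mulL_injective (IsLocalization.map_units K (⟨c₀, hc₀⟩ : nonZeroDivisors A))
  have hφsmul : ∀ z : K, φ z = c₀ • z := fun z => by
    simp [hφ, mulL, Algebra.smul_def]
  have hmapφ : ∀ N : Submodule A K, N.map φ ≤ N := by
    intro N z hz
    obtain ⟨w, hw, rfl⟩ := hz
    rw [hφsmul]
    exact N.smul_mem _ hw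
  have he : rl (Bm.map φ) Bm ≠ ⊤ := by
    apply rl_ne_top hA _ _ hB hc₀
    intro z hz
    exact ⟨z, hz, hφsmul z⟩
  set d := (rl (Bm.map φ) Bm).toNat with hd
  by_contra hcon
  push Not at hcon
  let mon : Fin (d + 1) → K := fun i => x ^ (d - (i : ℕ)) * y ^ (i : ℕ)
  have hv : ∀ c : Fin (d + 1) → A, ∑ i, c i • mon i = 0 →
      ∀ i, c i ∈ IsLocalRing.maximalIdeal A := by
    intro c hc i
    by_contra hi
    exact hcon d c ⟨i, IsLocalRing.notMem_maximalIdeal.1 hi⟩ hc
  set J := Submodule.span A (Set.range mon) with hJ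
  have hJB : J ≤ Bm := by
    rw [hJ, Submodule.span_le]
    rintro _ ⟨i, rfl⟩
    exact B.mul_mem (B.pow_mem hx _) (B.pow_mem hy _)
  have h1 := le_rl_of_indep (A := A) (d + 1) mon hv
  have h2 : rl (IsLocalRing.maximalIdeal A • J) J ≤ rl (J.map φ) J := by
    apply rl_anti_left' _ Submodule.smul_le_right
    intro z hz
    obtain ⟨w, hw, rfl⟩ := hz
    rw [hφsmul]
    exact Submodule.smul_mem_smul hc₀m hw
  -- finite colength of `J` in `B`
  have hJfin : rl J Bm ≠ ⊤ := by
    obtain ⟨c₁, hc₁, hc₁B⟩ := exists_denominator Bm hB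
    obtain ⟨p, hp, s, hs, hps⟩ := exists_num_den (A := A) hxu
    apply rl_ne_top hA _ _ hB (mul_mem (pow_mem hp d) hc₁)
    intro z hz
    obtain ⟨a, ha⟩ := hc₁B z hz
    have hmond : mon ⟨0, Nat.succ_pos d⟩ = x ^ d := by simp [mon]
    have : (p ^ d * c₁) • z = (s ^ d * a) • mon ⟨0, Nat.succ_pos d⟩ := by
      rw [hmond, mul_smul, ha, Algebra.smul_def, Algebra.smul_def, map_mul, map_pow, map_pow,
        ← hps]
      ring
    rw [this]
    exact Submodule.smul_mem _ _ (Submodule.subset_span ⟨_, rfl⟩)
  have h3 := rl_herbrand φ hφinj J Bm hJB (hmapφ J) (hmapφ Bm) hJfin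
  have h4 : ((d + 1 : ℕ) : ℕ∞) ≤ rl (Bm.map φ) Bm := by
    rw [← h3]
    exact h1.trans h2
  rw [← ENat.natCast_toNat he, ← hd] at h4
  have := ENat.natCast_le_natCast.1 h4
  omega

end relation

end Groth.Agent.Lib.helper2.Tame
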