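import Mathlib
import Groth.Agent.Lib.Helper2.Tame1
import Groth.Agent.Lib.Helper2.SemiLocal2
import Groth.Agent.Lib.Helper15.RelLen3
import Groth.Prelude.Def_CycAlg

/-!
# Tame symbols, part 11: lengths of `B/xB` over the base ring (helper2)

* `length_quot_eq_sum_ord`: `ℓ_A(B/xB) = ∑_q ord_{B_q}(x) [κ(q):κ]` for a semilocal `A`-algebra `B`.
* `length_quot_eq_of_injective`: Herbrand invariance `ℓ_A(B/xB) = ℓ_A(B'/xB')` along an injective
  algebra map `B → B'` with cokernel of finite length.
* `length_quot_ne_top_of_isFinExt`.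
-/

set_option autoImplicit false
universe u

namespace Groth.Agent.Lib.helper2.Tame

open IsLocalRing Groth.Agent.Lib.helper15.RelLen Groth.Agent.Lib.helper2.SemiLocal

section sum

variable (A : Type u) [CommRing A] [IsLocalRing A] (B : Type u) [CommRing B] [Algebra A B]
  [Fintype (MaximalSpectrum B)]
  [∀ q : MaximalSpectrum B, IsLocalHom (algebraMap A (Localization.AtPrime q.asIdeal))]

theorem length_quot_eq_sum_ord (x : B) (hfin : IsFiniteLength B (B ⧸ Ideal.span {x})) :
    Module.length A (B ⧸ Ideal.span {x}) =
      ∑ q : MaximalSpectrum B, Ring.ord (Localization.AtPrime q.asIdeal)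
          (algebraMap B (Localization.AtPrime q.asIdeal) x) *
        Module.length (ResidueField A) (ResidueField (Localization.AtPrime q.asIdeal)) := by
  haveI : ∀ q : MaximalSpectrum B, q.asIdeal.IsMaximal := fun q => q.isMaximal
  have key := length_eq_sum_semilocal A B (fun q : MaximalSpectrum B => q.asIdeal)
    (fun q q' h => MaximalSpectrum.ext h) (fun I hI => ⟨⟨I, hI⟩, rfl⟩)
    (fun q => Localization.AtPrime q.asIdeal) (B ⧸ Ideal.span {x}) hfin
    (fun q => Localization.AtPrime q.asIdeal ⧸ (Ideal.span {x}).localized'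
      (Localization.AtPrime q.asIdeal) q.asIdeal.primeCompl
      (Algebra.linearMap B (Localization.AtPrime q.asIdeal)))
    (fun q => (Ideal.span {x}).toLocalizedQuotient' (Localization.AtPrime q.asIdeal)
      q.asIdeal.primeCompl (Algebra.linearMap B (Localization.AtPrime q.asIdeal)))
  rw [key]
  refine Finset.sum_congr rfl fun q _ => ?_
  congr 1
  have e : (Ideal.span {x}).localized' (Localization.AtPrime q.asIdeal) q.asIdeal.primeCompl
      (Algebra.linearMap B (Localization.AtPrime q.asIdeal)) =
      Ideal.span {algebraMap B (Localization.AtPrime q.asIdeal) x} := by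
    rw [Ideal.localized'_eq_map, Ideal.map_span, Set.image_singleton]
  exact (Submodule.quotEquivOfEq _ _ e).length_eq

end sum

section herbrand

variable (A : Type u) [CommRing A] {B B' : Type u} [CommRing B] [CommRing B'] [Algebra A B]
  [Algebra A B']

theorem length_quot_span_eq_rl (x : B) :
    Module.length A (B ⧸ Ideal.span {x}) =
      rl ((⊤ : Submodule A B).map (LinearMap.mulLeft A x)) ⊤ := by
  rw [rl_top]
  have e : (⊤ : Submodule A B).map (LinearMap.mulLeft A x) =
      (Ideal.span {x}).restrictScalars A := by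
    ext y
    simp only [Submodule.mem_map, Submodule.mem_top, true_and, LinearMap.mulLeft_apply,
      Submodule.restrictScalars_mem, Ideal.mem_span_singleton']
    constructor
    · rintro ⟨z, rfl⟩; exact ⟨z, mul_comm _ _⟩
    · rintro ⟨z, rfl⟩; exact ⟨z, mul_comm _ _⟩
  rw [e]
  exact (Submodule.Quotient.restrictScalarsEquiv A (Ideal.span {x})).length_eq.symm

/-- Herbrand invariance along an injective algebra map with cokernel of finite length -/
theorem length_quot_eq_of_injective (j : B →ₐ[A] B') (hj : Function.Injective j) (x : B)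
    (hx : ∀ b : B', j x * b = 0 → b = 0)
    (hfin : Module.length A (B' ⧸ LinearMap.range j.toLinearMap) ≠ ⊤) :
    Module.length A (B ⧸ Ideal.span {x}) = Module.length A (B' ⧸ Ideal.span {j x}) := by
  rw [length_quot_span_eq_rl A x, length_quot_span_eq_rl A (j x)]
  set φ : B' →ₗ[A] B' := LinearMap.mulLeft A (j x) with hφ
  have hφinj : Function.Injective φ := by
    rw [← LinearMap.ker_eq_bot, LinearMap.ker_eq_bot']
    intro b hb
    exact hx b hb
  set N : Submodule A B' := LinearMap.range j.toLinearMap with hN
  have h := rl_herbrand φ hφinj N ⊤ le_top ?_ le_top (by rw [rl_top]; exact hfin)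
  · rw [← h]
    have e1 : N = (⊤ : Submodule A B).map j.toLinearMap := by rw [hN, Submodule.map_top]
    have e2 : N.map φ = (((⊤ : Submodule A B).map (LinearMap.mulLeft A x))).map j.toLinearMap := by
      rw [e1, ← Submodule.map_comp, ← Submodule.map_comp]
      congr 1
      ext b
      simp [hφ]
    rw [e2, e1, ← rl_map, Submodule.comap_map_eq_of_injective (f := j.toLinearMap) hj]
  · rintro _ ⟨_, ⟨b, rfl⟩, rfl⟩
    exact ⟨x * b, by simp [hφ]⟩

end herbrand

section finext

variable {A : Type u} [CommRing A] [IsNoetherianRing A] [IsLocalRing A] {B : Type u} [CommRing B]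
  [Algebra A B]

/-- quotients of `B/A` have finite length for a finite extension `B` with `B/A` killed by a power of
the maximal ideal -/
theorem length_quot_ne_top_of_isFinExt (h : CycAlg.IsFinExt A B (maximalIdeal A))
    (N : Submodule A B) (hN : LinearMap.range (Algebra.linearMap A B) ≤ N) :
    Module.length A (B ⧸ N) ≠ ⊤ := by
  obtain ⟨-, hfin, n, hn⟩ := h
  haveI := hfin
  rw [Module.length_ne_top_iff]
  apply Groth.Agent.Lib.helper8.StalkLen.isFiniteLength_of_support_isMaximal
  intro Q hQ
  have hann : maximalIdeal A ^ n ≤ Module.annihilator A (B ⧸ N) := by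
    intro r hr
    rw [Module.mem_annihilator]
    intro y
    obtain ⟨b, rfl⟩ := Submodule.Quotient.mk_surjective _ y
    rw [← Submodule.Quotient.mk_smul, Submodule.Quotient.mk_eq_zero]
    obtain ⟨a, ha⟩ := hn r hr b
    exact hN ⟨a, ha⟩
  have h1 : maximalIdeal A ^ n ≤ Q.asIdeal := hann.trans (Module.annihilator_le_of_mem_support hQ)
  have h2 : maximalIdeal A ≤ Q.asIdeal := Q.2.le_of_pow_le h1
  have h3 : Q.asIdeal = maximalIdeal A :=
    ((maximalIdeal.isMaximal A).eq_of_le Q.2.ne_top h2).symm
  rw [h3]
  exact maximalIdeal.isMaximal A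

end finext

end Groth.Agent.Lib.helper2.Tame
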