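import Mathlib
import Groth.Agent.Lib.Helper2.Tame10
import Groth.Agent.Lib.Helper2.Tame11
import Groth.Agent.Lib.Helper16.IntegralFree1

/-!
# Tame symbols, part 12: generalities on finite algebras over a one-dimensional local ring
(helper2)
-/

set_option autoImplicit false
universe u

namespace Groth.Agent.Lib.helper2.Tame

open IsLocalRing

section finiteAlg

variable (A : Type u) [CommRing A] [IsNoetherianRing A] [IsLocalRing A]
  (B : Type u) [CommRing B] [Algebra A B] [Module.Finite A B]

include A in
theorem isNoetherianRing_of_finite : IsNoetherianRing B :=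
  isNoetherian_of_tower A (isNoetherian_of_isNoetherianRing_of_finite A B)

theorem krullDimLE_one_of_finite (hA : ringKrullDim A = 1) : Ring.KrullDimLE 1 B := by
  rw [Ring.krullDimLE_iff]
  refine (ringKrullDim_le_of_isIntegral' (R := A) (S := B)).trans ?_
  rw [hA]
  rfl

include A in
theorem finite_maximalSpectrum : Finite (MaximalSpectrum B) :=
  Groth.Agent.Lib.helper16.IntegralFree.finite_maximalSpectrum_of_finite A B

variable {B}

/-- the residue field of `B_q` is finite over the residue field of `A` -/
theorem finite_residueField (q : MaximalSpectrum B)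
    [IsLocalHom (algebraMap A (Localization.AtPrime q.asIdeal))] :
    Module.Finite (ResidueField A) (ResidueField (Localization.AtPrime q.asIdeal)) := by
  haveI := q.isMaximal
  have hsurj : Function.Surjective
      ((IsScalarTower.toAlgHom A (Localization.AtPrime q.asIdeal)
        (ResidueField (Localization.AtPrime q.asIdeal))).comp
        (IsScalarTower.toAlgHom A B (Localization.AtPrime q.asIdeal))) := by
    intro y
    obtain ⟨y, rfl⟩ := residue_surjective y
    obtain ⟨z, hz⟩ := (IsLocalization.AtPrime.equivQuotMaximalIdeal q.asIdeal
      (Localization.AtPrime q.asIdeal)).surjective (Ideal.Quotient.mk _ y)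
    obtain ⟨b, rfl⟩ := Ideal.Quotient.mk_surjective z
    refine ⟨b, ?_⟩
    rw [IsLocalization.AtPrime.equivQuotMaximalIdeal_apply_mk] at hz
    exact hz
  haveI : Module.Finite A (ResidueField (Localization.AtPrime q.asIdeal)) :=
    Module.Finite.of_surjective ((IsScalarTower.toAlgHom A (Localization.AtPrime q.asIdeal)
        (ResidueField (Localization.AtPrime q.asIdeal))).comp
        (IsScalarTower.toAlgHom A B (Localization.AtPrime q.asIdeal))).toLinearMap hsurj
  exact Module.Finite.of_restrictScalars_finite A _ _

omit [IsNoetherianRing A] [IsLocalRing A] [Module.Finite A B] [Algebra A B] in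
/-- an element which is a nonzerodivisor at all maximal ideals is a nonzerodivisor -/
theorem eq_zero_of_mul_eq_zero_of_localization (x : B)
    (h : ∀ q : MaximalSpectrum B, algebraMap B (Localization.AtPrime q.asIdeal) x ∈
      nonZeroDivisors (Localization.AtPrime q.asIdeal)) (b : B) (hb : x * b = 0) : b = 0 := by
  apply eq_zero_of_localization
  intro J hJ
  have h1 := h ⟨J, hJ⟩
  have h2 : algebraMap B (Localization.AtPrime J) x * algebraMap B (Localization.AtPrime J) b =
      0 := by rw [← map_mul, hb, map_zero]
  exact (mul_right_mem_nonZeroDivisors_eq_zero_iff h1).1 (by rwa [mul_comm] at h2)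

omit [IsNoetherianRing A] [IsLocalRing A] [Module.Finite A B] [Algebra A B] in
theorem mem_nonZeroDivisors_of_localization (x : B)
    (h : ∀ q : MaximalSpectrum B, algebraMap B (Localization.AtPrime q.asIdeal) x ∈
      nonZeroDivisors (Localization.AtPrime q.asIdeal)) : x ∈ nonZeroDivisors B := by
  rw [mem_nonZeroDivisors_iff_right]
  intro b hb
  exact eq_zero_of_mul_eq_zero_of_localization x h b (by rwa [mul_comm])

end finiteAlg

end Groth.Agent.Lib.helper2.Tame
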