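import Mathlib
import Groth.Prelude.Def_Tame

/-!
# Tame symbols, part 9: the local factor and its behaviour under a local extension (helper2)
-/

set_option autoImplicit false
universe u

namespace Groth.Agent.Lib.helper2.Tame

open IsLocalRing

section basic

variable {O : Type u} [CommRing O]

/-- uniqueness of `unit * π ^ e` factorisations for a non-unit nonzerodivisor `π` -/
theorem unit_pow_unique {π : O} (hπ : π ∈ nonZeroDivisors O) (hπu : ¬ IsUnit π) {v v' : Oˣ}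
    {a b : ℕ} (h : (v : O) * π ^ a = v' * π ^ b) : a = b ∧ v = v' := by
  have key : ∀ {v v' : Oˣ} {a b : ℕ}, a ≤ b → (v : O) * π ^ a = v' * π ^ b → a = b ∧ v = v' := by
    intro v v' a b hab h
    obtain ⟨c, rfl⟩ := Nat.exists_eq_add_of_le hab
    have h1 : (v : O) * π ^ a = (v' * π ^ c) * π ^ a := by rw [h, pow_add]; ring
    have h2 : (v : O) = v' * π ^ c := mul_right_cancel₀' (pow_mem hπ a) h1
    have h3 : IsUnit (π ^ c) := by
      have : π ^ c = ((v'⁻¹ * v : Oˣ) : O) := by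
        rw [Units.val_mul, h2, ← mul_assoc, Units.inv_mul, one_mul]
      rw [this]
      exact Units.isUnit _
    have hc : c = 0 := by
      by_contra hc
      exact hπu ((isUnit_pow_iff hc).1 h3)
    subst hc
    refine ⟨rfl, ?_⟩
    rw [pow_zero, mul_one] at h2
    exact Units.ext h2
  rcases le_total a b with hab | hab
  · exact key hab h
  · obtain ⟨h1, h2⟩ := key hab h.symm
    exact ⟨h1.symm, h2.symm⟩
  where mul_right_cancel₀' {x y z : O} (hz : z ∈ nonZeroDivisors O) (h : x * z = y * z) : x = y :=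
    mul_cancel_right_mem_nonZeroDivisors hz |>.1 h

theorem neg_one_pow_sq_mul {R : Type*} [Ring R] (d E : ℕ) :
    (-1 : R) ^ (d * E * (d * 1)) = (-1) ^ (d * E) := by
  rcases Nat.even_or_odd d with hd | hd
  · rw [Even.neg_one_pow (by simp [hd]), Even.neg_one_pow (by simp [hd])]
  · rcases Nat.even_or_odd E with hE | hE
    · rw [Even.neg_one_pow (by simp [hE]), Even.neg_one_pow (by simp [hE])]
    · rw [Odd.neg_one_pow (by simp [hE, hd]), Odd.neg_one_pow (by simp [hE, hd])]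

end basic

section locfac

variable {A : Type u} [CommRing A] [IsLocalRing A]

/-- `θ = (-1)^{e₁e₂} ū₁^{e₂} ū₂^{-e₁}` -/
noncomputable def theta (O : Type u) [CommRing O] [IsLocalRing O] (u₁ u₂ : Oˣ) (e₁ e₂ : ℕ) :
    ResidueField O :=
  (-1 : ResidueField O) ^ (e₁ * e₂) * residue O (u₁ : O) ^ e₂ * (residue O (u₂ : O) ^ e₁)⁻¹

/-- the local factor `Norm(θ)^{ord π}` -/
noncomputable def lf (A : Type u) [CommRing A] [IsLocalRing A] (O : Type u) [CommRing O]
    [IsLocalRing O] [Algebra A O] [IsLocalHom (algebraMap A O)] (π : O) (u₁ u₂ : Oˣ)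
    (e₁ e₂ : ℕ) : ResidueField A :=
  (Algebra.norm (ResidueField A) (theta O u₁ u₂ e₁ e₂)) ^ (Ring.ord O π).toNat

theorem localFactor_eq_lf {a₁ a₂ : A} (D : CycAlg.TameData A a₁ a₂) (q : MaximalSpectrum D.B) :
    D.localFactor q =
      @lf A _ _ (Localization.AtPrime q.asIdeal) _ _ _ (D.isLocalHom q) (D.π q) (D.u₁ q) (D.u₂ q)
        (D.e₁ q) (D.e₂ q) := rfl

variable {O O' : Type u} [CommRing O] [CommRing O'] [IsLocalRing O] [IsLocalRing O']
  [Algebra A O] [Algebra A O'] [Algebra O O'] [IsScalarTower A O O']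
  [IsLocalHom (algebraMap A O)] [IsLocalHom (algebraMap A O')] [IsLocalHom (algebraMap O O')]

omit [IsLocalRing A] [Algebra A O] [Algebra A O'] [IsScalarTower A O O']
  [IsLocalHom (algebraMap A O)] [IsLocalHom (algebraMap A O')] in
theorem theta_of_compat (u₁ u₂ : Oˣ) (e₁ e₂ : ℕ) (u₁' u₂' : O'ˣ) (d : ℕ) (w : O'ˣ)
    (h1 : (u₁' : O') = algebraMap O O' u₁ * (w : O') ^ e₁)
    (h2 : (u₂' : O') = algebraMap O O' u₂ * (w : O') ^ e₂) :
    theta O' u₁' u₂' (d * e₁) (d * e₂) =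
      algebraMap (ResidueField O) (ResidueField O') (theta O u₁ u₂ e₁ e₂) ^ d := by
  unfold theta
  have hw : residue O' (w : O') ≠ 0 := (residue_ne_zero_iff_isUnit _).2 w.isUnit
  have hu1 : residue O (u₁ : O) ≠ 0 := (residue_ne_zero_iff_isUnit _).2 u₁.isUnit
  have hu2 : residue O (u₂ : O) ≠ 0 := (residue_ne_zero_iff_isUnit _).2 u₂.isUnit
  have hu2' : algebraMap (ResidueField O) (ResidueField O') (residue O (u₂ : O)) ≠ 0 := by
    rwa [Ne, map_eq_zero]
  rw [h1, h2, map_mul, map_mul, map_pow, map_pow, ← ResidueField.algebraMap_residue,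
    ← ResidueField.algebraMap_residue, map_mul, map_mul, map_pow, map_pow, map_inv₀, map_pow,
    map_neg, map_one]
  have hs : (-1 : ResidueField O') ^ (d * e₁ * (d * e₂)) = ((-1) ^ (e₁ * e₂)) ^ d := by
    rw [← pow_mul]
    have : d * e₁ * (d * e₂) = d * (e₁ * e₂) * (d * 1) := by ring
    rw [this, neg_one_pow_sq_mul, mul_comm]
  rw [hs]
  set U₁ := algebraMap (ResidueField O) (ResidueField O') (residue O (u₁ : O)) with hU₁
  set U₂ := algebraMap (ResidueField O) (ResidueField O') (residue O (u₂ : O)) with hU₂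
  set W := residue O' (w : O') with hW
  have hWW : W ^ (e₁ * (d * e₂)) * (W ^ (e₁ * (d * e₂)))⁻¹ = 1 :=
    mul_inv_cancel₀ (pow_ne_zero _ hw)
  have key : ((-1 : ResidueField O') ^ (e₁ * e₂)) ^ d * (U₁ * W ^ e₁) ^ (d * e₂) *
      ((U₂ * W ^ e₂) ^ (d * e₁))⁻¹ =
      ((-1) ^ (e₁ * e₂) * U₁ ^ e₂ * (U₂ ^ e₁)⁻¹) ^ d *
        (W ^ (e₁ * (d * e₂)) * (W ^ (e₁ * (d * e₂)))⁻¹) := by
    simp only [mul_pow, mul_inv, ← pow_mul, inv_pow]
    ring
  rw [key, hWW, mul_one]

/-- **Local comparison.** -/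
theorem lf_eq_of_compat {a₁ a₂ : A} (π : O) (u₁ u₂ : Oˣ) (e₁ e₂ : ℕ)
    (h₁ : algebraMap A O a₁ = u₁ * π ^ e₁) (h₂ : algebraMap A O a₂ = u₂ * π ^ e₂)
    (π' : O') (hπ' : π' ∈ nonZeroDivisors O') (u₁' u₂' : O'ˣ) (e₁' e₂' : ℕ)
    (h₁' : algebraMap A O' a₁ = u₁' * π' ^ e₁') (h₂' : algebraMap A O' a₂ = u₂' * π' ^ e₂')
    (d : ℕ) (w : O'ˣ) (hc : algebraMap O O' π = w * π' ^ d) :
    lf A O' π' u₁' u₂' e₁' e₂' =
      (Algebra.norm (ResidueField A) (theta O u₁ u₂ e₁ e₂)) ^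
        (d * Module.finrank (ResidueField O) (ResidueField O') * (Ring.ord O' π').toNat) := by
  unfold lf
  by_cases hu : IsUnit π'
  · rw [Ring.ord_of_isUnit hu]
    simp
  -- the factorisations in `O'`
  have hu1u : IsUnit (algebraMap O O' (u₁ : O)) := u₁.isUnit.map _
  have hu2u : IsUnit (algebraMap O O' (u₂ : O)) := u₂.isUnit.map _
  have f1 : algebraMap A O' a₁ = ((hu1u.unit * w ^ e₁ : O'ˣ) : O') * π' ^ (d * e₁) := by
    rw [IsScalarTower.algebraMap_apply A O O', h₁, map_mul, map_pow, hc]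
    push_cast
    rw [IsUnit.unit_spec, mul_pow, ← pow_mul]
    ring
  have f2 : algebraMap A O' a₂ = ((hu2u.unit * w ^ e₂ : O'ˣ) : O') * π' ^ (d * e₂) := by
    rw [IsScalarTower.algebraMap_apply A O O', h₂, map_mul, map_pow, hc]
    push_cast
    rw [IsUnit.unit_spec, mul_pow, ← pow_mul]
    ring
  obtain ⟨he1, hu1⟩ := unit_pow_unique hπ' hu (h₁'.symm.trans f1)
  obtain ⟨he2, hu2⟩ := unit_pow_unique hπ' hu (h₂'.symm.trans f2)
  have ht := theta_of_compat (O := O) (O' := O') u₁ u₂ e₁ e₂ u₁' u₂' d w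
    (by rw [hu1]; push_cast; rw [IsUnit.unit_spec])
    (by rw [hu2]; push_cast; rw [IsUnit.unit_spec])
  rw [he1, he2, ht, map_pow, ← Algebra.norm_norm (R := ResidueField A) (S := ResidueField O),
    Algebra.norm_algebraMap, map_pow, ← pow_mul, ← pow_mul]
  congr 1
  ring

end locfac

end Groth.Agent.Lib.helper2.Tame
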