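import Mathlib
import Groth.Agent.Lib.Helper2.Tame9
import Groth.Agent.Lib.Helper2.Tame12

/-!
# Tame symbols, part 13: comparison of tame data along a compatible finite extension (helper2)
-/

set_option autoImplicit false
universe u

namespace Groth.Agent.Lib.helper2.Tame

open IsLocalRing CycAlg

variable {A : Type u} [CommRing A] [IsNoetherianRing A] [IsLocalRing A] {a₁ a₂ : A}

section sumNat

variable (A) (B : Type u) [CommRing B] [Algebra A B] [Module.Finite A B]
  [Fintype (MaximalSpectrum B)]
  [∀ q : MaximalSpectrum B, IsLocalHom (algebraMap A (Localization.AtPrime q.asIdeal))]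

theorem ord_ne_top_of_finite (hA : ringKrullDim A = 1) (q : MaximalSpectrum B)
    {y : Localization.AtPrime q.asIdeal} (hy : y ∈ nonZeroDivisors (Localization.AtPrime q.asIdeal)) :
    Ring.ord (Localization.AtPrime q.asIdeal) y ≠ ⊤ := by
  haveI : IsNoetherianRing B := isNoetherianRing_of_finite A B
  haveI : IsNoetherianRing (Localization.AtPrime q.asIdeal) :=
    IsLocalization.isNoetherianRing q.asIdeal.primeCompl _ inferInstance
  haveI : Ring.KrullDimLE 1 (Localization.AtPrime q.asIdeal) :=
    krullDimLE_one_localization (R := A) hA q.asIdeal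
  exact Ring.ord_ne_top hy

theorem toNat_length_quot_eq_sum (hA : ringKrullDim A = 1) (x : B)
    (hx : ∀ q : MaximalSpectrum B, algebraMap B (Localization.AtPrime q.asIdeal) x ∈
      nonZeroDivisors (Localization.AtPrime q.asIdeal)) :
    Module.length A (B ⧸ Ideal.span {x}) ≠ ⊤ ∧
    (Module.length A (B ⧸ Ideal.span {x})).toNat =
      ∑ q : MaximalSpectrum B, (Ring.ord (Localization.AtPrime q.asIdeal)
          (algebraMap B (Localization.AtPrime q.asIdeal) x)).toNat *
        Module.finrank (ResidueField A) (ResidueField (Localization.AtPrime q.asIdeal)) := by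
  haveI : IsNoetherianRing B := isNoetherianRing_of_finite A B
  haveI : Ring.KrullDimLE 1 B := krullDimLE_one_of_finite A B hA
  have hxB : x ∈ nonZeroDivisors B := mem_nonZeroDivisors_of_localization x hx
  have hfinB : IsFiniteLength B (B ⧸ Ideal.span {x}) :=
    isFiniteLength_quotient_span_singleton B hxB
  have key := length_quot_eq_sum_ord A B x hfinB
  have hterm : ∀ q ∈ (Finset.univ : Finset (MaximalSpectrum B)),
      Ring.ord (Localization.AtPrime q.asIdeal) (algebraMap B (Localization.AtPrime q.asIdeal) x) *
        Module.length (ResidueField A) (ResidueField (Localization.AtPrime q.asIdeal)) ≠ ⊤ := by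
    intro q _
    haveI := finite_residueField A q
    rw [Module.length_eq_finrank]
    exact WithTop.mul_ne_top (ord_ne_top_of_finite A B hA q (hx q)) (ENat.natCast_ne_top _)
  refine ⟨by rw [key]; exact ENat.sum_ne_top.2 hterm, ?_⟩
  rw [key, ENat.toNat_sum hterm]
  refine Finset.sum_congr rfl fun q _ => ?_
  haveI := finite_residueField A q
  rw [ENat.toNat_mul, Module.length_eq_finrank, ENat.toNat_natCast]

end sumNat

section compare

variable (D D' : TameData A a₁ a₂) (j : D.B →ₐ[A] D'.B)

/-- contraction of maximal ideals along `j` -/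
def cmap (q' : MaximalSpectrum D'.B) : MaximalSpectrum D.B :=
  ⟨q'.asIdeal.comap (j : D.B →+* D'.B), by
    haveI : Module.Finite A D.B := D.isFinExt.2.1
    haveI : Module.Finite A D'.B := D'.isFinExt.2.1
    haveI := q'.isMaximal
    haveI : (q'.asIdeal.comap (j : D.B →+* D'.B)).IsPrime := Ideal.comap_isPrime _ _
    apply Ideal.isMaximal_of_isIntegral_of_isMaximal_comap (R := A)
    have : (q'.asIdeal.comap (j : D.B →+* D'.B)).comap (algebraMap A D.B) =
        q'.asIdeal.comap (algebraMap A D'.B) := by
      rw [Ideal.comap_comap]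
      congr 1
      exact j.comp_algebraMap
    rw [this]
    exact Ideal.isMaximal_comap_of_isIntegral_of_isMaximal (R := A) q'.asIdeal⟩

/-- the induced local homomorphism of localisations -/
noncomputable def locHom (q' : MaximalSpectrum D'.B) :
    Localization.AtPrime (cmap D D' j q').asIdeal →+* Localization.AtPrime q'.asIdeal :=
  Localization.localRingHom (cmap D D' j q').asIdeal q'.asIdeal (j : D.B →+* D'.B) rfl

theorem locHom_algebraMap (q' : MaximalSpectrum D'.B) (b : D.B) :
    locHom D D' j q' (algebraMap D.B _ b) = algebraMap D'.B _ (j b) :=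
  Localization.localRingHom_to_map _ _ _ rfl b

instance (q' : MaximalSpectrum D'.B) : IsLocalHom (locHom D D' j q') :=
  Localization.isLocalHom_localRingHom _ _ _ rfl

/-- the residue degree of `q'` over its contraction -/
noncomputable def resDeg (q' : MaximalSpectrum D'.B) : ℕ :=
  letI := (locHom D D' j q').toAlgebra
  haveI : IsLocalHom (algebraMap (Localization.AtPrime (cmap D D' j q').asIdeal)
      (Localization.AtPrime q'.asIdeal)) := inferInstanceAs (IsLocalHom (locHom D D' j q'))
  Module.finrank (ResidueField (Localization.AtPrime (cmap D D' j q').asIdeal))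
    (ResidueField (Localization.AtPrime q'.asIdeal))

theorem isScalarTower_loc (q' : MaximalSpectrum D'.B) :
    letI := (locHom D D' j q').toAlgebra
    IsScalarTower A (Localization.AtPrime (cmap D D' j q').asIdeal)
      (Localization.AtPrime q'.asIdeal) := by
  letI := (locHom D D' j q').toAlgebra
  refine IsScalarTower.of_algebraMap_eq fun a => ?_
  rw [RingHom.algebraMap_toAlgebra,
    IsScalarTower.algebraMap_apply A D.B (Localization.AtPrime (cmap D D' j q').asIdeal),
    locHom_algebraMap, AlgHom.commutes,
    ← IsScalarTower.algebraMap_apply A D'.B (Localization.AtPrime q'.asIdeal)]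

/-- the local factor of `D'` at `q'` in terms of the data of `D` at the contraction -/
theorem localFactor_eq_of_compat (q' : MaximalSpectrum D'.B) (d : ℕ)
    (w : (Localization.AtPrime q'.asIdeal)ˣ)
    (hdw : locHom D D' j q' (D.π (cmap D D' j q')) = w * D'.π q' ^ d) :
    D'.localFactor q' =
      haveI := D.isLocalHom (cmap D D' j q')
      (Algebra.norm (ResidueField A)
        (theta (Localization.AtPrime (cmap D D' j q').asIdeal) (D.u₁ (cmap D D' j q'))
          (D.u₂ (cmap D D' j q')) (D.e₁ (cmap D D' j q')) (D.e₂ (cmap D D' j q')))) ^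
        (d * resDeg D D' j q' * (Ring.ord (Localization.AtPrime q'.asIdeal) (D'.π q')).toNat) := by
  letI := (locHom D D' j q').toAlgebra
  haveI : IsLocalHom (algebraMap (Localization.AtPrime (cmap D D' j q').asIdeal)
      (Localization.AtPrime q'.asIdeal)) := inferInstanceAs (IsLocalHom (locHom D D' j q'))
  haveI := D.isLocalHom (cmap D D' j q')
  haveI := D'.isLocalHom q'
  haveI := isScalarTower_loc D D' j q'
  rw [localFactor_eq_lf]
  exact lf_eq_of_compat (D.π _) (D.u₁ _) (D.u₂ _) (D.e₁ _) (D.e₂ _) (D.fac₁ _) (D.fac₂ _)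
    (D'.π q') (D'.π_mem q') (D'.u₁ q') (D'.u₂ q') (D'.e₁ q') (D'.e₂ q') (D'.fac₁ q') (D'.fac₂ q')
    d w hdw

/-- order of the image of a global representative -/
theorem ord_image_of_compat (q' : MaximalSpectrum D'.B) (x : D.B)
    (w₀ : (Localization.AtPrime (cmap D D' j q').asIdeal)ˣ)
    (hx : algebraMap D.B (Localization.AtPrime (cmap D D' j q').asIdeal) x =
      w₀ * D.π (cmap D D' j q'))
    (d : ℕ) (w : (Localization.AtPrime q'.asIdeal)ˣ)
    (hdw : locHom D D' j q' (D.π (cmap D D' j q')) = w * D'.π q' ^ d) :
    algebraMap D'.B (Localization.AtPrime q'.asIdeal) (j x) ∈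
        nonZeroDivisors (Localization.AtPrime q'.asIdeal) ∧
      Ring.ord (Localization.AtPrime q'.asIdeal)
        (algebraMap D'.B (Localization.AtPrime q'.asIdeal) (j x)) =
        d • Ring.ord (Localization.AtPrime q'.asIdeal) (D'.π q') := by
  have h1 : algebraMap D'.B (Localization.AtPrime q'.asIdeal) (j x) =
      ((Units.map (locHom D D' j q' : _ →* _) w₀ * w : (Localization.AtPrime q'.asIdeal)ˣ) :
        Localization.AtPrime q'.asIdeal) * D'.π q' ^ d := by
    rw [← locHom_algebraMap, hx, map_mul, hdw]
    push_cast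
    simp only [Units.coe_map, MonoidHom.coe_coe]
    ring
  rw [h1]
  refine ⟨mul_mem (Units.isUnit _).mem_nonZeroDivisors (pow_mem (D'.π_mem q') d), ?_⟩
  rw [Ring.ord_mul_of_isUnit_left (Units.isUnit _), Ring.ord_pow (D'.π_mem q')]

theorem finrank_tower (q' : MaximalSpectrum D'.B) :
    haveI := D'.isLocalHom q'
    haveI := D.isLocalHom (cmap D D' j q')
    Module.finrank (ResidueField A) (ResidueField (Localization.AtPrime q'.asIdeal)) =
      Module.finrank (ResidueField A)
        (ResidueField (Localization.AtPrime (cmap D D' j q').asIdeal)) * resDeg D D' j q' := by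
  letI := (locHom D D' j q').toAlgebra
  haveI : IsLocalHom (algebraMap (Localization.AtPrime (cmap D D' j q').asIdeal)
      (Localization.AtPrime q'.asIdeal)) := inferInstanceAs (IsLocalHom (locHom D D' j q'))
  haveI := D.isLocalHom (cmap D D' j q')
  haveI := D'.isLocalHom q'
  haveI := isScalarTower_loc D D' j q'
  exact (Module.finrank_mul_finrank (ResidueField A)
    (ResidueField (Localization.AtPrime (cmap D D' j q').asIdeal))
    (ResidueField (Localization.AtPrime q'.asIdeal))).symm

/-- **The exponent identity.** -/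
theorem ord_eq_sum_of_compat (hA : ringKrullDim A = 1) (hj : Function.Injective j)
    [Fintype (MaximalSpectrum D.B)] [Fintype (MaximalSpectrum D'.B)]
    [DecidableEq (MaximalSpectrum D.B)]
    (d : MaximalSpectrum D'.B → ℕ) (w : ∀ q' : MaximalSpectrum D'.B,
      (Localization.AtPrime q'.asIdeal)ˣ)
    (hdw : ∀ q', locHom D D' j q' (D.π (cmap D D' j q')) = w q' * D'.π q' ^ d q')
    (q : MaximalSpectrum D.B) :
    (Ring.ord (Localization.AtPrime q.asIdeal) (D.π q)).toNat =
      ∑ q' ∈ Finset.univ.filter (fun q' => cmap D D' j q' = q),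
        d q' * resDeg D D' j q' * (Ring.ord (Localization.AtPrime q'.asIdeal) (D'.π q')).toNat := by
  haveI : Module.Finite A D.B := D.isFinExt.2.1
  haveI : Module.Finite A D'.B := D'.isFinExt.2.1
  haveI : IsNoetherianRing D.B := isNoetherianRing_of_finite A D.B
  haveI : Finite (MaximalSpectrum D.B) := Finite.of_fintype _
  haveI hLH : ∀ q₂ : MaximalSpectrum D.B,
      IsLocalHom (algebraMap A (Localization.AtPrime q₂.asIdeal)) := D.isLocalHom
  haveI hLH' : ∀ q₂ : MaximalSpectrum D'.B,
      IsLocalHom (algebraMap A (Localization.AtPrime q₂.asIdeal)) := D'.isLocalHom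
  haveI : IsNoetherianRing (Localization.AtPrime q.asIdeal) :=
    IsLocalization.isNoetherianRing q.asIdeal.primeCompl _ inferInstance
  haveI : Ring.KrullDimLE 1 (Localization.AtPrime q.asIdeal) :=
    krullDimLE_one_localization (R := A) hA q.asIdeal
  obtain ⟨x, ⟨w₀, hxw⟩, hxother⟩ := exists_global_rep q (D.π q)
    (exists_pow_maximalIdeal_le_span _ (D.π_mem q))
  -- `x` is locally a nonzerodivisor
  have hx_unit : ∀ q₂ : MaximalSpectrum D.B, q₂ ≠ q →
      IsUnit (algebraMap D.B (Localization.AtPrime q₂.asIdeal) x) := fun q₂ h =>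
    IsLocalization.map_units (Localization.AtPrime q₂.asIdeal)
      (⟨x, hxother q₂ h⟩ : q₂.asIdeal.primeCompl)
  have hx_loc : ∀ q₂ : MaximalSpectrum D.B, algebraMap D.B (Localization.AtPrime q₂.asIdeal) x ∈
      nonZeroDivisors (Localization.AtPrime q₂.asIdeal) := by
    intro q₂
    by_cases h : q₂ = q
    · subst h
      rw [hxw]
      exact mul_mem w₀.isUnit.mem_nonZeroDivisors (D.π_mem q₂)
    · exact (hx_unit q₂ h).mem_nonZeroDivisors
  obtain ⟨-, h1⟩ := toNat_length_quot_eq_sum A D.B hA x hx_loc
  rw [Finset.sum_eq_single q (fun q₂ _ hne => by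
      rw [Ring.ord_of_isUnit (hx_unit q₂ hne), ENat.toNat_zero, zero_mul])
    (fun h => absurd (Finset.mem_univ q) h), hxw, Ring.ord_mul_of_isUnit_left w₀.isUnit] at h1
  -- the image of `x`
  have hjx : ∀ q' : MaximalSpectrum D'.B,
      algebraMap D'.B (Localization.AtPrime q'.asIdeal) (j x) ∈
        nonZeroDivisors (Localization.AtPrime q'.asIdeal) ∧
      (Ring.ord (Localization.AtPrime q'.asIdeal)
        (algebraMap D'.B (Localization.AtPrime q'.asIdeal) (j x))).toNat =
        if cmap D D' j q' = q then
          d q' * (Ring.ord (Localization.AtPrime q'.asIdeal) (D'.π q')).toNat else 0 := by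
    intro q'
    by_cases h : cmap D D' j q' = q
    · subst h
      obtain ⟨h2, h3⟩ := ord_image_of_compat D D' j q' x w₀ hxw (d q') (w q') (hdw q')
      refine ⟨h2, ?_⟩
      rw [h3, if_pos rfl, nsmul_eq_mul, ENat.toNat_mul, ENat.toNat_natCast]
    · have hu : IsUnit (algebraMap D'.B (Localization.AtPrime q'.asIdeal) (j x)) := by
        refine IsLocalization.map_units (Localization.AtPrime q'.asIdeal)
          (⟨j x, ?_⟩ : q'.asIdeal.primeCompl)
        exact hxother (cmap D D' j q') h
      refine ⟨hu.mem_nonZeroDivisors, ?_⟩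
      rw [Ring.ord_of_isUnit hu, if_neg h, ENat.toNat_zero]
  obtain ⟨-, h2⟩ := toNat_length_quot_eq_sum A D'.B hA (j x) (fun q' => (hjx q').1)
  -- Herbrand
  have h3 : Module.length A (D.B ⧸ Ideal.span {x}) = Module.length A (D'.B ⧸ Ideal.span {j x}) := by
    apply length_quot_eq_of_injective A j hj x
    · exact eq_zero_of_mul_eq_zero_of_localization (j x) (fun q' => (hjx q').1)
    · apply length_quot_ne_top_of_isFinExt D'.isFinExt
      rintro _ ⟨a, rfl⟩
      exact ⟨algebraMap A D.B a, by simp⟩
  rw [h3, h2] at h1
  -- arithmetic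
  have hpos : 0 < Module.finrank (ResidueField A)
      (ResidueField (Localization.AtPrime q.asIdeal)) := by
    haveI := finite_residueField A q
    exact Module.finrank_pos
  have h4 : ∑ q' : MaximalSpectrum D'.B, (Ring.ord (Localization.AtPrime q'.asIdeal)
        (algebraMap D'.B (Localization.AtPrime q'.asIdeal) (j x))).toNat *
        Module.finrank (ResidueField A) (ResidueField (Localization.AtPrime q'.asIdeal)) =
      (∑ q' ∈ Finset.univ.filter (fun q' => cmap D D' j q' = q),
        d q' * resDeg D D' j q' * (Ring.ord (Localization.AtPrime q'.asIdeal) (D'.π q')).toNat) *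
        Module.finrank (ResidueField A) (ResidueField (Localization.AtPrime q.asIdeal)) := by
    rw [Finset.sum_mul, Finset.sum_filter]
    refine Finset.sum_congr rfl fun q' _ => ?_
    rw [(hjx q').2]
    by_cases h : cmap D D' j q' = q
    · rw [if_pos h, if_pos h, finrank_tower D D' j q']
      subst h
      ring
    · rw [if_neg h, if_neg h, zero_mul]
  rw [h4] at h1
  exact Nat.eq_of_mul_eq_mul_right hpos h1.symm

/-- **Comparison theorem**: compatible tame data along an injective algebra map have the same
value. -/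
theorem value_eq_of_compat (hA : ringKrullDim A = 1) (hj : Function.Injective j)
    (hcompat : ∀ q' : MaximalSpectrum D'.B, ∃ (d : ℕ) (w : (Localization.AtPrime q'.asIdeal)ˣ),
      locHom D D' j q' (D.π (cmap D D' j q')) = w * D'.π q' ^ d) :
    D.value = D'.value := by
  classical
  haveI : Module.Finite A D.B := D.isFinExt.2.1
  haveI : Module.Finite A D'.B := D'.isFinExt.2.1
  haveI := finite_maximalSpectrum A D.B
  haveI := finite_maximalSpectrum A D'.B
  haveI := Fintype.ofFinite (MaximalSpectrum D.B)
  haveI := Fintype.ofFinite (MaximalSpectrum D'.B)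
  choose d w hdw using hcompat
  unfold TameData.value
  rw [finprod_eq_prod_of_fintype, finprod_eq_prod_of_fintype,
    ← Finset.prod_fiberwise Finset.univ (cmap D D' j) D'.localFactor]
  refine Finset.prod_congr rfl fun q _ => ?_
  rw [localFactor_eq_lf, lf, ord_eq_sum_of_compat D D' j hA hj d w hdw q,
    ← Finset.prod_pow_eq_pow_sum]
  refine Finset.prod_congr rfl fun q' hq' => ?_
  obtain rfl := (Finset.mem_filter.1 hq').2
  exact (localFactor_eq_of_compat D D' j q' (d q') (w q') (hdw q')).symm

end compare

end Groth.Agent.Lib.helper2.Tame
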