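import Mathlib

/-!
# Tame symbols, part 2: Horner elements of a polynomial relation are integral (helper2)

If `p(t) = 0` for a polynomial `p = ∑ a_j X^j` over `A` and `t` in an `A`-algebra `K`, the elements
`u_k = a_n t^(n-k) + ⋯ + a_k` and `u_k t` are integral over `A` (Stacks 00Q9), and
`a_k = u_k - u_(k+1) t`.
-/

set_option autoImplicit false
universe u v

namespace Groth.Agent.Lib.helper2.Tame

open Polynomial

section stable

variable {A : Type u} [CommRing A] {K : Type v} [CommRing K] [Algebra A K]

/-- an element stabilising a finitely generated submodule containing `1` is integral -/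
theorem isIntegral_of_mul_mem (W : Submodule A K) (hW : W.FG) (h1 : (1 : K) ∈ W) (u : K)
    (hu : ∀ w ∈ W, u * w ∈ W) : IsIntegral A u := by
  have : Module.Finite A W := by rwa [Module.Finite.iff_fg]
  let φ : Module.End A W := (LinearMap.mulLeft A u).restrict hu
  obtain ⟨P, hP, hPφ⟩ := LinearMap.exists_monic_and_aeval_eq_zero A φ
  refine ⟨P, hP, ?_⟩
  have key : ∀ (Q : A[X]) (w : W), (((aeval φ Q) w : W) : K) = aeval u Q * (w : K) := by
    intro Q
    induction Q using Polynomial.induction_on with
    | C a =>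
      intro w
      simp [Algebra.smul_def]
    | add p q hp hq =>
      intro w
      simp [hp, hq, add_mul]
    | monomial n a ih =>
      intro w
      have e1 : aeval φ (C a * X ^ (n + 1)) = aeval φ (C a * X ^ n) * φ := by
        rw [pow_succ, ← mul_assoc, map_mul, aeval_X]
      have e2 : aeval u (C a * X ^ (n + 1)) = aeval u (C a * X ^ n) * u := by
        rw [pow_succ, ← mul_assoc, map_mul, aeval_X]
      rw [e1, e2, Module.End.mul_apply, ih]
      simp [φ, mul_assoc]
  have h := key P ⟨1, h1⟩
  rw [hPφ] at h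
  have h' : aeval u P = 0 := by simpa using h.symm
  rwa [aeval_def] at h'

end stable

section horner

variable {A : Type u} [CommRing A] {K : Type v} [CommRing K] [Algebra A K]

/-- the `k`-th Horner polynomial `a_n X^(n-k) + ⋯ + a_k` -/
noncomputable def hornerPoly (p : A[X]) (k : ℕ) : A[X] := divX^[k] p

theorem coeff_hornerPoly (p : A[X]) (k j : ℕ) : (hornerPoly p k).coeff j = p.coeff (j + k) := by
  induction k generalizing j with
  | zero => simp [hornerPoly]
  | succ k ih =>
    unfold hornerPoly at ih ⊢
    rw [Function.iterate_succ_apply', coeff_divX, ih]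
    congr 1
    omega

theorem hornerPoly_succ (p : A[X]) (k : ℕ) :
    hornerPoly p k = hornerPoly p (k + 1) * X + C (p.coeff k) := by
  have h := divX_mul_X_add (hornerPoly p k)
  rw [coeff_hornerPoly, zero_add] at h
  unfold hornerPoly at h ⊢
  rw [Function.iterate_succ_apply']
  exact h.symm

theorem natDegree_hornerPoly_le (p : A[X]) (k : ℕ) :
    (hornerPoly p k).natDegree ≤ p.natDegree - k := by
  rw [natDegree_le_iff_coeff_eq_zero]
  intro N hN
  rw [coeff_hornerPoly]
  exact coeff_eq_zero_of_natDegree_lt (by omega)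

theorem hornerPoly_eq_zero (p : A[X]) (k : ℕ) (hk : p.natDegree < k) : hornerPoly p k = 0 := by
  ext j
  rw [coeff_hornerPoly, coeff_zero]
  exact coeff_eq_zero_of_natDegree_lt (by omega)

/-- the low part `p - X^k * (p div X^k)` -/
noncomputable def lowPoly (p : A[X]) (k : ℕ) : A[X] := p - X ^ k * hornerPoly p k

theorem coeff_lowPoly (p : A[X]) (k m : ℕ) :
    (lowPoly p k).coeff m = if m < k then p.coeff m else 0 := by
  unfold lowPoly
  rw [coeff_sub, coeff_X_pow_mul', coeff_hornerPoly]
  by_cases h : k ≤ m
  · rw [if_pos h, if_neg (by omega), Nat.sub_add_cancel h, sub_self]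
  · rw [if_neg h, if_pos (by omega), sub_zero]

theorem natDegree_lowPoly_le (p : A[X]) (k : ℕ) : (lowPoly p k).natDegree ≤ k - 1 := by
  rw [natDegree_le_iff_coeff_eq_zero]
  intro N hN
  rw [coeff_lowPoly, if_neg (by omega)]

theorem lowPoly_zero (p : A[X]) : lowPoly p 0 = 0 := by
  ext m
  rw [coeff_lowPoly]
  simp

/-- the Horner element `u_k = a_n t^(n-k) + ⋯ + a_k` -/
noncomputable def hornerElt (p : A[X]) (t : K) (k : ℕ) : K := aeval t (hornerPoly p k)

theorem hornerElt_zero (p : A[X]) (t : K) : hornerElt p t 0 = aeval t p := rfl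

theorem hornerElt_succ (p : A[X]) (t : K) (k : ℕ) :
    algebraMap A K (p.coeff k) = hornerElt p t k - hornerElt p t (k + 1) * t := by
  unfold hornerElt
  rw [hornerPoly_succ p k]
  simp

theorem hornerElt_eq_zero (p : A[X]) (t : K) (k : ℕ) (hk : p.natDegree < k) :
    hornerElt p t k = 0 := by
  unfold hornerElt
  rw [hornerPoly_eq_zero p k hk, map_zero]

/-- key computation: multiplying `f(t)` by `u_k` stays in degree `< n`. -/
theorem exists_poly_hornerElt_mul (p : A[X]) (t : K) (hp : aeval t p = 0) (k : ℕ) (hk1 : 1 ≤ k)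
    (hkn : k ≤ p.natDegree) (f : A[X]) (hf : f.natDegree ≤ p.natDegree) :
    ∃ g : A[X], g.natDegree < p.natDegree ∧ aeval t g = hornerElt p t k * aeval t f := by
  refine ⟨hornerPoly p k * lowPoly f k - lowPoly p k * hornerPoly f k, ?_, ?_⟩
  · have h1 : (hornerPoly p k * lowPoly f k).natDegree ≤ (p.natDegree - k) + (k - 1) :=
      natDegree_mul_le.trans (add_le_add (natDegree_hornerPoly_le p k) (natDegree_lowPoly_le f k))
    have h2 : (lowPoly p k * hornerPoly f k).natDegree ≤ (k - 1) + (f.natDegree - k) :=
      natDegree_mul_le.trans (add_le_add (natDegree_lowPoly_le p k) (natDegree_hornerPoly_le f k))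
    have h3 := natDegree_sub_le (hornerPoly p k * lowPoly f k) (lowPoly p k * hornerPoly f k)
    have : max (hornerPoly p k * lowPoly f k).natDegree (lowPoly p k * hornerPoly f k).natDegree
        ≤ p.natDegree - 1 := by
      apply max_le <;> omega
    omega
  · have e1 : aeval t (lowPoly f k) = aeval t f - t ^ k * aeval t (hornerPoly f k) := by
      unfold lowPoly; simp
    have e2 : aeval t (lowPoly p k) = - (t ^ k * aeval t (hornerPoly p k)) := by
      unfold lowPoly; simp [hp]
    unfold hornerElt
    rw [map_sub, map_mul, map_mul, e1, e2]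
    ring

theorem mem_degreeLT_of_natDegree_lt {g : A[X]} {n : ℕ} (h : g.natDegree < n) :
    g ∈ degreeLT A n := by
  rw [mem_degreeLT, degree_lt_iff_coeff_zero]
  intro m hm
  exact coeff_eq_zero_of_natDegree_lt (by omega)

theorem natDegree_lt_of_mem_degreeLT {g : A[X]} {n : ℕ} (hn : 0 < n) (h : g ∈ degreeLT A n) :
    g.natDegree < n := by
  rw [mem_degreeLT] at h
  by_cases hg : g = 0
  · rw [hg, natDegree_zero]; exact hn
  · exact (natDegree_lt_iff_degree_lt hg).2 h

/-- **Horner elements are integral** (Stacks 00Q9). -/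
theorem isIntegral_hornerElt (p : A[X]) (t : K) (hp : aeval t p = 0) (k : ℕ) :
    IsIntegral A (hornerElt p t k) ∧ IsIntegral A (hornerElt p t k * t) := by
  classical
  by_cases hk0 : k = 0
  · subst hk0
    rw [hornerElt_zero, hp, zero_mul]
    exact ⟨isIntegral_zero, isIntegral_zero⟩
  by_cases hkn : p.natDegree < k
  · rw [hornerElt_eq_zero p t k hkn, zero_mul]
    exact ⟨isIntegral_zero, isIntegral_zero⟩
  push Not at hkn
  have hk1 : 1 ≤ k := Nat.one_le_iff_ne_zero.2 hk0
  have hn : 0 < p.natDegree := by omega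
  set W : Submodule A K := (degreeLT A p.natDegree).map (aeval t).toLinearMap with hW
  have hWfg : W.FG := by
    apply Submodule.FG.map
    rw [degreeLT_eq_span_X_pow]
    exact Submodule.fg_span (Finset.finite_toSet _)
  have h1W : (1 : K) ∈ W :=
    ⟨1, mem_degreeLT_of_natDegree_lt (by rw [natDegree_one]; exact hn), by simp⟩
  constructor
  · apply isIntegral_of_mul_mem W hWfg h1W
    rintro _ ⟨f, hf, rfl⟩
    have hf' := natDegree_lt_of_mem_degreeLT hn hf
    obtain ⟨g, hg, hge⟩ := exists_poly_hornerElt_mul p t hp k hk1 hkn f hf'.le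
    exact ⟨g, mem_degreeLT_of_natDegree_lt hg, by simpa using hge⟩
  · apply isIntegral_of_mul_mem W hWfg h1W
    rintro _ ⟨f, hf, rfl⟩
    have hf' := natDegree_lt_of_mem_degreeLT hn hf
    have hXf : (X * f).natDegree ≤ p.natDegree := by
      refine natDegree_mul_le.trans ?_
      have := natDegree_X_le (R := A)
      omega
    obtain ⟨g, hg, hge⟩ := exists_poly_hornerElt_mul p t hp k hk1 hkn (X * f) hXf
    refine ⟨g, mem_degreeLT_of_natDegree_lt hg, ?_⟩
    have : aeval t g = hornerElt p t k * t * aeval t f := by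
      rw [hge, map_mul, aeval_X, mul_assoc]
    simpa using this

end horner

end Groth.Agent.Lib.helper2.Tame
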