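import Mathlib

/-!
# Tame symbols, part 3: a locally principal two-generated ideal of a semilocal ring is principal
(helper2)
-/

set_option autoImplicit false
universe u v

namespace Groth.Agent.Lib.helper2.Tame

section semilocal

variable {R : Type u} [CommRing R]

/-- CRT idempotent-like elements for the maximal ideals of a semilocal ring -/
theorem exists_crt_elements [Finite (MaximalSpectrum R)] :
    ∃ z : MaximalSpectrum R → R, ∀ n : MaximalSpectrum R, z n - 1 ∈ n.asIdeal ∧
      ∀ n' : MaximalSpectrum R, n' ≠ n → z n ∈ n'.asIdeal := by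
  classical
  haveI := Fintype.ofFinite (MaximalSpectrum R)
  have hcop : Pairwise (Function.onFun IsCoprime fun n : MaximalSpectrum R => n.asIdeal) := by
    intro n n' hne
    haveI := n.isMaximal
    haveI := n'.isMaximal
    exact Ideal.isCoprime_of_isMaximal (fun h => hne (MaximalSpectrum.ext h))
  have key : ∀ n : MaximalSpectrum R, ∃ r : R, ∀ n' : MaximalSpectrum R,
      r - (if n' = n then 1 else 0) ∈ n'.asIdeal := fun n =>
    Ideal.exists_forall_sub_mem_ideal hcop (fun n' => if n' = n then 1 else 0)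
  choose z hz using key
  refine ⟨z, fun n => ⟨?_, ?_⟩⟩
  · simpa using hz n n
  · intro n' hn'
    simpa [hn'] using hz n n'

/-- If a two-generated ideal of a semilocal ring is generated by one of the two generators
locally at every maximal ideal, it is principal. -/
theorem exists_principal_of_locally [Finite (MaximalSpectrum R)] (x y : R)
    (h : ∀ n : MaximalSpectrum R, ∃ s, s ∉ n.asIdeal ∧
      ((∃ r, s * y = r * x) ∨ (∃ r, s * x = r * y))) :
    ∃ t α β x' y' : R, t = α * x + β * y ∧ x = t * x' ∧ y = t * y' := by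
  classical
  haveI := Fintype.ofFinite (MaximalSpectrum R)
  -- local data
  have h' : ∀ n : MaximalSpectrum R, ∃ s g ax ay α₀ β₀ : R, s ∉ n.asIdeal ∧ s * x = ax * g ∧
      s * y = ay * g ∧ g = α₀ * x + β₀ * y := by
    intro n
    obtain ⟨s, hs, hcase⟩ := h n
    rcases hcase with ⟨r, hr⟩ | ⟨r, hr⟩
    · exact ⟨s, x, s, r, 1, 0, hs, rfl, hr, by ring⟩
    · exact ⟨s, y, r, s, 0, 1, hs, hr, rfl, by ring⟩
  choose s g ax ay α₀ β₀ hs hsx hsy hg using h'
  obtain ⟨z, hz⟩ := exists_crt_elements (R := R)
  set t : R := ∑ n, z n * g n with ht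
  have htab : t = (∑ n, z n * α₀ n) * x + (∑ n, z n * β₀ n) * y := by
    rw [ht, Finset.sum_mul, Finset.sum_mul, ← Finset.sum_add_distrib]
    apply Finset.sum_congr rfl
    intro n _
    rw [hg n]
    ring
  -- the colon ideal
  have hcolon : ∀ w : R, (∀ n : MaximalSpectrum R, ∃ r, r ∉ n.asIdeal ∧ ∃ q, r * w = t * q) →
      ∃ q, w = t * q := by
    intro w hw
    let I : Ideal R :=
      { carrier := { r | ∃ q, r * w = t * q }
        add_mem' := by
          rintro a b ⟨q₁, h₁⟩ ⟨q₂, h₂⟩
          exact ⟨q₁ + q₂, by rw [add_mul, h₁, h₂]; ring⟩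
        zero_mem' := ⟨0, by simp⟩
        smul_mem' := by
          rintro c a ⟨q, hq⟩
          exact ⟨c * q, by rw [smul_eq_mul, mul_assoc, hq]; ring⟩ }
    have hI : I = ⊤ := by
      by_contra hne
      obtain ⟨M, hM, hIM⟩ := Ideal.exists_le_maximal I hne
      obtain ⟨r, hr, q, hq⟩ := hw ⟨M, hM⟩
      exact hr (hIM ⟨q, hq⟩)
    have h1 : (1 : R) ∈ I := by rw [hI]; trivial
    obtain ⟨q, hq⟩ := h1
    exact ⟨q, by rw [← hq, one_mul]⟩
  -- the local computation at `n`
  have hloc : ∀ n : MaximalSpectrum R, ∃ w, w ∉ n.asIdeal ∧ s n * t = w * g n := by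
    intro n
    -- `s n * g n' = γ n' * g n`
    have hγ : ∀ n' : MaximalSpectrum R, ∃ γ, s n * g n' = γ * g n := by
      intro n'
      refine ⟨α₀ n' * ax n + β₀ n' * ay n, ?_⟩
      rw [hg n', mul_add, ← mul_assoc, ← mul_assoc, mul_comm (s n) (α₀ n'), mul_comm (s n) (β₀ n'),
        mul_assoc, mul_assoc, hsx n, hsy n]
      ring
    choose γ hγ using hγ
    refine ⟨s n * z n + ∑ n' ∈ Finset.univ.erase n, z n' * γ n', ?_, ?_⟩
    · intro hmem
      haveI := n.isMaximal
      have h1 : ∑ n' ∈ Finset.univ.erase n, z n' * γ n' ∈ n.asIdeal := by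
        apply Ideal.sum_mem
        intro n' hn'
        exact Ideal.mul_mem_right _ _ ((hz n').2 n (Finset.ne_of_mem_erase hn').symm)
      have h2 : s n * z n ∈ n.asIdeal := by
        have := Ideal.sub_mem _ hmem h1
        simpa using this
      have h3 : s n * (z n - 1) ∈ n.asIdeal := Ideal.mul_mem_left _ _ (hz n).1
      have h4 : s n ∈ n.asIdeal := by
        have := Ideal.sub_mem _ h2 h3
        have e : s n * z n - s n * (z n - 1) = s n := by ring
        rwa [e] at this
      exact hs n h4
    · rw [ht, Finset.mul_sum, ← Finset.add_sum_erase Finset.univ _ (Finset.mem_univ n), add_mul,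
        Finset.sum_mul]
      congr 1
      · ring
      · apply Finset.sum_congr rfl
        intro n' _
        rw [mul_left_comm, hγ n']
        ring
  have hx : ∃ q, x = t * q := by
    apply hcolon
    intro n
    obtain ⟨w, hw, hwe⟩ := hloc n
    haveI := n.isMaximal
    refine ⟨s n * w, ?_, ax n * s n, ?_⟩
    · intro hmem
      rcases (Ideal.IsMaximal.isPrime ‹_›).mem_or_mem hmem with h1 | h1
      · exact hs n h1
      · exact hw h1
    · calc s n * w * x = w * (s n * x) := by ring
        _ = w * (ax n * g n) := by rw [hsx n]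
        _ = ax n * (w * g n) := by ring
        _ = ax n * (s n * t) := by rw [hwe]
        _ = t * (ax n * s n) := by ring
  have hy : ∃ q, y = t * q := by
    apply hcolon
    intro n
    obtain ⟨w, hw, hwe⟩ := hloc n
    haveI := n.isMaximal
    refine ⟨s n * w, ?_, ay n * s n, ?_⟩
    · intro hmem
      rcases (Ideal.IsMaximal.isPrime ‹_›).mem_or_mem hmem with h1 | h1
      · exact hs n h1
      · exact hw h1
    · calc s n * w * y = w * (s n * y) := by ring
        _ = w * (ay n * g n) := by rw [hsy n]
        _ = ay n * (w * g n) := by ring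
        _ = ay n * (s n * t) := by rw [hwe]
        _ = t * (ay n * s n) := by ring
  obtain ⟨x', hx'⟩ := hx
  obtain ⟨y', hy'⟩ := hy
  exact ⟨t, _, _, x', y', htab, hx', hy'⟩

end semilocal

end Groth.Agent.Lib.helper2.Tame
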