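import Mathlib
import Groth.Agent.Lib.Helper2.Tame1
import Groth.Agent.Lib.Helper2.Tame2
import Groth.Agent.Lib.Helper2.Tame3
import Groth.Agent.Lib.Helper16.IntegralFree1

/-!
# Tame symbols, part 4: principalisation of a two-generated ideal in a finite birational extension
(helper2)

`A` one-dimensional Noetherian local, `K` its total ring of fractions, `B ⊆ K` a finite subalgebra,
`x y ∈ B` units of `K`.  Then there is a finite subalgebra `B ⊆ B' ⊆ K` in which `(x, y)` becomes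
principal: `x = t x'`, `y = t y'`, `α x' + β y' = 1` (`exists_principalize`).
-/

set_option autoImplicit false
universe u

namespace Groth.Agent.Lib.helper2.Tame

open Polynomial

section blowup

variable {A : Type u} [CommRing A] [IsNoetherianRing A] [IsLocalRing A]
  {K : Type u} [CommRing K] [Algebra A K] [IsFractionRing A K]

omit [IsNoetherianRing A] [IsLocalRing A] [IsFractionRing A K] in
/-- the sup of a finite subalgebra with the subalgebra generated by finitely many integral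
elements is finite -/
theorem fg_adjoin_union (B : Subalgebra A K) (hB : B.toSubmodule.FG) (S : Set K) (hS : S.Finite)
    (hint : ∀ z ∈ S, IsIntegral A z) :
    (Algebra.adjoin A ((B : Set K) ∪ S)).toSubmodule.FG := by
  rw [Algebra.adjoin_union_coe_submodule, Algebra.adjoin_eq]
  exact hB.mul (fg_adjoin_of_finite hS hint)

/-- **Principalisation.** -/
theorem exists_principalize (hA : ringKrullDim A = 1) (B : Subalgebra A K)
    (hB : B.toSubmodule.FG) (x y : K) (hx : x ∈ B) (hy : y ∈ B) (hxu : IsUnit x) :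
    ∃ B' : Subalgebra A K, B ≤ B' ∧ B'.toSubmodule.FG ∧ ∃ t x' y' α β : K,
      t ∈ B' ∧ x' ∈ B' ∧ y' ∈ B' ∧ α ∈ B' ∧ β ∈ B' ∧ x = t * x' ∧ y = t * y' ∧
      α * x' + β * y' = 1 := by
  classical
  by_cases hdepth : ∃ c₀ : A, c₀ ∈ nonZeroDivisors A ∧ c₀ ∈ IsLocalRing.maximalIdeal A
  swap
  · -- every nonzerodivisor is a unit: `x⁻¹ ∈ B`
    push Not at hdepth
    obtain ⟨p, hp, s, hs, hps⟩ := exists_num_den (A := A) hxu
    have hpu : IsUnit p := by
      by_contra h
      exact hdepth p hp ((IsLocalRing.mem_maximalIdeal p).2 h)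
    obtain ⟨p', hp'⟩ := hpu.exists_right_inv
    have hxinv : x * algebraMap A K (s * p') = 1 := by
      rw [map_mul, ← mul_assoc, hps, ← map_mul, hp', map_one]
    refine ⟨B, le_rfl, hB, x, 1, algebraMap A K (s * p') * y, 1, 0, hx, B.one_mem,
      B.mul_mem (B.algebraMap_mem _) hy, B.one_mem, B.zero_mem, (mul_one x).symm, ?_, by ring⟩
    rw [← mul_assoc, hxinv, one_mul]
  obtain ⟨c₀, hc₀, hc₀m⟩ := hdepth
  obtain ⟨d, c, ⟨i₀, hi₀⟩, hrel⟩ := exists_relation hA B hB x y hx hy hxu c₀ hc₀ hc₀m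
  obtain ⟨xi, hxi⟩ := hxu.exists_right_inv
  set t₀ : K := y * xi with ht₀
  have ht₀x : t₀ * x = y := by rw [ht₀, mul_assoc, mul_comm xi x, hxi, mul_one]
  set p : A[X] := ∑ i : Fin (d + 1), C (c i) * X ^ (i : ℕ) with hp
  have hpcoeff : ∀ i : Fin (d + 1), p.coeff (i : ℕ) = c i := by
    intro i
    rw [hp, finsetSum_coeff]
    simp only [coeff_C_mul_X_pow]
    rw [Finset.sum_eq_single i]
    · simp
    · intro j _ hj
      rw [if_neg]
      intro h
      exact hj (Fin.ext h.symm)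
    · intro h; exact absurd (Finset.mem_univ i) h
  have hpt : aeval t₀ p = 0 := by
    have h1 : aeval t₀ p = ∑ i : Fin (d + 1), c i • t₀ ^ (i : ℕ) := by
      rw [hp, map_sum]
      apply Finset.sum_congr rfl
      intro i _
      simp [Algebra.smul_def]
    have h2 : x ^ d * aeval t₀ p = 0 := by
      rw [h1, Finset.mul_sum, ← hrel]
      apply Finset.sum_congr rfl
      intro i _
      have hid : (i : ℕ) ≤ d := Nat.lt_succ_iff.1 i.2
      have : x ^ d = x ^ (d - (i : ℕ)) * x ^ (i : ℕ) := by rw [← pow_add, Nat.sub_add_cancel hid]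
      rw [Algebra.smul_def, Algebra.smul_def, this, ← ht₀x, mul_pow]
      ring
    exact (hxu.pow d).mul_right_eq_zero.1 h2
  -- Horner elements
  set S : Set K := ((fun k => hornerElt p t₀ k) '' (Finset.range (d + 2) : Set ℕ)) ∪
    ((fun k => hornerElt p t₀ k * t₀) '' (Finset.range (d + 2) : Set ℕ)) with hS
  have hSfin : S.Finite :=
    ((Finset.finite_toSet _).image _).union ((Finset.finite_toSet _).image _)
  have hSint : ∀ z ∈ S, IsIntegral A z := by
    rintro z (⟨k, _, rfl⟩ | ⟨k, _, rfl⟩)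
    · exact (isIntegral_hornerElt p t₀ hpt k).1
    · exact (isIntegral_hornerElt p t₀ hpt k).2
  set B' : Subalgebra A K := Algebra.adjoin A ((B : Set K) ∪ S) with hB'
  have hBB' : B ≤ B' := fun z hz => Algebra.subset_adjoin (Or.inl hz)
  have hB'fg : B'.toSubmodule.FG := fg_adjoin_union B hB S hSfin hSint
  have hmem1 : ∀ k, k < d + 2 → hornerElt p t₀ k ∈ B' := fun k hk =>
    Algebra.subset_adjoin (Or.inr (Or.inl ⟨k, by simpa using hk, rfl⟩))
  have hmem2 : ∀ k, k < d + 2 → hornerElt p t₀ k * t₀ ∈ B' := fun k hk =>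
    Algebra.subset_adjoin (Or.inr (Or.inr ⟨k, by simpa using hk, rfl⟩))
  haveI : Module.Finite A ↥B' := Module.Finite.iff_fg.2 hB'fg
  haveI : Finite (MaximalSpectrum ↥B') :=
    Groth.Agent.Lib.helper16.IntegralFree.finite_maximalSpectrum_of_finite A ↥B'
  have hi₀d : (i₀ : ℕ) < d + 1 := i₀.2
  set h1 : ↥B' := ⟨hornerElt p t₀ i₀, hmem1 _ (by omega)⟩ with hh1
  set h2 : ↥B' := ⟨hornerElt p t₀ (i₀ + 1) * t₀, hmem2 _ (by omega)⟩ with hh2
  set h1t : ↥B' := ⟨hornerElt p t₀ i₀ * t₀, hmem2 _ (by omega)⟩ with hh1t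
  set h2' : ↥B' := ⟨hornerElt p t₀ (i₀ + 1), hmem1 _ (by omega)⟩ with hh2'
  have hunit : IsUnit (h1 - h2) := by
    have : h1 - h2 = algebraMap A ↥B' (c i₀) := by
      apply Subtype.ext
      change hornerElt p t₀ i₀ - hornerElt p t₀ (i₀ + 1) * t₀ = algebraMap A K (c i₀)
      rw [← hpcoeff i₀, hornerElt_succ]
    rw [this]
    exact hi₀.map _
  set xB : ↥B' := ⟨x, hBB' hx⟩ with hxB
  set yB : ↥B' := ⟨y, hBB' hy⟩ with hyB
  have hlocal : ∀ n : MaximalSpectrum ↥B', ∃ s, s ∉ n.asIdeal ∧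
      ((∃ r, s * yB = r * xB) ∨ (∃ r, s * xB = r * yB)) := by
    intro n
    haveI := n.isMaximal
    by_cases hn1 : h1 ∈ n.asIdeal
    · have hn2 : h2 ∉ n.asIdeal := by
        intro hn2
        exact (Ideal.IsMaximal.isPrime ‹_›).ne_top
          (Ideal.eq_top_of_isUnit_mem _ (Ideal.sub_mem _ hn1 hn2) hunit)
      refine ⟨h2, hn2, Or.inr ⟨h2', ?_⟩⟩
      apply Subtype.ext
      change hornerElt p t₀ (i₀ + 1) * t₀ * x = hornerElt p t₀ (i₀ + 1) * y
      rw [mul_assoc, ht₀x]
    · refine ⟨h1, hn1, Or.inl ⟨h1t, ?_⟩⟩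
      apply Subtype.ext
      change hornerElt p t₀ i₀ * y = hornerElt p t₀ i₀ * t₀ * x
      rw [mul_assoc, ht₀x]
  obtain ⟨t, α, β, x', y', htab, hx', hy'⟩ := exists_principal_of_locally xB yB hlocal
  have hx'K : x = (t : K) * (x' : K) := congrArg Subtype.val hx'
  have hy'K : y = (t : K) * (y' : K) := congrArg Subtype.val hy'
  have htK : (t : K) = (α : K) * x + (β : K) * y := congrArg Subtype.val htab
  have htu : IsUnit (t : K) := by
    rw [hx'K] at hxu
    exact isUnit_of_mul_isUnit_left hxu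
  refine ⟨B', hBB', hB'fg, t, x', y', α, β, t.2, x'.2, y'.2, α.2, β.2, hx'K, hy'K, ?_⟩
  apply htu.mul_left_cancel
  rw [mul_one]
  conv_rhs => rw [htK, hx'K, hy'K]
  ring

end blowup

end Groth.Agent.Lib.helper2.Tame
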