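import Mathlib
import Groth.Agent.Lib.Helper2.Tame4
import Groth.Prelude.Def_CycAlg

/-!
# Tame symbols, part 5: finite subalgebras of the total ring of fractions are `IsFinExt`;
the blow-up lemma S1834 (helper2)
-/

set_option autoImplicit false
universe u

namespace Groth.Agent.Lib.helper2.Tame

section finext

variable {A : Type u} [CommRing A] [IsNoetherianRing A] [IsLocalRing A]
  {K : Type u} [CommRing K] [Algebra A K] [IsFractionRing A K]

/-- a power of the maximal ideal lies in the ideal generated by a nonzerodivisor -/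
theorem exists_pow_maximalIdeal_le (hA : ringKrullDim A = 1) {c : A}
    (hc : c ∈ nonZeroDivisors A) : ∃ n : ℕ, IsLocalRing.maximalIdeal A ^ n ≤ Ideal.span {c} := by
  apply Ideal.exists_pow_le_of_le_radical_of_fg _ (IsNoetherian.noetherian _)
  rw [Ideal.radical_eq_sInf]
  refine le_sInf ?_
  rintro P ⟨hcP, hP⟩
  have := Groth.Agent.Lib.helper15.HerbLen.eq_maximalIdeal_of_mem hA ⟨P, hP⟩ hc
    (hcP (Ideal.mem_span_singleton_self c))
  exact this.ge

omit [IsNoetherianRing A] [IsLocalRing A] in
theorem mem_nonZeroDivisors_of_isUnit_val (B : Subalgebra A K) (z : ↥B) (hz : IsUnit (z : K)) :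
    z ∈ nonZeroDivisors ↥B := by
  rw [mem_nonZeroDivisors_iff_right]
  intro w hw
  have : (w : K) * (z : K) = 0 := congrArg Subtype.val hw
  exact Subtype.ext (hz.mul_left_eq_zero.1 this)

/-- a finite subalgebra of the total ring of fractions is a finite extension with cokernel killed
by a power of the maximal ideal -/
theorem isFinExt_of_fg (hA : ringKrullDim A = 1) (B : Subalgebra A K) (hB : B.toSubmodule.FG) :
    CycAlg.IsFinExt A ↥B (IsLocalRing.maximalIdeal A) := by
  refine ⟨?_, Module.Finite.iff_fg.2 hB, ?_⟩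
  · intro a a' h
    apply IsFractionRing.injective A K
    exact congrArg Subtype.val h
  · obtain ⟨c, hc, hcB⟩ := exists_denominator B.toSubmodule hB
    obtain ⟨n, hn⟩ := exists_pow_maximalIdeal_le hA hc
    refine ⟨n, ?_⟩
    intro r hr b
    obtain ⟨r', rfl⟩ := Ideal.mem_span_singleton.1 (hn hr)
    obtain ⟨a, ha⟩ := hcB b.1 b.2
    refine ⟨r' * a, ?_⟩
    apply Subtype.ext
    change algebraMap A K (r' * a) = (c * r') • (b : K)
    rw [mul_comm c r', mul_smul, ha, map_mul, Algebra.smul_def]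

end finext

section S1834

variable (R : Type u) [CommRing R] [IsNoetherianRing R] [IsLocalRing R]

theorem blowup_lemma (hR : ringKrullDim R = 1) (a b : R) (ha : a ∈ nonZeroDivisors R)
    (hb : b ∈ nonZeroDivisors R) :
    ∃ (R' : Type u) (_ : CommRing R') (_ : Algebra R R'),
      CycAlg.IsFinExt R R' (IsLocalRing.maximalIdeal R) ∧ ∃ t a' b' : R',
        t ∈ nonZeroDivisors R' ∧ a' ∈ nonZeroDivisors R' ∧ b' ∈ nonZeroDivisors R' ∧
        algebraMap R R' a = t * a' ∧ algebraMap R R' b = t * b' ∧ Ideal.span {a', b'} = ⊤ := by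
  set K := FractionRing R with hK
  have hxu : IsUnit (algebraMap R K a) := IsLocalization.map_units K (⟨a, ha⟩ : nonZeroDivisors R)
  have hyu : IsUnit (algebraMap R K b) := IsLocalization.map_units K (⟨b, hb⟩ : nonZeroDivisors R)
  have hbot : (⊥ : Subalgebra R K).toSubmodule.FG := by
    rw [Algebra.toSubmodule_bot, Submodule.one_eq_span]
    exact Submodule.fg_span_singleton _
  obtain ⟨B', -, hB'fg, t, x', y', α, β, ht, hx', hy', hα, hβ, hxe, hye, hone⟩ :=
    exists_principalize hR (⊥ : Subalgebra R K) hbot (algebraMap R K a) (algebraMap R K b)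
      (Subalgebra.algebraMap_mem _ _) (Subalgebra.algebraMap_mem _ _) hxu
  have htu : IsUnit t := by rw [hxe] at hxu; exact isUnit_of_mul_isUnit_left hxu
  have hx'u : IsUnit x' := by rw [hxe] at hxu; exact isUnit_of_mul_isUnit_right hxu
  have hy'u : IsUnit y' := by rw [hye] at hyu; exact isUnit_of_mul_isUnit_right hyu
  refine ⟨↥B', inferInstance, inferInstance, isFinExt_of_fg hR B' hB'fg, ⟨t, ht⟩, ⟨x', hx'⟩,
    ⟨y', hy'⟩, mem_nonZeroDivisors_of_isUnit_val B' _ htu,
    mem_nonZeroDivisors_of_isUnit_val B' _ hx'u, mem_nonZeroDivisors_of_isUnit_val B' _ hy'u,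
    Subtype.ext hxe, Subtype.ext hye, ?_⟩
  rw [Ideal.eq_top_iff_one, Ideal.mem_span_pair]
  exact ⟨⟨α, hα⟩, ⟨β, hβ⟩, Subtype.ext hone⟩

end S1834

end Groth.Agent.Lib.helper2.Tame
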