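import Mathlib
import Groth.Agent.Lib.Helper2.Tame5

/-!
# Tame symbols, part 6: the length `ℓ_B(z) = ℓ_A(B/zB)` for a finite birational extension `B`
(helper2)
-/

set_option autoImplicit false
universe u

namespace Groth.Agent.Lib.helper2.Tame

open Groth.Agent.Lib.helper15.RelLen

section measure

variable {A : Type u} [CommRing A] [IsNoetherianRing A] [IsLocalRing A]
  {K : Type u} [CommRing K] [Algebra A K] [IsFractionRing A K]

/-- `ℓ_A(B/zB)` as a natural number -/
noncomputable def ln (B : Subalgebra A K) (z : K) : ℕ :=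
  (rl (B.toSubmodule.map (mulL A z)) B.toSubmodule).toNat

omit [IsNoetherianRing A] [IsLocalRing A] [IsFractionRing A K] in
theorem map_mulL_le (B : Subalgebra A K) {z : K} (hz : z ∈ B) :
    B.toSubmodule.map (mulL A z) ≤ B.toSubmodule := by
  rintro _ ⟨w, hw, rfl⟩
  exact B.mul_mem hz hw

theorem rl_mulL_ne_top (hA : ringKrullDim A = 1) (B : Subalgebra A K) (hB : B.toSubmodule.FG)
    {z : K} (hzu : IsUnit z) : rl (B.toSubmodule.map (mulL A z)) B.toSubmodule ≠ ⊤ := by
  obtain ⟨p, hp, s, hs, hps⟩ := exists_num_den (A := A) hzu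
  apply rl_ne_top hA _ _ hB hp
  intro w hw
  refine ⟨s • w, B.toSubmodule.smul_mem s hw, ?_⟩
  change z * (s • w) = p • w
  rw [Algebra.smul_def, Algebra.smul_def, ← mul_assoc, hps]

theorem rl_sub_ne_top (hA : ringKrullDim A = 1) {B B' : Subalgebra A K}
    (hB' : B'.toSubmodule.FG) : rl B.toSubmodule B'.toSubmodule ≠ ⊤ := by
  obtain ⟨c, hc, hcB⟩ := exists_denominator B'.toSubmodule hB'
  apply rl_ne_top hA _ _ hB' hc
  intro w hw
  obtain ⟨a, ha⟩ := hcB w hw
  rw [ha]
  exact B.algebraMap_mem a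

/-- invariance of `ℓ(z)` under finite extension -/
theorem ln_eq_of_le (hA : ringKrullDim A = 1) {B B' : Subalgebra A K} (hBB' : B ≤ B')
    (hB' : B'.toSubmodule.FG) {z : K} (hz : z ∈ B) (hzu : IsUnit z) : ln B z = ln B' z := by
  unfold ln
  rw [rl_herbrand (mulL A z) (mulL_injective hzu) B.toSubmodule B'.toSubmodule hBB'
    (map_mulL_le B hz) (map_mulL_le B' (hBB' hz)) (rl_sub_ne_top hA hB')]

omit [IsNoetherianRing A] [IsLocalRing A] [IsFractionRing A K] in
theorem mulL_mul (z w : K) : mulL A (z * w) = mulL A z ∘ₗ mulL A w := by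
  ext v
  simp [mulL]

/-- additivity -/
theorem ln_mul (hA : ringKrullDim A = 1) (B : Subalgebra A K) (hB : B.toSubmodule.FG)
    {z w : K} (hz : z ∈ B) (hw : w ∈ B) (hzu : IsUnit z) (hwu : IsUnit w) :
    ln B (z * w) = ln B z + ln B w := by
  unfold ln
  have h1 : B.toSubmodule.map (mulL A (z * w)) =
      (B.toSubmodule.map (mulL A w)).map (mulL A z) := by
    rw [mulL_mul, Submodule.map_comp]
  have h2 : (B.toSubmodule.map (mulL A w)).map (mulL A z) ≤ B.toSubmodule.map (mulL A z) :=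
    Submodule.map_mono (map_mulL_le B hw)
  have h3 := rl_add h2 (map_mulL_le B hz)
  rw [rl_map_inj' (mulL A z) (mulL_injective hzu)] at h3
  rw [h1, h3, ENat.toNat_add (rl_mulL_ne_top hA B hB hzu) (rl_mulL_ne_top hA B hB hwu)]

/-- `ℓ(t) = 0` iff `t` is a unit of `B` -/
theorem exists_inv_of_ln_eq_zero (hA : ringKrullDim A = 1) (B : Subalgebra A K)
    (hB : B.toSubmodule.FG) {t : K} (htu : IsUnit t) (h0 : ln B t = 0) :
    ∃ t' ∈ B, t * t' = 1 := by
  unfold ln at h0
  rw [ENat.toNat_eq_zero] at h0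
  rcases h0 with h0 | h0
  swap
  · exact absurd h0 (rl_mulL_ne_top hA B hB htu)
  unfold rl at h0
  rw [Module.length_eq_zero_iff] at h0
  have h1 : (⟨1, B.one_mem⟩ : ↥B.toSubmodule) ∈
      (B.toSubmodule.map (mulL A t)).submoduleOf B.toSubmodule := by
    rw [← Submodule.Quotient.mk_eq_zero]
    exact Subsingleton.elim _ _
  obtain ⟨t', ht', h⟩ := h1
  exact ⟨t', ht', h⟩

end measure

end Groth.Agent.Lib.helper2.Tame
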