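import Mathlib
import Groth.Agent.Lib.Helper2.Tame6

/-!
# Tame symbols, part 7: the pair theorem (helper2)

`A` one-dimensional Noetherian local, `K` its total ring of fractions, `B ⊆ K` finite, and finitely
many elements of `B` that are units of `K`.  Then there are a finite `B ⊆ B' ⊆ K` and `π ∈ B'` such
that locally at every prime of `B'` each element is a unit times a power of `π`.
-/

set_option autoImplicit false
universe u

namespace Groth.Agent.Lib.helper2.Tame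

section LA

variable {A : Type u} [CommRing A] {K : Type u} [CommRing K] [Algebra A K]

/-- `z` and `w` differ by a unit locally at the ideal `n` of `B` -/
def LA (B : Subalgebra A K) (n : Ideal ↥B) (z w : K) : Prop :=
  ∃ s s' : ↥B, s ∉ n ∧ s' ∉ n ∧ (s : K) * z = (s' : K) * w

variable {B : Subalgebra A K} {n : Ideal ↥B}

theorem LA.refl (hn : n ≠ ⊤) (z : K) : LA B n z z :=
  ⟨1, 1, (Ideal.ne_top_iff_one n).1 hn, (Ideal.ne_top_iff_one n).1 hn, rfl⟩

theorem LA.symm {z w : K} (h : LA B n z w) : LA B n w z := by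
  obtain ⟨s, s', hs, hs', e⟩ := h
  exact ⟨s', s, hs', hs, e.symm⟩

theorem LA.trans [hn : n.IsPrime] {z w v : K} (h1 : LA B n z w) (h2 : LA B n w v) :
    LA B n z v := by
  obtain ⟨s, s', hs, hs', e⟩ := h1
  obtain ⟨r, r', hr, hr', e'⟩ := h2
  refine ⟨r * s, s' * r', fun h => (hn.mem_or_mem h).elim hr hs,
    fun h => (hn.mem_or_mem h).elim hs' hr', ?_⟩
  push_cast
  calc (r : K) * s * z = r * (s * z) := by ring
    _ = r * (s' * w) := by rw [e]
    _ = s' * (r * w) := by ring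
    _ = s' * (r' * v) := by rw [e']
    _ = s' * r' * v := by ring

theorem LA.mul [hn : n.IsPrime] {z w z' w' : K} (h1 : LA B n z w) (h2 : LA B n z' w') :
    LA B n (z * z') (w * w') := by
  obtain ⟨s, s', hs, hs', e⟩ := h1
  obtain ⟨r, r', hr, hr', e'⟩ := h2
  refine ⟨s * r, s' * r', fun h => (hn.mem_or_mem h).elim hs hr,
    fun h => (hn.mem_or_mem h).elim hs' hr', ?_⟩
  push_cast
  calc (s : K) * r * (z * z') = (s * z) * (r * z') := by ring
    _ = (s' * w) * (r' * w') := by rw [e, e']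
    _ = s' * r' * (w * w') := by ring

theorem LA.pow [hn : n.IsPrime] {z w : K} (h : LA B n z w) (k : ℕ) : LA B n (z ^ k) (w ^ k) := by
  induction k with
  | zero => simpa using LA.refl hn.ne_top 1
  | succ k ih => rw [pow_succ, pow_succ]; exact ih.mul h

/-- `z * u ∼ z` when `u ∉ n` -/
theorem LA.mul_unit (hn : n ≠ ⊤) (z : K) {u : K} (hu : u ∈ B) (hun : (⟨u, hu⟩ : ↥B) ∉ n) :
    LA B n (z * u) z :=
  ⟨1, ⟨u, hu⟩, (Ideal.ne_top_iff_one n).1 hn, hun, by push_cast; ring⟩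

/-- `u ∼ 1` when `u ∉ n` -/
theorem LA.unit (hn : n ≠ ⊤) {u : K} (hu : u ∈ B) (hun : (⟨u, hu⟩ : ↥B) ∉ n) : LA B n u 1 :=
  ⟨1, ⟨u, hu⟩, (Ideal.ne_top_iff_one n).1 hn, hun, by push_cast; ring⟩

/-- transport along an inclusion of subalgebras -/
theorem LA.of_le {B' : Subalgebra A K} (h : B ≤ B') (n' : Ideal ↥B') {z w : K}
    (hzw : LA B (n'.comap (Subalgebra.inclusion h)) z w) : LA B' n' z w := by
  obtain ⟨s, s', hs, hs', e⟩ := hzw
  exact ⟨Subalgebra.inclusion h s, Subalgebra.inclusion h s', hs, hs', e⟩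

end LA

section pair

variable {A : Type u} [CommRing A] [IsNoetherianRing A] [IsLocalRing A]
  {K : Type u} [CommRing K] [Algebra A K] [IsFractionRing A K]

/-- **The pair theorem**, by induction on `ℓ(x) + ℓ(y)`. -/
theorem pair_theorem_aux (hA : ringKrullDim A = 1) : ∀ (N : ℕ) (B : Subalgebra A K)
    (_ : B.toSubmodule.FG) (x y : K) (_ : x ∈ B) (_ : y ∈ B) (_ : IsUnit x) (_ : IsUnit y),
    ln B x + ln B y ≤ N →
    ∃ B' : Subalgebra A K, B ≤ B' ∧ B'.toSubmodule.FG ∧ ∃ π : K, π ∈ B' ∧ IsUnit π ∧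
      ∀ n : Ideal ↥B', n.IsPrime → (∃ e : ℕ, LA B' n x (π ^ e)) ∧ (∃ f : ℕ, LA B' n y (π ^ f)) := by
  intro N
  induction N with
  | zero =>
    intro B hB x y hx hy hxu hyu hN
    -- both are units of `B`
    have hx0 : ln B x = 0 := by omega
    obtain ⟨x', hx', hxx'⟩ := exists_inv_of_ln_eq_zero hA B hB hxu hx0
    have hy0 : ln B y = 0 := by omega
    obtain ⟨y', hy', hyy'⟩ := exists_inv_of_ln_eq_zero hA B hB hyu hy0
    refine ⟨B, le_rfl, hB, 1, B.one_mem, isUnit_one, ?_⟩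
    intro n hn
    have hxn : (⟨x, hx⟩ : ↥B) ∉ n := by
      intro h
      have : (⟨x, hx⟩ : ↥B) * ⟨x', hx'⟩ ∈ n := Ideal.mul_mem_right _ _ h
      have e : (⟨x, hx⟩ : ↥B) * ⟨x', hx'⟩ = 1 := Subtype.ext hxx'
      rw [e] at this
      exact hn.ne_top ((Ideal.eq_top_iff_one n).2 this)
    have hyn : (⟨y, hy⟩ : ↥B) ∉ n := by
      intro h
      have : (⟨y, hy⟩ : ↥B) * ⟨y', hy'⟩ ∈ n := Ideal.mul_mem_right _ _ h
      have e : (⟨y, hy⟩ : ↥B) * ⟨y', hy'⟩ = 1 := Subtype.ext hyy'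
      rw [e] at this
      exact hn.ne_top ((Ideal.eq_top_iff_one n).2 this)
    exact ⟨⟨0, by simpa using LA.unit hn.ne_top hx hxn⟩,
      ⟨0, by simpa using LA.unit hn.ne_top hy hyn⟩⟩
  | succ N ih =>
    intro B hB x y hx hy hxu hyu hN
    obtain ⟨B₁, hBB₁, hB₁, t, x', y', α, β, ht, hx', hy', hα, hβ, hxe, hye, hone⟩ :=
      exists_principalize hA B hB x y hx hy hxu
    have htu : IsUnit t := by rw [hxe] at hxu; exact isUnit_of_mul_isUnit_left hxu
    have hx'u : IsUnit x' := by rw [hxe] at hxu; exact isUnit_of_mul_isUnit_right hxu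
    have hy'u : IsUnit y' := by rw [hye] at hyu; exact isUnit_of_mul_isUnit_right hyu
    -- at every prime one of `x'`, `y'` is a unit
    have hdich : ∀ (B' : Subalgebra A K) (h : B₁ ≤ B') (n : Ideal ↥B'), n.IsPrime →
        (⟨x', h hx'⟩ : ↥B') ∉ n ∨ (⟨y', h hy'⟩ : ↥B') ∉ n := by
      intro B' h n hn
      by_contra hcon
      push Not at hcon
      have h1 : (⟨α, h hα⟩ : ↥B') * ⟨x', h hx'⟩ + ⟨β, h hβ⟩ * ⟨y', h hy'⟩ ∈ n :=
        Ideal.add_mem _ (Ideal.mul_mem_left _ _ hcon.1) (Ideal.mul_mem_left _ _ hcon.2)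
      have e : (⟨α, h hα⟩ : ↥B') * ⟨x', h hx'⟩ + ⟨β, h hβ⟩ * ⟨y', h hy'⟩ = 1 := Subtype.ext hone
      rw [e] at h1
      exact hn.ne_top ((Ideal.eq_top_iff_one n).2 h1)
    -- the new pair `(t, x' y')`
    have hmeas : ln B₁ t + ln B₁ (x' * y') + ln B₁ t = ln B x + ln B y := by
      rw [ln_eq_of_le hA hBB₁ hB₁ hx hxu, ln_eq_of_le hA hBB₁ hB₁ hy hyu, hxe, hye,
        ln_mul hA B₁ hB₁ ht hx' htu hx'u, ln_mul hA B₁ hB₁ ht hy' htu hy'u,
        ln_mul hA B₁ hB₁ hx' hy' hx'u hy'u]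
      ring
    by_cases ht0 : ln B₁ t = 0
    · -- `t` is a unit of `B₁`
      obtain ⟨t', ht', htt'⟩ := exists_inv_of_ln_eq_zero hA B₁ hB₁ htu ht0
      refine ⟨B₁, hBB₁, hB₁, x' * y', B₁.mul_mem hx' hy', hx'u.mul hy'u, ?_⟩
      intro n hn
      have htn : (⟨t, ht⟩ : ↥B₁) ∉ n := by
        intro h
        have : (⟨t, ht⟩ : ↥B₁) * ⟨t', ht'⟩ ∈ n := Ideal.mul_mem_right _ _ h
        have e : (⟨t, ht⟩ : ↥B₁) * ⟨t', ht'⟩ = 1 := Subtype.ext htt'
        rw [e] at this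
        exact hn.ne_top ((Ideal.eq_top_iff_one n).2 this)
      have hxx' : LA B₁ n x x' := by
        rw [hxe, mul_comm]
        exact LA.mul_unit hn.ne_top x' ht htn
      have hyy' : LA B₁ n y y' := by
        rw [hye, mul_comm]
        exact LA.mul_unit hn.ne_top y' ht htn
      rcases hdich B₁ le_rfl n hn with h | h
      · -- `x'` unit at `n`
        refine ⟨⟨0, ?_⟩, ⟨1, ?_⟩⟩
        · rw [pow_zero]
          exact hxx'.trans (LA.unit hn.ne_top hx' h)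
        · rw [pow_one, mul_comm x' y']
          exact hyy'.trans (LA.mul_unit hn.ne_top y' hx' h).symm
      · refine ⟨⟨1, ?_⟩, ⟨0, ?_⟩⟩
        · rw [pow_one]
          exact hxx'.trans (LA.mul_unit hn.ne_top x' hy' h).symm
        · rw [pow_zero]
          exact hyy'.trans (LA.unit hn.ne_top hy' h)
    · have hlt : ln B₁ t + ln B₁ (x' * y') ≤ N := by omega
      obtain ⟨B', hB₁B', hB', π, hπ, hπu, hloc⟩ := ih B₁ hB₁ t (x' * y') ht (B₁.mul_mem hx' hy')
        htu (hx'u.mul hy'u) hlt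
      refine ⟨B', hBB₁.trans hB₁B', hB', π, hπ, hπu, ?_⟩
      intro n hn
      obtain ⟨⟨e, he⟩, ⟨f, hf⟩⟩ := hloc n hn
      rcases hdich B' hB₁B' n hn with h | h
      · -- `x'` unit at `n`: `x ∼ t`, `y' ∼ x' y'`
        have hxt : LA B' n x t := by
          rw [hxe]
          exact LA.mul_unit hn.ne_top t (hB₁B' hx') h
        have hy'1 : LA B' n y' (x' * y') := by
          rw [mul_comm x' y']
          exact (LA.mul_unit hn.ne_top y' (hB₁B' hx') h).symm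
        refine ⟨⟨e, hxt.trans he⟩, ⟨e + f, ?_⟩⟩
        rw [hye, pow_add]
        exact he.mul (hy'1.trans hf)
      · have hyt : LA B' n y t := by
          rw [hye]
          exact LA.mul_unit hn.ne_top t (hB₁B' hy') h
        have hx'1 : LA B' n x' (x' * y') :=
          (LA.mul_unit hn.ne_top x' (hB₁B' hy') h).symm
        refine ⟨⟨e + f, ?_⟩, ⟨e, hyt.trans he⟩⟩
        rw [hxe, pow_add]
        exact he.mul (hx'1.trans hf)

theorem pair_theorem (hA : ringKrullDim A = 1) (B : Subalgebra A K) (hB : B.toSubmodule.FG)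
    (x y : K) (hx : x ∈ B) (hy : y ∈ B) (hxu : IsUnit x) (hyu : IsUnit y) :
    ∃ B' : Subalgebra A K, B ≤ B' ∧ B'.toSubmodule.FG ∧ ∃ π : K, π ∈ B' ∧ IsUnit π ∧
      ∀ n : Ideal ↥B', n.IsPrime → (∃ e : ℕ, LA B' n x (π ^ e)) ∧ (∃ f : ℕ, LA B' n y (π ^ f)) :=
  pair_theorem_aux hA _ B hB x y hx hy hxu hyu le_rfl

/-- **The multi theorem**: finitely many elements. -/
theorem multi_theorem (hA : ringKrullDim A = 1) (r : ℕ) : ∀ (B : Subalgebra A K)
    (_ : B.toSubmodule.FG) (z : Fin r → K) (_ : ∀ i, z i ∈ B) (_ : ∀ i, IsUnit (z i)),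
    ∃ B' : Subalgebra A K, B ≤ B' ∧ B'.toSubmodule.FG ∧ ∃ π : K, π ∈ B' ∧ IsUnit π ∧
      ∀ n : Ideal ↥B', n.IsPrime → ∀ i, ∃ e : ℕ, LA B' n (z i) (π ^ e) := by
  induction r with
  | zero =>
    intro B hB z _ _
    exact ⟨B, le_rfl, hB, 1, B.one_mem, isUnit_one, fun n _ i => i.elim0⟩
  | succ r ih =>
    intro B hB z hz hzu
    obtain ⟨B₁, hBB₁, hB₁, π₁, hπ₁, hπ₁u, hloc₁⟩ := ih B hB (fun i => z i.castSucc)
      (fun i => hz _) (fun i => hzu _)
    obtain ⟨B', hB₁B', hB', π, hπ, hπu, hloc⟩ := pair_theorem hA B₁ hB₁ π₁ (z (Fin.last r)) hπ₁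
      (hBB₁ (hz _)) hπ₁u (hzu _)
    refine ⟨B', hBB₁.trans hB₁B', hB', π, hπ, hπu, ?_⟩
    intro n hn i
    obtain ⟨⟨e, he⟩, ⟨f, hf⟩⟩ := hloc n hn
    refine Fin.lastCases ?_ (fun j => ?_) i
    · exact ⟨f, hf⟩
    · haveI : (n.comap (Subalgebra.inclusion hB₁B')).IsPrime := Ideal.comap_isPrime _ _
      obtain ⟨e₁, he₁⟩ := hloc₁ (n.comap (Subalgebra.inclusion hB₁B')) inferInstance j
      refine ⟨e * e₁, ?_⟩
      rw [pow_mul]
      exact (LA.of_le hB₁B' n he₁).trans (he.pow e₁)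

end pair

end Groth.Agent.Lib.helper2.Tame
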