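import Mathlib
import Groth.Agent.Lib.Helper2.Tame7

/-!
# Tame symbols, part 8: simultaneous factorisation (S1836) (helper2)
-/

set_option autoImplicit false
universe u

namespace Groth.Agent.Lib.helper2.Tame

section S1836

variable (A : Type u) [CommRing A] [IsNoetherianRing A] [IsLocalRing A]

/-- from a local association to a factorisation in the localisation -/
theorem factor_of_LA {A : Type u} [CommRing A] {K : Type u} [CommRing K] [Algebra A K]
    (B : Subalgebra A K) (q : Ideal ↥B) [q.IsPrime] (z : ↥B) (π : ↥B) (e : ℕ)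
    (h : LA B q (z : K) ((π : K) ^ e)) :
    ∃ v : (Localization.AtPrime q)ˣ, algebraMap ↥B (Localization.AtPrime q) z =
      (v : Localization.AtPrime q) * (algebraMap ↥B (Localization.AtPrime q) π) ^ e := by
  obtain ⟨s, s', hs, hs', he⟩ := h
  have hsu : IsUnit (algebraMap ↥B (Localization.AtPrime q) s) :=
    IsLocalization.map_units (Localization.AtPrime q) (⟨s, hs⟩ : q.primeCompl)
  have hs'u : IsUnit (algebraMap ↥B (Localization.AtPrime q) s') :=
    IsLocalization.map_units (Localization.AtPrime q) (⟨s', hs'⟩ : q.primeCompl)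
  have he' : s * z = s' * π ^ e := Subtype.ext (by push_cast; exact he)
  refine ⟨hsu.unit⁻¹ * hs'u.unit, ?_⟩
  have h1 : algebraMap ↥B (Localization.AtPrime q) s * algebraMap ↥B (Localization.AtPrime q) z =
      algebraMap ↥B (Localization.AtPrime q) s' *
        (algebraMap ↥B (Localization.AtPrime q) π) ^ e := by
    rw [← map_mul, he', map_mul, map_pow]
  rw [Units.val_mul, mul_assoc, eq_comm, Units.inv_mul_eq_iff_eq_mul, IsUnit.unit_spec,
    IsUnit.unit_spec]
  exact h1.symm

theorem simultaneous_factorisation (hA : ringKrullDim A = 1) (r : ℕ) (a : Fin r → A)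
    (ha : ∀ i, a i ∈ nonZeroDivisors A) :
    ∃ (B : Type u) (_ : CommRing B) (_ : Algebra A B),
      CycAlg.IsFinExt A B (IsLocalRing.maximalIdeal A) ∧ ∀ q : MaximalSpectrum B,
        ∃ π : Localization.AtPrime q.asIdeal, π ∈ nonZeroDivisors (Localization.AtPrime q.asIdeal) ∧
          ∀ i, ∃ (v : (Localization.AtPrime q.asIdeal)ˣ) (e : ℕ),
            algebraMap A (Localization.AtPrime q.asIdeal) (a i) =
              (v : Localization.AtPrime q.asIdeal) * π ^ e := by
  set K := FractionRing A with hK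
  have hbot : (⊥ : Subalgebra A K).toSubmodule.FG := by
    rw [Algebra.toSubmodule_bot, Submodule.one_eq_span]
    exact Submodule.fg_span_singleton _
  obtain ⟨B', -, hB'fg, π, hπ, hπu, hloc⟩ := multi_theorem hA r (⊥ : Subalgebra A K) hbot
    (fun i => algebraMap A K (a i)) (fun i => Subalgebra.algebraMap_mem _ _)
    (fun i => IsLocalization.map_units K (⟨a i, ha i⟩ : nonZeroDivisors A))
  refine ⟨↥B', inferInstance, inferInstance, isFinExt_of_fg hA B' hB'fg, ?_⟩
  intro q
  haveI := q.isMaximal
  refine ⟨algebraMap ↥B' (Localization.AtPrime q.asIdeal) ⟨π, hπ⟩, ?_, ?_⟩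
  · apply IsLocalization.map_nonZeroDivisors_le q.asIdeal.primeCompl
      (Localization.AtPrime q.asIdeal)
    exact ⟨_, mem_nonZeroDivisors_of_isUnit_val B' ⟨π, hπ⟩ hπu, rfl⟩
  · intro i
    obtain ⟨e, he⟩ := hloc q.asIdeal inferInstance i
    obtain ⟨v, hv⟩ := factor_of_LA B' q.asIdeal (algebraMap A ↥B' (a i)) ⟨π, hπ⟩ e he
    refine ⟨v, e, ?_⟩
    rw [IsScalarTower.algebraMap_apply A ↥B' (Localization.AtPrime q.asIdeal)]
    exact hv

end S1836

end Groth.Agent.Lib.helper2.Tame
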