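import Mathlib
import Groth.Agent.Lib.Helper2.Tame8
import Groth.Agent.Lib.Helper2.Tame13

/-!
# Tame symbols, part 14: embedding a finite extension into the total ring of fractions; the unit
case (helper2)
-/

set_option autoImplicit false
universe u

namespace Groth.Agent.Lib.helper2.Tame

open IsLocalRing CycAlg

section embed

variable {A : Type u} [CommRing A] [IsLocalRing A] {K : Type u} [CommRing K] [Algebra A K]
  [IsFractionRing A K] {B : Type u} [CommRing B] [Algebra A B]

/-- a finite extension with cokernel killed by a power of `𝔪`, on which a nonzerodivisor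
`c₀ ∈ 𝔪` is regular, embeds into the total ring of fractions -/
theorem exists_embedding (hext : CycAlg.IsFinExt A B (maximalIdeal A)) (c₀ : A)
    (hc₀ : c₀ ∈ nonZeroDivisors A) (hc₀m : c₀ ∈ maximalIdeal A)
    (hreg : ∀ b : B, algebraMap A B c₀ * b = 0 → b = 0) :
    ∃ ψ : B →ₐ[A] K, Function.Injective ψ := by
  obtain ⟨hinj, -, n, hn⟩ := hext
  set c : A := c₀ ^ n with hc
  have hcm : c ∈ maximalIdeal A ^ n := Ideal.pow_mem_pow hc₀m n
  have hcnz : c ∈ nonZeroDivisors A := pow_mem hc₀ n
  have hex : ∀ b : B, ∃ a : A, algebraMap A B a = c • b := fun b => hn c hcm b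
  choose φ hφ using hex
  have hcu : IsUnit (algebraMap A K c) := IsLocalization.map_units K (⟨c, hcnz⟩ : nonZeroDivisors A)
  obtain ⟨ci, hci⟩ := hcu.exists_right_inv
  have hφ1 : φ 1 = c := hinj (by rw [hφ, Algebra.smul_def, mul_one])
  have hφadd : ∀ b b', φ (b + b') = φ b + φ b' := fun b b' =>
    hinj (by rw [map_add, hφ, hφ, hφ, smul_add])
  have hφmul : ∀ b b', φ (b * b') * c = φ b * φ b' := fun b b' =>
    hinj (by
      rw [map_mul, map_mul, hφ, hφ, hφ, Algebra.smul_def, Algebra.smul_def, Algebra.smul_def]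
      ring)
  have hφalg : ∀ a, φ (algebraMap A B a) = c * a := fun a =>
    hinj (by rw [hφ, map_mul, Algebra.smul_def])
  let ψ₀ : B →+* K :=
    { toFun := fun b => algebraMap A K (φ b) * ci
      map_one' := by rw [hφ1, hci]
      map_mul' := fun b b' => by
        have h1 : algebraMap A K (φ (b * b')) * algebraMap A K c =
            algebraMap A K (φ b) * algebraMap A K (φ b') := by
          rw [← map_mul, hφmul, map_mul]
        calc algebraMap A K (φ (b * b')) * ci
            = (algebraMap A K (φ (b * b')) * algebraMap A K c) * ci * ci := by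
              rw [mul_assoc (algebraMap A K (φ (b * b'))), hci, mul_one]
          _ = algebraMap A K (φ b) * ci * (algebraMap A K (φ b') * ci) := by rw [h1]; ring
      map_zero' := by
        have : φ 0 = 0 := hinj (by rw [hφ, smul_zero, map_zero])
        rw [this, map_zero, zero_mul]
      map_add' := fun b b' => by rw [hφadd, map_add, add_mul] }
  have hψ₀ : ∀ b, ψ₀ b = algebraMap A K (φ b) * ci := fun b => rfl
  refine ⟨{ ψ₀ with commutes' := fun a => ?_ }, ?_⟩
  · change ψ₀ (algebraMap A B a) = algebraMap A K a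
    rw [hψ₀, hφalg, map_mul, mul_comm (algebraMap A K c), mul_assoc, hci, mul_one]
  · intro b b' h
    change ψ₀ b = ψ₀ b' at h
    rw [hψ₀, hψ₀] at h
    have h1 : algebraMap A K (φ b) = algebraMap A K (φ b') := by
      have := congrArg (· * algebraMap A K c) h
      simpa [mul_assoc, mul_comm ci, hci] using this
    have h2 : φ b = φ b' := IsFractionRing.injective A K h1
    have h3 : c • (b - b') = 0 := by rw [smul_sub, ← hφ, ← hφ, h2, sub_self]
    have h4 : ∀ (k : ℕ) (y : B), algebraMap A B (c₀ ^ k) * y = 0 → y = 0 := by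
      intro k
      induction k with
      | zero => intro y hy; simpa using hy
      | succ k ih =>
        intro y hy
        apply ih
        apply hreg
        rw [← mul_assoc, ← map_mul, ← pow_succ']
        exact hy
    have h5 := h4 n (b - b') (by rw [← Algebra.smul_def]; exact h3)
    exact sub_eq_zero.1 h5

/-- an element `x` of a finite `A`-algebra with `ℓ_A(B/xB) < ∞` maps to a unit of `K` -/
theorem isUnit_map_of_length_ne_top [Module.Finite A B] (ψ : B →ₐ[A] K) (c₀ : A)
    (hc₀ : c₀ ∈ nonZeroDivisors A) (hc₀m : c₀ ∈ maximalIdeal A) (x : B)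
    (hfin : Module.length A (B ⧸ Ideal.span {x}) ≠ ⊤) : IsUnit (ψ x) := by
  haveI : Algebra.IsIntegral A B := Algebra.IsIntegral.of_finite A B
  haveI : IsArtinian A (B ⧸ Ideal.span {x}) :=
    ((isFiniteLength_iff_isNoetherian_isArtinian).1 (Module.length_ne_top_iff.1 hfin)).2
  obtain ⟨n, y, hy⟩ := IsArtinian.exists_pow_succ_smul_dvd c₀
    (Ideal.Quotient.mk (Ideal.span {x}) (1 : B))
  obtain ⟨b, rfl⟩ := Ideal.Quotient.mk_surjective y
  -- `c₀` lies in the Jacobson radical of `B`
  have hjac : algebraMap A B c₀ ∈ Ideal.jacobson (⊥ : Ideal B) := by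
    rw [Ideal.jacobson, Ideal.mem_sInf]
    rintro M ⟨-, hM⟩
    have hcm : (M.comap (algebraMap A B)).IsMaximal :=
      Ideal.isMaximal_comap_of_isIntegral_of_isMaximal (R := A) M
    have := IsLocalRing.eq_maximalIdeal hcm
    have ha' : c₀ ∈ M.comap (algebraMap A B) := by rw [this]; exact hc₀m
    exact ha'
  have hu : IsUnit (algebraMap A B c₀ * (-b) + 1) := Ideal.mem_jacobson_bot.1 hjac (-b)
  have hmem : algebraMap A B (c₀ ^ n) * (algebraMap A B c₀ * (-b) + 1) ∈ Ideal.span {x} := by
    rw [← Ideal.Quotient.eq_zero_iff_mem]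
    have h1 : Ideal.Quotient.mk (Ideal.span {x}) (c₀ ^ n • (1 : B) - c₀ ^ n.succ • b) = 0 := by
      rw [map_sub]
      change c₀ ^ n • (Ideal.Quotient.mk (Ideal.span {x}) (1 : B)) -
        c₀ ^ n.succ • (Ideal.Quotient.mk (Ideal.span {x}) b) = 0
      rw [hy, sub_self]
    rw [← h1]
    congr 1
    rw [Algebra.smul_def, Algebra.smul_def, Nat.succ_eq_add_one, pow_succ, map_mul]
    ring
  obtain ⟨b', hb'⟩ := Ideal.mem_span_singleton.1 hmem
  have h2 : IsUnit (ψ (algebraMap A B (c₀ ^ n) * (algebraMap A B c₀ * (-b) + 1))) := by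
    rw [map_mul, AlgHom.commutes]
    exact (IsLocalization.map_units K (⟨c₀ ^ n, pow_mem hc₀ n⟩ : nonZeroDivisors A)).mul
      (hu.map ψ)
  rw [hb', map_mul] at h2
  exact isUnit_of_mul_isUnit_left h2

end embed

section wrapper

variable {A : Type u} [CommRing A] [IsNoetherianRing A] [IsLocalRing A]
  {K : Type u} [CommRing K] [Algebra A K] [IsFractionRing A K]

/-- the multi theorem for a finite index type -/
theorem multi_theorem' (hA : ringKrullDim A = 1) {ι : Type*} [Finite ι] (B : Subalgebra A K)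
    (hB : B.toSubmodule.FG) (z : ι → K) (hz : ∀ i, z i ∈ B) (hzu : ∀ i, IsUnit (z i)) :
    ∃ B' : Subalgebra A K, B ≤ B' ∧ B'.toSubmodule.FG ∧ ∃ π : K, π ∈ B' ∧ IsUnit π ∧
      ∀ n : Ideal ↥B', n.IsPrime → ∀ i, ∃ e : ℕ, LA B' n (z i) (π ^ e) := by
  haveI := Fintype.ofFinite ι
  let e := Fintype.equivFin ι
  obtain ⟨B', h1, h2, π, h3, h4, h5⟩ := multi_theorem hA (Fintype.card ι) B hB (z ∘ e.symm)
    (fun i => hz _) (fun i => hzu _)
  refine ⟨B', h1, h2, π, h3, h4, fun n hn i => ?_⟩
  obtain ⟨k, hk⟩ := h5 n hn (e i)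
  exact ⟨k, by simpa using hk⟩

end wrapper

section unitcase

variable {A : Type u} [CommRing A] [IsLocalRing A] {a₁ a₂ : A}

/-- if both elements are units every tame datum has value `1` -/
theorem value_eq_one_of_isUnit (D : TameData A a₁ a₂) (h₁ : IsUnit a₁) (h₂ : IsUnit a₂) :
    D.value = 1 := by
  unfold TameData.value
  apply finprod_eq_one_of_forall_eq_one
  intro q
  rw [localFactor_eq_lf, lf]
  by_cases hu : IsUnit (D.π q)
  · rw [Ring.ord_of_isUnit hu]
    simp
  · have hu1 : IsUnit (algebraMap A (Localization.AtPrime q.asIdeal) a₁) := h₁.map _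
    have hu2 : IsUnit (algebraMap A (Localization.AtPrime q.asIdeal) a₂) := h₂.map _
    have f1 : (hu1.unit : Localization.AtPrime q.asIdeal) * D.π q ^ 0 =
        (D.u₁ q : Localization.AtPrime q.asIdeal) * D.π q ^ D.e₁ q := by
      rw [pow_zero, mul_one, IsUnit.unit_spec, D.fac₁ q]
    have f2 : (hu2.unit : Localization.AtPrime q.asIdeal) * D.π q ^ 0 =
        (D.u₂ q : Localization.AtPrime q.asIdeal) * D.π q ^ D.e₂ q := by
      rw [pow_zero, mul_one, IsUnit.unit_spec, D.fac₂ q]
    obtain ⟨he1, -⟩ := unit_pow_unique (D.π_mem q) hu f1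
    obtain ⟨he2, -⟩ := unit_pow_unique (D.π_mem q) hu f2
    unfold theta
    rw [← he1, ← he2]
    simp

end unitcase

end Groth.Agent.Lib.helper2.Tame
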