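import Mathlib
import Groth.Agent.Lib.Helper2.Tame14
import Groth.Agent.Lib.Helper2.NormOrd1

/-!
# Tame symbols, part 15: tame data from global data on a finite subalgebra of the total ring of
fractions, and the comparison with arbitrary tame data (helper2)
-/

set_option autoImplicit false
universe u

namespace Groth.Agent.Lib.helper2.Tame

open IsLocalRing CycAlg

section mk

variable {A : Type u} [CommRing A] [IsNoetherianRing A] [IsLocalRing A]
  {K : Type u} [CommRing K] [Algebra A K] [IsFractionRing A K] {a₁ a₂ : A}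

/-- global data on a finite subalgebra `B₃ ⊆ K`: a parameter `π₃` such that `a₁`, `a₂` are locally
unit multiples of powers of `π₃` -/
structure GlobalData (A : Type u) [CommRing A] (K : Type u) [CommRing K] [Algebra A K]
    (a₁ a₂ : A) where
  B₃ : Subalgebra A K
  fg : B₃.toSubmodule.FG
  π₃ : K
  mem : π₃ ∈ B₃
  isUnit : IsUnit π₃
  loc₁ : ∀ n : Ideal ↥B₃, n.IsPrime → ∃ e : ℕ, LA B₃ n (algebraMap A K a₁) (π₃ ^ e)
  loc₂ : ∀ n : Ideal ↥B₃, n.IsPrime → ∃ e : ℕ, LA B₃ n (algebraMap A K a₂) (π₃ ^ e)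

variable (G : GlobalData A K a₁ a₂)

theorem GlobalData.exists_fac (q : MaximalSpectrum ↥G.B₃) :
    ∃ (e₁ e₂ : ℕ) (v₁ v₂ : (Localization.AtPrime q.asIdeal)ˣ),
      algebraMap A (Localization.AtPrime q.asIdeal) a₁ =
        (v₁ : Localization.AtPrime q.asIdeal) *
          (algebraMap ↥G.B₃ (Localization.AtPrime q.asIdeal) ⟨G.π₃, G.mem⟩) ^ e₁ ∧
      algebraMap A (Localization.AtPrime q.asIdeal) a₂ =
        (v₂ : Localization.AtPrime q.asIdeal) *
          (algebraMap ↥G.B₃ (Localization.AtPrime q.asIdeal) ⟨G.π₃, G.mem⟩) ^ e₂ := by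
  haveI := q.isMaximal
  obtain ⟨e₁, h₁⟩ := G.loc₁ q.asIdeal inferInstance
  obtain ⟨e₂, h₂⟩ := G.loc₂ q.asIdeal inferInstance
  obtain ⟨v₁, hv₁⟩ := factor_of_LA G.B₃ q.asIdeal (algebraMap A ↥G.B₃ a₁) ⟨G.π₃, G.mem⟩ e₁ h₁
  obtain ⟨v₂, hv₂⟩ := factor_of_LA G.B₃ q.asIdeal (algebraMap A ↥G.B₃ a₂) ⟨G.π₃, G.mem⟩ e₂ h₂
  refine ⟨e₁, e₂, v₁, v₂, ?_, ?_⟩
  · rw [IsScalarTower.algebraMap_apply A ↥G.B₃ (Localization.AtPrime q.asIdeal)]; exact hv₁
  · rw [IsScalarTower.algebraMap_apply A ↥G.B₃ (Localization.AtPrime q.asIdeal)]; exact hv₂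

/-- the tame datum attached to global data -/
noncomputable def GlobalData.tame (hA : ringKrullDim A = 1) : TameData A a₁ a₂ where
  B := ↥G.B₃
  isFinExt := isFinExt_of_fg hA G.B₃ G.fg
  isLocalHom q := by
    haveI : Module.Finite A ↥G.B₃ := Module.Finite.iff_fg.2 G.fg
    haveI := q.isMaximal
    exact Groth.Agent.Lib.helper2.NormOrd.isLocalHom_of_isIntegral_atPrime A ↥G.B₃ q.asIdeal
      (Localization.AtPrime q.asIdeal)
  π q := algebraMap ↥G.B₃ (Localization.AtPrime q.asIdeal) ⟨G.π₃, G.mem⟩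
  π_mem q := by
    apply IsLocalization.map_nonZeroDivisors_le q.asIdeal.primeCompl
      (Localization.AtPrime q.asIdeal)
    exact ⟨_, mem_nonZeroDivisors_of_isUnit_val G.B₃ ⟨G.π₃, G.mem⟩ G.isUnit, rfl⟩
  e₁ q := (G.exists_fac q).choose
  e₂ q := (G.exists_fac q).choose_spec.choose
  u₁ q := (G.exists_fac q).choose_spec.choose_spec.choose
  u₂ q := (G.exists_fac q).choose_spec.choose_spec.choose_spec.choose
  fac₁ q := (G.exists_fac q).choose_spec.choose_spec.choose_spec.choose_spec.1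
  fac₂ q := (G.exists_fac q).choose_spec.choose_spec.choose_spec.choose_spec.2

/-- comparison of an arbitrary tame datum with the one attached to global data -/
theorem value_eq_tame (hA : ringKrullDim A = 1) (D : TameData A a₁ a₂) (ψ : D.B →ₐ[A] K)
    (hψ : Function.Injective ψ) (hrange : ∀ b, ψ b ∈ G.B₃)
    (x : MaximalSpectrum D.B → D.B)
    (hx : ∀ q, ∃ w : (Localization.AtPrime q.asIdeal)ˣ,
      algebraMap D.B (Localization.AtPrime q.asIdeal) (x q) =
        (w : Localization.AtPrime q.asIdeal) * D.π q)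
    (hloc : ∀ n : Ideal ↥G.B₃, n.IsPrime → ∀ q, ∃ e : ℕ, LA G.B₃ n (ψ (x q)) (G.π₃ ^ e)) :
    D.value = (G.tame hA).value := by
  let j : D.B →ₐ[A] (G.tame hA).B := ψ.codRestrict G.B₃ hrange
  have hj : Function.Injective j := fun b b' h => hψ (congrArg Subtype.val h)
  apply value_eq_of_compat D (G.tame hA) j hA hj
  intro q'
  haveI := q'.isMaximal
  obtain ⟨w₀, hw₀⟩ := hx (cmap D (G.tame hA) j q')
  have hprime : Ideal.IsPrime (α := ↥G.B₃) q'.asIdeal := q'.isMaximal.isPrime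
  obtain ⟨d, hd⟩ := hloc q'.asIdeal hprime (cmap D (G.tame hA) j q')
  obtain ⟨v, hv⟩ : ∃ v : (Localization.AtPrime q'.asIdeal)ˣ,
      algebraMap (G.tame hA).B (Localization.AtPrime q'.asIdeal)
        (j (x (cmap D (G.tame hA) j q'))) =
        (v : Localization.AtPrime q'.asIdeal) * (G.tame hA).π q' ^ d :=
    @factor_of_LA A _ K _ _ G.B₃ q'.asIdeal hprime
      (j (x (cmap D (G.tame hA) j q'))) ⟨G.π₃, G.mem⟩ d hd
  refine ⟨d, (Units.map (locHom D (G.tame hA) j q').toMonoidHom w₀)⁻¹ * v, ?_⟩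
  have h1 : locHom D (G.tame hA) j q' (algebraMap D.B _ (x (cmap D (G.tame hA) j q'))) =
      (v : Localization.AtPrime q'.asIdeal) * (G.tame hA).π q' ^ d := by
    rw [locHom_algebraMap]
    exact hv
  rw [hw₀, map_mul] at h1
  rw [Units.val_mul, mul_assoc, ← h1, ← mul_assoc]
  have : ((Units.map (locHom D (G.tame hA) j q').toMonoidHom w₀)⁻¹ : (Localization.AtPrime
      q'.asIdeal)ˣ).val * locHom D (G.tame hA) j q' (w₀ : Localization.AtPrime
      (cmap D (G.tame hA) j q').asIdeal) = 1 := by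
    have e : locHom D (G.tame hA) j q' (w₀ : Localization.AtPrime
        (cmap D (G.tame hA) j q').asIdeal) =
        ((Units.map (locHom D (G.tame hA) j q').toMonoidHom w₀ : (Localization.AtPrime
          q'.asIdeal)ˣ) : Localization.AtPrime q'.asIdeal) := rfl
    rw [e, Units.inv_mul]
  rw [this, one_mul]

end mk

end Groth.Agent.Lib.helper2.Tame
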