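import Mathlib
import Groth.Agent.Lib.Helper2.Tame15

/-!
# Tame symbols, part 16: the tame symbol is well defined (S1847) (helper2)
-/

set_option autoImplicit false
universe u

namespace Groth.Agent.Lib.helper2.Tame

open IsLocalRing CycAlg

section welldef

variable {A : Type u} [CommRing A] [IsNoetherianRing A] [IsLocalRing A] {a₁ a₂ : A}

/-- `a₁` (resp. `a₂`) is regular on the ring of a tame datum -/
theorem regular_of_tame (D : TameData A a₁ a₂) (c₀ : A) (hc : c₀ = a₁ ∨ c₀ = a₂) (b : D.B)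
    (hb : algebraMap A D.B c₀ * b = 0) : b = 0 := by
  refine eq_zero_of_mul_eq_zero_of_localization (algebraMap A D.B c₀) (fun q => ?_) b hb
  rw [← IsScalarTower.algebraMap_apply A D.B (Localization.AtPrime q.asIdeal)]
  rcases hc with rfl | rfl
  · rw [D.fac₁ q]
    exact mul_mem (Units.isUnit _).mem_nonZeroDivisors (pow_mem (D.π_mem q) _)
  · rw [D.fac₂ q]
    exact mul_mem (Units.isUnit _).mem_nonZeroDivisors (pow_mem (D.π_mem q) _)

/-- global representatives of the local parameters of a tame datum -/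
theorem exists_reps (hA : ringKrullDim A = 1) (D : TameData A a₁ a₂) :
    ∃ x : MaximalSpectrum D.B → D.B,
      (∀ q, ∃ w : (Localization.AtPrime q.asIdeal)ˣ,
        algebraMap D.B (Localization.AtPrime q.asIdeal) (x q) =
          (w : Localization.AtPrime q.asIdeal) * D.π q) ∧
      ∀ q, Module.length A (D.B ⧸ Ideal.span {x q}) ≠ ⊤ := by
  classical
  haveI : Module.Finite A D.B := D.isFinExt.2.1
  haveI : IsNoetherianRing D.B := isNoetherianRing_of_finite A D.B
  haveI := finite_maximalSpectrum A D.B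
  haveI := Fintype.ofFinite (MaximalSpectrum D.B)
  haveI hLH : ∀ q₂ : MaximalSpectrum D.B,
      IsLocalHom (algebraMap A (Localization.AtPrime q₂.asIdeal)) := D.isLocalHom
  have key : ∀ q : MaximalSpectrum D.B, ∃ x : D.B,
      (∃ w : (Localization.AtPrime q.asIdeal)ˣ,
        algebraMap D.B (Localization.AtPrime q.asIdeal) x =
          (w : Localization.AtPrime q.asIdeal) * D.π q) ∧
      ∀ q₂ : MaximalSpectrum D.B, q₂ ≠ q → x ∉ q₂.asIdeal := by
    intro q
    haveI : IsNoetherianRing (Localization.AtPrime q.asIdeal) :=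
      IsLocalization.isNoetherianRing q.asIdeal.primeCompl _ inferInstance
    haveI : Ring.KrullDimLE 1 (Localization.AtPrime q.asIdeal) :=
      krullDimLE_one_localization (R := A) hA q.asIdeal
    exact exists_global_rep q (D.π q) (exists_pow_maximalIdeal_le_span _ (D.π_mem q))
  choose x hx hxo using key
  refine ⟨x, hx, fun q => ?_⟩
  refine (toNat_length_quot_eq_sum A D.B hA (x q) (fun q₂ => ?_)).1
  by_cases h : q₂ = q
  · subst h
    obtain ⟨w, hw⟩ := hx q₂
    rw [hw]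
    exact mul_mem w.isUnit.mem_nonZeroDivisors (D.π_mem q₂)
  · exact (IsLocalization.map_units (Localization.AtPrime q₂.asIdeal)
      (⟨x q, hxo q q₂ h⟩ : q₂.asIdeal.primeCompl)).mem_nonZeroDivisors

/-- **The tame symbol is well defined.** -/
theorem value_eq_value (hA : ringKrullDim A = 1) (h₁ : a₁ ∈ nonZeroDivisors A)
    (h₂ : a₂ ∈ nonZeroDivisors A) (D D' : TameData A a₁ a₂) : D.value = D'.value := by
  classical
  by_cases hunits : IsUnit a₁ ∧ IsUnit a₂
  · rw [value_eq_one_of_isUnit D hunits.1 hunits.2, value_eq_one_of_isUnit D' hunits.1 hunits.2]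
  -- a non-unit nonzerodivisor
  obtain ⟨c₀, hc, hc₀, hc₀m⟩ : ∃ c₀ : A, (c₀ = a₁ ∨ c₀ = a₂) ∧ c₀ ∈ nonZeroDivisors A ∧
      c₀ ∈ maximalIdeal A := by
    by_cases hu1 : IsUnit a₁
    · exact ⟨a₂, Or.inr rfl, h₂, (mem_maximalIdeal _).2 fun h => hunits ⟨hu1, h⟩⟩
    · exact ⟨a₁, Or.inl rfl, h₁, (mem_maximalIdeal _).2 hu1⟩
  set K := FractionRing A with hK
  haveI : Module.Finite A D.B := D.isFinExt.2.1
  haveI : Module.Finite A D'.B := D'.isFinExt.2.1
  haveI := finite_maximalSpectrum A D.B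
  haveI := finite_maximalSpectrum A D'.B
  obtain ⟨ψ, hψ⟩ := exists_embedding (K := K) D.isFinExt c₀ hc₀ hc₀m (regular_of_tame D c₀ hc)
  obtain ⟨ψ', hψ'⟩ := exists_embedding (K := K) D'.isFinExt c₀ hc₀ hc₀m
    (regular_of_tame D' c₀ hc)
  obtain ⟨x, hx, hxfin⟩ := exists_reps hA D
  obtain ⟨x', hx', hxfin'⟩ := exists_reps hA D'
  -- the common finite subalgebra
  set B₀ : Subalgebra A K := Algebra.adjoin A ((ψ.range : Set K) ∪ (ψ'.range : Set K)) with hB₀
  have hfgr : ∀ {B : Type u} [CommRing B] [Algebra A B] [Module.Finite A B] (φ : B →ₐ[A] K),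
      φ.range.toSubmodule.FG := by
    intro B _ _ _ φ
    have : φ.range.toSubmodule = (⊤ : Submodule A B).map φ.toLinearMap := by
      ext y
      simp
    rw [this]
    exact (Module.Finite.fg_top).map _
  have hB₀fg : B₀.toSubmodule.FG := by
    rw [hB₀, Algebra.adjoin_union_coe_submodule, Algebra.adjoin_eq, Algebra.adjoin_eq]
    exact (hfgr ψ).mul (hfgr ψ')
  have hψB₀ : ∀ b, ψ b ∈ B₀ := fun b => Algebra.subset_adjoin (Or.inl ⟨b, rfl⟩)
  have hψ'B₀ : ∀ b, ψ' b ∈ B₀ := fun b => Algebra.subset_adjoin (Or.inr ⟨b, rfl⟩)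
  -- the family of elements
  let z : (MaximalSpectrum D.B ⊕ MaximalSpectrum D'.B) ⊕ Fin 2 → K :=
    Sum.elim (Sum.elim (fun q => ψ (x q)) (fun q => ψ' (x' q)))
      (fun i => algebraMap A K (![a₁, a₂] i))
  have hzB : ∀ i, z i ∈ B₀ := by
    rintro ((q | q) | i)
    · exact hψB₀ _
    · exact hψ'B₀ _
    · exact B₀.algebraMap_mem _
  have hzu : ∀ i, IsUnit (z i) := by
    rintro ((q | q) | i)
    · exact isUnit_map_of_length_ne_top ψ c₀ hc₀ hc₀m (x q) (hxfin q)
    · exact isUnit_map_of_length_ne_top ψ' c₀ hc₀ hc₀m (x' q) (hxfin' q)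
    · fin_cases i
      · exact IsLocalization.map_units K (⟨a₁, h₁⟩ : nonZeroDivisors A)
      · exact IsLocalization.map_units K (⟨a₂, h₂⟩ : nonZeroDivisors A)
  obtain ⟨B₃, hB₀B₃, hB₃fg, π₃, hπ₃, hπ₃u, hloc⟩ := multi_theorem' hA B₀ hB₀fg z hzB hzu
  let G : GlobalData A K a₁ a₂ :=
    { B₃ := B₃
      fg := hB₃fg
      π₃ := π₃
      mem := hπ₃
      isUnit := hπ₃u
      loc₁ := fun n hn => hloc n hn (Sum.inr 0)
      loc₂ := fun n hn => hloc n hn (Sum.inr 1) }
  rw [value_eq_tame G hA D ψ hψ (fun b => hB₀B₃ (hψB₀ b)) x hx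
      (fun n hn q => hloc n hn (Sum.inl (Sum.inl q))),
    value_eq_tame G hA D' ψ' hψ' (fun b => hB₀B₃ (hψ'B₀ b)) x' hx'
      (fun n hn q => hloc n hn (Sum.inl (Sum.inr q)))]

end welldef

end Groth.Agent.Lib.helper2.Tame
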