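import Mathlib
import Groth.Agent.Lib.Helper2.Tame16

/-!
# Tame symbols, part 17: frames; the tame symbol as a product of local factors (helper2)
-/

set_option autoImplicit false
universe u

namespace Groth.Agent.Lib.helper2.Tame

open IsLocalRing CycAlg

section congr

variable {A : Type u} [CommRing A] [IsLocalRing A] {O : Type u} [CommRing O] [IsLocalRing O]
  [Algebra A O] [IsLocalHom (algebraMap A O)]

/-- the local factor does not depend on the chosen factorisations -/
theorem lf_congr {π : O} (hπ : π ∈ nonZeroDivisors O) {u₁ u₁' u₂ u₂' : Oˣ} {e₁ e₁' e₂ e₂' : ℕ}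
    (h1 : (u₁ : O) * π ^ e₁ = u₁' * π ^ e₁') (h2 : (u₂ : O) * π ^ e₂ = u₂' * π ^ e₂') :
    lf A O π u₁ u₂ e₁ e₂ = lf A O π u₁' u₂' e₁' e₂' := by
  by_cases hu : IsUnit π
  · unfold lf
    rw [Ring.ord_of_isUnit hu]
    simp
  · obtain ⟨rfl, rfl⟩ := unit_pow_unique hπ hu h1
    obtain ⟨rfl, rfl⟩ := unit_pow_unique hπ hu h2
    rfl

end congr

section frame

variable {A : Type u} [CommRing A] [IsNoetherianRing A] [IsLocalRing A]
  {K : Type u} [CommRing K] [Algebra A K] [IsFractionRing A K]

/-- a finite subalgebra of the total ring of fractions with a global parameter -/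
structure Frame (A : Type u) [CommRing A] (K : Type u) [CommRing K] [Algebra A K] where
  B₃ : Subalgebra A K
  fg : B₃.toSubmodule.FG
  π₃ : K
  mem : π₃ ∈ B₃
  isUnit : IsUnit π₃

/-- `z` is locally a unit multiple of a power of the parameter -/
def Frame.Adm (F : Frame A K) (z : A) : Prop :=
  ∀ n : Ideal ↥F.B₃, n.IsPrime → ∃ e : ℕ, LA F.B₃ n (algebraMap A K z) (F.π₃ ^ e)

/-- the global data of two admissible elements -/
def Frame.glob (F : Frame A K) {z z' : A} (hz : F.Adm z) (hz' : F.Adm z') :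
    GlobalData A K z z' :=
  ⟨F.B₃, F.fg, F.π₃, F.mem, F.isUnit, hz, hz'⟩

theorem exists_frame (hA : ringKrullDim A = 1) {ι : Type*} [Finite ι] (z : ι → A)
    (hz : ∀ i, z i ∈ nonZeroDivisors A) : ∃ F : Frame A K, ∀ i, F.Adm (z i) := by
  have hbot : (⊥ : Subalgebra A K).toSubmodule.FG := by
    rw [Algebra.toSubmodule_bot, Submodule.one_eq_span]
    exact Submodule.fg_span_singleton _
  obtain ⟨B', -, hB'fg, π, hπ, hπu, hloc⟩ := multi_theorem' hA (⊥ : Subalgebra A K) hbot
    (fun i => algebraMap A K (z i)) (fun i => Subalgebra.algebraMap_mem _ _)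
    (fun i => IsLocalization.map_units K (⟨z i, hz i⟩ : nonZeroDivisors A))
  exact ⟨⟨B', hB'fg, π, hπ, hπu⟩, fun i n hn => hloc n hn i⟩

theorem tameSymbol_eq_value (hA : ringKrullDim A = 1) (F : Frame A K) {z z' : A}
    (hz : z ∈ nonZeroDivisors A) (hz' : z' ∈ nonZeroDivisors A) (az : F.Adm z)
    (az' : F.Adm z') : tameSymbol A z z' = ((F.glob az az').tame hA).value := by
  have hne : Nonempty (TameData A z z') := ⟨(F.glob az az').tame hA⟩
  rw [tameSymbol, dif_pos hne]
  exact value_eq_value hA hz hz' _ _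

variable (F : Frame A K)

instance Frame.finite : Module.Finite A ↥F.B₃ := Module.Finite.iff_fg.2 F.fg

instance Frame.isLocalHom (q : MaximalSpectrum ↥F.B₃) :
    IsLocalHom (algebraMap A (Localization.AtPrime q.asIdeal)) := by
  haveI := q.isMaximal
  exact Groth.Agent.Lib.helper2.NormOrd.isLocalHom_of_isIntegral_atPrime A ↥F.B₃ q.asIdeal
    (Localization.AtPrime q.asIdeal)

/-- the local parameter at `q` -/
noncomputable def Frame.πq (q : MaximalSpectrum ↥F.B₃) : Localization.AtPrime q.asIdeal :=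
  algebraMap ↥F.B₃ (Localization.AtPrime q.asIdeal) ⟨F.π₃, F.mem⟩

theorem Frame.πq_mem (q : MaximalSpectrum ↥F.B₃) :
    F.πq q ∈ nonZeroDivisors (Localization.AtPrime q.asIdeal) := by
  apply IsLocalization.map_nonZeroDivisors_le q.asIdeal.primeCompl
    (Localization.AtPrime q.asIdeal)
  exact ⟨_, mem_nonZeroDivisors_of_isUnit_val F.B₃ ⟨F.π₃, F.mem⟩ F.isUnit, rfl⟩

variable {F}

theorem Frame.Adm.exists_fac {z : A} (az : F.Adm z) (q : MaximalSpectrum ↥F.B₃) :
    ∃ (e : ℕ) (v : (Localization.AtPrime q.asIdeal)ˣ),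
      algebraMap A (Localization.AtPrime q.asIdeal) z =
        (v : Localization.AtPrime q.asIdeal) * F.πq q ^ e := by
  haveI := q.isMaximal
  obtain ⟨e, h⟩ := az q.asIdeal inferInstance
  obtain ⟨v, hv⟩ := factor_of_LA F.B₃ q.asIdeal (algebraMap A ↥F.B₃ z) ⟨F.π₃, F.mem⟩ e h
  refine ⟨e, v, ?_⟩
  rw [IsScalarTower.algebraMap_apply A ↥F.B₃ (Localization.AtPrime q.asIdeal)]
  exact hv

/-- the chosen exponent -/
noncomputable def Frame.Adm.eOf {z : A} (az : F.Adm z) (q : MaximalSpectrum ↥F.B₃) : ℕ :=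
  (az.exists_fac q).choose

/-- the chosen unit -/
noncomputable def Frame.Adm.uOf {z : A} (az : F.Adm z) (q : MaximalSpectrum ↥F.B₃) :
    (Localization.AtPrime q.asIdeal)ˣ :=
  (az.exists_fac q).choose_spec.choose

theorem Frame.Adm.fac {z : A} (az : F.Adm z) (q : MaximalSpectrum ↥F.B₃) :
    algebraMap A (Localization.AtPrime q.asIdeal) z =
      (az.uOf q : Localization.AtPrime q.asIdeal) * F.πq q ^ az.eOf q :=
  (az.exists_fac q).choose_spec.choose_spec

/-- the local factor of a pair of admissible elements -/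
noncomputable def Frame.LF {z z' : A} (az : F.Adm z) (az' : F.Adm z')
    (q : MaximalSpectrum ↥F.B₃) : ResidueField A :=
  lf A (Localization.AtPrime q.asIdeal) (F.πq q) (az.uOf q) (az'.uOf q) (az.eOf q) (az'.eOf q)

theorem tame_localFactor_eq (hA : ringKrullDim A = 1) {z z' : A} (az : F.Adm z)
    (az' : F.Adm z') (q : MaximalSpectrum ↥F.B₃) :
    ((F.glob az az').tame hA).localFactor q = F.LF az az' q := by
  have h0 : ((F.glob az az').tame hA).localFactor q =
      lf A (Localization.AtPrime q.asIdeal) (F.πq q) (((F.glob az az').tame hA).u₁ q)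
        (((F.glob az az').tame hA).u₂ q) (((F.glob az az').tame hA).e₁ q)
        (((F.glob az az').tame hA).e₂ q) := rfl
  rw [h0]
  exact lf_congr (F.πq_mem q)
    ((((F.glob az az').tame hA).fac₁ q).symm.trans (az.fac q))
    ((((F.glob az az').tame hA).fac₂ q).symm.trans (az'.fac q))

/-- **the tame symbol as a product of local factors** -/
theorem tameSymbol_eq_prod (hA : ringKrullDim A = 1) [Fintype (MaximalSpectrum ↥F.B₃)]
    {z z' : A} (hz : z ∈ nonZeroDivisors A) (hz' : z' ∈ nonZeroDivisors A) (az : F.Adm z)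
    (az' : F.Adm z') : tameSymbol A z z' = ∏ q : MaximalSpectrum ↥F.B₃, F.LF az az' q := by
  rw [tameSymbol_eq_value hA F hz hz' az az', TameData.value]
  change ∏ᶠ q : MaximalSpectrum ↥F.B₃, ((F.glob az az').tame hA).localFactor q = _
  rw [finprod_eq_prod_of_fintype]
  exact Finset.prod_congr rfl fun q _ => tame_localFactor_eq hA az az' q

end frame

end Groth.Agent.Lib.helper2.Tame
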