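import Mathlib
import Groth.Agent.Lib.Helper2.Tame9

/-!
# Tame symbols, part 18: local laws for the local factor (helper2)
-/

set_option autoImplicit false
universe u

namespace Groth.Agent.Lib.helper2.Tame

open IsLocalRing

section signs

variable {k : Type*} [Field k]

theorem neg_one_pow_mul_self (n : ℕ) : (-1 : k) ^ (n * n) = (-1) ^ n := by
  rcases Nat.even_or_odd n with h | h
  · rw [Even.neg_one_pow (by simp [h]), Even.neg_one_pow h]
  · rw [Odd.neg_one_pow (by simp [h]), Odd.neg_one_pow h]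

theorem neg_one_pow_mul_neg_one_pow (n : ℕ) : (-1 : k) ^ n * (-1) ^ n = 1 := by
  rw [← pow_add, ← two_mul, pow_mul]
  simp

theorem neg_one_pow_inv (n : ℕ) : ((-1 : k) ^ n)⁻¹ = (-1) ^ n :=
  inv_eq_of_mul_eq_one_right (neg_one_pow_mul_neg_one_pow n)

end signs

section theta

variable {O : Type u} [CommRing O] [IsLocalRing O]

theorem theta_ne_zero (u₁ u₂ : Oˣ) (e₁ e₂ : ℕ) : theta O u₁ u₂ e₁ e₂ ≠ 0 := by
  unfold theta
  have h1 : residue O (u₁ : O) ≠ 0 := (residue_ne_zero_iff_isUnit _).2 u₁.isUnit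
  have h2 : residue O (u₂ : O) ≠ 0 := (residue_ne_zero_iff_isUnit _).2 u₂.isUnit
  exact mul_ne_zero (mul_ne_zero (pow_ne_zero _ (by simp)) (pow_ne_zero _ h1))
    (inv_ne_zero (pow_ne_zero _ h2))

theorem theta_mul_left (u u' v : Oˣ) (e e' f : ℕ) :
    theta O (u * u') v (e + e') f = theta O u v e f * theta O u' v e' f := by
  unfold theta
  rw [Units.val_mul, map_mul, add_mul, pow_add, mul_pow, pow_add, mul_inv]
  ring

theorem theta_mul_right (u u' v : Oˣ) (e e' f : ℕ) :
    theta O v (u * u') f (e + e') = theta O v u f e * theta O v u' f e' := by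
  unfold theta
  rw [Units.val_mul, map_mul, mul_add, pow_add, mul_pow, pow_add, mul_inv]
  ring

theorem theta_self (u : Oˣ) (e : ℕ) : theta O u u e e = (-1) ^ e := by
  unfold theta
  have h1 : residue O (u : O) ^ e ≠ 0 := pow_ne_zero _ ((residue_ne_zero_iff_isUnit _).2 u.isUnit)
  rw [mul_assoc, mul_inv_cancel₀ h1, mul_one, neg_one_pow_mul_self]

theorem theta_zero_left (c v : Oˣ) (f : ℕ) : theta O c v 0 f = residue O (c : O) ^ f := by
  unfold theta
  simp

/-- the Steinberg-type relation for `θ` -/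
theorem theta_steinberg {π : O} (hπ : π ∈ nonZeroDivisors O) (hπu : ¬ IsUnit π) (u v w : Oˣ)
    (e f g : ℕ) (h : (w : O) * π ^ g = v * π ^ f - u * π ^ e) :
    theta O u w e g * theta O v v f f = theta O v w f g * theta O u v e f := by
  have hπres : residue O π = 0 := (residue_eq_zero_iff _).2 ((mem_maximalIdeal _).2 hπu)
  have hU : residue O (u : O) ≠ 0 := (residue_ne_zero_iff_isUnit _).2 u.isUnit
  have hV : residue O (v : O) ≠ 0 := (residue_ne_zero_iff_isUnit _).2 v.isUnit
  have hW : residue O (w : O) ≠ 0 := (residue_ne_zero_iff_isUnit _).2 w.isUnit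
  rcases lt_trichotomy e f with hef | hef | hef
  · -- `e < f`
    obtain ⟨c, rfl⟩ := Nat.exists_eq_add_of_lt hef
    set t : O := v * π ^ (c + 1) - u with ht
    have htres : residue O t = - residue O (u : O) := by
      rw [ht, map_sub, map_mul, map_pow, hπres, zero_pow (Nat.succ_ne_zero c), mul_zero, zero_sub]
    have htu : IsUnit t := by
      rw [← residue_ne_zero_iff_isUnit, htres]
      exact neg_ne_zero.2 hU
    have h' : (w : O) * π ^ g = (htu.unit : O) * π ^ e := by
      rw [h, IsUnit.unit_spec, ht]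
      ring
    obtain ⟨rfl, hw⟩ := unit_pow_unique hπ hπu h'
    have hWres : residue O (w : O) = - residue O (u : O) := by
      rw [hw, IsUnit.unit_spec, htres]
    unfold theta
    rw [hWres]
    set U := residue O (u : O) with hUdef
    set V := residue O (v : O) with hVdef
    have hUg : U ^ g ≠ 0 := pow_ne_zero _ hU
    have hVg : V ^ g ≠ 0 := pow_ne_zero _ hV
    have hUf : U ^ (g + c + 1) ≠ 0 := pow_ne_zero _ hU
    have hVf : V ^ (g + c + 1) ≠ 0 := pow_ne_zero _ hV
    rw [neg_pow U g, neg_pow U (g + c + 1), neg_one_pow_mul_self, neg_one_pow_mul_self,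
      mul_inv, mul_inv, neg_one_pow_inv, neg_one_pow_inv]
    have e3 : (-1 : ResidueField O) ^ (g + c + 1) * V ^ (g + c + 1) * (V ^ (g + c + 1))⁻¹ =
        (-1) ^ (g + c + 1) := by rw [mul_assoc, mul_inv_cancel₀ hVf, mul_one]
    have e1 : (-1 : ResidueField O) ^ g * U ^ g * ((-1) ^ g * (U ^ g)⁻¹) = 1 := by
      rw [mul_mul_mul_comm, neg_one_pow_mul_neg_one_pow, mul_inv_cancel₀ hUg, one_mul]
    have e2 : (-1 : ResidueField O) ^ ((g + c + 1) * g) * V ^ g *
        ((-1) ^ (g + c + 1) * (U ^ (g + c + 1))⁻¹) *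
        ((-1) ^ (g * (g + c + 1)) * U ^ (g + c + 1) * (V ^ g)⁻¹) = (-1) ^ (g + c + 1) := by
      have h1 : (-1 : ResidueField O) ^ ((g + c + 1) * g) * (-1) ^ (g * (g + c + 1)) = 1 := by
        rw [mul_comm (g + c + 1) g]
        exact neg_one_pow_mul_neg_one_pow _
      calc (-1 : ResidueField O) ^ ((g + c + 1) * g) * V ^ g *
          ((-1) ^ (g + c + 1) * (U ^ (g + c + 1))⁻¹) *
          ((-1) ^ (g * (g + c + 1)) * U ^ (g + c + 1) * (V ^ g)⁻¹)
          = ((-1) ^ ((g + c + 1) * g) * (-1) ^ (g * (g + c + 1))) * (-1) ^ (g + c + 1) *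
            (V ^ g * (V ^ g)⁻¹) * (U ^ (g + c + 1) * (U ^ (g + c + 1))⁻¹) := by ring
        _ = (-1) ^ (g + c + 1) := by
          rw [h1, mul_inv_cancel₀ hVg, mul_inv_cancel₀ hUf, one_mul, mul_one, mul_one]
    rw [e1, e2, e3, one_mul]
  · -- `e = f`
    subst hef
    by_cases hvu : IsUnit ((v : O) - u)
    · have h' : (w : O) * π ^ g = (hvu.unit : O) * π ^ e := by
        rw [h, IsUnit.unit_spec]
        ring
      obtain ⟨rfl, -⟩ := unit_pow_unique hπ hπu h'
      unfold theta
      have hVg : residue O (v : O) ^ g ≠ 0 := pow_ne_zero _ hV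
      field_simp
    · have hres : residue O (v : O) = residue O (u : O) := by
        have : residue O ((v : O) - u) = 0 :=
          (residue_eq_zero_iff _).2 ((mem_maximalIdeal _).2 hvu)
        rw [map_sub, sub_eq_zero] at this
        exact this
      unfold theta
      rw [hres]
  · -- `f < e`
    obtain ⟨c, rfl⟩ := Nat.exists_eq_add_of_lt hef
    set t : O := v - u * π ^ (c + 1) with ht
    have htres : residue O t = residue O (v : O) := by
      rw [ht, map_sub, map_mul, map_pow, hπres, zero_pow (Nat.succ_ne_zero c), mul_zero, sub_zero]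
    have htu : IsUnit t := by
      rw [← residue_ne_zero_iff_isUnit, htres]
      exact hV
    have h' : (w : O) * π ^ g = (htu.unit : O) * π ^ f := by
      rw [h, IsUnit.unit_spec, ht]
      ring
    obtain ⟨rfl, hw⟩ := unit_pow_unique hπ hπu h'
    have hWres : residue O (w : O) = residue O (v : O) := by
      rw [hw, IsUnit.unit_spec, htres]
    unfold theta
    rw [hWres]
    have hVg : residue O (v : O) ^ g ≠ 0 := pow_ne_zero _ hV
    have hVe : residue O (v : O) ^ (g + c + 1) ≠ 0 := pow_ne_zero _ hV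
    field_simp

end theta

end Groth.Agent.Lib.helper2.Tame
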