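import Mathlib
import Groth.Agent.Lib.Helper2.Tame18

/-!
# Tame symbols, part 19: laws for the local factor (helper2)
-/

set_option autoImplicit false
universe u

namespace Groth.Agent.Lib.helper2.Tame

open IsLocalRing

section lflaws

variable {A : Type u} [CommRing A] [IsLocalRing A] {O : Type u} [CommRing O] [IsLocalRing O]
  [Algebra A O] [IsLocalHom (algebraMap A O)]

theorem lf_ne_zero (π : O) (u₁ u₂ : Oˣ) (e₁ e₂ : ℕ) : lf A O π u₁ u₂ e₁ e₂ ≠ 0 := by
  unfold lf
  apply pow_ne_zero
  by_cases hfin : Module.Finite (ResidueField A) (ResidueField O)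
  · exact Algebra.norm_ne_zero_iff.2 (theta_ne_zero u₁ u₂ e₁ e₂)
  · rw [Algebra.norm_eq_one_of_not_module_finite hfin]
    exact one_ne_zero

theorem lf_mul_left (π : O) (u u' v : Oˣ) (e e' f : ℕ) :
    lf A O π (u * u') v (e + e') f = lf A O π u v e f * lf A O π u' v e' f := by
  unfold lf
  rw [theta_mul_left, map_mul, mul_pow]

theorem lf_mul_right (π : O) (u u' v : Oˣ) (e e' f : ℕ) :
    lf A O π v (u * u') f (e + e') = lf A O π v u f e * lf A O π v u' f e' := by
  unfold lf
  rw [theta_mul_right, map_mul, mul_pow]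

theorem lf_self (π : O) (u : Oˣ) (e : ℕ) :
    lf A O π u u e e =
      (-1) ^ (e * (Ring.ord O π).toNat * Module.finrank (ResidueField A) (ResidueField O)) := by
  unfold lf
  rw [theta_self]
  have : ((-1 : ResidueField O) ^ e) = algebraMap (ResidueField A) (ResidueField O) ((-1) ^ e) := by
    rw [map_pow, map_neg, map_one]
  rw [this, Algebra.norm_algebraMap, ← pow_mul, ← pow_mul]
  congr 1
  ring

theorem lf_unit (π : O) (c : Aˣ) (cO v : Oˣ) (hc : (cO : O) = algebraMap A O c) (f : ℕ) :
    lf A O π cO v 0 f =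
      residue A (c : A) ^
        (f * (Ring.ord O π).toNat * Module.finrank (ResidueField A) (ResidueField O)) := by
  unfold lf
  rw [theta_zero_left, hc]
  have : residue O (algebraMap A O (c : A)) ^ f =
      algebraMap (ResidueField A) (ResidueField O) (residue A (c : A) ^ f) := by
    rw [map_pow, ResidueField.algebraMap_residue]
  rw [this, Algebra.norm_algebraMap, ← pow_mul, ← pow_mul]
  congr 1
  ring

theorem lf_steinberg {π : O} (hπ : π ∈ nonZeroDivisors O) (u v w : Oˣ) (e f g : ℕ)
    (h : (w : O) * π ^ g = v * π ^ f - u * π ^ e) :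
    lf A O π u w e g * lf A O π v v f f = lf A O π v w f g * lf A O π u v e f := by
  unfold lf
  by_cases hπu : IsUnit π
  · rw [Ring.ord_of_isUnit hπu]
    simp
  · rw [← mul_pow, ← mul_pow, ← map_mul, ← map_mul, theta_steinberg hπ hπu u v w e f g h]

end lflaws

end Groth.Agent.Lib.helper2.Tame
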