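import Mathlib
import Groth.Agent.Lib.Helper2.Tame17
import Groth.Agent.Lib.Helper2.Tame19

/-!
# Tame symbols, part 20: the laws of the tame symbol (S1848) (helper2)
-/

set_option autoImplicit false
universe u

namespace Groth.Agent.Lib.helper2.Tame

open IsLocalRing CycAlg

section laws

variable {A : Type u} [CommRing A] [IsNoetherianRing A] [IsLocalRing A]
  {K : Type u} [CommRing K] [Algebra A K] [IsFractionRing A K] {F : Frame A K}

theorem sum_ord_eq_length (hA : ringKrullDim A = 1) [Fintype (MaximalSpectrum ↥F.B₃)] {b : A}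
    (ab : F.Adm b) :
    ∑ q : MaximalSpectrum ↥F.B₃, ab.eOf q *
        (Ring.ord (Localization.AtPrime q.asIdeal) (F.πq q)).toNat *
        Module.finrank (ResidueField A) (ResidueField (Localization.AtPrime q.asIdeal)) =
      (Module.length A (A ⧸ Ideal.span {b})).toNat := by
  have hloc : ∀ q : MaximalSpectrum ↥F.B₃,
      algebraMap ↥F.B₃ (Localization.AtPrime q.asIdeal) (algebraMap A ↥F.B₃ b) ∈
        nonZeroDivisors (Localization.AtPrime q.asIdeal) := by
    intro q
    rw [← IsScalarTower.algebraMap_apply A ↥F.B₃ (Localization.AtPrime q.asIdeal), ab.fac q]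
    exact mul_mem (Units.isUnit _).mem_nonZeroDivisors (pow_mem (F.πq_mem q) _)
  obtain ⟨-, h⟩ := toNat_length_quot_eq_sum A ↥F.B₃ hA (algebraMap A ↥F.B₃ b) hloc
  have hH : Module.length A (A ⧸ Ideal.span {b}) =
      Module.length A (↥F.B₃ ⧸ Ideal.span {algebraMap A ↥F.B₃ b}) := by
    have := length_quot_eq_of_injective A (Algebra.ofId A ↥F.B₃)
      (fun a a' h => IsFractionRing.injective A K (congrArg Subtype.val h)) b
      (eq_zero_of_mul_eq_zero_of_localization _ hloc)
      (length_quot_ne_top_of_isFinExt (isFinExt_of_fg hA F.B₃ F.fg) _ (by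
        rintro _ ⟨a, rfl⟩
        exact ⟨a, rfl⟩))
    exact this
  rw [hH, h]
  refine Finset.sum_congr rfl fun q _ => ?_
  congr 1
  rw [← IsScalarTower.algebraMap_apply A ↥F.B₃ (Localization.AtPrime q.asIdeal), ab.fac q,
    Ring.ord_mul_of_isUnit_left (Units.isUnit _), Ring.ord_pow (F.πq_mem q), nsmul_eq_mul,
    ENat.toNat_mul, ENat.toNat_natCast]

end laws

section S1848

variable (A : Type u) [CommRing A] [IsNoetherianRing A] [IsLocalRing A]

theorem tame_ne_zero (hA : ringKrullDim A = 1) (a b : A) (ha : a ∈ nonZeroDivisors A)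
    (hb : b ∈ nonZeroDivisors A) : tameSymbol A a b ≠ 0 := by
  classical
  obtain ⟨F, hF⟩ := exists_frame (K := FractionRing A) hA ![a, b]
    (fun i => by fin_cases i <;> simpa)
  haveI := finite_maximalSpectrum A ↥F.B₃
  haveI := Fintype.ofFinite (MaximalSpectrum ↥F.B₃)
  have aa : F.Adm a := hF 0
  have ab : F.Adm b := hF 1
  rw [tameSymbol_eq_prod hA ha hb aa ab]
  exact Finset.prod_ne_zero_iff.2 fun q _ => lf_ne_zero _ _ _ _ _

theorem tame_mul (hA : ringKrullDim A = 1) (a a' b : A) (ha : a ∈ nonZeroDivisors A)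
    (ha' : a' ∈ nonZeroDivisors A) (hb : b ∈ nonZeroDivisors A) :
    tameSymbol A (a * a') b = tameSymbol A a b * tameSymbol A a' b ∧
      tameSymbol A b (a * a') = tameSymbol A b a * tameSymbol A b a' := by
  classical
  have haa' : a * a' ∈ nonZeroDivisors A := mul_mem ha ha'
  obtain ⟨F, hF⟩ := exists_frame (K := FractionRing A) hA ![a, a', b, a * a']
    (fun i => by fin_cases i <;> simpa)
  haveI := finite_maximalSpectrum A ↥F.B₃
  haveI := Fintype.ofFinite (MaximalSpectrum ↥F.B₃)
  have aa : F.Adm a := hF 0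
  have aa' : F.Adm a' := hF 1
  have ab : F.Adm b := hF 2
  have am : F.Adm (a * a') := hF 3
  have hfac : ∀ q : MaximalSpectrum ↥F.B₃,
      (am.uOf q : Localization.AtPrime q.asIdeal) * F.πq q ^ am.eOf q =
        ((aa.uOf q * aa'.uOf q : (Localization.AtPrime q.asIdeal)ˣ) :
          Localization.AtPrime q.asIdeal) * F.πq q ^ (aa.eOf q + aa'.eOf q) := by
    intro q
    rw [← am.fac q, map_mul, aa.fac q, aa'.fac q]
    push_cast
    ring
  constructor
  · rw [tameSymbol_eq_prod hA haa' hb am ab, tameSymbol_eq_prod hA ha hb aa ab,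
      tameSymbol_eq_prod hA ha' hb aa' ab, ← Finset.prod_mul_distrib]
    refine Finset.prod_congr rfl fun q _ => ?_
    unfold Frame.LF
    rw [← lf_mul_left]
    exact lf_congr (F.πq_mem q) (hfac q) rfl
  · rw [tameSymbol_eq_prod hA hb haa' ab am, tameSymbol_eq_prod hA hb ha ab aa,
      tameSymbol_eq_prod hA hb ha' ab aa', ← Finset.prod_mul_distrib]
    refine Finset.prod_congr rfl fun q _ => ?_
    unfold Frame.LF
    rw [← lf_mul_right]
    exact lf_congr (F.πq_mem q) rfl (hfac q)

theorem tame_self (hA : ringKrullDim A = 1) (b : A) (hb : b ∈ nonZeroDivisors A) :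
    tameSymbol A b b = (-1) ^ (Module.length A (A ⧸ Ideal.span {b})).toNat := by
  classical
  obtain ⟨F, hF⟩ := exists_frame (K := FractionRing A) hA ![b]
    (fun i => by fin_cases i; simpa)
  haveI := finite_maximalSpectrum A ↥F.B₃
  haveI := Fintype.ofFinite (MaximalSpectrum ↥F.B₃)
  have ab : F.Adm b := hF 0
  rw [tameSymbol_eq_prod hA hb hb ab ab, ← sum_ord_eq_length hA ab, ← Finset.prod_pow_eq_pow_sum]
  refine Finset.prod_congr rfl fun q _ => ?_
  unfold Frame.LF
  rw [lf_self]

theorem tame_unit (hA : ringKrullDim A = 1) (c : Aˣ) (b : A) (hb : b ∈ nonZeroDivisors A) :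
    tameSymbol A (c : A) b =
      residue A (c : A) ^ (Module.length A (A ⧸ Ideal.span {b})).toNat := by
  classical
  have hc : (c : A) ∈ nonZeroDivisors A := c.isUnit.mem_nonZeroDivisors
  obtain ⟨F, hF⟩ := exists_frame (K := FractionRing A) hA ![(c : A), b]
    (fun i => by fin_cases i <;> simpa)
  haveI := finite_maximalSpectrum A ↥F.B₃
  haveI := Fintype.ofFinite (MaximalSpectrum ↥F.B₃)
  have ac : F.Adm (c : A) := hF 0
  have ab : F.Adm b := hF 1
  rw [tameSymbol_eq_prod hA hc hb ac ab, ← sum_ord_eq_length hA ab, ← Finset.prod_pow_eq_pow_sum]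
  refine Finset.prod_congr rfl fun q _ => ?_
  unfold Frame.LF
  have hcO : ((Units.map (algebraMap A (Localization.AtPrime q.asIdeal) : A →* _) c :
      (Localization.AtPrime q.asIdeal)ˣ) : Localization.AtPrime q.asIdeal) =
      algebraMap A (Localization.AtPrime q.asIdeal) (c : A) := rfl
  rw [← lf_unit (F.πq q) c _ (ab.uOf q) hcO (ab.eOf q)]
  refine lf_congr (F.πq_mem q) ?_ rfl
  rw [← ac.fac q, hcO, pow_zero, mul_one]

theorem tame_steinberg (hA : ringKrullDim A = 1) (a b : A) (ha : a ∈ nonZeroDivisors A)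
    (hb : b ∈ nonZeroDivisors A) (hba : b - a ∈ nonZeroDivisors A) :
    tameSymbol A a (b - a) * tameSymbol A b b = tameSymbol A b (b - a) * tameSymbol A a b := by
  classical
  obtain ⟨F, hF⟩ := exists_frame (K := FractionRing A) hA ![a, b, b - a]
    (fun i => by fin_cases i <;> simpa)
  haveI := finite_maximalSpectrum A ↥F.B₃
  haveI := Fintype.ofFinite (MaximalSpectrum ↥F.B₃)
  have aa : F.Adm a := hF 0
  have ab : F.Adm b := hF 1
  have ad : F.Adm (b - a) := hF 2
  rw [tameSymbol_eq_prod hA ha hba aa ad, tameSymbol_eq_prod hA hb hb ab ab,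
    tameSymbol_eq_prod hA hb hba ab ad, tameSymbol_eq_prod hA ha hb aa ab,
    ← Finset.prod_mul_distrib, ← Finset.prod_mul_distrib]
  refine Finset.prod_congr rfl fun q _ => ?_
  unfold Frame.LF
  apply lf_steinberg (F.πq_mem q)
  rw [← ad.fac q, map_sub, ab.fac q, aa.fac q]

end S1848

end Groth.Agent.Lib.helper2.Tame
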