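import Mathlib
import Groth.Agent.Lib.Helper2.Tame20
import Groth.Agent.Lib.Helper16.CycOpen1

/-!
# Tame symbols, part 21: transport of the local factor along isomorphisms and towers; regular
elements from the associated primes; frames containing a given subalgebra (helper2)
-/

set_option autoImplicit false
universe u

namespace Groth.Agent.Lib.helper2.Tame

open IsLocalRing CycAlg

section equiv

variable {A : Type u} [CommRing A] [IsLocalRing A] {O O' : Type u} [CommRing O] [CommRing O']
  [IsLocalRing O] [IsLocalRing O'] [Algebra A O] [Algebra A O'] [IsLocalHom (algebraMap A O)]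
  [IsLocalHom (algebraMap A O')]

/-- the isomorphism of residue fields induced by an isomorphism of local algebras -/
noncomputable def resEquiv (ε : O ≃ₐ[A] O') :
    ResidueField O ≃ₐ[ResidueField A] ResidueField O' :=
  AlgEquiv.ofRingEquiv (f := ResidueField.mapEquiv (ε : O ≃+* O')) (by
    intro x
    obtain ⟨a, rfl⟩ := residue_surjective x
    rw [ResidueField.algebraMap_residue, ResidueField.algebraMap_residue]
    change ResidueField.map ((ε : O ≃+* O') : O →+* O') (residue O (algebraMap A O a)) = _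
    rw [ResidueField.map_residue]
    congr 1
    exact ε.commutes a)

theorem resEquiv_residue (ε : O ≃ₐ[A] O') (x : O) :
    resEquiv ε (residue O x) = residue O' (ε x) := by
  change ResidueField.map ((ε : O ≃+* O') : O →+* O') (residue O x) = _
  rw [ResidueField.map_residue]
  rfl

theorem theta_equiv (ε : O ≃ₐ[A] O') (u₁ u₂ : Oˣ) (e₁ e₂ : ℕ) :
    theta O' (Units.map (ε : O →* O') u₁) (Units.map (ε : O →* O') u₂) e₁ e₂ =
      resEquiv ε (theta O u₁ u₂ e₁ e₂) := by
  unfold theta
  rw [map_mul, map_mul, map_pow, map_pow, map_inv₀, map_pow, map_neg, map_one,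
    resEquiv_residue, resEquiv_residue]
  rfl

/-- the local factor is invariant under isomorphisms of local algebras -/
theorem lf_equiv (ε : O ≃ₐ[A] O') (π : O) (u₁ u₂ : Oˣ) (e₁ e₂ : ℕ) :
    lf A O' (ε π) (Units.map (ε : O →* O') u₁) (Units.map (ε : O →* O') u₂) e₁ e₂ =
      lf A O π u₁ u₂ e₁ e₂ := by
  unfold lf
  rw [theta_equiv, Algebra.norm_eq_of_algEquiv,
    Groth.Agent.Lib.helper16.CycOpen.ord_ringEquiv (ε : O ≃+* O') π]
  rfl

end equiv

section tower

variable {A : Type u} [CommRing A] [IsLocalRing A] {P O : Type u} [CommRing P] [CommRing O]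
  [IsLocalRing P] [IsLocalRing O] [Algebra A P] [Algebra A O] [Algebra P O]
  [IsScalarTower A P O] [IsLocalHom (algebraMap A P)] [IsLocalHom (algebraMap A O)]
  [IsLocalHom (algebraMap P O)]

/-- transitivity of the local factor in a tower of local homomorphisms -/
theorem lf_tower (π : O) (u₁ u₂ : Oˣ) (e₁ e₂ : ℕ) :
    Algebra.norm (ResidueField A) (lf P O π u₁ u₂ e₁ e₂) = lf A O π u₁ u₂ e₁ e₂ := by
  unfold lf
  rw [map_pow, Algebra.norm_norm]

end tower

section regular

variable {A : Type u} [CommRing A] [IsNoetherianRing A] [IsLocalRing A] {B : Type u}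
  [CommRing B] [Algebra A B] [Module.Finite A B]

/-- if `𝔪` is not an associated prime of `B` there is a `B`-regular element in `𝔪` -/
theorem exists_regular_of_not_mem_ass (hass : maximalIdeal A ∉ associatedPrimes A B) :
    ∃ c₀ ∈ maximalIdeal A, ∀ b : B, c₀ • b = 0 → b = 0 := by
  by_contra hcon
  push_neg at hcon
  have hfin : (associatedPrimes A B).Finite := associatedPrimes.finite A B
  have hsub : (maximalIdeal A : Set A) ⊆ ⋃ P ∈ (hfin.toFinset : Set (Ideal A)), (P : Set A) := by
    intro c hc
    obtain ⟨b, hb0, hb⟩ := hcon c hc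
    have : c ∈ {r : A | ∃ x : B, x ≠ 0 ∧ r • x = 0} := ⟨b, hb, hb0⟩
    rw [← biUnion_associatedPrimes_eq_zero_divisors A B] at this
    simpa using this
  obtain ⟨P, hP, hle⟩ := (Ideal.subset_union_prime (f := fun P : Ideal A => P) ⊥ ⊥
    (fun P hP _ _ => ((hfin.mem_toFinset).1 hP).isPrime)).1 hsub
  have hP' : P ∈ associatedPrimes A B := (hfin.mem_toFinset).1 hP
  have hPprime : P.IsPrime := hP'.isPrime
  have : P = maximalIdeal A := le_antisymm (le_maximalIdeal hPprime.ne_top) hle
  exact hass (this ▸ hP')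

end regular

section frame'

variable {A : Type u} [CommRing A] [IsNoetherianRing A] [IsLocalRing A]
  {K : Type u} [CommRing K] [Algebra A K] [IsFractionRing A K]

theorem exists_frame' (hA : ringKrullDim A = 1) (B₀ : Subalgebra A K)
    (hB₀ : B₀.toSubmodule.FG) {ι : Type*} [Finite ι] (z : ι → A)
    (hz : ∀ i, z i ∈ nonZeroDivisors A) : ∃ F : Frame A K, B₀ ≤ F.B₃ ∧ ∀ i, F.Adm (z i) := by
  obtain ⟨B', hle, hB'fg, π, hπ, hπu, hloc⟩ := multi_theorem' hA B₀ hB₀
    (fun i => algebraMap A K (z i)) (fun i => Subalgebra.algebraMap_mem _ _)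
    (fun i => IsLocalization.map_units K (⟨z i, hz i⟩ : nonZeroDivisors A))
  exact ⟨⟨B', hB'fg, π, hπ, hπu⟩, hle, fun i n hn => hloc n hn i⟩

end frame'

end Groth.Agent.Lib.helper2.Tame
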