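import Mathlib
import Groth.Agent.Lib.Helper2.Tame21

/-!
# Tame symbols, part 22: localising a finite extension at a maximal ideal of an intermediate
ring (helper2)
-/

set_option autoImplicit false
universe u

namespace Groth.Agent.Lib.helper2.Tame

open IsLocalRing CycAlg

section locgeom

variable {B : Type u} [CommRing B] (C : Type u) [CommRing C] [Algebra B C] [Module.Finite B C]
  (q : Ideal B) [q.IsMaximal]

/-- the localisation of `C` at the image of the complement of `q` -/
abbrev LocAt : Type u := Localization (Algebra.algebraMapSubmonoid C q.primeCompl)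

variable {C}

theorem comap_comap_eq (n : Ideal (LocAt C q)) [n.IsMaximal] :
    (n.comap (algebraMap C (LocAt C q))).comap (algebraMap B C) = q := by
  haveI : Algebra.IsIntegral (Localization.AtPrime q) (LocAt C q) := Algebra.IsIntegral.of_finite _ _
  have h1 : n.comap (algebraMap (Localization.AtPrime q) (LocAt C q)) =
      maximalIdeal (Localization.AtPrime q) :=
    IsLocalRing.eq_maximalIdeal (Ideal.isMaximal_comap_of_isIntegral_of_isMaximal n)
  rw [Ideal.comap_comap, ← IsScalarTower.algebraMap_eq B C (LocAt C q),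
    IsScalarTower.algebraMap_eq B (Localization.AtPrime q) (LocAt C q), ← Ideal.comap_comap, h1]
  exact IsLocalization.AtPrime.under_maximalIdeal (Localization.AtPrime q) q

/-- the maximal ideal of `C` under a maximal ideal of the localisation -/
def fib (n : MaximalSpectrum (LocAt C q)) : MaximalSpectrum C :=
  ⟨n.asIdeal.comap (algebraMap C (LocAt C q)), by
    haveI := n.isMaximal
    haveI : Algebra.IsIntegral B C := Algebra.IsIntegral.of_finite _ _
    haveI : (n.asIdeal.comap (algebraMap C (LocAt C q))).IsPrime := Ideal.comap_isPrime _ _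
    apply Ideal.isMaximal_of_isIntegral_of_isMaximal_comap (R := B)
    rw [comap_comap_eq q n.asIdeal]
    infer_instance⟩

theorem fib_comap (n : MaximalSpectrum (LocAt C q)) :
    (fib q n).asIdeal.comap (algebraMap B C) = q := by
  haveI := n.isMaximal
  exact comap_comap_eq q n.asIdeal

theorem fib_injective : Function.Injective (fib (C := C) q) := by
  intro n n' h
  have h1 : (fib q n).asIdeal = (fib q n').asIdeal := congrArg _ h
  apply MaximalSpectrum.ext
  rw [← IsLocalization.map_under (Algebra.algebraMapSubmonoid C q.primeCompl) (LocAt C q) n.asIdeal,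
    ← IsLocalization.map_under (Algebra.algebraMapSubmonoid C q.primeCompl) (LocAt C q) n'.asIdeal]
  exact congrArg _ h1

theorem exists_fib_eq (q₃ : MaximalSpectrum C) (h : q₃.asIdeal.comap (algebraMap B C) = q) :
    ∃ n : MaximalSpectrum (LocAt C q), fib q n = q₃ := by
  haveI := q₃.isMaximal
  have hdisj : Disjoint (Algebra.algebraMapSubmonoid C q.primeCompl : Set C) q₃.asIdeal := by
    rw [Set.disjoint_left]
    rintro _ ⟨t, ht, rfl⟩ hmem
    apply ht
    rw [← h]
    exact hmem
  have hprime : (q₃.asIdeal.map (algebraMap C (LocAt C q))).IsPrime :=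
    IsLocalization.isPrime_of_isPrime_disjoint _ _ _ inferInstance hdisj
  have hcomap : (q₃.asIdeal.map (algebraMap C (LocAt C q))).comap (algebraMap C (LocAt C q)) =
      q₃.asIdeal :=
    IsLocalization.under_map_of_isPrime_disjoint _ _ inferInstance hdisj
  obtain ⟨M, hM, hle⟩ := Ideal.exists_le_maximal _ hprime.ne_top
  have h2 : q₃.asIdeal ≤ M.comap (algebraMap C (LocAt C q)) := by
    rw [← hcomap]
    exact Ideal.comap_mono hle
  have h3 : q₃.asIdeal = M.comap (algebraMap C (LocAt C q)) :=
    q₃.isMaximal.eq_of_le (Ideal.comap_ne_top _ hM.ne_top) h2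
  exact ⟨⟨M, hM⟩, MaximalSpectrum.ext h3.symm⟩

/-- the local ring of the localisation at `n` is the local ring of `C` at `fib n` -/
noncomputable def locEquiv (n : MaximalSpectrum (LocAt C q)) :
    Localization.AtPrime (fib q n).asIdeal ≃ₐ[C] Localization.AtPrime n.asIdeal :=
  haveI := n.isMaximal
  haveI : IsLocalization.AtPrime (Localization.AtPrime n.asIdeal) (fib q n).asIdeal :=
    IsLocalization.isLocalization_isLocalization_atPrime_isLocalization
      (Algebra.algebraMapSubmonoid C q.primeCompl) (Localization.AtPrime n.asIdeal) n.asIdeal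
  IsLocalization.algEquiv (fib q n).asIdeal.primeCompl _ _

end locgeom

section finext

variable {A : Type u} [CommRing A] [IsLocalRing A] {B : Type u} [CommRing B] [Algebra A B]
  {C : Type u} [CommRing C] [Algebra A C] [Algebra B C] [IsScalarTower A B C] [Module.Finite B C]
  (q : Ideal B) [q.IsMaximal]

instance : IsScalarTower A (Localization.AtPrime q) (LocAt C q) := by
  refine IsScalarTower.of_algebraMap_eq fun a => ?_
  rw [IsScalarTower.algebraMap_apply A B (Localization.AtPrime q),
    ← IsScalarTower.algebraMap_apply B (Localization.AtPrime q) (LocAt C q),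
    IsScalarTower.algebraMap_apply B C (LocAt C q), ← IsScalarTower.algebraMap_apply A B C,
    ← IsScalarTower.algebraMap_apply A C (LocAt C q)]

theorem isFinExt_locAt (hinj : Function.Injective (algebraMap B C)) (k : ℕ)
    (hk : ∀ r ∈ maximalIdeal A ^ k, ∀ c : C, r • c ∈ (algebraMap B C).range)
    [IsNoetherianRing (Localization.AtPrime q)] [Ring.KrullDimLE 1 (Localization.AtPrime q)]
    (c₀ : A) (hc₀ : c₀ ∈ maximalIdeal A)
    (hreg : algebraMap A (Localization.AtPrime q) c₀ ∈ nonZeroDivisors (Localization.AtPrime q)) :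
    IsFinExt (Localization.AtPrime q) (LocAt C q) (maximalIdeal (Localization.AtPrime q)) := by
  refine ⟨localizationAlgebra_injective _ _ hinj, inferInstance, ?_⟩
  obtain ⟨N, hN⟩ := exists_pow_maximalIdeal_le_span (Localization.AtPrime q) (pow_mem hreg k)
  refine ⟨N, fun r hr x => ?_⟩
  obtain ⟨s, hs⟩ := Ideal.mem_span_singleton.1 (hN hr)
  obtain ⟨c, ⟨_, t, ht, rfl⟩, rfl⟩ :=
    IsLocalization.exists_mk'_eq (Algebra.algebraMapSubmonoid C q.primeCompl) x
  obtain ⟨b, hb⟩ := hk (c₀ ^ k) (Ideal.pow_mem_pow hc₀ k) c
  refine ⟨s * IsLocalization.mk' (Localization.AtPrime q) b (⟨t, ht⟩ : q.primeCompl), ?_⟩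
  have e1 := IsLocalization.algebraMap_mk' C (Localization.AtPrime q) (LocAt C q) b ⟨t, ht⟩
  have e2 : algebraMap B C b = algebraMap A C (c₀ ^ k) * c := by rw [hb, Algebra.smul_def]
  have e3 : algebraMap (Localization.AtPrime q) (LocAt C q)
      (algebraMap A (Localization.AtPrime q) c₀ ^ k) =
      algebraMap C (LocAt C q) (algebraMap A C (c₀ ^ k)) := by
    rw [← map_pow, ← IsScalarTower.algebraMap_apply A (Localization.AtPrime q) (LocAt C q),
      IsScalarTower.algebraMap_apply A C (LocAt C q)]
  rw [Algebra.smul_def r, hs, map_mul, map_mul, e1, e2, e3,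
    ← IsLocalization.mul_mk'_eq_mk'_of_mul]
  ring

end finext

end Groth.Agent.Lib.helper2.Tame
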