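import Mathlib
import Groth.Agent.Lib.Helper2.Tame22

/-!
# Tame symbols, part 23: the tame datum over the localisation of an intermediate ring (helper2)
-/

set_option autoImplicit false
universe u

namespace Groth.Agent.Lib.helper2.Tame

open IsLocalRing CycAlg

section loctame

variable {A : Type u} [CommRing A] [IsLocalRing A] {a₁ a₂ : A} (D : TameData A a₁ a₂)
  {B : Type u} [CommRing B] [Algebra A B] [Algebra B D.B] [IsScalarTower A B D.B]
  [Module.Finite B D.B] (q : MaximalSpectrum B)

instance instMaxQ : q.asIdeal.IsMaximal := q.isMaximal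

theorem isScalarTower_locn (n : MaximalSpectrum (LocAt D.B q.asIdeal)) :
    IsScalarTower A (Localization.AtPrime q.asIdeal) (Localization.AtPrime n.asIdeal) := by
  refine IsScalarTower.of_algebraMap_eq fun a => ?_
  rw [IsScalarTower.algebraMap_apply (Localization.AtPrime q.asIdeal) (LocAt D.B q.asIdeal)
      (Localization.AtPrime n.asIdeal),
    ← IsScalarTower.algebraMap_apply A (Localization.AtPrime q.asIdeal) (LocAt D.B q.asIdeal),
    ← IsScalarTower.algebraMap_apply A (LocAt D.B q.asIdeal) (Localization.AtPrime n.asIdeal)]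

theorem isLocalHom_locn (n : MaximalSpectrum (LocAt D.B q.asIdeal)) :
    IsLocalHom (algebraMap (Localization.AtPrime q.asIdeal) (Localization.AtPrime n.asIdeal)) := by
  haveI := n.isMaximal
  haveI : Algebra.IsIntegral (Localization.AtPrime q.asIdeal) (LocAt D.B q.asIdeal) :=
    Algebra.IsIntegral.of_finite _ _
  exact Groth.Agent.Lib.helper2.NormOrd.isLocalHom_of_isIntegral_atPrime
    (Localization.AtPrime q.asIdeal) (LocAt D.B q.asIdeal) n.asIdeal
    (Localization.AtPrime n.asIdeal)

theorem locEquiv_algebraMap (n : MaximalSpectrum (LocAt D.B q.asIdeal)) (a : A) :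
    locEquiv q.asIdeal n (algebraMap A (Localization.AtPrime (fib q.asIdeal n).asIdeal) a) =
      algebraMap (Localization.AtPrime q.asIdeal) (Localization.AtPrime n.asIdeal)
        (algebraMap A (Localization.AtPrime q.asIdeal) a) := by
  haveI := isScalarTower_locn D q n
  rw [← IsScalarTower.algebraMap_apply A (Localization.AtPrime q.asIdeal)
      (Localization.AtPrime n.asIdeal),
    IsScalarTower.algebraMap_apply A D.B (Localization.AtPrime (fib q.asIdeal n).asIdeal),
    AlgEquiv.commutes,
    IsScalarTower.algebraMap_apply A D.B (Localization.AtPrime n.asIdeal)]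

/-- the localised tame datum -/
noncomputable def locTame
    (hfe : IsFinExt (Localization.AtPrime q.asIdeal) (LocAt D.B q.asIdeal)
      (maximalIdeal (Localization.AtPrime q.asIdeal))) :
    TameData (Localization.AtPrime q.asIdeal) (algebraMap A (Localization.AtPrime q.asIdeal) a₁)
      (algebraMap A (Localization.AtPrime q.asIdeal) a₂) where
  B := LocAt D.B q.asIdeal
  isFinExt := hfe
  isLocalHom := isLocalHom_locn D q
  π n := locEquiv q.asIdeal n (D.π (fib q.asIdeal n))
  π_mem n := by
    have := D.π_mem (fib q.asIdeal n)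
    rw [← MulEquivClass.map_nonZeroDivisors (locEquiv q.asIdeal n)]
    exact Submonoid.mem_map_of_mem _ this
  u₁ n := Units.map ((locEquiv q.asIdeal n : _ →* _)) (D.u₁ (fib q.asIdeal n))
  u₂ n := Units.map ((locEquiv q.asIdeal n : _ →* _)) (D.u₂ (fib q.asIdeal n))
  e₁ n := D.e₁ (fib q.asIdeal n)
  e₂ n := D.e₂ (fib q.asIdeal n)
  fac₁ n := by
    rw [← locEquiv_algebraMap, D.fac₁, map_mul, map_pow]
    rfl
  fac₂ n := by
    rw [← locEquiv_algebraMap, D.fac₂, map_mul, map_pow]
    rfl

end loctame

end Groth.Agent.Lib.helper2.Tame
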