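import Mathlib
import Groth.Agent.Lib.Helper2.Tame23

/-!
# Tame symbols, part 24: the value of the localised tame datum (helper2)
-/

set_option autoImplicit false
universe u

namespace Groth.Agent.Lib.helper2.Tame

open IsLocalRing CycAlg

section contr

variable {B : Type u} [CommRing B] (C : Type u) [CommRing C] [Algebra B C] [Module.Finite B C]

/-- contraction of maximal ideals along a finite ring map -/
def contr (q₃ : MaximalSpectrum C) : MaximalSpectrum B :=
  ⟨q₃.asIdeal.comap (algebraMap B C), by
    haveI := q₃.isMaximal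
    haveI : Algebra.IsIntegral B C := Algebra.IsIntegral.of_finite _ _
    exact Ideal.isMaximal_comap_of_isIntegral_of_isMaximal (R := B) q₃.asIdeal⟩

variable {C}

theorem contr_fib (q : MaximalSpectrum B) (n : MaximalSpectrum (LocAt C q.asIdeal)) :
    contr C (fib q.asIdeal n) = q :=
  MaximalSpectrum.ext (fib_comap q.asIdeal n)

theorem image_fib [Fintype (MaximalSpectrum C)] [DecidableEq (MaximalSpectrum C)]
    [DecidableEq (MaximalSpectrum B)]
    (q : MaximalSpectrum B) [Fintype (MaximalSpectrum (LocAt C q.asIdeal))] :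
    Finset.univ.image (fib (C := C) q.asIdeal) = Finset.univ.filter (fun q₃ => contr C q₃ = q) := by
  ext q₃
  simp only [Finset.mem_image, Finset.mem_univ, true_and, Finset.mem_filter]
  constructor
  · rintro ⟨n, rfl⟩
    exact contr_fib q n
  · intro h
    exact exists_fib_eq q.asIdeal q₃ (congrArg MaximalSpectrum.asIdeal h)

end contr

section loctame

variable {A : Type u} [CommRing A] [IsLocalRing A] {a₁ a₂ : A} (D : TameData A a₁ a₂)
  {B : Type u} [CommRing B] [Algebra A B] [Algebra B D.B] [IsScalarTower A B D.B]
  [Module.Finite B D.B] (q : MaximalSpectrum B)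

theorem locTame_localFactor_eq
    (hfe : IsFinExt (Localization.AtPrime q.asIdeal) (LocAt D.B q.asIdeal)
      (maximalIdeal (Localization.AtPrime q.asIdeal)))
    (n : MaximalSpectrum (LocAt D.B q.asIdeal)) :
    (locTame D q hfe).localFactor n =
      @lf (Localization.AtPrime q.asIdeal) _ _ (Localization.AtPrime n.asIdeal) _ _ _
        (isLocalHom_locn D q n) (locEquiv q.asIdeal n (D.π (fib q.asIdeal n)))
        (Units.map (locEquiv q.asIdeal n : _ →* _) (D.u₁ (fib q.asIdeal n)))
        (Units.map (locEquiv q.asIdeal n : _ →* _) (D.u₂ (fib q.asIdeal n)))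
        (D.e₁ (fib q.asIdeal n)) (D.e₂ (fib q.asIdeal n)) := rfl

variable [hq : IsLocalHom (algebraMap A (Localization.AtPrime q.asIdeal))]

theorem norm_locTame_localFactor
    (hfe : IsFinExt (Localization.AtPrime q.asIdeal) (LocAt D.B q.asIdeal)
      (maximalIdeal (Localization.AtPrime q.asIdeal)))
    (n : MaximalSpectrum (LocAt D.B q.asIdeal)) :
    Algebra.norm (ResidueField A) ((locTame D q hfe).localFactor n) =
      D.localFactor (fib q.asIdeal n) := by
  haveI := isScalarTower_locn D q n
  haveI h1 := isLocalHom_locn D q n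
  haveI h2 := D.isLocalHom (fib q.asIdeal n)
  haveI h3 : IsLocalHom (algebraMap A (Localization.AtPrime n.asIdeal)) := by
    rw [IsScalarTower.algebraMap_eq A (Localization.AtPrime q.asIdeal)
      (Localization.AtPrime n.asIdeal)]
    exact RingHom.isLocalHom_comp _ _
  rw [locTame_localFactor_eq, localFactor_eq_lf, lf_tower]
  have := lf_equiv (A := A) ((locEquiv q.asIdeal n).restrictScalars A) (D.π (fib q.asIdeal n))
    (D.u₁ (fib q.asIdeal n)) (D.u₂ (fib q.asIdeal n)) (D.e₁ (fib q.asIdeal n))
    (D.e₂ (fib q.asIdeal n))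
  exact this

theorem norm_locTame_value [Fintype (MaximalSpectrum D.B)] [DecidableEq (MaximalSpectrum D.B)]
    [DecidableEq (MaximalSpectrum B)]
    (hfe : IsFinExt (Localization.AtPrime q.asIdeal) (LocAt D.B q.asIdeal)
      (maximalIdeal (Localization.AtPrime q.asIdeal))) :
    Algebra.norm (ResidueField A) (locTame D q hfe).value =
      ∏ q₃ ∈ Finset.univ.filter (fun q₃ => contr D.B q₃ = q), D.localFactor q₃ := by
  haveI : Finite (MaximalSpectrum (LocAt D.B q.asIdeal)) :=
    Finite.of_injective _ (fib_injective (C := D.B) q.asIdeal)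
  haveI := Fintype.ofFinite (MaximalSpectrum (LocAt D.B q.asIdeal))
  unfold TameData.value
  change Algebra.norm (ResidueField A)
    (∏ᶠ n : MaximalSpectrum (LocAt D.B q.asIdeal), (locTame D q hfe).localFactor n) = _
  rw [finprod_eq_prod_of_fintype, map_prod, ← image_fib q,
    Finset.prod_image (fun x _ y _ h => fib_injective q.asIdeal h)]
  exact Finset.prod_congr rfl fun n _ => norm_locTame_localFactor D q hfe n

end loctame

end Groth.Agent.Lib.helper2.Tame
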