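import Mathlib
import Groth.Agent.Lib.Helper2.Tame24

/-!
# Tame symbols, part 25: the norm formula for a finite extension (helper2)
-/

set_option autoImplicit false
universe u

namespace Groth.Agent.Lib.helper2.Tame

open IsLocalRing CycAlg

section dimone

theorem ringKrullDim_eq_one_of_regular {R : Type u} [CommRing R] [IsLocalRing R]
    [IsNoetherianRing R] [Ring.KrullDimLE 1 R] {x : R} (hx : x ∈ nonZeroDivisors R)
    (hxm : x ∈ maximalIdeal R) : ringKrullDim R = 1 := by
  have hle : ringKrullDim R ≤ 1 := Ring.krullDimLE_iff.1 inferInstance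
  by_contra hne
  have hlt : ringKrullDim R < 1 := lt_of_le_of_ne hle hne
  have h0 : ringKrullDim R ≤ 0 := by
    induction h : ringKrullDim R using WithBot.recBotCoe with
    | bot => exact bot_le
    | coe n =>
      rw [h] at hlt
      have h1 : n < 1 := by exact_mod_cast hlt
      have h2 : n = 0 := Order.lt_one_iff.1 h1
      rw [h2]
      rfl
  haveI : Ring.KrullDimLE 0 R := Ring.krullDimLE_iff.2 h0
  haveI : IsArtinianRing R := isArtinianRing_iff_krullDimLE_zero.2 inferInstance
  exact (mem_maximalIdeal x).1 hxm (IsArtinianRing.isUnit_of_mem_nonZeroDivisors hx)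

end dimone

section main

variable {A : Type u} [CommRing A] [IsNoetherianRing A] [IsLocalRing A]
  {B : Type u} [CommRing B] [Algebra A B] [Module.Finite A B]
  [hloc : ∀ q : MaximalSpectrum B, IsLocalHom (algebraMap A (Localization.AtPrime q.asIdeal))]

theorem norm_formula_of_tameData (hA : ringKrullDim A = 1) (c₀ : A)
    (hc₀m : c₀ ∈ maximalIdeal A) (hreg : algebraMap A B c₀ ∈ nonZeroDivisors B) {a₁ a₂ : A}
    (h₁ : a₁ ∈ nonZeroDivisors A) (h₂ : a₂ ∈ nonZeroDivisors A) (D : TameData A a₁ a₂)
    [Algebra B D.B] [IsScalarTower A B D.B] (hinj : Function.Injective (algebraMap B D.B)) :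
    tameSymbol A a₁ a₂ = ∏ᶠ q : MaximalSpectrum B, Algebra.norm (ResidueField A)
      (tameSymbol (Localization.AtPrime q.asIdeal)
        (algebraMap A (Localization.AtPrime q.asIdeal) a₁)
        (algebraMap A (Localization.AtPrime q.asIdeal) a₂)) := by
  haveI : DecidableEq (MaximalSpectrum B) := Classical.decEq _
  haveI : DecidableEq (MaximalSpectrum D.B) := Classical.decEq _
  haveI : Module.Finite A D.B := D.isFinExt.2.1
  haveI : Module.Finite B D.B := Module.Finite.of_restrictScalars_finite A B D.B
  haveI : IsNoetherianRing B := isNoetherianRing_of_finite A B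
  haveI : Algebra.IsIntegral A B := Algebra.IsIntegral.of_finite A B
  haveI := finite_maximalSpectrum A D.B
  haveI := finite_maximalSpectrum A B
  haveI := Fintype.ofFinite (MaximalSpectrum D.B)
  haveI := Fintype.ofFinite (MaximalSpectrum B)
  have hne : Nonempty (TameData A a₁ a₂) := ⟨D⟩
  have hL : tameSymbol A a₁ a₂ = D.value := by
    rw [tameSymbol, dif_pos hne]
    exact value_eq_value hA h₁ h₂ _ _
  obtain ⟨-, -, k, hk⟩ := D.isFinExt
  have hk' : ∀ r ∈ maximalIdeal A ^ k, ∀ c : D.B, r • c ∈ (algebraMap B D.B).range := by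
    intro r hr c
    obtain ⟨x, hx⟩ := hk r hr c
    exact ⟨algebraMap A B x, by rw [← IsScalarTower.algebraMap_apply, hx]⟩
  -- nonzerodivisors in `B`
  have hnzB : ∀ a : A, (∀ q₃ : MaximalSpectrum D.B,
      algebraMap A (Localization.AtPrime q₃.asIdeal) a ∈
        nonZeroDivisors (Localization.AtPrime q₃.asIdeal)) →
      algebraMap A B a ∈ nonZeroDivisors B := by
    intro a ha
    have h3 : algebraMap A D.B a ∈ nonZeroDivisors D.B := by
      apply mem_nonZeroDivisors_of_localization
      intro q₃
      rw [← IsScalarTower.algebraMap_apply]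
      exact ha q₃
    rw [mem_nonZeroDivisors_iff_right]
    intro x hx
    apply hinj
    rw [map_zero]
    apply (mem_nonZeroDivisors_iff_right.1 h3)
    rw [IsScalarTower.algebraMap_apply A B D.B, ← map_mul, hx, map_zero]
  have hfac : ∀ (u : (q₃ : MaximalSpectrum D.B) → (Localization.AtPrime q₃.asIdeal)ˣ)
      (e : MaximalSpectrum D.B → ℕ) (q₃ : MaximalSpectrum D.B),
      (u q₃ : Localization.AtPrime q₃.asIdeal) * D.π q₃ ^ e q₃ ∈
        nonZeroDivisors (Localization.AtPrime q₃.asIdeal) := fun u e q₃ =>
    mul_mem (u q₃).isUnit.mem_nonZeroDivisors (pow_mem (D.π_mem q₃) _)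
  have h₁B : algebraMap A B a₁ ∈ nonZeroDivisors B :=
    hnzB a₁ fun q₃ => by rw [D.fac₁]; exact hfac D.u₁ D.e₁ q₃
  have h₂B : algebraMap A B a₂ ∈ nonZeroDivisors B :=
    hnzB a₂ fun q₃ => by rw [D.fac₂]; exact hfac D.u₂ D.e₂ q₃
  have key : ∀ q : MaximalSpectrum B, Algebra.norm (ResidueField A)
      (tameSymbol (Localization.AtPrime q.asIdeal)
        (algebraMap A (Localization.AtPrime q.asIdeal) a₁)
        (algebraMap A (Localization.AtPrime q.asIdeal) a₂)) =
      ∏ q₃ ∈ Finset.univ.filter (fun q₃ => contr D.B q₃ = q), D.localFactor q₃ := by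
    intro q
    haveI : IsNoetherianRing (Localization.AtPrime q.asIdeal) :=
      IsLocalization.isNoetherianRing q.asIdeal.primeCompl _ inferInstance
    haveI : Ring.KrullDimLE 1 (Localization.AtPrime q.asIdeal) :=
      krullDimLE_one_localization (R := A) hA q.asIdeal
    have hloc' : ∀ a : A, algebraMap A B a ∈ nonZeroDivisors B →
        algebraMap A (Localization.AtPrime q.asIdeal) a ∈
          nonZeroDivisors (Localization.AtPrime q.asIdeal) := by
      intro a ha
      rw [IsScalarTower.algebraMap_apply A B]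
      exact IsLocalization.map_nonZeroDivisors_le q.asIdeal.primeCompl _ ⟨_, ha, rfl⟩
    have hregq := hloc' c₀ hreg
    have hmq : algebraMap A (Localization.AtPrime q.asIdeal) c₀ ∈
        maximalIdeal (Localization.AtPrime q.asIdeal) := by
      rw [mem_maximalIdeal, mem_nonunits_iff]
      intro hu
      exact (mem_nonunits_iff.1 ((mem_maximalIdeal _).1 hc₀m)) (isUnit_of_map_unit _ _ hu)
    have hdim : ringKrullDim (Localization.AtPrime q.asIdeal) = 1 :=
      ringKrullDim_eq_one_of_regular hregq hmq
    have hfe := isFinExt_locAt q.asIdeal hinj k hk' c₀ hc₀m hregq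
    have hne' : Nonempty (TameData (Localization.AtPrime q.asIdeal)
        (algebraMap A (Localization.AtPrime q.asIdeal) a₁)
        (algebraMap A (Localization.AtPrime q.asIdeal) a₂)) := ⟨locTame D q hfe⟩
    rw [tameSymbol, dif_pos hne', value_eq_value hdim (hloc' a₁ h₁B) (hloc' a₂ h₂B)
      (Classical.choice hne') (locTame D q hfe)]
    exact norm_locTame_value D q hfe
  rw [hL, finprod_eq_prod_of_fintype, Finset.prod_congr rfl fun q _ => key q]
  unfold TameData.value
  rw [finprod_eq_prod_of_fintype, Finset.prod_fiberwise]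

end main

end Groth.Agent.Lib.helper2.Tame
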