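import Mathlib
import Groth.Agent.Lib.Helper2.Tame25

/-!
# Tame symbols, part 26: the norm formula `∂_A(a, b) = ∏_q Norm_{κ(q)/κ} ∂_{B_q}(a, b)` (helper2)
-/

set_option autoImplicit false
universe u

namespace Groth.Agent.Lib.helper2.Tame

open IsLocalRing CycAlg

variable {A : Type u} [CommRing A] [IsNoetherianRing A] [IsLocalRing A]
  {B : Type u} [CommRing B] [Algebra A B]
  [hloc : ∀ q : MaximalSpectrum B, IsLocalHom (algebraMap A (Localization.AtPrime q.asIdeal))]

/-- **the norm formula for the tame symbol along a finite extension** -/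
theorem norm_formula (hA : ringKrullDim A = 1) (hB : CycAlg.IsFinExt A B (maximalIdeal A))
    (hass : maximalIdeal A ∉ associatedPrimes A B) (a b : A) (ha : a ∈ nonZeroDivisors A)
    (hb : b ∈ nonZeroDivisors A) :
    tameSymbol A a b = ∏ᶠ q : MaximalSpectrum B, Algebra.norm (ResidueField A)
      (tameSymbol (Localization.AtPrime q.asIdeal)
        (algebraMap A (Localization.AtPrime q.asIdeal) a)
        (algebraMap A (Localization.AtPrime q.asIdeal) b)) := by
  haveI : Module.Finite A B := hB.2.1
  obtain ⟨c₀, hc₀m, hreg⟩ := exists_regular_of_not_mem_ass (B := B) hass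
  have hregB : algebraMap A B c₀ ∈ nonZeroDivisors B := by
    rw [mem_nonZeroDivisors_iff_right]
    intro x hx
    apply hreg
    rw [Algebra.smul_def, mul_comm]
    exact hx
  have hc₀nz : c₀ ∈ nonZeroDivisors A := by
    rw [mem_nonZeroDivisors_iff_right]
    intro x hx
    apply hB.1
    rw [map_zero]
    apply hreg
    rw [Algebra.smul_def, ← map_mul, mul_comm, hx, map_zero]
  obtain ⟨ψ, hψ⟩ := exists_embedding (K := FractionRing A) hB c₀ hc₀nz hc₀m
    (fun b hb => hreg b (by rw [Algebra.smul_def]; exact hb))
  have hfg : ψ.range.toSubmodule.FG := by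
    have : ψ.range.toSubmodule = Submodule.map ψ.toLinearMap ⊤ := by
      ext x
      simp
    rw [this]
    exact Submodule.FG.map _ Module.Finite.fg_top
  obtain ⟨F, hle, hadm⟩ := exists_frame' hA ψ.range hfg ![a, b]
    (by intro i; fin_cases i <;> simpa)
  have az : F.Adm a := hadm 0
  have az' : F.Adm b := hadm 1
  let j : B →ₐ[A] ↥F.B₃ := (Subalgebra.inclusion hle).comp ψ.rangeRestrict
  letI : Algebra B ((F.glob az az').tame hA).B := j.toRingHom.toAlgebra
  haveI : IsScalarTower A B ((F.glob az az').tame hA).B :=
    IsScalarTower.of_algebraMap_eq fun x => (j.commutes x).symm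
  have hinj : Function.Injective (algebraMap B ((F.glob az az').tame hA).B) := by
    intro x y hxy
    apply hψ
    exact congrArg Subtype.val hxy
  exact norm_formula_of_tameData hA c₀ hc₀m hregB ha hb ((F.glob az az').tame hA) hinj

end Groth.Agent.Lib.helper2.Tame
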