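import Mathlib
import Groth.Agent.Lib.Helper2.Key6
import Groth.Agent.Lib.Helper2.Tame26

/-!
# Key lemma, part 7: the tame symbol of a local ring in which both elements factor (helper2)
-/

set_option autoImplicit false
universe u v

namespace Groth.Agent.Lib.helper2.Key

open IsLocalRing CycAlg Pointwise Groth.Agent.Lib.helper2.Tame

section trivialTame

variable {O : Type u} [CommRing O] [IsLocalRing O]

theorem maximalSpectrum_eq (q : MaximalSpectrum O) : q.asIdeal = maximalIdeal O :=
  IsLocalRing.eq_maximalIdeal q.isMaximal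

instance : Unique (MaximalSpectrum O) where
  default := ⟨maximalIdeal O, inferInstance⟩
  uniq q := MaximalSpectrum.ext (maximalSpectrum_eq q)

/-- `O` is its own localisation at a maximal ideal -/
theorem isLocalization_self (q : MaximalSpectrum O) : IsLocalization q.asIdeal.primeCompl O := by
  apply IsLocalization.of_le_isUnit
  intro s hs
  have : s ∉ maximalIdeal O := by
    rw [← maximalSpectrum_eq q]
    exact hs
  rwa [mem_maximalIdeal, mem_nonunits_iff, not_not] at this

/-- the identification `O ≃ O_q` -/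
noncomputable def selfEquiv (q : MaximalSpectrum O) : O ≃ₐ[O] Localization.AtPrime q.asIdeal :=
  haveI := q.isMaximal
  haveI := isLocalization_self q
  IsLocalization.algEquiv q.asIdeal.primeCompl O (Localization.AtPrime q.asIdeal)

theorem selfEquiv_apply (q : MaximalSpectrum O) (z : O) :
    selfEquiv q z = algebraMap O (Localization.AtPrime q.asIdeal) z := by
  have := (selfEquiv q).commutes z
  simpa using this

theorem isLocalHom_self (q : MaximalSpectrum O) :
    IsLocalHom (algebraMap O (Localization.AtPrime q.asIdeal)) := by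
  haveI := q.isMaximal
  exact Groth.Agent.Lib.helper2.NormOrd.isLocalHom_of_isIntegral_atPrime O O q.asIdeal
    (Localization.AtPrime q.asIdeal)

variable {a₁ a₂ : O} {π : O} {u₁ u₂ : Oˣ} {e₁ e₂ : ℕ}

/-- the trivial tame datum attached to a factorisation in `O` itself -/
noncomputable def trivTame (hπ : π ∈ nonZeroDivisors O) (h₁ : a₁ = u₁ * π ^ e₁)
    (h₂ : a₂ = u₂ * π ^ e₂) : TameData O a₁ a₂ where
  B := O
  isFinExt := ⟨fun _ _ h => h, inferInstance, 0, fun r _ b => ⟨r • b, rfl⟩⟩
  isLocalHom := isLocalHom_self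
  π q := algebraMap O _ π
  π_mem q := by
    haveI := q.isMaximal
    exact IsLocalization.map_nonZeroDivisors_le q.asIdeal.primeCompl _ ⟨_, hπ, rfl⟩
  u₁ q := Units.map (algebraMap O (Localization.AtPrime q.asIdeal) : O →* _) u₁
  u₂ q := Units.map (algebraMap O (Localization.AtPrime q.asIdeal) : O →* _) u₂
  e₁ _ := e₁
  e₂ _ := e₂
  fac₁ q := by
    rw [h₁, map_mul, map_pow]
    rfl
  fac₂ q := by
    rw [h₂, map_mul, map_pow]
    rfl

theorem norm_of_surjective {A O' : Type u} [CommRing A] [IsLocalRing A] [CommRing O']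
    [IsLocalRing O'] [Algebra A O'] [IsLocalHom (algebraMap A O')]
    (hs : Function.Surjective (algebraMap A O')) (z : ResidueField A) :
    Algebra.norm (ResidueField A) (algebraMap (ResidueField A) (ResidueField O') z) = z := by
  rw [Algebra.norm_algebraMap]
  convert pow_one z
  rw [finrank_eq_one_iff_of_nonzero' (1 : ResidueField O') one_ne_zero]
  intro w
  obtain ⟨w', rfl⟩ := residue_surjective w
  obtain ⟨v, rfl⟩ := hs w'
  refine ⟨residue A v, ?_⟩
  rw [Algebra.smul_def, mul_one, ResidueField.algebraMap_residue]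

theorem norm_self_residue (z : ResidueField O) :
    @Algebra.norm (ResidueField O) (ResidueField O) _ _ IsLocalRing.ResidueField.instAlgebra z =
      z := by
  have h1 : @algebraMap (ResidueField O) (ResidueField O) _ _
      IsLocalRing.ResidueField.instAlgebra z = z := by
    obtain ⟨w, rfl⟩ := residue_surjective z
    rfl
  have h2 := norm_of_surjective (A := O) (O' := O) Function.surjective_id z
  rw [h1] at h2
  exact h2

theorem trivTame_localFactor (hπ : π ∈ nonZeroDivisors O) (h₁ : a₁ = u₁ * π ^ e₁)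
    (h₂ : a₂ = u₂ * π ^ e₂) (q : MaximalSpectrum O) :
    (trivTame hπ h₁ h₂).localFactor q = theta O u₁ u₂ e₁ e₂ ^ (Ring.ord O π).toNat := by
  haveI := isLocalHom_self q
  have h := lf_equiv (A := O) (selfEquiv q) π u₁ u₂ e₁ e₂
  have e1 : (trivTame hπ h₁ h₂).π q = selfEquiv q π := (selfEquiv_apply _ _).symm
  have e2 : (trivTame hπ h₁ h₂).u₁ q = Units.map ((selfEquiv q :
      O ≃ₐ[O] Localization.AtPrime q.asIdeal) : O →* Localization.AtPrime q.asIdeal) u₁ := by
    ext
    exact (selfEquiv_apply _ _).symm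
  have e3 : (trivTame hπ h₁ h₂).u₂ q = Units.map ((selfEquiv q :
      O ≃ₐ[O] Localization.AtPrime q.asIdeal) : O →* Localization.AtPrime q.asIdeal) u₂ := by
    ext
    exact (selfEquiv_apply _ _).symm
  rw [localFactor_eq_lf, e1, e2, e3]
  refine h.trans ?_
  rw [lf]
  congr 1
  exact norm_self_residue _

theorem trivTame_value (hπ : π ∈ nonZeroDivisors O) (h₁ : a₁ = u₁ * π ^ e₁)
    (h₂ : a₂ = u₂ * π ^ e₂) :
    (trivTame hπ h₁ h₂).value = theta O u₁ u₂ e₁ e₂ ^ (Ring.ord O π).toNat := by
  haveI : Unique (MaximalSpectrum (trivTame hπ h₁ h₂).B) :=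
    inferInstanceAs (Unique (MaximalSpectrum O))
  unfold TameData.value
  rw [finprod_unique]
  exact trivTame_localFactor hπ h₁ h₂ _

/-- **the tame symbol of a pair that factors in the local ring itself** -/
theorem tameSymbol_eq_of_fac [IsNoetherianRing O] (hO : ringKrullDim O = 1)
    (ha₁ : a₁ ∈ nonZeroDivisors O) (ha₂ : a₂ ∈ nonZeroDivisors O)
    (hπ : π ∈ nonZeroDivisors O) (h₁ : a₁ = u₁ * π ^ e₁) (h₂ : a₂ = u₂ * π ^ e₂) :
    tameSymbol O a₁ a₂ = theta O u₁ u₂ e₁ e₂ ^ (Ring.ord O π).toNat := by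
  have hne : Nonempty (TameData O a₁ a₂) := ⟨trivTame hπ h₁ h₂⟩
  rw [tameSymbol, dif_pos hne, value_eq_value hO ha₁ ha₂ _ (trivTame hπ h₁ h₂), trivTame_value]

end trivialTame

end Groth.Agent.Lib.helper2.Key
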