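import Mathlib
import Groth.Agent.Lib.Helper2.Key7
import Groth.Agent.Lib.Helper15.HerbLen
import Groth.Agent.Lib.Helper16.SecOrd2

/-!
# Key lemma, part 8: `ord_{R/r}(∂_{R_r}(a, b)) = - e_R(R/sat(ab), a, b)` (helper2)
-/

set_option autoImplicit false
universe u v

namespace Groth.Agent.Lib.helper2.Key

open IsLocalRing CycAlg Pointwise Groth.Agent.Lib.helper2.Tame
open Groth.Agent.Lib.helper16.SecOrd

section ordfrac

variable (R : Type u) [CommRing R] (K : Type u) [Field K] [Algebra R K]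

theorem ordFrac_neg_one_pow (k : ℕ) : CycAlg.ordFrac R K ((-1 : K) ^ k) = 0 := by
  have h1 : CycAlg.ordFrac R K ((-1 : K) ^ k) + CycAlg.ordFrac R K ((-1 : K) ^ k) = 0 := by
    rw [← ordFrac_mul' R K (pow_ne_zero _ (neg_ne_zero.2 one_ne_zero))
      (pow_ne_zero _ (neg_ne_zero.2 one_ne_zero)), ← pow_add, ← two_mul, pow_mul]
    simp [ordFrac_one']
  omega

end ordfrac

section quotdim

variable {R : Type u} [CommRing R] [IsLocalRing R] {r : Ideal R} [r.IsPrime]

theorem krullDimLE_one_quot (hV : TwoPrimes r) : Ring.KrullDimLE 1 (R ⧸ r) := by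
  rw [Ring.krullDimLE_one_iff_of_noZeroDivisors]
  intro P hP hPprime
  have h1 : r ≤ P.comap (Ideal.Quotient.mk r) := by
    intro z hz
    rw [Ideal.mem_comap, Ideal.Quotient.eq_zero_iff_mem.2 hz]
    exact zero_mem _
  rcases hV _ (Ideal.comap_isPrime _ _) h1 with h | h
  · exfalso
    apply hP
    rw [eq_bot_iff]
    intro z hz
    obtain ⟨w, rfl⟩ := Ideal.Quotient.mk_surjective z
    have : w ∈ P.comap (Ideal.Quotient.mk r) := hz
    rw [h] at this
    rw [Ideal.mem_bot, Ideal.Quotient.eq_zero_iff_mem]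
    exact this
  · have hmax : (P.comap (Ideal.Quotient.mk r)).IsMaximal := h ▸ maximalIdeal.isMaximal R
    rcases Ideal.map_eq_top_or_isMaximal_of_surjective (Ideal.Quotient.mk r)
      Ideal.Quotient.mk_surjective hmax with h2 | h2
    · rw [Ideal.map_comap_of_surjective _ Ideal.Quotient.mk_surjective] at h2
      exact absurd h2 hPprime.ne_top
    · rwa [Ideal.map_comap_of_surjective _ Ideal.Quotient.mk_surjective] at h2

end quotdim


section localid

variable {R : Type u} [CommRing R] [IsNoetherianRing R] [IsLocalRing R] {r : Ideal R} [r.IsPrime]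
  {a b : R}

theorem residue_algebraMap (z : R) :
    residue (Localization.AtPrime r) (algebraMap R (Localization.AtPrime r) z) =
      algebraMap (R ⧸ r) r.ResidueField (Ideal.Quotient.mk r z) := by
  rw [Ideal.algebraMap_quotient_residueField_mk,
    IsScalarTower.algebraMap_apply R (Localization.AtPrime r) r.ResidueField]
  rfl

theorem algebraMap_mk_ne_zero {z : R} (hz : z ∉ r) :
    algebraMap (R ⧸ r) r.ResidueField (Ideal.Quotient.mk r z) ≠ 0 := by
  rw [Ne, map_eq_zero_iff _ (Ideal.injective_algebraMap_quotient_residueField r),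
    Ideal.Quotient.eq_zero_iff_mem]
  exact hz

theorem eq_units_mul_of_mul_eq {O : Type u} [CommRing O] {s c x P : O} (hs : IsUnit s)
    (hx : IsUnit x) (h : s * c = x * P) : c = ((hx.unit * hs.unit⁻¹ : Oˣ) : O) * P := by
  calc c = ↑(hs.unit⁻¹) * (↑hs.unit * c) := by rw [← mul_assoc, Units.inv_mul, one_mul]
    _ = ↑(hs.unit⁻¹) * (s * c) := by rw [IsUnit.unit_spec]
    _ = ↑(hs.unit⁻¹) * (x * P) := by rw [h]
    _ = ↑(hs.unit⁻¹) * (↑hx.unit * P) := by rw [IsUnit.unit_spec]
    _ = ((hx.unit * hs.unit⁻¹ : Oˣ) : O) * P := by rw [Units.val_mul]; ring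

/-- a factor of a nonzerodivisor power is a nonzerodivisor -/
theorem nzd_of_pow_mul {O : Type u} [CommRing O] {π : O} {u : Oˣ} {e : ℕ} (he : 0 < e)
    (h : (u : O) * π ^ e ∈ nonZeroDivisors O) : π ∈ nonZeroDivisors O := by
  rw [mem_nonZeroDivisors_iff_right]
  intro z hz
  apply (mem_nonZeroDivisors_iff_right.1 h) z
  obtain ⟨e', rfl⟩ := Nat.exists_eq_succ_of_ne_zero he.ne'
  rw [pow_succ]
  calc z * (↑u * (π ^ e' * π)) = (z * π) * (↑u * π ^ e') := by ring
    _ = 0 := by rw [hz, zero_mul]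

theorem ordFrac_tame_eq_neg_herbrand (hV : TwoPrimes r) (hrm : r ≠ maximalIdeal R)
    (hdim : ringKrullDim (Localization.AtPrime r) = 1)
    (ha : a ∈ nonZeroDivisors R) (hb : b ∈ nonZeroDivisors R)
    {p x s' y t' : R} {e f : ℕ} (hx : x ∉ r) (hs' : s' ∉ r) (hy : y ∉ r) (ht' : t' ∉ r)
    (h₁ : s' * a = x * p ^ e) (h₂ : t' * b = y * p ^ f) (hn : 0 < e + f) :
    haveI : Ring.KrullDimLE 1 (Localization.AtPrime r) := Ring.krullDimLE_iff.2 hdim.le
    CycAlg.ordFrac (R ⧸ r) r.ResidueField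
        (tameSymbol (Localization.AtPrime r) (algebraMap R (Localization.AtPrime r) a)
          (algebraMap R (Localization.AtPrime r) b)) =
      - herbrand R (mulE (Mab r a b) a) (mulE (Mab r a b) b) := by
  haveI : Ring.KrullDimLE 1 (Localization.AtPrime r) := Ring.krullDimLE_iff.2 hdim.le
  haveI : Ring.KrullDimLE 1 (R ⧸ r) := krullDimLE_one_quot hV
  haveI : IsNoetherianRing (Localization.AtPrime r) :=
    IsLocalization.isNoetherianRing r.primeCompl _ inferInstance
  set O := Localization.AtPrime r with hO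
  obtain ⟨-, hE⟩ := herbrand_Mab hV hrm ha hb hx hs' hy ht' h₁ h₂ hn
  rw [hE]
  -- units
  have hxu : IsUnit (algebraMap R O x) := IsLocalization.map_units O (⟨x, hx⟩ : r.primeCompl)
  have hsu : IsUnit (algebraMap R O s') := IsLocalization.map_units O (⟨s', hs'⟩ : r.primeCompl)
  have hyu : IsUnit (algebraMap R O y) := IsLocalization.map_units O (⟨y, hy⟩ : r.primeCompl)
  have htu : IsUnit (algebraMap R O t') := IsLocalization.map_units O (⟨t', ht'⟩ : r.primeCompl)
  set π : O := algebraMap R O p with hπdef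
  set u₁ : Oˣ := hxu.unit * hsu.unit⁻¹ with hu₁
  set u₂ : Oˣ := hyu.unit * htu.unit⁻¹ with hu₂
  have fac₁ : algebraMap R O a = (u₁ : O) * π ^ e := by
    have h := congrArg (algebraMap R O) h₁
    rw [map_mul, map_mul, map_pow] at h
    exact eq_units_mul_of_mul_eq hsu hxu h
  have fac₂ : algebraMap R O b = (u₂ : O) * π ^ f := by
    have h := congrArg (algebraMap R O) h₂
    rw [map_mul, map_mul, map_pow] at h
    exact eq_units_mul_of_mul_eq htu hyu h
  have haO : algebraMap R O a ∈ nonZeroDivisors O :=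
    IsLocalization.map_nonZeroDivisors_le r.primeCompl _ ⟨_, ha, rfl⟩
  have hbO : algebraMap R O b ∈ nonZeroDivisors O :=
    IsLocalization.map_nonZeroDivisors_le r.primeCompl _ ⟨_, hb, rfl⟩
  have hπ : π ∈ nonZeroDivisors O := by
    rcases Nat.eq_zero_or_pos e with he | he
    · have hf : 0 < f := by omega
      exact nzd_of_pow_mul hf (fac₂ ▸ hbO)
    · exact nzd_of_pow_mul he (fac₁ ▸ haO)
  rw [tameSymbol_eq_of_fac hdim haO hbO hπ fac₁ fac₂]
  -- the residues of the units
  set X := algebraMap (R ⧸ r) r.ResidueField (Ideal.Quotient.mk r x) with hX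
  set S := algebraMap (R ⧸ r) r.ResidueField (Ideal.Quotient.mk r s') with hS
  set Y := algebraMap (R ⧸ r) r.ResidueField (Ideal.Quotient.mk r y) with hY
  set T := algebraMap (R ⧸ r) r.ResidueField (Ideal.Quotient.mk r t') with hT
  have hX0 : X ≠ 0 := algebraMap_mk_ne_zero hx
  have hS0 : S ≠ 0 := algebraMap_mk_ne_zero hs'
  have hY0 : Y ≠ 0 := algebraMap_mk_ne_zero hy
  have hT0 : T ≠ 0 := algebraMap_mk_ne_zero ht'
  have hr1 : residue O (u₁ : O) = X / S := by
    rw [hu₁, Units.val_mul, map_mul, IsUnit.unit_spec, residue_algebraMap, div_eq_mul_inv]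
    congr 1
    rw [map_units_inv, IsUnit.unit_spec, residue_algebraMap]
  have hr2 : residue O (u₂ : O) = Y / T := by
    rw [hu₂, Units.val_mul, map_mul, IsUnit.unit_spec, residue_algebraMap, div_eq_mul_inv]
    congr 1
    rw [map_units_inv, IsUnit.unit_spec, residue_algebraMap]
  have hXS : X / S ≠ 0 := div_ne_zero hX0 hS0
  have hYT : Y / T ≠ 0 := div_ne_zero hY0 hT0
  have hmkx : Ideal.Quotient.mk r x ≠ 0 := fun h => hx (Ideal.Quotient.eq_zero_iff_mem.1 h)
  have hmks : Ideal.Quotient.mk r s' ≠ 0 := fun h => hs' (Ideal.Quotient.eq_zero_iff_mem.1 h)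
  have hmky : Ideal.Quotient.mk r y ≠ 0 := fun h => hy (Ideal.Quotient.eq_zero_iff_mem.1 h)
  have hmkt : Ideal.Quotient.mk r t' ≠ 0 := fun h => ht' (Ideal.Quotient.eq_zero_iff_mem.1 h)
  have o1 : CycAlg.ordFrac (R ⧸ r) r.ResidueField (X / S) = ordq r x - ordq r s' :=
    Groth.Agent.Lib.helper15.HerbLen.ordFrac_div (R ⧸ r) r.ResidueField hmkx hmks
  have o2 : CycAlg.ordFrac (R ⧸ r) r.ResidueField (Y / T) = ordq r y - ordq r t' :=
    Groth.Agent.Lib.helper15.HerbLen.ordFrac_div (R ⧸ r) r.ResidueField hmky hmkt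
  -- the orders of `a` and `b`
  have oa : ordr r a = e * ((Ring.ord O π).toNat : ℤ) := by
    unfold ordr
    rw [fac₁, Ring.ord_mul_of_isUnit_left u₁.isUnit, Ring.ord_pow hπ, nsmul_eq_mul,
      ENat.toNat_mul, ENat.toNat_natCast]
    push_cast
    rfl
  have ob : ordr r b = f * ((Ring.ord O π).toNat : ℤ) := by
    unfold ordr
    rw [fac₂, Ring.ord_mul_of_isUnit_left u₂.isUnit, Ring.ord_pow hπ, nsmul_eq_mul,
      ENat.toNat_mul, ENat.toNat_natCast]
    push_cast
    rfl
  rw [oa, ob]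
  -- the order of the symbol
  unfold theta
  rw [hr1, hr2]
  have hth : (-1 : r.ResidueField) ^ (e * f) * (X / S) ^ f * ((Y / T) ^ e)⁻¹ ≠ 0 :=
    mul_ne_zero (mul_ne_zero (pow_ne_zero _ (neg_ne_zero.2 one_ne_zero)) (pow_ne_zero _ hXS))
      (inv_ne_zero (pow_ne_zero _ hYT))
  rw [ordFrac_pow' _ _ hth, ordFrac_mul' _ _ (mul_ne_zero (pow_ne_zero _ (neg_ne_zero.2
    one_ne_zero)) (pow_ne_zero _ hXS)) (inv_ne_zero (pow_ne_zero _ hYT)),
    ordFrac_mul' _ _ (pow_ne_zero _ (neg_ne_zero.2 one_ne_zero)) (pow_ne_zero _ hXS),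
    ordFrac_neg_one_pow, ordFrac_inv' _ _ (pow_ne_zero _ hYT), ordFrac_pow' _ _ hXS,
    ordFrac_pow' _ _ hYT, o1, o2]
  ring

end localid

end Groth.Agent.Lib.helper2.Key
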