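import Mathlib
import Groth.Agent.Lib.Helper2.Key8

/-!
# Key lemma, part 9: the key lemma for a two-dimensional local ring in which the two elements
factor at every height one prime (helper2)
-/

set_option autoImplicit false
universe u v

namespace Groth.Agent.Lib.helper2.Key

open IsLocalRing CycAlg Pointwise Groth.Agent.Lib.helper2.Tame

section dim2

variable {R : Type u} [CommRing R] [IsNoetherianRing R] [IsLocalRing R]

theorem height_maximalIdeal (hR : ringKrullDim R = 2) : (maximalIdeal R).height = 2 := by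
  have h := IsLocalRing.maximalIdeal_height_eq_ringKrullDim (R := R)
  rw [hR] at h
  have h' : ((maximalIdeal R).height : WithBot ℕ∞) = ((2 : ℕ∞) : WithBot ℕ∞) := h
  exact WithBot.coe_injective h'

theorem height_ne_zero_of_nzd {r : Ideal R} [r.IsPrime] {c : R} (hc : c ∈ nonZeroDivisors R)
    (hcr : c ∈ r) : r.height ≠ 0 := by
  rw [Ne, Ideal.height_eq_zero_iff]
  intro hmin
  exact notMem_nonZeroDivisors_of_mem_mem_minimalPrimes hcr hmin hc

theorem height_eq_one_of_nzd (hR : ringKrullDim R = 2) {r : Ideal R} [r.IsPrime]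
    (hrm : r ≠ maximalIdeal R) {c : R} (hc : c ∈ nonZeroDivisors R) (hcr : c ∈ r) :
    r.height = 1 := by
  have h0 := height_ne_zero_of_nzd hc hcr
  have hlt : r < maximalIdeal R := lt_of_le_of_ne (le_maximalIdeal (Ideal.IsPrime.ne_top')) hrm
  have h2 := Ideal.height_strict_mono_of_isPrime hlt
  rw [height_maximalIdeal hR] at h2
  have h1 : 1 ≤ r.height := Order.one_le_iff_ne_zero.2 h0
  have h3 : r.height < 1 + 1 := by
    rw [one_add_one_eq_two]
    exact h2
  exact le_antisymm (Order.le_of_lt_add_one h3) h1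

theorem ne_maximalIdeal_of_height (hR : ringKrullDim R = 2) {r : Ideal R}
    (h : r.height = 1) : r ≠ maximalIdeal R := by
  rintro rfl
  rw [height_maximalIdeal hR] at h
  exact absurd h (by decide)

theorem twoPrimes_of_height (hR : ringKrullDim R = 2) {r : Ideal R} [r.IsPrime]
    (h : r.height = 1) : TwoPrimes r := by
  intro P hP hrP
  by_cases h1 : P = r
  · exact Or.inl h1
  · right
    by_contra h2
    have hlt : r < P := lt_of_le_of_ne hrP (Ne.symm h1)
    have hlt2 : P < maximalIdeal R := lt_of_le_of_ne (le_maximalIdeal hP.ne_top) h2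
    have e1 := Ideal.height_strict_mono_of_isPrime hlt
    have e2 := Ideal.height_strict_mono_of_isPrime hlt2
    rw [height_maximalIdeal hR] at e2
    rw [h] at e1
    have e3 : P.height < 1 + 1 := by
      rw [one_add_one_eq_two]
      exact e2
    exact absurd (lt_of_lt_of_le e1 (Order.le_of_lt_add_one e3)) (lt_irrefl _)

theorem finite_height_one (hR : ringKrullDim R = 2) {c : R} (hc : c ∈ nonZeroDivisors R) :
    {q : PrimeSpectrum R | q.asIdeal.height = 1 ∧ c ∈ q.asIdeal}.Finite := by
  have hfin := Ideal.finite_minimalPrimes_of_isNoetherianRing R (Ideal.span {c})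
  have hsub : PrimeSpectrum.asIdeal '' {q : PrimeSpectrum R | q.asIdeal.height = 1 ∧
      c ∈ q.asIdeal} ⊆ (Ideal.span {c}).minimalPrimes := by
    rintro _ ⟨q, ⟨hq1, hq2⟩, rfl⟩
    have hle : Ideal.span {c} ≤ q.asIdeal := (Ideal.span_singleton_le_iff_mem _).2 hq2
    haveI := q.2
    apply Ideal.mem_minimalPrimes_of_height_le hle
    rw [hq1]
    exact Ideal.one_le_height_span_singleton_of_mem_nonZeroDivisors hc
  exact Set.Finite.of_finite_image (hfin.subset hsub)
    (fun x _ y _ hxy => PrimeSpectrum.ext hxy)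

end dim2

section units

variable {O : Type u} [CommRing O] [IsNoetherianRing O] [IsLocalRing O]

theorem tame_of_isUnit (hO : ringKrullDim O = 1) {a b : O} (ha : IsUnit a) (hb : IsUnit b) :
    tameSymbol O a b = 1 := by
  obtain ⟨c, rfl⟩ := ha
  rw [tame_unit O hO c b hb.mem_nonZeroDivisors]
  have htop : Ideal.span {b} = (⊤ : Ideal O) := Ideal.span_singleton_eq_top.2 hb
  haveI : Subsingleton (O ⧸ Ideal.span {b}) := by
    rw [htop]
    exact Ideal.Quotient.subsingleton_iff.2 rfl
  rw [Module.length_eq_zero]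
  simp

end units

section globalfac

variable {R : Type u} [CommRing R] {r : Ideal R} [r.IsPrime]

/-- clearing denominators in a local factorisation -/
theorem exists_global_fac {a p : R} {σ : r.primeCompl} {u : (Localization.AtPrime r)ˣ} {e : ℕ}
    (h : algebraMap R (Localization.AtPrime r) a =
      (u : Localization.AtPrime r) * (IsLocalization.mk' (Localization.AtPrime r) p σ) ^ e) :
    ∃ x s' : R, x ∉ r ∧ s' ∉ r ∧ s' * a = x * p ^ e := by
  obtain ⟨x₀, s₀, hu⟩ := IsLocalization.exists_mk'_eq r.primeCompl (u : Localization.AtPrime r)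
  have hx₀ : x₀ ∉ r := by
    have h1 : IsUnit (IsLocalization.mk' (Localization.AtPrime r) x₀ s₀) := hu ▸ u.isUnit
    have h2 : IsUnit (algebraMap R (Localization.AtPrime r) x₀) := by
      rw [← IsLocalization.mk'_spec (Localization.AtPrime r) x₀ s₀]
      exact h1.mul (IsLocalization.map_units _ s₀)
    exact (IsLocalization.AtPrime.isUnit_to_map_iff (Localization.AtPrime r) r x₀).1 h2
  have key : algebraMap R (Localization.AtPrime r) ((s₀ : R) * (σ : R) ^ e * a) =
      algebraMap R (Localization.AtPrime r) (x₀ * p ^ e) := by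
    rw [map_mul, h, ← hu, map_mul, map_mul, map_pow, map_pow,
      ← IsLocalization.mk'_spec (Localization.AtPrime r) x₀ s₀,
      ← IsLocalization.mk'_spec (Localization.AtPrime r) p σ]
    ring
  obtain ⟨c, hc⟩ := (IsLocalization.eq_iff_exists r.primeCompl _).1 key
  refine ⟨c * x₀, c * (s₀ * σ ^ e), ?_, ?_, ?_⟩
  · exact fun hm => (Ideal.IsPrime.mem_or_mem inferInstance hm).elim c.2 hx₀
  · intro hm
    rcases Ideal.IsPrime.mem_or_mem inferInstance hm with h1 | h1
    · exact c.2 h1
    · rcases Ideal.IsPrime.mem_or_mem inferInstance h1 with h2 | h2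
      · exact s₀.2 h2
      · exact σ.2 (Ideal.IsPrime.mem_of_pow_mem inferInstance _ h2)
  · linear_combination hc

end globalfac

section main

variable {R : Type u} [CommRing R] [IsNoetherianRing R] [IsLocalRing R]

/-- the local term of the key lemma at a prime -/
noncomputable def term (a b : R) (q : PrimeSpectrum R) : ℤ :=
  CycAlg.ordFrac (R ⧸ q.asIdeal) q.asIdeal.ResidueField
    (tameSymbol (Localization.AtPrime q.asIdeal)
      (algebraMap R (Localization.AtPrime q.asIdeal) a)
      (algebraMap R (Localization.AtPrime q.asIdeal) b))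

theorem ringKrullDim_atPrime_of_height {q : Ideal R} [q.IsPrime] (hq : q.height = 1) :
    ringKrullDim (Localization.AtPrime q) = 1 := by
  rw [IsLocalization.AtPrime.ringKrullDim_eq_height q, hq]
  rfl

theorem term_eq_zero_of_notMem {a b : R} (q : PrimeSpectrum R) (hq : q.asIdeal.height = 1)
    (hab : a * b ∉ q.asIdeal) : term a b q = 0 := by
  have ha : a ∉ q.asIdeal := fun h => hab (Ideal.mul_mem_right _ _ h)
  have hb : b ∉ q.asIdeal := fun h => hab (Ideal.mul_mem_left _ _ h)
  haveI : IsNoetherianRing (Localization.AtPrime q.asIdeal) :=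
    IsLocalization.isNoetherianRing q.asIdeal.primeCompl _ inferInstance
  unfold term
  rw [tame_of_isUnit (ringKrullDim_atPrime_of_height hq)
    (IsLocalization.map_units _ (⟨a, ha⟩ : q.asIdeal.primeCompl))
    (IsLocalization.map_units _ (⟨b, hb⟩ : q.asIdeal.primeCompl))]
  exact Groth.Agent.Lib.helper16.SecOrd.ordFrac_one' _ _

/-- **the key lemma when `a` and `b` factor at every height one prime** -/
theorem key_of_fac (hR : ringKrullDim R = 2) {a b : R} (ha : a ∈ nonZeroDivisors R)
    (hb : b ∈ nonZeroDivisors R)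
    (hfac : ∀ (r : Ideal R) [r.IsPrime], r ≠ maximalIdeal R → a * b ∈ r →
      ∃ (p x s' y t' : R) (e f : ℕ), x ∉ r ∧ s' ∉ r ∧ y ∉ r ∧ t' ∉ r ∧
        s' * a = x * p ^ e ∧ t' * b = y * p ^ f) :
    ∑ᶠ (q : PrimeSpectrum R) (_ : q.asIdeal.height = 1), term a b q = 0 := by
  classical
  have hab : a * b ∈ nonZeroDivisors R := mul_mem ha hb
  set T : Set (PrimeSpectrum R) := {q | q.asIdeal.height = 1 ∧ a * b ∈ q.asIdeal} with hT
  have hTfin : T.Finite := finite_height_one hR hab
  have h1 : ∑ᶠ (q : PrimeSpectrum R) (_ : q.asIdeal.height = 1), term a b q =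
      ∑ᶠ q ∈ T, term a b q := by
    apply finsum_congr
    intro q
    rw [finsum_eq_if, finsum_eq_if]
    by_cases hq : q.asIdeal.height = 1
    · by_cases hq2 : a * b ∈ q.asIdeal
      · rw [if_pos hq, if_pos (show q ∈ T from ⟨hq, hq2⟩)]
      · rw [if_pos hq, if_neg (show q ∉ T from fun h => hq2 h.2), term_eq_zero_of_notMem q hq hq2]
    · rw [if_neg hq, if_neg (show q ∉ T from fun h => hq h.1)]
  rw [h1, finsum_mem_eq_finite_toFinset_sum _ hTfin]
  set S := hTfin.toFinset with hS
  let ε : ↥S ≃ Fin S.card := S.equivFin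
  let r : Fin S.card → Ideal R := fun i => (ε.symm i).1.asIdeal
  have hmem : ∀ i, (ε.symm i).1 ∈ T := fun i => (hTfin.mem_toFinset).1 (ε.symm i).2
  haveI hprime : ∀ i, (r i).IsPrime := fun i => (ε.symm i).1.2
  have hheight : ∀ i, (r i).height = 1 := fun i => (hmem i).1
  have habr : ∀ i, a * b ∈ r i := fun i => (hmem i).2
  have hdim : ∀ i, ringKrullDim (Localization.AtPrime (r i)) = 1 :=
    fun i => ringKrullDim_atPrime_of_height (hheight i)
  haveI : ∀ i, Ring.KrullDimLE 1 (Localization.AtPrime (r i)) :=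
    fun i => Ring.krullDimLE_iff.2 (hdim i).le
  have hV : ∀ i, TwoPrimes (r i) := fun i => twoPrimes_of_height hR (hheight i)
  have hrm : ∀ i, r i ≠ maximalIdeal R := fun i => ne_maximalIdeal_of_height hR (hheight i)
  have hinj : Function.Injective r := by
    intro i j hij
    have : (ε.symm i) = (ε.symm j) := Subtype.ext (PrimeSpectrum.ext hij)
    exact ε.symm.injective this
  have hall : ∀ P : Ideal R, P.IsPrime → a * b ∈ P → P = maximalIdeal R ∨ ∃ i, P = r i := by
    intro P hP habP
    by_cases hPm : P = maximalIdeal R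
    · exact Or.inl hPm
    · right
      have hPh : P.height = 1 := height_eq_one_of_nzd hR hPm hab habP
      have hPT : (⟨P, hP⟩ : PrimeSpectrum R) ∈ S := (hTfin.mem_toFinset).2 ⟨hPh, habP⟩
      refine ⟨ε ⟨⟨P, hP⟩, hPT⟩, ?_⟩
      change P = (ε.symm (ε ⟨⟨P, hP⟩, hPT⟩)).1.asIdeal
      rw [Equiv.symm_apply_apply]
  -- the factorisations
  have hdata : ∀ i, FinCoh R (mulE (Mab (r i) a b) a) (mulE (Mab (r i) a b) b) ∧
      term a b (ε.symm i).1 = - herbrand R (mulE (Mab (r i) a b) a) (mulE (Mab (r i) a b) b) := by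
    intro i
    obtain ⟨p, x, s', y, t', e, f, hx, hs', hy, ht', h₁, h₂⟩ := hfac (r i) (hrm i) (habr i)
    have hn : 0 < e + f := by
      by_contra hcon
      have he : e = 0 := by omega
      have hf : f = 0 := by omega
      subst he hf
      rw [pow_zero, mul_one] at h₁ h₂
      have h3 : x * y ∈ r i := by
        have : x * y = s' * t' * (a * b) := by rw [← h₁, ← h₂]; ring
        rw [this]
        exact Ideal.mul_mem_left _ _ (habr i)
      rcases Ideal.IsPrime.mem_or_mem (hprime i) h3 with h | h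
      · exact hx h
      · exact hy h
    refine ⟨(herbrand_Mab (hV i) (hrm i) ha hb hx hs' hy ht' h₁ h₂ hn).1, ?_⟩
    exact ordFrac_tame_eq_neg_herbrand (hV i) (hrm i) (hdim i) ha hb hx hs' hy ht' h₁ h₂ hn
  have hsum := sum_herbrand_eq_zero r ha hb hV hinj hrm hall (fun i => (hdata i).1)
  have e1 : ∑ q ∈ S, term a b q = ∑ x : ↥S, term a b x.1 := (Finset.sum_coe_sort S _).symm
  have e2 : ∑ x : ↥S, term a b x.1 = ∑ i : Fin S.card, term a b (ε.symm i).1 :=
    (Equiv.sum_comp ε.symm (fun x : ↥S => term a b x.1)).symm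
  rw [e1, e2, Finset.sum_congr rfl (fun i _ => (hdata i).2), Finset.sum_neg_distrib, hsum,
    neg_zero]

/-- the same with the factorisations given in the local rings -/
theorem key_of_locfac (hR : ringKrullDim R = 2) {a b : R} (ha : a ∈ nonZeroDivisors R)
    (hb : b ∈ nonZeroDivisors R)
    (hfac : ∀ (r : Ideal R) [r.IsPrime], r ≠ maximalIdeal R → a * b ∈ r →
      ∃ (π : Localization.AtPrime r) (u v : (Localization.AtPrime r)ˣ) (e f : ℕ),
        algebraMap R (Localization.AtPrime r) a = (u : Localization.AtPrime r) * π ^ e ∧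
        algebraMap R (Localization.AtPrime r) b = (v : Localization.AtPrime r) * π ^ f) :
    ∑ᶠ (q : PrimeSpectrum R) (_ : q.asIdeal.height = 1), term a b q = 0 := by
  apply key_of_fac hR ha hb
  intro r _ hrm habr
  obtain ⟨π, u, v, e, f, h₁, h₂⟩ := hfac r hrm habr
  obtain ⟨p, σ, rfl⟩ := IsLocalization.exists_mk'_eq r.primeCompl π
  obtain ⟨x, s', hx, hs', e₁⟩ := exists_global_fac h₁
  obtain ⟨y, t', hy, ht', e₂⟩ := exists_global_fac h₂
  exact ⟨p, x, s', y, t', e, f, hx, hs', hy, ht', e₁, e₂⟩

end main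

end Groth.Agent.Lib.helper2.Key
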