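import Mathlib
import Groth.Agent.Lib.Helper2.Key9

/-!
# Key lemma, part 10: the local subring `A + 𝔪D` of a finite extension `D` of a local ring `A`
(helper2)
-/

set_option autoImplicit false
universe u v

namespace Groth.Agent.Lib.helper2.Key

open IsLocalRing

section localsub

variable (A : Type u) [CommRing A] [IsLocalRing A] (D : Type v) [CommRing D] [Algebra A D]

/-- the ideal `𝔪D` -/
def mD : Ideal D := (maximalIdeal A).map (algebraMap A D)

variable {A D}

theorem algebraMap_mem_mD {m : A} (hm : m ∈ maximalIdeal A) : algebraMap A D m ∈ mD A D :=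
  Ideal.mem_map_of_mem _ hm

variable [Algebra.IsIntegral A D]

theorem mD_le_of_isMaximal (P : Ideal D) [P.IsMaximal] : mD A D ≤ P := by
  have h1 : P.comap (algebraMap A D) = maximalIdeal A :=
    IsLocalRing.eq_maximalIdeal (Ideal.isMaximal_comap_of_isIntegral_of_isMaximal P)
  unfold mD
  rw [Ideal.map_le_iff_le_comap, h1]

theorem isUnit_one_add_of_mem {j : D} (hj : j ∈ mD A D) : IsUnit (1 + j) := by
  by_contra hcon
  obtain ⟨P, hP, hmem⟩ := exists_max_ideal_of_mem_nonunits hcon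
  have h1 : j ∈ P := mD_le_of_isMaximal P hj
  have h2 : (1 : D) ∈ P := by
    have := P.sub_mem hmem h1
    simpa using this
  exact hP.ne_top ((Ideal.eq_top_iff_one P).2 h2)

theorem one_notMem_mD [Nontrivial D] : (1 : D) ∉ mD A D := by
  intro h
  have h1 : IsUnit ((1 : D) + (-1)) := isUnit_one_add_of_mem ((mD A D).neg_mem h)
  rw [add_neg_cancel] at h1
  exact not_isUnit_zero h1

variable (A D) in
/-- the subring `A + 𝔪D` -/
def locSub : Subalgebra A D where
  carrier := {x | ∃ a₀ : A, x - algebraMap A D a₀ ∈ mD A D}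
  mul_mem' := by
    rintro x y ⟨a₀, hx⟩ ⟨b₀, hy⟩
    refine ⟨a₀ * b₀, ?_⟩
    have : x * y - algebraMap A D (a₀ * b₀) =
        (x - algebraMap A D a₀) * y + algebraMap A D a₀ * (y - algebraMap A D b₀) := by
      rw [map_mul]
      ring
    rw [this]
    exact (mD A D).add_mem (Ideal.mul_mem_right _ _ hx) (Ideal.mul_mem_left _ _ hy)
  add_mem' := by
    rintro x y ⟨a₀, hx⟩ ⟨b₀, hy⟩
    refine ⟨a₀ + b₀, ?_⟩
    have : x + y - algebraMap A D (a₀ + b₀) =
        (x - algebraMap A D a₀) + (y - algebraMap A D b₀) := by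
      rw [map_add]
      ring
    rw [this]
    exact (mD A D).add_mem hx hy
  algebraMap_mem' := by
    intro a₀
    exact ⟨a₀, by rw [sub_self]; exact zero_mem _⟩

theorem mem_locSub {x : D} : x ∈ locSub A D ↔ ∃ a₀ : A, x - algebraMap A D a₀ ∈ mD A D :=
  Iff.rfl

theorem mem_locSub_of_mem_mD {x : D} (hx : x ∈ mD A D) : x ∈ locSub A D :=
  ⟨0, by rw [map_zero, sub_zero]; exact hx⟩

theorem smul_mem_locSub {m : A} (hm : m ∈ maximalIdeal A) (d : D) : m • d ∈ locSub A D := by
  apply mem_locSub_of_mem_mD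
  rw [Algebra.smul_def]
  exact Ideal.mul_mem_right _ _ (algebraMap_mem_mD hm)

/-- an element with unit constant term is a unit of `A + 𝔪D` -/
theorem isUnit_of_const {x : ↥(locSub A D)} {a₀ : A} (ha₀ : IsUnit a₀)
    (hx : (x : D) - algebraMap A D a₀ ∈ mD A D) : IsUnit x := by
  obtain ⟨u, rfl⟩ := ha₀
  set j : D := (x : D) - algebraMap A D (u : A) with hj
  have hj' : algebraMap A D ((u⁻¹ : Aˣ) : A) * j ∈ mD A D := Ideal.mul_mem_left _ _ hx
  obtain ⟨w, hw⟩ := isUnit_one_add_of_mem hj'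
  have huinv : algebraMap A D (u : A) * algebraMap A D ((u⁻¹ : Aˣ) : A) = 1 := by
    rw [← map_mul, Units.mul_inv, map_one]
  have hxe : (x : D) = algebraMap A D (u : A) * (w : D) := by
    rw [hw, mul_add, mul_one, ← mul_assoc, huinv, one_mul, hj]
    ring
  -- the inverse of `w` lies in `1 + 𝔪D`
  have hwinv : ((w⁻¹ : Dˣ) : D) - 1 ∈ mD A D := by
    have h1 : ((w⁻¹ : Dˣ) : D) - 1 = - (((w⁻¹ : Dˣ) : D) * (algebraMap A D ((u⁻¹ : Aˣ) : A) * j)) := by
      have h2 : ((w⁻¹ : Dˣ) : D) * (w : D) = 1 := Units.inv_mul w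
      rw [hw] at h2
      linear_combination h2
    rw [h1]
    exact (mD A D).neg_mem (Ideal.mul_mem_left _ _ hj')
  have hy : algebraMap A D ((u⁻¹ : Aˣ) : A) * ((w⁻¹ : Dˣ) : D) ∈ locSub A D := by
    refine ⟨((u⁻¹ : Aˣ) : A), ?_⟩
    have : algebraMap A D ((u⁻¹ : Aˣ) : A) * ((w⁻¹ : Dˣ) : D) - algebraMap A D ((u⁻¹ : Aˣ) : A) =
        algebraMap A D ((u⁻¹ : Aˣ) : A) * (((w⁻¹ : Dˣ) : D) - 1) := by ring
    rw [this]
    exact Ideal.mul_mem_left _ _ hwinv
  rw [isUnit_iff_exists_inv]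
  refine ⟨⟨_, hy⟩, Subtype.ext ?_⟩
  change (x : D) * (algebraMap A D ((u⁻¹ : Aˣ) : A) * ((w⁻¹ : Dˣ) : D)) = 1
  rw [hxe]
  have h3 : (w : D) * ((w⁻¹ : Dˣ) : D) = 1 := Units.mul_inv w
  linear_combination (algebraMap A D (u : A) * algebraMap A D ((u⁻¹ : Aˣ) : A)) * h3 + huinv

variable [Nontrivial D]

instance isLocalRing_locSub : IsLocalRing ↥(locSub A D) := by
  apply IsLocalRing.of_isUnit_or_isUnit_one_sub_self
  intro x
  obtain ⟨a₀, hx⟩ := x.2
  by_cases ha₀ : IsUnit a₀
  · exact Or.inl (isUnit_of_const ha₀ hx)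
  · right
    have h1 : IsUnit (1 - a₀) := by
      have hm : a₀ ∈ maximalIdeal A := (mem_maximalIdeal a₀).2 ha₀
      rcases IsLocalRing.isUnit_or_isUnit_of_add_one (a := a₀) (b := 1 - a₀) (by ring) with h | h
      · exact absurd h ha₀
      · exact h
    apply isUnit_of_const h1
    have : ((1 - x : ↥(locSub A D)) : D) - algebraMap A D (1 - a₀) =
        - ((x : D) - algebraMap A D a₀) := by
      rw [map_sub, map_one]
      push_cast
      ring
    rw [this]
    exact (mD A D).neg_mem hx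

theorem mem_maximalIdeal_locSub {x : ↥(locSub A D)} :
    x ∈ maximalIdeal ↥(locSub A D) ↔ (x : D) ∈ mD A D := by
  constructor
  · intro hx
    obtain ⟨a₀, hx'⟩ := x.2
    by_cases ha₀ : IsUnit a₀
    · exact absurd (isUnit_of_const ha₀ hx') ((mem_maximalIdeal x).1 hx)
    · have hm : a₀ ∈ maximalIdeal A := (mem_maximalIdeal a₀).2 ha₀
      have : (x : D) = ((x : D) - algebraMap A D a₀) + algebraMap A D a₀ := by ring
      rw [this]
      exact (mD A D).add_mem hx' (algebraMap_mem_mD hm)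
  · intro hx
    rw [mem_maximalIdeal, mem_nonunits_iff]
    intro hu
    have hu' : IsUnit (x : D) := hu.map (locSub A D).val
    apply one_notMem_mD (A := A) (D := D)
    obtain ⟨w, hw⟩ := hu'
    have : (1 : D) = ((w⁻¹ : Dˣ) : D) * (x : D) := by rw [← hw, Units.inv_mul]
    rw [this]
    exact Ideal.mul_mem_left _ _ hx

theorem residue_surjective_locSub :
    Function.Surjective ((residue ↥(locSub A D)).comp (algebraMap A ↥(locSub A D))) := by
  intro z
  obtain ⟨x, rfl⟩ := residue_surjective z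
  obtain ⟨a₀, hx⟩ := x.2
  refine ⟨a₀, ?_⟩
  rw [RingHom.comp_apply, eq_comm, ← sub_eq_zero, ← map_sub, residue_eq_zero_iff,
    mem_maximalIdeal_locSub]
  exact hx

end localsub

end Groth.Agent.Lib.helper2.Key
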