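import Mathlib
import Groth.Agent.Lib.Helper2.Key10

/-!
# Key lemma, part 11: the map `A_t → Frac(A_q)` and lifting integral elements (helper2)
-/

set_option autoImplicit false
universe u v

namespace Groth.Agent.Lib.helper2.Key

open IsLocalRing

section lam

variable {A : Type u} [CommRing A] (t : A) (q : Ideal A) [q.IsPrime]

theorem isUnit_algebraMap_fraction (ht : t ∈ nonZeroDivisors A) :
    IsUnit (algebraMap A (FractionRing (Localization.AtPrime q)) t) := by
  have h1 : algebraMap A (Localization.AtPrime q) t ∈ nonZeroDivisors (Localization.AtPrime q) :=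
    IsLocalization.map_nonZeroDivisors_le q.primeCompl _ ⟨_, ht, rfl⟩
  rw [IsScalarTower.algebraMap_apply A (Localization.AtPrime q)
    (FractionRing (Localization.AtPrime q))]
  exact IsLocalization.map_units (FractionRing (Localization.AtPrime q))
    (⟨_, h1⟩ : nonZeroDivisors (Localization.AtPrime q))

/-- the canonical map `A_t → Frac(A_q)` -/
noncomputable def lam (ht : t ∈ nonZeroDivisors A) :
    Localization.Away t →ₐ[A] FractionRing (Localization.AtPrime q) :=
  IsLocalization.liftAlgHom (M := Submonoid.powers t)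
    (f := Algebra.ofId A (FractionRing (Localization.AtPrime q))) (by
      rintro ⟨_, n, rfl⟩
      change IsUnit (algebraMap A (FractionRing (Localization.AtPrime q)) (t ^ n))
      rw [map_pow]
      exact (isUnit_algebraMap_fraction t q ht).pow n)

variable {t q}

theorem exists_smul_eq_zero_of_lam_eq_zero (ht : t ∈ nonZeroDivisors A) {z : Localization.Away t}
    (hz : lam t q ht z = 0) : ∃ τ ∈ q.primeCompl, τ • z = 0 := by
  obtain ⟨n, a', hn⟩ := IsLocalization.Away.surj t z
  have h1 : algebraMap A (FractionRing (Localization.AtPrime q)) a' = 0 := by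
    rw [← (lam t q ht).commutes a', ← hn, map_mul, hz, zero_mul]
  rw [IsScalarTower.algebraMap_apply A (Localization.AtPrime q)
    (FractionRing (Localization.AtPrime q)),
    (injective_iff_map_eq_zero' _).1 (IsFractionRing.injective (Localization.AtPrime q)
      (FractionRing (Localization.AtPrime q)))] at h1
  obtain ⟨τ, hτ⟩ := (IsLocalization.map_eq_zero_iff q.primeCompl _ _).1 h1
  refine ⟨τ, τ.2, ?_⟩
  have hu : IsUnit (algebraMap A (Localization.Away t) t ^ n) :=
    (IsLocalization.Away.algebraMap_isUnit t).pow n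
  apply hu.mul_left_injective
  simp only
  rw [zero_mul, smul_mul_assoc, hn, Algebra.smul_def, ← map_mul, hτ, map_zero]

theorem exists_lam_eq_smul [IsNoetherianRing A] (ht : t ∈ nonZeroDivisors A)
    (hdim : ringKrullDim (Localization.AtPrime q) = 1) (htq : t ∈ q)
    (β : FractionRing (Localization.AtPrime q)) :
    ∃ z : Localization.Away t, ∃ σ ∈ q.primeCompl, lam t q ht z = σ • β := by
  haveI : IsNoetherianRing (Localization.AtPrime q) :=
    IsLocalization.isNoetherianRing q.primeCompl _ inferInstance
  haveI : Ring.KrullDimLE 1 (Localization.AtPrime q) := Ring.krullDimLE_iff.2 hdim.le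
  obtain ⟨o, z₀, hβ⟩ := IsLocalization.exists_mk'_eq (nonZeroDivisors (Localization.AtPrime q)) β
  obtain ⟨N, hN⟩ := Groth.Agent.Lib.helper2.Tame.exists_pow_maximalIdeal_le_span
    (Localization.AtPrime q) z₀.2
  have ht' : algebraMap A (Localization.AtPrime q) t ∈ maximalIdeal (Localization.AtPrime q) := by
    rw [← Localization.AtPrime.map_eq_maximalIdeal]
    exact Ideal.mem_map_of_mem _ htq
  obtain ⟨w, hw⟩ := Ideal.mem_span_singleton'.1 (hN (Ideal.pow_mem_pow ht' N))
  obtain ⟨a', σ, hσ⟩ := IsLocalization.exists_mk'_eq q.primeCompl (o * w)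
  refine ⟨IsLocalization.mk' (Localization.Away t) a' (⟨t ^ N, pow_mem (Submonoid.mem_powers t) N⟩ : Submonoid.powers t),
    σ, σ.2, ?_⟩
  have hu : IsUnit (algebraMap A (FractionRing (Localization.AtPrime q)) t ^ N) :=
    (isUnit_algebraMap_fraction t q ht).pow N
  apply hu.mul_left_injective
  simp only
  have e1 : lam t q ht (IsLocalization.mk' (Localization.Away t) a'
      (⟨t ^ N, pow_mem (Submonoid.mem_powers t) N⟩ : Submonoid.powers t)) *
      algebraMap A (FractionRing (Localization.AtPrime q)) t ^ N =
      algebraMap A (FractionRing (Localization.AtPrime q)) a' := by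
    rw [← map_pow, ← (lam t q ht).commutes (t ^ N), ← map_mul,
      IsLocalization.mk'_spec (Localization.Away t) a' (⟨t ^ N, pow_mem (Submonoid.mem_powers t) N⟩ : Submonoid.powers t),
      AlgHom.commutes]
  rw [e1]
  -- the right hand side
  have e2 : β * algebraMap (Localization.AtPrime q) (FractionRing (Localization.AtPrime q))
      (z₀ : Localization.AtPrime q) = algebraMap _ _ o := by
    rw [← hβ, IsLocalization.mk'_spec]
  have e3 : algebraMap A (Localization.AtPrime q) a' =
      algebraMap A (Localization.AtPrime q) (σ : A) * (o * w) := by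
    rw [← hσ, mul_comm, IsLocalization.mk'_spec]
  rw [IsScalarTower.algebraMap_apply A (Localization.AtPrime q)
    (FractionRing (Localization.AtPrime q)) a', e3, Algebra.smul_def,
    IsScalarTower.algebraMap_apply A (Localization.AtPrime q)
    (FractionRing (Localization.AtPrime q)) t, ← map_pow, ← hw, map_mul, map_mul, map_mul,
    ← e2,
    IsScalarTower.algebraMap_apply A (Localization.AtPrime q)
    (FractionRing (Localization.AtPrime q)) (σ : A)]
  ring

theorem exists_integral_lift [IsNoetherianRing A] [Nontrivial A] (ht : t ∈ nonZeroDivisors A)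
    (hdim : ringKrullDim (Localization.AtPrime q) = 1) (htq : t ∈ q)
    {β : FractionRing (Localization.AtPrime q)} (hβ : IsIntegral (Localization.AtPrime q) β) :
    ∃ x : Localization.Away t, IsIntegral A x ∧ ∃ σ ∈ q.primeCompl, lam t q ht x = σ • β := by
  obtain ⟨m, hm⟩ := IsIntegral.exists_multiple_integral_of_isLocalization q.primeCompl
    (Rₘ := Localization.AtPrime q) β hβ
  obtain ⟨z, σ, hσ, hz⟩ := exists_lam_eq_smul ht hdim htq (m • β)
  have hint : IsIntegral A (lam t q ht z) := by
    rw [hz]
    exact hm.smul σ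
  obtain ⟨P, hPm, hP⟩ := hint
  have hP' : lam t q ht (Polynomial.aeval z P) = 0 := by
    rw [← Polynomial.aeval_algHom_apply]
    exact hP
  obtain ⟨τ, hτ, hτz⟩ := exists_smul_eq_zero_of_lam_eq_zero ht hP'
  refine ⟨τ • z, ⟨(P * Polynomial.X).scaleRoots τ, ?_, ?_⟩, τ * σ * m, ?_, ?_⟩
  · exact (Polynomial.monic_scaleRoots_iff τ).2 (hPm.mul Polynomial.monic_X)
  · rw [Algebra.smul_def, Polynomial.scaleRoots_eval₂_mul, Polynomial.eval₂_mul,
      Polynomial.eval₂_X, Polynomial.natDegree_mul_X hPm.ne_zero, pow_succ]
    have h0 : algebraMap A (Localization.Away t) τ * Polynomial.eval₂ (algebraMap A _) z P = 0 := by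
      rw [← Algebra.smul_def]
      exact hτz
    calc algebraMap A (Localization.Away t) τ ^ P.natDegree * algebraMap A _ τ *
          (Polynomial.eval₂ (algebraMap A _) z P * z)
        = algebraMap A (Localization.Away t) τ ^ P.natDegree * z *
          (algebraMap A _ τ * Polynomial.eval₂ (algebraMap A _) z P) := by ring
      _ = 0 := by rw [h0, mul_zero]
  · exact q.primeCompl.mul_mem (q.primeCompl.mul_mem hτ hσ) m.2
  · rw [map_smul, hz, Submonoid.smul_def, smul_smul, smul_smul]

end lam

end Groth.Agent.Lib.helper2.Key
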