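import Mathlib
import Groth.Agent.Lib.Helper2.Key11

/-!
# Key lemma, part 12: contracting a prime along a map to a localised overring and transporting
local factorisations (helper2)
-/

set_option autoImplicit false
universe u v

namespace Groth.Agent.Lib.helper2.Key

open IsLocalRing Groth.Agent.Lib.helper2.Tame

section contraction

variable {A : Type u} [CommRing A] {C : Type u} [CommRing C] [Algebra A C] (r : Ideal C)
  [hr : r.IsPrime] (q : Ideal A) [hqp : q.IsPrime]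
  {O : Type u} [CommRing O] {K : Type u} [CommRing K] [Algebra A K] [Algebra O K]
  (B : Subalgebra O K) (ℓ : C →ₐ[A] K)

/-- the elements of `B` which lift to `r` up to denominators -/
def nSet : Set ↥B := {β | ∃ c ∈ r, ∃ σ ∈ q.primeCompl, ℓ c = σ • (β : K)}

variable {r q B ℓ}

theorem algebraMap_notMem (hq : r.comap (algebraMap A C) = q) {σ : A} (hσ : σ ∈ q.primeCompl) :
    algebraMap A C σ ∉ r := by
  intro h
  apply hσ
  rw [← hq]
  exact h

variable (hq : r.comap (algebraMap A C) = q)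
  (hker : ∀ c : C, ℓ c = 0 → ∃ τ ∈ q.primeCompl, τ • c = 0)
  (hlift : ∀ β ∈ B, ∃ c : C, ∃ σ ∈ q.primeCompl, ℓ c = σ • β)

variable (r) in
include hlift in
/-- the contracted ideal -/
def nOf : Ideal ↥B where
  carrier := nSet r q B ℓ
  zero_mem' := ⟨0, r.zero_mem, 1, q.primeCompl.one_mem, by simp⟩
  add_mem' := by
    rintro β γ ⟨c, hc, σ, hσ, e1⟩ ⟨c', hc', σ', hσ', e2⟩
    refine ⟨σ' • c + σ • c', r.add_mem ?_ ?_, σ * σ', q.primeCompl.mul_mem hσ hσ', ?_⟩
    · rw [Algebra.smul_def]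
      exact Ideal.mul_mem_left _ _ hc
    · rw [Algebra.smul_def]
      exact Ideal.mul_mem_left _ _ hc'
    · rw [map_add, map_smul, map_smul, e1, e2, Subalgebra.coe_add, smul_add, smul_smul, smul_smul,
        mul_comm σ' σ]
  smul_mem' := by
    rintro γ β ⟨c, hc, σ, hσ, e1⟩
    obtain ⟨cγ, σγ, hσγ, e2⟩ := hlift (γ : K) γ.2
    refine ⟨c * cγ, Ideal.mul_mem_right _ _ hc, σ * σγ, q.primeCompl.mul_mem hσ hσγ, ?_⟩
    rw [map_mul, e1, e2, smul_eq_mul, Subalgebra.coe_mul, smul_mul_smul_comm, mul_comm (β : K)]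

theorem mem_nOf {β : ↥B} :
    β ∈ nOf r hlift ↔ ∃ c ∈ r, ∃ σ ∈ q.primeCompl, ℓ c = σ • (β : K) := Iff.rfl

include hq hker in
theorem nOf_isPrime : (nOf r hlift).IsPrime := by
  constructor
  · rw [Ne, Ideal.eq_top_iff_one]
    rintro ⟨c, hc, σ, hσ, e1⟩
    have h0 : ℓ (c - algebraMap A C σ) = 0 := by
      rw [map_sub, e1, AlgHom.commutes, Subalgebra.coe_one, Algebra.smul_def, mul_one, sub_self]
    obtain ⟨τ, hτ, h1⟩ := hker _ h0
    have h2 : algebraMap A C (τ * σ) ∈ r := by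
      have : algebraMap A C (τ * σ) = τ • c := by
        rw [smul_sub, sub_eq_zero] at h1
        rw [h1, Algebra.smul_def, map_mul]
      rw [this, Algebra.smul_def]
      exact Ideal.mul_mem_left _ _ hc
    exact algebraMap_notMem hq (q.primeCompl.mul_mem hτ hσ) h2
  · intro β γ hβγ
    obtain ⟨c, hc, σ, hσ, e1⟩ := hβγ
    obtain ⟨cβ, σβ, hσβ, e2⟩ := hlift (β : K) β.2
    obtain ⟨cγ, σγ, hσγ, e3⟩ := hlift (γ : K) γ.2
    have h0 : ℓ (σ • (cβ * cγ) - (σβ * σγ) • c) = 0 := by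
      rw [map_sub, map_smul, map_smul, map_mul, e1, e2, e3, Subalgebra.coe_mul,
        smul_mul_smul_comm, smul_smul, smul_smul, sub_eq_zero]
      congr 1
      ring
    obtain ⟨τ, hτ, h1⟩ := hker _ h0
    have h2 : algebraMap A C (τ * σ) * (cβ * cγ) ∈ r := by
      have : algebraMap A C (τ * σ) * (cβ * cγ) = algebraMap A C (τ * (σβ * σγ)) * c := by
        rw [smul_sub, sub_eq_zero, smul_smul, smul_smul, Algebra.smul_def, Algebra.smul_def] at h1
        exact h1
      rw [this]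
      exact Ideal.mul_mem_left _ _ hc
    rcases hr.mem_or_mem h2 with h3 | h3
    · exact absurd h3 (algebraMap_notMem hq (q.primeCompl.mul_mem hτ hσ))
    · rcases hr.mem_or_mem h3 with h4 | h4
      · exact Or.inl ⟨cβ, h4, σβ, hσβ, e2⟩
      · exact Or.inr ⟨cγ, h4, σγ, hσγ, e3⟩

theorem notMem_of_lift {β : ↥B} (hβ : β ∉ nOf r hlift) {c : C} {σ : A}
    (hσ : σ ∈ q.primeCompl) (hc : ℓ c = σ • (β : K)) : c ∉ r :=
  fun h => hβ ⟨c, h, σ, hσ, hc⟩

include hq hker in
/-- transporting a local factorisation -/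
theorem exists_fac_of_LA {z : A} {π : K} {e : ℕ}
    (h : LA B (nOf r hlift) (algebraMap A K z) (π ^ e)) {cπ : C} {σπ : A}
    (hσπ : σπ ∈ q.primeCompl) (hcπ : ℓ cπ = σπ • π) :
    ∃ x s' : C, x ∉ r ∧ s' ∉ r ∧ s' * algebraMap A C z = x * cπ ^ e := by
  obtain ⟨s, s', hs, hs', he⟩ := h
  obtain ⟨cs, σs, hσs, e1⟩ := hlift (s : K) s.2
  obtain ⟨cs', σs', hσs', e2⟩ := hlift (s' : K) s'.2
  have hcs : cs ∉ r := notMem_of_lift hlift hs hσs e1
  have hcs' : cs' ∉ r := notMem_of_lift hlift hs' hσs' e2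
  have h0 : ℓ ((σs' * σπ ^ e) • (cs * algebraMap A C z) - σs • (cs' * cπ ^ e)) = 0 := by
    rw [map_sub, map_smul, map_smul, map_mul, map_mul, map_pow, e1, e2, hcπ, AlgHom.commutes,
      sub_eq_zero, smul_pow, smul_mul_smul_comm, smul_mul_assoc, he, smul_smul, smul_smul]
    congr 1
    ring
  obtain ⟨τ, hτ, h1⟩ := hker _ h0
  rw [smul_sub, sub_eq_zero, smul_smul, smul_smul, Algebra.smul_def, Algebra.smul_def] at h1
  refine ⟨algebraMap A C (τ * σs) * cs', algebraMap A C (τ * (σs' * σπ ^ e)) * cs, ?_, ?_, ?_⟩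
  · intro hm
    rcases hr.mem_or_mem hm with h3 | h3
    · exact algebraMap_notMem hq (q.primeCompl.mul_mem hτ hσs) h3
    · exact hcs' h3
  · intro hm
    rcases hr.mem_or_mem hm with h3 | h3
    · exact algebraMap_notMem hq (q.primeCompl.mul_mem hτ
        (q.primeCompl.mul_mem hσs' (q.primeCompl.pow_mem hσπ e))) h3
    · exact hcs h3
  · linear_combination h1

end contraction

end Groth.Agent.Lib.helper2.Key
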