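import Mathlib
import Groth.Agent.Lib.Helper2.Key12

/-!
# Key lemma, part 13: frames at the height one primes and lifts of their generators to `A_t`
(helper2)
-/

set_option autoImplicit false
universe u v

namespace Groth.Agent.Lib.helper2.Key

open IsLocalRing Groth.Agent.Lib.helper2.Tame

section perprime

variable {A : Type u} [CommRing A] [IsNoetherianRing A] [Nontrivial A] {t : A}
  (ht : t ∈ nonZeroDivisors A) {q : Ideal A} [q.IsPrime]

theorem exists_frame_lift (hdim : ringKrullDim (Localization.AtPrime q) = 1) (htq : t ∈ q)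
    {a b : A} (ha : a ∈ nonZeroDivisors A) (hb : b ∈ nonZeroDivisors A) :
    ∃ X : Set (Localization.Away t), X.Finite ∧ (∀ x ∈ X, IsIntegral A x) ∧
      ∃ F : Frame (Localization.AtPrime q) (FractionRing (Localization.AtPrime q)),
        F.Adm (algebraMap A (Localization.AtPrime q) a) ∧
        F.Adm (algebraMap A (Localization.AtPrime q) b) ∧
        ∀ β ∈ F.B₃, ∃ d ∈ Algebra.adjoin A X, ∃ σ ∈ q.primeCompl, lam t q ht d = σ • β := by
  classical
  haveI : IsNoetherianRing (Localization.AtPrime q) :=
    IsLocalization.isNoetherianRing q.primeCompl _ inferInstance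
  have haO : algebraMap A (Localization.AtPrime q) a ∈ nonZeroDivisors (Localization.AtPrime q) :=
    IsLocalization.map_nonZeroDivisors_le q.primeCompl _ ⟨_, ha, rfl⟩
  have hbO : algebraMap A (Localization.AtPrime q) b ∈ nonZeroDivisors (Localization.AtPrime q) :=
    IsLocalization.map_nonZeroDivisors_le q.primeCompl _ ⟨_, hb, rfl⟩
  obtain ⟨F, hF⟩ := exists_frame (K := FractionRing (Localization.AtPrime q)) hdim
    ![algebraMap A (Localization.AtPrime q) a, algebraMap A (Localization.AtPrime q) b]
    (fun i => by fin_cases i <;> simpa)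
  obtain ⟨G, hG⟩ := F.fg
  have hGmem : ∀ β ∈ G, β ∈ F.B₃ := by
    intro β hβ
    have : β ∈ Submodule.span (Localization.AtPrime q) (G : Set _) := Submodule.subset_span hβ
    rw [hG] at this
    exact this
  have hlift : ∀ β : FractionRing (Localization.AtPrime q), β ∈ G →
      ∃ x : Localization.Away t, IsIntegral A x ∧ ∃ σ ∈ q.primeCompl, lam t q ht x = σ • β := by
    intro β hβ
    exact exists_integral_lift ht hdim htq (IsIntegral.of_mem_of_fg F.B₃ F.fg β (hGmem β hβ))
  choose! f hf using hlift
  refine ⟨f '' (G : Set _), (G.finite_toSet).image f, ?_, F, hF 0, hF 1, ?_⟩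
  · rintro _ ⟨β, hβ, rfl⟩
    exact (hf β hβ).1
  · intro β hβ
    have hβ' : β ∈ Submodule.span (Localization.AtPrime q) (G : Set _) := by
      rw [hG]
      exact hβ
    clear hβ
    induction hβ' using Submodule.span_induction with
    | mem β hβG =>
      obtain ⟨-, σ, hσ, e⟩ := hf β hβG
      exact ⟨f β, Algebra.subset_adjoin ⟨β, hβG, rfl⟩, σ, hσ, e⟩
    | zero => exact ⟨0, zero_mem _, 1, q.primeCompl.one_mem, by simp⟩
    | add β γ _ _ hβ hγ =>
      obtain ⟨d, hd, σ, hσ, e1⟩ := hβ
      obtain ⟨d', hd', σ', hσ', e2⟩ := hγ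
      refine ⟨σ' • d + σ • d', add_mem (Subalgebra.smul_mem _ hd _) (Subalgebra.smul_mem _ hd' _),
        σ * σ', q.primeCompl.mul_mem hσ hσ', ?_⟩
      rw [map_add, map_smul, map_smul, e1, e2, smul_add, smul_smul, smul_smul, mul_comm σ' σ]
    | smul o β _ hβ =>
      obtain ⟨d, hd, σ, hσ, e1⟩ := hβ
      obtain ⟨a', σ', hσ'⟩ := IsLocalization.exists_mk'_eq q.primeCompl o
      refine ⟨a' • d, Subalgebra.smul_mem _ hd _, σ' * σ, q.primeCompl.mul_mem σ'.2 hσ, ?_⟩
      have e2 : algebraMap A (Localization.AtPrime q) (σ' : A) * o =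
          algebraMap A (Localization.AtPrime q) a' := by
        rw [← hσ', mul_comm, IsLocalization.mk'_spec]
      rw [map_smul, e1, mul_smul, smul_comm σ o β, ← smul_assoc (σ' : A) o (σ • β),
        Algebra.smul_def (σ' : A) o, e2, algebraMap_smul]

end perprime

end Groth.Agent.Lib.helper2.Key
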