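import Mathlib
import Groth.Agent.Lib.Helper2.Key13

/-!
# Key lemma, part 14: the glueing — a finite local overring of a two-dimensional local ring in
which two given nonzerodivisors factor at every height one prime (helper2)
-/

set_option autoImplicit false
universe u v

namespace Groth.Agent.Lib.helper2.Key

open IsLocalRing Groth.Agent.Lib.helper2.Tame

section global

variable {A : Type u} [CommRing A] [IsNoetherianRing A] [IsLocalRing A]
  (hA : ringKrullDim A = 2) {a b : A} (ha : a ∈ nonZeroDivisors A) (hb : b ∈ nonZeroDivisors A)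

include hA ha hb in
theorem exists_global_lift (ht : a * b ∈ nonZeroDivisors A) :
    ∃ X : Set (Localization.Away (a * b)), X.Finite ∧ (∀ x ∈ X, IsIntegral A x) ∧
      ∀ q : PrimeSpectrum A, q.asIdeal.height = 1 → a * b ∈ q.asIdeal →
        ∃ F : Frame (Localization.AtPrime q.asIdeal)
            (FractionRing (Localization.AtPrime q.asIdeal)),
          F.Adm (algebraMap A (Localization.AtPrime q.asIdeal) a) ∧
          F.Adm (algebraMap A (Localization.AtPrime q.asIdeal) b) ∧
          ∀ β ∈ F.B₃, ∃ d ∈ Algebra.adjoin A X, ∃ σ ∈ q.asIdeal.primeCompl,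
            lam (a * b) q.asIdeal ht d = σ • β := by
  classical
  have key : ∀ q : PrimeSpectrum A, ∃ X : Set (Localization.Away (a * b)), X.Finite ∧
      (∀ x ∈ X, IsIntegral A x) ∧ (q.asIdeal.height = 1 → a * b ∈ q.asIdeal →
        ∃ F : Frame (Localization.AtPrime q.asIdeal)
            (FractionRing (Localization.AtPrime q.asIdeal)),
          F.Adm (algebraMap A (Localization.AtPrime q.asIdeal) a) ∧
          F.Adm (algebraMap A (Localization.AtPrime q.asIdeal) b) ∧
          ∀ β ∈ F.B₃, ∃ d ∈ Algebra.adjoin A X, ∃ σ ∈ q.asIdeal.primeCompl,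
            lam (a * b) q.asIdeal ht d = σ • β) := by
    intro q
    by_cases h : q.asIdeal.height = 1 ∧ a * b ∈ q.asIdeal
    · obtain ⟨X, hX1, hX2, hX3⟩ := exists_frame_lift ht
        (ringKrullDim_atPrime_of_height h.1) h.2 ha hb
      exact ⟨X, hX1, hX2, fun _ _ => hX3⟩
    · exact ⟨∅, Set.finite_empty, by simp, fun h1 h2 => absurd ⟨h1, h2⟩ h⟩
  choose X hX1 hX2 hX3 using key
  set Q : Set (PrimeSpectrum A) := {q | q.asIdeal.height = 1 ∧ a * b ∈ q.asIdeal} with hQdef
  have hQ : Q.Finite := finite_height_one hA ht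
  refine ⟨⋃ q ∈ Q, X q, hQ.biUnion (fun q _ => hX1 q), ?_, ?_⟩
  · intro x hx
    simp only [Set.mem_iUnion] at hx
    obtain ⟨q, _, hxq⟩ := hx
    exact hX2 q x hxq
  · intro q h1 h2
    obtain ⟨F, hFa, hFb, hF⟩ := hX3 q h1 h2
    refine ⟨F, hFa, hFb, fun β hβ => ?_⟩
    obtain ⟨d, hd, σ, hσ, e⟩ := hF β hβ
    exact ⟨d, Algebra.adjoin_mono (Set.subset_biUnion_of_mem (show q ∈ Q from ⟨h1, h2⟩)) hd,
      σ, hσ, e⟩

include hA ha hb in
/-- **the glueing lemma** -/
theorem exists_glue :
    ∃ (C : Type u) (_ : CommRing C) (_ : Algebra A C) (_ : IsLocalRing C),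
      Module.Finite A C ∧ Function.Injective (algebraMap A C) ∧
      Function.Surjective ((residue C).comp (algebraMap A C)) ∧
      (∃ N : ℕ, ∀ c : C, ∃ x : A, algebraMap A C x = (a * b) ^ N • c) ∧
      algebraMap A C (a * b) ∈ nonZeroDivisors C ∧
      ∀ (r : Ideal C) [r.IsPrime], r ≠ maximalIdeal C → algebraMap A C (a * b) ∈ r →
        ∃ (p x s' y t' : C) (e f : ℕ), x ∉ r ∧ s' ∉ r ∧ y ∉ r ∧ t' ∉ r ∧
          s' * algebraMap A C a = x * p ^ e ∧ t' * algebraMap A C b = y * p ^ f := by
  classical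
  have ht : a * b ∈ nonZeroDivisors A := mul_mem ha hb
  obtain ⟨X, hXfin, hXint, hX⟩ := exists_global_lift hA ha hb ht
  set D : Subalgebra A (Localization.Away (a * b)) := Algebra.adjoin A X with hD
  have hDfg : D.toSubmodule.FG := fg_adjoin_of_finite hXfin hXint
  haveI : Module.Finite A ↥D := Module.Finite.iff_fg.2 hDfg
  haveI : Algebra.IsIntegral A ↥D := Algebra.IsIntegral.of_finite A ↥D
  have hinjAt : Function.Injective (algebraMap A (Localization.Away (a * b))) :=
    IsLocalization.injective _ (Submonoid.powers_le.2 ht)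
  haveI : Nontrivial (Localization.Away (a * b)) := hinjAt.nontrivial
  haveI : Nontrivial ↥D := inferInstance
  let ι : ↥(locSub A ↥D) →ₐ[A] Localization.Away (a * b) := D.val.comp (locSub A ↥D).val
  have hι : Function.Injective ι := (Subtype.val_injective).comp Subtype.val_injective
  haveI hfin : Module.Finite A ↥(locSub A ↥D) :=
    Module.Finite.of_injective (locSub A ↥D).val.toLinearMap Subtype.val_injective
  refine ⟨↥(locSub A ↥D), inferInstance, inferInstance, inferInstance, hfin, ?_,
    residue_surjective_locSub, ?_, ?_, ?_⟩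
  · -- injectivity
    have : (ι : ↥(locSub A ↥D) → Localization.Away (a * b)) ∘ (algebraMap A ↥(locSub A ↥D)) =
        algebraMap A (Localization.Away (a * b)) := by
      funext z
      exact ι.commutes z
    exact Function.Injective.of_comp (this ▸ hinjAt)
  · -- the conductor
    obtain ⟨S, hS⟩ := (Module.Finite.fg_top : (⊤ : Submodule A ↥(locSub A ↥D)).FG)
    have h1 : ∀ g : ↥(locSub A ↥D), ∃ n : ℕ, ∃ x : A,
        algebraMap A (Localization.Away (a * b)) x = (a * b) ^ n • ι g := by
      intro g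
      obtain ⟨n, x, hx⟩ := IsLocalization.Away.surj (a * b) (ι g)
      exact ⟨n, x, by rw [← hx, Algebra.smul_def, map_pow, mul_comm (ι g)]⟩
    choose n x hx using h1
    refine ⟨S.sup n, fun c => ?_⟩
    have hc : c ∈ Submodule.span A (S : Set ↥(locSub A ↥D)) := by
      rw [hS]
      trivial
    induction hc using Submodule.span_induction with
    | mem g hg =>
      refine ⟨(a * b) ^ (S.sup n - n g) * x g, hι ?_⟩
      rw [AlgHom.commutes, map_smul, map_mul, hx, map_pow, Algebra.smul_def, Algebra.smul_def,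
        map_pow, map_pow, ← mul_assoc, ← pow_add, Nat.sub_add_cancel (Finset.le_sup hg)]
    | zero => exact ⟨0, by simp⟩
    | add c c' _ _ h h' =>
      obtain ⟨x1, e1⟩ := h
      obtain ⟨x2, e2⟩ := h'
      exact ⟨x1 + x2, by rw [map_add, e1, e2, smul_add]⟩
    | smul o c _ h =>
      obtain ⟨x1, e1⟩ := h
      exact ⟨o * x1, by rw [map_mul, e1, smul_comm, Algebra.smul_def o]⟩
  · -- `ab` is a nonzerodivisor
    rw [mem_nonZeroDivisors_iff_right]
    intro c hc
    apply hι
    have h1 : ι c * algebraMap A (Localization.Away (a * b)) (a * b) = 0 := by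
      rw [← ι.commutes (a * b), ← map_mul, hc, map_zero]
    rw [map_zero]
    exact (IsLocalization.Away.algebraMap_isUnit (a * b)).mul_left_injective
      (by simpa using h1)
  · -- the factorisations
    intro r _ hrm htr
    set q : Ideal A := r.comap (algebraMap A ↥(locSub A ↥D)) with hq
    haveI : q.IsPrime := Ideal.comap_isPrime _ _
    have htq : a * b ∈ q := htr
    have hqm : q ≠ maximalIdeal A := by
      intro h
      haveI : Algebra.IsIntegral A ↥(locSub A ↥D) := Algebra.IsIntegral.of_finite A _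
      have hmax : r.IsMaximal :=
        Ideal.isMaximal_of_isIntegral_of_isMaximal_comap (R := A) r (by
          rw [← hq, h]
          infer_instance)
      exact hrm (IsLocalRing.eq_maximalIdeal hmax)
    have hqh : q.height = 1 := height_eq_one_of_nzd hA hqm ht htq
    obtain ⟨F, hFa, hFb, hF⟩ := hX ⟨q, inferInstance⟩ hqh htq
    obtain ⟨μ, hμm, hμq⟩ : ∃ μ ∈ maximalIdeal A, μ ∉ q := by
      have hlt : q < maximalIdeal A :=
        lt_of_le_of_ne (le_maximalIdeal (Ideal.IsPrime.ne_top')) hqm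
      exact SetLike.exists_of_lt hlt
    let ℓ : ↥(locSub A ↥D) →ₐ[A] FractionRing (Localization.AtPrime q) := (lam (a * b) q ht).comp ι
    have hker : ∀ c : ↥(locSub A ↥D), ℓ c = 0 → ∃ τ ∈ q.primeCompl, τ • c = 0 := by
      intro c hc
      obtain ⟨τ, hτ, h0⟩ := exists_smul_eq_zero_of_lam_eq_zero ht (z := ι c) hc
      refine ⟨τ, hτ, hι ?_⟩
      rw [map_smul, h0, map_zero]
    have hlift : ∀ β ∈ F.B₃, ∃ c : ↥(locSub A ↥D), ∃ σ ∈ q.primeCompl, ℓ c = σ • β := by
      intro β hβ
      obtain ⟨d, hd, σ, hσ, e⟩ := hF β hβ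
      refine ⟨⟨μ • (⟨d, hd⟩ : ↥D), smul_mem_locSub hμm _⟩, μ * σ,
        q.primeCompl.mul_mem hμq hσ, ?_⟩
      change lam (a * b) q ht (μ • d) = _
      rw [map_smul, e, smul_smul]
    haveI hn : (nOf r hlift).IsPrime := nOf_isPrime hq.symm hker hlift
    obtain ⟨e, hLa⟩ := hFa (nOf r hlift) hn
    obtain ⟨f, hLb⟩ := hFb (nOf r hlift) hn
    obtain ⟨cπ, σπ, hσπ, hcπ⟩ := hlift F.π₃ F.mem
    rw [← IsScalarTower.algebraMap_apply A (Localization.AtPrime q)
      (FractionRing (Localization.AtPrime q))] at hLa hLb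
    obtain ⟨x, s', hx, hs', e1⟩ := exists_fac_of_LA hq.symm hker hlift hLa hσπ hcπ
    obtain ⟨y, t', hy, ht', e2⟩ := exists_fac_of_LA hq.symm hker hlift hLb hσπ hcπ
    exact ⟨cπ, x, s', y, t', e, f, hx, hs', hy, ht', e1, e2⟩

end global

end Groth.Agent.Lib.helper2.Key
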