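import Mathlib
import Groth.Agent.Lib.Helper2.Key14

/-!
# Key lemma, part 15: localising a finite algebra at a prime of the base: the fibre over the
prime, the local rings, finiteness (helper2)
-/

set_option autoImplicit false
universe u v

namespace Groth.Agent.Lib.helper2.Key

open IsLocalRing CycAlg Groth.Agent.Lib.helper2.Tame

section locgeomP

variable {A : Type u} [CommRing A] (C : Type u) [CommRing C] [Algebra A C] [Module.Finite A C]
  (q : Ideal A) [q.IsPrime]

/-- the localisation of `C` at the image of the complement of `q` -/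
abbrev LocP : Type u := Localization (Algebra.algebraMapSubmonoid C q.primeCompl)

variable {C}

theorem comap_comap_eqP (n : Ideal (LocP C q)) [n.IsMaximal] :
    (n.comap (algebraMap C (LocP C q))).comap (algebraMap A C) = q := by
  haveI : Algebra.IsIntegral (Localization.AtPrime q) (LocP C q) :=
    Algebra.IsIntegral.of_finite _ _
  have h1 : n.comap (algebraMap (Localization.AtPrime q) (LocP C q)) =
      maximalIdeal (Localization.AtPrime q) :=
    IsLocalRing.eq_maximalIdeal (Ideal.isMaximal_comap_of_isIntegral_of_isMaximal n)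
  rw [Ideal.comap_comap, ← IsScalarTower.algebraMap_eq A C (LocP C q),
    IsScalarTower.algebraMap_eq A (Localization.AtPrime q) (LocP C q), ← Ideal.comap_comap, h1]
  exact IsLocalization.AtPrime.under_maximalIdeal (Localization.AtPrime q) q

/-- the prime of `C` under a maximal ideal of the localisation -/
def fibP (n : MaximalSpectrum (LocP C q)) : PrimeSpectrum C :=
  ⟨n.asIdeal.comap (algebraMap C (LocP C q)), by
    haveI := n.isMaximal
    exact Ideal.comap_isPrime _ _⟩

theorem fibP_comap (n : MaximalSpectrum (LocP C q)) :
    (fibP q n).asIdeal.comap (algebraMap A C) = q := by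
  haveI := n.isMaximal
  exact comap_comap_eqP q n.asIdeal

theorem fibP_injective : Function.Injective (fibP (C := C) q) := by
  intro n n' h
  have h1 : (fibP q n).asIdeal = (fibP q n').asIdeal := congrArg _ h
  apply MaximalSpectrum.ext
  rw [← IsLocalization.map_under (Algebra.algebraMapSubmonoid C q.primeCompl) (LocP C q) n.asIdeal,
    ← IsLocalization.map_under (Algebra.algebraMapSubmonoid C q.primeCompl) (LocP C q) n'.asIdeal]
  exact congrArg _ h1

theorem exists_fibP_eq (r : PrimeSpectrum C) (h : r.asIdeal.comap (algebraMap A C) = q) :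
    ∃ n : MaximalSpectrum (LocP C q), fibP q n = r := by
  haveI := r.2
  haveI : Algebra.IsIntegral (Localization.AtPrime q) (LocP C q) :=
    Algebra.IsIntegral.of_finite _ _
  have hdisj : Disjoint (Algebra.algebraMapSubmonoid C q.primeCompl : Set C) r.asIdeal := by
    rw [Set.disjoint_left]
    rintro _ ⟨t, ht, rfl⟩ hmem
    apply ht
    rw [← h]
    exact hmem
  have hprime : (r.asIdeal.map (algebraMap C (LocP C q))).IsPrime :=
    IsLocalization.isPrime_of_isPrime_disjoint _ _ _ inferInstance hdisj
  have hcomap : (r.asIdeal.map (algebraMap C (LocP C q))).comap (algebraMap C (LocP C q)) =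
      r.asIdeal :=
    IsLocalization.under_map_of_isPrime_disjoint _ _ inferInstance hdisj
  -- the contraction to `A_q` is the maximal ideal
  set P := r.asIdeal.map (algebraMap C (LocP C q)) with hP
  have h2 : (P.comap (algebraMap (Localization.AtPrime q) (LocP C q))).comap
      (algebraMap A (Localization.AtPrime q)) = q := by
    rw [Ideal.comap_comap, ← IsScalarTower.algebraMap_eq A (Localization.AtPrime q) (LocP C q),
      IsScalarTower.algebraMap_eq A C (LocP C q), ← Ideal.comap_comap, hcomap, h]
  have h3 : P.comap (algebraMap (Localization.AtPrime q) (LocP C q)) =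
      maximalIdeal (Localization.AtPrime q) := by
    rw [← IsLocalization.map_under q.primeCompl (Localization.AtPrime q)
      (P.comap (algebraMap (Localization.AtPrime q) (LocP C q))), Ideal.under_def, h2]
    exact Localization.AtPrime.map_eq_maximalIdeal
  have hmax : P.IsMaximal := by
    apply Ideal.isMaximal_of_isIntegral_of_isMaximal_comap (R := Localization.AtPrime q)
    rw [h3]
    infer_instance
  exact ⟨⟨P, hmax⟩, PrimeSpectrum.ext hcomap⟩

/-- the local ring of the localisation at `n` is the local ring of `C` at `fibP n` -/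
noncomputable def locEquivP (n : MaximalSpectrum (LocP C q)) :
    Localization.AtPrime (fibP q n).asIdeal ≃ₐ[C] Localization.AtPrime n.asIdeal :=
  haveI := n.isMaximal
  haveI : IsLocalization.AtPrime (Localization.AtPrime n.asIdeal) (fibP q n).asIdeal :=
    IsLocalization.isLocalization_isLocalization_atPrime_isLocalization
      (Algebra.algebraMapSubmonoid C q.primeCompl) (Localization.AtPrime n.asIdeal) n.asIdeal
  IsLocalization.algEquiv (fibP q n).asIdeal.primeCompl _ _

end locgeomP

section finextP

variable {A : Type u} [CommRing A] [IsNoetherianRing A] {C : Type u} [CommRing C] [Algebra A C]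
  [Module.Finite A C] (q : Ideal A) [q.IsPrime]

theorem isFinExt_locP (hinj : Function.Injective (algebraMap A C)) {t : A} (htq : t ∈ q) (N : ℕ)
    (hN : ∀ c : C, ∃ x : A, algebraMap A C x = t ^ N • c)
    [Ring.KrullDimLE 1 (Localization.AtPrime q)]
    (hreg : algebraMap A (Localization.AtPrime q) t ∈ nonZeroDivisors (Localization.AtPrime q)) :
    IsFinExt (Localization.AtPrime q) (LocP C q) (maximalIdeal (Localization.AtPrime q)) := by
  haveI : IsNoetherianRing (Localization.AtPrime q) :=
    IsLocalization.isNoetherianRing q.primeCompl _ inferInstance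
  refine ⟨localizationAlgebra_injective _ _ hinj, inferInstance, ?_⟩
  obtain ⟨M, hM⟩ := exists_pow_maximalIdeal_le_span (Localization.AtPrime q) (pow_mem hreg N)
  refine ⟨M, fun r hr x => ?_⟩
  obtain ⟨s, hs⟩ := Ideal.mem_span_singleton.1 (hM hr)
  obtain ⟨c, ⟨_, τ, hτ, rfl⟩, rfl⟩ :=
    IsLocalization.exists_mk'_eq (Algebra.algebraMapSubmonoid C q.primeCompl) x
  obtain ⟨x₀, hx₀⟩ := hN c
  refine ⟨s * IsLocalization.mk' (Localization.AtPrime q) x₀ (⟨τ, hτ⟩ : q.primeCompl), ?_⟩
  have e1 := IsLocalization.algebraMap_mk' C (Localization.AtPrime q) (LocP C q) x₀ ⟨τ, hτ⟩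
  have e2 : algebraMap A C x₀ = algebraMap A C (t ^ N) * c := by rw [hx₀, Algebra.smul_def]
  have e3 : algebraMap (Localization.AtPrime q) (LocP C q)
      (algebraMap A (Localization.AtPrime q) t ^ N) =
      algebraMap C (LocP C q) (algebraMap A C (t ^ N)) := by
    rw [← map_pow, ← IsScalarTower.algebraMap_apply A (Localization.AtPrime q) (LocP C q),
      IsScalarTower.algebraMap_apply A C (LocP C q)]
  rw [Algebra.smul_def r, hs, map_mul, map_mul, e1, e2, e3,
    ← IsLocalization.mul_mk'_eq_mk'_of_mul]
  ring

theorem notMem_ass_locP {t : A} (htq : t ∈ q) (hreg : algebraMap A C t ∈ nonZeroDivisors C) :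
    maximalIdeal (Localization.AtPrime q) ∉ associatedPrimes (Localization.AtPrime q) (LocP C q) := by
  haveI : IsNoetherianRing (Localization.AtPrime q) :=
    IsLocalization.isNoetherianRing q.primeCompl _ inferInstance
  intro hmem
  have ht' : algebraMap A (Localization.AtPrime q) t ∈ maximalIdeal (Localization.AtPrime q) := by
    rw [← Localization.AtPrime.map_eq_maximalIdeal]
    exact Ideal.mem_map_of_mem _ htq
  have h1 : algebraMap A (Localization.AtPrime q) t ∈
      ⋃ p ∈ associatedPrimes (Localization.AtPrime q) (LocP C q), (p : Set _) :=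
    Set.mem_biUnion hmem ht'
  rw [biUnion_associatedPrimes_eq_zero_divisors] at h1
  obtain ⟨x, hx0, hx⟩ := h1
  apply hx0
  have hreg' : algebraMap C (LocP C q) (algebraMap A C t) ∈ nonZeroDivisors (LocP C q) :=
    IsLocalization.map_nonZeroDivisors_le (Algebra.algebraMapSubmonoid C q.primeCompl) _
      ⟨_, hreg, rfl⟩
  apply (mem_nonZeroDivisors_iff_right.1 hreg') x
  rw [Algebra.smul_def, ← IsScalarTower.algebraMap_apply A (Localization.AtPrime q) (LocP C q),
    IsScalarTower.algebraMap_apply A C (LocP C q)] at hx
  rw [mul_comm]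
  exact hx

end finextP

end Groth.Agent.Lib.helper2.Key
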