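import Groth.Agent.Lib.Helper2.SemiLocal2
import Groth.Agent.Lib.Helper2.NormOrd1
import Groth.Agent.S14503
import Groth.Agent.Lib.Helper15.HerbLen
import Groth.Agent.Lib.Helper16.SecOrd2

/-!
# Orders of norms: local algebra (helper2)

For a one-dimensional Noetherian local domain `A` with fraction field `K`, a finite injective
domain extension `C` with fraction field `L`, the maximal ideals `𝔪 i` of `C` and models `O i` of
the localizations `C_{𝔪 i}`:
`∑ i, ord_{O i}(f) · [κ(O i) : κ(A)] = ord_A(N_{L/K} f)` for `f ∈ L^*`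
(`sum_ordFrac_eq_ordFrac_norm`).
-/

set_option autoImplicit false
universe u w

namespace Groth.Agent.Lib.helper2.NormOrd

open IsLocalRing Groth.Agent.Lib.helper2.SemiLocal

section

variable (A : Type u) [CommRing A] [IsDomain A] [IsNoetherianRing A] [IsLocalRing A]
  (hA : ringKrullDim A = 1)
  (C : Type u) [CommRing C] [IsDomain C] [Algebra A C]
  (hinj : Function.Injective (algebraMap A C)) [Module.Finite A C]
  (K L : Type u) [Field K] [Field L] [Algebra A K] [IsFractionRing A K] [Algebra C L]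
  [IsFractionRing C L] [Algebra K L] [Algebra A L] [IsScalarTower A C L] [IsScalarTower A K L]
  {ι : Type w} [Fintype ι] (𝔪 : ι → Ideal C) [∀ i, (𝔪 i).IsMaximal]
  (h𝔪inj : Function.Injective 𝔪) (h𝔪surj : ∀ I : Ideal C, I.IsMaximal → ∃ i, 𝔪 i = I)
  (O : ι → Type u) [∀ i, CommRing (O i)] [∀ i, IsLocalRing (O i)]
  [∀ i, Algebra C (O i)] [∀ i, IsLocalization.AtPrime (O i) (𝔪 i)]
  [∀ i, Algebra A (O i)] [∀ i, IsScalarTower A C (O i)]
  [∀ i, IsLocalHom (algebraMap A (O i))]
  [∀ i, Algebra (O i) L] [∀ i, IsScalarTower C (O i) L]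

include hA hinj h𝔪inj h𝔪surj K L in
theorem length_quot_eq_sum (r : C) (hr : r ≠ 0) :
    ((Module.length A (C ⧸ Ideal.span {r})).toNat : ℤ) =
      ∑ i, ((Module.length (O i) (O i ⧸ Ideal.span {algebraMap C (O i) r})).toNat : ℤ) *
        (Module.finrank (ResidueField A) (ResidueField (O i)) : ℤ) := by
  haveI : FaithfulSMul A C := (faithfulSMul_iff_algebraMap_injective A C).mpr hinj
  haveI : Algebra.IsIntegral A C := inferInstance
  haveI : Algebra.IsAlgebraic A C := inferInstance
  haveI : IsLocalization (Algebra.algebraMapSubmonoid C (nonZeroDivisors A)) L := inferInstance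
  haveI : FiniteDimensional K L := Module.Finite.of_isLocalization A C (nonZeroDivisors A)
  have hfin := (Groth.Agent.S14503.result A hA C hinj K L r hr).1
  haveI : Algebra.IsIntegral A C := inferInstance
  have hFL : IsFiniteLength C (C ⧸ Ideal.span {r}) := by
    have h1 : IsFiniteLength A (C ⧸ Ideal.span {r}) := Module.length_ne_top_iff.mp hfin.ne
    rw [isFiniteLength_iff_isNoetherian_isArtinian] at h1 ⊢
    exact ⟨isNoetherian_of_tower A h1.1, isArtinian_of_tower A h1.2⟩
  have key := length_eq_sum_semilocal A C 𝔪 h𝔪inj h𝔪surj O (C ⧸ Ideal.span {r}) hFL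
    (fun i => O i ⧸ (Ideal.span {r}).localized' (O i) (𝔪 i).primeCompl
      (Algebra.linearMap C (O i)))
    (fun i => (Ideal.span {r}).toLocalizedQuotient' (O i) (𝔪 i).primeCompl
      (Algebra.linearMap C (O i)))
  have hterm : ∀ i, Module.length (O i) (O i ⧸ (Ideal.span {r}).localized' (O i)
      (𝔪 i).primeCompl (Algebra.linearMap C (O i))) =
      Module.length (O i) (O i ⧸ Ideal.span {algebraMap C (O i) r}) := by
    intro i
    have e : (Ideal.span {r}).localized' (O i) (𝔪 i).primeCompl (Algebra.linearMap C (O i)) =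
        Ideal.span {algebraMap C (O i) r} := by
      rw [Ideal.localized'_eq_map, Ideal.map_span, Set.image_singleton]
    exact (Submodule.quotEquivOfEq _ _ e).length_eq
  simp only [hterm] at key
  have hne : ∀ i ∈ Finset.univ, Module.length (O i) (O i ⧸ Ideal.span {algebraMap C (O i) r}) *
      Module.length (ResidueField A) (ResidueField (O i)) ≠ ⊤ := by
    rw [← ENat.sum_ne_top, ← key]
    exact hfin.ne
  rw [key, ENat.toNat_sum hne, Nat.cast_sum]
  refine Finset.sum_congr rfl fun i _ => ?_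
  rw [ENat.toNat_mul, Nat.cast_mul, Module.length_eq_rank]
  rfl

include hA hinj h𝔪inj h𝔪surj in
theorem sum_ordFrac_algebraMap_eq (r : C) (hr : r ≠ 0) :
    ∑ i, CycAlg.ordFrac (O i) L (algebraMap C L r) *
        (Module.finrank (ResidueField A) (ResidueField (O i)) : ℤ) =
      CycAlg.ordFrac A K (Algebra.norm K (algebraMap C L r)) := by
  haveI : FaithfulSMul A C := (faithfulSMul_iff_algebraMap_injective A C).mpr hinj
  haveI : Algebra.IsIntegral A C := inferInstance
  haveI : Algebra.IsAlgebraic A C := inferInstance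
  haveI : IsLocalization (Algebra.algebraMapSubmonoid C (nonZeroDivisors A)) L := inferInstance
  haveI : FiniteDimensional K L := Module.Finite.of_isLocalization A C (nonZeroDivisors A)
  rw [← (Groth.Agent.S14503.result A hA C hinj K L r hr).2,
    length_quot_eq_sum A hA C hinj K L 𝔪 h𝔪inj h𝔪surj O r hr]
  refine Finset.sum_congr rfl fun i _ => ?_
  congr 1
  haveI : IsDomain (O i) := IsLocalization.isDomain_of_atPrime (O i) (𝔪 i)
  haveI : IsNoetherianRing C := isNoetherian_of_tower A
    (isNoetherian_of_isNoetherianRing_of_finite A C)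
  haveI : IsNoetherianRing (O i) :=
    IsLocalization.isNoetherianRing (𝔪 i).primeCompl (O i) inferInstance
  haveI : Ring.KrullDimLE 1 A := Ring.krullDimLE_iff.mpr hA.le
  haveI : Ring.KrullDimLE 1 C := krullDimLE_one_of_isIntegral A C
  haveI : Ring.KrullDimLE 1 (O i) := krullDimLE_one_of_isLocalization C (𝔪 i).primeCompl (O i)
  haveI : IsFractionRing (O i) L :=
    IsFractionRing.isFractionRing_of_isDomain_of_isLocalization (𝔪 i).primeCompl (O i) L
  have hri : algebraMap C (O i) r ≠ 0 := by
    rw [Ne, IsLocalization.to_map_eq_zero_iff (O i) (𝔪 i).primeCompl_le_nonZeroDivisors]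
    exact hr
  rw [IsScalarTower.algebraMap_apply C (O i) L r,
    Groth.Agent.Lib.helper15.HerbLen.ordFrac_algebraMap (O i) L hri]
  rfl

include hA hinj h𝔪inj h𝔪surj in
/-- `∑ i, ord_{O i}(f) · [κ(O i) : κ(A)] = ord_A(N_{L/K} f)`. -/
theorem sum_ordFrac_eq_ordFrac_norm (f : L) (hf : f ≠ 0) :
    ∑ i, CycAlg.ordFrac (O i) L f *
        (Module.finrank (ResidueField A) (ResidueField (O i)) : ℤ) =
      CycAlg.ordFrac A K (Algebra.norm K f) := by
  haveI : FaithfulSMul A C := (faithfulSMul_iff_algebraMap_injective A C).mpr hinj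
  haveI : Algebra.IsIntegral A C := inferInstance
  haveI : Algebra.IsAlgebraic A C := inferInstance
  haveI : IsLocalization (Algebra.algebraMapSubmonoid C (nonZeroDivisors A)) L := inferInstance
  haveI : FiniteDimensional K L := Module.Finite.of_isLocalization A C (nonZeroDivisors A)
  obtain ⟨a, b, hb, hab⟩ := IsFractionRing.div_surjective (A := C) f
  have hb0 : b ≠ 0 := nonZeroDivisors.ne_zero hb
  have ha0 : a ≠ 0 := by
    rintro rfl
    apply hf
    rw [← hab, map_zero, zero_div]
  have ha' : algebraMap C L a ≠ 0 := by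
    rwa [Ne, IsFractionRing.to_map_eq_zero_iff]
  have hb' : algebraMap C L b ≠ 0 := by
    rwa [Ne, IsFractionRing.to_map_eq_zero_iff]
  have hNa : Algebra.norm K (algebraMap C L a) ≠ 0 := Algebra.norm_ne_zero_iff.mpr ha'
  have hNb : Algebra.norm K (algebraMap C L b) ≠ 0 := Algebra.norm_ne_zero_iff.mpr hb'
  have hinv : Algebra.norm K (algebraMap C L b)⁻¹ = (Algebra.norm K (algebraMap C L b))⁻¹ := by
    apply eq_inv_of_mul_eq_one_left
    rw [← map_mul, inv_mul_cancel₀ hb', map_one]
  rw [← hab, div_eq_mul_inv, map_mul, hinv,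
    Groth.Agent.Lib.helper16.SecOrd.ordFrac_mul' A K hNa (inv_ne_zero hNb),
    Groth.Agent.Lib.helper16.SecOrd.ordFrac_inv' A K hNb,
    ← sum_ordFrac_algebraMap_eq A hA C hinj K L 𝔪 h𝔪inj h𝔪surj O a ha0,
    ← sum_ordFrac_algebraMap_eq A hA C hinj K L 𝔪 h𝔪inj h𝔪surj O b hb0,
    ← sub_eq_add_neg, ← Finset.sum_sub_distrib]
  refine Finset.sum_congr rfl fun i _ => ?_
  rw [Groth.Agent.Lib.helper16.SecOrd.ordFrac_mul' (O i) L ha' (inv_ne_zero hb'),
    Groth.Agent.Lib.helper16.SecOrd.ordFrac_inv' (O i) L hb']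
  ring

end

end Groth.Agent.Lib.helper2.NormOrd
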