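import Mathlib
import Groth.Agent.Lib.Helper2.Key15
import Groth.Agent.Lib.Helper2.NormOrd2

/-!
# Key lemma, part 16: orders of norms along a finite local extension with trivial residue
extension; orders of products; the tame symbol and ring isomorphisms (helper2)
-/

set_option autoImplicit false
universe u v

namespace Groth.Agent.Lib.helper2.Key

open IsLocalRing CycAlg Groth.Agent.Lib.helper2.Tame
open Groth.Agent.Lib.helper16.SecOrd

section selfloc

variable (R : Type u) [CommRing R] [IsLocalRing R]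

theorem isLocalization_maximalIdeal : IsLocalization.AtPrime R (maximalIdeal R) := by
  apply IsLocalization.of_le_isUnit
  intro s hs
  have : s ∉ maximalIdeal R := hs
  rwa [mem_maximalIdeal, mem_nonunits_iff, not_not] at this

end selfloc

section gamma

variable (R₁ : Type u) [CommRing R₁] [IsDomain R₁] [IsNoetherianRing R₁] [IsLocalRing R₁]
  (h₁ : ringKrullDim R₁ = 1)
  (R₂ : Type u) [CommRing R₂] [IsDomain R₂] [IsLocalRing R₂] [Algebra R₁ R₂]
  (hinj : Function.Injective (algebraMap R₁ R₂)) [Module.Finite R₁ R₂]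
  (hres : Function.Surjective ((residue R₂).comp (algebraMap R₁ R₂)))
  (k₁ k₂ : Type u) [Field k₁] [Field k₂] [Algebra R₁ k₁] [IsFractionRing R₁ k₁] [Algebra R₂ k₂]
  [IsFractionRing R₂ k₂] [Algebra k₁ k₂] [Algebra R₁ k₂] [IsScalarTower R₁ R₂ k₂]
  [IsScalarTower R₁ k₁ k₂]

include h₁ hinj hres in
/-- `ord_{R₁}(N(f)) = ord_{R₂}(f)` for a finite local extension with trivial residue extension -/
theorem ordFrac_norm_eq (f : k₂) (hf : f ≠ 0) :
    CycAlg.ordFrac R₁ k₁ (Algebra.norm k₁ f) = CycAlg.ordFrac R₂ k₂ f := by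
  haveI := isLocalization_maximalIdeal R₂
  haveI : Algebra.IsIntegral R₁ R₂ := Algebra.IsIntegral.of_finite R₁ R₂
  haveI hloc : IsLocalHom (algebraMap R₁ R₂) :=
    Groth.Agent.Lib.helper2.NormOrd.isLocalHom_of_isIntegral_atPrime R₁ R₂ (maximalIdeal R₂) R₂
  have key := Groth.Agent.Lib.helper2.NormOrd.sum_ordFrac_eq_ordFrac_norm R₁ h₁ R₂ hinj k₁ k₂
    (ι := Unit) (fun _ => maximalIdeal R₂) (fun _ _ _ => rfl)
    (fun I hI => ⟨(), (IsLocalRing.eq_maximalIdeal hI).symm⟩) (fun _ => R₂) f hf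
  rw [← key]
  simp only [Finset.univ_unique, Finset.sum_singleton]
  have hfr : Module.finrank (ResidueField R₁) (ResidueField R₂) = 1 := by
    rw [finrank_eq_one_iff_of_nonzero' (1 : ResidueField R₂) one_ne_zero]
    intro w
    obtain ⟨v, hv⟩ := hres w
    refine ⟨residue R₁ v, ?_⟩
    rw [Algebra.smul_def, mul_one, ResidueField.algebraMap_residue]
    exact hv
  rw [hfr]
  simp

end gamma

section prod

variable (R : Type u) [CommRing R] (K : Type u) [Field K] [Algebra R K]

theorem ordFrac_prod {ι : Type*} (s : Finset ι) (g : ι → K) (hg : ∀ i ∈ s, g i ≠ 0) :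
    CycAlg.ordFrac R K (∏ i ∈ s, g i) = ∑ i ∈ s, CycAlg.ordFrac R K (g i) := by
  classical
  induction s using Finset.induction_on with
  | empty => simp [ordFrac_one']
  | insert i s hi ih =>
    rw [Finset.prod_insert hi, Finset.sum_insert hi,
      ordFrac_mul' R K (hg i (Finset.mem_insert_self i s))
        (Finset.prod_ne_zero_iff.2 fun j hj => hg j (Finset.mem_insert_of_mem hj)),
      ih fun j hj => hg j (Finset.mem_insert_of_mem hj)]

end prod

section equiv

variable {P P' : Type u} [CommRing P] [CommRing P'] [IsLocalRing P] [IsLocalRing P']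

theorem theta_ringEquiv (ε : P ≃+* P') (u₁ u₂ : Pˣ) (e₁ e₂ : ℕ) :
    theta P' (Units.map (ε : P →* P') u₁) (Units.map (ε : P →* P') u₂) e₁ e₂ =
      ResidueField.mapEquiv ε (theta P u₁ u₂ e₁ e₂) := by
  unfold theta
  rw [map_mul, map_mul, map_pow, map_pow, map_inv₀, map_pow, map_neg, map_one]
  rfl

/-- the tame symbol is compatible with ring isomorphisms (when the elements factor) -/
theorem tameSymbol_ringEquiv_of_fac [IsNoetherianRing P] (ε : P ≃+* P')
    (hP : ringKrullDim P = 1) {a₁ a₂ π : P} {u₁ u₂ : Pˣ} {e₁ e₂ : ℕ}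
    (ha₁ : a₁ ∈ nonZeroDivisors P) (ha₂ : a₂ ∈ nonZeroDivisors P) (hπ : π ∈ nonZeroDivisors P)
    (h₁ : a₁ = u₁ * π ^ e₁) (h₂ : a₂ = u₂ * π ^ e₂) :
    tameSymbol P' (ε a₁) (ε a₂) = ResidueField.mapEquiv ε (tameSymbol P a₁ a₂) := by
  haveI : IsNoetherianRing P' := isNoetherianRing_of_ringEquiv P ε
  have hP' : ringKrullDim P' = 1 := (ringKrullDim_eq_of_ringEquiv ε).symm.trans hP
  have hmem : ∀ z : P, z ∈ nonZeroDivisors P → ε z ∈ nonZeroDivisors P' := by
    intro z hz
    rw [← MulEquivClass.map_nonZeroDivisors ε]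
    exact Submonoid.mem_map_of_mem _ hz
  have h₁' : ε a₁ = ((Units.map (ε : P →* P') u₁ : P'ˣ) : P') * ε π ^ e₁ := by
    rw [h₁, map_mul, map_pow]
    rfl
  have h₂' : ε a₂ = ((Units.map (ε : P →* P') u₂ : P'ˣ) : P') * ε π ^ e₂ := by
    rw [h₂, map_mul, map_pow]
    rfl
  rw [tameSymbol_eq_of_fac hP' (hmem _ ha₁) (hmem _ ha₂) (hmem _ hπ) h₁' h₂',
    tameSymbol_eq_of_fac hP ha₁ ha₂ hπ h₁ h₂, theta_ringEquiv, map_pow,
    Groth.Agent.Lib.helper16.CycOpen.ord_ringEquiv ε π]

end equiv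

end Groth.Agent.Lib.helper2.Key
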