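import Mathlib
import Groth.Agent.Lib.Helper2.Key16

/-!
# Key lemma, part 17: the order of the norm of a tame symbol upstairs (helper2)
-/

set_option autoImplicit false
universe u v

namespace Groth.Agent.Lib.helper2.Key

open IsLocalRing CycAlg Groth.Agent.Lib.helper2.Tame

section pern

variable {A : Type u} [CommRing A] [IsNoetherianRing A] [IsLocalRing A]
  {C : Type u} [CommRing C] [IsLocalRing C] [Algebra A C] [Module.Finite A C]
  (q : Ideal A) [q.IsPrime] (r : Ideal C) [r.IsPrime] [r.LiesOver q]
  {P' : Type u} [CommRing P'] [IsLocalRing P'] [Algebra C P']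
  [Algebra (Localization.AtPrime q) P'] [Algebra A P'] [IsScalarTower A C P']
  [IsScalarTower A (Localization.AtPrime q) P']
  [IsLocalHom (algebraMap (Localization.AtPrime q) P')]
  (ε : Localization.AtPrime r ≃ₐ[C] P')

theorem residue_surjective_quot (hres : Function.Surjective ((residue C).comp (algebraMap A C)))
    [IsLocalRing (A ⧸ q)] [IsLocalRing (C ⧸ r)] :
    Function.Surjective ((residue (C ⧸ r)).comp (algebraMap (A ⧸ q) (C ⧸ r))) := by
  intro w
  obtain ⟨c', rfl⟩ := residue_surjective w
  obtain ⟨c, rfl⟩ := Ideal.Quotient.mk_surjective c'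
  obtain ⟨a₀, ha₀⟩ := hres (residue C c)
  refine ⟨Ideal.Quotient.mk q a₀, ?_⟩
  rw [RingHom.comp_apply, Ideal.Quotient.algebraMap_mk_of_liesOver, ← sub_eq_zero, ← map_sub,
    ← map_sub, residue_eq_zero_iff]
  have h1 : algebraMap A C a₀ - c ∈ maximalIdeal C := by
    rw [← residue_eq_zero_iff, map_sub, sub_eq_zero]
    exact ha₀
  haveI := IsLocalHom.of_surjective (Ideal.Quotient.mk r) Ideal.Quotient.mk_surjective
  rw [mem_maximalIdeal, mem_nonunits_iff] at h1 ⊢
  intro hu
  exact h1 (isUnit_of_map_unit (Ideal.Quotient.mk r) _ hu)

include ε in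
theorem ordFrac_norm_tame_eq (hq1 : ringKrullDim (A ⧸ q) = 1)
    (hres : Function.Surjective ((residue C).comp (algebraMap A C)))
    (hP : ringKrullDim (Localization.AtPrime r) = 1)
    {a b : A} {π : Localization.AtPrime r} {u₁ u₂ : (Localization.AtPrime r)ˣ} {e₁ e₂ : ℕ}
    (ha : algebraMap C (Localization.AtPrime r) (algebraMap A C a) ∈
      nonZeroDivisors (Localization.AtPrime r))
    (hb : algebraMap C (Localization.AtPrime r) (algebraMap A C b) ∈
      nonZeroDivisors (Localization.AtPrime r))
    (hπ : π ∈ nonZeroDivisors (Localization.AtPrime r))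
    (h₁ : algebraMap C (Localization.AtPrime r) (algebraMap A C a) =
      (u₁ : Localization.AtPrime r) * π ^ e₁)
    (h₂ : algebraMap C (Localization.AtPrime r) (algebraMap A C b) =
      (u₂ : Localization.AtPrime r) * π ^ e₂) :
    CycAlg.ordFrac (A ⧸ q) q.ResidueField (Algebra.norm q.ResidueField
      (tameSymbol P' (algebraMap (Localization.AtPrime q) P' (algebraMap A (Localization.AtPrime q) a))
        (algebraMap (Localization.AtPrime q) P' (algebraMap A (Localization.AtPrime q) b)))) =
    CycAlg.ordFrac (C ⧸ r) r.ResidueField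
      (tameSymbol (Localization.AtPrime r) (algebraMap C (Localization.AtPrime r) (algebraMap A C a))
        (algebraMap C (Localization.AtPrime r) (algebraMap A C b))) := by
  classical
  haveI : IsNoetherianRing C :=
    isNoetherian_of_tower A (isNoetherian_of_isNoetherianRing_of_finite A C)
  haveI : IsNoetherianRing (Localization.AtPrime r) :=
    IsLocalization.isNoetherianRing r.primeCompl _ inferInstance
  have hq : q = r.comap (algebraMap A C) := r.over_def q
  letI algP : Algebra (Localization.AtPrime q) (Localization.AtPrime r) :=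
    (Localization.localRingHom q r (algebraMap A C) hq).toAlgebra
  haveI : IsLocalHom (algebraMap (Localization.AtPrime q) (Localization.AtPrime r)) :=
    Localization.isLocalHom_localRingHom q r _ hq
  have hmap : ∀ x : A, algebraMap (Localization.AtPrime q) (Localization.AtPrime r)
      (algebraMap A (Localization.AtPrime q) x) =
      algebraMap C (Localization.AtPrime r) (algebraMap A C x) :=
    fun x => Localization.localRingHom_to_map q r _ hq x
  have hcomm : ∀ y : Localization.AtPrime q,
      (ε : Localization.AtPrime r ≃+* P')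
        (algebraMap (Localization.AtPrime q) (Localization.AtPrime r) y) =
        algebraMap (Localization.AtPrime q) P' y := by
    intro y
    have h0 : ((ε : Localization.AtPrime r ≃+* P') : Localization.AtPrime r →+* P').comp
        (algebraMap (Localization.AtPrime q) (Localization.AtPrime r)) =
        algebraMap (Localization.AtPrime q) P' := by
      apply IsLocalization.ringHom_ext q.primeCompl
      ext x
      simp only [RingHom.comp_apply]
      rw [hmap x]
      change ε (algebraMap C (Localization.AtPrime r) (algebraMap A C x)) = _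
      rw [ε.commutes, ← IsScalarTower.algebraMap_apply A C P',
        IsScalarTower.algebraMap_apply A (Localization.AtPrime q) P']
    exact RingHom.congr_fun h0 y
  let εq : Localization.AtPrime r ≃ₐ[Localization.AtPrime q] P' :=
    AlgEquiv.ofRingEquiv (f := (ε : Localization.AtPrime r ≃+* P')) hcomm
  have hstar : ∀ x : A, (ε : Localization.AtPrime r ≃+* P')
      (algebraMap C (Localization.AtPrime r) (algebraMap A C x)) =
      algebraMap (Localization.AtPrime q) P' (algebraMap A (Localization.AtPrime q) x) := by
    intro x
    rw [← hmap x]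
    exact hcomm _
  have h2 : tameSymbol P' (algebraMap (Localization.AtPrime q) P' (algebraMap A (Localization.AtPrime q) a))
      (algebraMap (Localization.AtPrime q) P' (algebraMap A (Localization.AtPrime q) b)) =
      resEquiv εq (tameSymbol (Localization.AtPrime r) (algebraMap C (Localization.AtPrime r) (algebraMap A C a))
        (algebraMap C (Localization.AtPrime r) (algebraMap A C b))) := by
    rw [← hstar a, ← hstar b]
    exact tameSymbol_ringEquiv_of_fac (ε : Localization.AtPrime r ≃+* P') hP ha hb hπ h₁ h₂
  rw [h2, Algebra.norm_eq_of_algEquiv (resEquiv εq)]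
  have hz : tameSymbol (Localization.AtPrime r) (algebraMap C (Localization.AtPrime r) (algebraMap A C a))
      (algebraMap C (Localization.AtPrime r) (algebraMap A C b)) ≠ 0 := tame_ne_zero _ hP _ _ ha hb
  haveI : Nontrivial (A ⧸ q) := Ideal.Quotient.nontrivial_iff.2 Ideal.IsPrime.ne_top'
  haveI : IsLocalRing (A ⧸ q) :=
    IsLocalRing.of_surjective' (Ideal.Quotient.mk q) Ideal.Quotient.mk_surjective
  haveI : Nontrivial (C ⧸ r) := Ideal.Quotient.nontrivial_iff.2 Ideal.IsPrime.ne_top'
  haveI : IsLocalRing (C ⧸ r) :=
    IsLocalRing.of_surjective' (Ideal.Quotient.mk r) Ideal.Quotient.mk_surjective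
  letI : Algebra (A ⧸ q) r.ResidueField :=
    ((algebraMap (C ⧸ r) r.ResidueField).comp (algebraMap (A ⧸ q) (C ⧸ r))).toAlgebra
  haveI : IsScalarTower (A ⧸ q) (C ⧸ r) r.ResidueField :=
    IsScalarTower.of_algebraMap_eq fun _ => rfl
  haveI : IsScalarTower (A ⧸ q) q.ResidueField r.ResidueField :=
    IsScalarTower.of_algebraMap_eq (by
      intro x
      obtain ⟨x, rfl⟩ := Ideal.Quotient.mk_surjective x
      change algebraMap (C ⧸ r) r.ResidueField
          (algebraMap (A ⧸ q) (C ⧸ r) (Ideal.Quotient.mk q x)) =
        algebraMap q.ResidueField r.ResidueField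
          (algebraMap (A ⧸ q) q.ResidueField (Ideal.Quotient.mk q x))
      rw [Ideal.Quotient.algebraMap_mk_of_liesOver, Ideal.algebraMap_quotient_residueField_mk,
        Ideal.algebraMap_quotient_residueField_mk,
        IsScalarTower.algebraMap_apply A (Localization.AtPrime q) q.ResidueField,
        IsScalarTower.algebraMap_apply C (Localization.AtPrime r) r.ResidueField,
        ResidueField.algebraMap_eq, ResidueField.algebraMap_eq, ResidueField.algebraMap_residue,
        hmap])
  have hinj' : Function.Injective (algebraMap (A ⧸ q) (C ⧸ r)) :=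
    FaithfulSMul.algebraMap_injective _ _
  exact ordFrac_norm_eq (A ⧸ q) hq1 (C ⧸ r) hinj' (residue_surjective_quot q r hres)
    q.ResidueField r.ResidueField _ hz

end pern

end Groth.Agent.Lib.helper2.Key
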