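import Mathlib
import Groth.Agent.Lib.Helper2.Key17
import Groth.Agent.Lib.Helper24.RegUnram1

/-!
# Key lemma, part 18: the local term downstairs is the sum of the local terms upstairs (helper2)
-/

set_option autoImplicit false
universe u v

namespace Groth.Agent.Lib.helper2.Key

open IsLocalRing CycAlg Groth.Agent.Lib.helper2.Tame

section small

variable {R : Type u} [CommRing R]

theorem local_fac_of_global {r : Ideal R} [r.IsPrime] {a p x s' : R} {e : ℕ} (hx : x ∉ r)
    (hs' : s' ∉ r) (h : s' * a = x * p ^ e) :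
    ∃ u : (Localization.AtPrime r)ˣ, algebraMap R (Localization.AtPrime r) a =
      (u : Localization.AtPrime r) * algebraMap R (Localization.AtPrime r) p ^ e := by
  have hxu : IsUnit (algebraMap R (Localization.AtPrime r) x) :=
    IsLocalization.map_units _ (⟨x, hx⟩ : r.primeCompl)
  have hsu : IsUnit (algebraMap R (Localization.AtPrime r) s') :=
    IsLocalization.map_units _ (⟨s', hs'⟩ : r.primeCompl)
  have h' := congrArg (algebraMap R (Localization.AtPrime r)) h
  rw [map_mul, map_mul, map_pow] at h'
  exact ⟨hxu.unit * hsu.unit⁻¹, eq_units_mul_of_mul_eq hsu hxu h'⟩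

theorem pos_of_fac {r : Ideal R} [hr : r.IsPrime] {a b p x s' y t' : R} {e f : ℕ} (hx : x ∉ r)
    (hy : y ∉ r) (h₁ : s' * a = x * p ^ e) (h₂ : t' * b = y * p ^ f) (hab : a * b ∈ r) :
    0 < e + f := by
  by_contra hcon
  have he : e = 0 := by omega
  have hf : f = 0 := by omega
  subst he hf
  rw [pow_zero, mul_one] at h₁ h₂
  have h3 : x * y ∈ r := by
    have : x * y = s' * t' * (a * b) := by rw [← h₁, ← h₂]; ring
    rw [this]
    exact Ideal.mul_mem_left _ _ hab
  rcases hr.mem_or_mem h3 with h | h
  · exact hx h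
  · exact hy h

theorem ringKrullDim_quot_eq_one [IsLocalRing R] {q : Ideal R} [q.IsPrime] (hV : TwoPrimes q)
    (hqm : q ≠ maximalIdeal R) : ringKrullDim (R ⧸ q) = 1 := by
  have h_le : ringKrullDim (R ⧸ q) ≤ 1 := Ring.krullDimLE_iff.1 (krullDimLE_one_quot hV)
  have h_ge : ¬ ringKrullDim (R ⧸ q) ≤ 0 := by
    intro h
    haveI : Ring.KrullDimLE 0 (R ⧸ q) := Ring.krullDimLE_iff.2 h
    have hf : IsField (R ⧸ q) := Ring.KrullDimLE.isField_of_isDomain
    have hmax : q.IsMaximal := Ideal.Quotient.maximal_of_isField q hf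
    exact hqm (IsLocalRing.eq_maximalIdeal hmax)
  exact le_antisymm h_le (Order.succ_le_of_lt (lt_of_not_ge h_ge))

theorem field_norm_ne_zero {K L : Type*} [Field K] [Field L] [Algebra K L] [Module.Finite K L]
    {x : L} (hx : x ≠ 0) : Algebra.norm K x ≠ 0 :=
  Algebra.norm_ne_zero_iff.2 hx

theorem finprod_ne_zero' {ι : Type*} {K : Type*} [Field K] (f : ι → K) (hf : ∀ i, f i ≠ 0) :
    ∏ᶠ i, f i ≠ 0 := by
  classical
  by_cases h : (Function.mulSupport f).Finite
  · rw [finprod_eq_prod _ h]
    exact Finset.prod_ne_zero_iff.2 fun i _ => hf i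
  · rw [finprod_of_infinite_mulSupport h]
    exact one_ne_zero

/-- the tame symbol never vanishes -/
theorem tameSymbol_ne_zero' (O : Type u) [CommRing O] [IsLocalRing O] (a b : O) :
    tameSymbol O a b ≠ 0 := by
  unfold tameSymbol
  split_ifs with h
  · unfold TameData.value
    apply finprod_ne_zero'
    intro q
    rw [localFactor_eq_lf]
    exact @lf_ne_zero O _ _ (Localization.AtPrime q.asIdeal) _ _ _
      ((Classical.choice h).isLocalHom q) _ _ _ _ _
  · exact one_ne_zero

end small

section transfer

variable {A : Type u} [CommRing A] [IsNoetherianRing A] [IsLocalRing A]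
  {C : Type u} [CommRing C] [IsLocalRing C] [Algebra A C] [Module.Finite A C]

theorem isScalarTower_locP (q : Ideal A) [q.IsPrime] :
    IsScalarTower A (Localization.AtPrime q) (LocP C q) := by
  refine IsScalarTower.of_algebraMap_eq fun a => ?_
  rw [← IsScalarTower.algebraMap_apply A (Localization.AtPrime q) (LocP C q)]

theorem ringKrullDim_of_finite (hA : ringKrullDim A = 2)
    (hinj : Function.Injective (algebraMap A C)) : ringKrullDim C = 2 := by
  haveI : Algebra.IsIntegral A C := Algebra.IsIntegral.of_finite A C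
  rw [← Groth.Agent.Lib.Helper24.RegUnram.ringKrullDim_eq_of_isIntegral_of_injective
    (algebraMap A C) (algebraMap_isIntegral_iff.2 inferInstance) hinj]
  exact hA

theorem ne_maximalIdeal_of_comap {r : Ideal C} [r.IsPrime] {q : Ideal A}
    (hq : r.comap (algebraMap A C) = q) (hqm : q ≠ maximalIdeal A) : r ≠ maximalIdeal C := by
  haveI : Algebra.IsIntegral A C := Algebra.IsIntegral.of_finite A C
  rintro rfl
  apply hqm
  rw [← hq]
  exact IsLocalRing.eq_maximalIdeal
    (Ideal.isMaximal_comap_of_isIntegral_of_isMaximal (maximalIdeal C))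

open Classical in
/-- **the transfer identity** -/
theorem term_eq_sum_fibre (hA : ringKrullDim A = 2)
    (hinj : Function.Injective (algebraMap A C))
    (hres : Function.Surjective ((residue C).comp (algebraMap A C)))
    {a b : A} (ha : a ∈ nonZeroDivisors A) (hb : b ∈ nonZeroDivisors A)
    (N : ℕ) (hN : ∀ c : C, ∃ x : A, algebraMap A C x = (a * b) ^ N • c)
    (hreg : algebraMap A C (a * b) ∈ nonZeroDivisors C)
    (hfac : ∀ (r : Ideal C) [r.IsPrime], r ≠ maximalIdeal C → algebraMap A C (a * b) ∈ r →
      ∃ (p x s' y t' : C) (e f : ℕ), x ∉ r ∧ s' ∉ r ∧ y ∉ r ∧ t' ∉ r ∧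
        s' * algebraMap A C a = x * p ^ e ∧ t' * algebraMap A C b = y * p ^ f)
    (q : PrimeSpectrum A) (hq : q.asIdeal.height = 1) (htq : a * b ∈ q.asIdeal)
    (S : Finset (PrimeSpectrum C))
    (hS : ∀ r : PrimeSpectrum C, r.asIdeal.comap (algebraMap A C) = q.asIdeal → r ∈ S) :
    term a b q = ∑ r ∈ S.filter (fun r => r.asIdeal.comap (algebraMap A C) = q.asIdeal),
      term (algebraMap A C a) (algebraMap A C b) r := by
  haveI : IsNoetherianRing C :=
    isNoetherian_of_tower A (isNoetherian_of_isNoetherianRing_of_finite A C)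
  have hC : ringKrullDim C = 2 := ringKrullDim_of_finite hA hinj
  have hdim : ringKrullDim (Localization.AtPrime q.asIdeal) = 1 :=
    ringKrullDim_atPrime_of_height hq
  haveI : Ring.KrullDimLE 1 (Localization.AtPrime q.asIdeal) := Ring.krullDimLE_iff.2 hdim.le
  haveI : IsNoetherianRing (Localization.AtPrime q.asIdeal) :=
    IsLocalization.isNoetherianRing q.asIdeal.primeCompl _ inferInstance
  have hab : a * b ∈ nonZeroDivisors A := mul_mem ha hb
  have hqm : q.asIdeal ≠ maximalIdeal A := ne_maximalIdeal_of_height hA hq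
  have hV : TwoPrimes q.asIdeal := twoPrimes_of_height hA hq
  have hq1 : ringKrullDim (A ⧸ q.asIdeal) = 1 := ringKrullDim_quot_eq_one hV hqm
  have hregO : algebraMap A (Localization.AtPrime q.asIdeal) (a * b) ∈
      nonZeroDivisors (Localization.AtPrime q.asIdeal) :=
    IsLocalization.map_nonZeroDivisors_le q.asIdeal.primeCompl _ ⟨_, hab, rfl⟩
  have haO : algebraMap A (Localization.AtPrime q.asIdeal) a ∈
      nonZeroDivisors (Localization.AtPrime q.asIdeal) :=
    IsLocalization.map_nonZeroDivisors_le q.asIdeal.primeCompl _ ⟨_, ha, rfl⟩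
  have hbO : algebraMap A (Localization.AtPrime q.asIdeal) b ∈
      nonZeroDivisors (Localization.AtPrime q.asIdeal) :=
    IsLocalization.map_nonZeroDivisors_le q.asIdeal.primeCompl _ ⟨_, hb, rfl⟩
  have hfe := isFinExt_locP (C := C) q.asIdeal hinj htq N hN hregO
  have hass := notMem_ass_locP (C := C) q.asIdeal htq hreg
  haveI : Algebra.IsIntegral (Localization.AtPrime q.asIdeal) (LocP C q.asIdeal) :=
    Algebra.IsIntegral.of_finite _ _
  haveI hloc : ∀ n : MaximalSpectrum (LocP C q.asIdeal),
      IsLocalHom (algebraMap (Localization.AtPrime q.asIdeal)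
        (Localization.AtPrime n.asIdeal)) := fun n => by
    haveI := n.isMaximal
    exact Groth.Agent.Lib.helper2.NormOrd.isLocalHom_of_isIntegral_atPrime
      (Localization.AtPrime q.asIdeal) (LocP C q.asIdeal) n.asIdeal
      (Localization.AtPrime n.asIdeal)
  have hnf := norm_formula hdim hfe hass (algebraMap A _ a) (algebraMap A _ b) haO hbO
  haveI := finite_maximalSpectrum (Localization.AtPrime q.asIdeal) (LocP C q.asIdeal)
  haveI := Fintype.ofFinite (MaximalSpectrum (LocP C q.asIdeal))
  have haC : algebraMap A C a ∈ nonZeroDivisors C := by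
    rw [map_mul] at hreg
    exact (mul_mem_nonZeroDivisors.1 hreg).1
  have hbC : algebraMap A C b ∈ nonZeroDivisors C := by
    rw [map_mul] at hreg
    exact (mul_mem_nonZeroDivisors.1 hreg).2
  -- the per-`n` identity
  have hper : ∀ n : MaximalSpectrum (LocP C q.asIdeal),
      CycAlg.ordFrac (A ⧸ q.asIdeal) q.asIdeal.ResidueField
        (Algebra.norm q.asIdeal.ResidueField
          (tameSymbol (Localization.AtPrime n.asIdeal)
            (algebraMap (Localization.AtPrime q.asIdeal) (Localization.AtPrime n.asIdeal)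
              (algebraMap A (Localization.AtPrime q.asIdeal) a))
            (algebraMap (Localization.AtPrime q.asIdeal) (Localization.AtPrime n.asIdeal)
              (algebraMap A (Localization.AtPrime q.asIdeal) b)))) =
      term (algebraMap A C a) (algebraMap A C b) (fibP q.asIdeal n) := by
    intro n
    haveI hrp : (fibP q.asIdeal n).asIdeal.IsPrime := (fibP q.asIdeal n).2
    haveI : (fibP q.asIdeal n).asIdeal.LiesOver q.asIdeal := ⟨(fibP_comap q.asIdeal n).symm⟩
    have hrm : (fibP q.asIdeal n).asIdeal ≠ maximalIdeal C :=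
      ne_maximalIdeal_of_comap (fibP_comap q.asIdeal n) hqm
    have hmem : algebraMap A C (a * b) ∈ (fibP q.asIdeal n).asIdeal := by
      have : a * b ∈ (fibP q.asIdeal n).asIdeal.comap (algebraMap A C) := by
        rw [fibP_comap]
        exact htq
      exact this
    obtain ⟨p, x, s', y, t', e, f, hx, hs', hy, ht', h₁, h₂⟩ :=
      hfac (fibP q.asIdeal n).asIdeal hrm hmem
    have hn : 0 < e + f := by
      rw [map_mul] at hmem
      exact pos_of_fac hx hy h₁ h₂ hmem
    obtain ⟨u₁, f₁⟩ := local_fac_of_global hx hs' h₁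
    obtain ⟨u₂, f₂⟩ := local_fac_of_global hy ht' h₂
    have hP : ringKrullDim (Localization.AtPrime (fibP q.asIdeal n).asIdeal) = 1 :=
      ringKrullDim_atPrime_of_height (height_eq_one_of_nzd hC hrm hreg hmem)
    have haP : algebraMap C (Localization.AtPrime (fibP q.asIdeal n).asIdeal)
        (algebraMap A C a) ∈ nonZeroDivisors _ :=
      IsLocalization.map_nonZeroDivisors_le (fibP q.asIdeal n).asIdeal.primeCompl _ ⟨_, haC, rfl⟩
    have hbP : algebraMap C (Localization.AtPrime (fibP q.asIdeal n).asIdeal)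
        (algebraMap A C b) ∈ nonZeroDivisors _ :=
      IsLocalization.map_nonZeroDivisors_le (fibP q.asIdeal n).asIdeal.primeCompl _ ⟨_, hbC, rfl⟩
    have hπ : algebraMap C (Localization.AtPrime (fibP q.asIdeal n).asIdeal) p ∈
        nonZeroDivisors _ := by
      rcases Nat.eq_zero_or_pos e with he | he
      · have hf : 0 < f := by omega
        exact nzd_of_pow_mul hf (f₂ ▸ hbP)
      · exact nzd_of_pow_mul he (f₁ ▸ haP)
    haveI : IsScalarTower A (Localization.AtPrime q.asIdeal) (LocP C q.asIdeal) :=
      isScalarTower_locP q.asIdeal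
    haveI : IsScalarTower A (Localization.AtPrime q.asIdeal) (Localization.AtPrime n.asIdeal) := by
      refine IsScalarTower.of_algebraMap_eq fun z => ?_
      rw [IsScalarTower.algebraMap_apply (Localization.AtPrime q.asIdeal) (LocP C q.asIdeal)
          (Localization.AtPrime n.asIdeal),
        ← IsScalarTower.algebraMap_apply A (Localization.AtPrime q.asIdeal) (LocP C q.asIdeal),
        ← IsScalarTower.algebraMap_apply A (LocP C q.asIdeal) (Localization.AtPrime n.asIdeal)]
    exact ordFrac_norm_tame_eq q.asIdeal (fibP q.asIdeal n).asIdeal (locEquivP q.asIdeal n)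
      hq1 hres hP haP hbP hπ f₁ f₂
  unfold term
  rw [hnf, finprod_eq_prod_of_fintype, ordFrac_prod]
  · refine Finset.sum_bij (fun n _ => fibP q.asIdeal n) ?_ ?_ ?_ ?_
    · intro n _
      rw [Finset.mem_filter]
      exact ⟨hS _ (fibP_comap q.asIdeal n), fibP_comap q.asIdeal n⟩
    · intro n _ n' _ h
      exact fibP_injective q.asIdeal h
    · intro r hr
      rw [Finset.mem_filter] at hr
      obtain ⟨n, hn⟩ := exists_fibP_eq q.asIdeal r hr.2
      exact ⟨n, Finset.mem_univ _, hn⟩
    · intro n _
      exact hper n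
  · intro n _
    haveI := finite_residueField (Localization.AtPrime q.asIdeal) n
    exact field_norm_ne_zero (tameSymbol_ne_zero' _ _ _)

end transfer

end Groth.Agent.Lib.helper2.Key
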