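import Mathlib
import Groth.Agent.Lib.Helper2.Key18

/-!
# Key lemma, part 19: the key lemma for nonzerodivisors of a two-dimensional Noetherian local
ring (helper2)
-/

set_option autoImplicit false
universe u v

namespace Groth.Agent.Lib.helper2.Key

open IsLocalRing CycAlg Groth.Agent.Lib.helper2.Tame

section final

variable {A : Type u} [CommRing A] [IsNoetherianRing A] [IsLocalRing A]

theorem finsum_height_eq_sum (hA : ringKrullDim A = 2) {a b : A}
    (hab : a * b ∈ nonZeroDivisors A) :
    ∑ᶠ (q : PrimeSpectrum A) (_ : q.asIdeal.height = 1), term a b q =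
      ∑ q ∈ (finite_height_one hA hab).toFinset, term a b q := by
  classical
  have h1 : ∑ᶠ (q : PrimeSpectrum A) (_ : q.asIdeal.height = 1), term a b q =
      ∑ᶠ q ∈ {q : PrimeSpectrum A | q.asIdeal.height = 1 ∧ a * b ∈ q.asIdeal}, term a b q := by
    apply finsum_congr
    intro q
    rw [finsum_eq_if, finsum_eq_if]
    by_cases hq : q.asIdeal.height = 1
    · by_cases hq2 : a * b ∈ q.asIdeal
      · rw [if_pos hq, if_pos (show q ∈ {q : PrimeSpectrum A | q.asIdeal.height = 1 ∧
          a * b ∈ q.asIdeal} from ⟨hq, hq2⟩)]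
      · rw [if_pos hq, if_neg (show q ∉ {q : PrimeSpectrum A | q.asIdeal.height = 1 ∧
          a * b ∈ q.asIdeal} from fun h => hq2 h.2), term_eq_zero_of_notMem q hq hq2]
    · rw [if_neg hq, if_neg (show q ∉ {q : PrimeSpectrum A | q.asIdeal.height = 1 ∧
          a * b ∈ q.asIdeal} from fun h => hq h.1)]
  rw [h1, finsum_mem_eq_finite_toFinset_sum _ (finite_height_one hA hab)]

/-- **the key lemma** -/
theorem key_lemma (hA : ringKrullDim A = 2) {a b : A} (ha : a ∈ nonZeroDivisors A)
    (hb : b ∈ nonZeroDivisors A) :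
    ∑ᶠ (q : PrimeSpectrum A) (_ : q.asIdeal.height = 1), term a b q = 0 := by
  classical
  obtain ⟨C, _, _, _, hfin, hinj, hres, ⟨N, hN⟩, hreg, hfac⟩ := exists_glue hA ha hb
  haveI := hfin
  haveI : IsNoetherianRing C :=
    isNoetherian_of_tower A (isNoetherian_of_isNoetherianRing_of_finite A C)
  have hC : ringKrullDim C = 2 := ringKrullDim_of_finite hA hinj
  have hab : a * b ∈ nonZeroDivisors A := mul_mem ha hb
  have hreg' : algebraMap A C a * algebraMap A C b ∈ nonZeroDivisors C := by
    rw [← map_mul]
    exact hreg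
  have haC : algebraMap A C a ∈ nonZeroDivisors C := (mul_mem_nonZeroDivisors.1 hreg').1
  have hbC : algebraMap A C b ∈ nonZeroDivisors C := (mul_mem_nonZeroDivisors.1 hreg').2
  have keyC : ∑ᶠ (r : PrimeSpectrum C) (_ : r.asIdeal.height = 1),
      term (algebraMap A C a) (algebraMap A C b) r = 0 := by
    apply key_of_fac hC haC hbC
    intro r _ hrm hmem
    rw [← map_mul] at hmem
    exact hfac r hrm hmem
  rw [finsum_height_eq_sum hC hreg'] at keyC
  rw [finsum_height_eq_sum hA hab]
  set TA := (finite_height_one hA hab).toFinset with hTA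
  set TC := (finite_height_one hC hreg').toFinset with hTC
  have memTA : ∀ q : PrimeSpectrum A, q ∈ TA ↔ q.asIdeal.height = 1 ∧ a * b ∈ q.asIdeal :=
    fun q => (finite_height_one hA hab).mem_toFinset
  have memTC : ∀ r : PrimeSpectrum C, r ∈ TC ↔ r.asIdeal.height = 1 ∧
      algebraMap A C a * algebraMap A C b ∈ r.asIdeal :=
    fun r => (finite_height_one hC hreg').mem_toFinset
  let g : PrimeSpectrum C → PrimeSpectrum A :=
    fun r => ⟨r.asIdeal.comap (algebraMap A C), Ideal.comap_isPrime _ _⟩
  have htr : ∀ q ∈ TA, term a b q =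
      ∑ r ∈ TC.filter (fun r => g r = q), term (algebraMap A C a) (algebraMap A C b) r := by
    intro q hqT
    obtain ⟨hq1, hq2⟩ := (memTA q).1 hqT
    have := term_eq_sum_fibre hA hinj hres ha hb N hN hreg hfac q hq1 hq2 TC (by
      intro r hr
      rw [memTC]
      have hrm : r.asIdeal ≠ maximalIdeal C :=
        ne_maximalIdeal_of_comap hr (ne_maximalIdeal_of_height hA hq1)
      have hmem : algebraMap A C (a * b) ∈ r.asIdeal := by
        have : a * b ∈ r.asIdeal.comap (algebraMap A C) := hr ▸ hq2
        exact this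
      refine ⟨height_eq_one_of_nzd hC hrm hreg hmem, ?_⟩
      rw [← map_mul]
      exact hmem)
    rw [this]
    apply Finset.sum_congr _ (fun _ _ => rfl)
    apply Finset.filter_congr
    intro r _
    constructor
    · intro h
      exact PrimeSpectrum.ext h
    · intro h
      exact congrArg PrimeSpectrum.asIdeal h
  have hmaps : ∀ r ∈ TC, g r ∈ TA := by
    intro r hr
    obtain ⟨hr1, hr2⟩ := (memTC r).1 hr
    rw [memTA]
    have hmem : a * b ∈ (g r).asIdeal := by
      change algebraMap A C (a * b) ∈ r.asIdeal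
      rw [map_mul]
      exact hr2
    have hgm : (g r).asIdeal ≠ maximalIdeal A := by
      intro h
      haveI : Algebra.IsIntegral A C := Algebra.IsIntegral.of_finite A C
      have hmax : r.asIdeal.IsMaximal :=
        Ideal.isMaximal_of_isIntegral_of_isMaximal_comap (R := A) r.asIdeal (by
          change (g r).asIdeal.IsMaximal
          rw [h]
          infer_instance)
      exact ne_maximalIdeal_of_height hC hr1 (IsLocalRing.eq_maximalIdeal hmax)
    exact ⟨height_eq_one_of_nzd hA hgm hab hmem, hmem⟩
  have hfw := Finset.sum_fiberwise_of_maps_to (s := TC) (t := TA) (g := g) hmaps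
    (fun r => term (algebraMap A C a) (algebraMap A C b) r)
  rw [Finset.sum_congr rfl htr]
  refine Eq.trans ?_ keyC
  convert hfw

end final

end Groth.Agent.Lib.helper2.Key
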