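import Mathlib
import Groth.Agent.Lib.Helper2.Key16
import Groth.Agent.Lib.Helper2.Tame17

/-!
# Symmetry of `c₁`, part 1: the tame symbol is invariant under ring isomorphisms (helper2)
-/

set_option autoImplicit false
universe u

namespace Groth.Agent.Lib.helper2.Sym

open IsLocalRing CycAlg Groth.Agent.Lib.helper2.Tame

section lfequiv

variable {O O' P : Type u} [CommRing O] [CommRing O'] [CommRing P] [IsLocalRing O]
  [IsLocalRing O'] [IsLocalRing P] [Algebra O P] [Algebra O' P] [IsLocalHom (algebraMap O P)]
  [IsLocalHom (algebraMap O' P)]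

theorem lf_base_equiv (ε : O ≃+* O') (h : ∀ x, algebraMap O' P (ε x) = algebraMap O P x)
    (π : P) (u₁ u₂ : Pˣ) (e₁ e₂ : ℕ) :
    lf O' P π u₁ u₂ e₁ e₂ = ResidueField.mapEquiv ε (lf O P π u₁ u₂ e₁ e₂) := by
  unfold lf
  rw [map_pow]
  congr 1
  symm
  apply Algebra.norm_eq_of_ringEquiv (ResidueField.mapEquiv ε) ?_ (theta P u₁ u₂ e₁ e₂)
  ext x
  obtain ⟨x, rfl⟩ := residue_surjective x
  simp only [RingHom.coe_comp, RingHom.coe_coe, Function.comp_apply]
  rw [ResidueField.algebraMap_residue]
  have : ResidueField.mapEquiv ε (residue O x) = residue O' (ε x) := rfl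
  rw [this, ResidueField.algebraMap_residue, h]

end lfequiv

section transport

variable {O O' : Type u} [CommRing O] [CommRing O'] [IsLocalRing O] [IsLocalRing O']

/-- transport of tame data along a ring isomorphism of the base -/
noncomputable def transport (ε : O ≃+* O') {a₁ a₂ : O} (D : TameData O a₁ a₂) :
    TameData O' (ε a₁) (ε a₂) :=
  letI alg : Algebra O' D.B := ((algebraMap O D.B).comp (ε.symm : O' →+* O)).toAlgebra
  have hmap : ∀ (q : MaximalSpectrum D.B) (x : O),
      algebraMap O' (Localization.AtPrime q.asIdeal) (ε x) =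
        algebraMap O (Localization.AtPrime q.asIdeal) x := by
    intro q x
    rw [IsScalarTower.algebraMap_apply O' D.B (Localization.AtPrime q.asIdeal),
      IsScalarTower.algebraMap_apply O D.B (Localization.AtPrime q.asIdeal),
      RingHom.algebraMap_toAlgebra]
    simp
  { B := D.B
    commRing := D.commRing
    algebra := alg
    isFinExt := by
      obtain ⟨h1, h2, n, h3⟩ := D.isFinExt
      refine ⟨?_, ?_, n, ?_⟩
      · rw [RingHom.algebraMap_toAlgebra]
        exact h1.comp ε.symm.injective
      · letI : Algebra O' O := (ε.symm : O' →+* O).toAlgebra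
        haveI : IsScalarTower O' O D.B := IsScalarTower.of_algebraMap_eq' rfl
        haveI : Module.Finite O' O :=
          Module.Finite.of_surjective (Algebra.linearMap O' O) ε.symm.surjective
        exact Module.Finite.trans O D.B
      · intro r hr b
        have hr' : ε.symm r ∈ maximalIdeal O ^ n := by
          have : maximalIdeal O' ^ n ≤ (maximalIdeal O ^ n).comap (ε.symm : O' →+* O) := by
            rw [← Ideal.map_le_iff_le_comap, Ideal.map_pow]
            apply Ideal.pow_right_mono
            rw [Ideal.map_le_iff_le_comap]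
            intro z hz
            rw [Ideal.mem_comap, mem_maximalIdeal, mem_nonunits_iff] at *
            intro hu
            apply hz
            have := hu.map (ε : O →+* O')
            simpa using this
          exact this hr
        obtain ⟨y, hy⟩ := h3 _ hr' b
        refine ⟨ε y, ?_⟩
        rw [RingHom.algebraMap_toAlgebra]
        simp only [RingHom.coe_comp, RingHom.coe_coe, Function.comp_apply,
          RingEquiv.symm_apply_apply]
        rw [hy]
        rw [Algebra.smul_def, Algebra.smul_def, RingHom.algebraMap_toAlgebra]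
        rfl
    isLocalHom := by
      intro q
      haveI := D.isLocalHom q
      constructor
      intro a ha
      have h := hmap q (ε.symm a)
      rw [ε.apply_symm_apply] at h
      rw [h] at ha
      have := isUnit_of_map_unit (algebraMap O (Localization.AtPrime q.asIdeal)) _ ha
      have h2 := this.map (ε : O →+* O')
      simpa using h2
    π := D.π
    π_mem := D.π_mem
    u₁ := D.u₁
    u₂ := D.u₂
    e₁ := D.e₁
    e₂ := D.e₂
    fac₁ := fun q => (hmap q a₁).trans (D.fac₁ q)
    fac₂ := fun q => (hmap q a₂).trans (D.fac₂ q) }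

theorem transport_localFactor (ε : O ≃+* O') {a₁ a₂ : O} (D : TameData O a₁ a₂)
    (q : MaximalSpectrum D.B) :
    (transport ε D).localFactor q = ResidueField.mapEquiv ε (D.localFactor q) := by
  rw [localFactor_eq_lf, localFactor_eq_lf]
  letI alg : Algebra O' D.B := ((algebraMap O D.B).comp (ε.symm : O' →+* O)).toAlgebra
  haveI := D.isLocalHom q
  haveI hloc : IsLocalHom (algebraMap O' (Localization.AtPrime q.asIdeal)) :=
    (transport ε D).isLocalHom q
  have hmap : ∀ (x : O),
      algebraMap O' (Localization.AtPrime q.asIdeal) (ε x) =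
        algebraMap O (Localization.AtPrime q.asIdeal) x := by
    intro x
    rw [IsScalarTower.algebraMap_apply O' D.B (Localization.AtPrime q.asIdeal),
      IsScalarTower.algebraMap_apply O D.B (Localization.AtPrime q.asIdeal),
      RingHom.algebraMap_toAlgebra]
    simp
  exact lf_base_equiv (P := Localization.AtPrime q.asIdeal) ε hmap (D.π q) (D.u₁ q) (D.u₂ q)
    (D.e₁ q) (D.e₂ q)

theorem transport_value (ε : O ≃+* O') {a₁ a₂ : O} (D : TameData O a₁ a₂) :
    (transport ε D).value = ResidueField.mapEquiv ε D.value := by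
  unfold TameData.value
  have := MulEquiv.map_finprod (ResidueField.mapEquiv ε).toMulEquiv (fun q => D.localFactor q)
  refine Eq.trans ?_ this.symm
  apply finprod_congr
  intro q
  exact transport_localFactor ε D q

theorem nonempty_tameData [IsNoetherianRing O] (hO : ringKrullDim O = 1) {a₁ a₂ : O}
    (h₁ : a₁ ∈ nonZeroDivisors O) (h₂ : a₂ ∈ nonZeroDivisors O) :
    Nonempty (TameData O a₁ a₂) := by
  obtain ⟨F, hF⟩ := exists_frame (K := FractionRing O) hO ![a₁, a₂]
    (by intro i; fin_cases i <;> simpa)
  exact ⟨(F.glob (hF 0) (hF 1)).tame hO⟩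

/-- **the tame symbol is compatible with ring isomorphisms** -/
theorem tameSymbol_ringEquiv [IsNoetherianRing O] (ε : O ≃+* O') (hO : ringKrullDim O = 1)
    {a₁ a₂ : O} (h₁ : a₁ ∈ nonZeroDivisors O) (h₂ : a₂ ∈ nonZeroDivisors O) :
    tameSymbol O' (ε a₁) (ε a₂) = ResidueField.mapEquiv ε (tameSymbol O a₁ a₂) := by
  haveI : IsNoetherianRing O' := isNoetherianRing_of_ringEquiv O ε
  have hO' : ringKrullDim O' = 1 := (ringKrullDim_eq_of_ringEquiv ε).symm.trans hO
  have hmem : ∀ z : O, z ∈ nonZeroDivisors O → ε z ∈ nonZeroDivisors O' := by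
    intro z hz
    rw [← MulEquivClass.map_nonZeroDivisors ε]
    exact Submonoid.mem_map_of_mem _ hz
  obtain ⟨D⟩ := nonempty_tameData hO h₁ h₂
  have hne : Nonempty (TameData O a₁ a₂) := ⟨D⟩
  have hne' : Nonempty (TameData O' (ε a₁) (ε a₂)) := ⟨transport ε D⟩
  rw [tameSymbol, dif_pos hne', tameSymbol, dif_pos hne,
    value_eq_value hO' (hmem _ h₁) (hmem _ h₂) _ (transport ε (Classical.choice hne))]
  exact transport_value ε _

end transport

end Groth.Agent.Lib.helper2.Sym
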