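import Mathlib
import Groth.Agent.Lib.Helper2.Key19
import Groth.Agent.Lib.Helper2.Sym1

/-!
# Symmetry of `c₁`, part 2: the tame symbol on the fraction field (helper2)
-/

set_option autoImplicit false
universe u

namespace Groth.Agent.Lib.helper2.Sym

open IsLocalRing CycAlg Groth.Agent.Lib.helper2.Tame
open Groth.Agent.Lib.helper16.SecOrd Groth.Agent.Lib.helper15.HerbLen

section quad

variable (O : Type u) [CommRing O] [IsLocalRing O]

/-- the bimultiplicative combination `∂(x,z)∂(y,w)/(∂(x,w)∂(y,z))`, the symbol of `(x/y, z/w)` -/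
noncomputable def quad (x y z w : O) : ResidueField O :=
  tameSymbol O x z * tameSymbol O y w / (tameSymbol O x w * tameSymbol O y z)

variable {O} [IsNoetherianRing O] [IsDomain O] (hO : ringKrullDim O = 1)

include hO

theorem krullDimLE_one : Ring.KrullDimLE 1 O := by
  rw [Ring.krullDimLE_iff, hO]
  rfl

theorem T_ne_zero {x z : O} (hx : x ≠ 0) (hz : z ≠ 0) : tameSymbol O x z ≠ 0 :=
  tame_ne_zero O hO x z (mem_nonZeroDivisors_of_ne_zero hx) (mem_nonZeroDivisors_of_ne_zero hz)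

theorem T_mul_left {x x' z : O} (hx : x ≠ 0) (hx' : x' ≠ 0) (hz : z ≠ 0) :
    tameSymbol O (x * x') z = tameSymbol O x z * tameSymbol O x' z :=
  (tame_mul O hO x x' z (mem_nonZeroDivisors_of_ne_zero hx) (mem_nonZeroDivisors_of_ne_zero hx')
    (mem_nonZeroDivisors_of_ne_zero hz)).1

theorem T_mul_right {x x' z : O} (hx : x ≠ 0) (hx' : x' ≠ 0) (hz : z ≠ 0) :
    tameSymbol O z (x * x') = tameSymbol O z x * tameSymbol O z x' :=
  (tame_mul O hO x x' z (mem_nonZeroDivisors_of_ne_zero hx) (mem_nonZeroDivisors_of_ne_zero hx')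
    (mem_nonZeroDivisors_of_ne_zero hz)).2

theorem T_one_left {z : O} (hz : z ≠ 0) : tameSymbol O 1 z = 1 := by
  have h := T_mul_left hO (one_ne_zero (α := O)) one_ne_zero hz
  rw [one_mul] at h
  have h0 := T_ne_zero hO (one_ne_zero (α := O)) hz
  exact (mul_eq_left₀ h0).1 h.symm

theorem T_one_right {z : O} (hz : z ≠ 0) : tameSymbol O z 1 = 1 := by
  have h := T_mul_right hO (one_ne_zero (α := O)) one_ne_zero hz
  rw [one_mul] at h
  have h0 := T_ne_zero hO hz (one_ne_zero (α := O))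
  exact (mul_eq_left₀ h0).1 h.symm

theorem T_self {z : O} (hz : z ≠ 0) :
    tameSymbol O z z = (-1) ^ (Ring.ord O z).toNat :=
  tame_self O hO z (mem_nonZeroDivisors_of_ne_zero hz)

theorem T_antisymm {x z : O} (hx : x ≠ 0) (hz : z ≠ 0) :
    tameSymbol O x z * tameSymbol O z x = 1 := by
  haveI := krullDimLE_one hO
  have hxz : x * z ≠ 0 := mul_ne_zero hx hz
  have h1 := T_self hO hxz
  rw [T_mul_left hO hx hz hxz, T_mul_right hO hx hz hx, T_mul_right hO hx hz hz, T_self hO hx,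
    T_self hO hz] at h1
  have hord : (Ring.ord O (x * z)).toNat = (Ring.ord O x).toNat + (Ring.ord O z).toNat := by
    rw [Ring.ord_mul O (mem_nonZeroDivisors_of_ne_zero hz), ENat.toNat_add
      (Ring.ord_ne_top (mem_nonZeroDivisors_of_ne_zero hx))
      (Ring.ord_ne_top (mem_nonZeroDivisors_of_ne_zero hz))]
  rw [hord, pow_add] at h1
  have hne : ((-1 : ResidueField O) ^ (Ring.ord O x).toNat) ≠ 0 := pow_ne_zero _ (by simp)
  have hne' : ((-1 : ResidueField O) ^ (Ring.ord O z).toNat) ≠ 0 := pow_ne_zero _ (by simp)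
  have h2 : (-1 : ResidueField O) ^ (Ring.ord O x).toNat * (-1) ^ (Ring.ord O z).toNat *
      (tameSymbol O x z * tameSymbol O z x) =
      (-1 : ResidueField O) ^ (Ring.ord O x).toNat * (-1) ^ (Ring.ord O z).toNat := by
    linear_combination h1
  exact (mul_eq_left₀ (mul_ne_zero hne hne')).1 h2

theorem T_unit_left (ε : Oˣ) {z : O} (hz : z ≠ 0) :
    tameSymbol O (ε : O) z = residue O (ε : O) ^ (Ring.ord O z).toNat :=
  tame_unit O hO ε z (mem_nonZeroDivisors_of_ne_zero hz)

theorem quad_congr_left {x y x' y' z w : O} (hx : x ≠ 0) (hy : y ≠ 0) (hx' : x' ≠ 0)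
    (hy' : y' ≠ 0) (hz : z ≠ 0) (hw : w ≠ 0) (h : x * y' = x' * y) :
    quad O x y z w = quad O x' y' z w := by
  have e1 : tameSymbol O x z * tameSymbol O y' z = tameSymbol O x' z * tameSymbol O y z := by
    rw [← T_mul_left hO hx hy' hz, ← T_mul_left hO hx' hy hz, h]
  have e2 : tameSymbol O x w * tameSymbol O y' w = tameSymbol O x' w * tameSymbol O y w := by
    rw [← T_mul_left hO hx hy' hw, ← T_mul_left hO hx' hy hw, h]
  unfold quad
  rw [div_eq_div_iff (mul_ne_zero (T_ne_zero hO hx hw) (T_ne_zero hO hy hz))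
    (mul_ne_zero (T_ne_zero hO hx' hw) (T_ne_zero hO hy' hz))]
  linear_combination (tameSymbol O y w * tameSymbol O x' w) * e1 -
    (tameSymbol O x' z * tameSymbol O y z) * e2

theorem quad_congr_right {x y z w z' w' : O} (hx : x ≠ 0) (hy : y ≠ 0) (hz : z ≠ 0)
    (hw : w ≠ 0) (hz' : z' ≠ 0) (hw' : w' ≠ 0) (h : z * w' = z' * w) :
    quad O x y z w = quad O x y z' w' := by
  have e1 : tameSymbol O x z * tameSymbol O x w' = tameSymbol O x z' * tameSymbol O x w := by
    rw [← T_mul_right hO hz hw' hx, ← T_mul_right hO hz' hw hx, h]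
  have e2 : tameSymbol O y z * tameSymbol O y w' = tameSymbol O y z' * tameSymbol O y w := by
    rw [← T_mul_right hO hz hw' hy, ← T_mul_right hO hz' hw hy, h]
  unfold quad
  rw [div_eq_div_iff (mul_ne_zero (T_ne_zero hO hx hw) (T_ne_zero hO hy hz))
    (mul_ne_zero (T_ne_zero hO hx hw') (T_ne_zero hO hy hz'))]
  linear_combination (tameSymbol O y w * tameSymbol O y z') * e1 -
    (tameSymbol O x z' * tameSymbol O x w) * e2

theorem quad_ne_zero {x y z w : O} (hx : x ≠ 0) (hy : y ≠ 0) (hz : z ≠ 0) (hw : w ≠ 0) :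
    quad O x y z w ≠ 0 :=
  div_ne_zero (mul_ne_zero (T_ne_zero hO hx hz) (T_ne_zero hO hy hw))
    (mul_ne_zero (T_ne_zero hO hx hw) (T_ne_zero hO hy hz))

end quad

section frac

variable (O : Type u) [CommRing O] [IsLocalRing O] (K : Type u) [Field K] [Algebra O K]
  [IsFractionRing O K]

/-- the tame symbol of two elements of the fraction field -/
noncomputable def tameFrac (a b : K) : ResidueField O :=
  quad O (IsLocalization.sec (nonZeroDivisors O) a).1
    ((IsLocalization.sec (nonZeroDivisors O) a).2 : O)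
    (IsLocalization.sec (nonZeroDivisors O) b).1
    ((IsLocalization.sec (nonZeroDivisors O) b).2 : O)

variable {O K} [IsNoetherianRing O] [IsDomain O] (hO : ringKrullDim O = 1)

omit [IsLocalRing O] [IsNoetherianRing O] in
theorem sec_props {x y : O} (hx : x ≠ 0) (hy : y ≠ 0) :
    (IsLocalization.sec (nonZeroDivisors O) (algebraMap O K x / algebraMap O K y)).1 ≠ 0 ∧
    ((IsLocalization.sec (nonZeroDivisors O) (algebraMap O K x / algebraMap O K y)).2 : O) ≠ 0 ∧
    (IsLocalization.sec (nonZeroDivisors O) (algebraMap O K x / algebraMap O K y)).1 * y =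
      x * ((IsLocalization.sec (nonZeroDivisors O) (algebraMap O K x / algebraMap O K y)).2 : O) := by
  have hx' : algebraMap O K x ≠ 0 := by rwa [Ne, IsFractionRing.to_map_eq_zero_iff]
  have hy' : algebraMap O K y ≠ 0 := by rwa [Ne, IsFractionRing.to_map_eq_zero_iff]
  set a := algebraMap O K x / algebraMap O K y with ha
  have hsa := IsLocalization.sec_spec (nonZeroDivisors O) a
  have hda : ((IsLocalization.sec (nonZeroDivisors O) a).2 : O) ≠ 0 :=
    nonZeroDivisors.ne_zero (IsLocalization.sec (nonZeroDivisors O) a).2.2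
  have hda' : algebraMap O K ((IsLocalization.sec (nonZeroDivisors O) a).2 : O) ≠ 0 := by
    rwa [Ne, IsFractionRing.to_map_eq_zero_iff]
  refine ⟨?_, hda, ?_⟩
  · intro h0
    rw [h0, map_zero] at hsa
    rcases mul_eq_zero.1 hsa with h | h
    · exact div_ne_zero hx' hy' h
    · exact hda' h
  · apply IsFractionRing.injective O K
    rw [map_mul, map_mul, ← hsa, ha]
    field_simp

include hO

theorem tameFrac_eq {x y z w : O} (hx : x ≠ 0) (hy : y ≠ 0) (hz : z ≠ 0) (hw : w ≠ 0) :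
    tameFrac O K (algebraMap O K x / algebraMap O K y) (algebraMap O K z / algebraMap O K w) =
      quad O x y z w := by
  obtain ⟨h1, h2, h3⟩ := sec_props (K := K) hx hy
  obtain ⟨h4, h5, h6⟩ := sec_props (K := K) hz hw
  unfold tameFrac
  rw [quad_congr_left hO h1 h2 hx hy h4 h5 h3, quad_congr_right hO hx hy h4 h5 hz hw h6]

theorem quad_mul_left {x y x' y' z w : O} (hx : x ≠ 0) (hy : y ≠ 0) (hx' : x' ≠ 0)
    (hy' : y' ≠ 0) (hz : z ≠ 0) (hw : w ≠ 0) :
    quad O (x * x') (y * y') z w = quad O x y z w * quad O x' y' z w := by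
  unfold quad
  rw [T_mul_left hO hx hx' hz, T_mul_left hO hy hy' hw, T_mul_left hO hx hx' hw,
    T_mul_left hO hy hy' hz, div_mul_div_comm]
  congr 1 <;> ring

theorem quad_mul_right {x y z w z' w' : O} (hx : x ≠ 0) (hy : y ≠ 0) (hz : z ≠ 0)
    (hw : w ≠ 0) (hz' : z' ≠ 0) (hw' : w' ≠ 0) :
    quad O x y (z * z') (w * w') = quad O x y z w * quad O x y z' w' := by
  unfold quad
  rw [T_mul_right hO hz hz' hx, T_mul_right hO hw hw' hy, T_mul_right hO hw hw' hx,
    T_mul_right hO hz hz' hy, div_mul_div_comm]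
  congr 1 <;> ring

omit hO in
theorem exists_rep {a : K} (ha : a ≠ 0) :
    ∃ x y : O, x ≠ 0 ∧ y ≠ 0 ∧ a = algebraMap O K x / algebraMap O K y := by
  obtain ⟨x, y, hy, rfl⟩ := IsFractionRing.div_surjective (A := O) a
  have hy0 : y ≠ 0 := nonZeroDivisors.ne_zero hy
  refine ⟨x, y, ?_, hy0, rfl⟩
  rintro rfl
  simp at ha

theorem tameFrac_ne_zero {a b : K} (ha : a ≠ 0) (hb : b ≠ 0) : tameFrac O K a b ≠ 0 := by
  obtain ⟨x, y, hx, hy, rfl⟩ := exists_rep (O := O) ha
  obtain ⟨z, w, hz, hw, rfl⟩ := exists_rep (O := O) hb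
  rw [tameFrac_eq hO hx hy hz hw]
  exact quad_ne_zero hO hx hy hz hw

theorem tameFrac_mul_left {a a' b : K} (ha : a ≠ 0) (ha' : a' ≠ 0) (hb : b ≠ 0) :
    tameFrac O K (a * a') b = tameFrac O K a b * tameFrac O K a' b := by
  obtain ⟨x, y, hx, hy, rfl⟩ := exists_rep (O := O) ha
  obtain ⟨x', y', hx', hy', rfl⟩ := exists_rep (O := O) ha'
  obtain ⟨z, w, hz, hw, rfl⟩ := exists_rep (O := O) hb
  rw [div_mul_div_comm, ← map_mul, ← map_mul, tameFrac_eq hO (mul_ne_zero hx hx')
    (mul_ne_zero hy hy') hz hw, tameFrac_eq hO hx hy hz hw, tameFrac_eq hO hx' hy' hz hw,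
    quad_mul_left hO hx hy hx' hy' hz hw]

theorem tameFrac_mul_right {a b b' : K} (ha : a ≠ 0) (hb : b ≠ 0) (hb' : b' ≠ 0) :
    tameFrac O K a (b * b') = tameFrac O K a b * tameFrac O K a b' := by
  obtain ⟨x, y, hx, hy, rfl⟩ := exists_rep (O := O) ha
  obtain ⟨z, w, hz, hw, rfl⟩ := exists_rep (O := O) hb
  obtain ⟨z', w', hz', hw', rfl⟩ := exists_rep (O := O) hb'
  rw [div_mul_div_comm, ← map_mul, ← map_mul, tameFrac_eq hO hx hy (mul_ne_zero hz hz')
    (mul_ne_zero hw hw'), tameFrac_eq hO hx hy hz hw, tameFrac_eq hO hx hy hz' hw',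
    quad_mul_right hO hx hy hz hw hz' hw']

theorem tameFrac_algebraMap {x z : O} (hx : x ≠ 0) (hz : z ≠ 0) :
    tameFrac O K (algebraMap O K x) (algebraMap O K z) = tameSymbol O x z := by
  have h := tameFrac_eq (K := K) hO hx (one_ne_zero (α := O)) hz (one_ne_zero (α := O))
  rw [map_one, div_one, div_one] at h
  rw [h]
  unfold quad
  rw [T_one_left hO (one_ne_zero (α := O)), T_one_right hO hx, T_one_left hO hz]
  simp

theorem tameFrac_unit_left (ε : Oˣ) {b : K} (hb : b ≠ 0) :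
    tameFrac O K (algebraMap O K (ε : O)) b = residue O (ε : O) ^ (ordFrac O K b) := by
  haveI := krullDimLE_one hO
  obtain ⟨z, w, hz, hw, rfl⟩ := exists_rep (O := O) hb
  have h := tameFrac_eq (K := K) hO ε.ne_zero (one_ne_zero (α := O)) hz hw
  rw [map_one, div_one] at h
  rw [h, ordFrac_div O K hz hw]
  unfold quad
  rw [T_one_left hO hz, T_one_left hO hw, T_unit_left hO ε hz, T_unit_left hO ε hw, mul_one,
    mul_one]
  have hne : residue O (ε : O) ≠ 0 := by
    rw [Ne, residue_eq_zero_iff]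
    exact fun h => (mem_maximalIdeal _).1 h ε.isUnit
  rw [zpow_sub₀ hne, zpow_natCast, zpow_natCast]

theorem tameFrac_antisymm {a b : K} (ha : a ≠ 0) (hb : b ≠ 0) :
    tameFrac O K a b * tameFrac O K b a = 1 := by
  obtain ⟨x, y, hx, hy, rfl⟩ := exists_rep (O := O) ha
  obtain ⟨z, w, hz, hw, rfl⟩ := exists_rep (O := O) hb
  rw [tameFrac_eq hO hx hy hz hw, tameFrac_eq hO hz hw hx hy]
  unfold quad
  have e1 := T_antisymm hO hx hz
  have e2 := T_antisymm hO hy hw
  have e3 := T_antisymm hO hx hw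
  have e4 := T_antisymm hO hy hz
  rw [div_mul_div_comm, div_eq_one_iff_eq (mul_ne_zero (mul_ne_zero (T_ne_zero hO hx hw)
    (T_ne_zero hO hy hz)) (mul_ne_zero (T_ne_zero hO hz hy) (T_ne_zero hO hw hx)))]
  calc tameSymbol O x z * tameSymbol O y w * (tameSymbol O z x * tameSymbol O w y)
      = (tameSymbol O x z * tameSymbol O z x) * (tameSymbol O y w * tameSymbol O w y) := by ring
    _ = 1 := by rw [e1, e2, one_mul]
    _ = (tameSymbol O x w * tameSymbol O w x) * (tameSymbol O y z * tameSymbol O z y) := by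
        rw [e3, e4, one_mul]
    _ = _ := by ring

theorem tameFrac_unit_right (ε : Oˣ) {a : K} (ha : a ≠ 0) :
    tameFrac O K a (algebraMap O K (ε : O)) = residue O (ε : O) ^ (-(ordFrac O K a)) := by
  have hε : algebraMap O K (ε : O) ≠ 0 := by
    rw [Ne, IsFractionRing.to_map_eq_zero_iff]
    exact ε.ne_zero
  have h1 := tameFrac_antisymm hO ha hε
  rw [tameFrac_unit_left hO ε ha] at h1
  rw [zpow_neg]
  exact eq_inv_of_mul_eq_one_left h1

theorem tameFrac_units (ε ε' : Oˣ) :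
    tameFrac O K (algebraMap O K (ε : O)) (algebraMap O K (ε' : O)) = 1 := by
  have hε' : algebraMap O K (ε' : O) ≠ 0 := by
    rw [Ne, IsFractionRing.to_map_eq_zero_iff]
    exact ε'.ne_zero
  rw [tameFrac_unit_left hO ε hε', ordFrac_algebraMap_of_isUnit O K ε'.isUnit, zpow_zero]

theorem tameFrac_ringEquiv {O' : Type u} [CommRing O'] [IsLocalRing O'] [IsDomain O']
    {K' : Type u} [Field K'] [Algebra O' K'] [IsFractionRing O' K'] (ε : O ≃+* O') (σ : K ≃+* K')
    (hσ : ∀ r, σ (algebraMap O K r) = algebraMap O' K' (ε r)) {a b : K} (ha : a ≠ 0)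
    (hb : b ≠ 0) :
    tameFrac O' K' (σ a) (σ b) = ResidueField.mapEquiv ε (tameFrac O K a b) := by
  haveI : IsNoetherianRing O' := isNoetherianRing_of_ringEquiv O ε
  have hO' : ringKrullDim O' = 1 := (ringKrullDim_eq_of_ringEquiv ε).symm.trans hO
  obtain ⟨x, y, hx, hy, rfl⟩ := exists_rep (O := O) ha
  obtain ⟨z, w, hz, hw, rfl⟩ := exists_rep (O := O) hb
  have hne : ∀ {r : O}, r ≠ 0 → ε r ≠ 0 := fun h => by simpa using h
  rw [map_div₀, map_div₀, hσ, hσ, hσ, hσ, tameFrac_eq hO' (hne hx) (hne hy) (hne hz) (hne hw),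
    tameFrac_eq hO hx hy hz hw]
  unfold quad
  rw [map_div₀, map_mul, map_mul,
    tameSymbol_ringEquiv ε hO (mem_nonZeroDivisors_of_ne_zero hx) (mem_nonZeroDivisors_of_ne_zero hz),
    tameSymbol_ringEquiv ε hO (mem_nonZeroDivisors_of_ne_zero hy) (mem_nonZeroDivisors_of_ne_zero hw),
    tameSymbol_ringEquiv ε hO (mem_nonZeroDivisors_of_ne_zero hx) (mem_nonZeroDivisors_of_ne_zero hw),
    tameSymbol_ringEquiv ε hO (mem_nonZeroDivisors_of_ne_zero hy) (mem_nonZeroDivisors_of_ne_zero hz)]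

end frac

end Groth.Agent.Lib.helper2.Sym
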