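import Mathlib
import Groth.Agent.Lib.Helper2.Sym2
import Groth.Agent.Lib.Helper2.DevSch4

/-!
# Symmetry of `c₁`, part 3: the key lemma on a scheme (helper2)
-/

set_option autoImplicit false
universe u

namespace Groth.Agent.Lib.helper2.Sym

open IsLocalRing CycAlg AlgebraicGeometry CategoryTheory
open Groth.Agent.Lib.helper16.OrdGen Groth.Agent.Lib.helper16.CycOpen

section bridge

variable {X : Scheme.{u}} [IsIntegral X] [IsLocallyNoetherian X]

theorem ordAt_tame_eq_term {x ξ : X} (h : ξ ⤳ x)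
    (hξ : ringKrullDim (X.presheaf.stalk ξ) = 1) (p q : X.presheaf.stalk x) (hp : p ≠ 0)
    (hq : q ≠ 0) :
    Cyc.ordAt x ξ h (tameSymbol (X.presheaf.stalk ξ) ((X.presheaf.stalkSpecializes h).hom p)
      ((X.presheaf.stalkSpecializes h).hom q)) =
      Key.term p q ⟨pOf h, inferInstance⟩ := by
  letI := (X.presheaf.stalkSpecializes h).hom.toAlgebra
  haveI := isLocalization_stalkSpecializes h
  let ε : Localization.AtPrime (pOf h) ≃ₐ[X.presheaf.stalk x] X.presheaf.stalk ξ :=
    IsLocalization.algEquiv (pOf h).primeCompl _ _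
  have hε : ∀ a, ε (algebraMap _ _ a) = (X.presheaf.stalkSpecializes h).hom a :=
    fun a => ε.commutes a
  have hdim : ringKrullDim (Localization.AtPrime (pOf h)) = 1 :=
    (ringKrullDim_eq_of_ringEquiv ε.toRingEquiv).trans hξ
  haveI : IsNoetherianRing (Localization.AtPrime (pOf h)) :=
    IsLocalization.isNoetherianRing (pOf h).primeCompl _ inferInstance
  have hinj : Function.Injective (algebraMap (X.presheaf.stalk x) (Localization.AtPrime (pOf h))) :=
    IsLocalization.injective _ (pOf h).primeCompl_le_nonZeroDivisors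
  have hpn : algebraMap (X.presheaf.stalk x) (Localization.AtPrime (pOf h)) p ∈
      nonZeroDivisors (Localization.AtPrime (pOf h)) :=
    mem_nonZeroDivisors_of_ne_zero (by rwa [Ne, map_eq_zero_iff _ hinj])
  have hqn : algebraMap (X.presheaf.stalk x) (Localization.AtPrime (pOf h)) q ∈
      nonZeroDivisors (Localization.AtPrime (pOf h)) :=
    mem_nonZeroDivisors_of_ne_zero (by rwa [Ne, map_eq_zero_iff _ hinj])
  have key := tameSymbol_ringEquiv ε.toRingEquiv hdim hpn hqn
  have e1 : ε.toRingEquiv (algebraMap (X.presheaf.stalk x) (Localization.AtPrime (pOf h)) p) =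
      (X.presheaf.stalkSpecializes h).hom p := hε p
  have e2 : ε.toRingEquiv (algebraMap (X.presheaf.stalk x) (Localization.AtPrime (pOf h)) q) =
      (X.presheaf.stalkSpecializes h).hom q := hε q
  rw [e1, e2] at key
  rw [key]
  unfold Cyc.ordAt Key.term
  symm
  let σ : (pOf h).ResidueField ≃+* X.residueField ξ := ResidueField.mapEquiv ε.toRingEquiv
  refine ordFrac_ringEquiv (RingEquiv.refl (Cyc.LocQuot x ξ h)) σ ?_ _
  intro r
  obtain ⟨a, rfl⟩ := Ideal.Quotient.mk_surjective r
  change ResidueField.mapEquiv ε.toRingEquiv (residue _ (algebraMap _ _ a)) =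
    Cyc.specMap x ξ h a
  change residue _ (ε.toRingEquiv (algebraMap _ _ a)) = _
  rw [show ε.toRingEquiv (algebraMap (X.presheaf.stalk x) (Localization.AtPrime (pOf h)) a) =
      (X.presheaf.stalkSpecializes h).hom a from hε a]
  rfl

open Groth.Agent.Lib.helper16.DivSum Groth.Agent.Lib.helper16.GenFib
  Groth.Agent.Lib.helper2.DevSch in
open Classical in
/-- the summand of the key lemma at a point `ξ` -/
noncomputable def gterm (δ : X → ℤ) (x : X) (p q : X.presheaf.stalk x) (ξ : X) : ℤ :=
  if h : ξ ⤳ x ∧ δ x + 1 = δ ξ then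
    Cyc.ordAt x ξ h.1 (tameSymbol (X.presheaf.stalk ξ) ((X.presheaf.stalkSpecializes h.1).hom p)
      ((X.presheaf.stalkSpecializes h.1).hom q))
  else 0

open Groth.Agent.Lib.helper16.DivSum Groth.Agent.Lib.helper16.GenFib
  Groth.Agent.Lib.helper2.DevSch in
theorem gterm_fromSpecStalk (δ : X → ℤ) (hδ : Cyc.IsDimFun X δ) (x : X)
    (hx : δ x + 2 = δ (genericPoint X)) (p q : X.presheaf.stalk x) (hp : p ≠ 0) (hq : q ≠ 0)
    (P : PrimeSpectrum (X.presheaf.stalk x)) :
    gterm δ x p q (X.fromSpecStalk x P) =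
      ∑ᶠ (_ : P.asIdeal.height = 1), Key.term p q P := by
  classical
  have h : X.fromSpecStalk x P ⤳ x := specializes_fromSpecStalk x P
  have hP : pOf h = P.asIdeal := pOf_fromSpecStalk x P h
  obtain ⟨d', hd1, hd2⟩ := dim_stalk_eq δ hδ (X.fromSpecStalk x P)
  have hht : ringKrullDim (X.presheaf.stalk (X.fromSpecStalk x P)) = (pOf h).height := by
    letI := (X.presheaf.stalkSpecializes h).hom.toAlgebra
    haveI := isLocalization_stalkSpecializes h
    exact IsLocalization.AtPrime.ringKrullDim_eq_height (pOf h) _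
  rw [hP] at hht
  have hiff : δ x + 1 = δ (X.fromSpecStalk x P) ↔ P.asIdeal.height = 1 := by
    rw [hd2] at hht
    have h2 : ((d' : ℕ∞) : WithBot ℕ∞) = (P.asIdeal.height : WithBot ℕ∞) := hht
    have h3 : (d' : ℕ∞) = P.asIdeal.height := WithBot.coe_injective h2
    rw [← h3]
    constructor
    · intro h4
      have : d' = 1 := by omega
      rw [this]; rfl
    · intro h4
      have : d' = 1 := by exact_mod_cast h4
      omega
  rw [finsum_eq_if]
  unfold gterm
  by_cases hc : P.asIdeal.height = 1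
  · rw [dif_pos ⟨h, hiff.2 hc⟩, if_pos hc]
    have hdim : ringKrullDim (X.presheaf.stalk (X.fromSpecStalk x P)) = 1 := by
      rw [hht, hc]; rfl
    rw [ordAt_tame_eq_term h hdim p q hp hq]
    congr 1
    exact PrimeSpectrum.ext hP
  · rw [dif_neg (fun h' => hc (hiff.1 h'.2)), if_neg hc]

open Groth.Agent.Lib.helper16.DivSum Groth.Agent.Lib.helper16.GenFib
  Groth.Agent.Lib.helper2.DevSch in
theorem support_gterm_subset (δ : X → ℤ) (x : X) (p q : X.presheaf.stalk x) :
    Function.support (gterm δ x p q) ⊆ Set.range (X.fromSpecStalk x) := by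
  intro ξ hξ
  have : ∃ h : ξ ⤳ x, True := by
    by_contra hc
    apply hξ
    unfold gterm
    rw [dif_neg]
    exact fun h => hc ⟨h.1, trivial⟩
  obtain ⟨h, -⟩ := this
  exact ⟨⟨pOf h, inferInstance⟩, fromSpecStalk_pOf h⟩

open Groth.Agent.Lib.helper16.DivSum Groth.Agent.Lib.helper16.GenFib
  Groth.Agent.Lib.helper2.DevSch in
/-- **the key lemma on a scheme** -/
theorem finsum_gterm (δ : X → ℤ) (hδ : Cyc.IsDimFun X δ) (x : X)
    (hx : δ x + 2 = δ (genericPoint X)) (p q : X.presheaf.stalk x) (hp : p ≠ 0) (hq : q ≠ 0) :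
    (Function.support (gterm δ x p q)).Finite ∧ ∑ᶠ ξ, gterm δ x p q ξ = 0 := by
  classical
  have hA : ringKrullDim (X.presheaf.stalk x) = 2 := by
    obtain ⟨d, hd1, hd2⟩ := dim_stalk_eq δ hδ x
    have : d = 2 := by omega
    rw [hd2, this]; rfl
  have hpn : p ∈ nonZeroDivisors (X.presheaf.stalk x) := mem_nonZeroDivisors_of_ne_zero hp
  have hqn : q ∈ nonZeroDivisors (X.presheaf.stalk x) := mem_nonZeroDivisors_of_ne_zero hq
  have hinj : Function.Injective (X.fromSpecStalk x) := fromSpecStalk_injective x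
  constructor
  · have hfin := Key.finite_height_one hA (mul_mem hpn hqn)
    refine (hfin.image (X.fromSpecStalk x)).subset ?_
    intro ξ hξ
    obtain ⟨P, rfl⟩ := support_gterm_subset δ x p q hξ
    refine ⟨P, ?_, rfl⟩
    have h1 : gterm δ x p q (X.fromSpecStalk x P) ≠ 0 := hξ
    rw [gterm_fromSpecStalk δ hδ x hx p q hp hq P, finsum_eq_if] at h1
    by_cases hc : P.asIdeal.height = 1
    · rw [if_pos hc] at h1
      refine ⟨hc, ?_⟩
      by_contra hn
      exact h1 (Key.term_eq_zero_of_notMem P hc hn)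
    · rw [if_neg hc] at h1
      exact absurd rfl h1
  · have h1 : ∑ᶠ ξ, gterm δ x p q ξ = ∑ᶠ ξ ∈ Set.range (X.fromSpecStalk x), gterm δ x p q ξ := by
      rw [finsum_mem_def, Set.indicator_eq_self.2 (support_gterm_subset δ x p q)]
    rw [h1, finsum_mem_range hinj]
    refine (finsum_congr (gterm_fromSpecStalk δ hδ x hx p q hp hq)).trans ?_
    exact Key.key_lemma hA hpn hqn

end bridge

end Groth.Agent.Lib.helper2.Sym
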