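import Mathlib
import Groth.Agent.Lib.Helper2.Sym3

/-!
# Symmetry of `c₁`, part 4: the key lemma on a scheme for elements of the function field (helper2)
-/

set_option autoImplicit false
universe u

namespace Groth.Agent.Lib.helper2.Sym

open IsLocalRing CycAlg AlgebraicGeometry CategoryTheory
open Groth.Agent.Lib.helper16.OrdGen Groth.Agent.Lib.helper16.CycOpen
open Groth.Agent.Lib.helper16.SecOrd

section ordAt

variable {X : Scheme.{u}}

theorem ordAt_mul {x ξ : X} (h : ξ ⤳ x) {f g : X.residueField ξ} (hf : f ≠ 0) (hg : g ≠ 0) :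
    Cyc.ordAt x ξ h (f * g) = Cyc.ordAt x ξ h f + Cyc.ordAt x ξ h g :=
  ordFrac_mul' _ _ hf hg

theorem ordAt_one {x ξ : X} (h : ξ ⤳ x) : Cyc.ordAt x ξ h 1 = 0 := ordFrac_one' _ _

theorem ordAt_inv {x ξ : X} (h : ξ ⤳ x) {f : X.residueField ξ} (hf : f ≠ 0) :
    Cyc.ordAt x ξ h f⁻¹ = - Cyc.ordAt x ξ h f :=
  ordFrac_inv' _ _ hf

theorem ordAt_zpow {x ξ : X} (h : ξ ⤳ x) {f : X.residueField ξ} (hf : f ≠ 0) (n : ℤ) :
    Cyc.ordAt x ξ h (f ^ n) = n * Cyc.ordAt x ξ h f :=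
  ordFrac_zpow' _ _ hf n

theorem ordAt_quad {x ξ : X} (h : ξ ⤳ x) (f₁ f₂ f₃ f₄ : X.residueField ξ) (h₁ : f₁ ≠ 0)
    (h₂ : f₂ ≠ 0) (h₃ : f₃ ≠ 0) (h₄ : f₄ ≠ 0) :
    Cyc.ordAt x ξ h (f₁ * f₂ / (f₃ * f₄)) =
      Cyc.ordAt x ξ h f₁ + Cyc.ordAt x ξ h f₂ - Cyc.ordAt x ξ h f₃ - Cyc.ordAt x ξ h f₄ := by
  rw [div_eq_mul_inv, ordAt_mul h (mul_ne_zero h₁ h₂) (inv_ne_zero (mul_ne_zero h₃ h₄)),
    ordAt_mul h h₁ h₂, ordAt_inv h (mul_ne_zero h₃ h₄), ordAt_mul h h₃ h₄]
  ring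

end ordAt

section fracsum

variable {X : Scheme.{u}} [IsIntegral X]

theorem algebraMap_stalkSpecializes {x ξ : X} (h : ξ ⤳ x) (a : X.presheaf.stalk x) :
    algebraMap (X.presheaf.stalk ξ) X.functionField ((X.presheaf.stalkSpecializes h).hom a) =
      algebraMap (X.presheaf.stalk x) X.functionField a := by
  change (X.presheaf.stalkSpecializes _).hom ((X.presheaf.stalkSpecializes h).hom a) =
    (X.presheaf.stalkSpecializes _).hom a
  rw [← CommRingCat.comp_apply, TopCat.Presheaf.stalkSpecializes_comp]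

theorem stalkSpecializes_ne_zero {x ξ : X} (h : ξ ⤳ x) {a : X.presheaf.stalk x} (ha : a ≠ 0) :
    (X.presheaf.stalkSpecializes h).hom a ≠ 0 := by
  intro h0
  have h1 := algebraMap_stalkSpecializes h a
  rw [h0, map_zero] at h1
  exact ha ((IsFractionRing.to_map_eq_zero_iff (K := X.functionField)).1 h1.symm)

theorem dim_stalk_of_delta (δ : X → ℤ) (hδ : Cyc.IsDimFun X δ) (ξ : X)
    (hξ : δ ξ + 1 = δ (genericPoint X)) : ringKrullDim (X.presheaf.stalk ξ) = 1 := by
  obtain ⟨d, hd1, hd2⟩ := Groth.Agent.Lib.helper2.DevSch.dim_stalk_eq δ hδ ξ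
  have : d = 1 := by omega
  rw [hd2, this]; rfl

variable [IsLocallyNoetherian X]

theorem divFun_tameFrac_eq (δ : X → ℤ) (hδ : Cyc.IsDimFun X δ) (x : X)
    (hx : δ x + 2 = δ (genericPoint X)) {α α' β β' : X.presheaf.stalk x} (hα : α ≠ 0)
    (hα' : α' ≠ 0) (hβ : β ≠ 0) (hβ' : β' ≠ 0) (ξ : X) :
    Cyc.divFun δ ξ (tameFrac (X.presheaf.stalk ξ) X.functionField
      (algebraMap (X.presheaf.stalk x) X.functionField α /
        algebraMap (X.presheaf.stalk x) X.functionField α')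
      (algebraMap (X.presheaf.stalk x) X.functionField β /
        algebraMap (X.presheaf.stalk x) X.functionField β')) x =
      gterm δ x α β ξ + gterm δ x α' β' ξ - gterm δ x α β' ξ - gterm δ x α' β ξ := by
  unfold Cyc.divFun gterm
  by_cases hc : ξ ⤳ x ∧ δ x + 1 = δ ξ
  · rw [dif_pos hc, dif_pos hc, dif_pos hc, dif_pos hc, dif_pos hc]
    have hdim : ringKrullDim (X.presheaf.stalk ξ) = 1 :=
      dim_stalk_of_delta δ hδ ξ (by omega)
    rw [← algebraMap_stalkSpecializes hc.1 α, ← algebraMap_stalkSpecializes hc.1 α',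
      ← algebraMap_stalkSpecializes hc.1 β, ← algebraMap_stalkSpecializes hc.1 β',
      tameFrac_eq hdim (stalkSpecializes_ne_zero hc.1 hα) (stalkSpecializes_ne_zero hc.1 hα')
        (stalkSpecializes_ne_zero hc.1 hβ) (stalkSpecializes_ne_zero hc.1 hβ')]
    exact ordAt_quad hc.1 _ _ _ _
      (T_ne_zero hdim (stalkSpecializes_ne_zero hc.1 hα) (stalkSpecializes_ne_zero hc.1 hβ))
      (T_ne_zero hdim (stalkSpecializes_ne_zero hc.1 hα') (stalkSpecializes_ne_zero hc.1 hβ'))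
      (T_ne_zero hdim (stalkSpecializes_ne_zero hc.1 hα) (stalkSpecializes_ne_zero hc.1 hβ'))
      (T_ne_zero hdim (stalkSpecializes_ne_zero hc.1 hα') (stalkSpecializes_ne_zero hc.1 hβ))
  · rw [dif_neg hc, dif_neg hc, dif_neg hc, dif_neg hc, dif_neg hc]
    ring

/-- **the key lemma on a scheme, for elements of the function field** -/
theorem finsum_divFun_tameFrac (δ : X → ℤ) (hδ : Cyc.IsDimFun X δ) (x : X)
    (hx : δ x + 2 = δ (genericPoint X)) {A B : X.functionField} (hA : A ≠ 0) (hB : B ≠ 0) :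
    (Function.support fun ξ =>
      Cyc.divFun δ ξ (tameFrac (X.presheaf.stalk ξ) X.functionField A B) x).Finite ∧
    ∑ᶠ ξ, Cyc.divFun δ ξ (tameFrac (X.presheaf.stalk ξ) X.functionField A B) x = 0 := by
  obtain ⟨α, α', hα, hα', rfl⟩ := exists_rep (O := X.presheaf.stalk x) hA
  obtain ⟨β, β', hβ, hβ', rfl⟩ := exists_rep (O := X.presheaf.stalk x) hB
  obtain ⟨f1, s1⟩ := finsum_gterm δ hδ x hx α β hα hβ
  obtain ⟨f2, s2⟩ := finsum_gterm δ hδ x hx α' β' hα' hβ'
  obtain ⟨f3, s3⟩ := finsum_gterm δ hδ x hx α β' hα hβ'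
  obtain ⟨f4, s4⟩ := finsum_gterm δ hδ x hx α' β hα' hβ
  have heq : (fun ξ => Cyc.divFun δ ξ (tameFrac (X.presheaf.stalk ξ) X.functionField
      (algebraMap (X.presheaf.stalk x) X.functionField α /
        algebraMap (X.presheaf.stalk x) X.functionField α')
      (algebraMap (X.presheaf.stalk x) X.functionField β /
        algebraMap (X.presheaf.stalk x) X.functionField β')) x) =
      fun ξ => gterm δ x α β ξ + gterm δ x α' β' ξ - gterm δ x α β' ξ - gterm δ x α' β ξ :=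
    funext (divFun_tameFrac_eq δ hδ x hx hα hα' hβ hβ')
  rw [heq]
  have f12 : (Function.support fun ξ => gterm δ x α β ξ + gterm δ x α' β' ξ).Finite :=
    (f1.union f2).subset (Function.support_add _ _)
  have f123 : (Function.support fun ξ => gterm δ x α β ξ + gterm δ x α' β' ξ -
      gterm δ x α β' ξ).Finite :=
    (f12.union f3).subset (Function.support_sub _ _)
  refine ⟨(f123.union f4).subset (Function.support_sub _ _), ?_⟩
  rw [finsum_sub_distrib f123 f4, finsum_sub_distrib f12 f3, finsum_add_distrib f1 f2, s1, s2, s3,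
    s4]
  simp

end fracsum

end Groth.Agent.Lib.helper2.Sym
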