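import Mathlib
import Groth.Agent.Lib.Helper2.Sym4
import Groth.Agent.Lib.Helper16.SecOrd6

/-!
# Symmetry of `c₁`, part 5: the local rational function attached to two sections (helper2)
-/

set_option autoImplicit false
universe u

namespace Groth.Agent.Lib.helper2.Sym

open IsLocalRing CycAlg AlgebraicGeometry CategoryTheory
open Groth.Agent.Lib.helper16.OrdGen Groth.Agent.Lib.helper16.CycOpen
open Groth.Agent.Lib.helper16.SecOrd

section generic

variable {X : Scheme.{u}} [IsIntegral X]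

/-- `K = O_{X,η} ≅ κ(η)` -/
noncomputable def resGenEquiv : X.functionField ≃+* X.residueField (genericPoint X) :=
  RingEquiv.ofBijective (X.residue (genericPoint X)).hom
    ⟨residue_genericPoint_injective, X.residue_surjective (genericPoint X)⟩

theorem ordAt_generic (ξ : X) (h : genericPoint X ⤳ ξ) (A : X.functionField) :
    Cyc.ordAt ξ (genericPoint X) h (X.residue (genericPoint X) A) =
      CycAlg.ordFrac (X.presheaf.stalk ξ) X.functionField A := by
  unfold Cyc.ordAt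
  symm
  refine ordFrac_ringEquiv (locQuotGenericEquiv ξ h) resGenEquiv ?_ A
  intro r
  rfl

end generic

section alg

theorem exists_unit_smul_eq {O : Type*} [CommRing O] [IsLocalRing O] {M : Type*} [AddCommGroup M]
    [Module O M] {g g' : M} (hg : Submodule.span O {g} = ⊤) (hg' : Submodule.span O {g'} = ⊤)
    (hne : g ≠ 0) : ∃ ε : Oˣ, g' = (ε : O) • g := by
  obtain ⟨a, ha⟩ : ∃ a : O, a • g = g' :=
    Submodule.mem_span_singleton.1 (by rw [hg]; exact Submodule.mem_top)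
  obtain ⟨b, hb⟩ : ∃ b : O, b • g' = g :=
    Submodule.mem_span_singleton.1 (by rw [hg']; exact Submodule.mem_top)
  have hba : IsUnit (b * a) := by
    by_contra hnu
    have h1 : IsUnit (1 - b * a) := IsLocalRing.isUnit_one_sub_self_of_mem_nonunits _ hnu
    have h2 : (1 - b * a) • g = 0 := by
      rw [sub_smul, one_smul, mul_smul, ha, hb, sub_self]
    exact hne (h1.smul_eq_zero.1 h2)
  have hau : IsUnit a := isUnit_of_mul_isUnit_right hba
  exact ⟨hau.unit, by rw [IsUnit.unit_spec, ha]⟩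

theorem field_id {κ : Type*} [Field κ] (T e e' c' d' : κ) (he : e ≠ 0) (he' : e' ≠ 0)
    (hc' : c' ≠ 0) (hd' : d' ≠ 0) (a b : ℤ) :
    T * e' ^ (-a) * (e ^ b * 1) * (c' * e') ^ a * (d' * e) ^ (-b) = T * c' ^ a * d' ^ (-b) := by
  simp only [mul_zpow, zpow_neg, mul_one]
  have h1 : e ^ b ≠ 0 := zpow_ne_zero _ he
  have h2 : e' ^ a ≠ 0 := zpow_ne_zero _ he'
  have h3 : c' ^ a ≠ 0 := zpow_ne_zero _ hc'
  have h4 : d' ^ b ≠ 0 := zpow_ne_zero _ hd'
  field_simp

end alg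

section rep

variable {X : Scheme.{u}} [IsIntegral X] (L N : X.Modules)

/-- local representation data at `ξ`: generators of `L_ξ`, `N_ξ` and the coefficients of the four
sections with respect to them -/
structure Rep (s : Cyc.secFibre L (genericPoint X)) (t : Cyc.secFibre N (genericPoint X)) (ξ : X)
    (uξ : Cyc.secFibre N ξ) (vξ : Cyc.secFibre L ξ) where
  gL : L.presheaf.stalk ξ
  gN : N.presheaf.stalk ξ
  hgL : Submodule.span (X.presheaf.stalk ξ) {gL} = ⊤
  hgN : Submodule.span (X.presheaf.stalk ξ) {gN} = ⊤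
  A : X.presheaf.stalk (genericPoint X)
  B : X.presheaf.stalk (genericPoint X)
  C : X.presheaf.stalk ξ
  D : X.presheaf.stalk ξ
  hs : s = A • (Submodule.Quotient.mk
    (L.presheaf.stalkSpecializes (genericPoint_specializes ξ) gL) :
      Cyc.secFibre L (genericPoint X))
  ht : t = B • (Submodule.Quotient.mk
    (N.presheaf.stalkSpecializes (genericPoint_specializes ξ) gN) :
      Cyc.secFibre N (genericPoint X))
  hu : uξ = C • (Submodule.Quotient.mk gN : Cyc.secFibre N ξ)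
  hv : vξ = D • (Submodule.Quotient.mk gL : Cyc.secFibre L ξ)

variable {L N} {s : Cyc.secFibre L (genericPoint X)} {t : Cyc.secFibre N (genericPoint X)} {ξ : X}
  {uξ : Cyc.secFibre N ξ} {vξ : Cyc.secFibre L ξ}

/-- the value of the local rational function computed from a representation -/
noncomputable def Rep.val (R : Rep L N s t ξ uξ vξ) : ResidueField (X.presheaf.stalk ξ) :=
  tameFrac (X.presheaf.stalk ξ) X.functionField R.A R.B *
    residue (X.presheaf.stalk ξ) R.C ^ (CycAlg.ordFrac (X.presheaf.stalk ξ) X.functionField R.A) *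
    residue (X.presheaf.stalk ξ) R.D ^
      (-(CycAlg.ordFrac (X.presheaf.stalk ξ) X.functionField R.B))

theorem Rep.A_ne_zero (R : Rep L N s t ξ uξ vξ) (hs0 : s ≠ 0) : R.A ≠ 0 := by
  intro h
  apply hs0
  rw [R.hs, h, zero_smul]

theorem Rep.B_ne_zero (R : Rep L N s t ξ uξ vξ) (ht0 : t ≠ 0) : R.B ≠ 0 := by
  intro h
  apply ht0
  rw [R.ht, h, zero_smul]

theorem Rep.eL_ne_zero (R : Rep L N s t ξ uξ vξ) (hs0 : s ≠ 0) :
    (Submodule.Quotient.mk (L.presheaf.stalkSpecializes (genericPoint_specializes ξ) R.gL) :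
      Cyc.secFibre L (genericPoint X)) ≠ 0 := by
  intro h
  apply hs0
  rw [R.hs, h, smul_zero]

theorem Rep.eN_ne_zero (R : Rep L N s t ξ uξ vξ) (ht0 : t ≠ 0) :
    (Submodule.Quotient.mk (N.presheaf.stalkSpecializes (genericPoint_specializes ξ) R.gN) :
      Cyc.secFibre N (genericPoint X)) ≠ 0 := by
  intro h
  apply ht0
  rw [R.ht, h, smul_zero]

theorem Rep.gL_ne_zero (R : Rep L N s t ξ uξ vξ) (hs0 : s ≠ 0) : R.gL ≠ 0 := by
  intro h
  apply R.eL_ne_zero hs0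
  rw [h, map_zero]
  rfl

theorem Rep.gN_ne_zero (R : Rep L N s t ξ uξ vξ) (ht0 : t ≠ 0) : R.gN ≠ 0 := by
  intro h
  apply R.eN_ne_zero ht0
  rw [h, map_zero]
  rfl

theorem Rep.mkgN_ne_zero (R : Rep L N s t ξ uξ vξ) (hu0 : uξ ≠ 0) :
    (Submodule.Quotient.mk R.gN : Cyc.secFibre N ξ) ≠ 0 := by
  intro h
  apply hu0
  rw [R.hu, h, smul_zero]

theorem Rep.mkgL_ne_zero (R : Rep L N s t ξ uξ vξ) (hv0 : vξ ≠ 0) :
    (Submodule.Quotient.mk R.gL : Cyc.secFibre L ξ) ≠ 0 := by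
  intro h
  apply hv0
  rw [R.hv, h, smul_zero]

theorem Rep.resC_ne_zero (R : Rep L N s t ξ uξ vξ) (hu0 : uξ ≠ 0) :
    residue (X.presheaf.stalk ξ) R.C ≠ 0 :=
  residue_ne_zero_of_smul_ne_zero N ξ (R.hu ▸ hu0)

theorem Rep.resD_ne_zero (R : Rep L N s t ξ uξ vξ) (hv0 : vξ ≠ 0) :
    residue (X.presheaf.stalk ξ) R.D ≠ 0 :=
  residue_ne_zero_of_smul_ne_zero L ξ (R.hv ▸ hv0)

variable [IsLocallyNoetherian X]

theorem Rep.A_eq (R R' : Rep L N s t ξ uξ vξ) (hs0 : s ≠ 0) (ε : (X.presheaf.stalk ξ)ˣ)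
    (hε : R'.gL = (ε : X.presheaf.stalk ξ) • R.gL) :
    R.A = R'.A * algebraMap (X.presheaf.stalk ξ) X.functionField (ε : X.presheaf.stalk ξ) := by
  have h1 : s = (R'.A * algebraMap (X.presheaf.stalk ξ) X.functionField
      (ε : X.presheaf.stalk ξ)) • (Submodule.Quotient.mk
        (L.presheaf.stalkSpecializes (genericPoint_specializes ξ) R.gL) :
          Cyc.secFibre L (genericPoint X)) := by
    conv_lhs => rw [R'.hs, hε, stalkSpecializes_smul, Submodule.Quotient.mk_smul]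
    rw [mul_smul]
    rfl
  exact eq_of_smul_eq_smul_functionField (R.eL_ne_zero hs0) (R.hs.symm.trans h1)

theorem Rep.B_eq (R R' : Rep L N s t ξ uξ vξ) (ht0 : t ≠ 0) (ε : (X.presheaf.stalk ξ)ˣ)
    (hε : R'.gN = (ε : X.presheaf.stalk ξ) • R.gN) :
    R.B = R'.B * algebraMap (X.presheaf.stalk ξ) X.functionField (ε : X.presheaf.stalk ξ) := by
  have h1 : t = (R'.B * algebraMap (X.presheaf.stalk ξ) X.functionField
      (ε : X.presheaf.stalk ξ)) • (Submodule.Quotient.mk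
        (N.presheaf.stalkSpecializes (genericPoint_specializes ξ) R.gN) :
          Cyc.secFibre N (genericPoint X)) := by
    conv_lhs => rw [R'.ht, hε, stalkSpecializes_smul, Submodule.Quotient.mk_smul]
    rw [mul_smul]
    rfl
  exact eq_of_smul_eq_smul_functionField (R.eN_ne_zero ht0) (R.ht.symm.trans h1)

theorem Rep.C_eq (R R' : Rep L N s t ξ uξ vξ) (hu0 : uξ ≠ 0) (ε : (X.presheaf.stalk ξ)ˣ)
    (hε : R'.gN = (ε : X.presheaf.stalk ξ) • R.gN) :
    residue (X.presheaf.stalk ξ) R.C =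
      residue (X.presheaf.stalk ξ) R'.C * residue (X.presheaf.stalk ξ) (ε : X.presheaf.stalk ξ) := by
  have h1 : uξ = (R'.C * (ε : X.presheaf.stalk ξ)) •
      (Submodule.Quotient.mk R.gN : Cyc.secFibre N ξ) := by
    conv_lhs => rw [R'.hu, hε, Submodule.Quotient.mk_smul]
    rw [mul_smul]
  rw [← map_mul]
  exact residue_eq_of_smul_eq_smul N ξ (R.mkgN_ne_zero hu0) (R.hu.symm.trans h1)

theorem Rep.D_eq (R R' : Rep L N s t ξ uξ vξ) (hv0 : vξ ≠ 0) (ε : (X.presheaf.stalk ξ)ˣ)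
    (hε : R'.gL = (ε : X.presheaf.stalk ξ) • R.gL) :
    residue (X.presheaf.stalk ξ) R.D =
      residue (X.presheaf.stalk ξ) R'.D * residue (X.presheaf.stalk ξ) (ε : X.presheaf.stalk ξ) := by
  have h1 : vξ = (R'.D * (ε : X.presheaf.stalk ξ)) •
      (Submodule.Quotient.mk R.gL : Cyc.secFibre L ξ) := by
    conv_lhs => rw [R'.hv, hε, Submodule.Quotient.mk_smul]
    rw [mul_smul]
  rw [← map_mul]
  exact residue_eq_of_smul_eq_smul L ξ (R.mkgL_ne_zero hv0) (R.hv.symm.trans h1)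

/-- **independence of the representation** -/
theorem Rep.val_eq (hdim : ringKrullDim (X.presheaf.stalk ξ) = 1) (hs0 : s ≠ 0) (ht0 : t ≠ 0)
    (hu0 : uξ ≠ 0) (hv0 : vξ ≠ 0) (R R' : Rep L N s t ξ uξ vξ) : R.val = R'.val := by
  obtain ⟨ε, hε⟩ := exists_unit_smul_eq (g := R.gL) (g' := R'.gL) R.hgL R'.hgL (R.gL_ne_zero hs0)
  obtain ⟨ε', hε'⟩ := exists_unit_smul_eq (g := R.gN) (g' := R'.gN) R.hgN R'.hgN
    (R.gN_ne_zero ht0)
  have hA := R.A_eq R' hs0 ε hε
  have hB := R.B_eq R' ht0 ε' hε'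
  have hC := R.C_eq R' hu0 ε' hε'
  have hD := R.D_eq R' hv0 ε hε
  have hA' : R'.A ≠ 0 := R'.A_ne_zero hs0
  have hB' : R'.B ≠ 0 := R'.B_ne_zero ht0
  have haε : algebraMap (X.presheaf.stalk ξ) X.functionField (ε : X.presheaf.stalk ξ) ≠ 0 := by
    rw [Ne, IsFractionRing.to_map_eq_zero_iff]
    exact ε.ne_zero
  have haε' : algebraMap (X.presheaf.stalk ξ) X.functionField (ε' : X.presheaf.stalk ξ) ≠ 0 := by
    rw [Ne, IsFractionRing.to_map_eq_zero_iff]
    exact ε'.ne_zero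
  have hre : residue (X.presheaf.stalk ξ) (ε : X.presheaf.stalk ξ) ≠ 0 := by
    rw [Ne, residue_eq_zero_iff]
    exact fun h => (mem_maximalIdeal _).1 h ε.isUnit
  have hre' : residue (X.presheaf.stalk ξ) (ε' : X.presheaf.stalk ξ) ≠ 0 := by
    rw [Ne, residue_eq_zero_iff]
    exact fun h => (mem_maximalIdeal _).1 h ε'.isUnit
  unfold Rep.val
  rw [hA, hB, hC, hD, ordFrac_mul' _ _ hA' haε, ordFrac_mul' _ _ hB' haε',
    ordFrac_algebraMap_of_isUnit _ _ ε.isUnit, ordFrac_algebraMap_of_isUnit _ _ ε'.isUnit,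
    add_zero, add_zero,
    tameFrac_mul_left hdim hA' haε (mul_ne_zero hB' haε'),
    tameFrac_mul_right hdim hA' hB' haε', tameFrac_mul_right hdim haε hB' haε',
    tameFrac_unit_right hdim ε' hA', tameFrac_unit_left hdim ε hB', tameFrac_units hdim ε ε']
  exact field_id _ _ _ _ _ hre hre' (R'.resC_ne_zero hu0) (R'.resD_ne_zero hv0) _ _

theorem Rep.secOrdAt_L (R : Rep L N s t ξ uξ vξ) (hs0 : s ≠ 0) :
    Cyc.secOrdAt L (genericPoint X) ξ (genericPoint_specializes ξ) s =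
      CycAlg.ordFrac (X.presheaf.stalk ξ) X.functionField R.A := by
  rw [secOrdAt_eq L ξ (genericPoint X) (genericPoint_specializes ξ) s hs0 R.gL R.hgL R.A R.hs]
  exact ordAt_generic ξ _ R.A

theorem Rep.secOrdAt_N (R : Rep L N s t ξ uξ vξ) (ht0 : t ≠ 0) :
    Cyc.secOrdAt N (genericPoint X) ξ (genericPoint_specializes ξ) t =
      CycAlg.ordFrac (X.presheaf.stalk ξ) X.functionField R.B := by
  rw [secOrdAt_eq N ξ (genericPoint X) (genericPoint_specializes ξ) t ht0 R.gN R.hgN R.B R.ht]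
  exact ordAt_generic ξ _ R.B

theorem Rep.val_ne_zero (R : Rep L N s t ξ uξ vξ) (hdim : ringKrullDim (X.presheaf.stalk ξ) = 1)
    (hs0 : s ≠ 0) (ht0 : t ≠ 0) (hu0 : uξ ≠ 0) (hv0 : vξ ≠ 0) : R.val ≠ 0 := by
  unfold Rep.val
  exact mul_ne_zero (mul_ne_zero (tameFrac_ne_zero hdim (R.A_ne_zero hs0) (R.B_ne_zero ht0))
    (zpow_ne_zero _ (R.resC_ne_zero hu0))) (zpow_ne_zero _ (R.resD_ne_zero hv0))

theorem Rep.val_eq_one (R : Rep L N s t ξ uξ vξ) (hdim : ringKrullDim (X.presheaf.stalk ξ) = 1)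
    (ε ε' : (X.presheaf.stalk ξ)ˣ)
    (hA : R.A = algebraMap (X.presheaf.stalk ξ) X.functionField (ε : X.presheaf.stalk ξ))
    (hB : R.B = algebraMap (X.presheaf.stalk ξ) X.functionField (ε' : X.presheaf.stalk ξ)) :
    R.val = 1 := by
  unfold Rep.val
  rw [hA, hB, tameFrac_units hdim ε ε', ordFrac_algebraMap_of_isUnit _ _ ε.isUnit,
    ordFrac_algebraMap_of_isUnit _ _ ε'.isUnit]
  simp

theorem Rep.ordAt_val (R : Rep L N s t ξ uξ vξ) (hdim : ringKrullDim (X.presheaf.stalk ξ) = 1)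
    (hs0 : s ≠ 0) (ht0 : t ≠ 0) (hu0 : uξ ≠ 0) (hv0 : vξ ≠ 0) {x : X} (h : ξ ⤳ x) :
    Cyc.ordAt x ξ h R.val =
      Cyc.ordAt x ξ h (tameFrac (X.presheaf.stalk ξ) X.functionField R.A R.B) +
        CycAlg.ordFrac (X.presheaf.stalk ξ) X.functionField R.A *
          Cyc.ordAt x ξ h (X.residue ξ R.C) -
        CycAlg.ordFrac (X.presheaf.stalk ξ) X.functionField R.B *
          Cyc.ordAt x ξ h (X.residue ξ R.D) := by
  have h1 : tameFrac (X.presheaf.stalk ξ) X.functionField R.A R.B ≠ 0 :=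
    tameFrac_ne_zero hdim (R.A_ne_zero hs0) (R.B_ne_zero ht0)
  have h2 := R.resC_ne_zero hu0
  have h3 := R.resD_ne_zero hv0
  unfold Rep.val
  refine (ordAt_mul h (mul_ne_zero h1 (zpow_ne_zero _ h2)) (zpow_ne_zero _ h3)).trans ?_
  refine (congrArg₂ (· + ·) (ordAt_mul h h1 (zpow_ne_zero _ h2)) (ordAt_zpow h h3 _)).trans ?_
  refine (congrArg₂ (· + ·) (congrArg₂ (· + ·) rfl (ordAt_zpow h h2 _)) rfl).trans ?_
  change _ + _ * Cyc.ordAt x ξ h (X.residue ξ R.C) + -_ * Cyc.ordAt x ξ h (X.residue ξ R.D) = _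
  ring

omit [IsLocallyNoetherian X] in
theorem stalkSpecializes_trans (M : X.Modules) {x ξ ζ : X} (h : ξ ⤳ x) (h' : ζ ⤳ ξ)
    (g : M.presheaf.stalk x) :
    M.presheaf.stalkSpecializes h' (M.presheaf.stalkSpecializes h g) =
      M.presheaf.stalkSpecializes (h'.trans h) g :=
  TopCat.Presheaf.stalkSpecializes_comp_apply M.presheaf h' h g

omit [IsLocallyNoetherian X] in
theorem exists_rep_of_generators (hL : IsLocCyc L) (hN : IsLocCyc N) {x : X} (h : ξ ⤳ x)
    (gLx : L.presheaf.stalk x) (gNx : N.presheaf.stalk x)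
    (hgLx : Submodule.span (X.presheaf.stalk x) {gLx} = ⊤)
    (hgNx : Submodule.span (X.presheaf.stalk x) {gNx} = ⊤)
    (Ax Bx : X.presheaf.stalk (genericPoint X))
    (hsx : s = Ax • (Submodule.Quotient.mk
      (L.presheaf.stalkSpecializes (genericPoint_specializes x) gLx) :
        Cyc.secFibre L (genericPoint X)))
    (htx : t = Bx • (Submodule.Quotient.mk
      (N.presheaf.stalkSpecializes (genericPoint_specializes x) gNx) :
        Cyc.secFibre N (genericPoint X))) :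
    ∃ R : Rep L N s t ξ uξ vξ, R.gL = L.presheaf.stalkSpecializes h gLx ∧
      R.gN = N.presheaf.stalkSpecializes h gNx ∧ R.A = Ax ∧ R.B = Bx := by
  have hgL := hL.spec x ξ h gLx hgLx
  have hgN := hN.spec x ξ h gNx hgNx
  obtain ⟨C, hC⟩ := exists_smul_mk_eq N ξ _ hgN uξ
  obtain ⟨D, hD⟩ := exists_smul_mk_eq L ξ _ hgL vξ
  refine ⟨⟨L.presheaf.stalkSpecializes h gLx, N.presheaf.stalkSpecializes h gNx, hgL, hgN, Ax, Bx,
    C, D, ?_, ?_, hC, hD⟩, rfl, rfl, rfl, rfl⟩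
  · rw [stalkSpecializes_trans L h (genericPoint_specializes ξ)]
    exact hsx
  · rw [stalkSpecializes_trans N h (genericPoint_specializes ξ)]
    exact htx

omit [IsLocallyNoetherian X] in
theorem nonempty_rep (hL : IsLocCyc L) (hN : IsLocCyc N) :
    Nonempty (Rep L N s t ξ uξ vξ) := by
  obtain ⟨gL, hgL⟩ := hL.cyc ξ
  obtain ⟨gN, hgN⟩ := hN.cyc ξ
  obtain ⟨A, hA⟩ := exists_smul_mk_eq L (genericPoint X) _
    (hL.spec ξ (genericPoint X) (genericPoint_specializes ξ) gL hgL) s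
  obtain ⟨B, hB⟩ := exists_smul_mk_eq N (genericPoint X) _
    (hN.spec ξ (genericPoint X) (genericPoint_specializes ξ) gN hgN) t
  obtain ⟨C, hC⟩ := exists_smul_mk_eq N ξ _ hgN uξ
  obtain ⟨D, hD⟩ := exists_smul_mk_eq L ξ _ hgL vξ
  exact ⟨⟨gL, gN, hgL, hgN, A, B, C, D, hA, hB, hC, hD⟩⟩

end rep

end Groth.Agent.Lib.helper2.Sym
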