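import Mathlib
import Groth.Agent.Lib.Helper2.Sym5

/-!
# Symmetry of `c₁`, part 6: the family of rational functions and its local finiteness (helper2)
-/

set_option autoImplicit false
universe u

namespace Groth.Agent.Lib.helper2.Sym

open IsLocalRing CycAlg AlgebraicGeometry CategoryTheory
open Groth.Agent.Lib.helper16.OrdGen Groth.Agent.Lib.helper16.CycOpen
open Groth.Agent.Lib.helper16.SecOrd

section main

variable {X : Scheme.{u}} [IsIntegral X] [IsLocallyNoetherian X] (L N : X.Modules)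
  (s : Cyc.secFibre L (genericPoint X)) (t : Cyc.secFibre N (genericPoint X))
  (u : (ξ : X) → Cyc.secFibre N ξ) (v : (ξ : X) → Cyc.secFibre L ξ)

open Classical in
/-- the rational function on the closure of `ξ` -/
noncomputable def Ffun (ξ : X) : X.residueField ξ :=
  if h : Nonempty (Rep L N s t ξ (u ξ) (v ξ)) then (Classical.choice h).val else 1

variable {L N s t u v}

theorem Ffun_eq {ξ : X} (hdim : ringKrullDim (X.presheaf.stalk ξ) = 1) (hs0 : s ≠ 0)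
    (ht0 : t ≠ 0) (hu0 : u ξ ≠ 0) (hv0 : v ξ ≠ 0) (R : Rep L N s t ξ (u ξ) (v ξ)) :
    Ffun L N s t u v ξ = R.val := by
  unfold Ffun
  rw [dif_pos ⟨R⟩]
  exact Rep.val_eq hdim hs0 ht0 hu0 hv0 _ R

theorem exists_open_finite (hL : PicF.IsInvertible L) (hN : PicF.IsInvertible N) (hs0 : s ≠ 0)
    (ht0 : t ≠ 0) (hu0 : ∀ ξ, u ξ ≠ 0) (hv0 : ∀ ξ, v ξ ≠ 0) (y : X) :
    ∃ W : X.Opens, y ∈ W ∧
      {ξ : X | ξ ∈ W ∧ ringKrullDim (X.presheaf.stalk ξ) = 1 ∧ Ffun L N s t u v ξ ≠ 1}.Finite := by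
  have hLc := isLocCyc_of_isInvertible L hL
  have hNc := isLocCyc_of_isInvertible N hN
  obtain ⟨WL, -, hyWL, tL, htL⟩ := exists_affine_generator L hL y
  obtain ⟨WN, -, hyWN, tN, htN⟩ := exists_affine_generator N hN y
  obtain ⟨_, ⟨W, hW : IsAffineOpen W, rfl⟩, hyW, hWU⟩ :=
    X.isBasis_affineOpens.exists_subset_of_mem_open
      (show y ∈ (WL : Set X) ∩ WN from ⟨hyWL, hyWN⟩) (WL.isOpen.inter WN.isOpen)
  have hWL : W ≤ WL := fun x hx => (hWU hx).1
  have hWN : W ≤ WN := fun x hx => (hWU hx).2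
  have hηW : genericPoint X ∈ W := (genericPoint_specializes y).mem_open W.isOpen hyW
  have hηWL : genericPoint X ∈ WL := hWL hηW
  have hηWN : genericPoint X ∈ WN := hWN hηW
  obtain ⟨c₀, hc₀⟩ := exists_smul_mk_eq L (genericPoint X) _ (htL _ hηWL) s
  obtain ⟨c₁, hc₁⟩ := exists_smul_mk_eq N (genericPoint X) _ (htN _ hηWN) t
  have hc₀ne : c₀ ≠ 0 := by
    rintro rfl
    exact hs0 (by rw [hc₀, zero_smul])
  have hc₁ne : c₁ ≠ 0 := by
    rintro rfl
    exact ht0 (by rw [hc₁, zero_smul])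
  obtain ⟨U₀, -, a₀, hne₀, hgerm₀, hunit₀⟩ := exists_isUnit_germ_eq (X := X) c₀ hc₀ne
  obtain ⟨U₁, -, a₁, hne₁, hgerm₁, hunit₁⟩ := exists_isUnit_germ_eq (X := X) c₁ hc₁ne
  have hηU₀ : genericPoint X ∈ U₀ :=
    ((genericPoint_spec X).mem_open_set_iff U₀.isOpen).mpr (by simpa using hne₀)
  have hηU₁ : genericPoint X ∈ U₁ :=
    ((genericPoint_spec X).mem_open_set_iff U₁.isOpen).mpr (by simpa using hne₁)
  have key : ∀ (ξ : X) (hξW : ξ ∈ W) (hξU₀ : ξ ∈ U₀) (hξU₁ : ξ ∈ U₁)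
      (hdim : ringKrullDim (X.presheaf.stalk ξ) = 1), Ffun L N s t u v ξ = 1 := by
    intro ξ hξW hξU₀ hξU₁ hdim
    have h := genericPoint_specializes ξ
    have e0 : (X.presheaf.stalkSpecializes h).hom ((X.presheaf.germ U₀ ξ hξU₀).hom a₀) = c₀ := by
      rw [← hgerm₀]
      exact ConcreteCategory.congr_hom (TopCat.Presheaf.germ_stalkSpecializes X.presheaf hξU₀ h) a₀
    have e1 : (X.presheaf.stalkSpecializes h).hom ((X.presheaf.germ U₁ ξ hξU₁).hom a₁) = c₁ := by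
      rw [← hgerm₁]
      exact ConcreteCategory.congr_hom (TopCat.Presheaf.germ_stalkSpecializes X.presheaf hξU₁ h) a₁
    have eL : L.presheaf.stalkSpecializes h ((L.presheaf.germ WL ξ (hWL hξW)).hom tL) =
        (L.presheaf.germ WL (genericPoint X) hηWL).hom tL :=
      ConcreteCategory.congr_hom
        (TopCat.Presheaf.germ_stalkSpecializes L.presheaf (hWL hξW) h) tL
    have eN : N.presheaf.stalkSpecializes h ((N.presheaf.germ WN ξ (hWN hξW)).hom tN) =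
        (N.presheaf.germ WN (genericPoint X) hηWN).hom tN :=
      ConcreteCategory.congr_hom
        (TopCat.Presheaf.germ_stalkSpecializes N.presheaf (hWN hξW) h) tN
    obtain ⟨C, hC⟩ := exists_smul_mk_eq N ξ _ (htN ξ (hWN hξW)) (u ξ)
    obtain ⟨D, hD⟩ := exists_smul_mk_eq L ξ _ (htL ξ (hWL hξW)) (v ξ)
    let R : Rep L N s t ξ (u ξ) (v ξ) :=
      ⟨(L.presheaf.germ WL ξ (hWL hξW)).hom tL, (N.presheaf.germ WN ξ (hWN hξW)).hom tN,
        htL ξ (hWL hξW), htN ξ (hWN hξW), c₀, c₁, C, D, by rw [eL]; exact hc₀,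
        by rw [eN]; exact hc₁, hC, hD⟩
    rw [Ffun_eq hdim hs0 ht0 (hu0 ξ) (hv0 ξ) R]
    exact R.val_eq_one hdim ((hunit₀.map (X.presheaf.germ U₀ ξ hξU₀).hom).unit)
      ((hunit₁.map (X.presheaf.germ U₁ ξ hξU₁).hom).unit) e0.symm e1.symm
  have hT := finite_codim_one_compl hW (U₀ ⊓ U₁) ⟨hηU₀, hηU₁⟩
  refine ⟨W, hyW, hT.subset ?_⟩
  rintro ξ ⟨hξW, hdim, hF⟩
  refine ⟨hξW, fun hξU => hF (key ξ hξW hξU.1 hξU.2 hdim), ?_⟩
  have h1 := ringKrullDim_stalk_eq_coheight ξ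
  rw [hdim] at h1
  exact_mod_cast h1.symm

end main

end Groth.Agent.Lib.helper2.Sym
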