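import Mathlib
import Groth.Agent.Lib.Helper2.Sym6
import Groth.Agent.Lib.Helper2.PPush3

/-!
# Symmetry of `c₁`, part 7: `c₁(N) ∩ div_L(s) ∼ c₁(L) ∩ div_N(t)` on an integral scheme (helper2)
-/

set_option autoImplicit false
universe u

namespace Groth.Agent.Lib.helper2.Sym

open IsLocalRing CycAlg AlgebraicGeometry CategoryTheory
open Groth.Agent.Lib.helper16.OrdGen Groth.Agent.Lib.helper16.CycOpen
open Groth.Agent.Lib.helper16.SecOrd

section main

variable {X : Scheme.{u}} [IsIntegral X] [IsLocallyNoetherian X] {L N : X.Modules}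
  {s : Cyc.secFibre L (genericPoint X)} {t : Cyc.secFibre N (genericPoint X)}
  {u : (ξ : X) → Cyc.secFibre N ξ} {v : (ξ : X) → Cyc.secFibre L ξ}

theorem pointwise (δ : X → ℤ) (hδ : Cyc.IsDimFun X δ) (hL : IsLocCyc L) (hN : IsLocCyc N)
    (hs0 : s ≠ 0) (ht0 : t ≠ 0) (hu0 : ∀ ξ, u ξ ≠ 0) (hv0 : ∀ ξ, v ξ ≠ 0) (x : X)
    (hx : δ x + 2 = δ (genericPoint X))
    (gLx : L.presheaf.stalk x) (gNx : N.presheaf.stalk x)
    (hgLx : Submodule.span (X.presheaf.stalk x) {gLx} = ⊤)
    (hgNx : Submodule.span (X.presheaf.stalk x) {gNx} = ⊤)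
    (Ax Bx : X.presheaf.stalk (genericPoint X))
    (hsx : s = Ax • (Submodule.Quotient.mk
      (L.presheaf.stalkSpecializes (genericPoint_specializes x) gLx) :
        Cyc.secFibre L (genericPoint X)))
    (htx : t = Bx • (Submodule.Quotient.mk
      (N.presheaf.stalkSpecializes (genericPoint_specializes x) gNx) :
        Cyc.secFibre N (genericPoint X))) (ξ : X) :
    Cyc.secDivFun δ L (genericPoint X) s ξ * Cyc.secDivFun δ N ξ (u ξ) x -
      Cyc.secDivFun δ N (genericPoint X) t ξ * Cyc.secDivFun δ L ξ (v ξ) x -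
      (if δ ξ + 1 = δ (genericPoint X) then Cyc.divFun δ ξ (Ffun L N s t u v ξ) x else 0) =
    - Cyc.divFun δ ξ (tameFrac (X.presheaf.stalk ξ) X.functionField Ax Bx) x := by
  by_cases hc : ξ ⤳ x ∧ δ x + 1 = δ ξ
  · have hξ : δ ξ + 1 = δ (genericPoint X) := by omega
    have hdim : ringKrullDim (X.presheaf.stalk ξ) = 1 := dim_stalk_of_delta δ hδ ξ hξ
    obtain ⟨R, hRL, hRN, hRA, hRB⟩ := exists_rep_of_generators (uξ := u ξ) (vξ := v ξ) hL hN hc.1
      gLx gNx hgLx hgNx Ax Bx hsx htx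
    have hu' := R.hu
    have hv' := R.hv
    rw [hRN] at hu'
    rw [hRL] at hv'
    have e1 : Cyc.secDivFun δ L (genericPoint X) s ξ =
        CycAlg.ordFrac (X.presheaf.stalk ξ) X.functionField Ax := by
      unfold Cyc.secDivFun
      rw [dif_pos ⟨genericPoint_specializes ξ, hξ⟩, ← hRA]
      exact R.secOrdAt_L hs0
    have e2 : Cyc.secDivFun δ N (genericPoint X) t ξ =
        CycAlg.ordFrac (X.presheaf.stalk ξ) X.functionField Bx := by
      unfold Cyc.secDivFun
      rw [dif_pos ⟨genericPoint_specializes ξ, hξ⟩, ← hRB]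
      exact R.secOrdAt_N ht0
    have e3 : Cyc.secDivFun δ N ξ (u ξ) x = Cyc.ordAt x ξ hc.1 (X.residue ξ R.C) := by
      unfold Cyc.secDivFun
      rw [dif_pos hc]
      exact secOrdAt_eq N x ξ hc.1 (u ξ) (hu0 ξ) gNx hgNx R.C hu'
    have e4 : Cyc.secDivFun δ L ξ (v ξ) x = Cyc.ordAt x ξ hc.1 (X.residue ξ R.D) := by
      unfold Cyc.secDivFun
      rw [dif_pos hc]
      exact secOrdAt_eq L x ξ hc.1 (v ξ) (hv0 ξ) gLx hgLx R.D hv'
    have e5 : Cyc.divFun δ ξ (Ffun L N s t u v ξ) x = Cyc.ordAt x ξ hc.1 R.val := by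
      unfold Cyc.divFun
      rw [dif_pos hc, Ffun_eq hdim hs0 ht0 (hu0 ξ) (hv0 ξ) R]
    have e6 : Cyc.divFun δ ξ (tameFrac (X.presheaf.stalk ξ) X.functionField Ax Bx) x =
        Cyc.ordAt x ξ hc.1 (tameFrac (X.presheaf.stalk ξ) X.functionField Ax Bx) := by
      unfold Cyc.divFun
      rw [dif_pos hc]
    rw [if_pos hξ, e1, e2, e3, e4, e5, e6, R.ordAt_val hdim hs0 ht0 (hu0 ξ) (hv0 ξ) hc.1, hRA, hRB]
    ring
  · have e3 : Cyc.secDivFun δ N ξ (u ξ) x = 0 := by
      unfold Cyc.secDivFun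
      rw [dif_neg hc]
    have e4 : Cyc.secDivFun δ L ξ (v ξ) x = 0 := by
      unfold Cyc.secDivFun
      rw [dif_neg hc]
    have e5 : ∀ f, Cyc.divFun δ ξ f x = 0 := by
      intro f
      unfold Cyc.divFun
      rw [dif_neg hc]
    rw [e3, e4, e5, e5]
    simp

omit [IsIntegral X] [IsLocallyNoetherian X] in
theorem divFun_one (δ : X → ℤ) (ξ x : X) : Cyc.divFun δ ξ 1 x = 0 := by
  unfold Cyc.divFun
  split_ifs with h
  · exact ordAt_one h.1
  · rfl

/-- the supports of the terms of `c₁(N) ∩ div_L(s)` at `x` are finite -/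
theorem finite_support_cap (δ : X → ℤ) (hδ : Cyc.IsDimFun X δ) (hL : PicF.IsInvertible L)
    (hs0 : s ≠ 0) (x : X) :
    (Function.support fun ξ =>
      Cyc.secDivFun δ L (genericPoint X) s ξ * Cyc.secDivFun δ N ξ (u ξ) x).Finite := by
  obtain ⟨W, hW, hxW, tW, htW⟩ := exists_affine_generator L hL x
  refine (Groth.Agent.Lib.helper2.PPush.finite_secDivFun_ne_zero δ hδ L hW le_rfl tW htW
    (genericPoint X) s hs0).subset ?_
  intro ξ hξ
  have h1 : Cyc.secDivFun δ L (genericPoint X) s ξ ≠ 0 := left_ne_zero_of_mul hξ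
  have h2 : Cyc.secDivFun δ N ξ (u ξ) x ≠ 0 := right_ne_zero_of_mul hξ
  have h3 := (Groth.Agent.Lib.helper2.PPush.secDivFun_ne_zero_specializes δ N ξ (u ξ) x h2).1
  exact ⟨h3.mem_open W.isOpen hxW, h1⟩

/-- **Symmetry**: `c₁(N) ∩ div_L(s) ∼_rat c₁(L) ∩ div_N(t)` on an integral scheme. -/
theorem c1_symm (δ : X → ℤ) (hδ : Cyc.IsDimFun X δ) (n : ℤ) (hn : δ (genericPoint X) = n)
    (hL : PicF.IsInvertible L) (hN : PicF.IsInvertible N) (hs0 : s ≠ 0) (ht0 : t ≠ 0)
    (hu0 : ∀ ξ, u ξ ≠ 0) (hv0 : ∀ ξ, v ξ ≠ 0) (γ₁ γ₂ : AlgebraicCycle X ℤ)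
    (h₁ : ⇑γ₁ = Cyc.c1CapFun δ N (Cyc.secDivFun δ L (genericPoint X) s) u)
    (h₂ : ⇑γ₂ = Cyc.c1CapFun δ L (Cyc.secDivFun δ N (genericPoint X) t) v) :
    Cyc.RatEquiv δ (n - 2) γ₁ γ₂ := by
  classical
  have hLc := isLocCyc_of_isInvertible L hL
  have hNc := isLocCyc_of_isInvertible N hN
  refine ⟨{ξ : X // δ ξ + 1 = n ∧ Ffun L N s t u v ξ ≠ 1}, fun i => i.1,
    fun i => Ffun L N s t u v i.1, ?_, ?_, ?_, ?_⟩
  · intro i
    have := i.2.1
    show δ i.1 = n - 2 + 1
    omega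
  · intro i
    show Ffun L N s t u v i.1 ≠ 0
    have hdim : ringKrullDim (X.presheaf.stalk i.1) = 1 :=
      dim_stalk_of_delta δ hδ i.1 (by rw [hn]; exact i.2.1)
    obtain ⟨R⟩ := nonempty_rep (s := s) (t := t) (ξ := i.1) (uξ := u i.1) (vξ := v i.1) hLc hNc
    rw [Ffun_eq hdim hs0 ht0 (hu0 _) (hv0 _) R]
    exact R.val_ne_zero hdim hs0 ht0 (hu0 _) (hv0 _)
  · intro x
    obtain ⟨W, hxW, hfin⟩ := exists_open_finite hL hN hs0 ht0 hu0 hv0 x
    refine ⟨W, W.isOpen, hxW, ?_⟩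
    apply (hfin.preimage Subtype.val_injective.injOn).subset
    rintro i ⟨z, hz1, hz2⟩
    have hiz : i.1 ⤳ z := specializes_iff_mem_closure.2 hz1
    exact ⟨hiz.mem_open W.isOpen hz2, dim_stalk_of_delta δ hδ i.1 (by rw [hn]; exact i.2.1),
      i.2.2⟩
  · intro x
    -- the right-hand side as a sum over all points
    have hrhs : ∑ᶠ i : {ξ : X // δ ξ + 1 = n ∧ Ffun L N s t u v ξ ≠ 1},
        Cyc.divFun δ i.1 (Ffun L N s t u v i.1) x =
        ∑ᶠ ξ, (if δ ξ + 1 = δ (genericPoint X) then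
          Cyc.divFun δ ξ (Ffun L N s t u v ξ) x else 0) := by
      rw [finsum_subtype_eq_finsum_cond (fun ξ => δ ξ + 1 = n ∧ Ffun L N s t u v ξ ≠ 1)
        (f := fun ξ => Cyc.divFun δ ξ (Ffun L N s t u v ξ) x)]
      apply finsum_congr
      intro ξ
      rw [finsum_eq_if, hn]
      by_cases hξ : δ ξ + 1 = n
      · by_cases hF : Ffun L N s t u v ξ = 1
        · rw [if_neg (fun h => h.2 hF), if_pos hξ, hF, divFun_one]
        · rw [if_pos ⟨hξ, hF⟩, if_pos hξ]
      · rw [if_neg (fun h => hξ h.1), if_neg hξ]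
    rw [hrhs]
    have hlhs : (γ₁ - γ₂) x = γ₁ x - γ₂ x := by
      rw [Function.locallyFinsuppWithin.coe_sub]
      rfl
    rw [hlhs, h₁, h₂]
    unfold Cyc.c1CapFun
    by_cases hx : δ x + 2 = δ (genericPoint X)
    · obtain ⟨gLx, hgLx⟩ := hLc.cyc x
      obtain ⟨gNx, hgNx⟩ := hNc.cyc x
      obtain ⟨Ax, hAx⟩ := exists_smul_mk_eq L (genericPoint X) _
        (hLc.spec x (genericPoint X) (genericPoint_specializes x) gLx hgLx) s
      obtain ⟨Bx, hBx⟩ := exists_smul_mk_eq N (genericPoint X) _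
        (hNc.spec x (genericPoint X) (genericPoint_specializes x) gNx hgNx) t
      have hAx0 : Ax ≠ 0 := by
        rintro rfl
        exact hs0 (by rw [hAx, zero_smul])
      have hBx0 : Bx ≠ 0 := by
        rintro rfl
        exact ht0 (by rw [hBx, zero_smul])
      have hpt := pointwise δ hδ hLc hNc hs0 ht0 hu0 hv0 x hx gLx gNx hgLx hgNx Ax Bx hAx hBx
      obtain ⟨f4, s4⟩ := finsum_divFun_tameFrac δ hδ x hx (A := Ax) (B := Bx) hAx0 hBx0
      have f1 := finite_support_cap (N := N) (u := u) δ hδ hL hs0 x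
      have f2 := finite_support_cap (N := L) (u := v) δ hδ hN ht0 x
      have f3 : (Function.support fun ξ => (if δ ξ + 1 = δ (genericPoint X) then
          Cyc.divFun δ ξ (Ffun L N s t u v ξ) x else 0)).Finite := by
        obtain ⟨W, hxW, hfin⟩ := exists_open_finite hL hN hs0 ht0 hu0 hv0 x
        refine hfin.subset ?_
        intro ξ hξ
        have hξ' : (if δ ξ + 1 = δ (genericPoint X) then
          Cyc.divFun δ ξ (Ffun L N s t u v ξ) x else 0) ≠ 0 := hξ
        split_ifs at hξ' with hd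
        · have hsp : ξ ⤳ x := by
            unfold Cyc.divFun at hξ'
            split_ifs at hξ' with hc
            · exact hc.1
            · exact absurd rfl hξ'
          refine ⟨hsp.mem_open W.isOpen hxW, dim_stalk_of_delta δ hδ ξ hd, ?_⟩
          intro hF
          rw [hF, divFun_one] at hξ'
          exact hξ' rfl
        · exact absurd rfl hξ'
      have f12 : (Function.support fun ξ =>
          Cyc.secDivFun δ L (genericPoint X) s ξ * Cyc.secDivFun δ N ξ (u ξ) x -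
          Cyc.secDivFun δ N (genericPoint X) t ξ * Cyc.secDivFun δ L ξ (v ξ) x).Finite :=
        (f1.union f2).subset (Function.support_sub _ _)
      have hsum : ∑ᶠ ξ, (Cyc.secDivFun δ L (genericPoint X) s ξ * Cyc.secDivFun δ N ξ (u ξ) x -
          Cyc.secDivFun δ N (genericPoint X) t ξ * Cyc.secDivFun δ L ξ (v ξ) x -
          (if δ ξ + 1 = δ (genericPoint X) then
            Cyc.divFun δ ξ (Ffun L N s t u v ξ) x else 0)) = 0 := by
        rw [finsum_congr hpt, finsum_neg_distrib, s4, neg_zero]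
      rw [finsum_sub_distrib f12 f3, finsum_sub_distrib f1 f2] at hsum
      linarith
    · have z1 : ∀ ξ, Cyc.secDivFun δ L (genericPoint X) s ξ * Cyc.secDivFun δ N ξ (u ξ) x = 0 := by
        intro ξ
        by_contra hne
        have h1 := Groth.Agent.Lib.helper2.PPush.secDivFun_ne_zero_specializes δ L _ s ξ
          (left_ne_zero_of_mul hne)
        have h2 := Groth.Agent.Lib.helper2.PPush.secDivFun_ne_zero_specializes δ N ξ (u ξ) x
          (right_ne_zero_of_mul hne)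
        omega
      have z2 : ∀ ξ, Cyc.secDivFun δ N (genericPoint X) t ξ * Cyc.secDivFun δ L ξ (v ξ) x = 0 := by
        intro ξ
        by_contra hne
        have h1 := Groth.Agent.Lib.helper2.PPush.secDivFun_ne_zero_specializes δ N _ t ξ
          (left_ne_zero_of_mul hne)
        have h2 := Groth.Agent.Lib.helper2.PPush.secDivFun_ne_zero_specializes δ L ξ (v ξ) x
          (right_ne_zero_of_mul hne)
        omega
      have z3 : ∀ ξ, (if δ ξ + 1 = δ (genericPoint X) then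
          Cyc.divFun δ ξ (Ffun L N s t u v ξ) x else 0) = 0 := by
        intro ξ
        split_ifs with hd
        · unfold Cyc.divFun
          rw [dif_neg]
          intro hc
          omega
        · rfl
      rw [finsum_congr z1, finsum_congr z2, finsum_congr z3]
      simp

end main

end Groth.Agent.Lib.helper2.Sym
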