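import Mathlib
import Groth.Agent.Lib.Helper2.Sym7
import Groth.Agent.Lib.Helper2.PushPt6
import Groth.Agent.Lib.Helper2.ExtRat1
import Groth.Agent.Lib.Helper2.FPull1
import Groth.Agent.Lib.Helper2.PPush2
import Groth.Agent.Lib.Helper16.CycClosed4
import Groth.Agent.Lib.Helper16.GysinFlat1

/-!
# Commutativity of `c₁`, part 1: the case of the closure of one point (helper2)
-/

set_option autoImplicit false
universe u

namespace Groth.Agent.Lib.helper2.C1Comm

open IsLocalRing CycAlg AlgebraicGeometry CategoryTheory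
open Groth.Agent.Lib.helper16.SecOrd Groth.Agent.Lib.helper16.CycClosed
open Groth.Agent.Lib.helper16.PullStalk Groth.Agent.Lib.helper2.PushPt
open Groth.Agent.Lib.helper2.ExtRat Groth.Agent.Lib.helper2.PPush

variable {X : Scheme.{u}}

theorem deltaCompat_closedImmersion {Z : Scheme.{u}} (ι : Z ⟶ X) [IsClosedImmersion ι]
    (δ : X → ℤ) : Cyc.DeltaCompat ι (fun z => δ (ι z)) δ := by
  have h0 : Cyc.DeltaCompat (𝟙 X) δ δ :=
    Groth.Agent.Lib.helper2.FPull.deltaCompat_iso (Iso.refl X) δ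
  have := Groth.Agent.Lib.helper16.GysinFlat.deltaCompat_closedImmersion_comp ι (𝟙 X) δ δ h0
  rwa [Category.comp_id] at this

theorem pullSec_family_ne_zero {Z : Scheme.{u}} (ι : Z ⟶ X) (M : X.Modules)
    (hM : PicF.IsInvertible M) (σ : (x : X) → Cyc.secFibre M x) (hσ : ∀ x, σ x ≠ 0) (z : Z) :
    pullSec ι z M (σ (ι z)) ≠ 0 := by
  obtain ⟨t, ht⟩ := (isLocCyc_of_isInvertible M hM).cyc (ι z)
  obtain ⟨e, he⟩ := exists_secFibre_ne_zero _ (isInvertible_pullback ι M hM) z
  exact pullSec_ne_zero ι z M t ht e he _ (hσ (ι z))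

open Classical in
/-- `c₁(M) ∩ [ξ]` for the cycle `[ξ]` with the single coefficient `1` at `ξ` -/
theorem c1CapFun_single (δ : X → ℤ) (M : X.Modules) (σ : (x : X) → Cyc.secFibre M x) (ξ : X)
    (β : X → ℤ) (hβ : ∀ y, β y = if y = ξ then 1 else 0) :
    Cyc.c1CapFun δ M β σ = Cyc.secDivFun δ M ξ (σ ξ) := by
  funext x
  unfold Cyc.c1CapFun
  rw [finsum_eq_single _ ξ]
  · rw [hβ ξ, if_pos rfl, one_mul]
  · intro y hy
    rw [hβ y, if_neg hy, zero_mul]

open Classical in
/-- **commutativity of `c₁` on the closure of one point** -/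
theorem ratEquivZeroIn_point (δ : X → ℤ) (hX : Cyc.IsSetup X δ) (L N : X.Modules)
    (hL : PicF.IsInvertible L) (hN : PicF.IsInvertible N)
    (sL sL' : (x : X) → Cyc.secFibre L x) (sN sN' : (x : X) → Cyc.secFibre N x)
    (hsL : ∀ x, sL x ≠ 0) (hsL' : ∀ x, sL' x ≠ 0) (hsN : ∀ x, sN x ≠ 0) (hsN' : ∀ x, sN' x ≠ 0)
    (ξ : X) (k : ℤ) (hξ : δ ξ = k + 2) :
    RatEquivZeroIn δ k (fun x => Cyc.c1CapFun δ L (Cyc.secDivFun δ N ξ (sN ξ)) sL x -
      Cyc.c1CapFun δ N (Cyc.secDivFun δ L ξ (sL' ξ)) sN' x) (closure {ξ}) := by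
  haveI := hX.1
  set j := jc ξ with hj
  have hW : Cyc.IsSetup (Wc ξ) (fun w => δ (j w)) := isSetup_closedImmersion j δ hX
  haveI := hW.1
  have hδj : Cyc.DeltaCompat j (fun w => δ (j w)) δ := deltaCompat_closedImmersion j δ
  have hη : j (genericPoint (Wc ξ)) = ξ := jc_genericPoint ξ
  have hLW := isInvertible_pullback j L hL
  have hNW := isInvertible_pullback j N hN
  have hLc := isLocCyc_of_isInvertible L hL
  have hNc := isLocCyc_of_isInvertible N hN
  -- the pulled back sections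
  have hpL := pullSec_family_ne_zero j L hL sL hsL
  have hpL' := pullSec_family_ne_zero j L hL sL' hsL'
  have hpN := pullSec_family_ne_zero j N hN sN hsN
  have hpN' := pullSec_family_ne_zero j N hN sN' hsN'
  -- the fundamental cycle of `W`
  let FW : AlgebraicCycle (Wc ξ) ℤ := Function.locallyFinsuppWithin.single (genericPoint (Wc ξ)) 1
  have hFW : ∀ w, FW w = if w = genericPoint (Wc ξ) then 1 else 0 := fun w =>
    Function.locallyFinsuppWithin.single_apply
  obtain ⟨DN, hDN⟩ := exists_cycle_c1CapFun (fun w => δ (j w)) hW.2.2 _ hNW FW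
    (fun w => pullSec j w N (sN (j w))) hpN
  obtain ⟨DL, hDL⟩ := exists_cycle_c1CapFun (fun w => δ (j w)) hW.2.2 _ hLW FW
    (fun w => pullSec j w L (sL' (j w))) hpL'
  have hDN' := hDN.trans (c1CapFun_single (fun w => δ (j w)) _ _ (genericPoint (Wc ξ)) _ hFW)
  have hDL' := hDL.trans (c1CapFun_single (fun w => δ (j w)) _ _ (genericPoint (Wc ξ)) _ hFW)
  obtain ⟨G2, hG2⟩ := exists_cycle_c1CapFun (fun w => δ (j w)) hW.2.2 _ hLW DN
    (fun w => pullSec j w L (sL (j w))) hpL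
  obtain ⟨G1, hG1⟩ := exists_cycle_c1CapFun (fun w => δ (j w)) hW.2.2 _ hNW DL
    (fun w => pullSec j w N (sN' (j w))) hpN'
  have key : Cyc.RatEquiv (fun w => δ (j w)) (k + 2 - 2) G1 G2 :=
    Groth.Agent.Lib.helper2.Sym.c1_symm (fun w => δ (j w)) hW.2.2 (k + 2)
      (by show δ (j (genericPoint (Wc ξ))) = k + 2; rw [hη, hξ]) hLW hNW
      (hpL' (genericPoint (Wc ξ))) (hpN (genericPoint (Wc ξ))) hpN' hpL G1 G2
      (by rw [hG1, hDL']) (by rw [hG2, hDN'])
  have hk : k + 2 - 2 = k := by ring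
  rw [hk] at key
  have key' : Cyc.RatEquivZero (fun w => δ (j w)) k (G2 - G1) := ratEquiv_symm _ _ _ _ key
  -- push forward
  have m2 := map_c1CapFun_pullSec (fun w => δ (j w)) δ hW hX j hδj L hLc
    (fun w => pullSec j w L (sL (j w))) hpL DN sL hsL G2 hG2
  have mDN := map_c1CapFun_pullSec (fun w => δ (j w)) δ hW hX j hδj N hNc
    (fun w => pullSec j w N (sN (j w))) hpN FW sN hsN DN hDN
  have m1 := map_c1CapFun_pullSec (fun w => δ (j w)) δ hW hX j hδj N hNc
    (fun w => pullSec j w N (sN' (j w))) hpN' DL sN' hsN' G1 hG1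
  have mDL := map_c1CapFun_pullSec (fun w => δ (j w)) δ hW hX j hδj L hLc
    (fun w => pullSec j w L (sL' (j w))) hpL' FW sL' hsL' DL hDL
  have hinj : Function.Injective j := j.isClosedEmbedding.injective
  have hpush : ∀ y, (AlgebraicCycle.map j (fun w => δ (j w)) δ FW) y = if y = ξ then 1 else 0 := by
    intro y
    by_cases hy : y ∈ Set.range j
    · obtain ⟨w, rfl⟩ := hy
      rw [map_apply j _ δ (fun _ => rfl), hFW w]
      by_cases hw : w = genericPoint (Wc ξ)
      · rw [if_pos hw, if_pos (by rw [hw, hη])]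
      · rw [if_neg hw, if_neg (fun h => hw (hinj (h.trans hη.symm)))]
    · rw [map_apply_of_notMem_range j _ δ FW y hy, if_neg]
      rintro rfl
      exact hy ⟨_, hη⟩
  rw [c1CapFun_single δ N sN ξ _ hpush] at mDN
  rw [c1CapFun_single δ L sL' ξ _ hpush] at mDL
  rw [mDN] at m2
  rw [mDL] at m1
  have hin := ratEquivZeroIn_map j δ k (G2 - G1) key'
  rw [range_jc] at hin
  have hfun : ⇑(AlgebraicCycle.map j (fun w => δ (j w)) δ (G2 - G1)) =
      fun x => Cyc.c1CapFun δ L (Cyc.secDivFun δ N ξ (sN ξ)) sL x -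
        Cyc.c1CapFun δ N (Cyc.secDivFun δ L ξ (sL' ξ)) sN' x := by
    funext y
    rw [← m2, ← m1]
    by_cases hy : y ∈ Set.range j
    · obtain ⟨w, rfl⟩ := hy
      rw [map_apply j _ δ (fun _ => rfl), map_apply j _ δ (fun _ => rfl),
        map_apply j _ δ (fun _ => rfl), Function.locallyFinsuppWithin.coe_sub]
      rfl
    · rw [map_apply_of_notMem_range j _ δ _ y hy, map_apply_of_notMem_range j _ δ _ y hy,
        map_apply_of_notMem_range j _ δ _ y hy, sub_zero]
  rw [hfun] at hin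
  exact hin

end Groth.Agent.Lib.helper2.C1Comm
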