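import Mathlib
import Groth.Agent.Lib.Helper2.C1Comm1

/-!
# Commutativity of `c₁`, part 2: `c₁(L) ∩ c₁(N) ∩ α ∼ c₁(N) ∩ c₁(L) ∩ α` (helper2)
-/

set_option autoImplicit false
universe u

namespace Groth.Agent.Lib.helper2.C1Comm

open IsLocalRing CycAlg AlgebraicGeometry CategoryTheory
open Groth.Agent.Lib.helper16.SecOrd Groth.Agent.Lib.helper16.CycClosed
open Groth.Agent.Lib.helper16.PullStalk Groth.Agent.Lib.helper2.PushPt
open Groth.Agent.Lib.helper2.ExtRat Groth.Agent.Lib.helper2.PPush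

variable {X : Scheme.{u}}

/-- `c₁(L) ∩ (c₁(N) ∩ α)` as a sum over the points of `α` -/
theorem c1CapFun_c1CapFun_eq [IsLocallyNoetherian X] (δ : X → ℤ) (hδ : Cyc.IsDimFun X δ)
    (L N : X.Modules) (hN : PicF.IsInvertible N) (α : AlgebraicCycle X ℤ)
    (sN : (x : X) → Cyc.secFibre N x) (hsN : ∀ x, sN x ≠ 0)
    (sL : (x : X) → Cyc.secFibre L x) (x : X) :
    Cyc.c1CapFun δ L (Cyc.c1CapFun δ N ⇑α sN) sL x =
      ∑ᶠ ξ, α ξ * Cyc.c1CapFun δ L (Cyc.secDivFun δ N ξ (sN ξ)) sL x := by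
  classical
  set K : Set X := {ζ | ζ ⤳ x} with hK
  set c : X → ℤ := fun ζ => Cyc.secDivFun δ L ζ (sL ζ) x with hc
  have hc0 : ∀ ζ, ζ ∉ K → c ζ = 0 := by
    intro ζ hζ
    by_contra hne
    exact hζ (secDivFun_ne_zero_specializes δ L ζ (sL ζ) x hne).1
  set D : X → X → ℤ := fun ξ ζ => α ξ * Cyc.secDivFun δ N ξ (sN ξ) ζ with hD
  have hI₀ := finite_specializes_support α x
  have h0 : ∀ ξ, ξ ∉ {ξ : X | α ξ ≠ 0 ∧ ξ ⤳ x} → ∀ ζ ∈ K, D ξ ζ = 0 := by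
    intro ξ hξ ζ hζ
    by_contra hne
    apply hξ
    refine ⟨left_ne_zero_of_mul hne, ?_⟩
    exact (secDivFun_ne_zero_specializes δ N ξ (sN ξ) ζ (right_ne_zero_of_mul hne)).1.trans hζ
  have hfin : ∀ ξ ∈ {ξ : X | α ξ ≠ 0 ∧ ξ ⤳ x}, (K ∩ Function.support (D ξ)).Finite := by
    intro ξ _
    obtain ⟨W, hW, hxW, tW, htW⟩ := exists_affine_generator N hN x
    refine (finite_secDivFun_ne_zero δ hδ N hW le_rfl tW htW ξ (sN ξ) (hsN ξ)).subset ?_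
    rintro ζ ⟨hζK, hζ⟩
    exact ⟨(hζK : ζ ⤳ x).mem_open W.isOpen hxW, right_ne_zero_of_mul hζ⟩
  have key := finsum_mem_finsum_comm K D _ hI₀ h0 hfin c
  have hl : Cyc.c1CapFun δ L (Cyc.c1CapFun δ N ⇑α sN) sL x =
      ∑ᶠ ζ ∈ K, (∑ᶠ ξ, D ξ ζ) * c ζ := by
    unfold Cyc.c1CapFun
    apply finsum_eq_finsum_mem_of_forall
    intro ζ hζ
    have h := hc0 ζ hζ
    show _ * c ζ = 0
    rw [h, mul_zero]
  have hr : ∀ ξ, α ξ * Cyc.c1CapFun δ L (Cyc.secDivFun δ N ξ (sN ξ)) sL x =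
      ∑ᶠ ζ ∈ K, D ξ ζ * c ζ := by
    intro ξ
    unfold Cyc.c1CapFun
    rw [mul_finsum]
    have : ∑ᶠ ζ, α ξ * (Cyc.secDivFun δ N ξ (sN ξ) ζ * Cyc.secDivFun δ L ζ (sL ζ) x) =
        ∑ᶠ ζ, D ξ ζ * c ζ := finsum_congr fun ζ => (mul_assoc _ _ _).symm
    rw [this]
    apply finsum_eq_finsum_mem_of_forall
    intro ζ hζ
    have h := hc0 ζ hζ
    show _ * c ζ = 0
    rw [h, mul_zero]
  rw [hl, key]
  exact finsum_congr fun ξ => (hr ξ).symm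

/-- **commutativity of `c₁`** (= S1922) -/
theorem ratEquiv_c1_comm (δ : X → ℤ) (hX : Cyc.IsSetup X δ) (L N : X.Modules)
    (hL : PicF.IsInvertible L) (hN : PicF.IsInvertible N) (k : ℤ) (α : AlgebraicCycle X ℤ)
    (hα : α ∈ Cyc.Zk X δ (k + 2)) (sL sL' : (ξ : X) → Cyc.secFibre L ξ)
    (sN sN' : (ξ : X) → Cyc.secFibre N ξ) (hsL : ∀ ξ, sL ξ ≠ 0) (hsL' : ∀ ξ, sL' ξ ≠ 0)
    (hsN : ∀ ξ, sN ξ ≠ 0) (hsN' : ∀ ξ, sN' ξ ≠ 0) (γ₁ γ₂ : AlgebraicCycle X ℤ)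
    (h₁ : ⇑γ₁ = Cyc.c1CapFun δ L (Cyc.c1CapFun δ N ⇑α sN) sL)
    (h₂ : ⇑γ₂ = Cyc.c1CapFun δ N (Cyc.c1CapFun δ L ⇑α sL') sN') :
    Cyc.RatEquiv δ k γ₁ γ₂ := by
  classical
  haveI := hX.1
  have hδ := hX.2.2
  refine ratEquivZero_of_sum δ k (T := {ξ : X // α ξ ≠ 0}) (fun t => closure {t.1})
    (fun t => isClosed_closure) ?_ (fun t => α t.1)
    (fun t x => Cyc.c1CapFun δ L (Cyc.secDivFun δ N t.1 (sN t.1)) sL x -
      Cyc.c1CapFun δ N (Cyc.secDivFun δ L t.1 (sL' t.1)) sN' x) ?_ (γ₁ - γ₂) ?_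
  · intro x
    obtain ⟨V, hV, hfin⟩ := α.supportLocallyFiniteWithinDomain' x trivial
    refine ⟨interior V, isOpen_interior, mem_interior_iff_mem_nhds.2 hV, ?_⟩
    apply (hfin.preimage Subtype.val_injective.injOn).subset
    rintro i ⟨z, hz1, hz2⟩
    have hiz : i.1 ⤳ z := specializes_iff_mem_closure.2 hz1
    exact ⟨interior_subset (hiz.mem_open isOpen_interior hz2), i.2⟩
  · intro t
    have ht : δ t.1 = k + 2 := by
      by_contra hne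
      exact t.2 (hα t.1 hne)
    exact ratEquivZeroIn_point δ hX L N hL hN sL sL' sN sN' hsL hsL' hsN hsN' t.1 k ht
  · intro x
    have hlhs : (γ₁ - γ₂) x = γ₁ x - γ₂ x := by
      rw [Function.locallyFinsuppWithin.coe_sub]
      rfl
    rw [hlhs, h₁, h₂, c1CapFun_c1CapFun_eq δ hδ L N hN α sN hsN sL x,
      c1CapFun_c1CapFun_eq δ hδ N L hL α sL' hsL' sN' x]
    have hsupp : ∀ F : X → ℤ, (∀ ξ, ¬ ξ ⤳ x → F ξ = 0) →
        (Function.support fun ξ => α ξ * F ξ).Finite := by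
      intro F hF
      refine (finite_specializes_support α x).subset ?_
      intro ξ hξ
      rw [Function.mem_support] at hξ
      refine ⟨left_ne_zero_of_mul hξ, ?_⟩
      by_contra hne
      exact hξ (by rw [hF ξ hne, mul_zero])
    have hcap0 : ∀ (M M' : X.Modules) (σ : (y : X) → Cyc.secFibre M y)
        (τ : (y : X) → Cyc.secFibre M' y) (ξ : X), ¬ ξ ⤳ x →
        Cyc.c1CapFun δ M (Cyc.secDivFun δ M' ξ (τ ξ)) σ x = 0 := by
      intro M M' σ τ ξ hξ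
      unfold Cyc.c1CapFun
      apply finsum_eq_zero_of_forall_eq_zero
      intro ζ
      by_contra hne
      apply hξ
      exact (secDivFun_ne_zero_specializes δ M' ξ (τ ξ) ζ (left_ne_zero_of_mul hne)).1.trans
        (secDivFun_ne_zero_specializes δ M ζ (σ ζ) x (right_ne_zero_of_mul hne)).1
    rw [← finsum_sub_distrib (hsupp _ (hcap0 L N sL sN)) (hsupp _ (hcap0 N L sN' sL'))]
    rw [finsum_subtype_eq_finsum_cond (fun ξ => α ξ ≠ 0)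
      (f := fun ξ => α ξ * (Cyc.c1CapFun δ L (Cyc.secDivFun δ N ξ (sN ξ)) sL x -
        Cyc.c1CapFun δ N (Cyc.secDivFun δ L ξ (sL' ξ)) sN' x))]
    apply finsum_congr
    intro ξ
    rw [finsum_eq_if]
    by_cases hξ : α ξ = 0
    · rw [if_neg (not_not.2 hξ), hξ, zero_mul, zero_mul, sub_zero]
    · rw [if_pos hξ]
      ring

end Groth.Agent.Lib.helper2.C1Comm
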