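import Mathlib
import Groth.Agent.Lib.Helper2.C1Comm2
import Groth.Agent.Lib.Helper2.AffB6
import Groth.Agent.Lib.Helper16.SecOrd4
import Groth.Agent.Lib.Helper16.CycClosed3
import Groth.Agent.Lib.Helper11.InvMod

/-!
# `c₁(L) ∩ -` and rational equivalence, part 1: `c₁(L) ∩ div(f) ∼ 0` on an integral scheme (helper2)
-/

set_option autoImplicit false
universe u

namespace Groth.Agent.Lib.helper2.C1Rat

open IsLocalRing CycAlg AlgebraicGeometry CategoryTheory
open Groth.Agent.Lib.helper16.SecOrd Groth.Agent.Lib.helper16.CycClosed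
open Groth.Agent.Lib.helper16.PullStalk Groth.Agent.Lib.helper2.PushPt
open Groth.Agent.Lib.helper2.ExtRat Groth.Agent.Lib.helper2.PPush
open Groth.Agent.Lib.helper2.C1Comm

variable {X : Scheme.{u}}

/-- the germ of `1` in the structure module -/
noncomputable def one1 (x : X) : (Coh.structureModule X).presheaf.stalk x :=
  ((Coh.structureModule X).presheaf.germ ⊤ x trivial).hom
    ((1 : Γ(X, ⊤)) : Γ(Coh.structureModule X, ⊤))

theorem span_one1 (x : X) : Submodule.span (X.presheaf.stalk x) {one1 x} = ⊤ :=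
  span_germ_one_structureModule x

theorem stalkSpecializes_one1 {x ξ : X} (h : ξ ⤳ x) :
    (Coh.structureModule X).presheaf.stalkSpecializes h (one1 x) = one1 ξ :=
  ConcreteCategory.congr_hom (TopCat.Presheaf.germ_stalkSpecializes
    (Coh.structureModule X).presheaf (show x ∈ (⊤ : X.Opens) from trivial) h) _

theorem mk_one1_ne_zero (x : X) :
    (Submodule.Quotient.mk (one1 x) : Cyc.secFibre (Coh.structureModule X) x) ≠ 0 := by
  obtain ⟨e, he⟩ := exists_secFibre_ne_zero (Coh.structureModule X)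
    (Groth.Agent.Lib.helper11.InvMod.isInvertible_structureModule X) x
  obtain ⟨c, hc⟩ := exists_smul_mk_eq _ x _ (span_one1 x) e
  intro h0
  apply he
  rw [hc, h0, smul_zero]

/-- the rational section of the structure module attached to a rational function -/
theorem secDivFun_structureModule (δ : X → ℤ) (ξ : X) (f' : X.presheaf.stalk ξ)
    (hf : X.residue ξ f' ≠ 0) :
    (f' • (Submodule.Quotient.mk (one1 ξ) : Cyc.secFibre (Coh.structureModule X) ξ) ≠ 0) ∧
    Cyc.secDivFun δ (Coh.structureModule X) ξ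
      (f' • (Submodule.Quotient.mk (one1 ξ) : Cyc.secFibre (Coh.structureModule X) ξ)) =
      Cyc.divFun δ ξ (X.residue ξ f') := by
  have hne : f' • (Submodule.Quotient.mk (one1 ξ) :
      Cyc.secFibre (Coh.structureModule X) ξ) ≠ 0 := by
    intro h0
    have := mem_of_smul_eq_zero _ ξ (mk_one1_ne_zero ξ) h0
    exact hf ((IsLocalRing.residue_eq_zero_iff _).2 this)
  refine ⟨hne, ?_⟩
  funext x
  unfold Cyc.secDivFun Cyc.divFun
  by_cases h : ξ ⤳ x ∧ δ x + 1 = δ ξ
  · rw [dif_pos h, dif_pos h]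
    exact secOrdAt_eq _ x ξ h.1 _ hne (one1 x) (span_one1 x) f'
      (by rw [stalkSpecializes_one1])
  · rw [dif_neg h, dif_neg h]

open Classical in
/-- on an integral scheme, `c₁(L) ∩ div(f) ∼ 0` -/
theorem ratEquivZero_c1CapFun_divFun_integral [IsIntegral X] (δ : X → ℤ) (hX : Cyc.IsSetup X δ)
    (n : ℤ) (hn : δ (genericPoint X) = n) (L : X.Modules) (hL : PicF.IsInvertible L)
    (v : (ξ : X) → Cyc.secFibre L ξ) (hv : ∀ ξ, v ξ ≠ 0)
    (f : X.residueField (genericPoint X)) (hf : f ≠ 0) (γ : AlgebraicCycle X ℤ)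
    (hγ : ⇑γ = Cyc.c1CapFun δ L (Cyc.divFun δ (genericPoint X) f) v) :
    Cyc.RatEquivZero δ (n - 2) γ := by
  haveI := hX.1
  have hδ := hX.2.2
  have hO := Groth.Agent.Lib.helper11.InvMod.isInvertible_structureModule X
  obtain ⟨f', rfl⟩ := X.residue_surjective (genericPoint X) f
  obtain ⟨ht0, htdiv⟩ := secDivFun_structureModule δ (genericPoint X) f' hf
  obtain ⟨u, hu⟩ := exists_nowhere_zero (Coh.structureModule X) hO
  -- the cycle `div_L(v η)`
  let FW : AlgebraicCycle X ℤ := Function.locallyFinsuppWithin.single (genericPoint X) 1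
  have hFW : ∀ w, FW w = if w = genericPoint X then 1 else 0 := fun w =>
    Function.locallyFinsuppWithin.single_apply
  obtain ⟨DL, hDL⟩ := exists_cycle_c1CapFun δ hδ L hL FW v hv
  have hDL' := hDL.trans (c1CapFun_single δ L v (genericPoint X) _ hFW)
  have hDLk : DL ∈ Cyc.Zk X δ (n - 2 + 1) := by
    intro x hx
    by_contra hne
    rw [hDL'] at hne
    have := (secDivFun_ne_zero_specializes δ L _ _ x hne).2
    omega
  obtain ⟨G1, hG1⟩ := exists_cycle_c1CapFun δ hδ _ hO DL u hu
  have h1 : Cyc.RatEquivZero δ (n - 2) G1 :=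
    ratEquivZero_c1CapFun_structureModule δ (n - 2) DL hDLk u hu G1 hG1
  have key : Cyc.RatEquiv δ (n - 2) G1 γ :=
    Groth.Agent.Lib.helper2.Sym.c1_symm δ hδ n hn hL hO (hv _) ht0 hu hv G1 γ
      (by rw [hG1, hDL']) (by rw [hγ, htdiv])
  have h2 := Groth.Agent.Lib.helper2.AffB.ratEquivZero_add δ (n - 2) G1 (-(G1 - γ)) h1 (ratEquivZero_neg δ (n - 2) _ key)
  have h3 : G1 + -(G1 - γ) = γ := by abel
  rwa [h3] at h2

end Groth.Agent.Lib.helper2.C1Rat
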