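import Mathlib
import Groth.Agent.Lib.Helper2.C1Rat1

/-!
# `c₁(L) ∩ -` and rational equivalence, part 2: `c₁(L) ∩ α ∼ 0` for `α ∼ 0` (helper2)
-/

set_option autoImplicit false
universe u

namespace Groth.Agent.Lib.helper2.C1Rat

open IsLocalRing CycAlg AlgebraicGeometry CategoryTheory
open Groth.Agent.Lib.helper16.SecOrd Groth.Agent.Lib.helper16.CycClosed
open Groth.Agent.Lib.helper16.PullStalk Groth.Agent.Lib.helper2.PushPt
open Groth.Agent.Lib.helper2.ExtRat Groth.Agent.Lib.helper2.PPush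
open Groth.Agent.Lib.helper2.C1Comm

variable {X : Scheme.{u}}

/-- `c₁(L) ∩ div_ξ(f)` is a sum of principal divisors on the closure of `ξ` -/
theorem ratEquivZeroIn_c1CapFun_divFun (δ : X → ℤ) (hX : Cyc.IsSetup X δ) (L : X.Modules)
    (hL : PicF.IsInvertible L) (s : (x : X) → Cyc.secFibre L x) (hs : ∀ x, s x ≠ 0) (ξ : X)
    (k : ℤ) (hξ : δ ξ = k + 2) (f : X.residueField ξ) (hf : f ≠ 0) :
    RatEquivZeroIn δ k (Cyc.c1CapFun δ L (Cyc.divFun δ ξ f) s) (closure {ξ}) := by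
  haveI := hX.1
  set j := jc ξ with hj
  have hW : Cyc.IsSetup (Wc ξ) (fun w => δ (j w)) := isSetup_closedImmersion j δ hX
  haveI := hW.1
  have hδj : Cyc.DeltaCompat j (fun w => δ (j w)) δ := deltaCompat_closedImmersion j δ
  have hη : j (genericPoint (Wc ξ)) = ξ := jc_genericPoint ξ
  have hLW := isInvertible_pullback j L hL
  have hLc := isLocCyc_of_isInvertible L hL
  have hpL := pullSec_family_ne_zero j L hL s hs
  rw [divFun_congr_inv δ hη f]
  set f'' := (X.residueFieldCongr hη).inv f with hf''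
  have hf''0 : f'' ≠ 0 := congr_inv_ne_zero hη f hf
  set fW := j.residueFieldMap (genericPoint (Wc ξ)) f'' with hfW
  have hfW0 : fW ≠ 0 :=
    (map_ne_zero_iff _ (j.residueFieldMap (genericPoint (Wc ξ))).hom.injective).2 hf''0
  obtain ⟨Df, hDf⟩ := exists_cycle_divFun (fun w => δ (j w)) hW.2.2 (genericPoint (Wc ξ)) fW hfW0
  obtain ⟨G, hG⟩ := exists_cycle_c1CapFun (fun w => δ (j w)) hW.2.2 _ hLW Df
    (fun w => pullSec j w L (s (j w))) hpL
  have hG0 : Cyc.RatEquivZero (fun w => δ (j w)) (k + 2 - 2) G :=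
    ratEquivZero_c1CapFun_divFun_integral (fun w => δ (j w)) hW (k + 2)
      (by show δ (j (genericPoint (Wc ξ))) = k + 2; rw [hη, hξ]) _ hLW _ hpL fW hfW0 G
      (by rw [hG, hDf])
  have hk : k + 2 - 2 = k := by ring
  rw [hk] at hG0
  have m := map_c1CapFun_pullSec (fun w => δ (j w)) δ hW hX j hδj L hLc
    (fun w => pullSec j w L (s (j w))) hpL Df s hs G hG
  have hpush : ⇑(AlgebraicCycle.map j (fun w => δ (j w)) δ Df) =
      Cyc.divFun δ (j (genericPoint (Wc ξ))) f'' := by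
    funext y
    by_cases hy : y ∈ Set.range j
    · obtain ⟨w, rfl⟩ := hy
      rw [map_apply j _ δ (fun _ => rfl), hDf]
      exact (divFun_closedImmersion j δ w (genericPoint (Wc ξ)) f'').symm
    · rw [map_apply_of_notMem_range j _ δ Df y hy,
        divFun_eq_zero_of_notMem_range j δ (genericPoint (Wc ξ)) f'' y hy]
  rw [hpush] at m
  have hin := ratEquivZeroIn_map j δ k G hG0
  rw [range_jc, m] at hin
  exact hin

/-- **`c₁(L) ∩ -` passes to rational equivalence** (= S1921) -/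
theorem ratEquivZero_c1CapFun (δ : X → ℤ) (hX : Cyc.IsSetup X δ) (L : X.Modules)
    (hL : PicF.IsInvertible L) (k : ℤ) (α : AlgebraicCycle X ℤ)
    (h0 : Cyc.RatEquivZero δ (k + 1) α) (s : (ξ : X) → Cyc.secFibre L ξ) (hs : ∀ ξ, s ξ ≠ 0)
    (γ : AlgebraicCycle X ℤ) (hγ : ⇑γ = Cyc.c1CapFun δ L ⇑α s) : Cyc.RatEquivZero δ k γ := by
  classical
  haveI := hX.1
  have hδ := hX.2.2
  obtain ⟨ι, ξ, f, hδξ, hf, hlf, hsum⟩ := h0
  refine ratEquivZero_of_sum δ k (T := ι) (fun i => closure {ξ i}) (fun i => isClosed_closure)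
    hlf (fun _ => 1) (fun i => Cyc.c1CapFun δ L (Cyc.divFun δ (ξ i) (f i)) s) ?_ γ ?_
  · intro i
    exact ratEquivZeroIn_c1CapFun_divFun δ hX L hL s hs (ξ i) k (by rw [hδξ i]; ring) (f i) (hf i)
  · intro x
    rw [hγ]
    obtain ⟨_, ⟨W, hW : IsAffineOpen W, rfl⟩, hxW, -⟩ :=
      X.isBasis_affineOpens.exists_subset_of_mem_open (Set.mem_univ x) isOpen_univ
    set K : Set X := (W : Set X) with hK
    set c : X → ℤ := fun ζ => Cyc.secDivFun δ L ζ (s ζ) x with hc
    have hc0 : ∀ ζ, ζ ∉ K → c ζ = 0 := by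
      intro ζ hζ
      by_contra hne
      exact hζ ((secDivFun_ne_zero_specializes δ L ζ (s ζ) x hne).1.mem_open W.isOpen hxW)
    set D : ι → X → ℤ := fun i ζ => Cyc.divFun δ (ξ i) (f i) ζ with hD
    have hI₀ := finite_meets_compact ξ hlf K hW.isCompact
    have h0' : ∀ i, i ∉ {i | (closure {ξ i} ∩ K).Nonempty} → ∀ ζ ∈ K, D i ζ = 0 := by
      intro i hi ζ hζ
      by_contra hne
      apply hi
      have hsp := (divFun_ne_zero_specializes δ (ξ i) (f i) ζ hne).1
      exact ⟨ζ, specializes_iff_mem_closure.1 hsp, hζ⟩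
    have hfin : ∀ i ∈ {i | (closure {ξ i} ∩ K).Nonempty}, (K ∩ Function.support (D i)).Finite :=
      fun i _ => finite_inter_support_divFun δ hδ (ξ i) (f i) (hf i) K hW.isCompact
    have key := finsum_mem_finsum_comm K D _ hI₀ h0' hfin c
    have hl : Cyc.c1CapFun δ L ⇑α s x = ∑ᶠ ζ ∈ K, (∑ᶠ i, D i ζ) * c ζ := by
      unfold Cyc.c1CapFun
      have : ∀ ζ, α ζ * Cyc.secDivFun δ L ζ (s ζ) x = (∑ᶠ i, D i ζ) * c ζ := by
        intro ζ
        rw [hsum ζ]
      rw [finsum_congr this]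
      apply finsum_eq_finsum_mem_of_forall
      intro ζ hζ
      have h := hc0 ζ hζ
      show _ * c ζ = 0
      rw [h, mul_zero]
    rw [hl, key]
    apply finsum_congr
    intro i
    rw [one_mul]
    unfold Cyc.c1CapFun
    symm
    apply finsum_eq_finsum_mem_of_forall
    intro ζ hζ
    have h := hc0 ζ hζ
    show _ * c ζ = 0
    rw [h, mul_zero]

end Groth.Agent.Lib.helper2.C1Rat
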