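import Groth.Agent.Lib.Helper2.CHR2
import Mathlib

universe u
open CategoryTheory Limits

namespace Groth.Agent.Lib.helper2.CHR

variable {A B : Type u} [CommRing A] [CommRing B] {G : Type u} [Group G] [Fintype G]
  {σ : G → A →+* A} {α : B →+* A}
  (hone : σ 1 = RingHom.id A) (hmul : ∀ g h a, σ h (σ g a) = σ (g * h) a)
  (hfix : ∀ g b, σ g (α b) = α b)
  (hinv : ∀ a, (∀ g, σ g a = a) → ∃ b, α b = a)
  {I : Type u} [Fintype I] {x y : I → A}
  (h1 : ∑ i, x i * y i = 1) (h0 : ∀ e : G, e ≠ 1 → ∑ i, x i * σ e (y i) = 0)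
  {s' : A →+* B} (hs : ∀ b, s' (α b) = b)

include hone hmul hfix hinv h1 h0 hs in
/-- with a retraction `s'` of `α`, the twisted retractions identify `A` with `∏_G B` -/
theorem bijective_beta : Function.Bijective (fun (a : A) (g : G) => s' (σ g a)) := by
  classical
  obtain ⟨t, ht⟩ := exists_tr (α := α) hmul hinv
  let ε : G → A := fun g => ∑ i, α (s' (σ g (x i))) * y i
  have hε : ∀ k g, s' (σ k (ε g)) = if k = g then 1 else 0 := by
    intro k g
    have h2 : ∀ i, s' (σ k (α (s' (σ g (x i))) * y i)) = s' (σ g (x i) * σ k (y i)) := by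
      intro i
      rw [map_mul, map_mul, map_mul, hfix, hs]
    simp only [ε, map_sum, h2]
    rw [← map_sum, sum_delta' hone hmul h1 h0 g k]
    split_ifs <;> simp
  have key : ∀ a : A, ∑ g, α (s' (σ g a)) * ε g = a := by
    intro a
    simp only [ε, Finset.mul_sum]
    rw [Finset.sum_comm]
    have : ∀ i, ∑ g, α (s' (σ g a)) * (α (s' (σ g (x i))) * y i) =
        (∑ g, σ g (a * x i)) * y i := by
      intro i
      rw [← ht, ← hs (t (a * x i)), ht, map_sum, map_sum, Finset.sum_mul]
      apply Finset.sum_congr rfl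
      intro g _
      rw [map_mul, map_mul, map_mul]
      ring
    simp only [this]
    exact reconstruct' hone hmul h1 h0 a
  constructor
  · intro a a' haa
    rw [← key a, ← key a']
    apply Finset.sum_congr rfl
    intro g _
    have := congr_fun haa g
    simp only at this
    rw [this]
  · intro v
    refine ⟨∑ g, α (v g) * ε g, ?_⟩
    ext k
    simp only [map_sum, map_mul, hfix, hs, hε]
    simp

end Groth.Agent.Lib.helper2.CHR
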