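import Groth.Agent.Lib.Helper2.CHR2
import Mathlib

universe u

namespace Groth.Agent.Lib.helper2.CHR

variable {A : Type u} [CommRing A] {G : Type u} [Group G] [Finite G]
  (σ : G → A →+* A)

/-- an action with "clopen inertia": `e g` is the idempotent of the locus where `g` acts trivially,
and `g` acts freely outside of it -/
structure IsInertial (e : G → A) : Prop where
  idem : ∀ g, IsIdempotentElem (e g)
  triv : ∀ g a, e g * σ g a = e g * a
  free : ∀ g (m : Ideal A), m.IsMaximal → e g ∈ m → ∃ c : A, σ g c - c ∉ m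

variable {σ} {e : G → A}

theorem exists_pair_inertial (hI : IsInertial σ e) (g : G) :
    ∃ (ι : Type u) (_ : Fintype ι) (x y : ι → A),
      ∑ i, x i * y i = 1 ∧ ∑ i, x i * σ g (y i) = e g := by
  classical
  have htop : Ideal.span (Set.range (fun c : A => σ g c - c)) ⊔ Ideal.span {e g} = ⊤ := by
    by_contra hne
    obtain ⟨m, hm, hle⟩ := Ideal.exists_le_maximal _ hne
    have h1 : e g ∈ m := hle (Ideal.mem_sup_right (Ideal.subset_span rfl))
    obtain ⟨c, hc⟩ := hI.free g m hm h1
    exact hc (hle (Ideal.mem_sup_left (Ideal.subset_span ⟨c, rfl⟩)))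
  have h1 : (1 : A) ∈ Ideal.span (Set.range (fun c : A => σ g c - c)) ⊔ Ideal.span {e g} := by
    rw [htop]; trivial
  obtain ⟨u, hu, v, hv, huv⟩ := Submodule.mem_sup.1 h1
  obtain ⟨r, rfl⟩ := Ideal.mem_span_singleton'.1 hv
  rw [Ideal.span, Finsupp.mem_span_range_iff_exists_finsupp] at hu
  obtain ⟨l, hl⟩ := hu
  have hf : (1 - e g) * u = 1 - e g := by
    have h2 : (1 - e g) * e g = 0 := by
      have := hI.idem g
      rw [IsIdempotentElem] at this
      rw [sub_mul, one_mul, this, sub_self]
    calc (1 - e g) * u = (1 - e g) * (u + r * e g) - r * ((1 - e g) * e g) := by ring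
      _ = 1 - e g := by rw [huv, h2]; ring
  refine ⟨Option ↥l.support, inferInstance,
    fun o => o.elim (1 + ∑ c ∈ l.support, (1 - e g) * l c * c) (fun c => - ((1 - e g) * l c)),
    fun o => o.elim 1 (fun c => (c : A)), ?_, ?_⟩
  · rw [Fintype.sum_option]
    simp only [Option.elim_none, Option.elim_some, mul_one]
    rw [Finset.sum_coe_sort l.support (fun c => -((1 - e g) * l c) * c)]
    rw [add_assoc, ← Finset.sum_add_distrib]
    rw [Finset.sum_eq_zero, add_zero]
    intro c _
    ring
  · rw [Fintype.sum_option]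
    simp only [Option.elim_none, Option.elim_some, map_one, mul_one]
    rw [Finset.sum_coe_sort l.support (fun c => -((1 - e g) * l c) * σ g c)]
    rw [add_assoc, ← Finset.sum_add_distrib]
    rw [Finsupp.sum] at hl
    have : ∑ c ∈ l.support, ((1 - e g) * l c * c + -((1 - e g) * l c) * σ g c) = - ((1 - e g) * u) := by
      rw [← hl, Finset.mul_sum, ← Finset.sum_neg_distrib]
      apply Finset.sum_congr rfl
      intro c _
      simp only [smul_eq_mul]
      ring
    rw [this, hf]
    ring

theorem mul_prod_eq_self {ι : Type*} (a : A) (s : Finset ι) (c : ι → A) (h : ∀ g ∈ s, a * c g = a) :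
    a * ∏ g ∈ s, c g = a := by
  classical
  induction s using Finset.induction_on with
  | empty => simp
  | insert i s hi ih =>
    rw [Finset.prod_insert hi, ← mul_assoc, h i (Finset.mem_insert_self _ _)]
    exact ih (fun g hg => h g (Finset.mem_insert_of_mem hg))

/-- generalized CHR "dual basis" -/
theorem exists_dualBasis_inertial (hone : σ 1 = RingHom.id A) (hI : IsInertial σ e) :
    ∃ (I : Type u) (_ : Fintype I) (x y : I → A),
      (∑ i, x i * y i = 1) ∧ ∀ h : G, ∑ i, x i * σ h (y i) = e h := by
  classical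
  haveI := Fintype.ofFinite G
  choose ι hι x y h1 h2 using fun g : G => exists_pair_inertial hI g
  refine ⟨∀ g, ι g, inferInstance, fun J => ∏ g, x g (J g), fun J => ∏ g, y g (J g), ?_⟩
  have key : ∀ h : G, ∑ J : (∀ g, ι g), (∏ g, x g (J g)) * σ h (∏ g, y g (J g)) =
      ∏ g, ∑ j, x g j * σ h (y g j) := by
    intro h
    rw [Finset.prod_univ_sum]
    rw [← Fintype.piFinset_univ]
    apply Finset.sum_congr rfl
    intro J _
    rw [map_prod, Finset.prod_mul_distrib]
  constructor
  · have := key 1
    rw [hone] at this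
    simp only [RingHom.id_apply] at this
    rw [this]
    apply Finset.prod_eq_one
    intro g _
    exact h1 g
  · intro h
    rw [key, ← Finset.mul_prod_erase Finset.univ _ (Finset.mem_univ h), h2 h]
    apply mul_prod_eq_self
    intro g _
    rw [Finset.mul_sum]
    have : ∀ j, e h * (x g j * σ h (y g j)) = e h * (x g j * y g j) := by
      intro j
      rw [mul_left_comm, hI.triv, mul_left_comm]
    simp only [this]
    rw [← Finset.mul_sum, h1 g, mul_one]

end Groth.Agent.Lib.helper2.CHR
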