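import Groth.Agent.Lib.Helper2.CHRI1
import Mathlib

universe u

namespace Groth.Agent.Lib.helper2.CHR

variable {A B : Type u} [CommRing A] [CommRing B] {G : Type u} [Group G] [Fintype G]
  {σ : G → A →+* A} {α : B →+* A} {e : G → A}

section Trace
variable (hone : σ 1 = RingHom.id A) (hmul : ∀ g h a, σ h (σ g a) = σ (g * h) a)
  (H : Subgroup G) (b : A) (hb : ∀ i ∈ H, σ i b = b)

include hmul hb in
theorem sig_out_inv (g : G) : σ ((QuotientGroup.mk g : G ⧸ H).out)⁻¹ b = σ g⁻¹ b := by
  obtain ⟨i, hi⟩ := QuotientGroup.mk_out_eq_mul H g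
  rw [hi, mul_inv_rev, ← hmul, hb _ (H.inv_mem i.2)]

/-- partial trace over `G ⧸ H` of an `H`-invariant element -/
noncomputable def ptr (σ : G → A →+* A) (H : Subgroup G) (b : A) : A :=
  letI := Fintype.ofFinite (G ⧸ H)
  ∑ c : G ⧸ H, σ (c.out)⁻¹ b

include hmul hb in
theorem ptr_inv (h : G) : σ h (ptr σ H b) = ptr σ H b := by
  letI := Fintype.ofFinite (G ⧸ H)
  rw [ptr, map_sum]
  refine Fintype.sum_equiv (MulAction.toPerm h⁻¹) _ _ (fun c => ?_)
  obtain ⟨g, rfl⟩ := QuotientGroup.mk_surjective c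
  have h1 : (MulAction.toPerm h⁻¹) (QuotientGroup.mk g : G ⧸ H) = QuotientGroup.mk (h⁻¹ * g) := rfl
  rw [h1, sig_out_inv hmul H b hb, sig_out_inv hmul H b hb, hmul]
  congr 2
  rw [mul_inv_rev, inv_inv]

end Trace

section Strata
variable [DecidableEq G]

/-- the idempotent of the stratum with inertia exactly `I` -/
noncomputable def eps (e : G → A) (I : Finset G) : A :=
  (∏ g ∈ I, e g) * ∏ g ∈ Finset.univ \ I, (1 - e g)

theorem sum_eps (e : G → A) : ∑ I : Finset G, eps e I = 1 := by
  have := Finset.prod_add e (fun g => 1 - e g) Finset.univ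
  simp only [add_sub_cancel, Finset.prod_const_one, Finset.powerset_univ] at this
  exact this.symm

variable (hid : ∀ g, IsIdempotentElem (e g))

include hid in
theorem eps_mul_of_mem {I : Finset G} {g : G} (hg : g ∈ I) : eps e I * e g = eps e I := by
  rw [eps, ← Finset.mul_prod_erase I _ hg]
  have := hid g
  rw [IsIdempotentElem] at this
  calc (e g * ∏ x ∈ I.erase g, e x) * (∏ g ∈ Finset.univ \ I, (1 - e g)) * e g
      = (e g * e g) * (∏ x ∈ I.erase g, e x) * (∏ g ∈ Finset.univ \ I, (1 - e g)) := by ring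
    _ = _ := by rw [this]

include hid in
theorem eps_mul_of_not_mem {I : Finset G} {g : G} (hg : g ∉ I) : eps e I * e g = 0 := by
  have hg' : g ∈ Finset.univ \ I := by simp [hg]
  rw [eps, ← Finset.mul_prod_erase (Finset.univ \ I) _ hg']
  have := hid g
  rw [IsIdempotentElem] at this
  calc (∏ g ∈ I, e g) * ((1 - e g) * ∏ x ∈ (Finset.univ \ I).erase g, (1 - e x)) * e g
      = (e g - e g * e g) * ((∏ g ∈ I, e g) * ∏ x ∈ (Finset.univ \ I).erase g, (1 - e x)) := by ring
    _ = 0 := by rw [this, sub_self, zero_mul]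

include hid in
theorem eps_idem (I : Finset G) : eps e I * eps e I = eps e I := by
  have h1 : ∀ g, (1 - e g) * (1 - e g) = 1 - e g := by
    intro g
    have := hid g
    rw [IsIdempotentElem] at this
    calc (1 - e g) * (1 - e g) = 1 - e g - e g + e g * e g := by ring
      _ = 1 - e g := by rw [this]; ring
  rw [eps]
  calc _ = ((∏ g ∈ I, e g) * ∏ g ∈ I, e g) *
        ((∏ g ∈ Finset.univ \ I, (1 - e g)) * ∏ g ∈ Finset.univ \ I, (1 - e g)) := by ring
    _ = _ := by
      rw [← Finset.prod_mul_distrib, ← Finset.prod_mul_distrib]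
      congr 1
      · apply Finset.prod_congr rfl
        intro g _
        exact hid g
      · apply Finset.prod_congr rfl
        intro g _
        exact h1 g

end Strata

end Groth.Agent.Lib.helper2.CHR
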