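import Groth.Agent.Lib.Helper2.CHRI2
import Mathlib

universe u

namespace Groth.Agent.Lib.helper2.CHR

variable {A B : Type u} [CommRing A] [CommRing B] {G : Type u} [Group G] [Fintype G]
  {σ : G → A →+* A} {α : B →+* A} {e : G → A}

section Main
variable [DecidableEq G]
variable (hone : σ 1 = RingHom.id A) (hmul : ∀ g h a, σ h (σ g a) = σ (g * h) a)
  (hI : IsInertial σ e)
  {J : Type u} [Fintype J] {x y : J → A}
  (h1 : ∑ i, x i * y i = 1) (he : ∀ h : G, ∑ i, x i * σ h (y i) = e h)

include hone h1 he in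
theorem e_one : e 1 = 1 := by
  rw [← he 1, hone]
  exact h1

include hmul hI h1 he in
theorem e_mul (g h : G) : e g * e h * e (g * h) = e g * e h := by
  rw [← he (g * h), Finset.mul_sum]
  have : ∀ i, e g * e h * (x i * σ (g * h) (y i)) = e g * e h * (x i * y i) := by
    intro i
    rw [← hmul]
    calc e g * e h * (x i * σ h (σ g (y i))) = e g * x i * (e h * σ h (σ g (y i))) := by ring
      _ = e g * x i * (e h * σ g (y i)) := by rw [hI.triv]
      _ = e h * x i * (e g * σ g (y i)) := by ring
      _ = e h * x i * (e g * y i) := by rw [hI.triv]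
      _ = _ := by ring
  simp only [this]
  rw [← Finset.mul_sum, h1, mul_one]

include hone hmul hI h1 he in
theorem exists_subgroup_of_eps_ne_zero (I : Finset G) (hne : eps e I ≠ 0) :
    ∃ H : Subgroup G, ∀ g, g ∈ H ↔ g ∈ I := by
  have h1' : (1 : G) ∈ I := by
    by_contra h
    apply hne
    have := eps_mul_of_not_mem hI.idem h
    rwa [e_one hone h1 he, mul_one] at this
  have hm : ∀ a b, a ∈ I → b ∈ I → a * b ∈ I := by
    intro a b ha hb
    by_contra hab
    apply hne
    calc eps e I = eps e I * e a * e b := by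
          rw [eps_mul_of_mem hI.idem ha, eps_mul_of_mem hI.idem hb]
      _ = eps e I * (e a * e b * e (a * b)) := by rw [e_mul hmul hI h1 he]; ring
      _ = eps e I * e (a * b) * (e a * e b) := by ring
      _ = 0 := by rw [eps_mul_of_not_mem hI.idem hab, zero_mul]
  let M : Submonoid G :=
    { carrier := {g | g ∈ I}
      mul_mem' := fun ha hb => hm _ _ ha hb
      one_mem' := h1' }
  refine ⟨{ M with inv_mem' := fun {a} ha => ?_ }, fun g => Iff.rfl⟩
  have hinv : a⁻¹ = a ^ (orderOf a - 1) := by
    apply inv_eq_of_mul_eq_one_right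
    rw [← pow_succ', Nat.sub_add_cancel (orderOf_pos a), pow_orderOf_eq_one]
  show a⁻¹ ∈ M
  rw [hinv]
  exact M.pow_mem ha _

include hone hmul hI in
theorem sig_eps_mul {I : Finset G} (H : Subgroup G) (hH : ∀ g, g ∈ H ↔ g ∈ I) (a : A) (i : G)
    (hi : i ∈ H) : σ i (eps e I * a) = eps e I * a := by
  have key : ∀ j ∈ H, eps e I * σ j (eps e I) = eps e I := by
    intro j hj
    have h2 := eps_mul_of_mem hI.idem ((hH j).1 hj)
    calc eps e I * σ j (eps e I) = eps e I * e j * σ j (eps e I) := by rw [h2]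
      _ = eps e I * (e j * σ j (eps e I)) := by ring
      _ = eps e I * (e j * eps e I) := by rw [hI.triv]
      _ = eps e I * eps e I * e j := by ring
      _ = eps e I := by rw [eps_idem hI.idem, h2]
  have k1 := key i hi
  have k2 := key i⁻¹ (H.inv_mem hi)
  have k3 := congrArg (σ i) k2
  rw [map_mul, hmul, inv_mul_cancel, hone, RingHom.id_apply] at k3
  have k4 : σ i (eps e I) = eps e I := by
    calc σ i (eps e I) = σ i (eps e I) * eps e I := k3.symm
      _ = eps e I * σ i (eps e I) := by ring
      _ = eps e I := k1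
  have h2 := eps_mul_of_mem hI.idem ((hH i).1 hi)
  calc σ i (eps e I * a) = eps e I * σ i a := by rw [map_mul, k4]
    _ = eps e I * e i * σ i a := by rw [h2]
    _ = eps e I * (e i * σ i a) := by ring
    _ = eps e I * (e i * a) := by rw [hI.triv]
    _ = eps e I * e i * a := by ring
    _ = eps e I * a := by rw [h2]

include hone hmul hI he in
theorem reconstruct_stratum {I : Finset G} (H : Subgroup G) (hH : ∀ g, g ∈ H ↔ g ∈ I) (a : A) :
    eps e I * ∑ j, x j * ptr σ H (eps e I * (y j * a)) = eps e I * a := by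
  letI := Fintype.ofFinite (G ⧸ H)
  have h2 : ∀ j, x j * ptr σ H (eps e I * (y j * a)) =
      ∑ c : G ⧸ H, σ (c.out)⁻¹ (eps e I * a) * (x j * σ (c.out)⁻¹ (y j)) := by
    intro j
    rw [ptr, Finset.mul_sum]
    apply Finset.sum_congr rfl
    intro c _
    have : eps e I * (y j * a) = (eps e I * a) * y j := by ring
    rw [this, map_mul]
    ring
  simp only [h2]
  rw [Finset.sum_comm]
  simp only [← Finset.mul_sum, he]
  rw [Finset.mul_sum]
  rw [Finset.sum_eq_single (QuotientGroup.mk 1 : G ⧸ H)]
  · have hr : ((QuotientGroup.mk 1 : G ⧸ H).out) ∈ H := by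
      have := QuotientGroup.out_eq' (QuotientGroup.mk 1 : G ⧸ H)
      rw [QuotientGroup.eq] at this
      have h3 := H.inv_mem this
      simpa using h3
    have hr' := H.inv_mem hr
    rw [sig_eps_mul hone hmul hI H hH a _ hr']
    calc eps e I * (eps e I * a * e ((QuotientGroup.mk 1 : G ⧸ H).out)⁻¹)
        = (eps e I * e ((QuotientGroup.mk 1 : G ⧸ H).out)⁻¹) * (eps e I * a) := by ring
      _ = eps e I * (eps e I * a) := by rw [eps_mul_of_mem hI.idem ((hH _).1 hr')]
      _ = eps e I * eps e I * a := by ring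
      _ = eps e I * a := by rw [eps_idem hI.idem]
  · intro c _ hc
    have hr : (c.out)⁻¹ ∉ I := by
      intro hmem
      apply hc
      have h3 : (c.out)⁻¹ ∈ H := (hH _).2 hmem
      rw [← QuotientGroup.out_eq' c, QuotientGroup.eq]
      simpa using h3
    calc eps e I * (σ (c.out)⁻¹ (eps e I * a) * e (c.out)⁻¹)
        = (eps e I * e (c.out)⁻¹) * σ (c.out)⁻¹ (eps e I * a) := by ring
      _ = 0 := by rw [eps_mul_of_not_mem hI.idem hr, zero_mul]
  · intro h
    exact absurd (Finset.mem_univ _) h

end Main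

end Groth.Agent.Lib.helper2.CHR
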