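import Groth.Agent.Lib.Helper2.CHRI3
import Mathlib

universe u

namespace Groth.Agent.Lib.helper2.CHR

variable {A B : Type u} [CommRing A] [CommRing B] {G : Type u} [Group G] [Fintype G]
  {σ : G → A →+* A} {α : B →+* A} {e : G → A}

section Final
variable (hone : σ 1 = RingHom.id A) (hmul : ∀ g h a, σ h (σ g a) = σ (g * h) a)
  (hα : Function.Injective α) (hfix : ∀ g b, σ g (α b) = α b)
  (hinv : ∀ a, (∀ g, σ g a = a) → ∃ b, α b = a)
  (hI : IsInertial σ e)

theorem ptr_add (H : Subgroup G) (b b' : A) : ptr σ H (b + b') = ptr σ H b + ptr σ H b' := by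
  letI := Fintype.ofFinite (G ⧸ H)
  simp only [ptr, map_add, Finset.sum_add_distrib]

include hfix in
theorem ptr_smul (H : Subgroup G) (c : B) (b : A) : ptr σ H (α c * b) = α c * ptr σ H b := by
  letI := Fintype.ofFinite (G ⧸ H)
  simp only [ptr, map_mul, hfix, Finset.mul_sum]

include hone hmul hα hfix hinv hI in
theorem finite_projective_inertial :
    letI := α.toAlgebra
    Module.Finite B A ∧ Module.Projective B A := by
  classical
  letI := α.toAlgebra
  obtain ⟨J, hJ, x, y, h1, he⟩ := exists_dualBasis_inertial hone hI
  have halg : ∀ b : B, algebraMap B A b = α b := fun b => rfl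
  -- the partial trace functionals
  let F : Finset G → A → A := fun I a =>
    if h : ∃ H : Subgroup G, ∀ g, g ∈ H ↔ g ∈ I then ptr σ h.choose (eps e I * a) else 0
  have F_inv : ∀ I a g, σ g (F I a) = F I a := by
    intro I a g
    by_cases h : ∃ H : Subgroup G, ∀ g, g ∈ H ↔ g ∈ I
    · simp only [F, dif_pos h]
      exact ptr_inv hmul h.choose _ (fun i hi => sig_eps_mul hone hmul hI h.choose h.choose_spec a i hi) g
    · simp only [F, dif_neg h, map_zero]
  have F_add : ∀ I a a', F I (a + a') = F I a + F I a' := by
    intro I a a'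
    by_cases h : ∃ H : Subgroup G, ∀ g, g ∈ H ↔ g ∈ I
    · simp only [F, dif_pos h, mul_add, ptr_add]
    · simp only [F, dif_neg h, add_zero]
  have F_smul : ∀ I (b : B) a, F I (α b * a) = α b * F I a := by
    intro I b a
    by_cases h : ∃ H : Subgroup G, ∀ g, g ∈ H ↔ g ∈ I
    · simp only [F, dif_pos h]
      rw [← ptr_smul hfix]
      congr 1
      ring
    · simp only [F, dif_neg h, mul_zero]
  have F_rec : ∀ I a, eps e I * ∑ j, x j * F I (y j * a) = eps e I * a := by
    intro I a
    by_cases h : ∃ H : Subgroup G, ∀ g, g ∈ H ↔ g ∈ I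
    · simp only [F, dif_pos h]
      exact reconstruct_stratum hone hmul hI he h.choose h.choose_spec a
    · have : eps e I = 0 := by
        by_contra hne
        exact h (exists_subgroup_of_eps_ne_zero hone hmul hI h1 he I hne)
      rw [this, zero_mul, zero_mul]
  choose t ht using fun (I : Finset G) (a : A) => hinv (F I a) (F_inv I a)
  have tadd : ∀ I a a', t I (a + a') = t I a + t I a' := by
    intro I a a'
    apply hα
    rw [map_add, ht, ht, ht, F_add]
  have tsmul : ∀ I (b : B) (a : A), t I (α b * a) = b * t I a := by
    intro I b a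
    apply hα
    rw [map_mul, ht, ht, F_smul]
  let s : A →ₗ[B] (Finset G × J → B) :=
    { toFun := fun a k => t k.1 (y k.2 * a)
      map_add' := fun a a' => by
        ext k
        simp only [mul_add, tadd, Pi.add_apply]
      map_smul' := fun b a => by
        ext k
        simp only [Algebra.smul_def, halg, RingHom.id_apply, Pi.smul_apply]
        change t k.1 (y k.2 * (α b * a)) = b * t k.1 (y k.2 * a)
        rw [← tsmul]
        congr 1
        ring }
  let r : (Finset G × J → B) →ₗ[B] A :=
    { toFun := fun v => ∑ k, α (v k) * (eps e k.1 * x k.2)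
      map_add' := fun v w => by
        simp only [Pi.add_apply, map_add, add_mul, Finset.sum_add_distrib]
      map_smul' := fun b v => by
        simp only [Pi.smul_apply, smul_eq_mul, map_mul, RingHom.id_apply, Algebra.smul_def, halg,
          Finset.mul_sum, mul_assoc] }
  have hrs : r.comp s = LinearMap.id := by
    ext a
    simp only [LinearMap.coe_comp, LinearMap.coe_mk, AddHom.coe_mk, Function.comp_apply, r, s,
      LinearMap.id_coe, id_eq, ht]
    rw [Fintype.sum_prod_type]
    have : ∀ I : Finset G, ∑ j, F I (y j * a) * (eps e I * x j) = eps e I * a := by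
      intro I
      rw [← F_rec I a, Finset.mul_sum]
      apply Finset.sum_congr rfl
      intro j _
      ring
    simp only [this]
    rw [← Finset.sum_mul, sum_eps, one_mul]
  have hsurj : Function.Surjective r := fun a => ⟨s a, congr($hrs a)⟩
  exact ⟨Module.Finite.of_surjective r hsurj, Module.Projective.of_split s r hrs⟩

end Final

end Groth.Agent.Lib.helper2.CHR
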