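import Mathlib
import Groth.Prelude.Def_CAlg
import Groth.Prelude.Def_Coh
import Groth.Prelude.Def_CohB1
import Groth.Agent.Lib.Helper16.FLF3
import Groth.Agent.Lib.Helper16.FLF6
import Groth.Agent.Lib.Helper8.StalkLen
import Groth.Agent.Lib.Helper26.Depth7

/-!
# helper2: Cohen–Macaulay coherent modules with full support on regular schemes are locally free
-/

set_option autoImplicit false
universe u
open CategoryTheory CategoryTheory.Limits AlgebraicGeometry TopologicalSpace Opposite

namespace Groth.Agent.Lib.helper2.CMFree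

open Scheme.Modules Groth.Agent.Lib.helper16.CohStalk Groth.Agent.Lib.helper16.CohFinite
  Groth.Agent.Lib.helper8.StalkLen Groth.Agent.Lib.helper16.FLF LocCoh
  Groth.Agent.Lib.helper26.Depth

section Alg

variable (A : Type u) [CommRing A]

lemma supportDim_of_support_eq_univ (M : Type u) [AddCommGroup M] [Module A M]
    (h : Module.support A M = Set.univ) : Module.supportDim A M = ringKrullDim A := by
  unfold Module.supportDim ringKrullDim
  rw [h]
  exact Order.krullDim_eq_of_orderIso (OrderIso.Set.univ)

/-- a free module of positive rank over a regular local ring is Cohen–Macaulay -/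
lemma isCohenMacaulayModule_of_free [IsRegularLocalRing A] (M : Type u) [AddCommGroup M]
    [Module A M] [Module.Free A M] [Module.Finite A M] [Nontrivial M] :
    IsCohenMacaulayModule A M := by
  unfold IsCohenMacaulayModule
  rw [depth_free, depth_eq_ringKrullDim_of_isRegularLocalRing]
  apply supportDim_of_support_eq_univ
  rw [Module.support_eq_zeroLocus]
  have : Module.annihilator A M = ⊥ := Module.annihilator_eq_bot.mpr inferInstance
  rw [this]
  simp

/-- a Cohen–Macaulay module with full support over a regular local ring is free -/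
lemma free_of_isCohenMacaulayModule [IsRegularLocalRing A] (M : Type u) [AddCommGroup M]
    [Module A M] [Module.Finite A M] (hCM : IsCohenMacaulayModule A M)
    (h : Module.support A M = Set.univ) : Module.Free A M := by
  apply free_of_depth_eq_ringKrullDim
  unfold IsCohenMacaulayModule at hCM
  rw [← hCM]
  exact supportDim_of_support_eq_univ A M h

end Alg

section Sch

variable {X : Scheme.{u}} [IsLocallyNoetherian X] (F : X.Modules)

lemma support_stalk_eq_univ (hF : Coh.IsCoh F) (hsupp : CohB1.support F = Set.univ) (x : X) :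
    Module.support (X.presheaf.stalk x) (F.presheaf.stalk x) = Set.univ := by
  haveI : F.IsQuasicoherent := hF.1
  obtain ⟨_, ⟨U, hU : IsAffineOpen U, rfl⟩, hxU, -⟩ :=
    X.isBasis_affineOpens.exists_subset_of_mem_open (Set.mem_univ x) isOpen_univ
  letI := TopCat.Presheaf.algebra_section_stalk X.presheaf (⟨x, hxU⟩ : U)
  letI := modStalk F x hxU
  haveI := isScalarTower_stalk F x hxU
  haveI : IsLocalization.AtPrime (X.presheaf.stalk x) (hU.primeIdealOf ⟨x, hxU⟩).asIdeal :=
    hU.isLocalization_stalk ⟨x, hxU⟩
  haveI := isLocalizedModule_stalk F hU x hxU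
  ext Q
  simp only [Set.mem_univ, iff_true]
  rw [mem_support_iff_comap_mem_support (hU.primeIdealOf ⟨x, hxU⟩).asIdeal (germLin F x hxU)]
  obtain ⟨y, hy, hyq⟩ := exists_primeIdealOf_eq hU
    (PrimeSpectrum.comap (algebraMap Γ(X, U) (X.presheaf.stalk x)) Q)
  rw [← hyq, ← nontrivial_stalk_iff F hU y hy]
  have : y ∈ CohB1.support F := by rw [hsupp]; trivial
  exact not_subsingleton_iff_nontrivial.mp this

theorem cm_iff_locally_free
    (hreg : ∀ x : X, IsRegularLocalRing (X.presheaf.stalk x)) (hF : Coh.IsCoh F) :
    (CohB1.support F = Set.univ ∧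
        ∀ x : X, LocCoh.IsCohenMacaulayModule (X.presheaf.stalk x) ↑(F.presheaf.stalk x)) ↔
      ∀ x : X, ∃ (U : X.Opens) (n : ℕ), x ∈ U ∧ 0 < n ∧
        Nonempty (F.restrict U.ι ≅ FlatMod.freeMod (↑U) n) := by
  haveI : F.IsQuasicoherent := hF.1
  constructor
  · rintro ⟨hsupp, hCM⟩ x
    haveI := hreg x
    haveI : Module.Finite (X.presheaf.stalk x) (F.presheaf.stalk x) := finite_stalk_of_isCoh F hF x
    have hfree := free_of_isCohenMacaulayModule _ _ (hCM x) (support_stalk_eq_univ F hF hsupp x)
    obtain ⟨_, ⟨U, hU : IsAffineOpen U, rfl⟩, hxU, -⟩ :=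
      X.isBasis_affineOpens.exists_subset_of_mem_open (Set.mem_univ x) isOpen_univ
    haveI : Module.Finite Γ(X, U) Γ(F, U) := finite_sections_of_isCoh F hF hU
    haveI : IsNoetherianRing Γ(X, U) := IsLocallyNoetherian.component_noetherian ⟨U, hU⟩
    haveI : Module.FinitePresentation Γ(X, U) Γ(F, U) := Module.finitePresentation_of_finite _ _
    obtain ⟨f, n, hxf, ⟨e⟩⟩ := exists_basicOpen_free_sections F hU x hxU hfree
    obtain ⟨iso⟩ := restrict_iso_freeMod_of_sections F (hU.basicOpen f) n e
    refine ⟨X.basicOpen f, n, hxf, ?_, ⟨iso⟩⟩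
    by_contra hn
    obtain rfl : n = 0 := by lia
    obtain ⟨hfr, hrank⟩ := free_stalk_of_restrict_iso_freeMod F 0 iso x hxf
    have hx : x ∈ CohB1.support F := by rw [hsupp]; trivial
    apply hx
    haveI := hfr
    rw [Module.finrank_eq_card_chooseBasisIndex, Fintype.card_eq_zero_iff] at hrank
    haveI := hrank
    exact (Module.Free.chooseBasis (X.presheaf.stalk x)
      (F.presheaf.stalk x)).repr.toEquiv.subsingleton
  · intro h
    have key : ∀ x : X, Module.Free (X.presheaf.stalk x) (F.presheaf.stalk x) ∧
        Nontrivial (F.presheaf.stalk x) := by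
      intro x
      obtain ⟨U, n, hxU, hn, ⟨iso⟩⟩ := h x
      obtain ⟨hfr, hrank⟩ := free_stalk_of_restrict_iso_freeMod F n iso x hxU
      refine ⟨hfr, ?_⟩
      apply Module.nontrivial_of_finrank_pos (R := X.presheaf.stalk x)
      rw [hrank]
      exact hn
    constructor
    · ext x
      simp only [Set.mem_univ, iff_true]
      show ¬ Subsingleton _
      rw [not_subsingleton_iff_nontrivial]
      exact (key x).2
    · intro x
      haveI := hreg x
      haveI : Module.Finite (X.presheaf.stalk x) (F.presheaf.stalk x) :=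
        finite_stalk_of_isCoh F hF x
      haveI := (key x).1
      haveI := (key x).2
      exact isCohenMacaulayModule_of_free _ _

end Sch

end Groth.Agent.Lib.helper2.CMFree
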