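import Mathlib
import Groth.Prelude.Def_CAlg
import Groth.Agent.Lib.Helper2.GNV4
import Groth.Agent.S0318

/-!
# helper2: a finite module over a Noetherian local ring is CM iff exactly one `H^i_m(M)` is nonzero
-/

set_option autoImplicit false
universe u

open CategoryTheory IsLocalRing
open scoped Pointwise
open Groth.Agent.Lib.helper19.LCGroth

namespace Groth.Agent.Lib.helper2.GNV

variable {R : Type u} [CommRing R] [IsNoetherianRing R] [IsLocalRing R]

/-- the dimension of a nonzero finite module over a Noetherian local ring is a natural number -/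
lemma exists_supportDim_eq_nat (M : Type u) [AddCommGroup M] [Module R M] [Nontrivial M] :
    ∃ n : ℕ, Module.supportDim R M = (n : WithBot ℕ∞) := by
  have h1 : Module.supportDim R M ≠ ⊥ := Module.supportDim_ne_bot_of_nontrivial R M
  have h2 : Module.supportDim R M < ⊤ :=
    lt_of_le_of_lt (Module.supportDim_le_ringKrullDim R M) ringKrullDim_lt_top
  obtain ⟨e, he⟩ := WithBot.ne_bot_iff_exists.mp h1
  rw [← he] at h2 ⊢
  have h3 : e ≠ ⊤ := by
    rintro rfl
    exact lt_irrefl _ h2
  obtain ⟨n, rfl⟩ := ENat.ne_top_iff_exists.mp h3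
  exact ⟨n, rfl⟩

theorem existsUnique_H_nontrivial_iff (M : Type u) [AddCommGroup M] [Module R M]
    [Module.Finite R M] [Nontrivial M] :
    (∃! i : ℕ, Nontrivial (LocCoh.H (maximalIdeal R) i M)) ↔
      LocCoh.IsCohenMacaulayModule R M := by
  classical
  obtain ⟨n, hn⟩ := exists_supportDim_eq_nat (R := R) M
  have hHn : Nontrivial (LocCoh.H (maximalIdeal R) n M) := nontrivial_H_supportDim n M hn
  have hvan : ∀ i : ℕ, n < i → Subsingleton (LocCoh.H (maximalIdeal R) i M) := by
    intro i hi
    apply vanish (maximalIdeal R) M i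
    rw [hn]
    exact_mod_cast hi
  have hIM : maximalIdeal R • (⊤ : Submodule R M) ≠ ⊤ :=
    (Submodule.top_ne_ideal_smul_of_le_jacobson_annihilator
      (IsLocalRing.maximalIdeal_le_jacobson _)).symm
  have hex : ∃ i : ℕ, Nontrivial (LocCoh.H (maximalIdeal R) i M) := ⟨n, hHn⟩
  let k := Nat.find hex
  have hk : Nontrivial (LocCoh.H (maximalIdeal R) k M) := Nat.find_spec hex
  have hklt : ∀ i : ℕ, i < k → Subsingleton (LocCoh.H (maximalIdeal R) i M) := by
    intro i hi
    have := Nat.find_min hex hi
    rwa [not_nontrivial_iff_subsingleton] at this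
  have hdepth : LocCoh.idealDepth (maximalIdeal R) M = k :=
    (Groth.Agent.S0318.result R (maximalIdeal R) M hIM k).mpr ⟨hklt, hk⟩
  have hkn : k ≤ n := Nat.find_min' hex hHn
  unfold LocCoh.IsCohenMacaulayModule LocCoh.depth
  rw [hn, hdepth]
  constructor
  · rintro ⟨i, hi, huniq⟩
    have h1 : n = i := huniq n hHn
    have h2 : k = i := huniq k hk
    rw [h1, ← h2]
    rfl
  · intro h
    have hnk : n = k := by exact_mod_cast h
    refine ⟨n, hHn, ?_⟩
    intro i hi
    by_contra hne
    rcases lt_or_gt_of_ne hne with hlt | hgt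
    · have := hklt i (hnk ▸ hlt)
      exact not_subsingleton _ this
    · have := hvan i hgt
      exact not_subsingleton _ this

end Groth.Agent.Lib.helper2.GNV
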