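import Mathlib
import Groth.Prelude.Def_EGA4c
import Groth.Agent.Lib.Helper2.PureClosed

set_option autoImplicit false
universe u

open AlgebraicGeometry StructureSheaf PrimeSpectrum TopologicalSpace CategoryTheory Opposite
open Groth.Agent.Lib.helper2.PureClosed

namespace Groth.Agent.Lib.helper2.CohPush

variable {A : Type u} [CommRing A] {M : Type u} [AddCommGroup M] [Module A M]

/-- a section over `D(J)` vanishing on `D(t)` is killed by a power of `t` (`J` f.g.) -/
theorem exists_pow_smul_eq_zero_of_vanish (J : Ideal A) (hJ : J.FG) (t : A)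
    (d : Sec A M (EGA4.openCompl A J))
    (hd : ∀ (q : PrimeSpectrum A) (hq : q ∈ EGA4.openCompl A J), t ∉ q.asIdeal → d.1 ⟨q, hq⟩ = 0) :
    ∃ l : ℕ, t ^ l • d = 0 := by
  classical
  obtain ⟨F, hF⟩ := hJ
  have hFJ : ∀ g ∈ F, g ∈ J := fun g hg => hF ▸ Ideal.subset_span hg
  -- for each generator a local exponent
  have key : ∀ g ∈ F, ∃ N : ℕ, ∀ (q : PrimeSpectrum A) (hq : q ∈ EGA4.openCompl A J),
      g ∉ q.asIdeal → t ^ N • d.1 ⟨q, hq⟩ = 0 := by
    intro g hg
    obtain ⟨m, k, hmk⟩ := exists_rep_basicOpen (EGA4.openCompl A J) d g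
      (basicOpen_le_openCompl J g (hFJ g hg))
    have hkill : ∃ N : ℕ, (g * t) ^ N • m = 0 := by
      rw [exists_pow_smul_eq_zero_iff]
      intro q hq
      have hgq : g ∉ q.asIdeal := fun h => hq (q.asIdeal.mul_mem_right t h)
      have htq : t ∉ q.asIdeal := fun h => hq (q.asIdeal.mul_mem_left g h)
      have h1 := hmk q hgq
      rw [hd q _ htq, smul_zero] at h1
      exact (mk_one_eq_zero_iff q m).mp h1.symm
    obtain ⟨N, hN⟩ := hkill
    refine ⟨N, fun q hq hgq => ?_⟩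
    apply smul_localized_injective q (g ^ (N + k)) (fun h => hgq (q.2.mem_of_pow_mem _ h))
    have h1 := hmk q hgq
    have h2 : (hq : q ∈ EGA4.openCompl A J) = (basicOpen_le_openCompl J g (hFJ g hg)) hgq := rfl
    calc g ^ (N + k) • t ^ N • d.1 ⟨q, hq⟩
        = (g ^ N * t ^ N) • (g ^ k • d.1 ⟨q, hq⟩) := by
          rw [pow_add, smul_smul, smul_smul]; congr 1; ring
      _ = (g ^ N * t ^ N) • LocalizedModule.mk m 1 := by rw [h1]
      _ = LocalizedModule.mk ((g * t) ^ N • m) 1 := by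
          rw [LocalizedModule.smul'_mk, mul_pow]
      _ = 0 := by rw [hN, LocalizedModule.zero_mk]
  choose! Nf hNf using key
  refine ⟨F.sup Nf, ?_⟩
  refine Subtype.ext (funext fun x => ?_)
  show t ^ (F.sup Nf) • d.1 x = 0
  obtain ⟨f, hfJ, hfx⟩ := (mem_openCompl_iff J x.1).mp x.2
  have : ∃ g ∈ F, g ∉ x.1.asIdeal := by
    by_contra hcon
    push Not at hcon
    apply hfx
    have h1 : Ideal.span (F : Set A) ≤ x.1.asIdeal := by
      rw [Ideal.span_le]
      exact fun g hg => hcon g hg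
    exact h1 (hF.symm ▸ hfJ)
  obtain ⟨g, hgF, hgx⟩ := this
  have hle : Nf g ≤ F.sup Nf := Finset.le_sup hgF
  obtain ⟨e, he⟩ := Nat.exists_eq_add_of_le hle
  rw [he, pow_add, mul_comm, mul_smul, hNf g hgF x.1 x.2 hgx, smul_zero]

/-- a section over `D(J)` becomes global after multiplication by a power of `t ∈ J` -/
theorem exists_pow_smul_eq_toOpen (J : Ideal A) (hJ : J.FG) (t : A) (ht : t ∈ J)
    (s : Sec A M (EGA4.openCompl A J)) :
    ∃ (k : ℕ) (m : M), t ^ k • s = toOpenₗ A M (EGA4.openCompl A J) m := by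
  obtain ⟨m, k, hmk⟩ := exists_rep_basicOpen (EGA4.openCompl A J) s t
    (basicOpen_le_openCompl J t ht)
  obtain ⟨l, hl⟩ := exists_pow_smul_eq_zero_of_vanish J hJ t
    (t ^ k • s - toOpenₗ A M (EGA4.openCompl A J) m) (by
      intro q hq htq
      show t ^ k • s.1 ⟨q, hq⟩ - LocalizedModule.mk m 1 = 0
      rw [hmk q htq, sub_self])
  refine ⟨l + k, t ^ l • m, ?_⟩
  rw [smul_sub, sub_eq_zero] at hl
  rw [pow_add, mul_smul, hl, map_smul]

/-- uniform exponent -/
theorem exists_uniform_pow (J : Ideal A) (hJ : J.FG) (t : A) (ht : t ∈ J)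
    [hfin : Module.Finite A (Sec A M (EGA4.openCompl A J))] :
    ∃ n : ℕ, ∀ s : Sec A M (EGA4.openCompl A J),
      ∃ m : M, t ^ n • s = toOpenₗ A M (EGA4.openCompl A J) m := by
  classical
  obtain ⟨G, hG⟩ := hfin.fg_top
  choose kf mf hkm using fun s : Sec A M (EGA4.openCompl A J) =>
    exists_pow_smul_eq_toOpen (M := M) J hJ t ht s
  refine ⟨G.sup kf, ?_⟩
  let T : Submodule A (Sec A M (EGA4.openCompl A J)) :=
    (LinearMap.range (toOpenₗ A M (EGA4.openCompl A J))).comap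
      (LinearMap.lsmul A (Sec A M (EGA4.openCompl A J)) (t ^ (G.sup kf)))
  have hT : T = ⊤ := by
    rw [eq_top_iff, ← hG, Submodule.span_le]
    intro g hg
    have hle : kf g ≤ G.sup kf := Finset.le_sup hg
    obtain ⟨e, he⟩ := Nat.exists_eq_add_of_le hle
    show t ^ (G.sup kf) • g ∈ LinearMap.range (toOpenₗ A M (EGA4.openCompl A J))
    rw [he, pow_add, mul_comm, mul_smul, hkm g]
    exact Submodule.smul_mem _ _ ⟨_, rfl⟩
  intro s
  have : s ∈ T := by rw [hT]; exact Submodule.mem_top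
  obtain ⟨m, hm⟩ := this
  exact ⟨m, hm.symm⟩

end Groth.Agent.Lib.helper2.CohPush
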