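import Mathlib
import Groth.Prelude.Def_Wider
import Groth.Agent.Lib.Helper2.PureClosed

set_option autoImplicit false
universe u

open AlgebraicGeometry StructureSheaf PrimeSpectrum TopologicalSpace CategoryTheory Opposite
open Groth.Agent.Lib.helper2.PureClosed

namespace Groth.Agent.Lib.helper2.PuncAff

variable (A : Type u) [CommRing A]

theorem map_eq_top_of_isAffineOpen (I : Ideal A)
    (hU : IsAffineOpen (LocCoh.puncturedOpen A I)) :
    Ideal.map (algebraMap A (Sec A A (LocCoh.puncturedOpen A I))) I = ⊤ := by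
  let X := Spec (CommRingCat.of A)
  let U : X.Opens := LocCoh.puncturedOpen A I
  let ρ : A → Γ(X, U) := fun a =>
    X.presheaf.map (homOfLE (le_top : U ≤ ⊤)).op ((Scheme.ΓSpecIso (CommRingCat.of A)).inv a)
  have hs : Ideal.span (ρ '' (I : Set A)) = ⊤ := by
    rw [← hU.self_le_iSup_basicOpen_iff]
    intro p hp
    let q : PrimeSpectrum A := p
    have hpU : ¬ ((I : Set A) ⊆ (q.asIdeal : Set A)) :=
      fun h => hp ((PrimeSpectrum.mem_zeroLocus q _).mpr h)
    rw [Set.not_subset] at hpU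
    obtain ⟨a, haI, hap⟩ := hpU
    have hmem : ρ a ∈ ρ '' (I : Set A) := ⟨a, haI, rfl⟩
    refine TopologicalSpace.Opens.mem_iSup.mpr ⟨⟨ρ a, hmem⟩, ?_⟩
    show p ∈ X.basicOpen (ρ a)
    rw [Scheme.basicOpen_res, basicOpen_eq_of_affine]
    exact ⟨hp, hap⟩
  have hρ : ∀ a : A, ρ a = algebraMap A (Sec A A (LocCoh.puncturedOpen A I)) a := by
    intro a
    rfl
  show Ideal.span ((algebraMap A (Sec A A (LocCoh.puncturedOpen A I))) '' (I : Set A)) = ⊤
  have himg : (algebraMap A (Sec A A (LocCoh.puncturedOpen A I))) '' (I : Set A) = ρ '' (I : Set A) := by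
    ext x
    constructor
    · rintro ⟨a, ha, rfl⟩
      exact ⟨a, ha, hρ a⟩
    · rintro ⟨a, ha, rfl⟩
      exact ⟨a, ha, (hρ a).symm⟩
  rw [himg]
  exact hs

end Groth.Agent.Lib.helper2.PuncAff
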