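import Mathlib
import Groth.Prelude.Def_Wider
import Groth.Agent.Lib.Helper2.CohPush3
import Groth.Agent.Lib.Helper2.PuncAff1
import Groth.Agent.Lib.Helper2.GNV4
import Groth.Agent.Lib.Helper19.LCTors
import Groth.Agent.S11614

set_option autoImplicit false
universe u

open AlgebraicGeometry StructureSheaf PrimeSpectrum TopologicalSpace CategoryTheory Opposite
open Groth.Agent.Lib.helper2.PureClosed Groth.Agent.Lib.helper2.CohPush
open Groth.Agent.Lib.helper19.LCBridge Groth.Agent.Lib.helper19.LCTors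
  Groth.Agent.Lib.helper19.LCZero

namespace Groth.Agent.Lib.helper2.PuncAff

variable (A : Type u) [CommRing A] [IsNoetherianRing A]

/-- kernel of `M → Γ(D(I), M~)` is `I`-power torsion -/
theorem ker_toOpenₗ_le (I : Ideal A) (M : Type u) [AddCommGroup M] [Module A M] :
    LinearMap.ker (toOpenₗ A M (EGA4.openCompl A I)) ≤ DRing.torsionSub I M := by
  intro m hm
  rw [LinearMap.mem_ker, toOpenₗ_openCompl_eq_zero_iff] at hm
  let 𝔞 : Ideal A := (⊥ : Submodule A M).colon {m}
  have hle : I ≤ 𝔞.radical := by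
    intro f hf
    obtain ⟨N, hN⟩ := hm f hf
    refine ⟨N, ?_⟩
    rw [Submodule.mem_colon_singleton, hN]
    exact Submodule.zero_mem _
  obtain ⟨n, hn⟩ := Ideal.exists_pow_le_of_le_radical_of_fg hle
    ((isNoetherianRing_iff_ideal_fg A).mp inferInstance _)
  refine ⟨n, fun a ha => ?_⟩
  have := hn ha
  rw [Submodule.mem_colon_singleton, Submodule.mem_bot] at this
  exact this

/-- cokernel of `M → Γ(D(I), M~)` is `I`-power torsion -/
theorem coker_toOpenₗ_isTors (I : Ideal A) (M : Type u) [AddCommGroup M] [Module A M] :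
    IsTors I (Sec A M (EGA4.openCompl A I) ⧸ LinearMap.range (toOpenₗ A M (EGA4.openCompl A I))) := by
  intro x
  obtain ⟨s, rfl⟩ := Submodule.mkQ_surjective _ x
  let 𝔞 : Ideal A := (LinearMap.range (toOpenₗ A M (EGA4.openCompl A I))).colon {s}
  have hle : I ≤ 𝔞.radical := by
    intro f hf
    obtain ⟨k, m, hk⟩ := exists_pow_smul_eq_toOpen (M := M) I
      ((isNoetherianRing_iff_ideal_fg A).mp inferInstance _) f hf s
    refine ⟨k, ?_⟩
    rw [Submodule.mem_colon_singleton, hk]
    exact ⟨m, rfl⟩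
  obtain ⟨n, hn⟩ := Ideal.exists_pow_le_of_le_radical_of_fg hle
    ((isNoetherianRing_iff_ideal_fg A).mp inferInstance _)
  refine ⟨n, fun a ha => ?_⟩
  have := hn ha
  rw [Submodule.mem_colon_singleton] at this
  rw [Submodule.mkQ_apply, ← Submodule.Quotient.mk_smul, Submodule.Quotient.mk_eq_zero]
  exact this

/-- local cohomology with support in the unit ideal vanishes -/
theorem H_top_subsingleton {B : Type u} [CommRing B] (j : ℕ) (N : Type u) [AddCommGroup N]
    [Module B N] : Subsingleton (LocCoh.H (⊤ : Ideal B) j N) := by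
  refine ⟨fun x y => ?_⟩
  have hz : ∀ z : LocCoh.H (⊤ : Ideal B) j N, z = 0 := by
    intro z
    obtain ⟨n, hn⟩ := H_powerTorsion (⊤ : Ideal B) j (ModuleCat.of B N) z
    have := hn 1 (by rw [Ideal.top_pow]; exact Submodule.mem_top)
    rwa [one_smul] at this
  rw [hz x, hz y]

/-- **If `D(I)` is affine then `cd(A, I) ≤ 1`.** -/
theorem vanish_of_isAffineOpen (I : Ideal A) (hU : IsAffineOpen (LocCoh.puncturedOpen A I))
    (M : Type u) [AddCommGroup M] [Module A M] (j : ℕ) (hj : 1 < j) :
    Subsingleton (LocCoh.H I j M) := by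
  haveI : IsNoetherianRing (Sec A A (LocCoh.puncturedOpen A I)) :=
    IsLocallyNoetherian.component_noetherian (X := Spec (CommRingCat.of A))
      ⟨LocCoh.puncturedOpen A I, hU⟩
  have hmap := map_eq_top_of_isAffineOpen A I hU
  have hbij := H_map_bijective_of_ker_coker_torsion I (toOpenₗ A M (EGA4.openCompl A I))
    (ker_toOpenₗ_le A I M) (coker_toOpenₗ_isTors A I M) j hj
  obtain ⟨φ, -⟩ := Groth.Agent.S11614.result A (Sec A A (LocCoh.puncturedOpen A I)) I
    (Sec A M (LocCoh.puncturedOpen A I)) j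
  have h1 : Subsingleton (LocCoh.H (Ideal.map (algebraMap A (Sec A A (LocCoh.puncturedOpen A I))) I)
      j (Sec A M (LocCoh.puncturedOpen A I))) := by
    rw [hmap]
    exact H_top_subsingleton j _
  have h2 : Subsingleton (LocCoh.H I j (Sec A M (LocCoh.puncturedOpen A I))) :=
    φ.symm.injective.subsingleton
  have h3 : Subsingleton ((localCohomology I j).obj
      (ModuleCat.of A (Sec A M (EGA4.openCompl A I))) : ModuleCat.{u} A) := h2
  exact hbij.1.subsingleton

end Groth.Agent.Lib.helper2.PuncAff
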