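import Mathlib
import Groth.Prelude.Def_Wider
import Groth.Prelude.Def_FEt
import Groth.Agent.Lib.Helper2.PuncAff2
import Groth.Agent.Lib.Helper2.GNV7

set_option autoImplicit false
universe u

open AlgebraicGeometry StructureSheaf PrimeSpectrum TopologicalSpace CategoryTheory Opposite
open IsLocalRing

namespace Groth.Agent.Lib.helper2.PuncAff

variable (A : Type u) [CommRing A] [IsNoetherianRing A] [IsLocalRing A]

/-- **Key lemma**: if the punctured spectrum of a Noetherian local ring is affine, `dim A ≤ 1`. -/
theorem ringKrullDim_le_one_of_isAffineOpen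
    (hU : IsAffineOpen (LocCoh.puncturedOpen A (maximalIdeal A))) : ringKrullDim A ≤ 1 := by
  obtain ⟨n, hn⟩ := GNV.exists_supportDim_eq_nat (R := A) A
  have hnt := GNV.nontrivial_H_supportDim n A hn
  rw [← Module.supportDim_self_eq_ringKrullDim, hn]
  by_contra hcon
  have h2 : 1 < n := by
    rw [not_le] at hcon
    exact_mod_cast hcon
  have := vanish_of_isAffineOpen A (maximalIdeal A) hU A n h2
  exact not_subsingleton _ this

lemma puncturedSpec_eq : FEt.puncturedSpec A = LocCoh.puncturedOpen A (maximalIdeal A) := by
  apply TopologicalSpace.Opens.ext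
  show ({IsLocalRing.closedPoint A}ᶜ : Set (PrimeSpectrum A)) =
    (PrimeSpectrum.zeroLocus ((maximalIdeal A : Ideal A) : Set A))ᶜ
  rw [PrimeSpectrum.zeroLocus_eq_singleton]
  rfl

/-- in dimension `≤ 1` the punctured spectrum is a basic open -/
theorem isAffineOpen_puncturedSpec_of_dim_le_one (h : ringKrullDim A ≤ 1) :
    IsAffineOpen (FEt.puncturedSpec A) := by
  classical
  have hfin : (minimalPrimes A).Finite := minimalPrimes.finite_of_isNoetherianRing A
  by_cases hall : ∀ p : PrimeSpectrum A, p = IsLocalRing.closedPoint A
  · have : FEt.puncturedSpec A = ⊥ := by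
      apply TopologicalSpace.Opens.ext
      ext p
      simp only [TopologicalSpace.Opens.coe_bot, Set.mem_empty_iff_false, iff_false]
      intro hp
      exact hp (hall p)
    rw [this]
    exact isAffineOpen_bot _
  · push Not at hall
    obtain ⟨p₀, hp₀⟩ := hall
    -- minimal primes are not maximal
    have hs : ∀ p ∈ hfin.toFinset, p.IsPrime ∧ p ≠ maximalIdeal A := by
      intro p hp
      rw [Set.Finite.mem_toFinset] at hp
      refine ⟨hp.1.1, ?_⟩
      rintro rfl
      apply hp₀
      apply PrimeSpectrum.ext
      have hle : p₀.asIdeal ≤ maximalIdeal A := le_maximalIdeal p₀.2.ne_top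
      exact le_antisymm hle (hp.2 ⟨p₀.2, bot_le⟩ hle)
    obtain ⟨x, hxm, hx⟩ := GNV.exists_mem_maximalIdeal_notMem A hfin.toFinset hs
    have : FEt.puncturedSpec A = PrimeSpectrum.basicOpen x := by
      apply TopologicalSpace.Opens.ext
      ext p
      constructor
      · intro hp
        have hpne : (p : PrimeSpectrum A) ≠ IsLocalRing.closedPoint A := hp
        let q : PrimeSpectrum A := p
        have hlt : q.asIdeal < maximalIdeal A := by
          refine lt_of_le_of_ne (le_maximalIdeal q.2.ne_top) ?_
          intro heq
          exact hpne (PrimeSpectrum.ext heq)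
        haveI := q.2
        have h1 : q.asIdeal.height + 1 ≤ (maximalIdeal A).height :=
          Ideal.height_add_one_le_of_lt_of_isPrime hlt
        have h2 : ((maximalIdeal A).height : WithBot ℕ∞) ≤ 1 :=
          (Ideal.height_le_ringKrullDim_of_ne_top (maximalIdeal.isMaximal A).ne_top).trans h
        have h3 : (maximalIdeal A).height ≤ 1 := by exact_mod_cast h2
        have h4 : q.asIdeal.height = 0 := by
          have : q.asIdeal.height + 1 ≤ 0 + 1 := by simpa using h1.trans h3
          exact le_antisymm ((ENat.add_le_add_iff_right ENat.one_ne_top).mp this) zero_le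
        rw [Ideal.height_eq_zero_iff] at h4
        exact hx _ ((Set.Finite.mem_toFinset hfin).mpr h4)
      · intro hp hpc
        have hp' : x ∉ (p : PrimeSpectrum A).asIdeal := hp
        apply hp'
        have : (p : PrimeSpectrum A) = IsLocalRing.closedPoint A := hpc
        rw [this]
        exact hxm
    rw [this]
    exact IsAffineOpen.Spec_basicOpen (R := CommRingCat.of A) x

theorem isAffineOpen_puncturedSpec_iff :
    IsAffineOpen (FEt.puncturedSpec A) ↔ ringKrullDim A ≤ 1 := by
  constructor
  · intro h
    rw [puncturedSpec_eq] at h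
    exact ringKrullDim_le_one_of_isAffineOpen A h
  · exact isAffineOpen_puncturedSpec_of_dim_le_one A

end Groth.Agent.Lib.helper2.PuncAff
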