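import Mathlib
import Groth.Prelude.Def_Wider
import Groth.Agent.Lib.Helper2.PuncAff3

set_option autoImplicit false
universe u

open AlgebraicGeometry StructureSheaf PrimeSpectrum TopologicalSpace CategoryTheory Opposite
open IsLocalRing

namespace Groth.Agent.Lib.helper2.PuncAff

variable (A : Type u) [CommRing A] [IsNoetherianRing A]

/-- the generic points of the complement of an affine open in `Spec A` have height `≤ 1` -/
theorem height_le_one_of_affineOpen_compl (U : (Spec (CommRingCat.of A)).Opens)
    (hU : IsAffineOpen U) (p : PrimeSpectrum A)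
    (hpU : (p : (Spec (CommRingCat.of A) : Type u)) ∉ (U : Set (Spec (CommRingCat.of A) : Type u)))
    (hmin : ∀ q : PrimeSpectrum A, q.asIdeal ≤ p.asIdeal →
      (q : (Spec (CommRingCat.of A) : Type u)) ∉ (U : Set (Spec (CommRingCat.of A) : Type u)) → q = p) :
    p.asIdeal.height ≤ 1 := by
  haveI := p.2
  let Ap := Localization.AtPrime p.asIdeal
  let φ : Spec (CommRingCat.of Ap) ⟶ Spec (CommRingCat.of A) :=
    Spec.map (CommRingCat.ofHom (algebraMap A Ap))
  have hpre : IsAffineOpen (φ ⁻¹ᵁ U) := hU.preimage φ
  have heq : φ ⁻¹ᵁ U = LocCoh.puncturedOpen Ap (maximalIdeal Ap) := by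
    apply TopologicalSpace.Opens.ext
    ext y
    let y' : PrimeSpectrum Ap := y
    have hcm : Ideal.comap (algebraMap A Ap) (maximalIdeal Ap) = p.asIdeal :=
      IsLocalization.AtPrime.under_maximalIdeal Ap p.asIdeal
    have hφy : φ y = PrimeSpectrum.comap (algebraMap A Ap) y' := rfl
    show φ y ∈ U ↔ y' ∉ PrimeSpectrum.zeroLocus ((maximalIdeal Ap : Ideal Ap) : Set Ap)
    rw [PrimeSpectrum.mem_zeroLocus, SetLike.coe_subset_coe]
    have hle : (PrimeSpectrum.comap (algebraMap A Ap) y').asIdeal ≤ p.asIdeal := by
      have h1 : y'.asIdeal ≤ maximalIdeal Ap := le_maximalIdeal y'.2.ne_top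
      have h2 := Ideal.comap_mono (f := algebraMap A Ap) h1
      rwa [hcm] at h2
    constructor
    · intro hyU hmax
      have hy : y'.asIdeal = maximalIdeal Ap :=
        ((maximalIdeal.isMaximal Ap).eq_of_le y'.2.ne_top hmax).symm
      have : PrimeSpectrum.comap (algebraMap A Ap) y' = p := by
        apply PrimeSpectrum.ext
        show Ideal.comap (algebraMap A Ap) y'.asIdeal = p.asIdeal
        rw [hy]
        exact hcm
      rw [hφy, this] at hyU
      exact hpU hyU
    · intro hnot
      by_contra hyU
      have := hmin (PrimeSpectrum.comap (algebraMap A Ap) y') hle (by rw [← hφy]; exact hyU)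
      apply hnot
      have h3 : Ideal.comap (algebraMap A Ap) y'.asIdeal = p.asIdeal :=
        congrArg PrimeSpectrum.asIdeal this
      have h4 : Ideal.map (algebraMap A Ap) (Ideal.comap (algebraMap A Ap) (maximalIdeal Ap)) =
          maximalIdeal Ap := IsLocalization.map_under p.asIdeal.primeCompl (S := Ap) (maximalIdeal Ap)
      have h5 : Ideal.map (algebraMap A Ap) (Ideal.comap (algebraMap A Ap) y'.asIdeal) =
          y'.asIdeal := IsLocalization.map_under p.asIdeal.primeCompl (S := Ap) y'.asIdeal
      have h6 : maximalIdeal Ap = y'.asIdeal := by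
        rw [← h4, ← h5]
        exact congrArg (Ideal.map (algebraMap A Ap)) (hcm.trans h3.symm)
      exact h6.le
  rw [heq] at hpre
  have hdim := ringKrullDim_le_one_of_isAffineOpen Ap hpre
  rw [IsLocalization.AtPrime.ringKrullDim_eq_height p.asIdeal Ap] at hdim
  exact_mod_cast hdim

end Groth.Agent.Lib.helper2.PuncAff
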