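import Mathlib
import Groth.Prelude.Def_NonAbH2
import Groth.Prelude.Def_Red2
import Groth.Agent.Lib.Helper15.GaGm

/-!
# Affine Čech set-up over a base scheme (helper2)

For `f : Spec R ⟶ S` and an `R`-algebra `A`, `ov f A : Over S` is `Spec A` over `S`; an `R`-algebra
map `g : A →ₐ[R] B` gives `ovMap f g : ov f B ⟶ ov f A`.  Points of `𝔾_a` on `ov f A` are the
elements of `A` (`fn`), and morphisms out of `ov f C` with equal pull-backs to `ov f (C ⊗ C)`
descend to `Spec R` when `C` is faithfully flat.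
-/

set_option autoImplicit false
set_option backward.isDefEq.respectTransparency false
universe u
open CategoryTheory MonoidalCategory CartesianMonoidalCategory MonObj GrpObj AlgebraicGeometry Limits
open scoped TensorProduct

namespace Groth.Agent.Lib.helper2.CechOv

open Groth.Agent.Lib.helper15.GaGm

variable {S : Scheme.{u}} {R : Type u} [CommRing R] (f : Spec (CommRingCat.of R) ⟶ S)

/-- `Spec A` over `S` -/
noncomputable abbrev ov (A : Type u) [CommRing A] [Algebra R A] : Over S :=
  Over.mk (Spec.map (CommRingCat.ofHom (algebraMap R A)) ≫ f)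

variable {A B D : Type u} [CommRing A] [CommRing B] [CommRing D] [Algebra R A] [Algebra R B]
  [Algebra R D]

/-- the morphism over `S` of an `R`-algebra map -/
noncomputable def ovMap (g : A →ₐ[R] B) : ov f B ⟶ ov f A :=
  Over.homMk (Spec.map (CommRingCat.ofHom g.toRingHom)) (by
    show Spec.map (CommRingCat.ofHom g.toRingHom) ≫
      Spec.map (CommRingCat.ofHom (algebraMap R A)) ≫ f =
      Spec.map (CommRingCat.ofHom (algebraMap R B)) ≫ f
    rw [← Category.assoc, ← Spec.map_comp, ← CommRingCat.ofHom_comp]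
    congr 3
    exact g.comp_algebraMap)

@[simp] lemma ovMap_left (g : A →ₐ[R] B) :
    (ovMap f g).left = Spec.map (CommRingCat.ofHom g.toRingHom) := rfl

lemma ovMap_comp (g : A →ₐ[R] B) (g' : B →ₐ[R] D) :
    ovMap f (g'.comp g) = ovMap f g' ≫ ovMap f g := by
  apply Over.OverMorphism.ext
  simp only [ovMap_left, Over.comp_left]
  rw [← Spec.map_comp, ← CommRingCat.ofHom_comp]
  rfl

/-- the element of `A` of a point of `𝔾_a` over `Spec A` -/
noncomputable def fn (x : ov f A ⟶ Red.Ga S) : A :=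
  (Scheme.ΓSpecIso (CommRingCat.of A)).hom (Red.gaFn x)

lemma fn_injective : Function.Injective (fn f : (ov f A ⟶ Red.Ga S) → A) := by
  intro x y h
  apply gaFn_injective
  have := congrArg (Scheme.ΓSpecIso (CommRingCat.of A)).inv h
  simpa [fn] using this

lemma exists_fn_eq (t : A) : ∃ x : ov f A ⟶ Red.Ga S, fn f x = t := by
  obtain ⟨x, hx⟩ := exists_gaFn_eq (X := ov f A) ((Scheme.ΓSpecIso (CommRingCat.of A)).inv t)
  refine ⟨x, ?_⟩
  rw [fn, hx]
  exact Iso.inv_hom_id_apply (C := CommRingCat) _ _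

lemma fn_mul (x y : ov f A ⟶ Red.Ga S) : fn f (x * y) = fn f x + fn f y := by
  rw [fn, gaFn_mul, map_add]; rfl

lemma fn_inv (x : ov f A ⟶ Red.Ga S) : fn f x⁻¹ = - fn f x := by
  rw [fn, gaFn_inv, map_neg]; rfl

lemma fn_ovMap (g : A →ₐ[R] B) (x : ov f A ⟶ Red.Ga S) : fn f (ovMap f g ≫ x) = g (fn f x) := by
  rw [fn, gaFn_comp, ovMap_left]
  have h := Scheme.ΓSpecIso_naturality (CommRingCat.ofHom g.toRingHom)
  have h2 := congrArg (fun t => t.hom (Red.gaFn x)) h
  exact h2

section descent
variable (C : Type u) [CommRing C] [Algebra R C]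

lemma isPullback_incl : IsPullback
    (Spec.map (CommRingCat.ofHom
      (Algebra.TensorProduct.includeLeft : C →ₐ[R] C ⊗[R] C).toRingHom))
    (Spec.map (CommRingCat.ofHom
      (Algebra.TensorProduct.includeRight : C →ₐ[R] C ⊗[R] C).toRingHom))
    (Spec.map (CommRingCat.ofHom (algebraMap R C)))
    (Spec.map (CommRingCat.ofHom (algebraMap R C))) :=
  isPullback_SpecMap_of_isPushout _ _ _ _ (CommRingCat.isPushout_tensorProduct R C C)

variable {C}

/-- fpqc descent of morphisms along `Spec C ⟶ Spec R` -/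
theorem exists_desc [Module.FaithfullyFlat R C] (X : Over S) (y : ov f C ⟶ X)
    (hy : ovMap f (Algebra.TensorProduct.includeLeft : C →ₐ[R] C ⊗[R] C) ≫ y =
      ovMap f (Algebra.TensorProduct.includeRight : C →ₐ[R] C ⊗[R] C) ≫ y) :
    ∃ s : Spec (CommRingCat.of R) ⟶ X.left, s ≫ X.hom = f := by
  have hff : (CommRingCat.ofHom (algebraMap R C)).hom.FaithfullyFlat :=
    RingHom.faithfullyFlat_algebraMap_iff.2 inferInstance
  obtain ⟨hfl, hsu⟩ := (flat_and_surjective_SpecMap_iff _).2 hff
  have hy' := congrArg Over.Hom.left hy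
  simp only [Over.comp_left, ovMap_left] at hy'
  let π := Spec.map (CommRingCat.ofHom (algebraMap R C))
  have hdesc : ∀ {Z : Scheme.{u}} (g₁ g₂ : Z ⟶ Spec (CommRingCat.of C)),
      g₁ ≫ π = g₂ ≫ π → g₁ ≫ y.left = g₂ ≫ y.left := by
    intro Z g₁ g₂ hg
    have e1 := (isPullback_incl (R := R) C).lift_fst g₁ g₂ hg
    have e2 := (isPullback_incl (R := R) C).lift_snd g₁ g₂ hg
    rw [← e1, Category.assoc, hy', ← Category.assoc, e2]
  refine ⟨EffectiveEpi.desc π y.left hdesc, ?_⟩
  have hepi : Epi π := inferInstance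
  rw [← cancel_epi π, ← Category.assoc, EffectiveEpi.fac]
  exact Over.w y

end descent

end Groth.Agent.Lib.helper2.CechOv
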