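import Mathlib
import Groth.Agent.Lib.Helper2.CechOv

/-!
# Affine Čech set-up over a base scheme, II: points of `𝔾_m`, descent over an intermediate base (helper2)
-/

set_option autoImplicit false
set_option backward.isDefEq.respectTransparency false
universe u
open CategoryTheory MonoidalCategory CartesianMonoidalCategory MonObj GrpObj AlgebraicGeometry Limits
open scoped TensorProduct

namespace Groth.Agent.Lib.helper2.CechOv

open Groth.Agent.Lib.helper15.GaGm

variable {S : Scheme.{u}} {R : Type u} [CommRing R] (f : Spec (CommRingCat.of R) ⟶ S)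
variable {A B : Type u} [CommRing A] [CommRing B] [Algebra R A] [Algebra R B]

/-- the element of `A` of a point of `𝔾_m` over `Spec A` -/
noncomputable def fnm (x : ov f A ⟶ Red.Gm S) : A :=
  (Scheme.ΓSpecIso (CommRingCat.of A)).hom (Red.gmFn x)

lemma fnm_injective : Function.Injective (fnm f : (ov f A ⟶ Red.Gm S) → A) := by
  intro x y h
  apply gmFn_injective
  have := congrArg (Scheme.ΓSpecIso (CommRingCat.of A)).inv h
  simpa [fnm] using this

lemma exists_fnm_eq (t t' : A) (ht : t * t' = 1) : ∃ x : ov f A ⟶ Red.Gm S, fnm f x = t := by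
  have hu : IsUnit ((Scheme.ΓSpecIso (CommRingCat.of A)).inv t) :=
    (IsUnit.of_mul_eq_one _ ht).map (Scheme.ΓSpecIso (CommRingCat.of A)).inv.hom
  obtain ⟨x, hx⟩ := exists_gmFn_eq (X := ov f A) _ hu
  refine ⟨x, ?_⟩
  rw [fnm, hx]
  exact Iso.inv_hom_id_apply (C := CommRingCat) _ _

lemma fnm_mul (x y : ov f A ⟶ Red.Gm S) : fnm f (x * y) = fnm f x * fnm f y := by
  rw [fnm, gmFn_mul, map_mul]; rfl

lemma fnm_ovMap (g : A →ₐ[R] B) (x : ov f A ⟶ Red.Gm S) :
    fnm f (ovMap f g ≫ x) = g (fnm f x) := by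
  rw [fnm, gmFn_comp, ovMap_left]
  have h := Scheme.ΓSpecIso_naturality (CommRingCat.ofHom g.toRingHom)
  have h2 := congrArg (fun t => t.hom (Red.gmFn x)) h
  exact h2

section descent
variable {R' C' : Type u} [CommRing R'] [CommRing C'] [Algebra R R'] [Algebra R' C'] [Algebra R C']
  [IsScalarTower R R' C']

/-- fpqc descent of morphisms along `Spec C' ⟶ Spec R'` for an `R`-algebra `R'` -/
theorem exists_desc' [Module.FaithfullyFlat R' C'] (X : Over S) (y : ov f C' ⟶ X)
    (hy : ovMap f ((Algebra.TensorProduct.includeLeft : C' →ₐ[R'] C' ⊗[R'] C').restrictScalars R)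
        ≫ y =
      ovMap f ((Algebra.TensorProduct.includeRight : C' →ₐ[R'] C' ⊗[R'] C').restrictScalars R)
        ≫ y) :
    ∃ s : Spec (CommRingCat.of R') ⟶ X.left,
      s ≫ X.hom = Spec.map (CommRingCat.ofHom (algebraMap R R')) ≫ f := by
  have hff : (CommRingCat.ofHom (algebraMap R' C')).hom.FaithfullyFlat :=
    RingHom.faithfullyFlat_algebraMap_iff.2 inferInstance
  obtain ⟨hfl, hsu⟩ := (flat_and_surjective_SpecMap_iff _).2 hff
  have hy' := congrArg Over.Hom.left hy
  simp only [Over.comp_left, ovMap_left] at hy'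
  let π := Spec.map (CommRingCat.ofHom (algebraMap R' C'))
  have hdesc : ∀ {Z : Scheme.{u}} (g₁ g₂ : Z ⟶ Spec (CommRingCat.of C')),
      g₁ ≫ π = g₂ ≫ π → g₁ ≫ y.left = g₂ ≫ y.left := by
    intro Z g₁ g₂ hg
    have e1 := (isPullback_incl (R := R') C').lift_fst g₁ g₂ hg
    have e2 := (isPullback_incl (R := R') C').lift_snd g₁ g₂ hg
    rw [← e1, Category.assoc]
    refine (congrArg (fun t => (isPullback_incl (R := R') C').lift g₁ g₂ hg ≫ t) hy').trans ?_
    rw [← Category.assoc]
    exact congrArg (fun t => t ≫ y.left) e2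
  refine ⟨EffectiveEpi.desc π y.left hdesc, ?_⟩
  have hepi : Epi π := inferInstance
  rw [← cancel_epi π, ← Category.assoc, EffectiveEpi.fac]
  refine (Over.w y).trans ?_
  show Spec.map (CommRingCat.ofHom (algebraMap R C')) ≫ f =
    Spec.map (CommRingCat.ofHom (algebraMap R' C')) ≫
      Spec.map (CommRingCat.ofHom (algebraMap R R')) ≫ f
  rw [← Category.assoc, ← Spec.map_comp, ← CommRingCat.ofHom_comp,
    ← IsScalarTower.algebraMap_eq R R' C']

end descent

end Groth.Agent.Lib.helper2.CechOv
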