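import Mathlib
import Groth.Agent.Lib.Helper2.CechTr1
import Groth.Agent.Lib.Helper27.SerreVan3
import Groth.Agent.S0464

/-!
# helper2: cohomology of the union of affine `X_{f_i}` as a Koszul colimit (S2439)
-/

set_option autoImplicit false
universe u

open CategoryTheory CategoryTheory.Limits HomologicalComplex Opposite TopologicalSpace
  AlgebraicGeometry

namespace Groth.Agent.Lib.helper2.CechTr

open Groth.Agent.Lib.helper27 Groth.Agent.Lib.helper7 Groth.Agent.Lib.helper8.CechQcqs
  Groth.Agent.Lib.helper2.CechDS Groth.Agent.Lib.helper2.CechLow Groth.Agent.Lib.helper2.ModSec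

variable {Y : Scheme.{u}} (M : Y.Modules) [CompactSpace Y] [QuasiSeparatedSpace Y]
  [M.IsQuasicoherent] (fs : List Γ(Y, ⊤))

include M in
lemma isAffineOpen_iInf (haff : ∀ i : Fin fs.length, IsAffineOpen (Y.basicOpen (fs.get i)))
    {n : ℕ} (a : Fin (n + 1) → ULift.{u} (Fin fs.length)) :
    IsAffineOpen (iInf fun k => Y.basicOpen (fs.get (a k).down)) := by
  classical
  have h1 : Y.basicOpen (∏ k, fs.get (a k).down) =
      (iInf fun k => Y.basicOpen (fs.get (a k).down)) := by
    have := (isLoc M).D_prod Finset.univ (fun k => fs.get (a k).down)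
    simp only [Finset.mem_univ, iInf_pos] at this
    exact this
  rw [← h1]
  have hle : Y.basicOpen (∏ k, fs.get (a k).down) ≤ Y.basicOpen (fs.get (a 0).down) := by
    rw [h1]
    exact iInf_le (fun k => Y.basicOpen (fs.get (a k).down)) 0
  have h2 := (haff (a 0).down).basicOpen
    (Y.presheaf.map (homOfLE (le_top : Y.basicOpen (fs.get (a 0).down) ≤ ⊤)).op
      (∏ k, fs.get (a k).down))
  rw [Scheme.basicOpen_res, inf_eq_right.2 hle] at h2
  exact h2

lemma iSup_ulift : (iSup fun i : ULift.{u} (Fin fs.length) => Y.basicOpen (fs.get i.down)) =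
    ⨆ i : Fin fs.length, Y.basicOpen (fs.get i) := by
  apply le_antisymm
  · exact iSup_le fun i => le_iSup (fun i : Fin fs.length => Y.basicOpen (fs.get i)) i.down
  · exact iSup_le fun i =>
      le_iSup (fun i : ULift.{u} (Fin fs.length) => Y.basicOpen (fs.get i.down)) ⟨i⟩

/-- S2439 -/
theorem HHon_equiv_koszulHLim
    (haff : ∀ i : Fin fs.length, IsAffineOpen (Y.basicOpen (fs.get i))) (q : ℕ) (hq : 1 ≤ q) :
    Nonempty (Coh.HHon Y M (⨆ i : Fin fs.length, Y.basicOpen (fs.get i)) q ≃+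
      CohIII.koszulHLim fs (M0 M) (q + 1)) := by
  have hacyc : ∀ (p : ℕ) (a : Fin (p + 1) → ULift.{u} (Fin fs.length)) (q : ℕ),
      Subsingleton (CohTop.HU (Coh.toAb M) (q + 1)
        (iInf fun k => Y.basicOpen (fs.get (a k).down))) := fun p a q =>
    SerreVan.subsingleton_HU_of_isAffineOpen M _ (isAffineOpen_iInf M fs haff a) q
  obtain ⟨e1⟩ := Groth.Agent.S0464.result (Coh.toAb M)
    (fun i : ULift.{u} (Fin fs.length) => Y.basicOpen (fs.get i.down)) hacyc q
  rw [iSup_ulift] at e1
  obtain ⟨e2⟩ := OpenRestr.HU_equiv_H_restr (⨆ i : Fin fs.length, Y.basicOpen (fs.get i))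
    (Coh.toAb M) q
  obtain ⟨e3⟩ := cechH_equiv_koszulHLim M fs q hq
  exact ⟨e2.symm.trans (e1.symm.trans e3)⟩

end Groth.Agent.Lib.helper2.CechTr
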