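import Mathlib
import Groth.Agent.Lib.Helper2.CechTr2
import Groth.Agent.Lib.Helper27.SerreVan

/-!
# helper2: cohomology of a quasi-compact open of `Spec R` with coefficients in `L~` (S0356)
-/

set_option autoImplicit false
universe u

open CategoryTheory CategoryTheory.Limits HomologicalComplex Opposite TopologicalSpace
  AlgebraicGeometry

namespace Groth.Agent.Lib.helper2.CechTr

open Groth.Agent.Lib.helper27 Groth.Agent.Lib.helper7
  Groth.Agent.Lib.helper2.CechDS Groth.Agent.Lib.helper2.CechLow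

section Spec

variable {R : CommRingCat.{u}} (fs : List R) (L : ModuleCat.{u} R)

/-- the union of the `D(f_i)` -/
noncomputable abbrev Ufs : (Spec R).Opens := ⨆ i : ιf fs, CechSpec.Dr (fs.get i.down)

lemma subsingleton_HU_iInf {n : ℕ} (a : Fin (n + 1) → ιf fs) (q : ℕ) :
    Subsingleton (CohTop.HU (Coh.toAb (tilde L)) (q + 1)
      (iInf fun k => CechSpec.Dr (fs.get (a k).down))) := by
  classical
  have h1 : CechSpec.Dr (∏ k, fs.get (a k).down) =
      (iInf fun k => CechSpec.Dr (fs.get (a k).down)) := by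
    have := (hLoc L).D_prod Finset.univ (fun k => fs.get (a k).down)
    simp only [Finset.mem_univ, iInf_pos] at this
    exact this
  rw [← h1]
  exact SerreVan.subsingleton_HU (tilde L) (isLocalizing_tilde L) _ q

/-- sheaf cohomology of `L~` on the union of the `D(f_i)` is Čech cohomology -/
theorem HU_equiv_cech (q : ℕ) :
    Nonempty (((cechComplexFunctor (UU (ff fs))).obj (tilde L).presheaf).homology q ≃+
      CohTop.HU (Coh.toAb (tilde L)) q (Ufs fs)) :=
  Groth.Agent.S0464.result (Coh.toAb (tilde L)) (UU (ff fs))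
    (fun p a q => subsingleton_HU_iInf fs L a q) q

/-- cohomology of the open subscheme `⋃ D(f_i)` with coefficients in `L~` -/
theorem HHon_spec_equiv_extCech (p : ℕ) :
    Nonempty (Coh.HHon (Spec R) (tilde L) (Ufs fs) (p + 1) ≃+
      DerCA.extCechH fs L ((p + 2 : ℕ) : ℤ)) := by
  obtain ⟨e1⟩ := HU_equiv_cech fs L (p + 1)
  obtain ⟨e2⟩ := OpenRestr.HU_equiv_H_restr (Ufs fs) (Coh.toAb (tilde L)) (p + 1)
  obtain ⟨e3⟩ := cech_equiv_extCech fs L p
  exact ⟨e2.symm.trans (e1.symm.trans e3)⟩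

end Spec


section Punctured

variable (A : Type u) [CommRing A]

lemma not_mem_zeroLocus_iff (fs : List A) (x : PrimeSpectrum A) :
    x ∉ PrimeSpectrum.zeroLocus (R := A) ((Ideal.span {a | a ∈ fs} : Ideal A) : Set A) ↔
      ∃ i : Fin fs.length, fs.get i ∉ x.asIdeal := by
  rw [PrimeSpectrum.zeroLocus_span, PrimeSpectrum.mem_zeroLocus, Set.not_subset]
  constructor
  · rintro ⟨g, hg, hgx⟩
    obtain ⟨i, rfl⟩ := List.mem_iff_get.mp hg
    exact ⟨i, hgx⟩
  · rintro ⟨i, hi⟩
    exact ⟨fs.get i, List.get_mem fs i, hi⟩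

lemma puncturedOpen_eq (fs : List A) :
    LocCoh.puncturedOpen A (Ideal.span {a | a ∈ fs}) = Ufs (R := CommRingCat.of A) fs := by
  apply Opens.ext
  apply Set.ext
  intro x
  constructor
  · intro hx
    obtain ⟨i, hi⟩ := (not_mem_zeroLocus_iff A fs x).1 hx
    exact Opens.mem_iSup.2 ⟨⟨i⟩, hi⟩
  · intro hx
    obtain ⟨i, hi⟩ := Opens.mem_iSup.1 hx
    exact (not_mem_zeroLocus_iff A fs x).2 ⟨i.down, hi⟩

lemma exists_list_span (I : Ideal A) (hI : I.FG) : ∃ fs : List A, Ideal.span {a | a ∈ fs} = I := by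
  obtain ⟨s, hs⟩ := hI
  refine ⟨s.toList, ?_⟩
  rw [← hs]
  congr 1
  ext a
  simp

/-- S0356 -/
theorem HH_punctured_equiv [IsNoetherianRing A] (I : Ideal A) (M : Type u) [AddCommGroup M]
    [Module A M] (p : ℕ) (hp : 1 ≤ p) :
    Nonempty (Coh.HH (↑(LocCoh.puncturedOpen A I))
      ((tilde (R := CommRingCat.of A) (ModuleCat.of A M)).restrict (LocCoh.puncturedOpen A I).ι) p
        ≃+ LocCoh.H I (p + 1) M) := by
  obtain ⟨fs, rfl⟩ := exists_list_span A I (IsNoetherian.noetherian I)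
  obtain ⟨q, rfl⟩ : ∃ q, p = q + 1 := ⟨p - 1, by omega⟩
  obtain ⟨e1⟩ := HHon_spec_equiv_extCech (R := CommRingCat.of A) fs (ModuleCat.of A M) q
  obtain ⟨e2⟩ := Groth.Agent.Lib.helper2.KC.localCohomology_equiv_koszulHLim fs M (q + 1 + 1)
  rw [puncturedOpen_eq]
  exact ⟨e1.trans (((Groth.Agent.Lib.helper2.KC.kcEquiv (ModuleCat.of A M) fs
    (q + 2)).symm.trans e2.symm).toAddEquiv)⟩

end Punctured

end Groth.Agent.Lib.helper2.CechTr
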