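import Mathlib
import Groth.Prelude.Def_LocCohZ

/-!
# helper2: cohomology with supports in low degrees and via the open complement, when the higher
cohomology of the whole space vanishes
-/

set_option autoImplicit false
universe u

open CategoryTheory CategoryTheory.Limits Opposite TopologicalSpace Abelian

namespace Groth.Agent.Lib.helper2.LCZ

variable {X : TopCat.{u}} (F : CohTop.Ab X) (U : Opens X)

/-- the free sheaf on an open -/
noncomputable abbrev ZZ (V : Opens X) : CohTop.Ab X :=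
  CohCx.freeSheaf (Opens.grothendieckTopology X) V

/-- the map `ℤ_U ⟶ ℤ_X` -/
noncomputable abbrev jU : ZZ U ⟶ ZZ (⊤ : Opens X) :=
  CohCx.freeSheafMap (Opens.grothendieckTopology X) (homOfLE (le_top : U ≤ ⊤))

/-- `H^0(V, F) = F(V)` -/
noncomputable def sigma (V : Opens X) : Ext (ZZ V) F 0 ≃+ F.obj.obj (op V) :=
  (Ext.addEquiv₀ (X := ZZ V) (Y := F)).trans
    (CohFree.homEquivSect (Opens.grothendieckTopology X) V F)

lemma sigma_mk₀ (V : Opens X) (φ : ZZ V ⟶ F) :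
    sigma F V (Ext.mk₀ φ) = CohFree.evalGen (Opens.grothendieckTopology X) V F φ := by
  have h : Ext.addEquiv₀ (Ext.mk₀ φ) = φ := Ext.addEquiv₀.apply_symm_apply φ
  show CohFree.homEquivSect _ V F (Ext.addEquiv₀ (Ext.mk₀ φ)) = _
  rw [h]
  rfl

/-- the short exact sequence `ℤ_U → ℤ_X → ℤ_X/ℤ_U` -/
lemma hS : (LocCohZ.zqSeq (le_top : U ≤ ⊤)).ShortExact := LocCohZ.zqSeq_shortExact _

/-- the connecting map -/
noncomputable abbrev dlt (i : ℕ) : Ext (ZZ U) F i →+ LocCohZ.HZc F (i + 1) U :=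
  LocCohZ.delta F i (le_top : U ≤ ⊤)

lemma dlt_apply (i : ℕ) (x : Ext (ZZ U) F i) :
    dlt F U i x = (hS U).extClass.comp x (by omega : 1 + i = i + 1) := rfl

variable (hvan : ∀ k : ℕ, Subsingleton (Ext (ZZ (⊤ : Opens X)) F (k + 1)))

include hvan in
/-- the connecting map `H^{j+1}(U, F) → H^{j+2}_Z(X, F)` is bijective -/
theorem delta_bijective (j : ℕ) : Function.Bijective (dlt F U (j + 1)) := by
  constructor
  · rw [injective_iff_map_eq_zero]
    intro x₁ hx₁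
    rw [dlt_apply] at hx₁
    obtain ⟨x₂, hx₂⟩ := Ext.contravariant_sequence_exact₁ (hS U) F x₁ (by omega) hx₁
    have h0 : x₂ = 0 := (hvan j).elim _ _
    rw [← hx₂, h0, Ext.comp_zero]
    rfl
  · intro x₃
    have h0 : (Ext.mk₀ (LocCohZ.zqSeq (le_top : U ≤ ⊤)).g).comp x₃ (zero_add (j + 1 + 1)) = 0 :=
      (hvan (j + 1)).elim _ _
    obtain ⟨x₁, hx₁⟩ := Ext.contravariant_sequence_exact₃ (hS U) F x₃ h0
      (by omega : 1 + (j + 1) = j + 1 + 1)
    exact ⟨x₁, hx₁⟩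

/-- `H^{j+1}(U, F) ≃ H^{j+2}_Z(X, F)` -/
noncomputable def deltaEquiv (j : ℕ) : CohTop.HU F (j + 1) U ≃+ LocCohZ.HZc F (j + 2) U :=
  AddEquiv.ofBijective (dlt F U (j + 1)) (delta_bijective F U hvan j)

/-- the restriction map on sections -/
noncomputable abbrev resTop : F.obj.obj (op (⊤ : Opens X)) →+ F.obj.obj (op U) :=
  (F.obj.map (homOfLE (le_top : U ≤ ⊤)).op).hom

include hvan in
lemma delta_zero_surjective : Function.Surjective (dlt F U 0) := by
  intro x₃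
  have h0 : (Ext.mk₀ (LocCohZ.zqSeq (le_top : U ≤ ⊤)).g).comp x₃ (zero_add (0 + 1)) = 0 :=
    (hvan 0).elim _ _
  obtain ⟨x₁, hx₁⟩ := Ext.contravariant_sequence_exact₃ (hS U) F x₃ h0 (by omega : 1 + 0 = 0 + 1)
  exact ⟨x₁, hx₁⟩

lemma map_ker_delta_zero :
    (dlt F U 0).ker.map (sigma F U).toAddMonoidHom = (resTop F U).range := by
  ext s
  constructor
  · rintro ⟨x₁, hx₁, rfl⟩
    have hx₁' : (hS U).extClass.comp x₁ (by omega : 1 + 0 = 0 + 1) = 0 := hx₁
    obtain ⟨x₂, hx₂⟩ := Ext.contravariant_sequence_exact₁ (hS U) F x₁ (by omega) hx₁'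
    obtain ⟨ψ, rfl⟩ := (Ext.mk₀_bijective _ _).2 x₂
    let ψ' : ZZ (⊤ : Opens X) ⟶ F := ψ
    refine ⟨CohFree.evalGen (Opens.grothendieckTopology X) ⊤ F ψ', ?_⟩
    have h1 : x₁ = Ext.mk₀ (jU U ≫ ψ') := by
      rw [← hx₂]
      exact Ext.mk₀_comp_mk₀ _ _
    show _ = sigma F U x₁
    rw [h1, sigma_mk₀]
    exact (CohFree.evalGen_freeSheafMap_comp _ _ _ _).symm
  · rintro ⟨t, rfl⟩
    refine ⟨Ext.mk₀ (jU U ≫ CohFree.ofSect (Opens.grothendieckTopology X) ⊤ F t), ?_, ?_⟩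
    · show dlt F U 0 _ = 0
      rw [dlt_apply]
      have : Ext.mk₀ (jU U ≫ CohFree.ofSect (Opens.grothendieckTopology X) ⊤ F t) =
          (Ext.mk₀ (LocCohZ.zqSeq (le_top : U ≤ ⊤)).f).comp
            (Ext.mk₀ (CohFree.ofSect (Opens.grothendieckTopology X) ⊤ F t)) (zero_add 0) :=
        (Ext.mk₀_comp_mk₀ _ _).symm
      rw [this]
      exact (hS U).extClass_comp_assoc _
    · show sigma F U (Ext.mk₀ _) = _
      rw [sigma_mk₀, CohFree.evalGen_freeSheafMap_comp, CohFree.evalGen_ofSect]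

/-- `H^1_Z(X, F)` is the cokernel of the restriction `F(X) → F(U)` -/
noncomputable def HZ_one_equiv :
    LocCohZ.HZc F 1 U ≃+ (F.obj.obj (op U) ⧸ (resTop F U).range) :=
  (QuotientAddGroup.quotientKerEquivOfSurjective (dlt F U 0)
    (delta_zero_surjective F U hvan)).symm.trans
    (QuotientAddGroup.congr _ _ (sigma F U) (map_ker_delta_zero F U))

end Groth.Agent.Lib.helper2.LCZ
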