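import Mathlib
import Groth.Agent.Lib.Helper2.CechTr3
import Groth.Agent.Lib.Helper2.LocCohZ1

/-!
# helper2: cohomology with supports of `L~` on `Spec R` as extended Čech cohomology (S6032)
-/

set_option autoImplicit false
universe u

open CategoryTheory CategoryTheory.Limits HomologicalComplex Opposite TopologicalSpace
  AlgebraicGeometry

namespace Groth.Agent.Lib.helper2.CechTr

open Groth.Agent.Lib.helper27 Groth.Agent.Lib.helper7 Groth.Agent.Lib.helper2.AugCx
  Groth.Agent.Lib.helper2.CechDS Groth.Agent.Lib.helper2.CechLow Groth.Agent.Lib.helper2.LCZ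

variable {R : CommRingCat.{u}} (fs : List R) (L : ModuleCat.{u} R)

/-- the abelian sheaf underlying `L~` -/
noncomputable abbrev FL : CohTop.Ab (Spec R).carrier := Coh.toAb (tilde L)

lemma hvanL (k : ℕ) : Subsingleton (Abelian.Ext (ZZ (⊤ : (Spec R).Opens)) (FL L) (k + 1)) := by
  have h := SerreVan.subsingleton_HU (tilde L) (isLocalizing_tilde L) 1 k
  have e : (CechSpec.Dr (1 : R) : (Spec R).Opens) = ⊤ := PrimeSpectrum.basicOpen_one
  rw [e] at h
  exact h

/-- the augmentation from the sections over the union -/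
noncomputable def PsiU : (tilde L).presheaf.obj (op (Ufs fs)) ⟶
    (∏ᶜ Cech.Z (UU (ff fs)) (tilde L).presheaf 0 : AddCommGrpCat.{u}) :=
  Cech.ε (UU (ff fs)) (tilde L).presheaf (Ufs fs)
    (fun j => homOfLE (le_iSup (fun i : ιf fs => CechSpec.Dr (fs.get i.down)) j))

lemma PsiU_d (s : (tilde L).presheaf.obj (op (Ufs fs))) :
    Cech.d' (UU (ff fs)) (tilde L).presheaf 0 (PsiU fs L s) = 0 :=
  Cech.d'_ε _ _ _ _ s

lemma ΦQ_PsiU (s : (tilde L).presheaf.obj (op (Ufs fs))) (T : (Spec R).Opens)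
    (t : Fin 1 → Cech.Sec (UU (ff fs)) T) :
    Cech.ΦQ (UU (ff fs)) (tilde L).presheaf 0 (PsiU fs L s) T t =
      (tilde L).presheaf.map ((t 0).2 ≫
        homOfLE (le_iSup (fun i : ιf fs => CechSpec.Dr (fs.get i.down)) (t 0).1)).op s :=
  Cech.ΦQ_ε _ _ _ _ s T t

lemma PsiU_toOpenL (x : L) : PsiU fs L (toOpenL L (Ufs fs) x) = eta (ff fs) L x := by
  apply Cech.ΦQ_injective
  funext T t
  rw [ΦQ_PsiU]
  have h2 : Cech.ΦQ (UU (ff fs)) (tilde L).presheaf 0 (eta (ff fs) L x) T t =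
      (tilde L).presheaf.map ((t 0).2 ≫ homOfLE le_top).op (toOpenL L ⊤ x) :=
    Cech.ΦQ_ε _ _ _ _ _ T t
  rw [h2, toOpenL_res, toOpenL_res]


/-- gluing: cocycles in degree zero are sections over the union -/
lemma exists_PsiU_eq (c : (∏ᶜ Cech.Z (UU (ff fs)) (tilde L).presheaf 0 : AddCommGrpCat.{u}))
    (hc : Cech.d' (UU (ff fs)) (tilde L).presheaf 0 c = 0) :
    ∃! s : (tilde L).presheaf.obj (op (Ufs fs)), PsiU fs L s = c := by
  have hG := CechSite.hG (Opens.grothendieckTopology (Spec R).carrier)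
    (𝟭 (Opens (Spec R).carrier)) (UU (ff fs)) (W := Ufs fs)
    (fun i => homOfLE (le_iSup (fun i : ιf fs => CechSpec.Dr (fs.get i.down)) i))
    (by
      intro x hx
      obtain ⟨i, hi⟩ := Opens.mem_iSup.1 hx
      exact ⟨UU (ff fs) i, homOfLE (le_iSup (UU (ff fs)) i), Sieve.ofArrows_mk _ _ i, hi⟩)
    (fun i j Z gi gj hij => ⟨Z, 𝟙 Z, gi, gj, by simp, by simp⟩) (FL L)
    (Cech.ΦQ (UU (ff fs)) (tilde L).presheaf 0 c) (Cech.ΦQ_isNat _ _ 0 c) (by
      have := Cech.ΦQ_d' (UU (ff fs)) (tilde L).presheaf 0 c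
      rw [hc, map_zero] at this
      exact this.symm)
  obtain ⟨γ, hγ, huniq⟩ := hG
  refine ⟨γ, ?_, ?_⟩
  · apply Cech.ΦQ_injective
    funext T t
    refine (ΦQ_PsiU fs L γ T t).trans ?_
    exact (hγ T t).symm
  · intro s hs
    apply huniq
    intro T t
    rw [← hs]
    exact ΦQ_PsiU fs L s T t

lemma PsiU_injective : Function.Injective (PsiU fs L) := by
  intro s s' h
  obtain ⟨γ, -, huniq⟩ := exists_PsiU_eq fs L (PsiU fs L s') (PsiU_d fs L s')
  rw [huniq s h, huniq s' rfl]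

lemma toOpenL_top_bijective : Function.Bijective (toOpenL L (⊤ : (Spec R).Opens)) := by
  have h : IsIso (tilde.toOpen L ⊤) := inferInstance
  rw [ConcreteCategory.isIso_iff_bijective] at h
  exact h

lemma toOpenL_U_eq_zero_iff (x : L) :
    toOpenL L (Ufs fs) x = 0 ↔ x ∈ DRing.torsionSub (Groth.Agent.Lib.helper2.ExtCech.spanL fs) L := by
  rw [← eta_eq_zero_iff, ← PsiU_toOpenL]
  constructor
  · intro h
    rw [h]
    exact map_zero _
  · intro h
    apply PsiU_injective fs L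
    rw [h]
    exact (map_zero _).symm

/-- restriction of sections of `L~` from the whole space to the union -/
noncomputable abbrev resTopL : Γ(tilde L, (⊤ : (Spec R).Opens)) →+ Γ(tilde L, Ufs fs) :=
  ((tilde L).presheaf.map (homOfLE (le_top : Ufs fs ≤ ⊤)).op).hom

lemma resTopL_toOpenL (x : L) : resTopL fs L (toOpenL L ⊤ x) = toOpenL L (Ufs fs) x :=
  toOpenL_res L _ x

/-- degree zero -/
noncomputable def kerResEquiv :
    (resTopL fs L).ker ≃+ DRing.torsionSub (Groth.Agent.Lib.helper2.ExtCech.spanL fs) L := by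
  refine (AddEquiv.ofBijective
    ({ toFun := fun x => ⟨toOpenL L ⊤ x.1, ?_⟩
       map_zero' := ?_
       map_add' := ?_ } :
      DRing.torsionSub (Groth.Agent.Lib.helper2.ExtCech.spanL fs) L →+ (resTopL fs L).ker)
    ⟨?_, ?_⟩).symm
  · rw [AddMonoidHom.mem_ker, resTopL_toOpenL]
    exact (toOpenL_U_eq_zero_iff fs L x.1).2 x.2
  · apply Subtype.ext
    exact map_zero (toOpenL L ⊤)
  · intro x y
    apply Subtype.ext
    exact map_add (toOpenL L ⊤) x.1 y.1
  · intro x y h
    apply Subtype.ext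
    exact (toOpenL_top_bijective L).1 (congrArg Subtype.val h)
  · rintro ⟨t, ht⟩
    obtain ⟨x, rfl⟩ := (toOpenL_top_bijective L).2 t
    rw [AddMonoidHom.mem_ker, resTopL_toOpenL] at ht
    exact ⟨⟨x, (toOpenL_U_eq_zero_iff fs L x).1 ht⟩, rfl⟩


/-! ### degree one -/

/-- the augmented Čech complex of `L~` -/
noncomputable abbrev KL : CochainComplex AddCommGrpCat.{u} ℕ := (augF (ff fs)).obj L

/-- the short complex computing `H^1` of the augmented complex -/
noncomputable abbrev SL : ShortComplex AddCommGrpCat.{u} := (KL fs L).sc' 0 1 2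

lemma SL_f_apply (x : L) : (SL fs L).f x = eta (ff fs) L x := rfl

lemma SL_g_apply (c : (∏ᶜ Cech.Z (UU (ff fs)) (tilde L).presheaf 0 : AddCommGrpCat.{u})) :
    (SL fs L).g c = Cech.d' (UU (ff fs)) (tilde L).presheaf 0 c := rfl

/-- the map from sections over the union to `H^1` of the augmented complex -/
noncomputable def thetaU : Γ(tilde L, Ufs fs) →+
    ((SL fs L).g.hom.ker ⧸ (SL fs L).abToCycles.range) where
  toFun s := QuotientAddGroup.mk ⟨PsiU fs L s, PsiU_d fs L s⟩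
  map_zero' := by
    have : (⟨PsiU fs L 0, PsiU_d fs L 0⟩ : (SL fs L).g.hom.ker) = 0 :=
      Subtype.ext (map_zero _)
    rw [this]
    rfl
  map_add' s s' := by
    have : (⟨PsiU fs L (s + s'), PsiU_d fs L (s + s')⟩ : (SL fs L).g.hom.ker) =
        ⟨PsiU fs L s, PsiU_d fs L s⟩ + ⟨PsiU fs L s', PsiU_d fs L s'⟩ :=
      Subtype.ext (map_add _ _ _)
    rw [this]
    rfl

lemma thetaU_surjective : Function.Surjective (thetaU fs L) := by
  intro y
  obtain ⟨⟨c, hc⟩, rfl⟩ := QuotientAddGroup.mk_surjective y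
  obtain ⟨s, hs, -⟩ := exists_PsiU_eq fs L c hc
  refine ⟨s, ?_⟩
  show QuotientAddGroup.mk _ = QuotientAddGroup.mk _
  congr 1
  exact Subtype.ext hs

lemma thetaU_ker : (thetaU fs L).ker = (resTopL fs L).range := by
  ext s
  rw [AddMonoidHom.mem_ker]
  show (QuotientAddGroup.mk _ : (SL fs L).g.hom.ker ⧸ (SL fs L).abToCycles.range) = 0 ↔ _
  rw [QuotientAddGroup.eq_zero_iff]
  constructor
  · rintro ⟨(x : L), hx⟩
    have hx' : eta (ff fs) L x = PsiU fs L s := congrArg Subtype.val hx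
    have hx'' : PsiU fs L (toOpenL L (Ufs fs) x) = PsiU fs L s :=
      (PsiU_toOpenL fs L x).trans hx'
    have := PsiU_injective fs L hx''
    exact ⟨toOpenL L ⊤ x, (resTopL_toOpenL fs L x).trans this⟩
  · rintro ⟨t, rfl⟩
    obtain ⟨x, rfl⟩ := (toOpenL_top_bijective L).2 t
    refine ⟨x, Subtype.ext ?_⟩
    show eta (ff fs) L x = PsiU fs L (resTopL fs L (toOpenL L ⊤ x))
    rw [resTopL_toOpenL, PsiU_toOpenL]

/-- the cokernel of the restriction to the union is `H^1` of the augmented complex -/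
noncomputable def cokerResEquiv :
    (Γ(tilde L, Ufs fs) ⧸ (resTopL fs L).range) ≃+ (KL fs L).homology 1 :=
  ((QuotientAddGroup.quotientAddEquivOfEq (thetaU_ker fs L).symm).trans
    (QuotientAddGroup.quotientKerEquivOfSurjective (thetaU fs L) (thetaU_surjective fs L))).trans
    (((KL fs L).homologyIsoSc' 0 1 2 (by simp) (by simp)) ≪≫
      (SL fs L).abHomologyIso).addCommGroupIsoToAddEquiv.symm

/-! ### the main theorem -/

/-- **cohomology with supports in `V(fs)` of `L~` is extended Čech cohomology** -/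
theorem HZ_equiv_extCech (i : ℕ) :
    Nonempty (LocCohZ.HZM (Spec R) (tilde L) i (Ufs fs) ≃+ DerCA.extCechH fs L (i : ℤ)) := by
  match i with
  | 0 =>
    obtain ⟨e⟩ := aug_equiv_extCech fs L 0
    have e0 := LocCohZ.sect0Equiv (FL L) (le_top : Ufs fs ≤ ⊤)
    have e1 : (resTopL fs L).ker ≃+ (KL fs L).homology 0 :=
      (kerResEquiv fs L).trans ((augmentH0Equiv ((cechF (ff fs)).obj L) (etaX (ff fs) L)
        (etaX_d (ff fs) L)).trans (kerEtaEquiv fs L)).symm
    exact ⟨e0.trans (e1.trans e)⟩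
  | 1 =>
    obtain ⟨e⟩ := aug_equiv_extCech fs L 1
    have e0 := HZ_one_equiv (FL L) (Ufs fs) (hvanL L)
    exact ⟨e0.trans ((cokerResEquiv fs L).trans e)⟩
  | (j + 2) =>
    obtain ⟨e1⟩ := HU_equiv_cech fs L (j + 1)
    obtain ⟨e2⟩ := cech_equiv_extCech fs L j
    have e0 := deltaEquiv (FL L) (Ufs fs) (hvanL L) j
    exact ⟨e0.symm.trans (e1.symm.trans e2)⟩

end Groth.Agent.Lib.helper2.CechTr
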