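import Mathlib
import Groth.Agent.Lib.Helper2.CechTr4
import Groth.Agent.Lib.Helper27.LocCohLES

/-!
# helper2: flasqueness of `M~` for injective `M` and Koszul cohomology (S6033)
-/

set_option autoImplicit false
universe u

open CategoryTheory CategoryTheory.Limits HomologicalComplex Opposite TopologicalSpace
  AlgebraicGeometry

namespace Groth.Agent.Lib.helper2.CechTr

open Groth.Agent.Lib.helper27 Groth.Agent.Lib.helper7 Groth.Agent.Lib.helper2.AugCx
  Groth.Agent.Lib.helper2.CechDS Groth.Agent.Lib.helper2.CechLow Groth.Agent.Lib.helper2.LCZ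

variable {R : CommRingCat.{u}}

lemma mem_compl_zeroLocus_finset {R₀ : Type u} [CommRing R₀] (s : Finset R₀)
    (x : PrimeSpectrum R₀) :
    x ∈ (PrimeSpectrum.zeroLocus (s : Set R₀))ᶜ ↔ ∃ a ∈ s, a ∉ x.asIdeal := by
  rw [Set.mem_compl_iff, PrimeSpectrum.mem_zeroLocus, Set.not_subset]
  rfl

lemma exists_list_eq_Ufs (U : (Spec R).Opens) (hU : IsCompact (U : Set (Spec R))) :
    ∃ fs : List R, U = Ufs fs := by
  obtain ⟨s, hs⟩ := (PrimeSpectrum.isCompact_isOpen_iff (R := R)
    (s := U.1)).1 ⟨hU, U.2⟩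
  refine ⟨s.toList, ?_⟩
  apply Opens.ext
  apply Set.ext
  intro x
  have key : x ∈ U.carrier ↔ ∃ a ∈ s, a ∉ PrimeSpectrum.asIdeal (R := R) x := by
    rw [← hs]
    exact mem_compl_zeroLocus_finset s x
  show x ∈ U.carrier ↔ _
  refine key.trans ?_
  constructor
  · rintro ⟨a, has, hax⟩
    have ha' : a ∈ s.toList := Finset.mem_toList.2 has
    obtain ⟨i, hi⟩ := List.mem_iff_get.1 ha'
    refine Opens.mem_iSup.2 ⟨⟨i⟩, ?_⟩
    show s.toList.get i ∉ PrimeSpectrum.asIdeal (R := R) x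
    rw [hi]
    exact hax
  · intro hx
    obtain ⟨i, hi⟩ := Opens.mem_iSup.1 hx
    exact ⟨s.toList.get i.down, Finset.mem_toList.1 (List.get_mem _ _), hi⟩

section S6033

variable (A : Type u) [CommRing A]

/-- S6033, part 2 -/
theorem koszulHLim_subsingleton_of_flasque (fs : List A) (M : Type u) [AddCommGroup M]
    [Module A M]
    (hfl : TopCat.Sheaf.IsFlasque (Coh.toAb (tilde (R := CommRingCat.of A) (ModuleCat.of A M))))
    (i : ℕ) (hi : 0 < i) : Subsingleton (CohIII.koszulHLim fs (ModuleCat.of A M) i) := by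
  obtain ⟨j, rfl⟩ : ∃ j, i = j + 1 := ⟨i - 1, by omega⟩
  obtain ⟨e⟩ := HZ_equiv_extCech (R := CommRingCat.of A) fs (ModuleCat.of A M) (j + 1)
  have h1 : Subsingleton (LocCohZ.HZM (Spec (CommRingCat.of A))
      (tilde (R := CommRingCat.of A) (ModuleCat.of A M)) (j + 1)
      (Ufs (R := CommRingCat.of A) fs)) :=
    LocCohLES.subsingleton_HZ_succ _ _ j
  exact ((Groth.Agent.Lib.helper2.KC.kcEquiv (ModuleCat.of A M) fs (j + 1)).toAddEquiv.trans
    e.symm).toEquiv.subsingleton

/-- S6033, converse -/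
theorem isFlasque_of_koszulHLim_one [NoetherianSpace (PrimeSpectrum A)] (M : Type u)
    [AddCommGroup M] [Module A M]
    (h : ∀ fs : List A, Subsingleton (CohIII.koszulHLim fs (ModuleCat.of A M) 1)) :
    TopCat.Sheaf.IsFlasque (Coh.toAb (tilde (R := CommRingCat.of A) (ModuleCat.of A M))) := by
  apply LocCohLES.isFlasque_of_HZc_one
  intro U
  obtain ⟨fs, rfl⟩ := exists_list_eq_Ufs (R := CommRingCat.of A) U
    (NoetherianSpace.isCompact (α := PrimeSpectrum A) _)
  obtain ⟨e⟩ := HZ_equiv_extCech (R := CommRingCat.of A) fs (ModuleCat.of A M) 1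
  have := h fs
  exact ((Groth.Agent.Lib.helper2.KC.kcEquiv (ModuleCat.of A M) fs 1).toAddEquiv.trans
    e.symm).symm.toEquiv.subsingleton

end S6033

end Groth.Agent.Lib.helper2.CechTr
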