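import Mathlib
import Groth.Prelude.Def_TwC
import Groth.Agent.Lib.Helper2.ConstFin2

/-! Isotrivial twisted constant groups are unions of clopen pieces finite over the base (helper2). -/

set_option autoImplicit false

namespace Groth.Agent.Lib.helper2.ConstFin

open CategoryTheory MonoidalCategory CartesianMonoidalCategory AlgebraicGeometry Limits
open Groth.Agent.Lib.helper2.ConstPts Groth.Agent.Lib.Helper4.FpqcCoverDescent

universe u

section Isotrivial

/-- each copy of the base is closed in the constant scheme -/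
theorem isClosed_range_inc (U : Scheme.{u}) (M : Type u) (m : M) :
    IsClosed (Set.range (inc U M m).base) := by
  rw [← isOpen_compl_iff]
  have : (Set.range (inc U M m).base)ᶜ = ⋃ m' ∈ {m' : M | m' ≠ m}, Set.range (inc U M m').base := by
    ext p
    simp only [Set.mem_compl_iff, Set.mem_iUnion, exists_prop]
    constructor
    · intro hp
      obtain ⟨m', y, hy⟩ := (sigmaOpenCover (fun _ : M => U)).exists_eq p
      refine ⟨m', ?_, y, hy⟩
      rintro rfl
      exact hp ⟨y, hy⟩
    · rintro ⟨m', hne, hp'⟩ hp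
      have hd := disjoint_opensRange_sigmaι (fun _ : M => U) m' m hne
      rw [← TopologicalSpace.Opens.coe_disjoint] at hd
      exact Set.disjoint_left.1 hd hp' hp
  rw [this]
  exact isOpen_biUnion (fun m' _ => (inc U M m').isOpenEmbedding.isOpen_range)

variable {S : Scheme.{u}}

theorem isTwConst_fpqc_of_isTwConstGrp_finiteEtale (R : Over S) [GrpObj R]
    (hR : TwC.IsTwConstGrp TwC.Topology.finiteEtale R) : TwC.IsTwConst TwC.Topology.fpqc R := by
  obtain ⟨S', f, hfin, het, hsurj, hloc⟩ := hR
  haveI := hfin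
  haveI := het
  haveI := hsurj
  refine ⟨S', f, inferInstance, inferInstance, ?_, ?_⟩
  · intro V hV
    refine ⟨f ⁻¹ᵁ V, ?_, ?_⟩
    · exact f.isCompact_preimage hV.isCompact
    · exact Set.image_preimage_eq _ f.surjective
  · intro s'
    obtain ⟨U, hs'U, -, M, _, e, -⟩ := hloc s'
    exact ⟨U, hs'U, M, ⟨e⟩⟩

theorem exists_clopen_finite_of_isotrivial (R : Over S) [GrpObj R]
    (hR : TwC.IsTwConstGrp TwC.Topology.finiteEtale R) (x : R.left) :
    ∃ W : R.left.Opens, x ∈ W ∧ IsClosed (W : Set R.left) ∧ IsFinite (W.ι ≫ R.hom) := by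
  have hR' := isTwConst_fpqc_of_isTwConstGrp_finiteEtale R hR
  obtain ⟨S', f, hfin, het, hsurj, hloc⟩ := hR
  haveI := hfin
  haveI := het
  haveI := hsurj
  obtain ⟨s', hs'⟩ := f.surjective (R.hom.base x)
  obtain ⟨U, hs'U, hUcl, M, _, e, -⟩ := hloc s'
  haveI : IsClosedImmersion U.ι := IsClosedImmersion.of_isPreimmersion U.ι (by
    rw [Scheme.Opens.range_ι]; exact hUcl)
  set gU : (U : Scheme.{u}) ⟶ S := U.ι ≫ f with hgU
  haveI : IsFinite gU := by rw [hgU]; infer_instance
  haveI : Etale gU := by rw [hgU]; infer_instance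
  obtain ⟨x', hx'1, hx'2⟩ := Scheme.Pullback.exists_preimage_pullback (f := R.hom) (g := gU) x
    ⟨s', hs'U⟩ (by rw [hgU, Scheme.Hom.comp_apply]; exact hs'.symm)
  obtain ⟨m, u, hu⟩ := (sigmaOpenCover (fun _ : M => (U : Scheme.{u}))).exists_eq
    (e.hom.left.base x')
  haveI : IsIso e.inv.left := inferInstance
  haveI : IsIso e.hom.left := inferInstance
  let σ : (U : Scheme.{u}) ⟶ R.left := inc U M m ≫ e.inv.left ≫ pullback.fst R.hom gU
  have hσ : σ ≫ R.hom = gU := by
    have h1 : e.inv.left ≫ pullback.snd R.hom gU = (TwC.const (U : Scheme.{u}) M).hom :=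
      Over.w e.inv
    simp only [σ, Category.assoc]
    rw [pullback.condition, ← Category.assoc e.inv.left, h1, ← Category.assoc, inc_hom, Category.id_comp]
  have hxσ : x ∈ Set.range σ.base := by
    refine ⟨u, ?_⟩
    have h2 : (inc U M m).base u = e.hom.left.base x' := hu
    have h3 : e.hom.left ≫ e.inv.left = 𝟙 _ := by
      rw [← Over.comp_left, e.hom_inv_id]; rfl
    change (inc U M m ≫ e.inv.left ≫ pullback.fst R.hom gU).base u = x
    rw [Scheme.Hom.comp_apply, h2, ← Scheme.Hom.comp_apply, ← Category.assoc, h3, Category.id_comp]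
    exact hx'1
  have hrange : Set.range σ.base = (pullback.fst R.hom gU).base ''
      (e.inv.left.base '' Set.range (inc U M m).base) := by
    simp only [σ, Scheme.Hom.comp_base, TopCat.coe_comp, Set.range_comp, Set.image_comp]
    rfl
  have hopen : IsOpen (Set.range σ.base) := by
    rw [hrange]
    apply (pullback.fst R.hom gU).isOpenMap
    exact e.inv.left.homeomorph.isOpenMap _ (inc U M m).isOpenEmbedding.isOpen_range
  have hclosed : IsClosed (Set.range σ.base) := by
    rw [hrange]
    apply (pullback.fst R.hom gU).isClosedMap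
    exact e.inv.left.homeomorph.isClosedMap _ (isClosed_range_inc U M m)
  let W : R.left.Opens := ⟨Set.range σ.base, hopen⟩
  refine ⟨W, hxσ, hclosed, ?_⟩
  haveI : IsClosedImmersion W.ι := IsClosedImmersion.of_isPreimmersion W.ι (by
    rw [Scheme.Opens.range_ι]; exact hclosed)
  let σ' : (U : Scheme.{u}) ⟶ (W : Scheme.{u}) := IsOpenImmersion.lift W.ι σ (by
    rw [Scheme.Opens.range_ι]; rfl)
  have hσ' : σ' ≫ W.ι = σ := IsOpenImmersion.lift_fac _ _ _
  have hσ'surj : Function.Surjective σ'.base := by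
    intro y
    obtain ⟨v, hv⟩ : y.1 ∈ Set.range σ.base := y.2
    refine ⟨v, ?_⟩
    apply W.ι.injective
    rw [← Scheme.Hom.comp_apply, hσ']
    exact hv
  haveI : QuasiCompact (W.ι ≫ R.hom) := by
    rw [quasiCompact_iff_forall_isAffineOpen]
    intro B hB
    have hc : IsCompact ((gU ⁻¹ᵁ B : (U : Scheme.{u}).Opens) : Set (U : Scheme.{u})) :=
      gU.isCompact_preimage hB.isCompact
    have himg : (((W.ι ≫ R.hom) ⁻¹ᵁ B : (W : Scheme.{u}).Opens) : Set (W : Scheme.{u})) =
        σ'.base '' ((gU ⁻¹ᵁ B : (U : Scheme.{u}).Opens) : Set (U : Scheme.{u})) := by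
      ext y
      constructor
      · intro hy
        obtain ⟨v, rfl⟩ := hσ'surj y
        refine ⟨v, ?_, rfl⟩
        change gU.base v ∈ B
        have : (W.ι ≫ R.hom).base (σ'.base v) ∈ B := hy
        rwa [← Scheme.Hom.comp_apply, ← Category.assoc, hσ', hσ] at this
      · rintro ⟨v, hv, rfl⟩
        change (W.ι ≫ R.hom).base (σ'.base v) ∈ B
        rw [← Scheme.Hom.comp_apply, ← Category.assoc, hσ', hσ]
        exact hv
    rw [himg]
    exact hc.image σ'.continuous
  exact isFinite_of_isTwConst R hR' W.ι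

end Isotrivial

end Groth.Agent.Lib.helper2.ConstFin
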