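import Mathlib
import Groth.Prelude.Def_TwC
import Groth.Agent.Lib.Helper2.ConstFin3

set_option autoImplicit false

namespace Groth.Agent.Lib.helper2.ConstFin

open CategoryTheory MonoidalCategory CartesianMonoidalCategory AlgebraicGeometry Limits
open Groth.Agent.Lib.helper2.ConstPts Groth.Agent.Lib.Helper4.FpqcCoverDescent

universe u

section NoQS

/-- finite fibres are preserved by étale base change (pointwise), without quasi-separatedness -/
theorem finite_fibre_snd' {X S S' : Scheme.{u}} (f : X ⟶ S) (g : S' ⟶ S)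
    [Etale g] (t' : S') (h : (f.base ⁻¹' {g.base t'}).Finite) :
    ((pullback.snd f g).base ⁻¹' {t'}).Finite := by
  obtain ⟨_, ⟨(B : S.Opens), hB, rfl⟩, htB, -⟩ :=
    S.isBasis_affineOpens.exists_subset_of_mem_open (Set.mem_univ (g.base t')) isOpen_univ
  obtain ⟨_, ⟨(A : S'.Opens), hA, rfl⟩, ht'A, hAB⟩ :=
    S'.isBasis_affineOpens.exists_subset_of_mem_open
      (show t' ∈ ((g ⁻¹ᵁ B : S'.Opens) : Set S') from htB) (g ⁻¹ᵁ B).isOpen
  haveI : IsAffine (A : Scheme.{u}) := hA
  haveI : IsAffine (B : Scheme.{u}) := hB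
  let hh : (A : Scheme.{u}) ⟶ (B : Scheme.{u}) := IsOpenImmersion.lift B.ι (A.ι ≫ g) (by
    rintro _ ⟨a, rfl⟩
    rw [Scheme.Opens.range_ι]
    exact hAB a.2)
  have hhfac : hh ≫ B.ι = A.ι ≫ g := IsOpenImmersion.lift_fac _ _ _
  haveI : Etale (hh ≫ B.ι) := by rw [hhfac]; infer_instance
  haveI : Etale hh := Etale.of_comp hh B.ι
  haveI : LocallyQuasiFinite hh := locallyQuasiFinite_of_etale hh
  haveI : QuasiCompact hh := inferInstance
  set fB := pullback.snd f B.ι with hfB
  -- the fibre of `fB` over the point `g t'`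
  have hfinB : (fB.base ⁻¹' {(⟨g.base t', htB⟩ : B)}).Finite := by
    refine Set.Finite.of_finite_image (f := (pullback.fst f B.ι).base) (h.subset ?_) ?_
    · rintro _ ⟨y, hy, rfl⟩
      change f.base ((pullback.fst f B.ι).base y) = g.base t'
      rw [← Scheme.Hom.comp_apply, pullback.condition, Scheme.Hom.comp_apply]
      have : fB.base y = ⟨g.base t', htB⟩ := hy
      rw [this]; rfl
    · exact (pullback.fst f B.ι).isOpenEmbedding.injective.injOn
  have hfin : ((pullback.fst fB hh).base ⁻¹' (fB.base ⁻¹' {(⟨g.base t', htB⟩ : B)})).Finite :=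
    (pullback.fst fB hh).finite_preimage hfinB
  let e : pullback fB hh ⟶ pullback f g :=
    pullback.lift (pullback.fst fB hh ≫ pullback.fst f B.ι) (pullback.snd fB hh ≫ A.ι) (by
      rw [Category.assoc, pullback.condition, ← Category.assoc, pullback.condition,
        Category.assoc, hhfac, Category.assoc])
  refine (hfin.image e.base).subset ?_
  intro y hy
  have hy' : (pullback.snd f g).base y = t' := hy
  have big : IsPullback (pullback.fst fB hh ≫ pullback.fst f B.ι) (pullback.snd fB hh) f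
      (A.ι ≫ g) := by
    rw [← hhfac]
    exact (IsPullback.of_hasPullback fB hh).paste_horiz (IsPullback.of_hasPullback f B.ι)
  have sq : IsPullback e (pullback.snd fB hh) (pullback.snd f g) A.ι := by
    refine IsPullback.of_right ?_ (pullback.lift_snd _ _ _) (IsPullback.of_hasPullback f g)
    rw [pullback.lift_fst]
    exact big
  obtain ⟨w, hw1, hw2⟩ := exists_preimage_of_isPullback sq y ⟨t', ht'A⟩ (by
    rw [hy']; rfl)
  refine ⟨w, ?_, hw1⟩
  change fB.base ((pullback.fst fB hh).base w) = ⟨g.base t', htB⟩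
  rw [← Scheme.Hom.comp_apply, pullback.condition, Scheme.Hom.comp_apply, hw2]
  apply B.ι.injective
  rw [← Scheme.Hom.comp_apply, hhfac]
  rfl

end NoQS

section Local5

/-- local finiteness from a trivialization, a preconnected open of the trivializing scheme and one
finite fibre -/
theorem exists_nhd_finite_of_preconnected {S : Scheme.{u}} (P : Over S) {Z : Scheme.{u}}
    (z : Z ⟶ P.left) [IsOpenImmersion z] [IsClosedImmersion z]
    {S' : Scheme.{u}} (g : S' ⟶ S) [Etale g] (I : Type u) (φ : Red.bc g P ≅ TwC.const S' I)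
    (V : S'.Opens) (hVpre : _root_.IsPreconnected (V : Set S')) (x' : S') (hx'V : x' ∈ V)
    (v : S') (hvV : v ∈ V) (hfin : ((z ≫ P.hom).base ⁻¹' {g.base v}).Finite) :
    ∃ B : S.Opens, g.base x' ∈ B ∧ IsFinite (pullback.snd (z ≫ P.hom) B.ι) := by
  classical
  set f := z ≫ P.hom with hf
  obtain ⟨w, hwc, hwo, hw⟩ : ∃ w : pullback f g ⟶ (TwC.const S' I).left, IsClosedImmersion w ∧
      IsOpenImmersion w ∧ w ≫ (TwC.const S' I).hom = pullback.snd f g :=
    exists_immersion_const P z g I φ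
  haveI := hwc
  haveI := hwo
  have hconst : ∀ i, ∀ a ∈ V, ∀ b ∈ V, (a ∈ locus w i → b ∈ locus w i) := by
    intro i a ha b hb hai
    have hclopen : IsClopen (locus w i) := ⟨isClosed_locus w i, isOpen_locus w i⟩
    exact hVpre.subset_isClopen hclopen ⟨a, ha, hai⟩ hb
  have hJ : {i | v ∈ locus w i}.Finite := by
    have h1 := finite_fibre_snd' f g v hfin
    rw [← hw] at h1
    exact finite_locus_of_finite_fibre w v h1
  have hgV : IsOpen (g.base '' (V : Set S')) := g.isOpenMap _ V.isOpen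
  obtain ⟨_, ⟨(B : S.Opens), hB, rfl⟩, hxB, hBV⟩ :=
    S.isBasis_affineOpens.exists_subset_of_mem_open
      (show g.base x' ∈ g.base '' (V : Set S') from ⟨x', hx'V, rfl⟩) hgV
  refine ⟨B, hxB, ?_⟩
  have hfinV : IsFinite (pullback.snd (w ≫ (TwC.const S' I).hom) V.ι) :=
    isFinite_snd_of_finite_locus w V hJ.toFinset (fun i hi => by
      rw [Set.disjoint_left]
      intro a haV hai
      apply hi
      rw [Set.Finite.mem_toFinset]
      exact hconst i a haV v hvV hai)
  rw [hw] at hfinV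
  have hfinV' : IsFinite (pullback.snd f (V.ι ≫ g)) := isFinite_snd_of_snd_snd f g V.ι hfinV
  have hb : ∀ b : B, ∃ Ab : S'.Opens, IsAffineOpen Ab ∧ Ab ≤ V ∧
      (∀ a ∈ Ab, g.base a ∈ B) ∧ b.1 ∈ g.base '' (Ab : Set S') := by
    intro b
    obtain ⟨a, haV, hab⟩ := hBV b.2
    obtain ⟨_, ⟨(Ab : S'.Opens), hAb, rfl⟩, haAb, hAble⟩ :=
      S'.isBasis_affineOpens.exists_subset_of_mem_open
        (show a ∈ ((V ⊓ g ⁻¹ᵁ B : S'.Opens) : Set S') from
          ⟨haV, by change g.base a ∈ B; rw [hab]; exact b.2⟩) (V ⊓ g ⁻¹ᵁ B).2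
    exact ⟨Ab, hAb, fun a ha => (hAble ha).1, fun a ha => (hAble ha).2, ⟨a, haAb, hab⟩⟩
  choose Ab hAbaff hAbV hAbB hbAb using hb
  obtain ⟨tt, htt⟩ := hB.isCompact.elim_finite_subcover
    (fun b : B => g.base '' ((Ab b : S'.Opens) : Set S'))
    (fun b => g.isOpenMap _ (Ab b).isOpen) (fun y hy => Set.mem_iUnion.2 ⟨⟨y, hy⟩, hbAb _⟩)
  haveI : IsAffine (B : Scheme.{u}) := hB
  haveI : ∀ k : tt, IsAffine ((Ab k.1 : S'.Opens) : Scheme.{u}) := fun k => hAbaff k.1
  let fk : ∀ k : tt, ((Ab k.1 : S'.Opens) : Scheme.{u}) ⟶ (B : Scheme.{u}) :=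
    fun k => IsOpenImmersion.lift B.ι ((Ab k.1).ι ≫ g) (by
      rintro _ ⟨a, rfl⟩
      rw [Scheme.Opens.range_ι]
      exact hAbB k.1 _ a.2)
  have hfk : ∀ k, fk k ≫ B.ι = (Ab k.1).ι ≫ g := fun k => IsOpenImmersion.lift_fac _ _ _
  refine of_fpqc_finite_affine @IsFinite (pullback.snd f B.ι)
    (fun k : tt => ((Ab k.1 : S'.Opens) : Scheme.{u})) fk ?_ ?_ ?_
  · intro k
    have h1 : Flat (fk k ≫ B.ι) := by
      rw [hfk]
      infer_instance
    exact MorphismProperty.of_postcomp (W := @Flat) (W' := @IsOpenImmersion) (fk k) B.ι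
      inferInstance h1
  · intro b
    have hb' := htt b.2
    simp only [Set.mem_iUnion] at hb'
    obtain ⟨b0, hb0, a, ha, hab⟩ := hb'
    refine ⟨⟨b0, hb0⟩, ⟨a, ha⟩, ?_⟩
    apply B.ι.injective
    rw [← Scheme.Hom.comp_apply, hfk, Scheme.Hom.comp_apply]
    exact hab
  · intro k
    refine ⟨pullback (pullback.snd f B.ι) (fk k), pullback.fst _ _, pullback.snd _ _,
      IsPullback.of_hasPullback _ _, ?_⟩
    have sq' : IsPullback (pullback.fst (pullback.snd f B.ι) (fk k) ≫ pullback.fst f B.ι)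
        (pullback.snd (pullback.snd f B.ι) (fk k)) f (fk k ≫ B.ι) :=
      (IsPullback.of_hasPullback (pullback.snd f B.ι) (fk k)).paste_horiz
        (IsPullback.of_hasPullback f B.ι)
    have h2 : IsFinite (pullback.snd f (fk k ≫ B.ι)) := by
      rw [hfk]
      have : Scheme.Opens.ι (Ab k.1) ≫ g = S'.homOfLE (hAbV k.1) ≫ (V.ι ≫ g) := by
        rw [← Category.assoc, Scheme.homOfLE_ι]
      rw [this]
      exact isFinite_snd_comp _ _ _ hfinV'
    exact of_isPullback_iso @IsFinite (IsPullback.of_hasPullback f (fk k ≫ B.ι)) sq' h2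

end Local5

end Groth.Agent.Lib.helper2.ConstFin
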