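import Mathlib

set_option autoImplicit false
universe u

namespace Groth.Agent.Lib.helper2.CplDVR

open IsLocalRing

/-- A local ring, Hausdorff for its maximal ideal, whose maximal ideal is generated by a
nonzerodivisor, is a discrete valuation ring. -/
theorem isDVR_of_principal {S : Type u} [CommRing S] [IsLocalRing S] (ϖ : S)
    (hmax : maximalIdeal S = Ideal.span {ϖ}) (hreg : ϖ ∈ nonZeroDivisors S)
    [hH : IsHausdorff (maximalIdeal S) S] :
    ∃ (_ : IsDomain S), IsDiscreteValuationRing S := by
  have hpow : ∀ n : ℕ, maximalIdeal S ^ n = Ideal.span {ϖ ^ n} := by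
    intro n
    rw [hmax, Ideal.span_singleton_pow]
  have hϖm : ϖ ∈ maximalIdeal S := by rw [hmax]; exact Ideal.subset_span rfl
  have hregn : ∀ n : ℕ, ϖ ^ n ∈ nonZeroDivisors S := fun n => pow_mem hreg n
  -- factorisation
  have hfac : ∀ x : S, x ≠ 0 → ∃ (n : ℕ) (u : Sˣ), x = u * ϖ ^ n := by
    intro x hx
    have hex : ∃ n : ℕ, x ∉ maximalIdeal S ^ n := by
      by_contra hcon
      push Not at hcon
      apply hx
      apply hH.haus'
      intro n
      rw [SModEq.zero]
      have := hcon n
      rw [Ideal.smul_top_eq_map] 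
      simpa using this
    classical
    let n := Nat.find hex
    have hn : x ∉ maximalIdeal S ^ n := Nat.find_spec hex
    have hn0 : n ≠ 0 := by
      intro h0
      rw [h0, pow_zero, Ideal.one_eq_top] at hn
      exact hn trivial
    obtain ⟨m, hm⟩ := Nat.exists_eq_succ_of_ne_zero hn0
    have hm' : x ∈ maximalIdeal S ^ m := by
      by_contra h
      have := Nat.find_min' hex h
      omega
    rw [hpow, Ideal.mem_span_singleton] at hm'
    obtain ⟨y, hy⟩ := hm'
    have hyu : IsUnit y := by
      by_contra hnu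
      have hym : y ∈ maximalIdeal S := (mem_maximalIdeal y).mpr hnu
      rw [hmax, Ideal.mem_span_singleton] at hym
      obtain ⟨w, hw⟩ := hym
      apply hn
      rw [hm, hpow, Ideal.mem_span_singleton]
      exact ⟨w, by rw [hy, hw, pow_succ]; ring⟩
    obtain ⟨u, rfl⟩ := hyu
    exact ⟨m, u, by rw [hy]; ring⟩
  haveI : IsDomain S := by
    haveI : NoZeroDivisors S := ⟨?_⟩
    · exact NoZeroDivisors.to_isDomain S
    intro a b hab
    by_contra hcon
    push Not at hcon
    obtain ⟨n, u, rfl⟩ := hfac a hcon.1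
    obtain ⟨m, v, rfl⟩ := hfac b hcon.2
    have h1 : (ϖ ^ (n + m)) * ((u * v : Sˣ) : S) = 0 := by
      rw [← hab, pow_add]; push_cast; ring
    have h2 := (mem_nonZeroDivisors_iff.mp (hregn (n + m))).1 _ h1
    exact (u * v).ne_zero h2
  refine ⟨inferInstance, ?_⟩
  apply IsDiscreteValuationRing.ofHasUnitMulPowIrreducibleFactorization
  have hϖ0 : ϖ ≠ 0 := nonZeroDivisors.ne_zero hreg
  have hprime : Prime ϖ := by
    rw [← Ideal.span_singleton_prime hϖ0, ← hmax]
    infer_instance
  refine ⟨ϖ, hprime.irreducible, fun {x} hx => ?_⟩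
  obtain ⟨n, u, rfl⟩ := hfac x hx
  exact ⟨n, ⟨u, by ring⟩⟩

variable (O : Type u) [CommRing O] [IsDomain O] [IsDiscreteValuationRing O]

/-- the completion of a discrete valuation ring is a discrete valuation ring. -/
theorem isDVR_adicCompletion :
    ∃ (_ : IsDomain (AdicCompletion (maximalIdeal O) O)),
      IsDiscreteValuationRing (AdicCompletion (maximalIdeal O) O) := by
  obtain ⟨ϖ, hϖ⟩ := IsDiscreteValuationRing.exists_irreducible O
  have hm : maximalIdeal O = Ideal.span {ϖ} := hϖ.maximalIdeal_eq
  refine isDVR_of_principal (algebraMap O (AdicCompletion (maximalIdeal O) O) ϖ) ?_ ?_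
  · rw [AdicCompletion.maximalIdeal_eq_map, hm, Ideal.map_span, Set.image_singleton]
  · have h1 : IsSMulRegular O ϖ := by
      intro a b hab
      exact mul_left_cancel₀ hϖ.ne_zero hab
    have h2 : IsSMulRegular (AdicCompletion (maximalIdeal O) O)
        (algebraMap O (AdicCompletion (maximalIdeal O) O) ϖ) := h1.of_flat
    rw [mem_nonZeroDivisors_iff]
    refine ⟨fun x hx => ?_, fun x hx => ?_⟩
    · apply h2
      simpa [smul_eq_mul] using hx
    · apply h2
      simpa [smul_eq_mul, mul_comm] using hx

theorem algebraMap_injective :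
    Function.Injective (algebraMap O (AdicCompletion (maximalIdeal O) O)) :=
  AdicCompletion.of_injective (I := maximalIdeal O) (M := O)

end Groth.Agent.Lib.helper2.CplDVR
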