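import Groth.Agent.Lib.Helper2.SecColim
import Mathlib.AlgebraicGeometry.Noetherian

universe u
open CategoryTheory CategoryTheory.Limits AlgebraicGeometry TopologicalSpace Opposite

namespace Groth.Agent.Lib.helper2.ZClosLib

open ZClos

variable {X : Scheme.{u}}

theorem isCompact_of_le_affine [IsLocallyNoetherian X] (V : X.affineOpens) (W : X.Opens)
    (h : W ≤ V.1) : IsCompact (W : Set X) := by
  haveI : IsNoetherianRing Γ(X, V.1) := IsLocallyNoetherian.component_noetherian V
  have h1 : NoetherianSpace V.1 := noetherianSpace_of_isAffineOpen V.1 V.2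
  exact (noetherianSpace_set_iff (V.1 : Set X)).mp h1 W h

/-- the image-preimage open `T.U ∩ V` -/
abbrev im (U V : X.Opens) : X.Opens := U.ι ''ᵁ U.ι ⁻¹ᵁ V

theorem im_le (U V : X.Opens) : im U V ≤ V := U.ι.image_preimage_le V

/-- (*) for `T ≤ T'`, restriction of sections of `D_{T'}` from `V` to `T.U ∩ V` is bijective -/
theorem bijective_res_diagram (Z : Set X) (F : X.Modules) {T T' : Cl Z} (h : T ≤ T')
    (V : X.Opens) :
    Function.Bijective ((((diagram Z).obj F).obj T').presheaf.map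
      (homOfLE (im_le T.U V)).op) := by
  haveI := isIso_unit_resPush (Cl.U_anti h) F
  have := (ModSec.isIso_iff_bijective_app
    ((resPushUnit T.U).app ((resPush T'.U).obj F))).mp inferInstance V
  exact this

theorem toDiagram_app (Z : Set X) (M : X.Modules) (T : Cl Z) (V : X.Opens) :
    (toDiagram Z M T).app V = M.presheaf.map (homOfLE (im_le T.U V)).op := rfl

theorem bijective_res_colimit [IsLocallyNoetherian X] (Z : Set X) (F : X.Modules)
    (c : Cocone ((diagram Z).obj F)) (hc : IsColimit c) (T : Cl Z) (V : X.affineOpens) :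
    Function.Bijective (c.pt.presheaf.map (homOfLE (im_le T.U V.1)).op) := by
  let D := (diagram Z).obj F
  have hVc : ∀ W : X.Opens, W ≤ V.1 → IsCompact (W : Set X) := isCompact_of_le_affine V
  have hV'c : ∀ W : X.Opens, W ≤ im T.U V.1 → IsCompact (W : Set X) :=
    fun W hW => hVc W (hW.trans (im_le _ _))
  constructor
  · rw [injective_iff_map_eq_zero]
    intro a ha
    obtain ⟨T₁, s, rfl⟩ := SecColim.global_rep D c hc V.1 hVc a
    -- push to T₂ = T₁ ⊔ T
    let T₂ := T₁ ⊔ T
    let f₁ : T₁ ⟶ T₂ := homOfLE le_sup_left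
    let s₂ := (D.map f₁).app V.1 s
    have hs₂ : (c.ι.app T₂).app V.1 s₂ = (c.ι.app T₁).app V.1 s :=
      SecColim.cocone_w_apply D c f₁ V.1 s
    rw [← hs₂] at ha ⊢
    rw [SecColim.ι_res_apply] at ha
    obtain ⟨T₃, f₃, h₃⟩ := SecColim.global_zero D c hc (im T.U V.1)
      (hVc _ (im_le _ _)) T₂ _ ha
    rw [← ModSec.map_app_apply] at h₃
    have hinj := (bijective_res_diagram Z F (le_sup_right.trans (leOfHom f₃) : T ≤ T₃) V.1).1
    have h4 : (D.map f₃).app V.1 s₂ = 0 := by
      apply hinj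
      rw [h₃, map_zero]
    rw [← SecColim.cocone_w_apply D c f₃ V.1 s₂, h4, map_zero]
  · intro b
    obtain ⟨T₁, s, rfl⟩ := SecColim.global_rep D c hc (im T.U V.1) hV'c b
    let T₂ := T₁ ⊔ T
    let f₁ : T₁ ⟶ T₂ := homOfLE le_sup_left
    let s₂ := (D.map f₁).app (im T.U V.1) s
    have hs₂ : (c.ι.app T₂).app _ s₂ = (c.ι.app T₁).app _ s :=
      SecColim.cocone_w_apply D c f₁ _ s
    obtain ⟨s', hs'⟩ := (bijective_res_diagram Z F (le_sup_right : T ≤ T₂) V.1).2 s₂
    refine ⟨(c.ι.app T₂).app V.1 s', ?_⟩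
    rw [SecColim.ι_res_apply, hs', hs₂]

/-- `H⁰_{X/Z}(F)` is `Z`-closed. -/
theorem isZClosed_H0 [IsLocallyNoetherian X] (Z : Set X) (F : X.Modules) :
    IsZClosed Z ((H0 Z).obj F) := by
  rw [isZClosed_iff]
  intro T
  apply ModSec.isIso_of_bijective_affine
  intro V
  rw [toDiagram_app]
  exact bijective_res_colimit Z F (colimit.cocone _) (colimit.isColimit _) T V

end Groth.Agent.Lib.helper2.ZClosLib
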