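import Mathlib
import Groth.Agent.Lib.Helper2.Hartogs2
import Groth.Agent.Lib.Helper2.ModSec
import Groth.Agent.Lib.Helper2.ZClosLib8

set_option autoImplicit false
universe u

open AlgebraicGeometry TopologicalSpace CategoryTheory Opposite ZClos
open Groth.Agent.Lib.helper16.CohFinite

namespace Groth.Agent.Lib.helper2.Hartogs

variable {X : Scheme.{u}} [IsLocallyNoetherian X] (F : X.Modules)

/-- **Hartogs**: `F` coherent on a locally Noetherian scheme with depth `≥ 2` at all points
outside the open `U`. Then `F → j_* j^* F` is an isomorphism. -/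
theorem isIso_resPushUnit_of_depth (hF : Coh.IsCoh F) (U : X.Opens)
    (hdepth : ∀ x : X, x ∉ U →
      (2 : ℕ∞) ≤ LocCoh.depth (X.presheaf.stalk x) (F.presheaf.stalk x)) :
    IsIso ((resPushUnit U).app F) := by
  haveI : F.IsQuasicoherent := hF.1
  apply ModSec.isIso_of_bijective_affine
  intro V
  rw [resPushUnit_app_app]
  haveI : IsNoetherianRing Γ(X, V.1) := IsLocallyNoetherian.component_noetherian V
  have hfin : Module.Finite Γ(X, V.1) Γ(F, V.1) := finite_sections_of_isCoh F hF V.2
  refine bijective_res_of_depth F V.2 hfin _ (U.ι.image_preimage_le V.1) ?_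
  intro x hxV hx
  apply hdepth
  intro hxU
  exact hx ((ZClosLib.mem_im_iff U V.1 x).mpr ⟨hxU, hxV⟩)

/-- sections version -/
theorem bijective_res_of_depth_global (hF : Coh.IsCoh F) (U : X.Opens)
    (hdepth : ∀ x : X, x ∉ U →
      (2 : ℕ∞) ≤ LocCoh.depth (X.presheaf.stalk x) (F.presheaf.stalk x)) (V : X.Opens) :
    Function.Bijective (F.presheaf.map (homOfLE (inf_le_left : V ⊓ U ≤ V)).op) := by
  haveI := isIso_resPushUnit_of_depth F hF U hdepth
  have h := (ModSec.isIso_iff_bijective_app ((resPushUnit U).app F)).mp inferInstance V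
  rw [resPushUnit_app_app] at h
  exact (ZClosLib.res_bij_iff_of_eq F (ZClosLib.image_preimage_eq' U V) _ _).mp h

end Groth.Agent.Lib.helper2.Hartogs
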