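import Groth.Agent.Lib.Helper2.ZClosLoc

universe u
open CategoryTheory CategoryTheory.Limits AlgebraicGeometry TopologicalSpace Opposite

namespace Groth.Agent.Lib.helper2.ZClosLib

open ZClos

variable {X : Scheme.{u}}

/-- Prop K: a section whose germs vanish outside `Z` dies after removing a closed subset of `Z`. -/
theorem exists_Cl_kill [IsLocallyNoetherian X] (Z : Set X) (hZ : StableUnderSpecialization Z)
    (F : X.Modules) (W : X.Opens) (s : Γ(F, W))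
    (h : ∀ (x : X) (hx : x ∈ W), x ∉ Z → F.presheaf.germ W x hx s = 0) :
    ∃ T : Cl Z, F.presheaf.map (homOfLE (inf_le_right : T.U ⊓ W ≤ W)).op s = 0 := by
  obtain ⟨C, hC, hCs⟩ := exists_closed_support F W s
  have hCZ : C ∩ (W : Set X) ⊆ Z := by
    rintro x ⟨hxC, hxW⟩
    by_contra hxZ
    exact (hCs x hxW).mp hxC (h x hxW hxZ)
  have hcl := TopB.closure_subset_of_stable Z hZ _ W.2 C hC hCZ
  let T : Cl Z := ⟨⟨closure (C ∩ (W : Set X)), isClosed_closure⟩, hcl⟩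
  refine ⟨T, ?_⟩
  refine section_ext_germ F (T.U ⊓ W) _ _ ?_
  intro x hx
  have hxT : x ∈ T.U := hx.1
  have hxW : x ∈ W := hx.2
  refine Eq.trans ?_ (map_zero (F.presheaf.germ _ x hx).hom).symm
  refine (TopCat.Presheaf.germ_res_apply F.presheaf (homOfLE inf_le_right) x hx s).trans ?_
  by_contra hne
  exact hxT (subset_closure ⟨(hCs x hxW).mpr hne, hxW⟩)

theorem mem_inf_iff (U V : X.Opens) (x : X) : x ∈ U ⊓ V ↔ x ∈ U ∧ x ∈ V := Iff.rfl

theorem mem_sup_iff (U V : X.Opens) (x : X) : x ∈ U ⊔ V ↔ x ∈ U ∨ x ∈ V := Iff.rfl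

theorem mem_ClU_sup {Z : Set X} (T T' : Cl Z) (x : X) :
    x ∈ (T ⊔ T').U ↔ x ∈ T.U ∧ x ∈ T'.U := by
  change x ∉ ((T ⊔ T').1 : Set X) ↔ x ∉ (T.1 : Set X) ∧ x ∉ (T'.1 : Set X)
  rw [show ((T ⊔ T').1 : Set X) = (T.1 : Set X) ∪ (T'.1 : Set X) from rfl, Set.mem_union, not_or]

/-- germs of a section in the kernel of `u` vanish where `u` is injective on stalks -/
theorem germ_eq_zero_of_app_eq_zero {F F' : X.Modules} (u : F ⟶ F') (W : X.Opens) (d : Γ(F, W))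
    (hd : u.app W d = 0) (x : X) (hx : x ∈ W)
    (hinj : Function.Injective ((stalkF X x).map u)) : F.presheaf.germ W x hx d = 0 := by
  apply hinj
  refine (SecColim.stalk_map_germ u W x hx d).trans ?_
  rw [hd]
  exact (map_zero (F'.presheaf.germ W x hx).hom).trans (map_zero ((stalkF X x).map u).hom).symm

/-- Prop E -/
theorem exists_Cl_lift [IsLocallyNoetherian X] (Z : Set X) (hZ : StableUnderSpecialization Z)
    {F F' : X.Modules} (u : F ⟶ F')
    (hu : ∀ x : X, x ∉ Z → Function.Bijective ((stalkF X x).map u))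
    (V₀ : X.Opens) (hV₀ : ∀ W : X.Opens, W ≤ V₀ → IsCompact (W : Set X)) (t : Γ(F', V₀)) :
    ∃ (T : Cl Z) (W' : X.Opens) (hW' : W' ≤ V₀), T.U ⊓ V₀ ≤ W' ∧ ∃ s : Γ(F, W'),
      u.app W' s = F'.presheaf.map (homOfLE hW').op t := by
  -- Step 1
  let O : Set X := {x | ∃ (W : X.Opens) (hW : W ≤ V₀), x ∈ W ∧ ∃ s : Γ(F, W),
    u.app W s = F'.presheaf.map (homOfLE hW).op t}
  have hO : IsOpen O := by
    rw [isOpen_iff_forall_mem_open]
    rintro x ⟨W, hW, hxW, s, hs⟩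
    exact ⟨W, fun z hz => ⟨W, hW, hz, s, hs⟩, W.2, hxW⟩
  have hOZ : Oᶜ ∩ (V₀ : Set X) ⊆ Z := by
    rintro x ⟨hxO, hxV⟩
    by_contra hxZ
    apply hxO
    obtain ⟨g, hg⟩ := (hu x hxZ).2 (F'.presheaf.germ V₀ x hxV t)
    obtain ⟨W₀, hW₀, hxW₀, s₀, hs₀⟩ := F.presheaf.exists_le_germ_eq g hxV
    have h1 : F'.presheaf.germ W₀ x hxW₀ (u.app W₀ s₀) = F'.presheaf.germ V₀ x hxV t := by
      rw [← hg, ← hs₀]
      exact (SecColim.stalk_map_germ u W₀ x hxW₀ s₀).symm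
    obtain ⟨W, hxW, i₁, i₂, h2⟩ := F'.presheaf.germ_eq x hxW₀ hxV _ _ h1
    refine ⟨W, i₂.le, hxW, F.presheaf.map i₁.op s₀, ?_⟩
    exact (ModSec.map_app_apply u i₁ s₀).symm.trans h2
  have hcl := TopB.closure_subset_of_stable Z hZ _ V₀.2 Oᶜ hO.isClosed_compl hOZ
  let T₁ : Cl Z := ⟨⟨closure (Oᶜ ∩ (V₀ : Set X)), isClosed_closure⟩, hcl⟩
  let V₁ : X.Opens := T₁.U ⊓ V₀
  have hV₁O : (V₁ : Set X) ⊆ O := by
    intro x hx
    by_contra hxO
    exact hx.1 (subset_closure ⟨hxO, hx.2⟩)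
  -- Step 2
  let p : Set X → Prop := fun S => ∃ (W : X.Opens) (_ : W ≤ V₁), S ⊆ (W : Set X) ∧
    ∃ (T : Cl Z) (W' : X.Opens) (hW' : W' ≤ V₀), T.U ⊓ W ≤ W' ∧ ∃ s : Γ(F, W'),
      u.app W' s = F'.presheaf.map (homOfLE hW').op t
  have key : p (V₁ : Set X) := by
    apply (hV₀ V₁ inf_le_right).induction_on (p := p)
    · refine ⟨⊥, bot_le, Set.empty_subset _, ⊥, ⊥, bot_le, inf_le_right, 0, ModSec.sec_bot _ _ _⟩
    · rintro S S' hSS' ⟨W, hW, hS'W, r⟩
      exact ⟨W, hW, hSS'.trans hS'W, r⟩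
    · rintro S S' ⟨W₁, hW₁, hS, T₁', W₁', hW₁', h₁, s₁, e₁⟩ ⟨W₂, hW₂, hS', T₂', W₂', hW₂', h₂, s₂, e₂⟩
      let d : Γ(F, W₁' ⊓ W₂') :=
        F.presheaf.map (homOfLE (inf_le_left : W₁' ⊓ W₂' ≤ W₁')).op s₁ -
          F.presheaf.map (homOfLE (inf_le_right : W₁' ⊓ W₂' ≤ W₂')).op s₂
      have hd : u.app (W₁' ⊓ W₂') d = 0 := by
        rw [map_sub, ← ModSec.map_app_apply, ← ModSec.map_app_apply, e₁, e₂,
          ModSec.res_comp _ _ _ (homOfLE (inf_le_left.trans hW₁')),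
          ModSec.res_comp _ _ _ (homOfLE (inf_le_left.trans hW₁')), sub_self]
      obtain ⟨T₄, hT₄⟩ := exists_Cl_kill Z hZ F (W₁' ⊓ W₂') d (fun x hx hxZ =>
        germ_eq_zero_of_app_eq_zero u _ d hd x hx (hu x hxZ).1)
      let P₁ : X.Opens := T₄.U ⊓ W₁'
      let P₂ : X.Opens := T₄.U ⊓ W₂'
      let σ₁ : Γ(F, P₁) := F.presheaf.map (homOfLE (inf_le_right : P₁ ≤ W₁')).op s₁
      let σ₂ : Γ(F, P₂) := F.presheaf.map (homOfLE (inf_le_right : P₂ ≤ W₂')).op s₂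
      have hle : P₁ ⊓ P₂ ≤ T₄.U ⊓ (W₁' ⊓ W₂') :=
        le_inf (inf_le_left.trans inf_le_left)
          (le_inf (inf_le_left.trans inf_le_right) (inf_le_right.trans inf_le_right))
      have hσ : F.presheaf.map (homOfLE (inf_le_left : P₁ ⊓ P₂ ≤ P₁)).op σ₁ =
          F.presheaf.map (homOfLE (inf_le_right : P₁ ⊓ P₂ ≤ P₂)).op σ₂ := by
        have h3 := congrArg (F.presheaf.map (homOfLE hle).op) hT₄
        rw [map_zero, ModSec.res_comp _ _ _ (homOfLE (hle.trans inf_le_right)), map_sub,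
          sub_eq_zero, ModSec.res_comp _ _ _ (homOfLE ((hle.trans inf_le_right).trans inf_le_left)),
          ModSec.res_comp _ _ _ (homOfLE ((hle.trans inf_le_right).trans inf_le_right))] at h3
        rw [ModSec.res_comp _ _ _ (homOfLE ((hle.trans inf_le_right).trans inf_le_left)),
          ModSec.res_comp _ _ _ (homOfLE ((hle.trans inf_le_right).trans inf_le_right))]
        exact h3
      obtain ⟨s, hs₁, hs₂⟩ := ModSec.glue₂ F σ₁ σ₂ hσ
      have hP₁ : P₁ ≤ V₀ := inf_le_right.trans hW₁'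
      have hP₂ : P₂ ≤ V₀ := inf_le_right.trans hW₂'
      refine ⟨W₁ ⊔ W₂, sup_le hW₁ hW₂, (Set.union_subset_union hS hS').trans (by simp),
        T₁' ⊔ T₂' ⊔ T₄, P₁ ⊔ P₂, sup_le hP₁ hP₂, ?_, s, ?_⟩
      · intro x hx
        obtain ⟨hxT, hxW⟩ := (mem_inf_iff _ _ _).mp hx
        obtain ⟨hxT12, hxT4⟩ := (mem_ClU_sup _ _ _).mp hxT
        obtain ⟨hxT1, hxT2⟩ := (mem_ClU_sup _ _ _).mp hxT12
        rcases (mem_sup_iff _ _ _).mp hxW with hxW | hxW
        · exact Or.inl ⟨hxT4, h₁ ⟨hxT1, hxW⟩⟩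
        · exact Or.inr ⟨hxT4, h₂ ⟨hxT2, hxW⟩⟩
      · apply ModSec.sec_ext₂ F' le_sup_left le_sup_right le_rfl
        · rw [ModSec.map_app_apply, hs₁, ModSec.res_comp _ _ _ (homOfLE hP₁)]
          change u.app P₁ (F.presheaf.map _ s₁) = _
          rw [← ModSec.map_app_apply, e₁, ModSec.res_comp _ _ _ (homOfLE hP₁)]
        · rw [ModSec.map_app_apply, hs₂, ModSec.res_comp _ _ _ (homOfLE hP₂)]
          change u.app P₂ (F.presheaf.map _ s₂) = _
          rw [← ModSec.map_app_apply, e₂, ModSec.res_comp _ _ _ (homOfLE hP₂)]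
    · intro x hx
      obtain ⟨W, hW, hxW, s, hs⟩ := hV₁O hx
      refine ⟨(W ⊓ V₁ : X.Opens), mem_nhdsWithin_of_mem_nhds ((W ⊓ V₁).2.mem_nhds ⟨hxW, hx⟩),
        W ⊓ V₁, inf_le_right, subset_rfl, ⊥, W, hW, inf_le_right.trans inf_le_left, s, hs⟩
  obtain ⟨W, hW, hVW, T, W', hW', hTW, s, hs⟩ := key
  refine ⟨T₁ ⊔ T, W', hW', ?_, s, hs⟩
  intro x hx
  obtain ⟨hxT, hxV⟩ := (mem_inf_iff _ _ _).mp hx
  obtain ⟨hxT1, hxT'⟩ := (mem_ClU_sup _ _ _).mp hxT
  exact hTW ⟨hxT', hVW ⟨hxT1, hxV⟩⟩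

theorem H0_map_ι_apply (Z : Set X) {F F' : X.Modules} (u : F ⟶ F') (T : Cl Z) (V : X.Opens)
    (s : Γ(((diagram Z).obj F).obj T, V)) :
    ((H0 Z).map u).app V ((colimit.ι ((diagram Z).obj F) T).app V s) =
      (colimit.ι ((diagram Z).obj F') T).app V (u.app (im T.U V) s) := by
  have h : colimit.ι ((diagram Z).obj F) T ≫ (H0 Z).map u =
      ((diagram Z).map u).app T ≫ colimit.ι ((diagram Z).obj F') T :=
    ι_colimMap ((diagram Z).map u) T
  exact congrArg (fun φ : ((diagram Z).obj F).obj T ⟶ (H0 Z).obj F' => φ.app V s) h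

theorem diagram_map_app_apply (Z : Set X) (F : X.Modules) {T T' : Cl Z} (f : T ⟶ T')
    (V : X.Opens) (s : Γ(((diagram Z).obj F).obj T, V)) :
    (((diagram Z).obj F).map f).app V s =
      F.presheaf.map (trIncl (Cl.U_anti f.le) V).op s := by
  change (resPushMapApp (Cl.U_anti f.le) F).app V s = _
  rw [resPushMapApp_app]
  rfl

theorem isIso_H0_map [IsLocallyNoetherian X] (Z : Set X) (hZ : StableUnderSpecialization Z)
    {F F' : X.Modules} (u : F ⟶ F')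
    (hu : ∀ x : X, x ∉ Z → Function.Bijective ((stalkF X x).map u)) :
    IsIso ((H0 Z).map u) := by
  apply ModSec.isIso_of_bijective_affine
  intro V
  let D := (diagram Z).obj F
  let D' := (diagram Z).obj F'
  let c := colimit.cocone D
  let c' := colimit.cocone D'
  have hc : IsColimit c := colimit.isColimit D
  have hc' : IsColimit c' := colimit.isColimit D'
  have hVc : ∀ W : X.Opens, W ≤ V.1 → IsCompact (W : Set X) := isCompact_of_le_affine V
  constructor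
  · rw [injective_iff_map_eq_zero]
    intro a ha
    obtain ⟨T, s, rfl⟩ := SecColim.global_rep D c hc V.1 hVc a
    change ((H0 Z).map u).app V.1 ((colimit.ι D T).app V.1 s) = 0 at ha
    rw [H0_map_ι_apply] at ha
    obtain ⟨T₁, f₁, h₁⟩ := SecColim.global_zero D' c' hc' V.1 (hVc _ le_rfl) T _ ha
    let s' : Γ(F, im T.U V.1) := s
    -- s₁ = restriction of s
    let s₁ : Γ(F, im T₁.U V.1) := F.presheaf.map (trIncl (Cl.U_anti f₁.le) V.1).op s'
    have h₁ : u.app (im T₁.U V.1) s₁ = 0 :=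
      (ModSec.map_app_apply u (trIncl (Cl.U_anti f₁.le) V.1) s').symm.trans
        ((diagram_map_app_apply Z F' f₁ V.1 (u.app (im T.U V.1) s')).symm.trans h₁)
    obtain ⟨T₄, hT₄⟩ := exists_Cl_kill Z hZ F (im T₁.U V.1) s₁ (fun x hx hxZ =>
      germ_eq_zero_of_app_eq_zero u _ s₁ h₁ x hx (hu x hxZ).1)
    let T₅ : Cl Z := T₁ ⊔ T₄
    let f₅ : T ⟶ T₅ := homOfLE ((leOfHom f₁).trans le_sup_left)
    have hle : im T₅.U V.1 ≤ T₄.U ⊓ im T₁.U V.1 := by
      intro x hx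
      obtain ⟨hxT, hxV⟩ := (mem_im_iff _ _ _).mp hx
      obtain ⟨hx1, hx4⟩ := (mem_ClU_sup _ _ _).mp hxT
      exact ⟨hx4, (mem_im_iff _ _ _).mpr ⟨hx1, hxV⟩⟩
    have h5 : (D.map f₅).app V.1 s = 0 := by
      change (((diagram Z).obj F).map f₅).app V.1 s = 0
      rw [diagram_map_app_apply]
      have h6 := congrArg (F.presheaf.map (homOfLE hle).op) hT₄
      rw [map_zero, ModSec.res_comp _ _ _ (homOfLE (hle.trans inf_le_right)),
        ModSec.res_comp _ _ _ (trIncl (Cl.U_anti f₅.le) V.1)] at h6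
      exact h6
    rw [← SecColim.cocone_w_apply D c f₅ V.1 s, h5, map_zero]
    rfl
  · intro b
    obtain ⟨T₀, t, rfl⟩ := SecColim.global_rep D' c' hc' V.1 hVc b
    let t' : Γ(F', im T₀.U V.1) := t
    obtain ⟨T, W', hW', hTW, s, hs⟩ := exists_Cl_lift Z hZ u hu (im T₀.U V.1)
      (fun W hW => hVc W (hW.trans (im_le _ _))) t'
    let T₃ : Cl Z := T₀ ⊔ T
    let f₃ : T₀ ⟶ T₃ := homOfLE le_sup_left
    have hle : im T₃.U V.1 ≤ W' := by
      intro x hx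
      obtain ⟨hxT, hxV⟩ := (mem_im_iff _ _ _).mp hx
      obtain ⟨hx0, hxT'⟩ := (mem_ClU_sup _ _ _).mp hxT
      exact hTW ⟨hxT', (mem_im_iff _ _ _).mpr ⟨hx0, hxV⟩⟩
    let s₃ : Γ(D.obj T₃, V.1) := F.presheaf.map (homOfLE hle).op s
    refine ⟨(c.ι.app T₃).app V.1 s₃, ?_⟩
    change ((H0 Z).map u).app V.1 ((colimit.ι D T₃).app V.1 s₃) = _
    rw [H0_map_ι_apply]
    have h7 : u.app (im T₃.U V.1) s₃ = (D'.map f₃).app V.1 t := by
      change _ = (((diagram Z).obj F').map f₃).app V.1 t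
      rw [diagram_map_app_apply]
      change u.app (im T₃.U V.1) (F.presheaf.map (homOfLE hle).op s) = _
      rw [← ModSec.map_app_apply, hs, ModSec.res_comp _ _ _ (trIncl (Cl.U_anti f₃.le) V.1)]
    rw [h7]
    exact SecColim.cocone_w_apply D' c' f₃ V.1 t

theorem isIso_of_fac [IsLocallyNoetherian X] (Z : Set X) (hZ : StableUnderSpecialization Z)
    (F F' : X.Modules) (hF' : IsZClosed Z F') (u : F ⟶ F')
    (hu : ∀ x : X, x ∉ Z →
      Function.Bijective ((TopCat.Presheaf.stalkFunctor (C := Ab.{u}) x).map u.mapPresheaf))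
    (v : (H0 Z).obj F ⟶ F') (hv : rhoApp Z F ≫ v = u) : IsIso v := by
  have h' : IsIso (rhoApp Z F') := hF'
  haveI := isIso_H0_map Z hZ u hu
  obtain ⟨w, -, hw⟩ := existsUnique_factor Z F F' hF' u
  have h1 : v = w := hw v hv
  have h2 : (H0 Z).map u ≫ inv (rhoApp Z F') = w := by
    apply hw
    have := (rho Z).naturality u
    dsimp at this ⊢
    rw [← Category.assoc, ← this, Category.assoc, IsIso.hom_inv_id, Category.comp_id]
  rw [h1, ← h2]
  infer_instance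

end Groth.Agent.Lib.helper2.ZClosLib
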