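import Groth.Agent.Lib.Helper2.ZClosLib7
import Groth.Agent.Lib.Helper2.ModSec2
import Mathlib.Algebra.Category.Grp.FilteredColimits
import Mathlib.CategoryTheory.Limits.ConcreteCategory.Basic

/-!
# Sections over Noetherian opens of a filtered colimit of `𝒪_X`-modules (helper2)
-/

universe u
open CategoryTheory CategoryTheory.Limits AlgebraicGeometry TopologicalSpace Opposite

namespace Groth.Agent.Lib.helper2.SecColim

open ZClosLib

variable {X : Scheme.{u}} {J : Type u} [SmallCategory J] [IsFiltered J]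
  (D : J ⥤ X.Modules) (c : Cocone D) (hc : IsColimit c)

/-- germ of a section of a module -/
noncomputable abbrev germ (M : X.Modules) (U : X.Opens) (x : X) (hx : x ∈ U) (s : Γ(M, U)) :
    M.presheaf.stalk x := M.presheaf.germ U x hx s

theorem stalk_map_germ {M N : X.Modules} (φ : M ⟶ N) (U : X.Opens) (x : X) (hx : x ∈ U)
    (s : Γ(M, U)) :
    (stalkF X x).map φ (germ M U x hx s) = germ N U x hx (φ.app U s) :=
  TopCat.Presheaf.stalkFunctor_map_germ_apply U x hx φ.mapPresheaf s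

include hc in
theorem local_rep (V : X.Opens) (t : Γ(c.pt, V)) (x : X) (hx : x ∈ V) :
    ∃ (W : X.Opens) (hW : W ≤ V) (_ : x ∈ W) (j : J) (s : Γ(D.obj j, W)),
      (c.ι.app j).app W s = c.pt.presheaf.map (homOfLE hW).op t := by
  have hcx : IsColimit ((stalkF X x).mapCocone c) := isColimitOfPreserves (stalkF X x) hc
  haveI : PreservesColimit (D ⋙ stalkF X x) (forget Ab.{u}) := inferInstance
  obtain ⟨j, g, hg⟩ := Concrete.isColimit_exists_rep (D ⋙ stalkF X x) hcx (germ c.pt V x hx t)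
  obtain ⟨W₀, hW₀, hxW₀, s₀, hs₀⟩ := (D.obj j).presheaf.exists_le_germ_eq g hx
  have h1 : germ c.pt W₀ x hxW₀ ((c.ι.app j).app W₀ s₀) = germ c.pt V x hx t := by
    rw [← stalk_map_germ, ← hg]
    exact congrArg _ hs₀
  obtain ⟨W, hxW, i₁, i₂, h2⟩ := c.pt.presheaf.germ_eq x hxW₀ hx _ _ h1
  refine ⟨W, i₂.le, hxW, j, (D.obj j).presheaf.map i₁.op s₀, ?_⟩
  exact (ModSec.map_app_apply (c.ι.app j) i₁ s₀).symm.trans h2

include hc in
theorem local_zero (V : X.Opens) (j : J) (s : Γ(D.obj j, V)) (h : (c.ι.app j).app V s = 0)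
    (x : X) (hx : x ∈ V) :
    ∃ (W : X.Opens) (hW : W ≤ V) (_ : x ∈ W) (j' : J) (f : j ⟶ j'),
      (D.obj j').presheaf.map (homOfLE hW).op ((D.map f).app V s) = 0 := by
  have hcx : IsColimit ((stalkF X x).mapCocone c) := isColimitOfPreserves (stalkF X x) hc
  haveI : PreservesColimit (D ⋙ stalkF X x) (forget Ab.{u}) := inferInstance
  have h0 : (stalkF X x).map (c.ι.app j) (germ (D.obj j) V x hx s) =
      (stalkF X x).map (c.ι.app j) (0 : (D.obj j).presheaf.stalk x) := by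
    rw [stalk_map_germ, h]
    exact (map_zero (c.pt.presheaf.germ V x hx).hom).trans
      (map_zero ((stalkF X x).map (c.ι.app j)).hom).symm
  obtain ⟨k, f, g, hfg⟩ := Concrete.isColimit_exists_of_rep_eq (D ⋙ stalkF X x) hcx
    (i := j) (j := j) (germ (D.obj j) V x hx s) (0 : (D.obj j).presheaf.stalk x) h0
  have hfg' : (stalkF X x).map (D.map f) (germ (D.obj j) V x hx s) = 0 :=
    hfg.trans (map_zero ((stalkF X x).map (D.map g)).hom)
  rw [stalk_map_germ] at hfg'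
  have hfg := hfg'
  have h1 : germ (D.obj k) V x hx ((D.map f).app V s) = germ (D.obj k) V x hx 0 := by
    rw [hfg]; exact (map_zero _).symm
  obtain ⟨W, hxW, i₁, i₂, h2⟩ := (D.obj k).presheaf.germ_eq x hx hx _ _ h1
  refine ⟨W, i₁.le, hxW, k, f, ?_⟩
  rw [show homOfLE i₁.le = i₁ from rfl, h2, map_zero]

omit [IsFiltered J] in
theorem map_comp_app_apply {j₁ j₂ j₃ : J} (f : j₁ ⟶ j₂) (g : j₂ ⟶ j₃) (V : X.Opens)
    (s : Γ(D.obj j₁, V)) :
    (D.map (f ≫ g)).app V s = (D.map g).app V ((D.map f).app V s) := by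
  rw [D.map_comp]; rfl

include hc in
theorem global_zero (V : X.Opens) (hV : IsCompact (V : Set X)) (j : J) (s : Γ(D.obj j, V))
    (h : (c.ι.app j).app V s = 0) : ∃ (j' : J) (f : j ⟶ j'), (D.map f).app V s = 0 := by
  let p : Set X → Prop := fun S => ∃ (W : X.Opens) (hW : W ≤ V), S ⊆ (W : Set X) ∧
    ∃ (j' : J) (f : j ⟶ j'),
      (D.obj j').presheaf.map (homOfLE hW).op ((D.map f).app V s) = 0
  have key : p (V : Set X) := by
    apply hV.induction_on (p := p)
    · exact ⟨⊥, bot_le, Set.empty_subset _, j, 𝟙 j, ModSec.sec_bot _ _ _⟩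
    · rintro S T hST ⟨W, hW, hTW, r⟩
      exact ⟨W, hW, hST.trans hTW, r⟩
    · rintro S T ⟨W₁, hW₁, hS, j₁, f₁, e₁⟩ ⟨W₂, hW₂, hT, j₂, f₂, e₂⟩
      obtain ⟨k, g₁, g₂, hg⟩ := IsFiltered.span f₁ f₂
      refine ⟨W₁ ⊔ W₂, sup_le hW₁ hW₂, (Set.union_subset_union hS hT).trans (by simp), k,
        f₁ ≫ g₁, ?_⟩
      apply ModSec.sec_ext₂ _ le_sup_left le_sup_right le_rfl
      · rw [ModSec.res_comp _ _ _ (homOfLE hW₁), map_zero, map_comp_app_apply,
          ModSec.map_app_apply, e₁, map_zero]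
      · rw [ModSec.res_comp _ _ _ (homOfLE hW₂), map_zero, hg, map_comp_app_apply,
          ModSec.map_app_apply, e₂, map_zero]
    · intro x hx
      obtain ⟨W, hW, hxW, j', f, e⟩ := local_zero D c hc V j s h x hx
      exact ⟨W, mem_nhdsWithin_of_mem_nhds (W.2.mem_nhds hxW), W, hW, subset_rfl, j', f, e⟩
  obtain ⟨W, hW, hVW, j', f, e⟩ := key
  have : W = V := le_antisymm hW hVW
  subst this
  exact ⟨j', f, by rwa [ModSec.res_id] at e⟩

omit [IsFiltered J] in
theorem cocone_w_apply {j j' : J} (f : j ⟶ j') (W : X.Opens) (s : Γ(D.obj j, W)) :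
    (c.ι.app j').app W ((D.map f).app W s) = (c.ι.app j).app W s :=
  congrArg (fun φ : D.obj j ⟶ c.pt => φ.app W s) (c.w f)

omit [IsFiltered J] in
theorem ι_res_apply (j : J) {U V : X.Opens} (i : U ⟶ V) (s : Γ(D.obj j, V)) :
    c.pt.presheaf.map i.op ((c.ι.app j).app V s) =
      (c.ι.app j).app U ((D.obj j).presheaf.map i.op s) :=
  ModSec.map_app_apply (c.ι.app j) i s

include hc in
theorem global_rep (V : X.Opens) (hV : ∀ W : X.Opens, W ≤ V → IsCompact (W : Set X))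
    (t : Γ(c.pt, V)) :
    ∃ (j : J) (s : Γ(D.obj j, V)), (c.ι.app j).app V s = t := by
  let p : Set X → Prop := fun S => ∃ (W : X.Opens) (hW : W ≤ V), S ⊆ (W : Set X) ∧
    ∃ (j : J) (s : Γ(D.obj j, W)),
      (c.ι.app j).app W s = c.pt.presheaf.map (homOfLE hW).op t
  have key : p (V : Set X) := by
    apply (hV V le_rfl).induction_on (p := p)
    · obtain ⟨j⟩ := IsFiltered.nonempty (C := J)
      exact ⟨⊥, bot_le, Set.empty_subset _, j, 0, ModSec.sec_bot _ _ _⟩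
    · rintro S T hST ⟨W, hW, hTW, r⟩
      exact ⟨W, hW, hST.trans hTW, r⟩
    · rintro S T ⟨W₁, hW₁, hS, j₁, s₁, e₁⟩ ⟨W₂, hW₂, hT, j₂, s₂, e₂⟩
      let k := IsFiltered.max j₁ j₂
      let g₁ : j₁ ⟶ k := IsFiltered.leftToMax j₁ j₂
      let g₂ : j₂ ⟶ k := IsFiltered.rightToMax j₁ j₂
      let s₁' := (D.map g₁).app W₁ s₁
      let s₂' := (D.map g₂).app W₂ s₂
      have e₁' : (c.ι.app k).app W₁ s₁' = c.pt.presheaf.map (homOfLE hW₁).op t := by
        rw [← e₁]; exact cocone_w_apply D c g₁ W₁ s₁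
      have e₂' : (c.ι.app k).app W₂ s₂' = c.pt.presheaf.map (homOfLE hW₂).op t := by
        rw [← e₂]; exact cocone_w_apply D c g₂ W₂ s₂
      let d : Γ(D.obj k, W₁ ⊓ W₂) :=
        (D.obj k).presheaf.map (homOfLE (inf_le_left : W₁ ⊓ W₂ ≤ W₁)).op s₁' -
          (D.obj k).presheaf.map (homOfLE (inf_le_right : W₁ ⊓ W₂ ≤ W₂)).op s₂'
      have hd : (c.ι.app k).app (W₁ ⊓ W₂) d = 0 := by
        rw [map_sub, ← ι_res_apply, ← ι_res_apply, e₁', e₂',
          ModSec.res_comp _ _ _ (homOfLE (inf_le_left.trans hW₁)),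
          ModSec.res_comp _ _ _ (homOfLE (inf_le_left.trans hW₁)), sub_self]
      obtain ⟨k', f, hf⟩ := global_zero D c hc (W₁ ⊓ W₂) (hV _ (inf_le_left.trans hW₁)) k d hd
      rw [map_sub, sub_eq_zero, ← ModSec.map_app_apply, ← ModSec.map_app_apply] at hf
      obtain ⟨s, hs₁, hs₂⟩ := ModSec.glue₂ (D.obj k') ((D.map f).app W₁ s₁')
        ((D.map f).app W₂ s₂') hf
      refine ⟨W₁ ⊔ W₂, sup_le hW₁ hW₂, (Set.union_subset_union hS hT).trans (by simp), k', s, ?_⟩
      apply ModSec.sec_ext₂ c.pt le_sup_left le_sup_right le_rfl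
      · rw [ι_res_apply, hs₁, ModSec.res_comp _ _ _ (homOfLE hW₁), cocone_w_apply, e₁']
      · rw [ι_res_apply, hs₂, ModSec.res_comp _ _ _ (homOfLE hW₂), cocone_w_apply, e₂']
    · intro x hx
      obtain ⟨W, hW, hxW, j, s, e⟩ := local_rep D c hc V t x hx
      exact ⟨W, mem_nhdsWithin_of_mem_nhds (W.2.mem_nhds hxW), W, hW, subset_rfl, j, s, e⟩
  obtain ⟨W, hW, hVW, j, s, e⟩ := key
  have : W = V := le_antisymm hW hVW
  subst this
  exact ⟨j, s, by rwa [ModSec.res_id] at e⟩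

end Groth.Agent.Lib.helper2.SecColim
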