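import Groth.Agent.Lib.Helper2.ZClosLib6
import Groth.Agent.Lib.Helper21.ModSh
import Mathlib.Topology.Sheaves.Skyscraper
import Mathlib.CategoryTheory.Limits.Constructions.EventuallyConstant

universe u
open CategoryTheory CategoryTheory.Limits AlgebraicGeometry TopologicalSpace Opposite

namespace Groth.Agent.Lib.helper2.ZClosLib

open ZClos

variable {X : Scheme.{u}}

/-- the stalk functor on modules -/
noncomputable abbrev stalkF (X : Scheme.{u}) (x : X) : X.Modules ⥤ Ab.{u} :=
  Scheme.Modules.toPresheaf X ⋙ TopCat.Presheaf.stalkFunctor Ab.{u} x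

noncomputable def stalkFIso (X : Scheme.{u}) (x : X) :
    stalkF X x ≅ SheafOfModules.toSheaf.{u} X.ringCatSheaf ⋙
      (TopCat.Sheaf.forget Ab.{u} X.toTopCat ⋙ TopCat.Presheaf.stalkFunctor Ab.{u} x) :=
  Iso.refl _

instance preservesColimits_stalkF (X : Scheme.{u}) (x : X) :
    PreservesColimitsOfSize.{u, u} (stalkF X x) := by
  have h1 := Groth.Agent.Lib.Helper21.ModSh.toSheaf_preservesColimits X.ringCatSheaf
  have h2 : PreservesColimitsOfSize.{u, u}
      (TopCat.Sheaf.forget Ab.{u} X.toTopCat ⋙ TopCat.Presheaf.stalkFunctor Ab.{u} x) :=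
    (Adjunction.ofIsLeftAdjoint _).leftAdjoint_preservesColimits
  have h3 : PreservesColimitsOfSize.{u, u} (SheafOfModules.toSheaf.{u} X.ringCatSheaf ⋙
      (TopCat.Sheaf.forget Ab.{u} X.toTopCat ⋙ TopCat.Presheaf.stalkFunctor Ab.{u} x)) :=
    @comp_preservesColimits _ _ _ _ _ _ _ _ h1 h2
  exact @preservesColimits_of_natIso _ _ _ _ _ _ (stalkFIso X x).symm h3

/-- restricting the unit to `U` gives an isomorphism -/
theorem isIso_restrict_unit (U : X.Opens) (F : X.Modules) :
    IsIso ((Scheme.Modules.restrictFunctor U.ι).map ((resPushUnit U).app F)) := by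
  have h := (Scheme.Modules.restrictAdjunction U.ι).left_triangle_components F
  haveI : IsIso ((Scheme.Modules.restrictAdjunction U.ι).counit.app
      ((Scheme.Modules.restrictFunctor U.ι).obj F)) := inferInstance
  exact IsIso.of_isIso_fac_right h

theorem isIso_stalk_unit' (U : X.Opens) (F : X.Modules) (x' : U) :
    IsIso ((stalkF X (U.ι x')).map ((resPushUnit U).app F)) := by
  haveI := isIso_restrict_unit U F
  have nat := (Scheme.Modules.restrictStalkNatIso U.ι x').hom.naturality ((resPushUnit U).app F)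
  have h1 : IsIso ((Scheme.Modules.restrictFunctor U.ι ⋙ stalkF U x').map ((resPushUnit U).app F)) := by
    rw [Functor.comp_map]; infer_instance
  have h2 : (stalkF X (U.ι x')).map ((resPushUnit U).app F) =
      (Scheme.Modules.restrictStalkNatIso U.ι x').inv.app _ ≫
        (Scheme.Modules.restrictFunctor U.ι ⋙ stalkF U x').map ((resPushUnit U).app F) ≫
          (Scheme.Modules.restrictStalkNatIso U.ι x').hom.app _ := by
    rw [nat, ← Category.assoc, ← NatTrans.comp_app, Iso.inv_hom_id, NatTrans.id_app,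
      Category.id_comp]
  rw [h2]
  infer_instance

theorem isIso_stalk_unit (U : X.Opens) (F : X.Modules) (x : X) (hx : x ∈ U) :
    IsIso ((stalkF X x).map ((resPushUnit U).app F)) :=
  isIso_stalk_unit' U F ⟨x, hx⟩

theorem isIso_stalk_toDiagram (Z : Set X) (F : X.Modules) (x : X) (hx : x ∉ Z) (T : Cl Z) :
    IsIso ((stalkF X x).map (toDiagram Z F T)) :=
  isIso_stalk_unit T.U F x (fun h => hx (T.2 h))

theorem isIso_stalk_rhoApp (Z : Set X) (F : X.Modules) (x : X) (hx : x ∉ Z) :
    IsIso ((stalkF X x).map (rhoApp Z F)) := by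
  have e : (stalkF X x).map (rhoApp Z F) = (stalkF X x).map (toDiagram Z F ⊥) ≫
      (stalkF X x).map (colimit.ι ((diagram Z).obj F) ⊥) := by
    rw [← Functor.map_comp]
    exact congrArg _ (rhoApp_eq Z F ⊥)
  rw [e]
  have i1 := isIso_stalk_toDiagram Z F x hx ⊥
  have hev : ((diagram Z).obj F ⋙ stalkF X x).IsEventuallyConstantFrom ⊥ := by
    intro T f
    haveI := isIso_stalk_toDiagram Z F x hx ⊥
    haveI := isIso_stalk_toDiagram Z F x hx T
    have := congrArg (stalkF X x).map (toDiagram_map Z F f)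
    rw [Functor.map_comp] at this
    exact IsIso.of_isIso_fac_left this
  have i2 : IsIso ((stalkF X x).map (colimit.ι ((diagram Z).obj F) ⊥)) :=
    hev.isIso_ι_of_isColimit (isColimitOfPreserves (stalkF X x)
      (colimit.isColimit ((diagram Z).obj F)))
  exact @IsIso.comp_isIso _ _ _ _ _ _ _ i1 i2

theorem isZClosedAt_of_notMem (Z : Set X) (F : X.Modules) (x : X) (hx : x ∉ Z) :
    IsZClosedAt Z F x := by
  have := isIso_stalk_rhoApp Z F x hx
  exact (ConcreteCategory.isIso_iff_bijective _).mp this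

end Groth.Agent.Lib.helper2.ZClosLib
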