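import Mathlib
import Groth.Agent.Lib.Helper16.QCohAss
import Groth.Agent.Lib.Helper16.CohFinite
import Groth.Agent.Lib.Helper2.ZClosLib7
import Groth.Agent.Lib.Helper2.SecColim

/-!
# The locus where a map of coherent modules is bijective on stalks is open (helper2)
-/

set_option autoImplicit false
universe u
open CategoryTheory CategoryTheory.Limits AlgebraicGeometry TopologicalSpace Opposite
open Groth.Agent.Lib.helper16.CohFinite Groth.Agent.Lib.helper16.QCohAss
open Groth.Agent.Lib.helper2.ZClosLib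

namespace Groth.Agent.Lib.helper2.StalkBij

variable {X : Scheme.{u}}

theorem stalk_map_smul {F G : X.Modules} (φ : F ⟶ G) (x : X) (r : X.presheaf.stalk x)
    (m : F.presheaf.stalk x) :
    (show G.presheaf.stalk x from (stalkF X x).map φ (r • m)) =
      r • (show G.presheaf.stalk x from (stalkF X x).map φ m) := by
  obtain ⟨U₁, hx₁, a, rfl⟩ := X.presheaf.exists_germ_eq r
  obtain ⟨U₂, hx₂, s, rfl⟩ := F.presheaf.exists_germ_eq m
  have hx : x ∈ U₁ ⊓ U₂ := ⟨hx₁, hx₂⟩
  have e1 : (X.presheaf.germ U₁ x hx₁).hom a =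
      (X.presheaf.germ (U₁ ⊓ U₂) x hx).hom (X.presheaf.map (homOfLE inf_le_left).op a) :=
    (TopCat.Presheaf.germ_res_apply X.presheaf (homOfLE inf_le_left) x hx a).symm
  have e2 : (F.presheaf.germ U₂ x hx₂).hom s =
      (F.presheaf.germ (U₁ ⊓ U₂) x hx).hom (F.presheaf.map (homOfLE inf_le_right).op s) :=
    (TopCat.Presheaf.germ_res_apply F.presheaf (homOfLE inf_le_right) x hx s).symm
  rw [e1, e2, ← germ_smul']
  refine (SecColim.stalk_map_germ φ _ x hx _).trans ?_
  rw [Scheme.Modules.Hom.app_smul]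
  refine (germ_smul' G _ x hx _ _).trans ?_
  congr 1
  exact (SecColim.stalk_map_germ φ _ x hx _).symm

/-- the sections map over `V` as a linear map -/
noncomputable def appLin {M N : X.Modules} (φ : M ⟶ N) (V : X.Opens) :
    Γ(M, V) →ₗ[Γ(X, V)] Γ(N, V) where
  toFun m := φ.app V m
  map_add' a b := map_add _ a b
  map_smul' r m := Scheme.Modules.Hom.app_smul φ r m

/-- finitely many elements each killed by something outside `p` are killed by one element -/
theorem exists_notMem_forall_smul_eq_zero {A : Type*} [CommRing A] (p : Ideal A) [p.IsPrime]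
    {M : Type*} [AddCommGroup M] [Module A M] (K : Submodule A M) (hK : K.FG)
    (h : ∀ k ∈ K, ∃ c : A, c ∉ p ∧ c • k = 0) :
    ∃ g : A, g ∉ p ∧ ∀ k ∈ K, g • k = 0 := by
  classical
  obtain ⟨S, hS⟩ := hK
  have h' : ∀ k ∈ S, ∃ c : A, c ∉ p ∧ c • k = 0 := fun k hk =>
    h k (hS ▸ Submodule.subset_span hk)
  choose! c hc hck using h'
  refine ⟨∏ k ∈ S, c k, ?_, ?_⟩
  · intro hmem
    obtain ⟨k, hk, hkp⟩ := (Ideal.IsPrime.prod_mem_iff).mp hmem
    exact hc k hk hkp
  · intro k hk
    rw [← hS] at hk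
    induction hk using Submodule.span_induction with
    | mem k hk =>
      rw [← Finset.prod_erase_mul S c hk, mul_smul, hck k hk, smul_zero]
    | zero => exact smul_zero _
    | add a b _ _ ha hb => rw [smul_add, ha, hb, add_zero]
    | smul r a _ ha => rw [smul_comm, ha, smul_zero]

theorem isOpen_setOf_bijective_stalk [IsLocallyNoetherian X] {M N : X.Modules} (hM : Coh.IsCoh M)
    (hN : Coh.IsCoh N) (φ : M ⟶ N) :
    IsOpen {x : X | Function.Bijective ((stalkF X x).map φ)} := by
  haveI : M.IsQuasicoherent := hM.1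
  haveI : N.IsQuasicoherent := hN.1
  rw [isOpen_iff_forall_mem_open]
  intro x hx
  obtain ⟨V, hV, hxV, -⟩ := exists_isAffineOpen_mem_and_subset (x := x) (U := ⊤) trivial
  haveI : IsNoetherianRing Γ(X, V) := IsLocallyNoetherian.component_noetherian ⟨V, hV⟩
  haveI hfinM : Module.Finite Γ(X, V) Γ(M, V) := finite_sections_of_isCoh M hM hV
  haveI hfinN : Module.Finite Γ(X, V) Γ(N, V) := finite_sections_of_isCoh N hN hV
  let p : Ideal Γ(X, V) := (hV.primeIdealOf ⟨x, hxV⟩).asIdeal
  let l := appLin φ V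
  have hl : ∀ m, l m = φ.app V m := fun _ => rfl
  have hgerm : ∀ (y : X) (hy : y ∈ V) (m : Γ(M, V)),
      (stalkF X y).map φ (M.presheaf.germ V y hy m) = N.presheaf.germ V y hy (l m) :=
    fun y hy m => SecColim.stalk_map_germ φ V y hy m
  -- kernel
  obtain ⟨g₁, hg₁, hK⟩ : ∃ g₁, g₁ ∉ p ∧ ∀ k ∈ LinearMap.ker l, g₁ • k = 0 := by
    apply exists_notMem_forall_smul_eq_zero p (LinearMap.ker l) (IsNoetherian.noetherian _)
    intro k hk
    have h0 : M.presheaf.germ V x hxV k = 0 := by
      apply hx.1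
      refine (hgerm x hxV k).trans ?_
      rw [LinearMap.mem_ker.mp hk, map_zero]
      exact (map_zero _).symm
    exact ker_germ M hV x hxV k h0
  -- cokernel
  obtain ⟨g₂, hg₂, hC⟩ : ∃ g₂, g₂ ∉ p ∧ ∀ n : Γ(N, V), ∃ m, l m = g₂ • n := by
    have h1 : ∀ n : Γ(N, V), ∃ c : Γ(X, V), c ∉ p ∧ c • n ∈ LinearMap.range l := by
      intro n
      obtain ⟨h, hh⟩ := hx.2 (N.presheaf.germ V x hxV n)
      obtain ⟨c, m, hc, hcm⟩ := surj_germ M hV x hxV h
      have h2 : N.presheaf.germ V x hxV (c • n - l m) = 0 := by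
        rw [map_sub, sub_eq_zero]
        refine (germ_smul' N V x hxV c n).trans ?_
        rw [← hgerm, ← hcm, ← hh]
        exact (stalk_map_smul φ x _ h).symm
      obtain ⟨c', hc', hc'0⟩ := ker_germ N hV x hxV _ h2
      refine ⟨c' * c, ?_, ?_⟩
      · intro hmem
        rcases Ideal.IsPrime.mem_or_mem (hV.primeIdealOf ⟨x, hxV⟩).isPrime hmem with h | h
        · exact hc' h
        · exact hc h
      · refine ⟨c' • m, ?_⟩
        rw [smul_sub, sub_eq_zero] at hc'0
        rw [map_smul, mul_smul, hc'0]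
    obtain ⟨g₂, hg₂, hQ⟩ := exists_notMem_forall_smul_eq_zero p
      (⊤ : Submodule Γ(X, V) (Γ(N, V) ⧸ LinearMap.range l)) Module.Finite.fg_top (by
      intro nbar _
      obtain ⟨n, rfl⟩ := Submodule.Quotient.mk_surjective _ nbar
      obtain ⟨c, hc, hcn⟩ := h1 n
      exact ⟨c, hc, by rw [← Submodule.Quotient.mk_smul, Submodule.Quotient.mk_eq_zero]; exact hcn⟩)
    refine ⟨g₂, hg₂, fun n => ?_⟩
    have := hQ (Submodule.Quotient.mk n) Submodule.mem_top
    rw [← Submodule.Quotient.mk_smul, Submodule.Quotient.mk_eq_zero] at this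
    exact this
  refine ⟨(X.basicOpen (g₁ * g₂) : Set X), ?_, (X.basicOpen (g₁ * g₂)).2, ?_⟩
  · intro y hy
    have hyV : y ∈ V := X.basicOpen_le _ hy
    have hy1 : y ∈ X.basicOpen g₁ := by
      rw [X.basicOpen_mul] at hy; exact hy.1
    have hy2 : y ∈ X.basicOpen g₂ := by
      rw [X.basicOpen_mul] at hy; exact hy.2
    have hu1 := isUnit_germ_of_mem_basicOpen y hyV g₁ hy1
    have hu2 := isUnit_germ_of_mem_basicOpen y hyV g₂ hy2
    have hunit : ∀ c : Γ(X, V), c ∉ (hV.primeIdealOf ⟨y, hyV⟩).asIdeal →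
        IsUnit ((X.presheaf.germ V y hyV).hom c) := fun c hc =>
      isUnit_germ_of_mem_basicOpen y hyV c ((Groth.Agent.Lib.helper28.mem_basicOpen_iff hV y hyV c).2 hc)
    constructor
    · rw [injective_iff_map_eq_zero]
      intro (h : M.presheaf.stalk y) hh
      obtain ⟨c, m, hc, hcm⟩ := surj_germ M hV y hyV h
      have h2 : N.presheaf.germ V y hyV (l m) = 0 := by
        rw [← hgerm, ← hcm]
        refine (stalk_map_smul φ y _ h).trans ?_
        have hh' : (show N.presheaf.stalk y from (stalkF X y).map φ h) = 0 := hh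
        rw [hh', smul_zero]
      obtain ⟨c', hc', hc'0⟩ := ker_germ N hV y hyV _ h2
      have h3 : g₁ • c' • m = 0 := hK (c' • m) (by
        rw [LinearMap.mem_ker, map_smul]; exact hc'0)
      have h4 := congrArg (M.presheaf.germ V y hyV) h3
      rw [map_zero] at h4
      have h5 : (X.presheaf.germ V y hyV).hom g₁ • (X.presheaf.germ V y hyV).hom c' •
          M.presheaf.germ V y hyV m = 0 := by
        rw [← germ_smul', ← germ_smul']; exact h4
      have h6 := (hunit c' hc').smul_eq_zero.mp (hu1.smul_eq_zero.mp h5)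
      rw [h6] at hcm
      have h7 : (show M.presheaf.stalk y from h) = 0 := (hunit c hc).smul_eq_zero.mp hcm
      exact h7
    · intro (h : N.presheaf.stalk y)
      obtain ⟨c, n, hc, hcn⟩ := surj_germ N hV y hyV h
      obtain ⟨m, hm⟩ := hC n
      have hu : IsUnit ((X.presheaf.germ V y hyV).hom g₂ * (X.presheaf.germ V y hyV).hom c) :=
        hu2.mul (hunit c hc)
      refine ⟨(↑hu.unit⁻¹ : X.presheaf.stalk y) • M.presheaf.germ V y hyV m, ?_⟩
      refine (stalk_map_smul φ y _ _).trans ?_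
      rw [hgerm, hm]
      have e : N.presheaf.germ V y hyV (g₂ • n) =
          ((X.presheaf.germ V y hyV).hom g₂ * (X.presheaf.germ V y hyV).hom c) • h := by
        refine (germ_smul' N V y hyV g₂ n).trans ?_
        rw [← hcn, mul_smul]
      rw [e, smul_smul, IsUnit.val_inv_mul, one_smul]
  · exact (Groth.Agent.Lib.helper28.mem_basicOpen_iff hV x hxV _).2 (fun hmem => by
      rcases Ideal.IsPrime.mem_or_mem (hV.primeIdealOf ⟨x, hxV⟩).isPrime hmem with h | h
      · exact hg₁ h
      · exact hg₂ h)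

end Groth.Agent.Lib.helper2.StalkBij
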