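import Mathlib
import Groth.Agent.Lib.Helper2.AffPts
import Groth.Prelude.Def_CInt

set_option autoImplicit false
universe u

open AlgebraicGeometry TopologicalSpace CategoryTheory Opposite
open Groth.Agent.Lib.helper16.CohFinite Groth.Agent.Lib.helper2.SpreadOut

namespace Groth.Agent.Lib.helper2.Hartogs

variable {X : Scheme.{u}} [IsLocallyNoetherian X] (F : X.Modules)

/-- depth `≥ n` at the generizations of `y` inside the closed set `Y` spreads to a neighbourhood -/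
theorem exists_open_depth_ge (hF : Coh.IsCoh F) (Y : Set X) (hY : IsClosed Y) (y : X) (n : ℕ)
    (h : ∀ z : X, z ∈ Y → z ⤳ y →
      (n : ℕ∞) ≤ LocCoh.depth (X.presheaf.stalk z) (F.presheaf.stalk z)) :
    ∃ W : X.Opens, y ∈ W ∧ ∀ z : X, z ∈ W → z ∈ Y →
      (n : ℕ∞) ≤ LocCoh.depth (X.presheaf.stalk z) (F.presheaf.stalk z) := by
  haveI : F.IsQuasicoherent := hF.1
  obtain ⟨_, ⟨V, hV : IsAffineOpen V, rfl⟩, hyV, -⟩ :=
    X.isBasis_affineOpens.exists_subset_of_mem_open (Set.mem_univ y) isOpen_univ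
  haveI : IsNoetherianRing Γ(X, V) := IsLocallyNoetherian.component_noetherian ⟨V, hV⟩
  have hfin : Module.Finite Γ(X, V) Γ(F, V) := finite_sections_of_isCoh F hF hV
  haveI := finite_gam F hV hfin
  let p : PrimeSpectrum Γ(X, V) := hV.primeIdealOf ⟨y, hyV⟩
  have hp : ptOf hV p = y := ptOf_primeIdealOf hV y hyV
  let I : Ideal Γ(X, V) := PrimeSpectrum.vanishingIdeal ((ptOf hV) ⁻¹' Y)
  obtain ⟨g, hgp, xs, hlen, hmem, hg⟩ := exists_basicOpen_depth_ge I p.asIdeal (gam (GG F hV)) n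
    (fun q _ hIq hqp => by
      have := h (ptOf hV ⟨q, inferInstance⟩)
        ((vanishingIdeal_le_iff hV Y hY ⟨q, inferInstance⟩).mp hIq) (by
        rw [← hp]; exact (specializes_ptOf_iff hV ⟨q, inferInstance⟩ p).mpr hqp)
      rw [depth_stalk_ptOf F hV hfin ⟨q, inferInstance⟩] at this
      exact this)
  refine ⟨hV.fromSpec ''ᵁ (PrimeSpectrum.basicOpen g), ⟨p, hgp, hp⟩, ?_⟩
  rintro _ ⟨q₀, hq, rfl⟩ hzY
  let q : PrimeSpectrum Γ(X, V) := q₀
  have hzY' : ptOf hV q ∈ Y := hzY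
  change (n : ℕ∞) ≤ LocCoh.depth (X.presheaf.stalk (ptOf hV q)) (F.presheaf.stalk (ptOf hV q))
  rw [depth_stalk_ptOf F hV hfin q, ← hlen]
  exact depth_ge_of_isWeaklyRegular I q.asIdeal ((vanishingIdeal_le_iff hV Y hY q).mpr hzY') _ xs
    hmem (hg q.asIdeal hq)


omit [IsLocallyNoetherian X] in
theorem le_depthAlong_iff (Y : Set X) (y : X) (n : ℕ) :
    (n : ℕ∞) ≤ CInt.depthAlong F Y y ↔ ∀ z : X, z ∈ Y → z ⤳ y →
      (n : ℕ∞) ≤ LocCoh.depth (X.presheaf.stalk z) (F.presheaf.stalk z) := by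
  unfold CInt.depthAlong
  rw [le_iInf_iff]
  exact ⟨fun h z hz hzy => h ⟨z, hz, hzy⟩, fun h z => h z.1 z.2.1 z.2.2⟩

/-- EGA IV 12-type: the locus of `Y` where the depth of `F` along `Y` is `≥ n` is open in `Y`. -/
theorem exists_open_depthAlong (hF : Coh.IsCoh F) (Y : Closeds X) (n : ℕ) :
    ∃ U : X.Opens, ∀ y : X, y ∈ Y → (y ∈ U ↔ (n : ℕ∞) ≤ CInt.depthAlong F (Y : Set X) y) := by
  let good : X.Opens → Prop := fun W => ∀ z : X, z ∈ W → z ∈ Y →
    (n : ℕ∞) ≤ LocCoh.depth (X.presheaf.stalk z) (F.presheaf.stalk z)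
  refine ⟨⨆ W : {W : X.Opens // good W}, W.1, fun y hy => ?_⟩
  rw [le_depthAlong_iff]
  constructor
  · intro hyU z hz hzy
    obtain ⟨W, hyW⟩ := Opens.mem_iSup.mp hyU
    exact W.2 z (hzy.mem_open W.1.2 hyW) hz
  · intro h
    obtain ⟨W, hyW, hW⟩ := exists_open_depth_ge F hF (Y : Set X) Y.isClosed y n h
    exact Opens.mem_iSup.mpr ⟨⟨W, hW⟩, hyW⟩

end Groth.Agent.Lib.helper2.Hartogs
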