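import Groth.Agent.Lib.Helper2.ZClosLib10

/-!
# Pointwise `Z`-purity / `Z`-closedness in terms of sections (helper2)
-/

universe u
open CategoryTheory CategoryTheory.Limits AlgebraicGeometry TopologicalSpace Opposite

namespace Groth.Agent.Lib.helper2.ZPt

open ZClos ZClosLib

variable {X : Scheme.{u}}

theorem im_mono {U U' V V' : X.Opens} (hU : U' ≤ U) (hV : V' ≤ V) : im U' V' ≤ im U V := by
  intro y hy
  obtain ⟨h1, h2⟩ := (mem_im_iff _ _ _).mp hy
  exact (mem_im_iff _ _ _).mpr ⟨hU h1, hV h2⟩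

theorem rhoApp_app_apply (Z : Set X) (F : X.Modules) (T : Cl Z) (W : X.Opens) (m : Γ(F, W)) :
    (rhoApp Z F).app W m = (colimit.ι ((diagram Z).obj F) T).app W
      (F.presheaf.map (homOfLE (im_le T.U W)).op m) := by
  rw [rhoApp_eq Z F T]
  rfl

/-- PW1' -/
theorem germ_eq_zero_of_isZPureAt (Z : Set X) (F : X.Modules) (x : X) (h : IsZPureAt Z F x)
    (W : X.Opens) (hx : x ∈ W) (m : Γ(F, W)) (T : Cl Z)
    (hm : F.presheaf.map (homOfLE (im_le T.U W)).op m = 0) :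
    F.presheaf.germ W x hx m = 0 := by
  apply germ_eq_zero_of_app_eq_zero (rhoApp Z F) W m _ x hx h
  rw [rhoApp_app_apply Z F T, hm]
  exact map_zero _

theorem toDiagram_map_app_apply (Z : Set X) (F : X.Modules) {T T' : Cl Z} (f : T ⟶ T')
    (V : X.Opens) (m : Γ(F, V)) :
    (((diagram Z).obj F).map f).app V ((toDiagram Z F T).app V m) = (toDiagram Z F T').app V m :=
  congrArg (fun φ : F ⟶ ((diagram Z).obj F).obj T' => φ.app V m) (toDiagram_map Z F f)

/-- PW1 -/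
theorem isZPureAt_of_forall [IsLocallyNoetherian X] (Z : Set X) (F : X.Modules) (x : X)
    (h : ∀ (V : X.affineOpens) (hx : x ∈ V.1) (m : Γ(F, V.1)) (T : Cl Z),
      F.presheaf.map (homOfLE (im_le T.U V.1)).op m = 0 → F.presheaf.germ V.1 x hx m = 0) :
    IsZPureAt Z F x := by
  change Function.Injective ((stalkF X x).map (rhoApp Z F))
  rw [injective_iff_map_eq_zero]
  intro g hg
  obtain ⟨W₀, hxW₀, m₀, rfl⟩ := F.presheaf.exists_germ_eq g
  let D := (diagram Z).obj F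
  let c := colimit.cocone D
  have hc : IsColimit c := colimit.isColimit D
  have hg' : SecColim.germ c.pt W₀ x hxW₀ ((rhoApp Z F).app W₀ m₀) = 0 :=
    (SecColim.stalk_map_germ (rhoApp Z F) W₀ x hxW₀ m₀).symm.trans hg
  have h1 : SecColim.germ c.pt W₀ x hxW₀ ((rhoApp Z F).app W₀ m₀) =
      SecColim.germ c.pt W₀ x hxW₀ 0 := by
    rw [hg']; exact (map_zero _).symm
  obtain ⟨W, hxW, i₁, i₂, h2⟩ := c.pt.presheaf.germ_eq x hxW₀ hxW₀ _ _ h1
  obtain ⟨V, hV, hxV, hVW⟩ := exists_isAffineOpen_mem_and_subset (x := x) (U := W) hxW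
  have hVW' : V ≤ W := hVW
  let m : Γ(F, V) := F.presheaf.map (homOfLE (hVW'.trans i₁.le)).op m₀
  have hm : (rhoApp Z F).app V m = 0 := by
    refine (ModSec.map_app_apply (rhoApp Z F) (homOfLE (hVW'.trans i₁.le)) m₀).symm.trans ?_
    have := congrArg (c.pt.presheaf.map (homOfLE hVW').op) h2
    rw [map_zero, map_zero] at this
    exact (ModSec.res_comp c.pt (homOfLE hVW') i₁ (homOfLE (hVW'.trans i₁.le)) _).symm.trans this
  rw [rhoApp_app_apply Z F ⊥] at hm
  obtain ⟨T, f, hT⟩ := SecColim.global_zero D c hc V (isCompact_of_le_affine ⟨V, hV⟩ V le_rfl) ⊥ _ hm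
  have hT' : (D.map f).app V ((toDiagram Z F ⊥).app V m) = 0 := hT
  rw [toDiagram_map_app_apply, toDiagram_app] at hT'
  have := h ⟨V, hV⟩ hxV m T hT'
  exact (TopCat.Presheaf.germ_res_apply F.presheaf (homOfLE (hVW'.trans i₁.le)) x hxV m₀).symm.trans
    this

/-- PW2' -/
theorem exists_lift_of_isZClosedAt [IsLocallyNoetherian X] (Z : Set X) (F : X.Modules) (x : X)
    (h : IsZClosedAt Z F x) (W₁ : X.Opens) (hx : x ∈ W₁) (T : Cl Z) (t : Γ(F, im T.U W₁)) :
    ∃ (W₂ : X.Opens) (hW : W₂ ≤ W₁) (_ : x ∈ W₂) (T' : Cl Z) (hT : T ≤ T') (m' : Γ(F, W₂)),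
      F.presheaf.map (homOfLE (im_le T'.U W₂)).op m' =
        F.presheaf.map (homOfLE (im_mono (Cl.U_anti hT) hW)).op t := by
  let D := (diagram Z).obj F
  let c := colimit.cocone D
  have hc : IsColimit c := colimit.isColimit D
  let t' : Γ(D.obj T, W₁) := t
  let b : Γ(c.pt, W₁) := (c.ι.app T).app W₁ t'
  obtain ⟨g, hg⟩ := h.2 (SecColim.germ c.pt W₁ x hx b)
  obtain ⟨W₀, hxW₀, m₀, rfl⟩ := F.presheaf.exists_germ_eq g
  have hg' : SecColim.germ c.pt W₀ x hxW₀ ((rhoApp Z F).app W₀ m₀) =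
      SecColim.germ c.pt W₁ x hx b :=
    (SecColim.stalk_map_germ (rhoApp Z F) W₀ x hxW₀ m₀).symm.trans hg
  obtain ⟨W, hxW, i₁, i₂, h2⟩ := c.pt.presheaf.germ_eq x hxW₀ hx _ _ hg'
  obtain ⟨V, hV, hxV, hVW⟩ := exists_isAffineOpen_mem_and_subset (x := x) (U := W) hxW
  have hVW' : V ≤ W := hVW
  have hVW₁ : V ≤ W₁ := hVW'.trans i₂.le
  let m : Γ(F, V) := F.presheaf.map (homOfLE (hVW'.trans i₁.le)).op m₀
  let tV : Γ(D.obj T, V) := (D.obj T).presheaf.map (homOfLE hVW₁).op t'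
  have hm : (rhoApp Z F).app V m = (c.ι.app T).app V tV := by
    refine (ModSec.map_app_apply (rhoApp Z F) (homOfLE (hVW'.trans i₁.le)) m₀).symm.trans ?_
    refine Eq.trans ?_ (SecColim.ι_res_apply D c T (homOfLE hVW₁) t')
    have := congrArg (c.pt.presheaf.map (homOfLE hVW').op) h2
    exact ((ModSec.res_comp c.pt (homOfLE hVW') i₁ (homOfLE (hVW'.trans i₁.le)) _).symm.trans
      this).trans (ModSec.res_comp c.pt (homOfLE hVW') i₂ (homOfLE hVW₁) _)
  rw [rhoApp_app_apply Z F T] at hm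
  let d : Γ(D.obj T, V) := (toDiagram Z F T).app V m - tV
  have hd : (c.ι.app T).app V d = 0 := by
    rw [map_sub, sub_eq_zero]
    exact hm
  obtain ⟨T', f, hT'⟩ := SecColim.global_zero D c hc V
    (isCompact_of_le_affine ⟨V, hV⟩ V le_rfl) T d hd
  refine ⟨V, hVW₁, hxV, T', leOfHom f, m, ?_⟩
  have h3 : (D.map f).app V ((toDiagram Z F T).app V m) = (D.map f).app V tV := by
    rw [← sub_eq_zero, ← map_sub]; exact hT'
  rw [toDiagram_map_app_apply, toDiagram_app] at h3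
  refine h3.trans ?_
  change (((diagram Z).obj F).map f).app V tV = _
  rw [diagram_map_app_apply]
  exact ModSec.res_comp F _ _ _ t

/-- PW2 -/
theorem isZClosedAt_of_forall [IsLocallyNoetherian X] (Z : Set X) (F : X.Modules) (x : X)
    (hinj : IsZPureAt Z F x)
    (h : ∀ (V : X.affineOpens) (_ : x ∈ V.1) (T : Cl Z) (t : Γ(F, im T.U V.1)),
      ∃ (W₂ : X.Opens) (hW : W₂ ≤ V.1) (_ : x ∈ W₂) (T' : Cl Z) (hT : T ≤ T') (m' : Γ(F, W₂)),
        F.presheaf.map (homOfLE (im_le T'.U W₂)).op m' =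
          F.presheaf.map (homOfLE (im_mono (Cl.U_anti hT) hW)).op t) :
    IsZClosedAt Z F x := by
  refine ⟨hinj, ?_⟩
  intro b
  let D := (diagram Z).obj F
  let c := colimit.cocone D
  have hc : IsColimit c := colimit.isColimit D
  obtain ⟨W₀, hxW₀, h₀, rfl⟩ := c.pt.presheaf.exists_germ_eq b
  obtain ⟨V, hV, hxV, hVW⟩ := exists_isAffineOpen_mem_and_subset (x := x) (U := W₀) hxW₀
  have hVW' : V ≤ W₀ := hVW
  let h₁ : Γ(c.pt, V) := c.pt.presheaf.map (homOfLE hVW').op h₀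
  obtain ⟨T, t, ht⟩ := SecColim.global_rep D c hc V (isCompact_of_le_affine ⟨V, hV⟩) h₁
  obtain ⟨W₂, hW, hxW₂, T', hT, m', hm'⟩ := h ⟨V, hV⟩ hxV T t
  refine ⟨F.presheaf.germ W₂ x hxW₂ m', ?_⟩
  refine (SecColim.stalk_map_germ (rhoApp Z F) W₂ x hxW₂ m').trans ?_
  have key : (rhoApp Z F).app W₂ m' = c.pt.presheaf.map (homOfLE (hW.trans hVW')).op h₀ := by
    rw [rhoApp_app_apply Z F T', hm']
    let f : T ⟶ T' := homOfLE hT
    let tW : Γ(D.obj T, W₂) := (D.obj T).presheaf.map (homOfLE hW).op t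
    have e1 : F.presheaf.map (homOfLE (im_mono (Cl.U_anti hT) hW)).op t = (D.map f).app W₂ tW := by
      change _ = (((diagram Z).obj F).map f).app W₂ tW
      rw [diagram_map_app_apply]
      exact (ModSec.res_comp F _ _ _ (show Γ(F, im T.U V) from t)).symm
    rw [e1]
    refine (SecColim.cocone_w_apply D c f W₂ tW).trans ?_
    refine (SecColim.ι_res_apply D c T (homOfLE hW) t).symm.trans ?_
    rw [ht]
    exact ModSec.res_comp _ _ _ _ h₀
  rw [key]
  exact TopCat.Presheaf.germ_res_apply c.pt.presheaf (homOfLE (hW.trans hVW')) x hxW₂ h₀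

end Groth.Agent.Lib.helper2.ZPt
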