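import Mathlib
import Groth.Agent.Lib.Helper2.ZPt1
import Groth.Agent.Lib.Helper2.DepthAlong

/-!
# Pointwise `Z`-purity / `Z`-closedness from depth conditions (helper2)
-/

set_option autoImplicit false
universe u
open CategoryTheory CategoryTheory.Limits AlgebraicGeometry TopologicalSpace Opposite
open Groth.Agent.Lib.helper16.CohFinite

namespace Groth.Agent.Lib.helper2.Hartogs

variable {X : Scheme.{u}} (F : X.Modules) {V : X.Opens} (hV : IsAffineOpen V)

include hV in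
theorem injective_res_of_depth' [F.IsQuasicoherent] [IsNoetherianRing Γ(X, V)]
    (hfin : Module.Finite Γ(X, V) Γ(F, V)) (W : X.Opens) (hW : W ≤ V)
    (hdepth : ∀ q : PrimeSpectrum Γ(X, V), hV.fromSpec q ∉ W →
      (1 : ℕ∞) ≤ LocCoh.depth (Localization.AtPrime q.asIdeal)
        (LocalizedModule q.asIdeal.primeCompl (gam (GG F hV)))) :
    Function.Injective (F.presheaf.map (homOfLE hW).op) := by
  let W' : (Spec Γ(X, V)).Opens := hV.fromSpec ⁻¹ᵁ W
  let J : Ideal Γ(X, V) := PrimeSpectrum.vanishingIdeal ((W'.carrier : Set (PrimeSpectrum Γ(X, V)))ᶜ)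
  have hJW : EGA4.openCompl Γ(X, V) J = W' := openCompl_vanishingIdeal W'
  haveI := finite_gam F hV hfin
  have hZ : StableUnderSpecialization (PrimeSpectrum.zeroLocus (J : Set Γ(X, V))) :=
    (PrimeSpectrum.isClosed_zeroLocus _).stableUnderSpecialization
  have hpure : EGA4.IsPureAlong (PrimeSpectrum.zeroLocus (J : Set Γ(X, V)))
      (gam (GG F hV)) := by
    rw [PureClosed.isPureAlong_iff_depth hZ]
    intro q hq
    have hqW : q ∉ W' := by
      intro h
      have h2 : q ∈ EGA4.openCompl Γ(X, V) J := by rw [hJW]; exact h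
      exact h2 hq
    exact hdepth q hqW
  have h1 := (PureClosed.injective_restrCompl_iff (gam (GG F hV)) J).mp (hpure J le_rfl)
  rw [hJW] at h1
  have h2 := (injective_res_iff (GG F hV) W').mpr h1
  have e1 : hV.fromSpec ''ᵁ ⊤ = V := Groth.Agent.Lib.helper7.image_top_eq hV
  have e2 : hV.fromSpec ''ᵁ W' = W := by
    rw [Scheme.Hom.image_preimage_eq_opensRange_inf, hV.opensRange_fromSpec]
    exact inf_eq_right.mpr hW
  exact (ZClosLib.res_inj_iff_of_eq₂ F e1 e2
    (homOfLE (Scheme.Hom.image_mono hV.fromSpec le_top)) (homOfLE hW)).mp h2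

include hV in
theorem injective_res_of_depth [F.IsQuasicoherent] [IsNoetherianRing Γ(X, V)]
    (hfin : Module.Finite Γ(X, V) Γ(F, V)) (W : X.Opens) (hW : W ≤ V)
    (hdepth : ∀ x : X, x ∈ V → x ∉ W →
      (1 : ℕ∞) ≤ LocCoh.depth (X.presheaf.stalk x) (F.presheaf.stalk x)) :
    Function.Injective (F.presheaf.map (homOfLE hW).op) := by
  refine injective_res_of_depth' F hV hfin W hW (fun q hqW => ?_)
  have := hdepth (hV.fromSpec q) (mem_range_fromSpec hV q) hqW
  rw [depth_stalk_eq F hV hfin _ (mem_range_fromSpec hV q)] at this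
  have hq' := primeIdealOf_fromSpec hV q
  rw [hq'] at this
  exact this

end Groth.Agent.Lib.helper2.Hartogs

namespace Groth.Agent.Lib.helper2.ZPt

open ZClos ZClosLib Hartogs

variable {X : Scheme.{u}} [IsLocallyNoetherian X]

theorem isZPureAt_of_depth (Z : Set X) (F : X.Modules) (hF : Coh.IsCoh F) (x : X)
    (h : ∀ x' : X, x' ⤳ x → x' ∈ Z →
      (1 : ℕ∞) ≤ LocCoh.depth (X.presheaf.stalk x') (F.presheaf.stalk x')) :
    IsZPureAt Z F x := by
  haveI : F.IsQuasicoherent := hF.1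
  apply isZPureAt_of_forall
  intro V hxV m T hm
  obtain ⟨W, hxW, hWd⟩ := exists_open_depth_ge F hF (T.1 : Set X) T.1.isClosed x 1
    (fun z hzT hzx => h z hzx (T.2 hzT))
  obtain ⟨V₂, hV₂, hxV₂, hV₂W⟩ := exists_isAffineOpen_mem_and_subset (x := x) (U := V.1 ⊓ W)
    ⟨hxV, hxW⟩
  have hV₂V : V₂ ≤ V.1 := fun y hy => (hV₂W hy).1
  have hV₂W' : V₂ ≤ W := fun y hy => (hV₂W hy).2
  haveI : IsNoetherianRing Γ(X, V₂) := IsLocallyNoetherian.component_noetherian ⟨V₂, hV₂⟩
  have hfin : Module.Finite Γ(X, V₂) Γ(F, V₂) := finite_sections_of_isCoh F hF hV₂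
  have hinj := injective_res_of_depth F hV₂ hfin (im T.U V₂) (im_le _ _) (fun y hyV hyW => by
    apply hWd y (hV₂W' hyV)
    by_contra hyT
    exact hyW ((mem_im_iff _ _ _).mpr ⟨hyT, hyV⟩))
  have h0 : F.presheaf.map (homOfLE hV₂V).op m = 0 := by
    apply hinj
    rw [map_zero, ModSec.res_comp _ _ _ (homOfLE ((im_le T.U V₂).trans hV₂V))]
    have := congrArg (F.presheaf.map (homOfLE (im_mono (le_refl T.U) hV₂V)).op) hm
    rw [map_zero, ModSec.res_comp _ _ _ (homOfLE ((im_le T.U V₂).trans hV₂V))] at this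
    exact this
  refine (TopCat.Presheaf.germ_res_apply F.presheaf (homOfLE hV₂V) x hxV₂ m).symm.trans ?_
  rw [h0]
  exact map_zero _

theorem isZClosedAt_of_depth (Z : Set X) (F : X.Modules) (hF : Coh.IsCoh F) (x : X)
    (h : ∀ x' : X, x' ⤳ x → x' ∈ Z →
      (2 : ℕ∞) ≤ LocCoh.depth (X.presheaf.stalk x') (F.presheaf.stalk x')) :
    IsZClosedAt Z F x := by
  haveI : F.IsQuasicoherent := hF.1
  apply isZClosedAt_of_forall Z F x (isZPureAt_of_depth Z F hF x (fun x' h1 h2 =>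
    le_trans (by norm_num) (h x' h1 h2)))
  intro V hxV T t
  obtain ⟨W, hxW, hWd⟩ := exists_open_depth_ge F hF (T.1 : Set X) T.1.isClosed x 2
    (fun z hzT hzx => h z hzx (T.2 hzT))
  obtain ⟨V₂, hV₂, hxV₂, hV₂W⟩ := exists_isAffineOpen_mem_and_subset (x := x) (U := V.1 ⊓ W)
    ⟨hxV, hxW⟩
  have hV₂V : V₂ ≤ V.1 := fun y hy => (hV₂W hy).1
  have hV₂W' : V₂ ≤ W := fun y hy => (hV₂W hy).2
  haveI : IsNoetherianRing Γ(X, V₂) := IsLocallyNoetherian.component_noetherian ⟨V₂, hV₂⟩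
  have hfin : Module.Finite Γ(X, V₂) Γ(F, V₂) := finite_sections_of_isCoh F hF hV₂
  have hbij := bijective_res_of_depth F hV₂ hfin (im T.U V₂) (im_le _ _) (fun y hyV hyW => by
    apply hWd y (hV₂W' hyV)
    by_contra hyT
    exact hyW ((mem_im_iff _ _ _).mpr ⟨hyT, hyV⟩))
  obtain ⟨m', hm'⟩ := hbij.2 (F.presheaf.map (homOfLE (im_mono (le_refl T.U) hV₂V)).op t)
  exact ⟨V₂, hV₂V, hxV₂, T, le_rfl, m', hm'⟩

end Groth.Agent.Lib.helper2.ZPt
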