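import Mathlib
import Groth.Agent.Lib.Helper2.ZPt2
import Groth.Agent.Lib.Helper16.QCohAss

/-!
# Pointwise `Z`-purity ⇒ depth ≥ 1 at generizations in `Z` (helper2)
-/

set_option autoImplicit false
universe u
open CategoryTheory CategoryTheory.Limits AlgebraicGeometry TopologicalSpace Opposite
open Groth.Agent.Lib.helper16.CohFinite Groth.Agent.Lib.helper26.Depth

namespace Groth.Agent.Lib.helper2.ZPt

open ZClos ZClosLib Hartogs StructureSheaf

variable {X : Scheme.{u}}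

/-- the closure of a point of `Z` as a member of `Cl Z` -/
def clPt (Z : Set X) (hZ : StableUnderSpecialization Z) (z : X) (hz : z ∈ Z) : Cl Z :=
  ⟨⟨closure {z}, isClosed_closure⟩, fun _ hy => hZ (specializes_iff_mem_closure.mpr hy) hz⟩

theorem mem_clPt_U_iff (Z : Set X) (hZ : StableUnderSpecialization Z) (z : X) (hz : z ∈ Z) (y : X) :
    y ∈ (clPt Z hZ z hz).U ↔ ¬ z ⤳ y := by
  rw [specializes_iff_mem_closure]; rfl

variable (F : X.Modules) {V : X.Opens} (hV : IsAffineOpen V)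

theorem mem_image_top (x : X) (hx : x ∈ V) : x ∈ hV.fromSpec ''ᵁ (⊤ : (Spec Γ(X, V)).Opens) := by
  rw [Groth.Agent.Lib.helper7.image_top_eq hV]; exact hx

/-- kernel of the germ map on `gam (GG F hV)` -/
theorem exists_smul_eq_zero_of_germ_eq_zero [F.IsQuasicoherent] (x : X) (hx : x ∈ V)
    (m : gam (GG F hV))
    (h : F.presheaf.germ (hV.fromSpec ''ᵁ ⊤) x (mem_image_top hV x hx) m = 0) :
    ∃ c : Γ(X, V), c ∉ (hV.primeIdealOf ⟨x, hx⟩).asIdeal ∧ c • m = 0 := by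
  let m₁ : Γ(F, V) := (secEquiv F hV).symm m
  have h1 : F.presheaf.germ V x hx m₁ = 0 :=
    (TopCat.Presheaf.germ_res_apply F.presheaf
      (homOfLE (Groth.Agent.Lib.helper7.image_top_eq hV).ge) x hx m).trans h
  obtain ⟨c, hc, hcm⟩ := Groth.Agent.Lib.helper16.QCohAss.ker_germ F hV x hx m₁ h1
  refine ⟨c, hc, ?_⟩
  have := congrArg (secEquiv F hV) hcm
  rw [map_smul, map_zero] at this
  rwa [LinearEquiv.apply_symm_apply] at this

/-- a global section of `GG F hV` annihilated by `𝔞` vanishes away from `V(𝔞)`, hence its restriction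
to `T.U ∩ V` vanishes for `T` the closure of the point of `𝔞`. -/
theorem res_eq_zero_of_le_ann [F.IsQuasicoherent] (Z : Set X) (hZ : StableUnderSpecialization Z)
    (𝔞 : PrimeSpectrum Γ(X, V)) (hz : ptOf hV 𝔞 ∈ Z) (m : gam (GG F hV))
    (hm : ∀ c ∈ 𝔞.asIdeal, c • m = 0) :
    F.presheaf.map (homOfLE (im_le (clPt Z hZ (ptOf hV 𝔞) hz).U (hV.fromSpec ''ᵁ ⊤))).op m = 0 := by
  let T := clPt Z hZ (ptOf hV 𝔞) hz
  let O' : (Spec Γ(X, V)).Opens := hV.fromSpec ⁻¹ᵁ T.U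
  have h0 : toOpenₗ Γ(X, V) (gam (GG F hV)) O' m = 0 := by
    refine (PureClosed.toOpenₗ_eq_zero_iff _ m).mpr ?_
    intro 𝔯 h𝔯
    have h1 : ptOf hV 𝔯 ∈ T.U := h𝔯
    rw [mem_clPt_U_iff, specializes_ptOf_iff, SetLike.not_le_iff_exists] at h1
    obtain ⟨c, hc𝔞, hc𝔯⟩ := h1
    exact ⟨c, hc𝔯, hm c hc𝔞⟩
  have h2 : (GG F hV).presheaf.map (homOfLE (le_top : O' ≤ ⊤)).op m = 0 :=
    (res_eq' (GG F hV) O' m).trans ((congrArg _ h0).trans (map_zero _))
  have hle : im T.U (hV.fromSpec ''ᵁ ⊤) ≤ hV.fromSpec ''ᵁ O' := by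
    intro y hy
    obtain ⟨hyT, 𝔯, -, rfl⟩ := (mem_im_iff _ _ _).mp hy
    exact ⟨𝔯, hyT, rfl⟩
  have h3 : F.presheaf.map (homOfLE (Scheme.Hom.image_mono hV.fromSpec (le_top : O' ≤ ⊤))).op m = 0 :=
    h2
  have := congrArg (F.presheaf.map (homOfLE hle).op) h3
  rw [map_zero] at this
  exact (ModSec.res_comp F (homOfLE hle) (homOfLE (Scheme.Hom.image_mono hV.fromSpec (le_top : O' ≤ ⊤)))
    (homOfLE (im_le T.U (hV.fromSpec ''ᵁ ⊤))) (show Γ(F, hV.fromSpec ''ᵁ ⊤) from m)).symm.trans this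

/-- Claim 1': at a point where `F` is `Z`-pure, no associated prime of `Γ(F,V)` below `x` lies in `Z`. -/
theorem notMem_of_mem_associatedPrimes [F.IsQuasicoherent] [IsNoetherianRing Γ(X, V)] (Z : Set X)
    (hZ : StableUnderSpecialization Z) (x : X) (hpure : IsZPureAt Z F x) (hx : x ∈ V)
    (𝔞 : PrimeSpectrum Γ(X, V))
    (hass : 𝔞.asIdeal ∈ associatedPrimes Γ(X, V) (gam (GG F hV)))
    (hle : 𝔞.asIdeal ≤ (hV.primeIdealOf ⟨x, hx⟩).asIdeal) : ptOf hV 𝔞 ∉ Z := by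
  intro hz
  obtain ⟨hprime, m, hm⟩ := (isAssociatedPrime_iff).mp hass
  have hann : ∀ c : Γ(X, V), c ∈ 𝔞.asIdeal ↔ c • m = 0 := by
    intro c
    rw [hm, Submodule.mem_colon_singleton, Submodule.mem_bot]
  have h1 := res_eq_zero_of_le_ann F hV Z hZ 𝔞 hz m (fun c hc => (hann c).mp hc)
  have h2 := germ_eq_zero_of_isZPureAt Z F x hpure (hV.fromSpec ''ᵁ ⊤) (mem_image_top hV x hx) m _ h1
  obtain ⟨c, hc, hcm⟩ := exists_smul_eq_zero_of_germ_eq_zero F hV x hx m h2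
  exact hc (hle ((hann c).mpr hcm))

/-- S5855 (⇒) -/
theorem depth_ge_one_of_isZPureAt [IsLocallyNoetherian X] (Z : Set X)
    (hZ : StableUnderSpecialization Z) (hF : Coh.IsCoh F) (x : X) (hpure : IsZPureAt Z F x)
    (x' : X) (hx' : x' ⤳ x) (hx'Z : x' ∈ Z) :
    (1 : ℕ∞) ≤ LocCoh.depth (X.presheaf.stalk x') (F.presheaf.stalk x') := by
  haveI : F.IsQuasicoherent := hF.1
  obtain ⟨V, hV, hxV, -⟩ := exists_isAffineOpen_mem_and_subset (x := x) (U := ⊤) trivial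
  haveI : IsNoetherianRing Γ(X, V) := IsLocallyNoetherian.component_noetherian ⟨V, hV⟩
  have hfin : Module.Finite Γ(X, V) Γ(F, V) := finite_sections_of_isCoh F hF hV
  haveI := finite_gam F hV hfin
  have hx'V : x' ∈ V := hx'.mem_open V.2 hxV
  let q : PrimeSpectrum Γ(X, V) := hV.primeIdealOf ⟨x', hx'V⟩
  let p : PrimeSpectrum Γ(X, V) := hV.primeIdealOf ⟨x, hxV⟩
  have hq : ptOf hV q = x' := ptOf_primeIdealOf hV x' hx'V
  have hp : ptOf hV p = x := ptOf_primeIdealOf hV x hxV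
  have hqp : q.asIdeal ≤ p.asIdeal := by
    rw [← specializes_ptOf_iff hV, hq, hp]; exact hx'
  rw [← hq, depth_stalk_ptOf F hV hfin q]
  apply one_le_depth_localization_of_not_mem_associatedPrimes
  intro hass
  exact notMem_of_mem_associatedPrimes F hV Z hZ x hpure hxV q hass hqp (hq ▸ hx'Z)

end Groth.Agent.Lib.helper2.ZPt
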