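import Mathlib
import Groth.Agent.Lib.Helper2.PureClosed2
import Groth.Agent.Lib.Helper2.SpreadOut

/-!
# Local versions of the algebra behind EGA IV 5.10.5 (helper2)
-/

set_option autoImplicit false
universe u

open AlgebraicGeometry StructureSheaf PrimeSpectrum TopologicalSpace CategoryTheory Opposite
open RingTheory.Sequence LocCoh IsLocalRing
open scoped Pointwise
open Groth.Agent.Lib.helper26.Depth

namespace Groth.Agent.Lib.helper2.PureClosed

variable {A : Type u} [CommRing A] {M : Type u} [AddCommGroup M] [Module A M]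

/-- (Theorem C') if `x` is regular on `M_r` for all `r ∈ D(g)` and `q u ⊆ x M`, then `u / x` is a
section of `M~` over `D(g) ∖ V(q)`. -/
theorem exists_sec_smul_eq (q : Ideal A) (g x : A)
    (hx : ∀ r : PrimeSpectrum A, g ∉ r.asIdeal → ∀ m : M,
      (∃ t : A, t ∉ r.asIdeal ∧ t • x • m = 0) → ∃ t : A, t ∉ r.asIdeal ∧ t • m = 0)
    (u : M) (hu : ∀ a ∈ q, ∃ n : M, a • u = x • n) :
    ∃ s : Sec A M (PrimeSpectrum.basicOpen g ⊓ EGA4.openCompl A q),
      x • s = toOpenₗ A M (PrimeSpectrum.basicOpen g ⊓ EGA4.openCompl A q) u := by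
  choose φ hφ using hu
  have hcomp : ∀ (r : PrimeSpectrum A), g ∉ r.asIdeal → ∀ (a : A) (ha : a ∈ q) (b : A) (hb : b ∈ q),
      ∃ t : A, t ∉ r.asIdeal ∧ t • (a • φ b hb) = t • (b • φ a ha) := by
    intro r hr a ha b hb
    obtain ⟨t, ht, h0⟩ := hx r hr (a • φ b hb - b • φ a ha) ⟨1, fun h1 =>
      r.2.ne_top ((Ideal.eq_top_iff_one _).mpr h1), by
      rw [one_smul, smul_sub, smul_comm x a, ← hφ b hb, smul_comm x b, ← hφ a ha, smul_comm,
        sub_self]⟩
    exact ⟨t, ht, by rwa [smul_sub, sub_eq_zero] at h0⟩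
  have hex : ∀ p : (PrimeSpectrum.basicOpen g ⊓ EGA4.openCompl A q : Opens (PrimeSpectrum.Top A)),
      ∃ f ∈ q, f ∉ p.1.asIdeal := fun p => (mem_openCompl_iff q p.1).mp p.2.2
  choose a haq hap using hex
  let s : Sec A M (PrimeSpectrum.basicOpen g ⊓ EGA4.openCompl A q) :=
    ⟨fun p => LocalizedModule.mk (φ (a p) (haq p)) ⟨a p, hap p⟩, fun p => by
      refine ⟨PrimeSpectrum.basicOpen (a p) ⊓ PrimeSpectrum.basicOpen g, ⟨hap p, p.2.1⟩,
        homOfLE (fun r hr => ⟨hr.2, basicOpen_le_openCompl q (a p) (haq p) hr.1⟩),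
        φ (a p) (haq p), a p, fun p' => ?_⟩
      refine ⟨p'.2.1, ?_⟩
      rw [LocalizedModule.mk_eq]
      obtain ⟨t, ht, h⟩ := hcomp p'.1 p'.2.2 _ (haq p) _ (haq ⟨p'.1, ⟨p'.2.2,
        basicOpen_le_openCompl q (a p) (haq p) p'.2.1⟩⟩)
      refine ⟨⟨t, ht⟩, ?_⟩
      simp only [Submonoid.smul_def]
      exact h⟩
  refine ⟨s, ?_⟩
  refine Subtype.ext (funext fun p => ?_)
  change x • LocalizedModule.mk (φ (a p) (haq p)) ⟨a p, hap p⟩ = LocalizedModule.mk u 1
  rw [LocalizedModule.smul'_mk, ← hφ (a p) (haq p)]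
  haveI : (p.1 : PrimeSpectrum A).asIdeal.IsPrime := (p.1 : PrimeSpectrum A).2
  exact LocalizedModule.mk_cancel (R := A) (S := (p.1 : PrimeSpectrum A).asIdeal.primeCompl) ⟨a p, hap p⟩ u

end Groth.Agent.Lib.helper2.PureClosed

namespace Groth.Agent.Lib.helper2.ZPt

variable {A : Type u} [CommRing A] [IsNoetherianRing A] (p : Ideal A) [p.IsPrime]
  (M : Type u) [AddCommGroup M] [Module A M] [Module.Finite A M]

/-- `depth (M/xM)_p + 1 = depth M_p` for `x ∈ p` regular on `M_p`. -/
theorem depth_localization_quotSMulTop' (x : A) (hx : x ∈ p)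
    (hreg' : IsSMulRegular (LocalizedModule p.primeCompl M)
      (algebraMap A (Localization.AtPrime p) x)) :
    depth (Localization.AtPrime p) (LocalizedModule p.primeCompl (QuotSMulTop x M)) + 1 =
      depth (Localization.AtPrime p) (LocalizedModule p.primeCompl M) := by
  have hmem : algebraMap A (Localization.AtPrime p) x ∈ maximalIdeal (Localization.AtPrime p) :=
    (IsLocalization.AtPrime.to_map_mem_maximal_iff _ p x).mpr hx
  have h := idealDepth_quotSMulTop_add_one (maximalIdeal (Localization.AtPrime p))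
    (LocalizedModule p.primeCompl M) _ hmem hreg'
  unfold depth
  rw [← h, idealDepth_congr (localizedQuotSMulTopEquiv p M x)]

end Groth.Agent.Lib.helper2.ZPt
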