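import Mathlib
import Groth.Agent.Lib.Helper2.ZPt3
import Groth.Agent.Lib.Helper2.ZPt4

/-!
# Pointwise `Z`-closedness ⇒ depth ≥ 2 at generizations in `Z` (helper2)
-/

set_option autoImplicit false
universe u
open CategoryTheory CategoryTheory.Limits AlgebraicGeometry TopologicalSpace Opposite
open Groth.Agent.Lib.helper16.CohFinite Groth.Agent.Lib.helper26.Depth
open Groth.Agent.Lib.helper16.QCohAss

namespace Groth.Agent.Lib.helper2.ZPt

open ZClos ZClosLib Hartogs StructureSheaf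

variable {X : Scheme.{u}} (F : X.Modules) {V : X.Opens} (hV : IsAffineOpen V)

/-- Lemma S: at a point where `F` is `Z`-closed, a section `u / a` of `M~` defined away from a closed
subset of `Z` near `x` shows `u ∈ a M_p`. -/
theorem exists_smul_eq_smul_of_sec [IsLocallyNoetherian X] [F.IsQuasicoherent] (Z : Set X) (x : X)
    (hcl : IsZClosedAt Z F x) (hx : x ∈ V) (T : Cl Z) (U' : (Spec Γ(X, V)).Opens)
    (hpU : hV.primeIdealOf ⟨x, hx⟩ ∈ U') (O' : (Spec Γ(X, V)).Opens)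
    (hO' : U' ⊓ hV.fromSpec ⁻¹ᵁ T.U ≤ O') (a : Γ(X, V)) (u : gam (GG F hV))
    (s : PureClosed.Sec Γ(X, V) (gam (GG F hV)) O')
    (hs : a • s = toOpenₗ Γ(X, V) (gam (GG F hV)) O' u) :
    ∃ (h : Γ(X, V)) (n : gam (GG F hV)), h ∉ (hV.primeIdealOf ⟨x, hx⟩).asIdeal ∧ h • u = a • n := by
  let G := GG F hV
  let t₀ : Γ(G, O') := (phi G O').hom s
  -- Fact A
  have hA : a • t₀ = G.presheaf.map (homOfLE (le_top : O' ≤ ⊤)).op u := by
    let s' : ↑((modulesSpecToSheaf.obj (tilde (gam G))).presheaf.obj (op O')) := s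
    have h0 : a • s' = a • s :=
      ((tilde.modulesSpecToSheafIso (gam G)).app (op O')).hom.hom.map_smul a s'
    have h1 : (phi G O').hom (a • s') = a • t₀ := (phi G O').hom.map_smul a s'
    rw [← h1, h0, hs]
    exact (res_eq' G O' u).symm
  have hA' : (X.presheaf.map (homOfLE (Groth.Agent.Lib.helper7.image_le hV O')).op a) •
      (show Γ(F, hV.fromSpec ''ᵁ O') from t₀) =
      F.presheaf.map (homOfLE (Scheme.Hom.image_mono hV.fromSpec (le_top : O' ≤ ⊤))).op
        (show Γ(F, hV.fromSpec ''ᵁ ⊤) from u) :=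
    (Groth.Agent.Lib.helper7.smul_eq hV F O' a t₀).symm.trans hA
  let p : PrimeSpectrum Γ(X, V) := hV.primeIdealOf ⟨x, hx⟩
  let W₁ : X.Opens := hV.fromSpec ''ᵁ U'
  have hxW₁ : x ∈ W₁ := ⟨p, hpU, hV.fromSpec_primeIdealOf ⟨x, hx⟩⟩
  have hle₁ : im T.U W₁ ≤ hV.fromSpec ''ᵁ O' := by
    intro y hy
    obtain ⟨hyT, 𝔯, h𝔯, rfl⟩ := (mem_im_iff _ _ _).mp hy
    exact ⟨𝔯, hO' ⟨h𝔯, hyT⟩, rfl⟩
  let tF : Γ(F, hV.fromSpec ''ᵁ O') := t₀
  let uF : Γ(F, hV.fromSpec ''ᵁ ⊤) := u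
  let t : Γ(F, im T.U W₁) := F.presheaf.map (homOfLE hle₁).op tF
  obtain ⟨W₂, hW, hxW₂, T', hT, m', hm'⟩ :=
    exists_lift_of_isZClosedAt Z F x hcl W₁ hxW₁ T t
  have hW₁V : W₁ ≤ V := Groth.Agent.Lib.helper7.image_le hV U'
  have hW₂V : W₂ ≤ V := hW.trans hW₁V
  have hW₂top : W₂ ≤ hV.fromSpec ''ᵁ ⊤ := by
    rw [Groth.Agent.Lib.helper7.image_top_eq hV]; exact hW₂V
  let aW : Γ(X, W₂) := X.presheaf.map (homOfLE hW₂V).op a
  let uW : Γ(F, W₂) := F.presheaf.map (homOfLE hW₂top).op uF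
  let d : Γ(F, W₂) := aW • m' - uW
  have hd : F.presheaf.map (homOfLE (im_le T'.U W₂)).op d = 0 := by
    have hle₂ : im T'.U W₂ ≤ hV.fromSpec ''ᵁ O' := (im_mono (Cl.U_anti hT) hW).trans hle₁
    have e1 : F.presheaf.map (homOfLE (im_le T'.U W₂)).op (aW • m') =
        F.presheaf.map (homOfLE hle₂).op
          ((X.presheaf.map (homOfLE (Groth.Agent.Lib.helper7.image_le hV O')).op a) • tF) := by
      rw [Scheme.Modules.map_smul, Scheme.Modules.map_smul, hm']
      congr 1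
      · rw [← ConcreteCategory.comp_apply, ← Functor.map_comp, ← ConcreteCategory.comp_apply,
          ← Functor.map_comp]
        rfl
      · exact ModSec.res_comp F _ _ _ tF
    rw [map_sub, e1, hA', sub_eq_zero, ModSec.res_comp _ _ _ (homOfLE ((im_le T'.U W₂).trans hW₂top))]
    exact (ModSec.res_comp F _ _ _ uF).symm
  have hg := germ_eq_zero_of_isZPureAt Z F x hcl.1 W₂ hxW₂ d T' hd
  let u₁ : Γ(F, V) := (secEquiv F hV).symm u
  let y := F.presheaf.germ W₂ x hxW₂ m'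
  let ax := X.presheaf.germ V x hx a
  have h1 : ax • y = F.presheaf.germ V x hx u₁ := by
    have e1 : F.presheaf.germ W₂ x hxW₂ (aW • m') = ax • y := by
      refine (germ_smul' F W₂ x hxW₂ aW m').trans ?_
      congr 1
      exact TopCat.Presheaf.germ_res_apply X.presheaf (homOfLE hW₂V) x hxW₂ a
    have e2 : F.presheaf.germ W₂ x hxW₂ uW = F.presheaf.germ V x hx u₁ := by
      refine (TopCat.Presheaf.germ_res_apply F.presheaf (homOfLE hW₂top) x hxW₂ uF).trans ?_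
      exact (TopCat.Presheaf.germ_res_apply F.presheaf
        (homOfLE (Groth.Agent.Lib.helper7.image_top_eq hV).ge) x hx uF).symm
    have e3 : F.presheaf.germ W₂ x hxW₂ (aW • m') - F.presheaf.germ W₂ x hxW₂ uW = 0 := by
      rw [← map_sub]; exact hg
    rw [← e1, ← e2]
    exact sub_eq_zero.mp e3
  obtain ⟨c, n₁, hc, hcn⟩ := surj_germ F hV x hx y
  have h2 : F.presheaf.germ V x hx (c • u₁ - a • n₁) = 0 := by
    rw [map_sub]
    refine sub_eq_zero.mpr ?_
    refine (germ_smul' F V x hx c u₁).trans ?_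
    refine Eq.trans ?_ (germ_smul' F V x hx a n₁).symm
    rw [← h1, ← hcn]
    change (X.presheaf.germ V x hx).hom c • ax • y = ax • (X.presheaf.germ V x hx).hom c • y
    rw [smul_smul, smul_smul, mul_comm]
  obtain ⟨c', hc', hc'0⟩ := ker_germ F hV x hx _ h2
  refine ⟨c' * c, secEquiv F hV (c' • n₁), ?_, ?_⟩
  · intro hmem
    rcases Ideal.IsPrime.mem_or_mem p.isPrime hmem with h | h
    · exact hc' h
    · exact hc h
  · have h3 : (c' * c) • u₁ = a • (c' • n₁) := by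
      rw [smul_sub, sub_eq_zero] at hc'0
      rw [mul_smul, hc'0, smul_comm]
    have h4 := congrArg (secEquiv F hV) h3
    rw [LinearEquiv.map_smul, LinearEquiv.map_smul, LinearEquiv.apply_symm_apply] at h4
    exact h4

/-- S5856 (⇒) -/
theorem depth_ge_two_of_isZClosedAt [IsLocallyNoetherian X] (Z : Set X)
    (hZ : StableUnderSpecialization Z) (hF : Coh.IsCoh F) (x : X) (hcl : IsZClosedAt Z F x)
    (x' : X) (hx' : x' ⤳ x) (hx'Z : x' ∈ Z) :
    (2 : ℕ∞) ≤ LocCoh.depth (X.presheaf.stalk x') (F.presheaf.stalk x') := by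
  haveI : F.IsQuasicoherent := hF.1
  obtain ⟨V, hV, hxV, -⟩ := exists_isAffineOpen_mem_and_subset (x := x) (U := ⊤) trivial
  haveI : IsNoetherianRing Γ(X, V) := IsLocallyNoetherian.component_noetherian ⟨V, hV⟩
  have hfin : Module.Finite Γ(X, V) Γ(F, V) := finite_sections_of_isCoh F hF hV
  haveI := finite_gam F hV hfin
  have hx'V : x' ∈ V := hx'.mem_open V.2 hxV
  let q : PrimeSpectrum Γ(X, V) := hV.primeIdealOf ⟨x', hx'V⟩
  let p : PrimeSpectrum Γ(X, V) := hV.primeIdealOf ⟨x, hxV⟩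
  have hq : ptOf hV q = x' := ptOf_primeIdealOf hV x' hx'V
  have hp : ptOf hV p = x := ptOf_primeIdealOf hV x hxV
  have hqp : q.asIdeal ≤ p.asIdeal := by
    rw [← specializes_ptOf_iff hV, hq, hp]; exact hx'
  let A := Γ(X, V)
  let M := gam (GG F hV)
  let Ap := Localization.AtPrime p.asIdeal
  let Mp := LocalizedModule p.asIdeal.primeCompl M
  -- Step (i)
  obtain ⟨a', ha'I, ha'reg⟩ := PureClosed.exists_isSMulRegular_mem
    (q.asIdeal.map (algebraMap A Ap)) Mp (by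
    intro 𝔞' h𝔞' hle
    haveI : 𝔞'.IsPrime := h𝔞'.isPrime
    let 𝔞 : Ideal A := 𝔞'.comap (algebraMap A Ap)
    have h𝔞 : 𝔞 ∈ associatedPrimes A M :=
      Module.associatedPrimes.comap_mem_associatedPrimes_of_mem_associatedPrimes_of_isLocalizedModule_of_fg
        p.asIdeal.primeCompl (LocalizedModule.mkLinearMap p.asIdeal.primeCompl M) 𝔞' h𝔞'
        ((isNoetherianRing_iff_ideal_fg A).mp inferInstance 𝔞)
    have h𝔞p : 𝔞 ≤ p.asIdeal := by
      intro c hc
      by_contra hcp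
      have hu : IsUnit (algebraMap A Ap c) := IsLocalization.map_units Ap (⟨c, hcp⟩ : p.asIdeal.primeCompl)
      exact (inferInstance : 𝔞'.IsPrime).ne_top (Ideal.eq_top_of_isUnit_mem _ hc hu)
    have hq𝔞 : q.asIdeal ≤ 𝔞 := Ideal.le_comap_map.trans (Ideal.comap_mono hle)
    let 𝔞s : PrimeSpectrum A := ⟨𝔞, inferInstance⟩
    have hz : ptOf hV 𝔞s ∈ Z := by
      have : ptOf hV q ⤳ ptOf hV 𝔞s := (specializes_ptOf_iff hV q 𝔞s).mpr hq𝔞
      exact hZ this (hq ▸ hx'Z)
    exact notMem_of_mem_associatedPrimes F hV Z hZ x hcl.1 hxV 𝔞s h𝔞 h𝔞p hz)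
  obtain ⟨⟨⟨a, haq⟩, s⟩, has⟩ :=
    (IsLocalization.mem_map_algebraMap_iff p.asIdeal.primeCompl Ap).mp ha'I
  have hareg : IsSMulRegular Mp (algebraMap A Ap a) := by
    rw [← has]
    exact ha'reg.mul ((IsLocalization.map_units Ap s).isSMulRegular Mp)
  -- Step (ii)
  obtain ⟨g, hgp, hg⟩ := SpreadOut.spread_isSMulRegular p.asIdeal M a hareg
  have hgq : g ∉ q.asIdeal := fun h => hgp (hqp h)
  have hregq := hg q.asIdeal hgq
  -- Step (iii)
  have hnot : q.asIdeal ∉ associatedPrimes A (QuotSMulTop a M) := by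
    intro hass
    obtain ⟨hprime, ubar, hu⟩ := (isAssociatedPrime_iff).mp hass
    obtain ⟨u, rfl⟩ := Submodule.Quotient.mk_surjective _ ubar
    have hmem : ∀ c : A, c ∈ q.asIdeal ↔ ∃ n : M, c • u = a • n := by
      intro c
      rw [hu, Submodule.mem_colon_singleton, Submodule.mem_bot,
        ← Submodule.Quotient.mk_smul, Submodule.Quotient.mk_eq_zero]
      constructor
      · intro h
        obtain ⟨n', -, hn'⟩ := (Submodule.mem_smul_pointwise_iff_exists _ a ⊤).mp h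
        exact ⟨n', hn'.symm⟩
      · rintro ⟨n, hn⟩
        rw [hn]
        exact Submodule.smul_mem_pointwise_smul n a ⊤ Submodule.mem_top
    obtain ⟨s, hs⟩ := PureClosed.exists_sec_smul_eq (M := M) q.asIdeal g a
      (fun r hr => (SpreadOut.isSMulRegular_localized_iff r.asIdeal M a).mp (hg r.asIdeal hr))
      u (fun c hc => (hmem c).mp hc)
    let T := clPt Z hZ x' hx'Z
    have hO' : (PrimeSpectrum.basicOpen g : (Spec Γ(X, V)).Opens) ⊓ hV.fromSpec ⁻¹ᵁ T.U ≤
        PrimeSpectrum.basicOpen g ⊓ EGA4.openCompl A q.asIdeal := by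
      rintro 𝔯 ⟨h1, h2⟩
      refine ⟨h1, ?_⟩
      have h3 : ptOf hV 𝔯 ∈ T.U := h2
      rw [mem_clPt_U_iff, ← hq, specializes_ptOf_iff, SetLike.not_le_iff_exists] at h3
      exact (PureClosed.mem_openCompl_iff q.asIdeal 𝔯).mpr h3
    obtain ⟨h, n, hh, hhn⟩ := exists_smul_eq_smul_of_sec F hV Z x hcl hxV T
      (PrimeSpectrum.basicOpen g) hgp _ hO' a u s hs
    exact hh (hqp ((hmem h).mpr ⟨n, hhn⟩))
  -- Step (iv)
  have h1 := one_le_depth_localization_of_not_mem_associatedPrimes (QuotSMulTop a M) q.asIdeal hnot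
  have h2 := depth_localization_quotSMulTop' q.asIdeal M a haq hregq
  rw [← hq, depth_stalk_ptOf F hV hfin q, ← h2]
  have : (2 : ℕ∞) = 1 + 1 := by norm_num
  rw [this]
  exact add_le_add_left h1 1

end Groth.Agent.Lib.helper2.ZPt
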