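import Mathlib
import Groth.Agent.Lib.Helper2.ZPt5

set_option autoImplicit false
universe u
open CategoryTheory CategoryTheory.Limits AlgebraicGeometry TopologicalSpace Opposite

namespace Groth.Agent.Lib.helper2.ZPt

open ZClos ZClosLib

variable {X : Scheme.{u}}

theorem isZClosedAt_of_isZClosed (Z : Set X) (F : X.Modules) (h : IsZClosed Z F) (x : X) :
    IsZClosedAt Z F x := by
  have h' : IsIso (rhoApp Z F) := h
  have : IsIso ((stalkF X x).map (rhoApp Z F)) := inferInstance
  exact (ConcreteCategory.isIso_iff_bijective _).mp this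

theorem depth_H0_ge_two [IsLocallyNoetherian X] (Z : Set X) (hZ : StableUnderSpecialization Z)
    (F : X.Modules) (hH : Coh.IsCoh ((H0 Z).obj F)) (x : X) (hx : x ∈ Z) :
    (2 : ℕ∞) ≤ LocCoh.depth (X.presheaf.stalk x) (((H0 Z).obj F).presheaf.stalk x) :=
  depth_ge_two_of_isZClosedAt ((H0 Z).obj F) Z hZ hH x
    (isZClosedAt_of_isZClosed Z _ (isZClosed_H0 Z F) x) x specializes_rfl hx

end Groth.Agent.Lib.helper2.ZPt
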