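import Mathlib
import Groth.Agent.Lib.Helper2.ZPt6
import Groth.Agent.Lib.Helper2.StalkBij
import Groth.Agent.Lib.Helper26.Depth5
import Groth.Prelude.Def_FDesc

/-!
# Codimension ≥ 2 of points of `Z` in the closures of associated points outside `Z` (helper2)
-/

set_option autoImplicit false
universe u
open CategoryTheory CategoryTheory.Limits AlgebraicGeometry TopologicalSpace Opposite
open Groth.Agent.Lib.helper16.CohFinite Groth.Agent.Lib.helper16.CohStalk
open Groth.Agent.Lib.helper26.Depth

namespace Groth.Agent.Lib.helper2.ZPt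

open ZClos ZClosLib Hartogs

variable {X : Scheme.{u}}

/-- the stalk map as a linear map -/
noncomputable def stalkLin {F G : X.Modules} (φ : F ⟶ G) (x : X) :
    F.presheaf.stalk x →ₗ[X.presheaf.stalk x] G.presheaf.stalk x where
  toFun m := (stalkF X x).map φ m
  map_add' a b := map_add ((stalkF X x).map φ).hom a b
  map_smul' r m := StalkBij.stalk_map_smul φ x r m

/-- an associated point of `F'` gives an associated prime of the stalk at any specialization -/
theorem comap_mem_associatedPrimes_stalk [IsLocallyNoetherian X] (F' : X.Modules)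
    (hF' : Coh.IsCoh F') (x y : X) (h : x ⤳ y) (hx : Curv2.IsAssPoint F' x) :
    (IsLocalRing.maximalIdeal (X.presheaf.stalk x)).comap (X.presheaf.stalkSpecializes h).hom ∈
      associatedPrimes (X.presheaf.stalk y) (F'.presheaf.stalk y) := by
  haveI : F'.IsQuasicoherent := hF'.1
  obtain ⟨V, hV, hyV, -⟩ := exists_isAffineOpen_mem_and_subset (x := y) (U := ⊤) trivial
  have hxV : x ∈ V := h.mem_open V.2 hyV
  haveI : IsNoetherianRing Γ(X, V) := IsLocallyNoetherian.component_noetherian ⟨V, hV⟩
  -- step (a)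
  have ha : (IsLocalRing.maximalIdeal (X.presheaf.stalk x)).comap (X.presheaf.germ V x hxV).hom ∈
      associatedPrimes Γ(X, V) Γ(F', V) := by
    letI := TopCat.Presheaf.algebra_section_stalk X.presheaf (⟨x, hxV⟩ : V)
    letI := modStalk F' x hxV
    haveI := isScalarTower_stalk F' x hxV
    haveI : IsLocalization.AtPrime (X.presheaf.stalk x) (hV.primeIdealOf ⟨x, hxV⟩).asIdeal :=
      hV.isLocalization_stalk ⟨x, hxV⟩
    haveI := isLocalizedModule_stalk F' hV x hxV
    exact Module.associatedPrimes.comap_mem_associatedPrimes_of_mem_associatedPrimes_of_isLocalizedModule_of_fg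
      (hV.primeIdealOf ⟨x, hxV⟩).asIdeal.primeCompl (germLin F' x hxV)
      (IsLocalRing.maximalIdeal (X.presheaf.stalk x)) hx
      ((isNoetherianRing_iff_ideal_fg Γ(X, V)).mp inferInstance _)
  -- step (b)
  letI := TopCat.Presheaf.algebra_section_stalk X.presheaf (⟨y, hyV⟩ : V)
  letI := modStalk F' y hyV
  haveI := isScalarTower_stalk F' y hyV
  haveI : IsLocalization.AtPrime (X.presheaf.stalk y) (hV.primeIdealOf ⟨y, hyV⟩).asIdeal :=
    hV.isLocalization_stalk ⟨y, hyV⟩
  haveI := isLocalizedModule_stalk F' hV y hyV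
  apply Module.associatedPrimes.mem_associatedPrimes_of_comap_mem_associatedPrimes_of_isLocalizedModule
    (hV.primeIdealOf ⟨y, hyV⟩).asIdeal.primeCompl (germLin F' y hyV)
  have e : ((IsLocalRing.maximalIdeal (X.presheaf.stalk x)).comap
      (X.presheaf.stalkSpecializes h).hom).comap (algebraMap Γ(X, V) (X.presheaf.stalk y)) =
      (IsLocalRing.maximalIdeal (X.presheaf.stalk x)).comap (X.presheaf.germ V x hxV).hom := by
    rw [Ideal.comap_comap]
    congr 1
    have := TopCat.Presheaf.germ_stalkSpecializes X.presheaf hyV h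
    exact congrArg CommRingCat.Hom.hom this
  rw [e]
  exact ha

/-- S5858 -/
theorem two_le_dim_quot_of_ass [IsLocallyNoetherian X] (Z : Set X)
    (hZ : StableUnderSpecialization Z) (F : X.Modules)
    (hH : Coh.IsCoh ((H0 Z).obj F))
    (x : X) (hx : x ∈ AssSch.Ass F) (hxZ : x ∉ Z) (y : X) (hy : y ∈ Z) (h : x ⤳ y) :
    (2 : WithBot ℕ∞) ≤ ringKrullDim (X.presheaf.stalk y ⧸
      (IsLocalRing.maximalIdeal (X.presheaf.stalk x)).comap (X.presheaf.stalkSpecializes h).hom) := by
  let F' := (H0 Z).obj F
  have hinj : Function.Injective (stalkLin (rhoApp Z F) x) := (isZClosedAt_of_notMem Z F x hxZ).1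
  have hx' : Curv2.IsAssPoint F' x := IsAssociatedPrime.map_of_injective (f := stalkLin (rhoApp Z F) x) (show IsAssociatedPrime _ (F.presheaf.stalk x) from hx) hinj
  have hass := comap_mem_associatedPrimes_stalk F' hH x y h hx'
  haveI : Module.Finite (X.presheaf.stalk y) (F'.presheaf.stalk y) := finite_stalk_of_isCoh F' hH y
  have h1 := depth_le_ringKrullDim_quotient_of_mem_associatedPrimes (F'.presheaf.stalk y) _ hass
  have h2 := depth_H0_ge_two Z hZ F hH y hy
  refine le_trans ?_ h1
  have h3 : ((2 : ℕ∞) : WithBot ℕ∞) ≤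
      ((LocCoh.depth (X.presheaf.stalk y) (F'.presheaf.stalk y) : ℕ∞) : WithBot ℕ∞) :=
    WithBot.coe_le_coe.mpr h2
  exact h3

end Groth.Agent.Lib.helper2.ZPt
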