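import Mathlib
import Groth.Agent.Lib.Helper2.ZPt8
import Groth.Agent.Lib.Helper7.QCohPushQC

/-!
# Coherence of `j_*(F|_{X∖T})` from coherence of the `Z`-closure (helper2)
-/

set_option autoImplicit false
universe u
open CategoryTheory CategoryTheory.Limits AlgebraicGeometry TopologicalSpace Opposite
open Groth.Agent.Lib.helper16.CohFinite Groth.Agent.Lib.helper16.CohStalk
open Groth.Agent.Lib.helper26.Depth RingTheory.Sequence

namespace Groth.Agent.Lib.helper2.ZPt

open ZClos ZClosLib Hartogs

theorem one_le_depth_of_not_isAssociatedPrime {R : Type u} [CommRing R] [IsNoetherianRing R]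
    [IsLocalRing R] (M : Type u) [AddCommGroup M] [Module R M] [Module.Finite R M]
    (h : ¬ IsAssociatedPrime (IsLocalRing.maximalIdeal R) M) : (1 : ℕ∞) ≤ LocCoh.depth R M := by
  obtain ⟨x, hx, hreg⟩ := PureClosed.exists_isSMulRegular_mem (IsLocalRing.maximalIdeal R) M
    (fun q hq hle => h (by
      have : IsLocalRing.maximalIdeal R = q :=
        (IsLocalRing.maximalIdeal.isMaximal R).eq_of_le hq.isPrime.ne_top hle
      rw [this]; exact hq))
  have h1 := length_le_idealDepth (I := IsLocalRing.maximalIdeal R) (M := M) (rs := [x])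
    ((isWeaklyRegular_singleton_iff M x).mpr hreg) (by simpa using hx)
  have h2 : (1 : ℕ∞) ≤ LocCoh.idealDepth (IsLocalRing.maximalIdeal R) M := by simpa using h1
  exact h2

variable {X : Scheme.{u}} [IsLocallyNoetherian X]

theorem isZPureAt_of_ass_disjoint (Z : Set X) (F : X.Modules) (hF : Coh.IsCoh F)
    (hass : ∀ x ∈ AssSch.Ass F, x ∉ Z) (x : X) : IsZPureAt Z F x := by
  apply isZPureAt_of_depth Z F hF x
  intro x' _ hx'Z
  haveI : Module.Finite (X.presheaf.stalk x') (F.presheaf.stalk x') := finite_stalk_of_isCoh F hF x'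
  exact one_le_depth_of_not_isAssociatedPrime _ (fun h => hass x' h hx'Z)

omit [IsLocallyNoetherian X] in
/-- if `F` is `Z`-pure at all points, restriction to the complement of a closed subset of `Z` is
injective on all opens -/
theorem injective_res_of_forall_isZPureAt (Z : Set X) (F : X.Modules)
    (h : ∀ x, IsZPureAt Z F x) (T : Cl Z) (W : X.Opens) :
    Function.Injective (F.presheaf.map (homOfLE (im_le T.U W)).op) := by
  rw [injective_iff_map_eq_zero]
  intro s hs
  apply section_ext_germ F W s 0
  intro x hx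
  rw [map_zero]
  exact germ_eq_zero_of_isZPureAt Z F x (h x) W hx s T hs

theorem injective_colimit_ι_app (Z : Set X) (F : X.Modules) (h : ∀ x, IsZPureAt Z F x) (T : Cl Z)
    (V : X.affineOpens) :
    Function.Injective ((colimit.ι ((diagram Z).obj F) T).app V.1) := by
  let D := (diagram Z).obj F
  let c := colimit.cocone D
  have hc : IsColimit c := colimit.isColimit D
  rw [injective_iff_map_eq_zero]
  intro s hs
  obtain ⟨T', f, hT'⟩ := SecColim.global_zero D c hc V.1 (isCompact_of_le_affine V V.1 le_rfl) T s hs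
  have hT'' : (((diagram Z).obj F).map f).app V.1 s = 0 := hT'
  rw [diagram_map_app_apply] at hT''
  let s' : Γ(F, im T.U V.1) := s
  have hle : im T'.U (im T.U V.1) ≤ im T'.U V.1 := im_mono le_rfl (im_le _ _)
  have h0 : F.presheaf.map (homOfLE (im_le T'.U (im T.U V.1))).op s' = 0 := by
    have := (congrArg (F.presheaf.map (homOfLE hle).op) hT'').trans (map_zero _)
    exact (ModSec.res_comp F (homOfLE hle) _ (homOfLE (im_le T'.U (im T.U V.1))) s').symm.trans this
  exact injective_res_of_forall_isZPureAt Z F h T' (im T.U V.1) (h0.trans (map_zero _).symm)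

/-- S5867 -/
theorem isCoh_resPush_of_isCoh_H0 (Z : Set X) (F : X.Modules) (hF : Coh.IsCoh F)
    (hass : ∀ x ∈ AssSch.Ass F, x ∉ Z) (hH : Coh.IsCoh ((H0 Z).obj F)) (T : Cl Z) :
    Coh.IsCoh ((resPush T.U).obj F) := by
  haveI : F.IsQuasicoherent := hF.1
  haveI : ((resPush T.U).obj F).IsQuasicoherent :=
    Groth.Agent.Lib.helper7.QCohPushQC.isQuasicoherent_pushforward T.U.ι (F.restrict T.U.ι)
  refine isCoh_of_finite_sections _ (fun U : X.affineOpens => U.1) (fun U => U.2)
    (iSup_affineOpens_eq_top X) (fun V => ?_)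
  haveI : IsNoetherianRing Γ(X, V.1) := IsLocallyNoetherian.component_noetherian V
  haveI : Module.Finite Γ(X, V.1) Γ((H0 Z).obj F, V.1) := finite_sections_of_isCoh _ hH V.2
  haveI : _root_.IsNoetherian Γ(X, V.1) Γ((H0 Z).obj F, V.1) := isNoetherian_of_isNoetherianRing_of_finite _ _
  haveI : _root_.IsNoetherian Γ(X, V.1) Γ(colimit ((diagram Z).obj F), V.1) := this
  exact Module.Finite.of_injective (StalkBij.appLin (colimit.ι ((diagram Z).obj F) T) V.1)
    (injective_colimit_ι_app Z F (isZPureAt_of_ass_disjoint Z F hF hass) T V)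

end Groth.Agent.Lib.helper2.ZPt
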