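import Mathlib
import Groth.Agent.Lib.Helper2.D2Iso2

/-!
# helper2: torsion-free modules on integral schemes have no associated points besides the generic
point (S8891)
-/

set_option autoImplicit false
universe u
open CategoryTheory CategoryTheory.Limits AlgebraicGeometry TopologicalSpace Opposite

namespace Groth.Agent.Lib.helper2.D2Iso

variable {X : Scheme.{u}} [IsIntegral X]

/-- on an integral scheme, a point whose local ring has zero maximal ideal is the generic point -/
theorem eq_genericPoint_of_maximalIdeal_eq_bot (x : X)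
    (hx : IsLocalRing.maximalIdeal (X.presheaf.stalk x) = ⊥) : x = genericPoint X := by
  obtain ⟨V, hV, hxV, -⟩ := exists_isAffineOpen_mem_and_subset (x := x) (U := ⊤) trivial
  haveI : Nonempty V := ⟨⟨x, hxV⟩⟩
  have hgV : genericPoint X ∈ V :=
    ((genericPoint_spec X).mem_open_set_iff V.isOpen).mpr (by simpa using ‹Nonempty V›)
  haveI : IsDomain Γ(X, V) := inferInstance
  have h1 : (hV.primeIdealOf ⟨x, hxV⟩).asIdeal = ⊥ := by
    letI := TopCat.Presheaf.algebra_section_stalk X.presheaf (⟨x, hxV⟩ : V)
    haveI : IsLocalization.AtPrime (X.presheaf.stalk x) (hV.primeIdealOf ⟨x, hxV⟩).asIdeal :=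
      hV.isLocalization_stalk ⟨x, hxV⟩
    have h2 := IsLocalization.AtPrime.under_maximalIdeal (X.presheaf.stalk x)
      (hV.primeIdealOf ⟨x, hxV⟩).asIdeal
    rw [← h2, hx]
    rw [eq_bot_iff]
    intro a ha
    have ha' : (X.presheaf.germ V x hxV).hom a = 0 := ha
    have := germ_injective_of_isIntegral X x hxV (ha'.trans (map_zero _).symm)
    exact this
  have h3 : hV.primeIdealOf ⟨x, hxV⟩ = hV.primeIdealOf ⟨genericPoint X, hgV⟩ := by
    rw [hV.primeIdealOf_genericPoint, genericPoint_eq_bot_of_affine]
    exact PrimeSpectrum.ext h1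
  have h4 := congrArg (fun q => hV.fromSpec q) h3
  simp only [hV.fromSpec_primeIdealOf] at h4
  exact h4

/-- torsion-free stalks have no associated primes except possibly at the generic point -/
theorem not_isAssPoint_of_noZeroSMulDivisors (G : X.Modules) (x : X)
    [NoZeroSMulDivisors (X.presheaf.stalk x) (G.presheaf.stalk x)] (hx : x ≠ genericPoint X) :
    ¬ Curv2.IsAssPoint G x := by
  intro h
  obtain ⟨hprime, g, hg⟩ := h
  apply hx
  apply eq_genericPoint_of_maximalIdeal_eq_bot
  by_cases hg0 : g = 0
  · exfalso
    have : Submodule.colon (⊥ : Submodule (X.presheaf.stalk x) (G.presheaf.stalk x)) {g} = ⊤ := by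
      rw [eq_top_iff]
      intro r _
      rw [Submodule.mem_colon_singleton, hg0, smul_zero]
      exact Submodule.zero_mem _
    rw [this, Ideal.radical_top] at hg
    exact hprime.ne_top hg
  · have : Submodule.colon (⊥ : Submodule (X.presheaf.stalk x) (G.presheaf.stalk x)) {g} = ⊥ := by
      rw [eq_bot_iff]
      intro r hr
      rw [Submodule.mem_colon_singleton, Submodule.mem_bot] at hr
      rcases smul_eq_zero.1 hr with h0 | h0
      · exact h0
      · exact absurd h0 hg0
    rw [this] at hg
    rw [hg]
    haveI : IsDomain (X.presheaf.stalk x) := inferInstance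
    exact (Ideal.radical_eq_iff.2 (Ideal.isPrime_bot (α := X.presheaf.stalk x)).isRadical)

end Groth.Agent.Lib.helper2.D2Iso
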