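import Groth.Agent.Lib.Helper2.IM2
import Groth.Agent.Lib.Helper7.TorAPI3

/-!
# helper2: symmetry of `Tor` on modules and of the Tor Euler characteristic
-/

universe u

open CategoryTheory Category Limits MonoidalCategory TensorProduct

namespace Groth.Agent.Lib.helper2.IM

open Groth.Agent.Lib.helper7.TorAPI

variable {A : Type u} [CommRing A]

theorem nonempty_tor_symm (M N : ModuleCat.{u} A) (n : ℕ) :
    Nonempty ((T n M).obj N ≅ (T n N).obj M) := by
  obtain ⟨e⟩ := nonempty_iso_leftDerived_tensorRight M N n
  have e2 : (tensorRight N).leftDerived n ≅ (tensorLeft N).leftDerived n :=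
    ⟨NatTrans.leftDerived (BraidedCategory.tensorLeftIsoTensorRight N).inv n,
      NatTrans.leftDerived (BraidedCategory.tensorLeftIsoTensorRight N).hom n,
      by rw [← NatTrans.leftDerived_comp, Iso.inv_hom_id, NatTrans.leftDerived_id],
      by rw [← NatTrans.leftDerived_comp, Iso.hom_inv_id, NatTrans.leftDerived_id]⟩
  exact ⟨e ≪≫ e2.app M⟩

theorem length_tor_symm (M N : Type u) [AddCommGroup M] [Module A M] [AddCommGroup N]
    [Module A N] (n : ℕ) :
    Module.length A (DRing.Tor A n M N) = Module.length A (DRing.Tor A n N M) := by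
  obtain ⟨e⟩ := nonempty_tor_symm (ModuleCat.of A M) (ModuleCat.of A N) n
  exact e.toLinearEquiv.length_eq

theorem chi_symm (M N : Type u) [AddCommGroup M] [Module A M] [AddCommGroup N]
    [Module A N] : IntMult.chi A M N = IntMult.chi A N M := by
  unfold IntMult.chi
  refine finsum_congr fun i => ?_
  rw [length_tor_symm]

end Groth.Agent.Lib.helper2.IM
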