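import Mathlib
import Groth.Agent.Lib.Helper2.FpColimUH

/-!
# Ring-level seminormalization lemmas (helper2)

`QSN φ`: `Spec φ` is a universal homeomorphism and all residue field maps are surjective.
* `bijective_of_isSeminormalRing`: a `QSN` map from a seminormal ring to a reduced ring is bijective.
* `QSN` respects isomorphisms, is stable under composition and base change.
-/

set_option autoImplicit false
universe u

open CategoryTheory AlgebraicGeometry Limits TensorProduct
open Groth.Agent.Lib.helper2 Groth.Agent.Lib.helper2.UnivHomeoElem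
open Groth.Agent.Lib.helper2.ChainList

namespace Groth.Agent.Lib.helper2.SNRing

open Groth.Agent.S7400 (Step step_mono step_fin)

/-- `Spec φ` is a universal homeomorphism with trivial residue field extensions. -/
def QSN {A B : Type u} [CommRing A] [CommRing B] (φ : A →+* B) : Prop :=
  FlatMor.IsUnivHomeo (Spec.map (CommRingCat.ofHom φ)) ∧ ResSurj φ

section bij

variable {B W : Type u} [CommRing B] [CommRing W]

/-- A universal homeomorphism with trivial residue field extensions from a seminormal ring to a
reduced ring is bijective. -/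
theorem bijective_of_isSeminormalRing (hB : HTop.IsSeminormalRing B) [IsReduced W] (χ : B →+* W)
    (hχ : QSN χ) : Function.Bijective χ := by
  haveI := AWNRing.isReduced_of_isSeminormalRing hB
  have hinj := AWNRing.injective_of_isUnivHomeo_of_isReduced χ hχ.1
  refine ⟨hinj, ?_⟩
  letI : Algebra B W := χ.toAlgebra
  have hchain := (Groth.Agent.S7400.result' (A := B) (B := W) hinj).1
    ⟨hχ.1, PolyQuotUH.residueFieldMap_surjective_of _ hχ.2⟩
  simp only [← Groth.Agent.S7400.good_iff] at hchain
  have hbot : ∀ w : W, w ∈ (⊥ : Subalgebra B W) ↔ ∃ b : B, χ b = w := by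
    intro w
    rw [Algebra.mem_bot]
    rfl
  intro w
  refine (hbot w).1 (Groth.Agent.S7400.mem_of_chain hchain ⊥ ?_ w)
  intro S' b hS' hstep
  rw [hbot]
  obtain ⟨h2, h3⟩ := hstep
  obtain ⟨x, hx⟩ := (hbot _).1 (hS' h2)
  obtain ⟨y, hy⟩ := (hbot _).1 (hS' h3)
  have hxy : x ^ 3 = y ^ 2 := by
    apply hinj
    rw [map_pow, map_pow, hx, hy]
    ring
  obtain ⟨a, ⟨ha2, ha3⟩, -⟩ := hB x y hxy
  refine ⟨a, AWNRing.eq_of_sq_cube_reduced _ _ ?_ ?_⟩
  · rw [← map_pow, ← ha2, hx]
  · rw [← map_pow, ← ha3, hy]

end bij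

section props

variable {A B C : Type u} [CommRing A] [CommRing B] [CommRing C]

theorem QSN.comp (ψ : A →+* B) (χ : B →+* C) (h1 : QSN ψ) (h2 : QSN χ) : QSN (χ.comp ψ) :=
  ⟨AWNRing.isUnivHomeo_comp_Spec ψ χ h1.1 h2.1, FpColimUH.resSurj_comp ψ χ h1.2 h2.2⟩

theorem QSN.of_ringEquiv (e : A ≃+* B) : QSN (e : A →+* B) :=
  ⟨AWNRing.isUnivHomeo_ringEquiv e, FpColimUH.resSurj_of_surjective _ e.surjective⟩

theorem QSN.respectsIso : RingHom.RespectsIso (@QSN) := by
  constructor
  · intro R S T _ _ _ f e hf
    exact QSN.comp f _ hf (QSN.of_ringEquiv e)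
  · intro R S T _ _ _ f e hf
    exact QSN.comp _ f (QSN.of_ringEquiv e) hf

theorem QSN.stableUnderComposition : RingHom.StableUnderComposition (@QSN) := by
  intro R S T _ _ _ f g hf hg
  exact QSN.comp f g hf hg

theorem QSN.containsIdentities : RingHom.ContainsIdentities (@QSN) := by
  intro R _
  exact QSN.of_ringEquiv (RingEquiv.refl R)

end props

section basechange

variable {R S T : Type u} [CommRing R] [CommRing S] [CommRing T] [Algebra R S] [Algebra R T]

/-- chains over `R` are chains over any `R`-algebra `S` acting compatibly. -/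
theorem goodFrom_restrict {M : Type u} [CommRing M] [Algebra R M] [Algebra S M]
    [IsScalarTower R S M] (X : Set M) (l : List M)
    (h : GoodFrom (A := R) Step X l) : GoodFrom (A := S) Step X l := by
  induction l generalizing X with
  | nil => trivial
  | cons b l ih =>
    simp only [GoodFrom] at h ⊢
    obtain ⟨h0, h1⟩ := h
    refine ⟨?_, ih _ h1⟩
    have hle : Algebra.adjoin R X ≤ (Algebra.adjoin S X).restrictScalars R :=
      Algebra.adjoin_le (by intro x hx; exact Algebra.subset_adjoin hx)
    exact ⟨hle h0.1, hle h0.2⟩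

theorem goodUnion_restrict {M : Type u} [CommRing M] [Algebra R M] [Algebra S M]
    [IsScalarTower R S M] (m : M) (h : m ∈ goodUnion (A := R) Step) :
    m ∈ goodUnion (A := S) Step := by
  obtain ⟨l, hl, hm⟩ := h
  refine ⟨l, goodFrom_restrict _ l hl, ?_⟩
  have hle : Algebra.adjoin R {x | x ∈ l} ≤ (Algebra.adjoin S {x | x ∈ l}).restrictScalars R :=
    Algebra.adjoin_le (by intro x hx; exact Algebra.subset_adjoin hx)
  exact hle hm

theorem QSN.tensor (h : QSN (algebraMap R T)) : QSN (algebraMap S (S ⊗[R] T)) := by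
  have hU : FlatMor.IsUnivHomeo (Spec.map (CommRingCat.ofHom (algebraMap S (S ⊗[R] T)))) :=
    FpColimUH.isUnivHomeo_includeLeft h.1
  have hker := FiltColimUH.ker_le_of_isUnivHomeo _ hU
  have hP : FpColimUH.PUHRes R T := FpColimUH.pUHRes_iff.2 h
  have hall : ∀ t : S ⊗[R] T, t ∈ goodSub (A := S) Step step_mono := by
    intro t
    induction t using TensorProduct.induction_on with
    | zero => exact Subalgebra.zero_mem _
    | tmul s t =>
      have e : s ⊗ₜ[R] t = s • ((Algebra.TensorProduct.includeRight : T →ₐ[R] S ⊗[R] T) t) := by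
        simp [TensorProduct.smul_tmul']
      rw [e]
      refine Subalgebra.smul_mem _ ?_ s
      exact goodUnion_restrict _
        (FpColimUH.map_mem_goodUnion _ t (FpColimUH.mem_goodUnion_of_pUHRes hP t))
    | add x y hx hy => exact Subalgebra.add_mem _ hx hy
  have h2 := (Groth.Agent.S7428.gen7400 hker).2 (by
    intro E
    obtain ⟨l, hl, hEl⟩ := exists_list_of_finset (A := S) Step step_mono E (fun x _ => hall x)
    exact ⟨l, hEl, hl⟩)
  exact FpColimUH.pUHRes_iff.1 h2

theorem QSN.isStableUnderBaseChange : RingHom.IsStableUnderBaseChange (@QSN) :=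
  RingHom.IsStableUnderBaseChange.mk QSN.respectsIso (fun _ _ _ _ _ _ _ _ h => QSN.tensor h)

end basechange

end Groth.Agent.Lib.helper2.SNRing
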