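import Mathlib
import Groth.Agent.Lib.Helper2.SNRing
import Groth.Agent.Lib.Helper2.AWNSchemeProps
import Groth.Agent.S4368

/-!
# Seminormal schemes and seminormalizations (helper2)

* `ResidueFieldsIso`: composition, cancellation, open immersions, Zariski-local at the target.
* `SNMor := UH ⊓ ResidueFieldsIso` has the affine property `affineAnd QSN`; stable under base change.
* `isIso_of_isSeminormal`: a `SNMor` from a reduced scheme to a seminormal scheme is an isomorphism.
-/

set_option autoImplicit false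
universe u

open AlgebraicGeometry CategoryTheory Limits MorphismProperty

namespace Groth.Agent.Lib.helper2.SNScheme

open Groth.Agent.Lib.helper2 Groth.Agent.Lib.helper2.AWNRing Groth.Agent.Lib.helper2.AWNScheme
open Groth.Agent.Lib.helper2.SNRing Groth.Agent.Lib.helper2.UnivHomeoElem

section resiso

variable {X Y Z : Scheme.{u}}

theorem resIso_comp (f : X ⟶ Y) (g : Y ⟶ Z) (hf : HTop.ResidueFieldsIso f)
    (hg : HTop.ResidueFieldsIso g) : HTop.ResidueFieldsIso (f ≫ g) := by
  intro x
  rw [Scheme.residueFieldMap_comp]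
  exact @IsIso.comp_isIso _ _ _ _ _ (g.residueFieldMap (f x)) (f.residueFieldMap x) (hg (f x))
    (hf x)

theorem resIso_of_isOpenImmersion (f : X ⟶ Y) [IsOpenImmersion f] : HTop.ResidueFieldsIso f :=
  fun _ => inferInstance

theorem resIso_of_comp (f : X ⟶ Y) (g : Y ⟶ Z) (hfg : HTop.ResidueFieldsIso (f ≫ g))
    (hg : HTop.ResidueFieldsIso g) : HTop.ResidueFieldsIso f := by
  intro x
  have h1 := hfg x
  rw [Scheme.residueFieldMap_comp] at h1
  exact @IsIso.of_isIso_comp_left _ _ _ _ _ (g.residueFieldMap (f x)) (f.residueFieldMap x)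
    (hg (f x)) h1

theorem resIso_of_comp_left (f : X ⟶ Y) (g : Y ⟶ Z) (hfg : HTop.ResidueFieldsIso (f ≫ g))
    (hf : HTop.ResidueFieldsIso f) (hs : Function.Surjective f) : HTop.ResidueFieldsIso g := by
  intro y
  obtain ⟨x, rfl⟩ := hs y
  have h1 := hfg x
  rw [Scheme.residueFieldMap_comp] at h1
  exact @IsIso.of_isIso_comp_right _ _ _ _ _ (g.residueFieldMap (f x)) (f.residueFieldMap x)
    (hf x) h1

/-- the morphism property "isomorphisms on all residue fields". -/
def resIso : MorphismProperty Scheme.{u} := fun _ _ f => HTop.ResidueFieldsIso f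

instance : (resIso : MorphismProperty Scheme.{u}).IsStableUnderComposition where
  comp_mem f g hf hg := resIso_comp f g hf hg

instance : (resIso : MorphismProperty Scheme.{u}).ContainsIdentities where
  id_mem X := resIso_of_isOpenImmersion (𝟙 X)

instance : (resIso : MorphismProperty Scheme.{u}).IsMultiplicative where

instance : (resIso : MorphismProperty Scheme.{u}).RespectsIso :=
  MorphismProperty.respectsIso_of_isStableUnderComposition (fun _ _ f (_ : IsIso f) =>
    resIso_of_isOpenImmersion f)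

theorem resIso_restrict (f : X ⟶ Y) (U : Y.Opens) (hf : HTop.ResidueFieldsIso f) :
    HTop.ResidueFieldsIso (f ∣_ U) := by
  refine resIso_of_comp (f ∣_ U) U.ι ?_ (resIso_of_isOpenImmersion _)
  rw [morphismRestrict_ι]
  exact resIso_comp _ _ (resIso_of_isOpenImmersion _) hf

instance : IsZariskiLocalAtTarget (resIso : MorphismProperty Scheme.{u}) := by
  apply IsZariskiLocalAtTarget.mk'
  · intro X Y f U hf
    exact resIso_restrict f U hf
  · intro X Y f ι U hU H x
    have hx : f x ∈ (⊤ : Y.Opens) := trivial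
    rw [← hU, TopologicalSpace.Opens.mem_iSup] at hx
    obtain ⟨i, hi⟩ := hx
    have h1 : HTop.ResidueFieldsIso ((f ⁻¹ᵁ U i).ι ≫ f) := by
      rw [← morphismRestrict_ι]
      exact resIso_comp _ _ (H i) (resIso_of_isOpenImmersion _)
    have h2 := h1 ⟨x, hi⟩
    rw [Scheme.residueFieldMap_comp] at h2
    exact @IsIso.of_isIso_comp_right _ _ _ _ _ (f.residueFieldMap ((f ⁻¹ᵁ U i).ι ⟨x, hi⟩))
      ((f ⁻¹ᵁ U i).ι.residueFieldMap ⟨x, hi⟩) inferInstance h2

end resiso

/-- universal homeomorphisms inducing isomorphisms on all residue fields. -/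
def SNMor : MorphismProperty Scheme.{u} := FlatMor.IsUnivHomeo ⊓ resIso

theorem snMor_iff {X Y : Scheme.{u}} (f : X ⟶ Y) :
    SNMor f ↔ FlatMor.IsUnivHomeo f ∧ HTop.ResidueFieldsIso f := Iff.rfl

instance : IsZariskiLocalAtTarget (SNMor : MorphismProperty Scheme.{u}) := by
  unfold SNMor
  infer_instance

instance : (SNMor : MorphismProperty Scheme.{u}).IsMultiplicative := by
  unfold SNMor
  infer_instance

theorem snMor_Spec_iff {A B : Type u} [CommRing A] [CommRing B] (φ : A →+* B) :
    SNMor (Spec.map (CommRingCat.ofHom φ)) ↔ QSN φ := by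
  rw [snMor_iff, SpecResidue.residueFieldsIso_Spec_iff]
  constructor
  · rintro ⟨h1, h2⟩
    exact ⟨h1, fun Q => (h2 Q).2⟩
  · rintro ⟨h1, h2⟩
    exact ⟨h1, fun Q => ⟨RingHom.injective _, h2 Q⟩⟩

theorem snMor_iff_of_isAffine {X Y : Scheme.{u}} [IsAffine Y] (f : X ⟶ Y) :
    SNMor f ↔ IsAffine X ∧ QSN f.appTop.hom := by
  constructor
  · intro h
    haveI : IsAffineHom f := isAffineHom_of_isUnivHomeo f h.1
    haveI : IsAffine X := isAffine_of_isAffineHom f
    refine ⟨inferInstance, ?_⟩
    have h1 : SNMor (Spec.map f.appTop) :=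
      (MorphismProperty.arrow_mk_iso_iff _ (arrowIsoSpecΓOfIsAffine f)).1 h
    exact (snMor_Spec_iff f.appTop.hom).1 h1
  · rintro ⟨hX, h⟩
    have h1 : SNMor (Spec.map f.appTop) := (snMor_Spec_iff f.appTop.hom).2 h
    exact (MorphismProperty.arrow_mk_iso_iff _ (arrowIsoSpecΓOfIsAffine f)).2 h1

instance : HasAffineProperty (SNMor : MorphismProperty Scheme.{u}) (affineAnd @QSN) := by
  rw [HasAffineProperty.iff]
  refine ⟨inferInstance, ?_⟩
  ext X Y f _
  exact (snMor_iff_of_isAffine f).symm

instance : (SNMor : MorphismProperty Scheme.{u}).IsStableUnderBaseChange :=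
  HasAffineProperty.affineAnd_isStableUnderBaseChange inferInstance QSN.respectsIso
    QSN.isStableUnderBaseChange


section seminormal

theorem isSeminormalRing_of_ringEquiv {B W : Type u} [CommRing B] [CommRing W] (e : B ≃+* W)
    (hW : HTop.IsSeminormalRing W) : HTop.IsSeminormalRing B := by
  intro x y hxy
  obtain ⟨a, ⟨ha2, ha3⟩, hau⟩ := hW (e x) (e y) (by rw [← map_pow, ← map_pow, hxy])
  refine ⟨e.symm a, ⟨?_, ?_⟩, ?_⟩
  · apply e.injective
    rw [map_pow, e.apply_symm_apply]
    exact ha2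
  · apply e.injective
    rw [map_pow, e.apply_symm_apply]
    exact ha3
  · rintro b ⟨hb2, hb3⟩
    have := hau (e b) ⟨by rw [← map_pow, ← hb2], by rw [← map_pow, ← hb3]⟩
    rw [← this, e.symm_apply_apply]

theorem isSeminormalRing_of_iso {R S : CommRingCat.{u}} (e : R ≅ S) (h : HTop.IsSeminormalRing S) :
    HTop.IsSeminormalRing R :=
  isSeminormalRing_of_ringEquiv e.commRingCatIsoToRingEquiv h

theorem isSeminormal_Spec (W : CommRingCat.{u}) (h : HTop.IsSeminormalRing W) :
    HTop.IsSeminormal (Spec W) := by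
  intro x
  refine ⟨⟨⊤, isAffineOpen_top _⟩, trivial, ?_⟩
  exact isSeminormalRing_of_iso (Scheme.ΓSpecIso W) h

theorem isSeminormal_of_openCover {Y : Scheme.{u}} (𝒰 : Y.OpenCover)
    (h : ∀ i, HTop.IsSeminormal (𝒰.X i)) : HTop.IsSeminormal Y := by
  intro y
  obtain ⟨i, x, rfl⟩ := 𝒰.exists_eq y
  obtain ⟨U, hxU, hU⟩ := h i x
  refine ⟨⟨(𝒰.f i) ''ᵁ U.1, U.2.image_of_isOpenImmersion (𝒰.f i)⟩, ⟨x, hxU, rfl⟩, ?_⟩
  exact isSeminormalRing_of_iso ((𝒰.f i).appIso U.1) hU

theorem isSeminormal_of_isOpenImmersion {Y Z : Scheme.{u}} (f : Y ⟶ Z) [IsOpenImmersion f]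
    (h : HTop.IsSeminormal Z) : HTop.IsSeminormal Y := by
  intro y
  obtain ⟨_, ⟨V, hV, rfl⟩, hyV, -⟩ :=
    Y.isBasis_affineOpens.exists_subset_of_mem_open (Set.mem_univ y) isOpen_univ
  refine ⟨⟨V, hV⟩, hyV, ?_⟩
  have h1 := ((Groth.Agent.S7420.result Z).1.1 h) ⟨f ''ᵁ V, hV.image_of_isOpenImmersion f⟩
  exact isSeminormalRing_of_iso (f.appIso V).symm h1

theorem isReduced_of_isSeminormal {Y : Scheme.{u}} (h : HTop.IsSeminormal Y) :
    AlgebraicGeometry.IsReduced Y :=
  Groth.Agent.S7421.result.2 Y h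

/-- A universal homeomorphism with trivial residue field extensions from a reduced scheme onto an
affine scheme with seminormal coordinate ring is an isomorphism. -/
theorem isIso_of_isSeminormalRing_of_isAffine {Y Z : Scheme.{u}} [IsAffine Y] (ψ : Z ⟶ Y)
    (hY : HTop.IsSeminormalRing Γ(Y, ⊤)) (hψ : SNMor ψ) [AlgebraicGeometry.IsReduced Z] :
    IsIso ψ := by
  obtain ⟨hZ, hQ⟩ := (snMor_iff_of_isAffine ψ).1 hψ
  have h2 : Function.Bijective ψ.appTop.hom := bijective_of_isSeminormalRing hY ψ.appTop.hom hQ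
  have h3 : IsIso ψ.appTop := by
    rw [ConcreteCategory.isIso_iff_bijective]
    exact h2
  have h4 : IsIso (Spec.map ψ.appTop) := inferInstance
  exact ((MorphismProperty.isomorphisms Scheme).arrow_mk_iso_iff (arrowIsoSpecΓOfIsAffine ψ)).2 h4

/-- A universal homeomorphism with trivial residue field extensions from a reduced scheme to a
seminormal scheme is an isomorphism. -/
theorem isIso_of_isSeminormal {Y Z : Scheme.{u}} (ψ : Z ⟶ Y) (hY : HTop.IsSeminormal Y)
    (hψ : SNMor ψ) [AlgebraicGeometry.IsReduced Z] : IsIso ψ := by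
  have hall := (Groth.Agent.S7420.result Y).1.1 hY
  refine IsZariskiLocalAtTarget.of_iSup_eq_top (P := MorphismProperty.isomorphisms Scheme)
    (fun U : Y.affineOpens => U.1) (iSup_affineOpens_eq_top Y) ?_
  intro U
  haveI : IsAffine (U.1 : Scheme) := U.2
  have h1 : SNMor (ψ ∣_ U.1) := IsZariskiLocalAtTarget.restrict hψ U.1
  have h2 : HTop.IsSeminormalRing Γ((U.1 : Scheme), ⊤) :=
    isSeminormalRing_of_iso (Scheme.Opens.topIso U.1) (hall U)
  exact isIso_of_isSeminormalRing_of_isAffine (ψ ∣_ U.1) h2 h1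

end seminormal

section closedimm

theorem resIso_of_isClosedImmersion {X Y : Scheme.{u}} (f : X ⟶ Y) [IsClosedImmersion f] :
    HTop.ResidueFieldsIso f := by
  intro x
  rw [ConcreteCategory.isIso_iff_bijective]
  refine ⟨RingHom.injective (f.residueFieldMap x).hom, ?_⟩
  intro z
  obtain ⟨s, rfl⟩ := X.residue_surjective x z
  obtain ⟨t, rfl⟩ := f.stalkMap_surjective x s
  refine ⟨Y.residue (f x) t, ?_⟩
  have := congrArg (fun φ => φ.hom t) (Scheme.residue_residueFieldMap f x)
  exact this

theorem snMor_of_isClosedImmersion_of_surjective {X Y : Scheme.{u}} (f : X ⟶ Y)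
    [IsClosedImmersion f] [Surjective f] : SNMor f := by
  haveI : UniversallyInjective f := inferInstance
  exact ⟨SpecResidue.isUnivHomeo_of_integral f, resIso_of_isClosedImmersion f⟩

end closedimm


section reduction

/-- the reduction of a scheme. -/
noncomputable abbrev red (X : Scheme.{u}) : Scheme.{u} := X.nilradical.subscheme

/-- the closed immersion of the reduction. -/
noncomputable abbrev redι (X : Scheme.{u}) : red X ⟶ X := X.nilradical.subschemeι

instance (X : Scheme.{u}) : Surjective (redι X) := by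
  constructor
  rw [← Set.range_eq_univ, Scheme.IdealSheafData.range_subschemeι, Scheme.support_nilradical]
  rfl

instance (X : Scheme.{u}) : AlgebraicGeometry.IsReduced (red X) :=
  (Groth.Agent.S4368.result X X.nilradical (Scheme.support_nilradical X)).2 rfl

theorem snMor_redι (X : Scheme.{u}) : SNMor (redι X) :=
  snMor_of_isClosedImmersion_of_surjective (redι X)

/-- a `SNMor` to a seminormal scheme has a section. -/
theorem exists_section_of_isSeminormal {Y Z : Scheme.{u}} (ψ : Z ⟶ Y) (hY : HTop.IsSeminormal Y)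
    (hψ : SNMor ψ) : ∃ s : Y ⟶ Z, s ≫ ψ = 𝟙 Y := by
  have h1 : SNMor (redι Z ≫ ψ) := MorphismProperty.comp_mem _ _ _ (snMor_redι Z) hψ
  haveI : IsIso (redι Z ≫ ψ) := isIso_of_isSeminormal _ hY h1
  exact ⟨inv (redι Z ≫ ψ) ≫ redι Z, by rw [Category.assoc, IsIso.inv_hom_id]⟩

end reduction


section universal

theorem hom_ext_of_isUnivHomeo {W Y U : Scheme.{u}} [AlgebraicGeometry.IsReduced W] (π : Y ⟶ U)
    (hπ : FlatMor.IsUnivHomeo π) (h₁ h₂ : W ⟶ Y) (h : h₁ ≫ π = h₂ ≫ π) : h₁ = h₂ := by
  haveI : IsAffineHom π := isAffineHom_of_isUnivHomeo π hπ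
  haveI : UniversallyInjective π := SpecResidue.universallyInjective_of_isUnivHomeo π hπ
  have hK := ((tfae_universallyInjective π).out 0 1).1 ‹_›
  refine ext_of_fromSpecResidueField_eq h₁ h₂ π Set.univ dense_univ (fun x _ => ?_) h
  apply hK (W.residueField x)
  simp only [Category.assoc, h]

/-- a universal homeomorphism with trivial residue field extensions whose source is seminormal is
a seminormalization. -/
theorem isSeminormalization_of_isSeminormal {W U : Scheme.{u}} (f : W ⟶ U)
    (hW : HTop.IsSeminormal W) (hf : SNMor f) : HTop.IsSeminormalization f := by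
  refine ⟨hf, ?_⟩
  intro Y π hπ1 hπ2
  haveI := isReduced_of_isSeminormal hW
  have hπ : SNMor π := ⟨hπ1, hπ2⟩
  have hp : SNMor (pullback.snd π f) := MorphismProperty.pullback_snd _ _ hπ
  obtain ⟨s, hs⟩ := exists_section_of_isSeminormal _ hW hp
  have e : (s ≫ pullback.fst π f) ≫ π = f := by
    rw [Category.assoc, pullback.condition, ← Category.assoc, hs, Category.id_comp]
  refine ⟨s ≫ pullback.fst π f, e, ?_⟩
  intro h' hh'
  apply hom_ext_of_isUnivHomeo π hπ1
  rw [hh', e]

/-- a morphism from a seminormal scheme lifts uniquely along a universal homeomorphism with trivial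
residue field extensions. -/
theorem existsUnique_lift_of_isSeminormal {W U Y : Scheme.{u}} (f : W ⟶ U)
    (hW : HTop.IsSeminormal W) (π : Y ⟶ U) (hπ : SNMor π) : ∃! h : W ⟶ Y, h ≫ π = f := by
  haveI := isReduced_of_isSeminormal hW
  have hp : SNMor (pullback.snd π f) := MorphismProperty.pullback_snd _ _ hπ
  obtain ⟨s, hs⟩ := exists_section_of_isSeminormal _ hW hp
  have e : (s ≫ pullback.fst π f) ≫ π = f := by
    rw [Category.assoc, pullback.condition, ← Category.assoc, hs, Category.id_comp]
  refine ⟨s ≫ pullback.fst π f, e, ?_⟩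
  intro h' hh'
  apply hom_ext_of_isUnivHomeo π hπ.1
  rw [hh', e]

end universal

end Groth.Agent.Lib.helper2.SNScheme
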