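import Mathlib
import Groth.Agent.Lib.Helper2.SNScheme

/-!
# Descending sections along proper surjective morphisms to seminormal schemes (helper2)
-/

set_option autoImplicit false
universe u

open AlgebraicGeometry CategoryTheory Limits TensorProduct

namespace Groth.Agent.Lib.helper2.DescSection

open Groth.Agent.Lib.helper2 Groth.Agent.Lib.helper2.SNRing Groth.Agent.Lib.helper2.UnivHomeoElem

section ring

/-- an element of a field extension whose two images in the tensor square agree lies in the base. -/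
theorem mem_range_of_tmul_eq {k L : Type u} [Field k] [Field L] [Algebra k L] (a : L)
    (h : (a ⊗ₜ[k] (1 : L)) = (1 : L) ⊗ₜ[k] a) : a ∈ Set.range (algebraMap k L) := by
  by_contra hne
  set p : Submodule k L := LinearMap.range (Algebra.linearMap k L) with hp
  have hx : a ∉ p := by
    rintro ⟨c, hc⟩
    exact hne ⟨c, hc⟩
  obtain ⟨f, hfa, hfp⟩ := Submodule.exists_dual_map_eq_bot_of_notMem hx inferInstance
  have h1 : f 1 = 0 := by
    have : f 1 ∈ p.map f := ⟨1, ⟨1, by simp⟩, rfl⟩
    rw [hfp] at this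
    exact this
  have h2 := congrArg (fun t => TensorProduct.lid k L (LinearMap.rTensor L f t)) h
  simp only [LinearMap.rTensor_tmul, TensorProduct.lid_tmul, h1, zero_smul] at h2
  apply hfa
  have h3 : (f a) • (1 : L) = 0 := h2
  rw [Algebra.smul_def, mul_one] at h3
  exact (map_eq_zero_iff _ (algebraMap k L).injective).1 h3

variable {A A' : Type u} [CommRing A] [CommRing A']

/-- pointwise criterion for `QSN`. -/
theorem qsn_of_pointwise (ψ : A →+* A') (hint : ψ.IsIntegral)
    (hker : RingHom.ker ψ ≤ nilradical A)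
    (hInj : ∀ q₁ q₂ : PrimeSpectrum A',
      PrimeSpectrum.comap ψ q₁ = PrimeSpectrum.comap ψ q₂ → q₁ = q₂)
    (hRes : ∀ (q : PrimeSpectrum A') (a' : A'), ∃ a d : A,
      d ∉ (PrimeSpectrum.comap ψ q).asIdeal ∧ ψ d * a' - ψ a ∈ q.asIdeal) :
    QSN ψ := by
  refine ⟨SpecResidue.isUnivHomeo_Spec_of ψ hint
    (FiltColimUH.comap_surjective_of_integral_of_ker ψ hint hker) ?_, ?_⟩
  · intro K _ φ₁ φ₂ h
    set q₁ : PrimeSpectrum A' := ⟨RingHom.ker φ₁, RingHom.ker_isPrime _⟩ with hq₁
    set q₂ : PrimeSpectrum A' := ⟨RingHom.ker φ₂, RingHom.ker_isPrime _⟩ with hq₂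
    have hA : ∀ a : A, φ₁ (ψ a) = φ₂ (ψ a) := fun a => congrArg (fun f => f a) h
    have h12 : q₁ = q₂ := by
      apply hInj
      ext a
      show ψ a ∈ RingHom.ker φ₁ ↔ ψ a ∈ RingHom.ker φ₂
      rw [RingHom.mem_ker, RingHom.mem_ker, hA]
    ext a'
    obtain ⟨a, d, hd, hmem⟩ := hRes q₁ a'
    have hd1 : φ₁ (ψ d) ≠ 0 := fun h0 => hd (show ψ d ∈ RingHom.ker φ₁ from h0)
    have e1 : φ₁ (ψ d) * φ₁ a' = φ₁ (ψ a) := by
      have : ψ d * a' - ψ a ∈ RingHom.ker φ₁ := hmem
      rw [RingHom.mem_ker, map_sub, map_mul, sub_eq_zero] at this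
      exact this
    have e2 : φ₂ (ψ d) * φ₂ a' = φ₂ (ψ a) := by
      have : ψ d * a' - ψ a ∈ RingHom.ker φ₂ := by
        have h3 : ψ d * a' - ψ a ∈ q₂.asIdeal := h12 ▸ hmem
        exact h3
      rw [RingHom.mem_ker, map_sub, map_mul, sub_eq_zero] at this
      exact this
    rw [← hA, ← hA] at e2
    exact mul_left_cancel₀ hd1 (e1.trans e2.symm)
  · intro Q z
    obtain ⟨a', s', hs', hz⟩ := exists_frac Q.asIdeal z
    obtain ⟨a₁, d₁, hd₁, h₁⟩ := hRes Q a'
    obtain ⟨a₂, d₂, hd₂, h₂⟩ := hRes Q s'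
    set alg' := algebraMap A' Q.asIdeal.ResidueField with halg'
    set p := (PrimeSpectrum.comap ψ Q).asIdeal with hp
    set alg := algebraMap A p.ResidueField with halg
    set m := Ideal.ResidueField.map p Q.asIdeal ψ rfl with hm
    have hm_alg : ∀ a : A, m (alg a) = alg' (ψ a) := fun a =>
      Ideal.ResidueField.map_algebraMap p Q.asIdeal ψ rfl a
    have e1 : alg' (ψ d₁) * alg' a' = alg' (ψ a₁) := by
      have := (Ideal.algebraMap_residueField_eq_zero (I := Q.asIdeal)).2 h₁
      rw [map_sub, map_mul, sub_eq_zero] at this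
      exact this
    have e2 : alg' (ψ d₂) * alg' s' = alg' (ψ a₂) := by
      have := (Ideal.algebraMap_residueField_eq_zero (I := Q.asIdeal)).2 h₂
      rw [map_sub, map_mul, sub_eq_zero] at this
      exact this
    have n1 : alg' (ψ d₁) ≠ 0 := fun h0 =>
      hd₁ ((Ideal.algebraMap_residueField_eq_zero (I := Q.asIdeal)).1 h0)
    have n2 : alg' (ψ d₂) ≠ 0 := fun h0 =>
      hd₂ ((Ideal.algebraMap_residueField_eq_zero (I := Q.asIdeal)).1 h0)
    have n3 : alg' s' ≠ 0 := fun h0 =>
      hs' ((Ideal.algebraMap_residueField_eq_zero (I := Q.asIdeal)).1 h0)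
    have n4 : alg' (ψ a₂) ≠ 0 := by
      rw [← e2]
      exact mul_ne_zero n2 n3
    refine ⟨(alg a₁ * alg d₂) / (alg d₁ * alg a₂), ?_⟩
    rw [map_div₀, map_mul, map_mul, hm_alg, hm_alg, hm_alg, hm_alg]
    rw [div_eq_iff (mul_ne_zero n1 n4)]
    have hz' : z = alg' a' / alg' s' := by
      rw [eq_div_iff n3]
      exact hz
    rw [hz', ← e1, ← e2]
    field_simp

end ring

section eval

theorem fromSpecResidueField_appTop {Y : Scheme.{u}} (y : Y) :
    (Y.fromSpecResidueField y).appTop ≫ (Scheme.ΓSpecIso (Y.residueField y)).hom =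
      Y.Γevaluation y := by
  rw [Scheme.fromSpecResidueField, Scheme.Hom.comp_appTop, Category.assoc,
    Scheme.ΓSpecIso_naturality, Scheme.fromSpecStalk_appTop]
  simp [Scheme.Γevaluation, Scheme.evaluation]

end eval


section geom

variable {X Y : Scheme.{u}} (π : Y ⟶ X)

/-- global sections of `Y` whose two pullbacks to `Y ×_X Y` agree. -/
def IsDesc (b : Γ(Y, ⊤)) : Prop :=
  (pullback.fst π π).appTop b = (pullback.snd π π).appTop b

variable {π}

theorem eval_eq_zero_iff_of_isDesc {b : Γ(Y, ⊤)} (hb : IsDesc π b) (y₁ y₂ : Y)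
    (h : π y₁ = π y₂) : Y.Γevaluation y₁ b = 0 ↔ Y.Γevaluation y₂ b = 0 := by
  obtain ⟨w, rfl, rfl⟩ := Scheme.Pullback.exists_preimage_pullback y₁ y₂ h
  have e1 := Scheme.Γevaluation_naturality_apply (pullback.fst π π) w b
  have e2 := Scheme.Γevaluation_naturality_apply (pullback.snd π π) w b
  have hb' : (pullback.fst π π).appTop b = (pullback.snd π π).appTop b := hb
  rw [hb'] at e1
  have i1 : Function.Injective ((pullback.fst π π).residueFieldMap w).hom := RingHom.injective _
  have i2 : Function.Injective ((pullback.snd π π).residueFieldMap w).hom := RingHom.injective _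
  constructor
  · intro h0
    apply i2
    rw [map_zero]
    refine e2.trans (e1.symm.trans ?_)
    rw [h0, map_zero]
  · intro h0
    apply i1
    rw [map_zero]
    refine e1.trans (e2.symm.trans ?_)
    rw [h0, map_zero]

theorem eval_mem_range_of_isDesc {b : Γ(Y, ⊤)} (hb : IsDesc π b) (y : Y) :
    Y.Γevaluation y b ∈ Set.range (π.residueFieldMap y).hom := by
  letI : Algebra (X.residueField (π y)) (Y.residueField y) := (π.residueFieldMap y).hom.toAlgebra
  set L := Y.residueField y with hL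
  set k := X.residueField (π y) with hk
  let R : CommRingCat.{u} := CommRingCat.of (L ⊗[k] L)
  let i₁ : L ⟶ R := CommRingCat.ofHom
    (Algebra.TensorProduct.includeLeftRingHom : L →+* L ⊗[k] L)
  let i₂ : L ⟶ R := CommRingCat.ofHom
    ((Algebra.TensorProduct.includeRight : L →ₐ[k] L ⊗[k] L) : L →+* L ⊗[k] L)
  have hi : π.residueFieldMap y ≫ i₁ = π.residueFieldMap y ≫ i₂ := by
    ext c
    show ((algebraMap k L c) ⊗ₜ[k] (1 : L) : L ⊗[k] L) = (1 : L) ⊗ₜ[k] (algebraMap k L c)
    rw [Algebra.algebraMap_eq_smul_one, TensorProduct.smul_tmul]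
  let j₁ : Spec R ⟶ Y := Spec.map i₁ ≫ Y.fromSpecResidueField y
  let j₂ : Spec R ⟶ Y := Spec.map i₂ ≫ Y.fromSpecResidueField y
  have hj : j₁ ≫ π = j₂ ≫ π := by
    simp only [j₁, j₂, Category.assoc,
      ← Scheme.Hom.SpecMap_residueFieldMap_fromSpecResidueField]
    rw [← Spec.map_comp_assoc, ← Spec.map_comp_assoc, hi]
  let m : Spec R ⟶ pullback π π := pullback.lift j₁ j₂ hj
  have hb' : (pullback.fst π π).appTop b = (pullback.snd π π).appTop b := hb
  have h1 : j₁.appTop b = j₂.appTop b := by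
    have e1 : j₁ = m ≫ pullback.fst π π := (pullback.lift_fst _ _ _).symm
    have e2 : j₂ = m ≫ pullback.snd π π := (pullback.lift_snd _ _ _).symm
    rw [e1, e2, Scheme.Hom.comp_appTop, Scheme.Hom.comp_appTop]
    show m.appTop ((pullback.fst π π).appTop b) = m.appTop ((pullback.snd π π).appTop b)
    rw [hb']
  have key : ∀ i : L ⟶ R, (Scheme.ΓSpecIso R).hom
      ((Spec.map i ≫ Y.fromSpecResidueField y).appTop b) = i (Y.Γevaluation y b) := by
    intro i
    have e : (Spec.map i ≫ Y.fromSpecResidueField y).appTop ≫ (Scheme.ΓSpecIso R).hom =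
        Y.Γevaluation y ≫ i := by
      rw [Scheme.Hom.comp_appTop, Category.assoc, Scheme.ΓSpecIso_naturality,
        ← Category.assoc, fromSpecResidueField_appTop]
    exact congrArg (fun φ => φ.hom b) e
  have h2 : i₁ (Y.Γevaluation y b) = i₂ (Y.Γevaluation y b) := by
    rw [← key i₁, ← key i₂]
    exact congrArg _ h1
  have h3 : ((Y.Γevaluation y b) ⊗ₜ[k] (1 : L) : L ⊗[k] L) = (1 : L) ⊗ₜ[k] (Y.Γevaluation y b) :=
    h2
  exact mem_range_of_tmul_eq _ h3

/-- a universally closed morphism from a reduced scheme to an affine scheme inducing an injection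
on global sections is surjective. -/
theorem surjective_toSpec_of_isReduced [AlgebraicGeometry.IsReduced Y] {R : CommRingCat.{u}}
    (ι : R ⟶ Γ(Y, ⊤)) (hι : Function.Injective ι.hom)
    (hcl : IsClosedMap (Y.toSpecΓ ≫ Spec.map ι)) :
    Function.Surjective (Y.toSpecΓ ≫ Spec.map ι) := by
  set g := Y.toSpecΓ ≫ Spec.map ι with hg
  by_contra hns
  obtain ⟨q, hq⟩ : ∃ q : Spec R, q ∉ Set.range g := by
    by_contra h
    push Not at h
    exact hns (fun q => h q)
  have hopen : IsOpen (Set.range g)ᶜ := hcl.isClosed_range.isOpen_compl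
  obtain ⟨_, ⟨_, ⟨a, rfl⟩, rfl⟩, hqa, hsub⟩ :=
    PrimeSpectrum.isBasis_basic_opens.exists_subset_of_mem_open hq hopen
  have h1 : Y.basicOpen (ι.hom a) = ⊥ := by
    rw [← Scheme.toSpecΓ_preimage_basicOpen]
    ext y
    simp only [TopologicalSpace.Opens.coe_bot, Set.mem_empty_iff_false, iff_false]
    intro hy
    have h2 : g y ∈ (PrimeSpectrum.basicOpen a : Set (PrimeSpectrum R)) := hy
    exact hsub h2 ⟨y, rfl⟩
  have h2 : ι.hom a = 0 := eq_zero_of_basicOpen_eq_bot _ h1
  have h3 : a = 0 := hι (by rw [h2, map_zero])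
  rw [h3] at hqa
  simp at hqa

theorem mem_asIdeal_toSpec_iff {R : CommRingCat.{u}} (ι : R ⟶ Γ(Y, ⊤)) (y : Y) (a : R) :
    a ∈ ((Y.toSpecΓ ≫ Spec.map ι) y).asIdeal ↔ Y.Γevaluation y (ι.hom a) = 0 := by
  rw [Scheme.Γevaluation, Scheme.evaluation_eq_zero_iff_notMem_basicOpen,
    ← Scheme.toSpecΓ_preimage_basicOpen]
  show a ∈ ((Spec.map ι) (Y.toSpecΓ y)).asIdeal ↔ ¬ (ι.hom a ∉ (Y.toSpecΓ y).asIdeal)
  rw [not_not]
  rfl

end geom


section affine

variable {X Y : Scheme.{u}}

/-- on an affine scheme every element of a residue field is a quotient of values of global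
sections. -/
theorem exists_frac_of_isAffine [IsAffine X] (x : X) (c : X.residueField x) :
    ∃ a d : Γ(X, ⊤), X.Γevaluation x d ≠ 0 ∧ c * X.Γevaluation x d = X.Γevaluation x a := by
  obtain ⟨z, rfl⟩ := X.residue_surjective x c
  have hU : IsAffineOpen (⊤ : X.Opens) := isAffineOpen_top X
  letI := TopCat.Presheaf.algebra_section_stalk X.presheaf (⟨x, trivial⟩ : (⊤ : X.Opens))
  haveI : IsLocalization.AtPrime (X.presheaf.stalk x) (hU.primeIdealOf ⟨x, trivial⟩).asIdeal :=
    hU.isLocalization_stalk ⟨x, trivial⟩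
  obtain ⟨⟨a, d⟩, hzd⟩ := IsLocalization.surj (hU.primeIdealOf ⟨x, trivial⟩).asIdeal.primeCompl z
  have hunit : IsUnit (X.presheaf.germ ⊤ x trivial d.1) :=
    IsLocalization.map_units (X.presheaf.stalk x) d
  refine ⟨a, d.1, ?_, ?_⟩
  · rw [Scheme.Γevaluation, Scheme.evaluation_ne_zero_iff_mem_basicOpen, Scheme.mem_basicOpen_top]
    exact hunit
  · have h1 : z * (X.presheaf.germ ⊤ x trivial).hom d.1 = (X.presheaf.germ ⊤ x trivial).hom a :=
      hzd
    have h2 := congrArg (X.residue x).hom h1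
    rw [map_mul] at h2
    exact h2

/-- descent of sections, affine seminormal target. -/
theorem exists_desc_of_isAffine [IsAffine X] (hA : HTop.IsSeminormalRing Γ(X, ⊤))
    (π : Y ⟶ X) [IsProper π] [Surjective π] [AlgebraicGeometry.IsReduced Y] (s : Γ(Y, ⊤))
    (hs : IsDesc π s) : ∃ t : Γ(X, ⊤), π.appTop t = s := by
  haveI : _root_.IsReduced Γ(X, ⊤) := AWNRing.isReduced_of_isSeminormalRing hA
  haveI : AlgebraicGeometry.IsReduced X := isReduced_of_isAffine_isReduced X
  haveI : IsSchemeTheoreticallyDominant π := .of_isDominant π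
  have hπinj : Function.Injective π.appTop.hom := π.app_injective ⊤
  letI : Algebra Γ(X, ⊤) Γ(Y, ⊤) := π.appTop.hom.toAlgebra
  have hcond : ∀ r : Γ(X, ⊤), (pullback.fst π π).appTop.hom (π.appTop.hom r) =
      (pullback.snd π π).appTop.hom (π.appTop.hom r) := by
    intro r
    have e1 : π.appTop ≫ (pullback.fst π π).appTop = π.appTop ≫ (pullback.snd π π).appTop := by
      rw [← Scheme.Hom.comp_appTop, ← Scheme.Hom.comp_appTop, pullback.condition]
    exact congrArg (fun φ => φ.hom r) e1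
  -- the subalgebra of descending sections
  let E : Subalgebra Γ(X, ⊤) Γ(Y, ⊤) :=
    { carrier := {b | IsDesc π b}
      mul_mem' := by
        intro a b ha hb
        show (pullback.fst π π).appTop.hom (a * b) = (pullback.snd π π).appTop.hom (a * b)
        rw [map_mul, map_mul]
        exact congrArg₂ (· * ·) ha hb
      add_mem' := by
        intro a b ha hb
        show (pullback.fst π π).appTop.hom (a + b) = (pullback.snd π π).appTop.hom (a + b)
        rw [map_add, map_add]
        exact congrArg₂ (· + ·) ha hb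
      algebraMap_mem' := fun r => hcond r }
  haveI : _root_.IsReduced E := isReduced_of_injective E.val Subtype.val_injective
  set ψ : Γ(X, ⊤) →+* E := algebraMap Γ(X, ⊤) E with hψ
  have hψval : ∀ r, ((ψ r : E) : Γ(Y, ⊤)) = π.appTop.hom r := fun r => rfl
  have hψinj : Function.Injective ψ := by
    intro a b hab
    apply hπinj
    rw [← hψval, ← hψval, hab]
  suffices hQ : QSN ψ by
    obtain ⟨t, ht⟩ := (bijective_of_isSeminormalRing hA ψ hQ).2 ⟨s, hs⟩
    exact ⟨t, congrArg Subtype.val ht⟩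
  -- the morphism to `Spec E`
  let ι : CommRingCat.of E ⟶ Γ(Y, ⊤) := CommRingCat.ofHom E.val.toRingHom
  have hιinj : Function.Injective ι.hom := Subtype.val_injective
  set g : Y ⟶ Spec (CommRingCat.of E) := Y.toSpecΓ ≫ Spec.map ι with hg
  have hgπ : g ≫ Spec.map (CommRingCat.ofHom ψ) = π ≫ X.toSpecΓ := by
    rw [hg, Category.assoc, ← Spec.map_comp, Scheme.toSpecΓ_naturality]
    rfl
  haveI : IsIso X.toSpecΓ := IsAffine.affine
  haveI : UniversallyClosed (g ≫ Spec.map (CommRingCat.ofHom ψ)) := by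
    rw [hgπ]
    infer_instance
  haveI : UniversallyClosed g := .of_comp_of_isSeparated g (Spec.map (CommRingCat.ofHom ψ))
  have hgs : Function.Surjective g := surjective_toSpec_of_isReduced ι hιinj g.isClosedMap
  have hmem : ∀ (y : Y) (e : E), e ∈ (g y).asIdeal ↔ Y.Γevaluation y (e : Γ(Y, ⊤)) = 0 :=
    fun y e => mem_asIdeal_toSpec_iff ι y e
  have hpt : ∀ y : Y, X.toSpecΓ (π y) = PrimeSpectrum.comap ψ (g y) := by
    intro y
    have := congrArg (fun f => f y) hgπ
    exact this.symm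
  have hρ : ∀ (y : Y) (r : Γ(X, ⊤)), (π.residueFieldMap y).hom (X.Γevaluation (π y) r) =
      Y.Γevaluation y (π.appTop.hom r) := fun y r => Scheme.Γevaluation_naturality_apply π y r
  refine qsn_of_pointwise ψ ?_ ?_ ?_ ?_
  · -- integral
    have hint : π.appTop.hom.IsIntegral := isIntegral_appTop_of_universallyClosed π
    intro e
    have h1 : IsIntegral Γ(X, ⊤) (e : Γ(Y, ⊤)) := hint e
    exact (isIntegral_algHom_iff E.val Subtype.val_injective).1 h1
  · intro a ha
    rw [(injective_iff_map_eq_zero ψ).1 hψinj a ha]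
    exact Ideal.zero_mem _
  · intro q₁ q₂ h12
    obtain ⟨y₁, rfl⟩ := hgs q₁
    obtain ⟨y₂, rfl⟩ := hgs q₂
    have hxy : π y₁ = π y₂ := by
      have h1 : X.toSpecΓ (π y₁) = X.toSpecΓ (π y₂) := by rw [hpt, hpt, h12]
      exact (ConcreteCategory.bijective_of_isIso X.toSpecΓ.base).1 h1
    ext e
    rw [hmem, hmem]
    exact eval_eq_zero_iff_of_isDesc e.2 y₁ y₂ hxy
  · intro q e
    obtain ⟨y, rfl⟩ := hgs q
    obtain ⟨c, hc⟩ := eval_mem_range_of_isDesc e.2 y
    obtain ⟨a, d, hd, hcd⟩ := exists_frac_of_isAffine (π y) c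
    refine ⟨a, d, ?_, ?_⟩
    · show ¬ (ψ d ∈ (g y).asIdeal)
      rw [hmem, hψval, ← hρ]
      intro h0
      exact hd ((map_eq_zero_iff _ (RingHom.injective _)).1 h0)
    · rw [hmem]
      show Y.Γevaluation y (π.appTop.hom d * (e : Γ(Y, ⊤)) - π.appTop.hom a) = 0
      rw [map_sub, map_mul, ← hρ, ← hρ, ← hc, ← map_mul, ← map_sub, mul_comm, hcd, sub_self,
        map_zero]

end affine

end Groth.Agent.Lib.helper2.DescSection
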