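import Groth.Agent.Lib.Helper2.AUS2
import Groth.Agent.Lib.Helper7.ModSES

/-!
# helper2: additivity of the Tor Euler characteristic `χ(M, -)` on short exact sequences
-/

universe u

open CategoryTheory Category Limits MonoidalCategory TensorProduct

namespace Groth.Agent.Lib.helper2.Dev

open Groth.Agent.Lib.helper7.TorAPI Groth.Agent.Lib.helper2.Aus

/-- a telescoping identity for the alternating sum along a long exact sequence. -/
theorem alt_sum_eq_zero (a b c u v w : ℕ → ℤ) (D : ℕ)
    (ha : ∀ n, a n = w n + u n) (hb : ∀ n, b n = u n + v n) (hc0 : c 0 = v 0)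
    (hc : ∀ n, c (n + 1) = v (n + 1) + w n) (hw : ∀ n, D ≤ n + 1 → w n = 0) :
    ∑ n ∈ Finset.range D, (-1 : ℤ) ^ n * (a n - b n + c n) = 0 := by
  have key : ∀ k, ∑ n ∈ Finset.range (k + 1), (-1 : ℤ) ^ n * (a n - b n + c n) =
      (-1 : ℤ) ^ k * w k := by
    intro k
    induction k with
    | zero =>
      rw [Finset.sum_range_one, ha, hb, hc0]
      ring
    | succ k ih =>
      rw [Finset.sum_range_succ, ih, ha, hb, hc, pow_succ]
      ring
  cases D with
  | zero => simp
  | succ k => rw [key k, hw k le_rfl, mul_zero]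

variable {A : Type u} [CommRing A]

/-- integer valued length. -/
noncomputable def len (X : Type u) [AddCommGroup X] [Module A X] : ℤ :=
  ((Module.length A X).toNat : ℤ)

theorem len_eq_ker_add_range {X Y : Type u} [AddCommGroup X] [Module A X] [AddCommGroup Y]
    [Module A Y] (φ : X →ₗ[A] Y) (hX : IsFiniteLength A X) :
    len (A := A) X = len (A := A) (LinearMap.ker φ) + len (A := A) (LinearMap.range φ) := by
  have h := Module.length_eq_add_of_exact (LinearMap.ker φ).subtype φ.rangeRestrict
    (Submodule.subtype_injective _) φ.surjective_rangeRestrict (by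
      rw [LinearMap.exact_iff, LinearMap.ker_rangeRestrict, Submodule.range_subtype])
  have hne : Module.length A X ≠ ⊤ := Module.length_ne_top_iff.2 hX
  have h1 : Module.length A (LinearMap.ker φ) ≠ ⊤ := by
    intro h1
    rw [h1, top_add] at h
    exact hne h
  have h2 : Module.length A (LinearMap.range φ) ≠ ⊤ := by
    intro h2
    rw [h2, add_top] at h
    exact hne h
  unfold len
  rw [h, ENat.toNat_add h1 h2]
  push_cast
  rfl

theorem len_of_subsingleton (X : Type u) [AddCommGroup X] [Module A X] [Subsingleton X] :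
    len (A := A) X = 0 := by
  unfold len
  rw [Module.length_eq_zero]
  rfl

theorem len_congr {X : Type u} [AddCommGroup X] [Module A X] {P Q : Submodule A X} (h : P = Q) :
    len (A := A) P = len (A := A) Q := by
  subst h
  rfl

theorem len_top (X : Type u) [AddCommGroup X] [Module A X] :
    len (A := A) (⊤ : Submodule A X) = len (A := A) X := by
  unfold len
  rw [Module.length_top]

theorem chi_eq_sum (M N : Type u) [AddCommGroup M] [Module A M] [AddCommGroup N] [Module A N]
    (D : ℕ) (hD : ∀ i, D ≤ i →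
      IsZero ((T i (ModuleCat.of A M)).obj (ModuleCat.of A N))) :
    IntMult.chi A M N = ∑ i ∈ Finset.range D, (-1 : ℤ) ^ i *
      len (A := A) ((T i (ModuleCat.of A M)).obj (ModuleCat.of A N)) := by
  unfold IntMult.chi
  rw [finsum_eq_sum_of_support_subset]
  · rfl
  · intro i hi
    rw [Function.mem_support] at hi
    rw [Finset.coe_range, Set.mem_Iio]
    by_contra hlt
    push_neg at hlt
    apply hi
    haveI : Subsingleton (DRing.Tor A i M N) := ModuleCat.subsingleton_of_isZero (hD i hlt)
    rw [Module.length_eq_zero]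
    simp


theorem suppCond_of_le (M N N' : Type u) [AddCommGroup M] [Module A M] [AddCommGroup N]
    [Module A N] [AddCommGroup N'] [Module A N']
    (h : Module.annihilator A N ≤ Module.annihilator A N') (H : SuppCond A M N) :
    SuppCond A M N' := by
  intro Q hQ
  exact H Q (le_trans (sup_le_sup_left h _) hQ)

theorem suppCond_symm (M N : Type u) [AddCommGroup M] [Module A M] [AddCommGroup N]
    [Module A N] (H : SuppCond A M N) : SuppCond A N M := by
  intro Q hQ
  exact H Q (by rwa [sup_comm])

theorem annihilator_le_of_injective {N N' : Type u} [AddCommGroup N] [Module A N]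
    [AddCommGroup N'] [Module A N'] (f : N' →ₗ[A] N) (hf : Function.Injective f) :
    Module.annihilator A N ≤ Module.annihilator A N' := by
  intro a ha
  rw [Module.mem_annihilator] at ha ⊢
  intro n
  apply hf
  rw [map_smul, ha, map_zero]

theorem annihilator_le_of_surjective {N N' : Type u} [AddCommGroup N] [Module A N]
    [AddCommGroup N'] [Module A N'] (g : N →ₗ[A] N') (hg : Function.Surjective g) :
    Module.annihilator A N ≤ Module.annihilator A N' := by
  intro a ha
  rw [Module.mem_annihilator] at ha ⊢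
  intro n
  obtain ⟨m, rfl⟩ := hg n
  rw [← map_smul, ha, map_zero]

theorem ker_eq_range_of_exact {X Y Z : ModuleCat.{u} A} (φ : X ⟶ Y) (ψ : Y ⟶ Z) (w : φ ≫ ψ = 0)
    (h : (ShortComplex.mk φ ψ w).Exact) : LinearMap.ker ψ.hom = LinearMap.range φ.hom := by
  rw [ShortComplex.ShortExact.moduleCat_exact_iff_function_exact] at h
  exact LinearMap.exact_iff.1 h

theorem epi_T_zero_map (M : ModuleCat.{u} A) {X Y : ModuleCat.{u} A} (g : X ⟶ Y) [Epi g] :
    Epi ((T 0 M).map g) := by
  have hnat : (T 0 M).map g ≫ (tor0Iso M).hom.app Y =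
      (tor0Iso M).hom.app X ≫ (tF M).map g := (tor0Iso M).hom.naturality g
  have : (T 0 M).map g = (tor0Iso M).hom.app X ≫ (tF M).map g ≫ (tor0Iso M).inv.app Y := by
    rw [← assoc, ← hnat, assoc, ← NatTrans.comp_app, Iso.hom_inv_id, NatTrans.id_app, comp_id]
  rw [this]
  haveI : (tF M).PreservesEpimorphisms :=
    preservesEpimorphisms_of_preservesColimitsOfShape (tF M)
  haveI : Epi ((tF M).map g) := (tF M).map_epi g
  infer_instance

/-- **Additivity of `χ(M, -)`** on short exact sequences, when all the Tor modules have finite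
length and vanish in large degrees. -/
theorem chi_add_of_exact [IsNoetherianRing A] (M : Type u) [AddCommGroup M] [Module A M]
    [Module.Finite A M]
    {N₁ N₂ N₃ : Type u} [AddCommGroup N₁] [Module A N₁] [AddCommGroup N₂] [Module A N₂]
    [AddCommGroup N₃] [Module A N₃] [Module.Finite A N₁] [Module.Finite A N₂] [Module.Finite A N₃]
    (f : N₁ →ₗ[A] N₂) (g : N₂ →ₗ[A] N₃) (hf : Function.Injective f) (hg : Function.Surjective g)
    (H : Function.Exact f g) (hS : SuppCond A M N₂) (D : ℕ)
    (hD : ∀ i, D ≤ i → ∀ N' : ModuleCat.{u} A, IsZero ((T i (ModuleCat.of A M)).obj N')) :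
    IntMult.chi A M N₂ = IntMult.chi A M N₁ + IntMult.chi A M N₃ := by
  set MM := ModuleCat.of A M with hMM
  set S := Groth.Agent.Lib.helper7.ModSES.mkSES f g H with hSdef
  have hSE : S.ShortExact := Groth.Agent.Lib.helper7.ModSES.mkSES_shortExact f g H hf hg
  have hS1 : SuppCond A M N₁ := suppCond_of_le M N₂ N₁ (annihilator_le_of_injective f hf) hS
  have hS3 : SuppCond A M N₃ := suppCond_of_le M N₂ N₃ (annihilator_le_of_surjective g hg) hS
  have fl1 : ∀ i, IsFiniteLength A ((T i MM).obj S.X₁) := fun i => isFiniteLength_T M N₁ hS1 i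
  have fl2 : ∀ i, IsFiniteLength A ((T i MM).obj S.X₂) := fun i => isFiniteLength_T M N₂ hS i
  have fl3 : ∀ i, IsFiniteLength A ((T i MM).obj S.X₃) := fun i => isFiniteLength_T M N₃ hS3 i
  choose δ w₁ w₂ e₁ e₂ using fun n => T_exists_δ MM hSE n
  have ex2 : ∀ n, LinearMap.ker ((T n MM).map S.g).hom = LinearMap.range ((T n MM).map S.f).hom :=
    fun n => ker_eq_range_of_exact _ _ _ (T_exact₂ MM hSE n)
  have ex1 : ∀ n, LinearMap.ker ((T n MM).map S.f).hom = LinearMap.range (δ n).hom :=
    fun n => ker_eq_range_of_exact _ _ _ (e₂ n)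
  have ex3 : ∀ n, LinearMap.ker (δ n).hom = LinearMap.range ((T (n + 1) MM).map S.g).hom :=
    fun n => ker_eq_range_of_exact _ _ _ (e₁ n)
  rw [chi_eq_sum M N₁ D (fun i hi => hD i hi _), chi_eq_sum M N₂ D (fun i hi => hD i hi _),
    chi_eq_sum M N₃ D (fun i hi => hD i hi _)]
  have key := alt_sum_eq_zero
    (fun n => len (A := A) ((T n MM).obj S.X₁))
    (fun n => len (A := A) ((T n MM).obj S.X₂))
    (fun n => len (A := A) ((T n MM).obj S.X₃))
    (fun n => len (A := A) (LinearMap.range ((T n MM).map S.f).hom))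
    (fun n => len (A := A) (LinearMap.range ((T n MM).map S.g).hom))
    (fun n => len (A := A) (LinearMap.range (δ n).hom)) D ?_ ?_ ?_ ?_ ?_
  · have e : ∑ i ∈ Finset.range D, (-1 : ℤ) ^ i * len (A := A) ((T i MM).obj (ModuleCat.of A N₂)) =
        ∑ i ∈ Finset.range D, (-1 : ℤ) ^ i * len (A := A) ((T i MM).obj (ModuleCat.of A N₁)) +
        ∑ i ∈ Finset.range D, (-1 : ℤ) ^ i * len (A := A) ((T i MM).obj (ModuleCat.of A N₃)) -
        ∑ n ∈ Finset.range D, (-1 : ℤ) ^ n * (len (A := A) ((T n MM).obj S.X₁) -
          len (A := A) ((T n MM).obj S.X₂) + len (A := A) ((T n MM).obj S.X₃)) := by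
      rw [← Finset.sum_add_distrib, ← Finset.sum_sub_distrib]
      refine Finset.sum_congr rfl (fun i _ => ?_)
      change _ = (-1 : ℤ) ^ i * len (A := A) ((T i MM).obj S.X₁) +
        (-1 : ℤ) ^ i * len (A := A) ((T i MM).obj S.X₃) - _
      change (-1 : ℤ) ^ i * len (A := A) ((T i MM).obj S.X₂) = _
      ring
    rw [e, key, sub_zero]
  · intro n
    show len (A := A) ((T n MM).obj S.X₁) = _
    rw [len_eq_ker_add_range ((T n MM).map S.f).hom (fl1 n), len_congr (ex1 n)]
  · intro n
    show len (A := A) ((T n MM).obj S.X₂) = _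
    rw [len_eq_ker_add_range ((T n MM).map S.g).hom (fl2 n), len_congr (ex2 n)]
  · show len (A := A) ((T 0 MM).obj S.X₃) = len (A := A) (LinearMap.range ((T 0 MM).map S.g).hom)
    haveI : Epi S.g := hSE.epi_g
    haveI := epi_T_zero_map MM S.g
    have hsurj : Function.Surjective ((T 0 MM).map S.g).hom :=
      (ModuleCat.epi_iff_surjective _).1 inferInstance
    rw [len_congr (LinearMap.range_eq_top.2 hsurj), len_top]
  · intro n
    show len (A := A) ((T (n + 1) MM).obj S.X₃) = _
    rw [len_eq_ker_add_range (δ n).hom (fl3 (n + 1)), len_congr (ex3 n)]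
  · intro n hn
    show len (A := A) (LinearMap.range (δ n).hom) = 0
    have hz : IsZero ((T (n + 1) MM).obj S.X₃) := hD (n + 1) hn _
    have h0 : δ n = 0 := hz.eq_of_src _ _
    have : LinearMap.range (δ n).hom = ⊥ := by
      rw [h0]
      exact LinearMap.range_zero
    rw [len_congr this]
    haveI : Subsingleton (⊥ : Submodule A ((T n MM).obj S.X₁)) := inferInstance
    exact len_of_subsingleton _

end Groth.Agent.Lib.helper2.Dev
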