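import Groth.Agent.Lib.Helper2.Dev1
import Groth.Agent.Lib.Helper26.Mult2
import Groth.Agent.Lib.Helper7.TorAPI4

/-!
# helper2: the integer valued weighted sum over primes of coheight `d`, and dévissage of `χ(-, N)`
-/

set_option autoImplicit false
set_option linter.unusedSectionVars false
universe u

open CategoryTheory CategoryTheory.Limits

namespace Groth.Agent.Lib.helper2.Dev

open Groth.Agent.Lib.helper26.HS Groth.Agent.Lib.helper7.TorAPI Groth.Agent.Lib.helper2.Aus

variable {A : Type u} [CommRing A] [IsNoetherianRing A] (d : ℕ) (e : PrimeSpectrum A → ℤ)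

/-- `∑_{dim A/p = d} ℓ(N_p) e(p)`, integer valued. -/
noncomputable def rhsZ (N : Type u) [AddCommGroup N] [Module A N] : ℤ :=
  ∑ᶠ (p : PrimeSpectrum A) (_ : ringKrullDim (A ⧸ p.asIdeal) = d),
    ((locLen N p).toNat : ℤ) * e p

open Classical in
theorem rhsZ_eq (N : Type u) [AddCommGroup N] [Module A N] :
    rhsZ d e N = ∑ᶠ p : PrimeSpectrum A,
      if ringKrullDim (A ⧸ p.asIdeal) = d then ((locLen N p).toNat : ℤ) * e p else 0 := by
  unfold rhsZ
  simp only [finsum_eq_if]

variable {N : Type u} [AddCommGroup N] [Module A N] [Module.Finite A N]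

open Classical in
theorem support_finiteZ (hd : Module.supportDim A N ≤ d) :
    (Function.support fun p : PrimeSpectrum A =>
      if ringKrullDim (A ⧸ p.asIdeal) = d then ((locLen N p).toNat : ℤ) * e p else 0).Finite := by
  have hfin : (Module.annihilator A N).minimalPrimes.Finite :=
    Ideal.finite_minimalPrimes_of_isNoetherianRing A _
  have hinj : Set.InjOn (fun p : PrimeSpectrum A => p.asIdeal)
      ((fun p : PrimeSpectrum A => p.asIdeal) ⁻¹' (Module.annihilator A N).minimalPrimes) :=
    fun p _ q _ h => PrimeSpectrum.ext h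
  refine (hfin.preimage hinj).subset ?_
  intro p hp
  rw [Function.mem_support] at hp
  by_cases hc : ringKrullDim (A ⧸ p.asIdeal) = d
  · rw [if_pos hc] at hp
    have h1 : locLen N p ≠ 0 := by
      intro h
      apply hp
      rw [h]
      simp
    have hps : p ∈ Module.support A N := by
      by_contra hps
      exact h1 (locLen_eq_zero_iff.2 hps)
    show p.asIdeal ∈ (Module.annihilator A N).minimalPrimes
    obtain ⟨r, hrm, hr⟩ := Ideal.exists_minimalPrimes_le (Module.mem_support_iff_of_finite.mp hps)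
    have hrs : (⟨r, hrm.1.1⟩ : PrimeSpectrum A) ∈ Module.support A N :=
      Module.mem_support_iff_of_finite.mpr hrm.1.2
    have := eq_of_le_of_coheight_eq hd hc hrs hr
    rw [← this]
    exact hrm
  · rw [if_neg hc] at hp
    exact absurd rfl hp

theorem rhsZ_of_equiv {N' : Type u} [AddCommGroup N'] [Module A N'] (φ : N ≃ₗ[A] N') :
    rhsZ d e N = rhsZ d e N' := by
  unfold rhsZ
  simp only [locLen_of_equiv φ]

theorem rhsZ_of_subsingleton [Subsingleton N] : rhsZ d e N = 0 := by
  unfold rhsZ
  have : ∀ p : PrimeSpectrum A, locLen N p = 0 := fun p =>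
    Groth.Agent.Lib.helper22.length_localized_of_subsingleton _
  simp [this]

theorem rhsZ_add_of_exact {N₁ N₂ N₃ : Type u} [AddCommGroup N₁] [Module A N₁]
    [AddCommGroup N₂] [Module A N₂] [AddCommGroup N₃] [Module A N₃]
    [Module.Finite A N₁] [Module.Finite A N₂] [Module.Finite A N₃]
    (f : N₁ →ₗ[A] N₂) (g : N₂ →ₗ[A] N₃)
    (hf : Function.Injective f) (hg : Function.Surjective g) (H : Function.Exact f g)
    (hd : Module.supportDim A N₂ ≤ d) : rhsZ d e N₂ = rhsZ d e N₁ + rhsZ d e N₃ := by
  classical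
  have hd1 : Module.supportDim A N₁ ≤ d := (Module.supportDim_le_of_injective f hf).trans hd
  have hd3 : Module.supportDim A N₃ ≤ d := (Module.supportDim_le_of_surjective g hg).trans hd
  rw [rhsZ_eq, rhsZ_eq, rhsZ_eq,
    ← finsum_add_distrib (support_finiteZ d e hd1) (support_finiteZ d e hd3)]
  refine finsum_congr (fun p => ?_)
  by_cases hc : ringKrullDim (A ⧸ p.asIdeal) = d
  · rw [if_pos hc, if_pos hc, if_pos hc, locLen_add_of_exact f g hf hg H p,
      ENat.toNat_add (locLen_ne_top hd1 hc) (locLen_ne_top hd3 hc)]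
    push_cast
    ring
  · rw [if_neg hc, if_neg hc, if_neg hc, add_zero]

theorem rhsZ_quotient_eq (p' : PrimeSpectrum A) (hc : ringKrullDim (A ⧸ p'.asIdeal) = d) :
    rhsZ d e (A ⧸ p'.asIdeal) = e p' := by
  classical
  rw [rhsZ_eq, finsum_eq_single _ p', if_pos hc, locLen_quotient_self]
  · simp
  · intro p hp
    by_cases hcp : ringKrullDim (A ⧸ p.asIdeal) = d
    · rw [if_pos hcp]
      have : locLen (A ⧸ p'.asIdeal) p = 0 := by
        rw [locLen_eq_zero_iff, mem_support_quotient_iff]
        intro hle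
        have hd : Module.supportDim A (A ⧸ p'.asIdeal) ≤ d := by
          rw [Module.supportDim_quotient_eq_ringKrullDim, hc]
        have hmem : p' ∈ Module.support A (A ⧸ p'.asIdeal) := mem_support_quotient_iff.2 le_rfl
        exact hp (eq_of_le_of_coheight_eq hd hcp hmem hle).symm
      rw [this]
      simp
    · rw [if_neg hcp]

theorem rhsZ_quotient_ne (p' : PrimeSpectrum A) (hd : ringKrullDim (A ⧸ p'.asIdeal) ≤ d)
    (hc : ringKrullDim (A ⧸ p'.asIdeal) ≠ d) :
    rhsZ d e (A ⧸ p'.asIdeal) = 0 := by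
  classical
  rw [rhsZ_eq]
  refine (finsum_congr (fun p => ?_)).trans finsum_zero
  by_cases hcp : ringKrullDim (A ⧸ p.asIdeal) = d
  · rw [if_pos hcp]
    have : locLen (A ⧸ p'.asIdeal) p = 0 := by
      rw [locLen_eq_zero_iff, mem_support_quotient_iff]
      intro hle
      have hd' : Module.supportDim A (A ⧸ p'.asIdeal) ≤ d := by
        rwa [Module.supportDim_quotient_eq_ringKrullDim]
      have hmem : p' ∈ Module.support A (A ⧸ p'.asIdeal) := mem_support_quotient_iff.2 le_rfl
      have := eq_of_le_of_coheight_eq hd' hcp hmem hle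
      rw [this] at hc
      exact hc hcp
    rw [this]
    simp
  · rw [if_neg hcp]

/-- `rhsZ` only depends on the values of `e` at the primes of coheight `d` in the support. -/
theorem rhsZ_congr (e' : PrimeSpectrum A → ℤ)
    (h : ∀ p : PrimeSpectrum A, ringKrullDim (A ⧸ p.asIdeal) = d → p ∈ Module.support A N →
      e p = e' p) : rhsZ d e N = rhsZ d e' N := by
  classical
  rw [rhsZ_eq, rhsZ_eq]
  refine finsum_congr (fun p => ?_)
  by_cases hc : ringKrullDim (A ⧸ p.asIdeal) = d
  · rw [if_pos hc, if_pos hc]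
    by_cases hp : p ∈ Module.support A N
    · rw [h p hc hp]
    · rw [locLen_eq_zero_iff.2 hp]
      simp
  · rw [if_neg hc, if_neg hc]

end Groth.Agent.Lib.helper2.Dev

namespace Groth.Agent.Lib.helper2.Dev

open Groth.Agent.Lib.helper26.HS Groth.Agent.Lib.helper7.TorAPI Groth.Agent.Lib.helper2.Aus

variable {A : Type u} [CommRing A]

theorem chi_of_subsingleton_right (M N : Type u) [AddCommGroup M] [Module A M] [AddCommGroup N]
    [Module A N] [Subsingleton N] : IntMult.chi A M N = 0 := by
  unfold IntMult.chi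
  refine (finsum_congr (fun i => ?_)).trans finsum_zero
  have hz : IsZero (ModuleCat.of A N) := ModuleCat.isZero_of_subsingleton _
  have hz2 : IsZero ((T i (ModuleCat.of A M)).obj (ModuleCat.of A N)) :=
    Functor.map_isZero _ hz
  haveI : Subsingleton (DRing.Tor A i M N) := ModuleCat.subsingleton_of_isZero hz2
  rw [Module.length_eq_zero]
  simp

theorem chi_of_subsingleton_left (M N : Type u) [AddCommGroup M] [Module A M] [AddCommGroup N]
    [Module A N] [Subsingleton M] : IntMult.chi A M N = 0 := by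
  rw [Groth.Agent.Lib.helper2.IM.chi_symm]
  exact chi_of_subsingleton_right N M

theorem chi_congr_right (M : Type u) [AddCommGroup M] [Module A M] {N N' : Type u}
    [AddCommGroup N] [Module A N] [AddCommGroup N'] [Module A N'] (φ : N ≃ₗ[A] N') :
    IntMult.chi A M N = IntMult.chi A M N' := by
  unfold IntMult.chi
  refine finsum_congr (fun i => ?_)
  have e : (T i (ModuleCat.of A M)).obj (ModuleCat.of A N) ≅
      (T i (ModuleCat.of A M)).obj (ModuleCat.of A N') :=
    (T i (ModuleCat.of A M)).mapIso φ.toModuleIso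
  have : Module.length A (DRing.Tor A i M N) = Module.length A (DRing.Tor A i M N') :=
    e.toLinearEquiv.length_eq
  rw [this]

theorem chi_congr_left (N : Type u) [AddCommGroup N] [Module A N] {M M' : Type u}
    [AddCommGroup M] [Module A M] [AddCommGroup M'] [Module A M'] (φ : M ≃ₗ[A] M') :
    IntMult.chi A M N = IntMult.chi A M' N := by
  rw [Groth.Agent.Lib.helper2.IM.chi_symm, chi_congr_right N φ,
    Groth.Agent.Lib.helper2.IM.chi_symm]

theorem annihilator_eq_of_equiv {M M' : Type u}
    [AddCommGroup M] [Module A M] [AddCommGroup M'] [Module A M'] (φ : M ≃ₗ[A] M') :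
    Module.annihilator A M = Module.annihilator A M' :=
  le_antisymm (annihilator_le_of_surjective φ.toLinearMap φ.surjective)
    (annihilator_le_of_surjective φ.symm.toLinearMap φ.symm.surjective)

theorem suppCond_left_of_le (M M' N : Type u) [AddCommGroup M] [Module A M] [AddCommGroup N]
    [Module A N] [AddCommGroup M'] [Module A M']
    (h : Module.annihilator A M ≤ Module.annihilator A M') (H : SuppCond A M N) :
    SuppCond A M' N :=
  suppCond_symm _ _ (suppCond_of_le N M M' h (suppCond_symm _ _ H))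

variable [IsNoetherianRing A]

/-- **Dévissage of `χ(-, N)`**: if `χ(A/P, N) = 0` for the primes `P` of coheight `< a`, then
`χ(M, N) = ∑_{dim A/P = a} ℓ(M_P) χ(A/P, N)` for `M` of dimension `≤ a`. -/
theorem chi_eq_rhsZ (N : Type u) [AddCommGroup N] [Module A N] [Module.Finite A N] (a D : ℕ)
    (hD : ∀ i, D ≤ i → ∀ N' : ModuleCat.{u} A, IsZero ((T i (ModuleCat.of A N)).obj N'))
    (hvan : ∀ P : PrimeSpectrum A, ringKrullDim (A ⧸ P.asIdeal) ≤ a →
      ringKrullDim (A ⧸ P.asIdeal) ≠ a → SuppCond A (A ⧸ P.asIdeal) N →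
      IntMult.chi A (A ⧸ P.asIdeal) N = 0)
    (M : Type u) [AddCommGroup M] [Module A M] [hfin : Module.Finite A M]
    (hd : Module.supportDim A M ≤ a) (hS : SuppCond A M N) :
    IntMult.chi A M N = rhsZ a (fun P => IntMult.chi A (A ⧸ P.asIdeal) N) M := by
  revert hd hS
  refine IsNoetherianRing.induction_on_isQuotientEquivQuotientPrime A hfin
    (motive := fun M _ _ _ => Module.supportDim A M ≤ a → SuppCond A M N →
      IntMult.chi A M N = rhsZ a (fun P => IntMult.chi A (A ⧸ P.asIdeal) N) M) ?_ ?_ ?_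
  · intro M _ _ _ _ _ _
    rw [rhsZ_of_subsingleton, chi_of_subsingleton_left]
  · intro M _ _ _ p' φ hd hS
    have hd' : ringKrullDim (A ⧸ p'.asIdeal) ≤ a := by
      rw [← Module.supportDim_quotient_eq_ringKrullDim, ← Module.supportDim_eq_of_equiv φ]
      exact hd
    rw [rhsZ_of_equiv a _ φ, chi_congr_left N φ]
    by_cases hc : ringKrullDim (A ⧸ p'.asIdeal) = a
    · rw [rhsZ_quotient_eq a _ p' hc]
    · rw [rhsZ_quotient_ne a _ p' hd' hc]
      exact hvan p' hd' hc (suppCond_left_of_le M _ N (annihilator_eq_of_equiv φ).le hS)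
  · intro M₁ _ _ _ M₂ _ _ _ M₃ _ _ _ f g hf hg H ih1 ih3 hd hS
    rw [rhsZ_add_of_exact a _ f g hf hg H hd]
    have hd1 : Module.supportDim A M₁ ≤ a := (Module.supportDim_le_of_injective f hf).trans hd
    have hd3 : Module.supportDim A M₃ ≤ a := (Module.supportDim_le_of_surjective g hg).trans hd
    have hS1 : SuppCond A M₁ N :=
      suppCond_left_of_le M₂ M₁ N (annihilator_le_of_injective f hf) hS
    have hS3 : SuppCond A M₃ N :=
      suppCond_left_of_le M₂ M₃ N (annihilator_le_of_surjective g hg) hS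
    rw [← ih1 hd1 hS1, ← ih3 hd3 hS3, Groth.Agent.Lib.helper2.IM.chi_symm M₂ N,
      Groth.Agent.Lib.helper2.IM.chi_symm M₁ N, Groth.Agent.Lib.helper2.IM.chi_symm M₃ N]
    exact chi_add_of_exact N f g hf hg H (suppCond_symm _ _ hS) D hD

end Groth.Agent.Lib.helper2.Dev
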