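import Groth.Agent.Lib.Helper2.Dev2

/-!
# helper2: double dévissage of the Tor Euler characteristic
`χ(M, N) = ∑_{P, Q} ℓ(M_P) ℓ(N_Q) χ(A/Q, A/P)`
-/

set_option autoImplicit false
set_option linter.unusedSectionVars false
universe u

open CategoryTheory CategoryTheory.Limits

namespace Groth.Agent.Lib.helper2.Dev

open Groth.Agent.Lib.helper26.HS Groth.Agent.Lib.helper7.TorAPI Groth.Agent.Lib.helper2.Aus

variable {A : Type u} [CommRing A] [IsNoetherianRing A]

theorem rhsZ_zero (d : ℕ) (N : Type u) [AddCommGroup N] [Module A N] :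
    rhsZ d (fun _ : PrimeSpectrum A => (0 : ℤ)) N = 0 := by
  unfold rhsZ
  simp

theorem suppCond_quotient_left (M N : Type u) [AddCommGroup M] [Module A M] [Module.Finite A M]
    [AddCommGroup N] [Module A N] (H : SuppCond A M N) (P : PrimeSpectrum A)
    (hP : P ∈ Module.support A M) : SuppCond A (A ⧸ P.asIdeal) N := by
  refine suppCond_left_of_le M _ N ?_ H
  rw [Ideal.annihilator_quotient]
  exact Module.mem_support_iff_of_finite.1 hP

theorem suppCond_quotient_right (M N : Type u) [AddCommGroup M] [Module A M]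
    [AddCommGroup N] [Module A N] [Module.Finite A N] (H : SuppCond A M N) (Q : PrimeSpectrum A)
    (hQ : Q ∈ Module.support A N) : SuppCond A M (A ⧸ Q.asIdeal) :=
  suppCond_symm _ _ (suppCond_quotient_left N M (suppCond_symm _ _ H) Q hQ)

/-- **Double dévissage.** -/
theorem chi_eq_double (a b D : ℕ)
    (hD : ∀ (M' : Type u) [AddCommGroup M'] [Module A M'] [Module.Finite A M'], ∀ i, D ≤ i →
      ∀ N' : ModuleCat.{u} A, IsZero ((T i (ModuleCat.of A M')).obj N'))
    (hvan : ∀ P Q : PrimeSpectrum A, ringKrullDim (A ⧸ P.asIdeal) ≤ a →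
      ringKrullDim (A ⧸ Q.asIdeal) ≤ b →
      (ringKrullDim (A ⧸ P.asIdeal) ≠ a ∨ ringKrullDim (A ⧸ Q.asIdeal) ≠ b) →
      SuppCond A (A ⧸ P.asIdeal) (A ⧸ Q.asIdeal) →
      IntMult.chi A (A ⧸ Q.asIdeal) (A ⧸ P.asIdeal) = 0)
    (M N : Type u) [AddCommGroup M] [Module A M] [Module.Finite A M]
    [AddCommGroup N] [Module A N] [Module.Finite A N]
    (hM : Module.supportDim A M ≤ a) (hN : Module.supportDim A N ≤ b) (hS : SuppCond A M N) :
    IntMult.chi A M N =
      rhsZ a (fun P => rhsZ b (fun Q => IntMult.chi A (A ⧸ Q.asIdeal) (A ⧸ P.asIdeal)) N) M := by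
  -- Step A
  have stepA : ∀ P : PrimeSpectrum A, ringKrullDim (A ⧸ P.asIdeal) ≤ a →
      SuppCond A (A ⧸ P.asIdeal) N →
      IntMult.chi A (A ⧸ P.asIdeal) N =
        rhsZ b (fun Q => IntMult.chi A (A ⧸ Q.asIdeal) (A ⧸ P.asIdeal)) N := by
    intro P hPa hSP
    rw [Groth.Agent.Lib.helper2.IM.chi_symm]
    rw [chi_eq_rhsZ (A ⧸ P.asIdeal) b D (hD (A ⧸ P.asIdeal)) ?_ N hN (suppCond_symm _ _ hSP)]
    · intro Q hQb hQne hSQ
      rw [Groth.Agent.Lib.helper2.IM.chi_symm]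
      rw [Groth.Agent.Lib.helper2.IM.chi_symm]
      exact hvan P Q hPa hQb (Or.inr hQne) (suppCond_symm _ _ hSQ)
  have stepA' : ∀ P : PrimeSpectrum A, ringKrullDim (A ⧸ P.asIdeal) ≤ a →
      ringKrullDim (A ⧸ P.asIdeal) ≠ a → SuppCond A (A ⧸ P.asIdeal) N →
      IntMult.chi A (A ⧸ P.asIdeal) N = 0 := by
    intro P hPa hPne hSP
    rw [stepA P hPa hSP, ← rhsZ_zero (A := A) b N]
    refine rhsZ_congr b _ _ (fun Q hQ hQs => ?_)
    exact hvan P Q hPa hQ.le (Or.inl hPne) (suppCond_quotient_right _ N hSP Q hQs)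
  rw [chi_eq_rhsZ N a D (hD N) stepA' M hM hS]
  refine rhsZ_congr a _ _ (fun P hP hPs => ?_)
  exact stepA P hP.le (suppCond_quotient_left M N hS P hPs)

end Groth.Agent.Lib.helper2.Dev
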