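import Groth.Agent.Lib.Helper2.IM10
import Groth.Agent.Lib.Helper26.Mult3

/-!
# helper2: vanishing of `χ(A/J, A/I)`, `I` generated by a regular sequence of length `c`,
when `dim A/J < c`
-/

universe u

open CategoryTheory RingTheory.Sequence IsLocalRing Filter Polynomial

namespace Groth.Agent.Lib.helper2.IM

open Groth.Agent.Lib.helper26.Kos Groth.Agent.Lib.helper26.HS

variable {A : Type u} [CommRing A] [IsNoetherianRing A] [IsLocalRing A]

theorem chi_eq_zero_of_dim_lt (J I : Ideal A) (c : ℕ) (g : Fin c → A)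
    (hg : I = Ideal.span (Set.range g)) (hreg : IsRegular A (List.ofFn g)) (hJ : J ≠ ⊤)
    (h0 : ringKrullDim (A ⧸ (J ⊔ I)) = 0) (d' : ℕ)
    (hdim : ringKrullDim (A ⧸ J) ≤ (d' : WithBot ℕ∞)) (hlt : d' < c) :
    IntMult.chi A (A ⧸ J) (A ⧸ I) = 0 := by
  subst hg
  set I := Ideal.span (Set.range g) with hI
  haveI : Nontrivial (A ⧸ J) := Ideal.Quotient.nontrivial_iff.2 hJ
  have hsd0 : Module.supportDim A ((A ⧸ J) ⧸ (I • ⊤ : Submodule A (A ⧸ J))) ≤ 0 := by
    rw [Module.supportDim_eq_of_equiv (quotSMulTopEquiv J I),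
      Module.supportDim_quotient_eq_ringKrullDim, h0]
  rw [chi_symm]
  have key := Groth.Agent.S1914.result A c g hreg (A ⧸ J) hsd0
  have hM : hs I (A ⧸ J) 1 ≠ ⊤ := by
    unfold hs col
    rw [pow_one]
    exact Module.length_ne_top_iff.2 (isFiniteLength_of_supportDim_le_zero hsd0)
  have hsd : Module.supportDim A (A ⧸ J) ≤ (d' : WithBot ℕ∞) := by
    rw [Module.supportDim_quotient_eq_ringKrullDim]
    exact hdim
  have key2 := tendsto_zero_of_supportDim_lt I hM d' c hsd hlt
  have h := tendsto_nhds_unique key key2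
  exact_mod_cast h

end Groth.Agent.Lib.helper2.IM
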