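import Groth.Agent.Lib.Helper2.Dev3

/-!
# helper2: the double weighted sum as a finsum over pairs of primes
-/

set_option autoImplicit false
set_option linter.unusedSectionVars false
universe u

open CategoryTheory CategoryTheory.Limits

namespace Groth.Agent.Lib.helper2.Dev

open Groth.Agent.Lib.helper26.HS

variable {A : Type u} [CommRing A] [IsNoetherianRing A]

open Classical in
/-- the weight `ℓ(M_P)` if `dim A/P = a`, and `0` otherwise. -/
noncomputable def wt (a : ℕ) (M : Type u) [AddCommGroup M] [Module A M] (P : PrimeSpectrum A) : ℤ :=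
  if ringKrullDim (A ⧸ P.asIdeal) = a then ((locLen M P).toNat : ℤ) else 0

open Classical in
theorem rhsZ_eq_wt (d : ℕ) (e : PrimeSpectrum A → ℤ) (N : Type u) [AddCommGroup N] [Module A N] :
    rhsZ d e N = ∑ᶠ p : PrimeSpectrum A, wt d N p * e p := by
  rw [rhsZ_eq]
  refine finsum_congr (fun p => ?_)
  unfold wt
  split_ifs <;> simp

theorem support_wt_finite (d : ℕ) (N : Type u) [AddCommGroup N] [Module A N] [Module.Finite A N]
    (hd : Module.supportDim A N ≤ d) : (Function.support (wt (A := A) d N)).Finite := by
  classical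
  have := support_finiteZ d (fun _ => (1 : ℤ)) hd
  refine this.subset ?_
  intro p hp
  rw [Function.mem_support] at hp ⊢
  unfold wt at hp
  split_ifs at hp ⊢ with hc
  · simpa using hp
  · exact absurd rfl hp

theorem rhsZ_rhsZ_eq (a b : ℕ) (e₂ : PrimeSpectrum A → PrimeSpectrum A → ℤ)
    (M N : Type u) [AddCommGroup M] [Module A M] [Module.Finite A M]
    [AddCommGroup N] [Module A N] [Module.Finite A N]
    (hM : Module.supportDim A M ≤ a) (hN : Module.supportDim A N ≤ b) :
    rhsZ a (fun P => rhsZ b (fun Q => e₂ P Q) N) M =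
      ∑ᶠ x : PrimeSpectrum A × PrimeSpectrum A, wt a M x.1 * (wt b N x.2 * e₂ x.1 x.2) := by
  have hfin : (Function.support (fun x : PrimeSpectrum A × PrimeSpectrum A =>
      wt a M x.1 * (wt b N x.2 * e₂ x.1 x.2))).Finite := by
    refine ((support_wt_finite a M hM).prod (support_wt_finite b N hN)).subset ?_
    intro x hx
    rw [Function.mem_support] at hx
    refine ⟨?_, ?_⟩
    · rw [Function.mem_support]
      intro h
      apply hx
      rw [h, zero_mul]
    · rw [Function.mem_support]
      intro h
      apply hx
      rw [h, zero_mul, mul_zero]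
  rw [finsum_curry _ hfin, rhsZ_eq_wt]
  refine finsum_congr (fun P => ?_)
  rw [rhsZ_eq_wt, mul_finsum]

end Groth.Agent.Lib.helper2.Dev
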