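import Groth.Agent.Lib.Helper2.DevSch7

/-!
# helper2: the intersection product at a point as the Tor Euler characteristic of two modules
representing the cycles locally
-/

set_option autoImplicit false
universe u
open CategoryTheory CategoryTheory.Limits AlgebraicGeometry TopologicalSpace Opposite IsLocalRing
  TensorProduct

namespace Groth.Agent.Lib.helper2.DevSch

open Groth.Agent.Lib.helper16.OrdGen Groth.Agent.Lib.helper16.GenFib
  Groth.Agent.Lib.helper16.DivSum Groth.Agent.Lib.helper16.StalkLoc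
  Groth.Agent.Lib.helper16.CohStalk
  Groth.Agent.Lib.helper26.HS Groth.Agent.Lib.helper2.Dev Groth.Agent.Lib.helper2.Aus

variable {X : Scheme.{u}}

/-- the regular-local-ring package at a point of a smooth variety, in the form used by the double
dévissage. -/
theorem smooth_package (K : Type u) [Field K] (f : X ⟶ Spec (CommRingCat.of K)) [Smooth f]
    [IsIntegral X] [IsLocallyNoetherian X] (δ : X → ℤ) (hδ : Cyc.IsDimFun X δ) (ζ : X)
    (a b d : ℕ) (hd2 : ringKrullDim (X.presheaf.stalk ζ) = (d : WithBot ℕ∞)) (hab : a + b = d) :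
    (∀ (M' : Type u) [AddCommGroup M'] [Module (X.presheaf.stalk ζ) M']
      [Module.Finite (X.presheaf.stalk ζ) M'], ∀ i, d + 1 ≤ i →
      ∀ N' : ModuleCat.{u} (X.presheaf.stalk ζ), IsZero
        ((Groth.Agent.Lib.helper7.TorAPI.T i (ModuleCat.of (X.presheaf.stalk ζ) M')).obj N')) ∧
    (∀ P Q : PrimeSpectrum (X.presheaf.stalk ζ),
      ringKrullDim (X.presheaf.stalk ζ ⧸ P.asIdeal) ≤ a →
      ringKrullDim (X.presheaf.stalk ζ ⧸ Q.asIdeal) ≤ b →
      (ringKrullDim (X.presheaf.stalk ζ ⧸ P.asIdeal) ≠ a ∨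
        ringKrullDim (X.presheaf.stalk ζ ⧸ Q.asIdeal) ≠ b) →
      SuppCond (X.presheaf.stalk ζ) (X.presheaf.stalk ζ ⧸ P.asIdeal)
        (X.presheaf.stalk ζ ⧸ Q.asIdeal) →
      IntMult.chi (X.presheaf.stalk ζ) (X.presheaf.stalk ζ ⧸ Q.asIdeal)
        (X.presheaf.stalk ζ ⧸ P.asIdeal) = 0) := by
  obtain ⟨hreg, hserre⟩ := Groth.Agent.Lib.helper2.Diag.stalk_package f ζ
  haveI := hreg
  refine ⟨fun M' _ _ _ i hi N' =>
    Groth.Agent.Lib.helper2.Diag.isZero_T_of_regular _ d hd2 M' i hi N', ?_⟩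
  intro P Q hPa hQb hne hSPQ
  refine hserre P.asIdeal Q.asIdeal P.2.ne_top Q.2.ne_top
    (ringKrullDim_quot_sup_eq_zero_of_suppCond _ _ P.2.ne_top Q.2.ne_top hSPQ) ?_
  obtain ⟨kP, hkP1, hkP2⟩ := delta_gen δ hδ ζ P
  obtain ⟨kQ, hkQ1, hkQ2⟩ := delta_gen δ hδ ζ Q
  rw [hkP2] at hPa hne
  rw [hkQ2] at hQb hne
  rw [hkP2, hkQ2, hd2]
  have h1 : kP ≤ a := by exact_mod_cast hPa
  have h2 : kQ ≤ b := by exact_mod_cast hQb
  have h3 : kP ≠ a ∨ kQ ≠ b := by
    rcases hne with h | h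
    · left
      intro h'
      exact h (by rw [h'])
    · right
      intro h'
      exact h (by rw [h'])
  have h4 : kP + kQ < d := by omega
  exact_mod_cast h4

/-- If, among the generizations of `ζ`, the cycles `α` and `β` are the cycles of the finite
`O_ζ`-modules `M` and `N` (in dimensions `a` and `b` with `a + b = dim O_ζ`) whose supports meet
only in the closed point, then `(α · β)(ζ) = χ(M, N)`. -/
theorem interProd_eq_chi (K : Type u) [Field K] (f : X ⟶ Spec (CommRingCat.of K)) [Smooth f]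
    [IsIntegral X] (δ : X → ℤ) (hX : Cyc.IsSetup X δ) (n : ℤ) (hn : δ (genericPoint X) = n)
    (α β : X → ℤ) (ζ : X)
    (M N : Type u) [AddCommGroup M] [Module (X.presheaf.stalk ζ) M]
    [Module.Finite (X.presheaf.stalk ζ) M] [AddCommGroup N] [Module (X.presheaf.stalk ζ) N]
    [Module.Finite (X.presheaf.stalk ζ) N] (a b : ℕ) (hab : δ ζ + a + b = n)
    (hMdim : Module.supportDim (X.presheaf.stalk ζ) M ≤ (a : WithBot ℕ∞))
    (hNdim : Module.supportDim (X.presheaf.stalk ζ) N ≤ (b : WithBot ℕ∞))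
    (hS : SuppCond (X.presheaf.stalk ζ) M N)
    (hα : ∀ P : PrimeSpectrum (X.presheaf.stalk ζ), α (X.fromSpecStalk ζ P) = wt a M P)
    (hβ : ∀ Q : PrimeSpectrum (X.presheaf.stalk ζ), β (X.fromSpecStalk ζ Q) = wt b N Q) :
    IntMult.interProd δ n α β ζ = IntMult.chi (X.presheaf.stalk ζ) M N := by
  obtain ⟨hLN, -, hδ⟩ := hX
  haveI := hLN
  obtain ⟨d, hd1, hd2⟩ := dim_stalk_eq δ hδ ζ
  rw [hn] at hd1
  have habd : a + b = d := by omega
  obtain ⟨hD, hvan⟩ := smooth_package K f δ hδ ζ a b d hd2 habd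
  rw [interProd_eq_finsum_primes, chi_eq_double a b (d + 1) hD hvan M N hMdim hNdim hS,
    rhsZ_rhsZ_eq a b _ M N hMdim hNdim]
  refine finsum_congr (fun x => ?_)
  rw [hα, hβ]
  by_cases h0 : wt a M x.1 * wt b N x.2 = 0
  · rw [← mul_assoc, h0, zero_mul, ite_self]
  · have h1 : ringKrullDim (X.presheaf.stalk ζ ⧸ x.1.asIdeal) = (a : WithBot ℕ∞) := by
      by_contra hc
      apply left_ne_zero_of_mul h0
      unfold wt
      rw [if_neg hc]
    have h2 : ringKrullDim (X.presheaf.stalk ζ ⧸ x.2.asIdeal) = (b : WithBot ℕ∞) := by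
      by_contra hc
      apply right_ne_zero_of_mul h0
      unfold wt
      rw [if_neg hc]
    obtain ⟨k1, hk1, hk1'⟩ := delta_gen δ hδ ζ x.1
    obtain ⟨k2, hk2, hk2'⟩ := delta_gen δ hδ ζ x.2
    rw [hk1'] at h1
    rw [hk2'] at h2
    have e1 : k1 = a := by exact_mod_cast h1
    have e2 : k2 = b := by exact_mod_cast h2
    rw [if_pos (by rw [hk1, hk2]; omega), mul_assoc]

end Groth.Agent.Lib.helper2.DevSch
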