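import Groth.Agent.Lib.Helper2.DevSch10
import Groth.Agent.Lib.Helper16.CycClosed1

/-!
# helper2: the fundamental cycle of a closed subscheme near a point, through the local ring
-/

set_option autoImplicit false
universe u
open CategoryTheory CategoryTheory.Limits AlgebraicGeometry TopologicalSpace Opposite IsLocalRing
  TensorProduct

namespace Groth.Agent.Lib.helper2.DevSch

open Groth.Agent.Lib.helper16.OrdGen Groth.Agent.Lib.helper16.GenFib
  Groth.Agent.Lib.helper16.DivSum Groth.Agent.Lib.helper16.StalkLoc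
  Groth.Agent.Lib.helper16.CohStalk Groth.Agent.Lib.helper16.FinDeg
  Groth.Agent.Lib.helper16.CycClosed
  Groth.Agent.Lib.helper26.HS Groth.Agent.Lib.helper2.Dev Groth.Agent.Lib.helper2.Aus

variable {X Y : Scheme.{u}} (ι : Y ⟶ X) [IsClosedImmersion ι]

/-- the kernel of the stalk map of a closed immersion is compatible with generization. -/
theorem ker_stalkMap_generization {y y' : Y} (h' : y' ⤳ y) (h : ι y' ⤳ ι y) :
    RingHom.ker (ι.stalkMap y').hom =
      (RingHom.ker (ι.stalkMap y).hom).map (X.presheaf.stalkSpecializes h).hom := by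
  have hnat : ∀ b : X.presheaf.stalk (ι y),
      (ι.stalkMap y').hom ((X.presheaf.stalkSpecializes h).hom b) =
        (Y.presheaf.stalkSpecializes h').hom ((ι.stalkMap y).hom b) := fun b =>
    Scheme.Hom.stalkSpecializes_stalkMap_apply ι y' y h' b
  apply le_antisymm
  · intro a ha
    rw [RingHom.mem_ker] at ha
    letI := (X.presheaf.stalkSpecializes h).hom.toAlgebra
    haveI := isLocalization_stalkSpecializes h
    letI := (Y.presheaf.stalkSpecializes h').hom.toAlgebra
    haveI := isLocalization_stalkSpecializes h'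
    obtain ⟨b, s, rfl⟩ := IsLocalization.exists_mk'_eq (pOf h).primeCompl a
    have h1 : (ι.stalkMap y').hom
        (algebraMap (X.presheaf.stalk (ι y)) (X.presheaf.stalk (ι y')) b) = 0 := by
      rw [← IsLocalization.mk'_spec' (X.presheaf.stalk (ι y')) b s, map_mul, ha, mul_zero]
    have h2 : algebraMap (Y.presheaf.stalk y) (Y.presheaf.stalk y') ((ι.stalkMap y).hom b) = 0 := by
      rw [← h1]
      exact (hnat b).symm
    obtain ⟨t', ht'⟩ := (IsLocalization.map_eq_zero_iff (pOf h').primeCompl
      (Y.presheaf.stalk y') _).1 h2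
    obtain ⟨t, ht⟩ := ι.stalkMap_surjective y t'.1
    have htP : t ∈ (pOf h).primeCompl := by
      intro hmem
      have hmem2 : t ∈ (pOf h').comap (ι.stalkMap y).hom := by
        rw [comap_pOf ι h' h]
        exact hmem
      have hmem3 : (ι.stalkMap y).hom t ∈ pOf h' := hmem2
      rw [show (ι.stalkMap y).hom t = t'.1 from ht] at hmem3
      exact t'.2 hmem3
    refine (IsLocalization.mk'_mem_map_algebraMap_iff (pOf h).primeCompl
      (X.presheaf.stalk (ι y')) _ b s).2 ⟨t, htP, ?_⟩
    rw [RingHom.mem_ker, map_mul, ht]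
    exact ht'
  · rw [Ideal.map_le_iff_le_comap]
    intro b hb
    rw [RingHom.mem_ker] at hb
    rw [Ideal.mem_comap, RingHom.mem_ker, hnat b, hb, map_zero]

/-- a generization of `ι y` whose prime contains the kernel of the stalk map comes from `Y`. -/
theorem exists_preimage_of_ker_le {y : Y} {ξ : X} (h : ξ ⤳ ι y)
    (hle : RingHom.ker (ι.stalkMap y).hom ≤ pOf h) : ∃ y' : Y, y' ⤳ y ∧ ι y' = ξ := by
  have hsurj := ι.stalkMap_surjective y
  haveI hprime : ((pOf h).map (ι.stalkMap y).hom).IsPrime :=
    Ideal.map_isPrime_of_surjective hsurj hle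
  have hcomap : ((pOf h).map (ι.stalkMap y).hom).comap (ι.stalkMap y).hom = pOf h := by
    rw [Ideal.comap_map_of_surjective _ hsurj]
    exact sup_eq_left.2 hle
  set P' : PrimeSpectrum (Y.presheaf.stalk y) := ⟨(pOf h).map (ι.stalkMap y).hom, hprime⟩
  refine ⟨Y.fromSpecStalk y P', specializes_fromSpecStalk y P', ?_⟩
  have h' := specializes_fromSpecStalk y P'
  have h₂ : ι (Y.fromSpecStalk y P') ⤳ ι y := ι.base.hom.map_specializes h'
  have e1 : pOf h₂ = pOf h := by
    rw [← comap_pOf ι h' h₂, pOf_fromSpecStalk]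
    exact hcomap
  rw [← fromSpecStalk_pOf h₂, ← fromSpecStalk_pOf h]
  congr 1
  exact PrimeSpectrum.ext e1

theorem ker_le_pOf_of_specializes {y y' : Y} (h' : y' ⤳ y) (h : ι y' ⤳ ι y) :
    RingHom.ker (ι.stalkMap y).hom ≤ pOf h := by
  rw [← comap_pOf ι h' h]
  intro a ha
  rw [Ideal.mem_comap, RingHom.mem_ker.1 ha]
  exact zero_mem _

/-- the length of the local ring of `Y` at a generization, through the local ring of `X`. -/
theorem length_stalk_closedImmersion {y y' : Y} (h' : y' ⤳ y) (h : ι y' ⤳ ι y) :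
    Module.length (Y.presheaf.stalk y') (Y.presheaf.stalk y') =
      locLen (X.presheaf.stalk (ι y) ⧸ RingHom.ker (ι.stalkMap y).hom) (pr h) := by
  have e : (X.presheaf.stalk (ι y') ⧸ RingHom.ker (ι.stalkMap y').hom) ≃+* Y.presheaf.stalk y' :=
    RingHom.quotientKerEquivOfSurjective (ι.stalkMap_surjective y')
  rw [← length_self_ringEquiv e]
  have hcongr : ∀ (J J' : Ideal (X.presheaf.stalk (ι y'))), J = J' →
      Module.length (X.presheaf.stalk (ι y') ⧸ J) (X.presheaf.stalk (ι y') ⧸ J) =
        Module.length (X.presheaf.stalk (ι y') ⧸ J') (X.presheaf.stalk (ι y') ⧸ J') := by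
    intro J J' hJ
    subst hJ
    rfl
  rw [hcongr _ _ (ker_stalkMap_generization ι h' h), length_stalk_quot_eq h,
    ← length_quotient_self]
  exact (locLen_quot_eq (pOf h) _).symm

open Classical in
/-- **Dictionary**: the fundamental cycle of a closed subscheme at the generizations of a point
of the subscheme. -/
theorem subschemeFun_generization (δ : X → ℤ) (k : ℤ) (y : Y) {ξ : X} (h : ξ ⤳ ι y) :
    Cyc.subschemeFun δ k ι ξ = if δ ξ = k then
      ((locLen (X.presheaf.stalk (ι y) ⧸ RingHom.ker (ι.stalkMap y).hom) (pr h)).toNat : ℤ)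
      else 0 := by
  have hinj : Function.Injective ι := ι.isClosedEmbedding.injective
  by_cases hk : δ ξ = k
  swap
  · rw [if_neg hk]
    unfold Cyc.subschemeFun
    rw [if_neg hk]
  rw [if_pos hk]
  by_cases hξ : ξ ∈ Set.range ι
  · obtain ⟨y', rfl⟩ := hξ
    have h' : y' ⤳ y := (specializes_iff_closedImmersion ι y y').1 h
    unfold Cyc.subschemeFun
    rw [if_pos hk]
    have hset : {z : Y | ι z = ι y'} = {y'} := by
      ext z
      simp only [Set.mem_ofPred_eq, Set.mem_singleton_iff]
      exact hinj.eq_iff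
    rw [hset, finsum_mem_singleton, length_stalk_closedImmersion ι h' h]
  · have h0 : Cyc.subschemeFun δ k ι ξ = 0 := by
      unfold Cyc.subschemeFun
      rw [if_pos hk]
      have hset : {z : Y | ι z = ξ} = ∅ := by
        ext z
        simp only [Set.mem_ofPred_eq, Set.mem_empty_iff_false, iff_false]
        intro hz
        exact hξ ⟨z, hz⟩
      rw [hset, finsum_mem_empty]
    rw [h0]
    have hnot : pr h ∉ Module.support (X.presheaf.stalk (ι y))
        (X.presheaf.stalk (ι y) ⧸ RingHom.ker (ι.stalkMap y).hom) := by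
      intro hmem
      obtain ⟨y', -, hy'⟩ := exists_preimage_of_ker_le ι h (le_of_mem_support_quot _ _ hmem)
      exact hξ ⟨y', hy'⟩
    rw [locLen_eq_zero_iff.2 hnot]
    rfl

end Groth.Agent.Lib.helper2.DevSch
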