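import Groth.Agent.Lib.Helper2.IM11
import Groth.Agent.Lib.Helper2.IM6
import Groth.Agent.Lib.Helper15.Regular
import Groth.Agent.Lib.Helper24.CplCatenary

/-!
# helper2: two primes of a regular local ring meeting transversally
-/

universe u

open IsLocalRing RingTheory.Sequence

namespace Groth.Agent.Lib.helper2.IM

variable {R : Type u} [CommRing R]

theorem maximalIdeal_quotient_eq_map [IsLocalRing R] (P : Ideal R) [IsLocalRing (R ⧸ P)] :
    maximalIdeal (R ⧸ P) = (maximalIdeal R).map (Ideal.Quotient.mk P) := by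
  apply le_antisymm
  · intro y hy
    obtain ⟨x, rfl⟩ := Ideal.Quotient.mk_surjective y
    apply Ideal.mem_map_of_mem
    rw [mem_maximalIdeal, mem_nonunits_iff] at hy ⊢
    exact fun hx => hy (hx.map _)
  · rw [Ideal.map_le_iff_le_comap]
    intro x hx
    rw [Ideal.mem_comap, mem_maximalIdeal, mem_nonunits_iff]
    intro hu
    haveI : IsLocalHom (Ideal.Quotient.mk P) :=
      IsLocalHom.of_surjective _ Ideal.Quotient.mk_surjective
    exact hx (isUnit_of_map_unit (Ideal.Quotient.mk P) x hu)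

/-- `μ(m_{R/P}) ≤ |T|` when `m = (S)` and every element of `S` outside `T` lies in `P`. -/
theorem spanFinrank_maximalIdeal_quotient_le [IsLocalRing R] [IsNoetherianRing R] (P : Ideal R)
    [IsLocalRing (R ⧸ P)] (S T : Finset R) (hS : Ideal.span (S : Set R) = maximalIdeal R)
    (hTS : T ⊆ S) (hST : ∀ x ∈ S, x ∈ P ∨ x ∈ T) :
    (maximalIdeal (R ⧸ P)).spanFinrank ≤ T.card := by
  classical
  have h1 : maximalIdeal (R ⧸ P) =
      Ideal.span ((T.image (Ideal.Quotient.mk P) : Finset (R ⧸ P)) : Set (R ⧸ P)) := by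
    rw [maximalIdeal_quotient_eq_map, ← hS, Ideal.map_span]
    apply le_antisymm
    · rw [Ideal.span_le]
      rintro _ ⟨x, hx, rfl⟩
      rcases hST x hx with h | h
      · rw [Ideal.Quotient.eq_zero_iff_mem.2 h]
        exact zero_mem _
      · apply Ideal.subset_span
        rw [Finset.coe_image]
        exact ⟨x, h, rfl⟩
    · rw [Ideal.span_le]
      intro y hy
      rw [Finset.coe_image] at hy
      obtain ⟨x, hx, rfl⟩ := hy
      exact Ideal.subset_span ⟨x, hTS hx, rfl⟩
  rw [h1]
  calc (Ideal.span ((T.image (Ideal.Quotient.mk P) : Finset (R ⧸ P)) : Set (R ⧸ P))).spanFinrank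
      ≤ ((T.image (Ideal.Quotient.mk P) : Finset (R ⧸ P)) : Set (R ⧸ P)).ncard :=
        Submodule.spanFinrank_span_le_ncard_of_finite (Finset.finite_toSet _)
    _ = (T.image (Ideal.Quotient.mk P)).card := Set.ncard_coe_finset _
    _ ≤ T.card := Finset.card_image_le

end Groth.Agent.Lib.helper2.IM

namespace Groth.Agent.Lib.helper2.IM

variable {R : Type u} [CommRing R]

theorem regular_of_sup_eq_maximalIdeal [IsRegularLocalRing R] (P Q : Ideal R)
    [IsLocalRing (R ⧸ P)] [IsLocalRing (R ⧸ Q)]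
    (hPQ : P ⊔ Q = maximalIdeal R) (v w a : ℕ) (ha : ringKrullDim R = a)
    (hv : ringKrullDim (R ⧸ P) = v) (hw : ringKrullDim (R ⧸ Q) = w) (hdim : a ≤ v + w) :
    IsRegularLocalRing (R ⧸ P) ∧ IsRegularLocalRing (R ⧸ Q) ∧ v + w = a := by
  classical
  obtain ⟨SP, hSP⟩ := (isNoetherianRing_iff_ideal_fg R).1 inferInstance P
  obtain ⟨SQ, hSQ⟩ := (isNoetherianRing_iff_ideal_fg R).1 inferInstance Q
  have hS : Ideal.span ((SP ∪ SQ : Finset R) : Set R) = maximalIdeal R := by
    rw [Finset.coe_union, Ideal.span_union, hSP, hSQ, hPQ]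
  obtain ⟨S', hS'sub, hS'card, hS'span⟩ := exists_subset_card_eq_spanFinrank (SP ∪ SQ) hS
  have hμ : (maximalIdeal R).spanFinrank = a := by
    have := IsRegularLocalRing.spanFinrank_maximalIdeal (R := R)
    rw [ha] at this
    exact_mod_cast this
  rw [hμ] at hS'card
  have hmemP : ∀ x ∈ SP, x ∈ P := fun x hx => hSP ▸ Ideal.subset_span hx
  have hmemQ : ∀ x ∈ SQ, x ∈ Q := fun x hx => hSQ ▸ Ideal.subset_span hx
  set TQ := S'.filter (· ∉ P) with hTQ
  set TP := S'.filter (· ∈ P) with hTP
  have hcard : TP.card + TQ.card = a := by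
    rw [← hS'card]
    exact Finset.card_filter_add_card_filter_not (· ∈ P)
  have h1 : (maximalIdeal (R ⧸ P)).spanFinrank ≤ TQ.card :=
    spanFinrank_maximalIdeal_quotient_le P S' TQ hS'span (Finset.filter_subset _ _)
      (fun x hx => by
        by_cases h : x ∈ P
        · exact Or.inl h
        · exact Or.inr (Finset.mem_filter.2 ⟨hx, h⟩))
  have h2 : (maximalIdeal (R ⧸ Q)).spanFinrank ≤ TP.card :=
    spanFinrank_maximalIdeal_quotient_le Q S' TP hS'span (Finset.filter_subset _ _)
      (fun x hx => by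
        by_cases h : x ∈ P
        · exact Or.inr (Finset.mem_filter.2 ⟨hx, h⟩)
        · left
          rcases Finset.mem_union.1 (hS'sub hx) with h' | h'
          · exact absurd (hmemP x h') h
          · exact hmemQ x h')
  have h3 := ringKrullDim_le_spanFinrank_maximalIdeal (R ⧸ P)
  have h4 := ringKrullDim_le_spanFinrank_maximalIdeal (R ⧸ Q)
  rw [hv] at h3
  rw [hw] at h4
  have h3' : v ≤ (maximalIdeal (R ⧸ P)).spanFinrank := by exact_mod_cast h3
  have h4' : w ≤ (maximalIdeal (R ⧸ Q)).spanFinrank := by exact_mod_cast h4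
  refine ⟨?_, ?_, by omega⟩
  · apply IsRegularLocalRing.of_spanFinrank_maximalIdeal_le
    rw [hv]
    have : (maximalIdeal (R ⧸ P)).spanFinrank ≤ v := by omega
    exact_mod_cast this
  · apply IsRegularLocalRing.of_spanFinrank_maximalIdeal_le
    rw [hw]
    have : (maximalIdeal (R ⧸ Q)).spanFinrank ≤ w := by omega
    exact_mod_cast this

end Groth.Agent.Lib.helper2.IM

namespace Groth.Agent.Lib.helper2.IM

variable {R : Type u} [CommRing R]

theorem take_ofFn_castLE {α : Type*} {d c : ℕ} (hc : c ≤ d) (x : Fin d → α) :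
    (List.ofFn x).take c = List.ofFn (fun i : Fin c => x (Fin.castLE hc i)) := by
  apply List.ext_getElem
  · simp [hc]
  · intro i h1 h2
    simp

theorem chi_eq_one_of_regular [IsRegularLocalRing R] (P Q : Ideal R)
    [IsRegularLocalRing (R ⧸ P)] [IsRegularLocalRing (R ⧸ Q)]
    (hPQ : P ⊔ Q = maximalIdeal R) (v w a : ℕ) (ha : ringKrullDim R = a)
    (hv : ringKrullDim (R ⧸ P) = v) (hw : ringKrullDim (R ⧸ Q) = w) (hsum : v + w = a) :
    IntMult.chi R (R ⧸ Q) (R ⧸ P) = 1 := by
  have hμ : (maximalIdeal R).spanFinrank = a := by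
    have := IsRegularLocalRing.spanFinrank_maximalIdeal (R := R)
    rw [ha] at this
    exact_mod_cast this
  obtain ⟨x, c, hc, hxm, hxP⟩ :=
    Groth.Agent.Lib.helper15.exists_generators_of_regular_quotient R a hμ P
  set l := List.ofFn (fun i : Fin c => x (Fin.castLE hc i)) with hl
  have hlR : IsWeaklyRegular R l := by
    have h1 := Groth.Agent.Lib.helper15.isWeaklyRegular_ofFn R a hμ x hxm
    rw [← List.take_append_drop c (List.ofFn x), isWeaklyRegular_append_iff] at h1
    rw [hl, ← take_ofFn_castLE hc x]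
    exact h1.1
  have hP : P = Ideal.span {b | b ∈ l} := by
    rw [hxP]
    congr 1
    ext b
    simp [hl, List.mem_ofFn]
  have hPtop : P ≠ ⊤ := by
    intro h
    have : Nontrivial (R ⧸ P) := inferInstance
    exact (Ideal.Quotient.nontrivial_iff.1 this) h
  have hPm : P ≤ maximalIdeal R := IsLocalRing.le_maximalIdeal hPtop
  have hmem : ∀ r ∈ l, r ∈ maximalIdeal R := fun r hr => hPm (hP ▸ Ideal.subset_span hr)
  have hreg : IsRegular R l := by
    refine ⟨hlR, ?_⟩
    rw [Ideal.smul_top_eq_map, Algebra.algebraMap_self, Ideal.map_id]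
    intro h
    apply hPtop
    rw [hP]
    exact (Submodule.restrictScalars_eq_top_iff _ _ _).1 h.symm
  have h1 := ringKrullDim_add_length_eq_ringKrullDim_of_isRegular l hreg
  have hlen : l.length = c := by rw [hl, List.length_ofFn]
  rw [show Ideal.ofList l = P from hP.symm, hv, ha, hlen] at h1
  have h1' : v + c = a := by exact_mod_cast h1
  have hcw : c = w := by omega
  have hCM : LocCoh.IsCohenMacaulayLocalRing (R ⧸ Q) :=
    { supportDim_eq_depth :=
        Groth.Agent.Lib.Helper24.CplCatenary.isCohenMacaulayModule_of_isRegularLocalRing (R ⧸ Q) }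
  have hQP : Q ⊔ P = maximalIdeal R := by rw [sup_comm, hPQ]
  have hdim0 : ringKrullDim (R ⧸ (Q ⊔ Ideal.ofList l)) = 0 := by
    rw [show Ideal.ofList l = P from hP.symm, hQP]
    exact ringKrullDim_eq_zero_of_isField
      ((Ideal.Quotient.maximal_ideal_iff_isField_quotient _).1 (maximalIdeal.isMaximal R))
  have hJ : IsWeaklyRegular (R ⧸ Q) l := by
    apply isWeaklyRegular_quot_of_cm Q l hmem hCM
    rw [hdim0, zero_add, hw, hlen, hcw]
  rw [chi_eq_length_of_isWeaklyRegular Q P l hP hlR hmem hJ, hQP]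
  have : Module.length R (R ⧸ maximalIdeal R) = 1 := by
    rw [Module.length_eq_one_iff, isSimpleModule_iff_isCoatom, ← Ideal.isMaximal_def]
    exact maximalIdeal.isMaximal R
  rw [this]
  rfl

end Groth.Agent.Lib.helper2.IM
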