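import Groth.Agent.Lib.Helper2.DevSch11
import Groth.Agent.Lib.Helper16.CIPull2
import Groth.Agent.Lib.Helper2.IM12

/-!
# helper2: transversal intersections have multiplicity one (S1954)
-/

set_option autoImplicit false
universe u
open CategoryTheory CategoryTheory.Limits AlgebraicGeometry TopologicalSpace Opposite IsLocalRing
  TensorProduct

namespace Groth.Agent.Lib.helper2.DevSch

open Groth.Agent.Lib.helper16.OrdGen Groth.Agent.Lib.helper16.GenFib
  Groth.Agent.Lib.helper16.DivSum Groth.Agent.Lib.helper16.StalkLoc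
  Groth.Agent.Lib.helper16.CohStalk Groth.Agent.Lib.helper16.FinDeg
  Groth.Agent.Lib.helper16.CycClosed Groth.Agent.Lib.helper16.CIPull
  Groth.Agent.Lib.helper26.HS Groth.Agent.Lib.helper2.Dev Groth.Agent.Lib.helper2.Aus

variable {X Y Z : Scheme.{u}}

/-- the ideal of a closed subscheme in the local ring of `X` at a point `x = ι y`. -/
noncomputable def ciK (ι : Y ⟶ X) (y : Y) (x : X) (hx : x = ι y) : Ideal (X.presheaf.stalk x) :=
  (RingHom.ker (ι.stalkMap y).hom).map (X.presheaf.stalkSpecializes (specializes_of_eq hx)).hom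

theorem ciK_rfl (ι : Y ⟶ X) (y : Y) : ciK ι y (ι y) rfl = RingHom.ker (ι.stalkMap y).hom := by
  unfold ciK
  have : X.presheaf.stalkSpecializes (specializes_of_eq (rfl : ι y = ι y)) = 𝟙 _ :=
    TopCat.Presheaf.stalkSpecializes_refl _ _
  rw [this]
  exact Ideal.map_id _

open Classical in
/-- the local package of a closed immersion at a point `x = ι y`. -/
theorem ci_package (ι : Y ⟶ X) [IsClosedImmersion ι] (δ : X → ℤ) (y : Y) (x : X) (hx : x = ι y) :
    Nonempty (Y.presheaf.stalk y ≃+* X.presheaf.stalk x ⧸ ciK ι y x hx) ∧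
    (∀ (k : ℤ) (ξ : X) (h : ξ ⤳ x), Cyc.subschemeFun δ k ι ξ = if δ ξ = k then
      ((locLen (X.presheaf.stalk x ⧸ ciK ι y x hx) (pr h)).toNat : ℤ) else 0) ∧
    (∀ P : PrimeSpectrum (X.presheaf.stalk x), ciK ι y x hx ≤ P.asIdeal →
      X.fromSpecStalk x P ∈ Set.range ι) := by
  subst hx
  rw [ciK_rfl]
  refine ⟨⟨(RingHom.quotientKerEquivOfSurjective (ι.stalkMap_surjective y)).symm⟩,
    fun k ξ h => subschemeFun_generization ι δ k y h, fun P hP => ?_⟩
  have h := specializes_fromSpecStalk (ι y) P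
  obtain ⟨y', -, hy'⟩ := exists_preimage_of_ker_le ι h (by rw [pOf_fromSpecStalk]; exact hP)
  exact ⟨y', hy'⟩

/-- if the scheme-theoretic intersection has a local ring of length one at `w`, the two ideals
generate the maximal ideal. -/
theorem ciK_sup_ciK (ιY : Y ⟶ X) (ιZ : Z ⟶ X) [IsClosedImmersion ιY] [IsClosedImmersion ιZ]
    (w : ↥(pullback ιY ιZ))
    (hlen : Module.length ((pullback ιY ιZ).presheaf.stalk w)
      ((pullback ιY ιZ).presheaf.stalk w) = 1) :
    ciK ιY (pullback.fst ιY ιZ w) (ιY (pullback.fst ιY ιZ w)) rfl ⊔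
      ciK ιZ (pullback.snd ιY ιZ w) (ιY (pullback.fst ιY ιZ w))
        (apply_fst_eq_apply_snd ιY ιZ w) =
      maximalIdeal (X.presheaf.stalk (ιY (pullback.fst ιY ιZ w))) := by
  set y₀ := pullback.fst ιY ιZ w with hy₀
  set z₀ := pullback.snd ιY ιZ w with hz₀
  set ψ := (ιY.stalkMap y₀).hom with hψ
  have hsurj : Function.Surjective ψ := ιY.stalkMap_surjective y₀
  set χ := ((pullback.fst ιY ιZ).stalkMap w).hom with hχ
  -- the local ring of the intersection is a field
  have hsimple : IsSimpleModule ((pullback ιY ιZ).presheaf.stalk w)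
      ((pullback ιY ιZ).presheaf.stalk w) := Module.length_eq_one_iff.1 hlen
  have hmW : maximalIdeal ((pullback ιY ιZ).presheaf.stalk w) = ⊥ := by
    rcases eq_bot_or_eq_top (maximalIdeal ((pullback ιY ιZ).presheaf.stalk w)) with h | h
    · exact h
    · exact absurd h (IsLocalRing.maximalIdeal.isMaximal _).ne_top
  have hkerχ : RingHom.ker χ = maximalIdeal (Y.presheaf.stalk y₀) := by
    apply le_antisymm
    · intro a ha
      rw [mem_maximalIdeal, mem_nonunits_iff]
      intro hu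
      have h1 : IsUnit (χ a) := hu.map _
      rw [RingHom.mem_ker.1 ha] at h1
      exact not_isUnit_zero h1
    · intro a ha
      rw [RingHom.mem_ker]
      have h1 : χ a ∈ maximalIdeal ((pullback ιY ιZ).presheaf.stalk w) := by
        rw [mem_maximalIdeal, mem_nonunits_iff] at ha ⊢
        intro hu
        exact ha (isUnit_of_map_unit χ a hu)
      rw [hmW] at h1
      exact h1
  have hKZ : (ciK ιZ z₀ (ιY y₀) (apply_fst_eq_apply_snd ιY ιZ w)).map ψ =
      maximalIdeal (Y.presheaf.stalk y₀) := by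
    rw [← hkerχ, hχ, ker_stalkMap_fst ιY ιZ w]
    unfold ciK baseMap
    rw [Ideal.map_map, CommRingCat.hom_comp]
  rw [ciK_rfl]
  have hlh : IsLocalHom ψ := inferInstanceAs (IsLocalHom (ιY.stalkMap y₀).hom)
  have hloc : (maximalIdeal (Y.presheaf.stalk y₀)).comap ψ =
      maximalIdeal (X.presheaf.stalk (ιY y₀)) :=
    ((IsLocalRing.local_hom_TFAE ψ).out 0 4).1 hlh
  calc RingHom.ker ψ ⊔ ciK ιZ z₀ (ιY y₀) (apply_fst_eq_apply_snd ιY ιZ w)
      = ((ciK ιZ z₀ (ιY y₀) (apply_fst_eq_apply_snd ιY ιZ w)).map ψ).comap ψ := by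
        rw [Ideal.comap_map_of_surjective ψ hsurj, sup_comm]
        rfl
    _ = (maximalIdeal (Y.presheaf.stalk y₀)).comap ψ := by rw [hKZ]
    _ = maximalIdeal (X.presheaf.stalk (ιY y₀)) :=
        hloc

open Classical in
set_option maxHeartbeats 1600000 in
/-- S1954: at a point where the scheme-theoretic intersection of two closed subschemes of a
smooth variety has length one, the intersection product of their fundamental cycles has
coefficient one and both subschemes are regular there. -/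
theorem interProd_eq_one_of_mult_one (K : Type u) [Field K] (f : X ⟶ Spec (CommRingCat.of K))
    [Smooth f] [IsIntegral X] (δ : X → ℤ) (hX : Cyc.IsSetup X δ) (n : ℤ)
    (hn : δ (genericPoint X) = n) (ιY : Y ⟶ X) (ιZ : Z ⟶ X) [IsClosedImmersion ιY]
    [IsClosedImmersion ιZ] (r s : ℤ) (hY : ∀ y : Y, δ (ιY y) ≤ r) (hZ : ∀ z : Z, δ (ιZ z) ≤ s)
    (τ : X) (hτ : δ τ = r + s - n)
    (hξ : ∃ ξ η : X, Cyc.subschemeFun δ r ιY ξ ≠ 0 ∧ Cyc.subschemeFun δ s ιZ η ≠ 0 ∧
      ξ ⤳ τ ∧ η ⤳ τ)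
    (hmult : Cyc.subschemeFun δ (r + s - n) (pullback.fst ιY ιZ ≫ ιY) τ = 1) :
    IntMult.interProd δ n (Cyc.subschemeFun δ r ιY) (Cyc.subschemeFun δ s ιZ) τ = 1 ∧
      (∀ y : Y, ιY y = τ → IsRegularLocalRing (Y.presheaf.stalk y)) ∧
      (∀ z : Z, ιZ z = τ → IsRegularLocalRing (Z.presheaf.stalk z)) := by
  have hdδ := hX.2.2
  haveI : IsLocallyNoetherian X := hX.1
  -- the point of the intersection over `τ`
  have hinjW : Function.Injective (pullback.fst ιY ιZ ≫ ιY) :=
    (pullback.fst ιY ιZ ≫ ιY).isClosedEmbedding.injective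
  unfold Cyc.subschemeFun at hmult
  rw [if_pos hτ] at hmult
  obtain ⟨w, hw, hwne⟩ := exists_ne_zero_of_finsum_mem_ne_zero
    (by rw [hmult]; exact one_ne_zero)
  have hset : {z : ↥(pullback ιY ιZ) | (pullback.fst ιY ιZ ≫ ιY) z = τ} = {w} := by
    ext w'
    constructor
    · intro hw'
      exact hinjW (hw'.trans hw.symm)
    · intro hw'
      rw [Set.mem_singleton_iff] at hw'
      rw [hw']
      exact hw
  rw [hset, finsum_mem_singleton] at hmult
  have hlen : Module.length ((pullback ιY ιZ).presheaf.stalk w)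
      ((pullback ιY ιZ).presheaf.stalk w) = 1 := by
    have h1 : (Module.length ((pullback ιY ιZ).presheaf.stalk w)
      ((pullback ιY ιZ).presheaf.stalk w)).toNat = 1 := by exact_mod_cast hmult
    exact (ENat.toNat_eq_iff one_ne_zero).1 h1
  have hτw : ιY (pullback.fst ιY ιZ w) = τ := hw
  subst hτw
  set y₀ := pullback.fst ιY ιZ w with hy₀
  set z₀ := pullback.snd ιY ιZ w with hz₀
  have eZ : ιY y₀ = ιZ z₀ := apply_fst_eq_apply_snd ιY ιZ w
  have hsup := ciK_sup_ciK ιY ιZ w hlen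
  obtain ⟨⟨eY⟩, hdictY, hrangeY⟩ := ci_package ιY δ y₀ (ιY y₀) rfl
  obtain ⟨⟨eZ'⟩, hdictZ, hrangeZ⟩ := ci_package ιZ δ z₀ (ιY y₀) eZ
  set KY := ciK ιY y₀ (ιY y₀) rfl with hKY
  set KZ := ciK ιZ z₀ (ιY y₀) eZ with hKZ
  -- dimensions
  obtain ⟨d, hd1, hd2⟩ := dim_stalk_eq δ hdδ (ιY y₀)
  rw [hn] at hd1
  obtain ⟨ξ, η, hξne, hηne, hξτ, hητ⟩ := hξ
  have hξr : δ ξ = r := by
    by_contra hc
    apply hξne
    unfold Cyc.subschemeFun
    rw [if_neg hc]
  have hηs : δ η = s := by
    by_contra hc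
    apply hηne
    unfold Cyc.subschemeFun
    rw [if_neg hc]
  obtain ⟨v, hv1, hv2⟩ := delta_eq_add_dim δ hdδ hξτ
  obtain ⟨w', hw1, hw2⟩ := delta_eq_add_dim δ hdδ hητ
  have hvw : v + w' = d := by omega
  have hKYle : KY ≤ pOf hξτ := by
    have h1 := hdictY r ξ hξτ
    rw [if_pos hξr] at h1
    have h2 : pr hξτ ∈ Module.support (X.presheaf.stalk (ιY y₀))
        (X.presheaf.stalk (ιY y₀) ⧸ KY) := by
      by_contra hc
      apply hξne
      rw [h1, locLen_eq_zero_iff.2 hc]
      rfl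
    exact le_of_mem_support_quot _ _ h2
  have hKZle : KZ ≤ pOf hητ := by
    have h1 := hdictZ s η hητ
    rw [if_pos hηs] at h1
    have h2 : pr hητ ∈ Module.support (X.presheaf.stalk (ιY y₀))
        (X.presheaf.stalk (ιY y₀) ⧸ KZ) := by
      by_contra hc
      apply hηne
      rw [h1, locLen_eq_zero_iff.2 hc]
      rfl
    exact le_of_mem_support_quot _ _ h2
  have hdimY_le : Module.supportDim (X.presheaf.stalk (ιY y₀))
      (X.presheaf.stalk (ιY y₀) ⧸ KY) ≤ (v : WithBot ℕ∞) := by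
    refine supportDim_le_of_forall _ v (fun P hP => ?_)
    obtain ⟨y', hy'⟩ := hrangeY P (le_of_mem_support_quot _ _ hP)
    obtain ⟨k, hk1, hk2⟩ := delta_gen δ hdδ (ιY y₀) P
    have h3 := hY y'
    rw [hy'] at h3
    rw [hk2]
    have : k ≤ v := by omega
    exact_mod_cast this
  have hdimZ_le : Module.supportDim (X.presheaf.stalk (ιY y₀))
      (X.presheaf.stalk (ιY y₀) ⧸ KZ) ≤ (w' : WithBot ℕ∞) := by
    refine supportDim_le_of_forall _ w' (fun P hP => ?_)
    obtain ⟨z', hz'⟩ := hrangeZ P (le_of_mem_support_quot _ _ hP)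
    obtain ⟨k, hk1, hk2⟩ := delta_gen δ hdδ (ιY y₀) P
    have h3 := hZ z'
    rw [hz'] at h3
    rw [hk2]
    have : k ≤ w' := by omega
    exact_mod_cast this
  have hdimY : ringKrullDim (X.presheaf.stalk (ιY y₀) ⧸ KY) = (v : WithBot ℕ∞) := by
    apply le_antisymm
    · rw [← Module.supportDim_quotient_eq_ringKrullDim]
      exact hdimY_le
    · rw [← hv2]
      exact ringKrullDim_le_of_surjective (Ideal.Quotient.factor hKYle)
        (Ideal.Quotient.factor_surjective hKYle)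
  have hdimZ : ringKrullDim (X.presheaf.stalk (ιY y₀) ⧸ KZ) = (w' : WithBot ℕ∞) := by
    apply le_antisymm
    · rw [← Module.supportDim_quotient_eq_ringKrullDim]
      exact hdimZ_le
    · rw [← hw2]
      exact ringKrullDim_le_of_surjective (Ideal.Quotient.factor hKZle)
        (Ideal.Quotient.factor_surjective hKZle)
  -- local rings
  have hKYtop : KY ≠ ⊤ := fun h =>
    (inferInstance : (pOf hξτ).IsPrime).ne_top (top_le_iff.1 (h ▸ hKYle))
  have hKZtop : KZ ≠ ⊤ := fun h =>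
    (inferInstance : (pOf hητ).IsPrime).ne_top (top_le_iff.1 (h ▸ hKZle))
  haveI : Nontrivial (X.presheaf.stalk (ιY y₀) ⧸ KY) := Ideal.Quotient.nontrivial_iff.mpr hKYtop
  haveI : Nontrivial (X.presheaf.stalk (ιY y₀) ⧸ KZ) := Ideal.Quotient.nontrivial_iff.mpr hKZtop
  haveI : IsLocalRing (X.presheaf.stalk (ιY y₀) ⧸ KY) :=
    IsLocalRing.of_surjective' (Ideal.Quotient.mk KY) Ideal.Quotient.mk_surjective
  haveI : IsLocalRing (X.presheaf.stalk (ιY y₀) ⧸ KZ) :=
    IsLocalRing.of_surjective' (Ideal.Quotient.mk KZ) Ideal.Quotient.mk_surjective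
  obtain ⟨hreg, -⟩ := Groth.Agent.Lib.helper2.Diag.stalk_package f (ιY y₀)
  haveI := hreg
  obtain ⟨hregY, hregZ, -⟩ := Groth.Agent.Lib.helper2.IM.regular_of_sup_eq_maximalIdeal KY KZ hsup
    v w' d hd2 hdimY hdimZ (by omega)
  haveI := hregY
  haveI := hregZ
  have hchi := Groth.Agent.Lib.helper2.IM.chi_eq_one_of_regular KY KZ hsup v w' d hd2 hdimY hdimZ
    hvw
  -- the support condition
  have hS : SuppCond (X.presheaf.stalk (ιY y₀)) (X.presheaf.stalk (ιY y₀) ⧸ KY)
      (X.presheaf.stalk (ιY y₀) ⧸ KZ) := by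
    intro Q hQ
    rw [Ideal.annihilator_quotient, Ideal.annihilator_quotient, hsup] at hQ
    have : Q.asIdeal = maximalIdeal (X.presheaf.stalk (ιY y₀)) :=
      ((IsLocalRing.maximalIdeal.isMaximal _).eq_of_le Q.2.ne_top hQ).symm
    rw [this]
    exact IsLocalRing.maximalIdeal.isMaximal _
  -- the dictionary
  have hα : ∀ P : PrimeSpectrum (X.presheaf.stalk (ιY y₀)),
      Cyc.subschemeFun δ r ιY (X.fromSpecStalk (ιY y₀) P) =
        wt v (X.presheaf.stalk (ιY y₀) ⧸ KY) P := by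
    intro P
    rw [hdictY r _ (specializes_fromSpecStalk (ιY y₀) P), pr_gen]
    obtain ⟨k, hk1, hk2⟩ := delta_gen δ hdδ (ιY y₀) P
    unfold wt
    by_cases hc : δ (X.fromSpecStalk (ιY y₀) P) = r
    · have : k = v := by omega
      rw [if_pos hc, if_pos (by rw [hk2, this])]
    · have : k ≠ v := by omega
      rw [if_neg hc, if_neg (by rw [hk2]; exact_mod_cast this)]
  have hβ : ∀ P : PrimeSpectrum (X.presheaf.stalk (ιY y₀)),
      Cyc.subschemeFun δ s ιZ (X.fromSpecStalk (ιY y₀) P) =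
        wt w' (X.presheaf.stalk (ιY y₀) ⧸ KZ) P := by
    intro P
    rw [hdictZ s _ (specializes_fromSpecStalk (ιY y₀) P), pr_gen]
    obtain ⟨k, hk1, hk2⟩ := delta_gen δ hdδ (ιY y₀) P
    unfold wt
    by_cases hc : δ (X.fromSpecStalk (ιY y₀) P) = s
    · have : k = w' := by omega
      rw [if_pos hc, if_pos (by rw [hk2, this])]
    · have : k ≠ w' := by omega
      rw [if_neg hc, if_neg (by rw [hk2]; exact_mod_cast this)]
  refine ⟨?_, ?_, ?_⟩
  · rw [interProd_eq_chi K f δ hX n hn _ _ (ιY y₀) (X.presheaf.stalk (ιY y₀) ⧸ KY)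
      (X.presheaf.stalk (ιY y₀) ⧸ KZ) v w' (by omega) hdimY_le hdimZ_le hS hα hβ,
      Groth.Agent.Lib.helper2.IM.chi_symm]
    exact hchi
  · intro y hy
    have : y = y₀ := ιY.isClosedEmbedding.injective hy
    subst this
    exact IsRegularLocalRing.of_ringEquiv eY.symm
  · intro z hz
    have : z = z₀ := ιZ.isClosedEmbedding.injective (hz.trans eZ)
    subst this
    exact IsRegularLocalRing.of_ringEquiv eZ'.symm

end Groth.Agent.Lib.helper2.DevSch
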