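import Groth.Agent.Lib.Helper2.DevSch4

/-!
# helper2: `[F]_r · [G]_s = Σ (-1)^p [Tor_p(F, G)]_{r+s-n}` on a smooth variety (final form)
-/

set_option autoImplicit false
universe u
open CategoryTheory CategoryTheory.Limits AlgebraicGeometry TopologicalSpace Opposite IsLocalRing

namespace Groth.Agent.Lib.helper2.DevSch

open Groth.Agent.Lib.helper16.OrdGen Groth.Agent.Lib.helper16.StalkLoc

variable {X : Scheme.{u}}

theorem sheafFun_ne_zero (δ : X → ℤ) (r : ℤ) (F : X.Modules) (ξ : X)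
    (h : Cyc.sheafFun δ r F ξ ≠ 0) : δ ξ = r ∧ Nontrivial (F.presheaf.stalk ξ) := by
  unfold Cyc.sheafFun at h
  by_cases hc : δ ξ = r
  · refine ⟨hc, ?_⟩
    rw [if_pos hc] at h
    rw [← not_subsingleton_iff_nontrivial]
    intro hs
    apply h
    rw [Module.length_eq_zero]
    rfl
  · rw [if_neg hc] at h
    exact absurd rfl h

theorem nontrivial_stalk_of_specializes (F : X.Modules) [F.IsQuasicoherent] {ξ ζ : X}
    (h : ξ ⤳ ζ) (hξ : Nontrivial (F.presheaf.stalk ξ)) : Nontrivial (F.presheaf.stalk ζ) := by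
  have h1 := (nontrivial_stalk_iff_mem_support F h).1 hξ
  rw [← not_subsingleton_iff_nontrivial]
  intro hs
  rw [Module.mem_support_iff] at h1
  exact not_subsingleton_iff_nontrivial.2 h1 inferInstance

theorem interProd_sheafFun (K : Type u) [Field K] (f : X ⟶ Spec (CommRingCat.of K)) [Smooth f]
    [IsIntegral X] (δ : X → ℤ) (hX : Cyc.IsSetup X δ) (n : ℤ) (hn : δ (genericPoint X) = n)
    (F G : X.Modules) (hF : Coh.IsCoh F) (hG : Coh.IsCoh G) (r s : ℤ)
    (hr : ∀ x : X, Nontrivial (F.presheaf.stalk x) → δ x ≤ r)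
    (hs : ∀ x : X, Nontrivial (G.presheaf.stalk x) → δ x ≤ s)
    (hrs : ∀ x : X, Nontrivial (F.presheaf.stalk x) → Nontrivial (G.presheaf.stalk x) →
      δ x ≤ r + s - n) :
    IntMult.IntersectProperly δ n (Cyc.sheafFun δ r F) (Cyc.sheafFun δ s G) ∧
      ∀ ζ : X, IntMult.interProd δ n (Cyc.sheafFun δ r F) (Cyc.sheafFun δ s G) ζ =
        if δ ζ = r + s - n then
          IntMult.chi (X.presheaf.stalk ζ) (F.presheaf.stalk ζ) (G.presheaf.stalk ζ) else 0 := by
  haveI : F.IsQuasicoherent := hF.1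
  haveI : G.IsQuasicoherent := hG.1
  constructor
  · intro ξ η ζ hξ hη hξζ hηζ
    obtain ⟨h1, h2⟩ := sheafFun_ne_zero δ r F ξ hξ
    obtain ⟨h3, h4⟩ := sheafFun_ne_zero δ s G η hη
    have := hrs ζ (nontrivial_stalk_of_specializes F hξζ h2)
      (nontrivial_stalk_of_specializes G hηζ h4)
    rw [h1, h3]
    exact this
  · intro ζ
    by_cases hζ : δ ζ = r + s - n
    · rw [if_pos hζ]
      exact interProd_sheafFun_eq K f δ hX n hn F G hF hG r s hr hs hrs ζ hζ
    · rw [if_neg hζ]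
      unfold IntMult.interProd
      refine (finsum_congr (fun p => ?_)).trans finsum_zero
      by_cases h1 : Cyc.sheafFun δ r F p.1.1 = 0
      · rw [h1, zero_mul, zero_mul]
      by_cases h2 : Cyc.sheafFun δ s G p.1.2 = 0
      · rw [h2, mul_zero, zero_mul]
      exfalso
      apply hζ
      rw [← p.2.2.2, (sheafFun_ne_zero δ r F _ h1).1, (sheafFun_ne_zero δ s G _ h2).1]

end Groth.Agent.Lib.helper2.DevSch
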