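import Groth.Agent.Lib.Helper2.TorFlat1
import Groth.Agent.Lib.Helper16.CycFlat1
import Groth.Prelude.Def_IntMult

/-!
# helper2: the Tor Euler characteristic under a flat local base change
`χ^B(B ⊗ M, B ⊗ N) = χ^A(M, N) · ℓ_B(B/𝔪_A B)`
-/

universe u

open CategoryTheory TensorProduct IsLocalRing

namespace Groth.Agent.Lib.helper2.TorFlat

open Groth.Agent.Lib.helper7

variable (A B : Type u) [CommRing A] [IsLocalRing A] [CommRing B] [Algebra A B] [Module.Flat A B]
variable (M N : Type u) [AddCommGroup M] [Module A M] [AddCommGroup N] [Module A N]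

theorem length_tor_baseChange (i : ℕ)
    (hfin : IsFiniteLength A (DRing.Tor A i M N)) :
    Module.length B (DRing.Tor B i (B ⊗[A] M) (B ⊗[A] N)) =
      Module.length A (DRing.Tor A i M N) *
        Module.length B (B ⧸ (maximalIdeal A).map (algebraMap A B)) := by
  obtain ⟨e⟩ := nonempty_baseChange_tor A B M i N
  have h1 : Module.length B (DRing.Tor B i (B ⊗[A] M) (B ⊗[A] N)) =
      Module.length B (B ⊗[A] (DRing.Tor A i M N)) := e.length_eq.symm
  rw [h1]
  exact Groth.Agent.Lib.helper16.CycFlat.length_baseChange_mul (A := A) (B := B) _ hfin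

theorem chi_baseChange (hfin : ∀ i, IsFiniteLength A (DRing.Tor A i M N)) :
    IntMult.chi B (B ⊗[A] M) (B ⊗[A] N) = IntMult.chi A M N *
      ((Module.length B (B ⧸ (maximalIdeal A).map (algebraMap A B))).toNat : ℤ) := by
  unfold IntMult.chi
  rw [finsum_mul]
  refine finsum_congr (fun i => ?_)
  rw [length_tor_baseChange A B M N i (hfin i), ENat.toNat_mul]
  push_cast
  ring

end Groth.Agent.Lib.helper2.TorFlat
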