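import Groth.Agent.Lib.Helper2.DevSch5
import Groth.Agent.Lib.Helper2.TorFlat2
import Groth.Agent.Lib.Helper16.CycFlat5
import Groth.Agent.Lib.Helper16.QCohPullback2

/-!
# helper2: flat pullback of the intersection product of the cycles of two coherent modules
-/

set_option autoImplicit false
universe u
open CategoryTheory CategoryTheory.Limits AlgebraicGeometry TopologicalSpace Opposite IsLocalRing
  TensorProduct

namespace Groth.Agent.Lib.helper2.DevSch

open Groth.Agent.Lib.helper16.OrdGen Groth.Agent.Lib.helper16.GenFib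
  Groth.Agent.Lib.helper16.DivSum Groth.Agent.Lib.helper16.StalkLoc
  Groth.Agent.Lib.helper16.CohStalk Groth.Agent.Lib.helper16.CycFlat
  Groth.Agent.Lib.helper17.FibreStalk Groth.Agent.Lib.helper17.StalkPullback
  Groth.Agent.Lib.helper26.HS Groth.Agent.Lib.helper2.Dev Groth.Agent.Lib.helper2.Aus

variable {X Y : Scheme.{u}}

/-- the support condition at a point where the two supports meet only in the closed point. -/
theorem suppCond_stalk [IsLocallyNoetherian Y] (δ : Y → ℤ) (hδ : Cyc.IsDimFun Y δ)
    (F G : Y.Modules) (hF : Coh.IsCoh F) (hG : Coh.IsCoh G) (c : ℤ)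
    (hrs : ∀ x : Y, Nontrivial (F.presheaf.stalk x) → Nontrivial (G.presheaf.stalk x) → δ x ≤ c)
    (ζ : Y) (hζ : δ ζ = c) :
    SuppCond (Y.presheaf.stalk ζ) (F.presheaf.stalk ζ) (G.presheaf.stalk ζ) := by
  haveI : F.IsQuasicoherent := hF.1
  haveI : G.IsQuasicoherent := hG.1
  haveI : Module.Finite (Y.presheaf.stalk ζ) (F.presheaf.stalk ζ) := finite_stalk_of_isCoh F hF ζ
  haveI : Module.Finite (Y.presheaf.stalk ζ) (G.presheaf.stalk ζ) := finite_stalk_of_isCoh G hG ζ
  intro Q hQ
  have hQM : Q ∈ Module.support (Y.presheaf.stalk ζ) (F.presheaf.stalk ζ) :=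
    Module.mem_support_iff_of_finite.2 (le_sup_left.trans hQ)
  have hQN : Q ∈ Module.support (Y.presheaf.stalk ζ) (G.presheaf.stalk ζ) :=
    Module.mem_support_iff_of_finite.2 (le_sup_right.trans hQ)
  have h1 := hrs _ (nontrivial_stalk_of_mem_support F ζ Q hQM)
    (nontrivial_stalk_of_mem_support G ζ Q hQN)
  have hsp := specializes_fromSpecStalk ζ Q
  have heq : Y.fromSpecStalk ζ Q = ζ := by
    by_contra hne
    have := (hδ _ _ hsp hne).1
    omega
  have := (pOf_eq_maximalIdeal_iff hsp).2 heq
  rw [pOf_fromSpecStalk ζ Q] at this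
  rw [this]
  exact IsLocalRing.maximalIdeal.isMaximal _

/-- `χ` of the stalks of the pullbacks along a flat morphism. -/
theorem chi_stalk_pullback [IsLocallyNoetherian Y] (f : X ⟶ Y) (F G : Y.Modules)
    (hF : Coh.IsCoh F) (hG : Coh.IsCoh G) (x : X) (hflat : (f.stalkMap x).hom.Flat)
    (hS : SuppCond (Y.presheaf.stalk (f x)) (F.presheaf.stalk (f x)) (G.presheaf.stalk (f x))) :
    IntMult.chi (X.presheaf.stalk x)
        (((Scheme.Modules.pullback f).obj F).presheaf.stalk x)
        (((Scheme.Modules.pullback f).obj G).presheaf.stalk x) =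
      IntMult.chi (Y.presheaf.stalk (f x)) (F.presheaf.stalk (f x)) (G.presheaf.stalk (f x)) *
        ((Module.length (X.presheaf.stalk x) (FibRing f x)).toNat : ℤ) := by
  haveI : F.IsQuasicoherent := hF.1
  haveI : G.IsQuasicoherent := hG.1
  haveI : Module.Finite (Y.presheaf.stalk (f x)) (F.presheaf.stalk (f x)) :=
    finite_stalk_of_isCoh F hF (f x)
  haveI : Module.Finite (Y.presheaf.stalk (f x)) (G.presheaf.stalk (f x)) :=
    finite_stalk_of_isCoh G hG (f x)
  letI := (f.stalkMap x).hom.toAlgebra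
  haveI : Module.Flat (Y.presheaf.stalk (f x)) (X.presheaf.stalk x) := hflat
  letI mF := FlatMod.moduleStalkOver f ((Scheme.Modules.pullback f).obj F) x
  haveI tF := isScalarTower_moduleStalkOver f ((Scheme.Modules.pullback f).obj F) x
  obtain ⟨ψF, hψF⟩ := exists_isBaseChange_stalk_pullback f F x
  letI mG := FlatMod.moduleStalkOver f ((Scheme.Modules.pullback f).obj G) x
  haveI tG := isScalarTower_moduleStalkOver f ((Scheme.Modules.pullback f).obj G) x
  obtain ⟨ψG, hψG⟩ := exists_isBaseChange_stalk_pullback f G x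
  rw [← chi_congr_left _ hψF.equiv, ← chi_congr_right _ hψG.equiv]
  exact Groth.Agent.Lib.helper2.TorFlat.chi_baseChange (Y.presheaf.stalk (f x))
    (X.presheaf.stalk x) (F.presheaf.stalk (f x)) (G.presheaf.stalk (f x))
    (fun i => isFiniteLength_T _ _ hS i)


theorem isCoh_pullback (h : X ⟶ Y) {F : Y.Modules} (hF : Coh.IsCoh F) :
    Coh.IsCoh ((Scheme.Modules.pullback h).obj F) := by
  haveI : F.IsQuasicoherent := hF.1
  exact ⟨Groth.Agent.Lib.helper16.QCohPullback.isQuasicoherent_pullback h F,
    Groth.Agent.Lib.helper16.QCohPullback2.isFiniteType_pullback h F hF.2⟩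

theorem nontrivial_of_nontrivial_stalk_pullback (f : X ⟶ Y) (F : Y.Modules) [F.IsQuasicoherent]
    (x : X) (hx : Nontrivial (((Scheme.Modules.pullback f).obj F).presheaf.stalk x)) :
    Nontrivial (F.presheaf.stalk (f x)) := by
  by_contra hcon
  rw [not_nontrivial_iff_subsingleton] at hcon
  have := subsingleton_stalk_pullback f F x hcon
  exact not_subsingleton _ this

set_option maxHeartbeats 1600000 in
/-- S6471: flat pullback commutes with the intersection product of the cycles of coherent
modules. -/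
theorem pullFun_interProd_sheafFun (K : Type u) [Field K] (f : X ⟶ Y)
    (gX : X ⟶ Spec (CommRingCat.of K)) (gY : Y ⟶ Spec (CommRingCat.of K)) (hf : f ≫ gY = gX)
    [Smooth gX] [IsIntegral X] [Smooth gY] [IsIntegral Y] [Flat f]
    (δX : X → ℤ) (δY : Y → ℤ) (hX : Cyc.IsSetup X δX) (hY : Cyc.IsSetup Y δY)
    (hδ : Cyc.DeltaCompat f δX δY) (n m : ℤ) (hn : δX (genericPoint X) = n)
    (hm : δY (genericPoint Y) = m) (e : ℕ) (he : (e : ℤ) = n - m) (hrel : Cyc.HasRelDim f e)
    (F G : Y.Modules) (hF : Coh.IsCoh F) (hG : Coh.IsCoh G) (r s : ℤ)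
    (hr : ∀ y : Y, Nontrivial (F.presheaf.stalk y) → δY y ≤ r)
    (hs : ∀ y : Y, Nontrivial (G.presheaf.stalk y) → δY y ≤ s)
    (hrs : ∀ y : Y, Nontrivial (F.presheaf.stalk y) → Nontrivial (G.presheaf.stalk y) →
      δY y ≤ r + s - m) :
    IntMult.IntersectProperly δX n
        (Cyc.sheafFun δX (r + e) ((Scheme.Modules.pullback f).obj F))
        (Cyc.sheafFun δX (s + e) ((Scheme.Modules.pullback f).obj G)) ∧
      Cyc.pullFun f δX δY e (IntMult.interProd δY m (Cyc.sheafFun δY r F) (Cyc.sheafFun δY s G)) =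
        IntMult.interProd δX n (Cyc.sheafFun δX (r + e) ((Scheme.Modules.pullback f).obj F))
          (Cyc.sheafFun δX (s + e) ((Scheme.Modules.pullback f).obj G)) := by
  haveI : IsLocallyNoetherian X := hX.1
  haveI : IsLocallyNoetherian Y := hY.1
  haveI : F.IsQuasicoherent := hF.1
  haveI : G.IsQuasicoherent := hG.1
  haveI : LocallyOfFiniteType f := by
    haveI : LocallyOfFiniteType (f ≫ gY) := by rw [hf]; infer_instance
    exact locallyOfFiniteType_of_comp f gY
  have hcF := isCoh_pullback f hF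
  have hcG := isCoh_pullback f hG
  have hr' := (pullFun_sheafFun f F δX δY hX hY e hrel hδ r hF hr).1
  have hs' := (pullFun_sheafFun f G δX δY hX hY e hrel hδ s hG hs).1
  have hrs' : ∀ x : X, Nontrivial (((Scheme.Modules.pullback f).obj F).presheaf.stalk x) →
      Nontrivial (((Scheme.Modules.pullback f).obj G).presheaf.stalk x) →
      δX x ≤ r + e + (s + e) - n := by
    intro x h1 h2
    have h3 := hrs (f x) (nontrivial_of_nontrivial_stalk_pullback f F x h1)
      (nontrivial_of_nontrivial_stalk_pullback f G x h2)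
    obtain ⟨n', b', h4, h5, -⟩ := deltaCompat_fibre f δX δY e hrel hδ x
    omega
  obtain ⟨hP, hformX⟩ := interProd_sheafFun K gX δX hX n hn _ _ hcF hcG (r + e) (s + e)
    hr' hs' hrs'
  obtain ⟨-, hformY⟩ := interProd_sheafFun K gY δY hY m hm F G hF hG r s hr hs hrs
  refine ⟨hP, ?_⟩
  funext x
  rw [hformX x]
  unfold Cyc.pullFun
  rw [hformY (f x)]
  obtain ⟨n', b', h4, h5, h6⟩ := deltaCompat_fibre f δX δY e hrel hδ x
  have hflat : (f.stalkMap x).hom.Flat := (Flat.iff_flat_stalkMap (f := f)).1 inferInstance x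
  by_cases hA : δX x = δY (f x) + e
  · rw [if_pos hA]
    by_cases hB : δY (f x) = r + s - m
    · rw [if_pos hB, if_pos (by omega)]
      have hS := suppCond_stalk δY hY.2.2 F G hF hG (r + s - m) hrs (f x) hB
      exact (chi_stalk_pullback f F G hF hG x hflat hS).symm
    · rw [if_neg hB, if_neg (by omega), zero_mul]
  · rw [if_neg hA]
    by_cases hC : δX x = r + e + (s + e) - n
    · rw [if_pos hC]
      have hgt : r + s - m < δY (f x) := by omega
      by_cases hnF : Nontrivial (F.presheaf.stalk (f x))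
      · have hnG : ¬ Nontrivial (G.presheaf.stalk (f x)) := fun hnG => by
          have := hrs (f x) hnF hnG
          omega
        rw [not_nontrivial_iff_subsingleton] at hnG
        haveI := subsingleton_stalk_pullback f G x hnG
        exact (chi_of_subsingleton_right _ _).symm
      · rw [not_nontrivial_iff_subsingleton] at hnF
        haveI := subsingleton_stalk_pullback f F x hnF
        exact (chi_of_subsingleton_left _ _).symm
    · rw [if_neg hC]

end Groth.Agent.Lib.helper2.DevSch
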