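import Groth.Agent.Lib.Helper2.DevSch6
import Groth.Agent.Lib.Helper16.DivSum8

/-!
# helper2: tools for the flat pullback of the intersection product of general cycles
-/

set_option autoImplicit false
universe u
open CategoryTheory CategoryTheory.Limits AlgebraicGeometry TopologicalSpace Opposite IsLocalRing
  TensorProduct

namespace Groth.Agent.Lib.helper2.DevSch

open Groth.Agent.Lib.helper16.OrdGen Groth.Agent.Lib.helper16.GenFib
  Groth.Agent.Lib.helper16.DivSum Groth.Agent.Lib.helper16.StalkLoc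
  Groth.Agent.Lib.helper16.CohStalk Groth.Agent.Lib.helper16.CycFlat
  Groth.Agent.Lib.helper16.FinDeg
  Groth.Agent.Lib.helper17.FibreStalk Groth.Agent.Lib.helper17.StalkPullback
  Groth.Agent.Lib.helper26.HS Groth.Agent.Lib.helper2.Dev Groth.Agent.Lib.helper2.Aus

variable {X Y : Scheme.{u}}

theorem four_sum {ι κ : Type*} (S T : Finset ι) (S' T' : Finset κ) (a b : ι → ℤ)
    (w v : ι → κ → ℤ) (c : κ → κ → ℤ) :
    ∑ P' ∈ S', ∑ Q' ∈ T', (∑ P ∈ S, a P * w P P') * (∑ Q ∈ T, b Q * v Q Q') * c P' Q' =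
      ∑ P ∈ S, ∑ Q ∈ T, a P * b Q * ∑ P' ∈ S', ∑ Q' ∈ T', w P P' * (v Q Q' * c P' Q') := by
  simp only [Finset.sum_mul, Finset.mul_sum]
  simp only [← Finset.sum_product']
  refine Finset.sum_nbij' (fun x => (x.2.2.2, x.2.2.1, x.1, x.2.1))
    (fun z => (z.2.2.1, z.2.2.2, z.2.1, z.1)) ?_ ?_ ?_ ?_ ?_
  · intro x hx
    simp only [Finset.mem_product] at hx ⊢
    tauto
  · intro x hx
    simp only [Finset.mem_product] at hx ⊢
    tauto
  · intro x hx
    rfl
  · intro x hx
    rfl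
  · intro x hx
    ring

/-- the intersection product at `ζ` as a sum over pairs of primes of the local ring. -/
theorem interProd_eq_finsum_primes (δ : X → ℤ) (n : ℤ) (α β : X → ℤ) (ζ : X) :
    IntMult.interProd δ n α β ζ =
      ∑ᶠ x : PrimeSpectrum (X.presheaf.stalk ζ) × PrimeSpectrum (X.presheaf.stalk ζ),
        (if δ (X.fromSpecStalk ζ x.1) + δ (X.fromSpecStalk ζ x.2) - n = δ ζ then
          α (X.fromSpecStalk ζ x.1) * β (X.fromSpecStalk ζ x.2) *
            IntMult.chi (X.presheaf.stalk ζ) (X.presheaf.stalk ζ ⧸ x.2.asIdeal)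
              (X.presheaf.stalk ζ ⧸ x.1.asIdeal) else 0) := by
  unfold IntMult.interProd
  set E : {p : X × X // p.1 ⤳ ζ ∧ p.2 ⤳ ζ ∧ δ p.1 + δ p.2 - n = δ ζ} →
      PrimeSpectrum (X.presheaf.stalk ζ) × PrimeSpectrum (X.presheaf.stalk ζ) :=
    fun p => (pr p.2.1, pr p.2.2.1) with hE
  have hEinj : Function.Injective E := by
    intro p p' hpp
    have h1 : pr p.2.1 = pr p'.2.1 := congrArg Prod.fst hpp
    have h2 : pr p.2.2.1 = pr p'.2.2.1 := congrArg Prod.snd hpp
    apply Subtype.ext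
    apply Prod.ext
    · rw [← gen_pr p.2.1, ← gen_pr p'.2.1, h1]
    · rw [← gen_pr p.2.2.1, ← gen_pr p'.2.2.1, h2]
  set T : PrimeSpectrum (X.presheaf.stalk ζ) × PrimeSpectrum (X.presheaf.stalk ζ) → ℤ :=
    fun x => (if δ (X.fromSpecStalk ζ x.1) + δ (X.fromSpecStalk ζ x.2) - n = δ ζ then
          α (X.fromSpecStalk ζ x.1) * β (X.fromSpecStalk ζ x.2) *
            IntMult.chi (X.presheaf.stalk ζ) (X.presheaf.stalk ζ ⧸ x.2.asIdeal)
              (X.presheaf.stalk ζ ⧸ x.1.asIdeal) else 0) with hT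
  have hterm : ∀ p : {p : X × X // p.1 ⤳ ζ ∧ p.2 ⤳ ζ ∧ δ p.1 + δ p.2 - n = δ ζ},
      α p.1.1 * β p.1.2 *
        IntMult.mult (IntMult.ptIdeal p.1.1) (IntMult.ptIdeal p.1.2) ζ = T (E p) := by
    intro p
    show _ = if δ (X.fromSpecStalk ζ (pr p.2.1)) + δ (X.fromSpecStalk ζ (pr p.2.2.1)) - n = δ ζ
      then α (X.fromSpecStalk ζ (pr p.2.1)) * β (X.fromSpecStalk ζ (pr p.2.2.1)) *
        IntMult.chi (X.presheaf.stalk ζ) (X.presheaf.stalk ζ ⧸ (pr p.2.2.1).asIdeal)
              (X.presheaf.stalk ζ ⧸ (pr p.2.1).asIdeal) else 0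
    rw [gen_pr, gen_pr, if_pos p.2.2.2, mult_ptIdeal p.2.1 p.2.2.1]
  rw [finsum_congr hterm, ← finsum_mem_range (f := T) hEinj, ← finsum_mem_univ (f := T)]
  refine finsum_mem_inter_support_eq' _ _ _ (fun x hx => ?_)
  refine ⟨fun _ => Set.mem_univ _, fun _ => ?_⟩
  rw [Function.mem_support] at hx
  have hc : δ (X.fromSpecStalk ζ x.1) + δ (X.fromSpecStalk ζ x.2) - n = δ ζ := by
    by_contra hc
    apply hx
    exact if_neg hc
  refine ⟨⟨(X.fromSpecStalk ζ x.1, X.fromSpecStalk ζ x.2), specializes_fromSpecStalk ζ x.1,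
    specializes_fromSpecStalk ζ x.2, hc⟩, ?_⟩
  show (pr _, pr _) = x
  rw [pr_gen, pr_gen]

/-- `δ` of the generization attached to a prime of the local ring. -/
theorem delta_gen (δ : X → ℤ) (hδ : Cyc.IsDimFun X δ) (ζ : X)
    (P : PrimeSpectrum (X.presheaf.stalk ζ)) :
    ∃ k : ℕ, δ (X.fromSpecStalk ζ P) = δ ζ + k ∧
      ringKrullDim (X.presheaf.stalk ζ ⧸ P.asIdeal) = (k : WithBot ℕ∞) := by
  obtain ⟨k, hk1, hk2⟩ := delta_eq_add_dim δ hδ (specializes_fromSpecStalk ζ P)
  rw [pOf_fromSpecStalk ζ P] at hk2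
  exact ⟨k, hk1, hk2⟩

theorem gen_injective (ζ : X) : Function.Injective (X.fromSpecStalk ζ) := by
  intro P Q h
  rw [← pr_gen ζ P, ← pr_gen ζ Q]
  exact PrimeSpectrum.ext (pOf_congr h _ _)

/-- the support of a cycle among the generizations of a point is finite. -/
theorem finite_gen_support (α : AlgebraicCycle X ℤ) (ζ : X) :
    {P : PrimeSpectrum (X.presheaf.stalk ζ) | α (X.fromSpecStalk ζ P) ≠ 0}.Finite := by
  have hfin : {ξ : X | α ξ ≠ 0 ∧ ξ ⤳ ζ}.Finite := by
    obtain ⟨V, hV, hfin⟩ := α.supportLocallyFiniteWithinDomain' ζ trivial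
    refine hfin.subset ?_
    rintro ξ ⟨hξ, hξx⟩
    exact ⟨mem_of_mem_nhds (hξx hV), hξ⟩
  refine (hfin.preimage ((gen_injective ζ).injOn)).subset ?_
  intro P hP
  exact ⟨hP, specializes_fromSpecStalk ζ P⟩

theorem locLen_quot_eq {R : Type u} [CommRing R] (q : Ideal R) [hq : q.IsPrime] (𝔞 : Ideal R) :
    locLen (R ⧸ 𝔞) ⟨q, hq⟩ = Module.length (Localization.AtPrime q)
      (Localization.AtPrime q ⧸ 𝔞.map (algebraMap R (Localization.AtPrime q))) := by
  unfold locLen
  let φ := Submodule.toLocalizedQuotient' (Localization.AtPrime q) q.primeCompl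
    (Algebra.linearMap R (Localization.AtPrime q)) 𝔞
  let e₁ := IsLocalizedModule.iso q.primeCompl φ
  let e₂ := e₁.extendScalarsOfIsLocalization q.primeCompl (Localization.AtPrime q)
  rw [e₂.length_eq]
  exact (Submodule.quotEquivOfEq _ _ (Ideal.localized'_eq_map _ _ _)).length_eq

/-- the localized length of `O_x/𝔭_{f ξ'} O_x` at `ξ'` is the length of the fibre ring at `ξ'`. -/
theorem locLen_quot_map_eq_fibRing (f : X ⟶ Y) {x ξ' : X} (h' : ξ' ⤳ x) (h₀ : f ξ' ⤳ f x) :
    locLen (X.presheaf.stalk x ⧸ (pOf h₀).map (f.stalkMap x).hom) (pr h') =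
      Module.length (X.presheaf.stalk ξ') (FibRing f ξ') := by
  rw [← length_fibRing_eq f h' rfl h₀, length_stalk_quot_eq h', ← length_quotient_self]
  exact locLen_quot_eq (pOf h') _

section key

variable (f : X ⟶ Y)

theorem map_gen_specializes (x : X) (P' : PrimeSpectrum (X.presheaf.stalk x)) :
    f (X.fromSpecStalk x P') ⤳ f x :=
  f.base.hom.map_specializes (specializes_fromSpecStalk x P')

theorem pOf_map_gen (x : X) (P' : PrimeSpectrum (X.presheaf.stalk x))
    (h₀ : f (X.fromSpecStalk x P') ⤳ f x) :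
    pOf h₀ = P'.asIdeal.comap (f.stalkMap x).hom := by
  rw [← comap_pOf f (specializes_fromSpecStalk x P') h₀, pOf_fromSpecStalk]

theorem le_of_mem_support_quot {B : Type u} [CommRing B] (I : Ideal B) (P : PrimeSpectrum B)
    (h : P ∈ Module.support B (B ⧸ I)) : I ≤ P.asIdeal := by
  have := Module.mem_support_iff_of_finite.1 h
  rwa [Ideal.annihilator_quotient] at this

/-- if `𝔭 O_x ⊆ 𝔭'` then the generization of `f x` attached to `𝔭` specializes to the image of
the generization of `x` attached to `𝔭'`. -/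
theorem gen_specializes_map_gen (x : X) (P : PrimeSpectrum (Y.presheaf.stalk (f x)))
    (P' : PrimeSpectrum (X.presheaf.stalk x))
    (hle : P.asIdeal.map (f.stalkMap x).hom ≤ P'.asIdeal) :
    Y.fromSpecStalk (f x) P ⤳ f (X.fromSpecStalk x P') := by
  have h₀ := map_gen_specializes f x P'
  refine (specializes_iff_pOf_le (specializes_fromSpecStalk (f x) P) h₀).2 ?_
  rw [pOf_fromSpecStalk, pOf_map_gen f x P' h₀]
  exact Ideal.map_le_iff_le_comap.1 hle

open Classical in
/-- **Key identity**: the flat pullback of a cycle at a generization of `x`, in terms of the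
weights of the modules `O_x/𝔭 O_x`. -/
theorem pullFun_gen [Flat f] [LocallyOfFiniteType f] [IsLocallyNoetherian X]
    (δX : X → ℤ) (δY : Y → ℤ) (hX : Cyc.IsDimFun X δX)
    (hY : Cyc.IsDimFun Y δY) (e : ℕ) (hrel : Cyc.HasRelDim f e) (hδ : Cyc.DeltaCompat f δX δY)
    (α : Y → ℤ) (r : ℤ) (hα : ∀ y, δY y ≠ r → α y = 0) (x : X) (hA : δX x = δY (f x) + e)
    (a : ℕ) (ha : r = δY (f x) + a) (P' : PrimeSpectrum (X.presheaf.stalk x))
    (h₀ : f (X.fromSpecStalk x P') ⤳ f x) (P : PrimeSpectrum (Y.presheaf.stalk (f x))) :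
    α (Y.fromSpecStalk (f x) P) *
        wt a (X.presheaf.stalk x ⧸ P.asIdeal.map (f.stalkMap x).hom) P' =
      if P = pr h₀ then Cyc.pullFun f δX δY e α (X.fromSpecStalk x P') else 0 := by
  have h' : X.fromSpecStalk x P' ⤳ x := specializes_fromSpecStalk x P'
  obtain ⟨k, hk1, hk2⟩ := delta_gen δX hX x P'
  obtain ⟨n', b', h4, h5, -⟩ := deltaCompat_fibre f δX δY e hrel hδ (X.fromSpecStalk x P')
  by_cases hP : P = pr h₀
  · rw [if_pos hP, hP]
    show α (Y.fromSpecStalk (f x) (pr h₀)) *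
      wt a (X.presheaf.stalk x ⧸ (pOf h₀).map (f.stalkMap x).hom) P' = _
    rw [gen_pr h₀]
    by_cases hα0 : α (f (X.fromSpecStalk x P')) = 0
    · rw [hα0, zero_mul]
      unfold Cyc.pullFun
      split_ifs
      · rw [hα0, zero_mul]
      · rfl
    · have hr : δY (f (X.fromSpecStalk x P')) = r := by
        by_contra hc
        exact hα0 (hα _ hc)
      unfold Cyc.pullFun wt
      by_cases hc : δX (X.fromSpecStalk x P') = δY (f (X.fromSpecStalk x P')) + e
      · have hka : k = a := by omega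
        rw [if_pos hc, if_pos (by rw [hk2, hka])]
        have := locLen_quot_map_eq_fibRing f h' h₀
        rw [pr_gen x P'] at this
        rw [this]
      · have hka : k ≠ a := by omega
        rw [if_neg hc, if_neg (by rw [hk2]; exact_mod_cast hka), mul_zero]
  · rw [if_neg hP]
    by_contra hne
    have h1 : α (Y.fromSpecStalk (f x) P) ≠ 0 := left_ne_zero_of_mul hne
    have h2 : wt a (X.presheaf.stalk x ⧸ P.asIdeal.map (f.stalkMap x).hom) P' ≠ 0 :=
      right_ne_zero_of_mul hne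
    have hd : ringKrullDim (X.presheaf.stalk x ⧸ P'.asIdeal) = (a : WithBot ℕ∞) := by
      by_contra hc
      apply h2
      unfold wt
      rw [if_neg hc]
    have hl : P' ∈ Module.support (X.presheaf.stalk x)
        (X.presheaf.stalk x ⧸ P.asIdeal.map (f.stalkMap x).hom) := by
      by_contra hc
      apply h2
      unfold wt
      rw [locLen_eq_zero_iff.2 hc]
      simp
    have hsp := gen_specializes_map_gen f x P P' (le_of_mem_support_quot _ _ hl)
    have hr : δY (Y.fromSpecStalk (f x) P) = r := by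
      by_contra hc
      exact h1 (hα _ hc)
    have hka : k = a := by
      rw [hk2] at hd
      exact_mod_cast hd
    have heq : Y.fromSpecStalk (f x) P = f (X.fromSpecStalk x P') := by
      by_contra hne'
      have := (hY _ _ hsp hne').1
      omega
    apply hP
    rw [← pr_gen (f x) P]
    exact PrimeSpectrum.ext (pOf_congr heq _ _)

/-- dimension bound for the support of `O_x/𝔭 O_x`. -/
theorem supportDim_quot_map_le [Flat f] [LocallyOfFiniteType f] [IsLocallyNoetherian X]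
    (δX : X → ℤ) (δY : Y → ℤ) (hX : Cyc.IsDimFun X δX)
    (hY : Cyc.IsDimFun Y δY) (e : ℕ) (hrel : Cyc.HasRelDim f e) (hδ : Cyc.DeltaCompat f δX δY)
    (r : ℤ) (x : X) (hA : δX x = δY (f x) + e)
    (a : ℕ) (ha : r = δY (f x) + a) (P : PrimeSpectrum (Y.presheaf.stalk (f x)))
    (hP : δY (Y.fromSpecStalk (f x) P) ≤ r) :
    Module.supportDim (X.presheaf.stalk x)
      (X.presheaf.stalk x ⧸ P.asIdeal.map (f.stalkMap x).hom) ≤ (a : WithBot ℕ∞) := by
  refine supportDim_le_of_forall _ a (fun P'' hP'' => ?_)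
  have hsp := gen_specializes_map_gen f x P P'' (le_of_mem_support_quot _ _ hP'')
  obtain ⟨k, hk1, hk2⟩ := delta_gen δX hX x P''
  obtain ⟨n', b', h4, h5, -⟩ := deltaCompat_fibre f δX δY e hrel hδ (X.fromSpecStalk x P'')
  have hle : δY (f (X.fromSpecStalk x P'')) ≤ δY (Y.fromSpecStalk (f x) P) := by
    by_cases heq : Y.fromSpecStalk (f x) P = f (X.fromSpecStalk x P'')
    · rw [heq]
    · exact (hY _ _ hsp heq).1.le
  rw [hk2]
  have : k ≤ a := by omega
  exact_mod_cast this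

/-- the support condition downstairs. -/
theorem suppCond_quot_of_forall (δY : Y → ℤ) (hY : Cyc.IsDimFun Y δY) (y : Y)
    (P Q : PrimeSpectrum (Y.presheaf.stalk y))
    (hPQ : ∀ ζ : Y, Y.fromSpecStalk y P ⤳ ζ → Y.fromSpecStalk y Q ⤳ ζ → δY ζ ≤ δY y) :
    SuppCond (Y.presheaf.stalk y) (Y.presheaf.stalk y ⧸ P.asIdeal)
      (Y.presheaf.stalk y ⧸ Q.asIdeal) := by
  intro Q'' hQ''
  rw [Ideal.annihilator_quotient, Ideal.annihilator_quotient] at hQ''
  have hsp := specializes_fromSpecStalk y Q''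
  have h1 : Y.fromSpecStalk y P ⤳ Y.fromSpecStalk y Q'' := by
    refine (specializes_iff_pOf_le (specializes_fromSpecStalk y P) hsp).2 ?_
    rw [pOf_fromSpecStalk, pOf_fromSpecStalk]
    exact le_sup_left.trans hQ''
  have h2 : Y.fromSpecStalk y Q ⤳ Y.fromSpecStalk y Q'' := by
    refine (specializes_iff_pOf_le (specializes_fromSpecStalk y Q) hsp).2 ?_
    rw [pOf_fromSpecStalk, pOf_fromSpecStalk]
    exact le_sup_right.trans hQ''
  have h3 := hPQ _ h1 h2
  have heq : Y.fromSpecStalk y Q'' = y := by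
    by_contra hne
    have := (hY _ _ hsp hne).1
    omega
  have := (pOf_eq_maximalIdeal_iff hsp).2 heq
  rw [pOf_fromSpecStalk y Q''] at this
  rw [this]
  exact IsLocalRing.maximalIdeal.isMaximal _

/-- the support condition upstairs. -/
theorem suppCond_quot_map_of_forall [Flat f] [LocallyOfFiniteType f]
    (δX : X → ℤ) (δY : Y → ℤ) (hX : Cyc.IsDimFun X δX)
    (hY : Cyc.IsDimFun Y δY) (e : ℕ) (hrel : Cyc.HasRelDim f e) (hδ : Cyc.DeltaCompat f δX δY)
    (x : X) (hA : δX x = δY (f x) + e) (P Q : PrimeSpectrum (Y.presheaf.stalk (f x)))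
    (hPQ : ∀ ζ : Y, Y.fromSpecStalk (f x) P ⤳ ζ → Y.fromSpecStalk (f x) Q ⤳ ζ →
      δY ζ ≤ δY (f x)) :
    SuppCond (X.presheaf.stalk x) (X.presheaf.stalk x ⧸ P.asIdeal.map (f.stalkMap x).hom)
      (X.presheaf.stalk x ⧸ Q.asIdeal.map (f.stalkMap x).hom) := by
  intro Q'' hQ''
  rw [Ideal.annihilator_quotient, Ideal.annihilator_quotient] at hQ''
  have hsp := specializes_fromSpecStalk x Q''
  have h1 := gen_specializes_map_gen f x P Q'' (le_sup_left.trans hQ'')
  have h2 := gen_specializes_map_gen f x Q Q'' (le_sup_right.trans hQ'')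
  have h3 := hPQ _ h1 h2
  obtain ⟨n', b', h4, h5, -⟩ := deltaCompat_fibre f δX δY e hrel hδ (X.fromSpecStalk x Q'')
  have heq : X.fromSpecStalk x Q'' = x := by
    by_contra hne
    have := (hX _ _ hsp hne).1
    omega
  have := (pOf_eq_maximalIdeal_iff hsp).2 heq
  rw [pOf_fromSpecStalk x Q''] at this
  rw [this]
  exact IsLocalRing.maximalIdeal.isMaximal _

end key

end Groth.Agent.Lib.helper2.DevSch
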