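import Groth.Agent.Lib.Helper2.DevSch7

/-!
# helper2: flat pullback commutes with the intersection product of properly intersecting cycles
-/

set_option autoImplicit false
universe u
open CategoryTheory CategoryTheory.Limits AlgebraicGeometry TopologicalSpace Opposite IsLocalRing
  TensorProduct

namespace Groth.Agent.Lib.helper2.DevSch

open Groth.Agent.Lib.helper16.OrdGen Groth.Agent.Lib.helper16.GenFib
  Groth.Agent.Lib.helper16.DivSum Groth.Agent.Lib.helper16.StalkLoc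
  Groth.Agent.Lib.helper16.CohStalk Groth.Agent.Lib.helper16.CycFlat
  Groth.Agent.Lib.helper16.FinDeg
  Groth.Agent.Lib.helper17.FibreStalk Groth.Agent.Lib.helper17.StalkPullback
  Groth.Agent.Lib.helper26.HS Groth.Agent.Lib.helper2.Dev Groth.Agent.Lib.helper2.Aus

variable {X Y : Scheme.{u}}

theorem pullFun_ne_zero (f : X ⟶ Y) (δX : X → ℤ) (δY : Y → ℤ) (e : ℤ) (α : Y → ℤ) (ξ' : X)
    (h : Cyc.pullFun f δX δY e α ξ' ≠ 0) : α (f ξ') ≠ 0 ∧ δX ξ' = δY (f ξ') + e := by
  unfold Cyc.pullFun at h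
  split_ifs at h with hc
  · exact ⟨left_ne_zero_of_mul h, hc⟩
  · exact absurd rfl h

theorem delta_le_of_specializes (δ : X → ℤ) (hδ : Cyc.IsDimFun X δ) {ξ ζ : X} (h : ξ ⤳ ζ) :
    δ ζ ≤ δ ξ := by
  by_cases heq : ξ = ζ
  · rw [heq]
  · exact (hδ _ _ h heq).1.le

/-- the flat pullback of a cycle vanishing on the generizations of `f x` vanishes on the
generizations of `x`. -/
theorem pullFun_eq_zero_of_forall (f : X ⟶ Y) (δX : X → ℤ) (δY : Y → ℤ) (e : ℤ) (α : Y → ℤ)
    (x : X) (hα : ∀ ξ : Y, ξ ⤳ f x → α ξ = 0) (ξ' : X) (h : ξ' ⤳ x) :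
    Cyc.pullFun f δX δY e α ξ' = 0 := by
  unfold Cyc.pullFun
  split_ifs
  · rw [hα _ (f.base.hom.map_specializes h), zero_mul]
  · rfl

theorem interProd_eq_zero_left (δ : X → ℤ) (n : ℤ) (α β : X → ℤ) (ζ : X)
    (hα : ∀ ξ : X, ξ ⤳ ζ → α ξ = 0) : IntMult.interProd δ n α β ζ = 0 := by
  unfold IntMult.interProd
  refine (finsum_congr (fun p => ?_)).trans finsum_zero
  rw [hα _ p.2.1, zero_mul, zero_mul]

theorem interProd_eq_zero_right (δ : X → ℤ) (n : ℤ) (α β : X → ℤ) (ζ : X)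
    (hβ : ∀ ξ : X, ξ ⤳ ζ → β ξ = 0) : IntMult.interProd δ n α β ζ = 0 := by
  unfold IntMult.interProd
  refine (finsum_congr (fun p => ?_)).trans finsum_zero
  rw [hβ _ p.2.2.1, mul_zero, zero_mul]

open Classical in
set_option maxHeartbeats 3200000 in
/-- the main case: `x` generic in its fibre and `f x` of the expected dimension. -/
theorem pullFun_interProd_main (K : Type u) [Field K] (f : X ⟶ Y)
    (gX : X ⟶ Spec (CommRingCat.of K)) (gY : Y ⟶ Spec (CommRingCat.of K)) (hf : f ≫ gY = gX)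
    [Smooth gX] [IsIntegral X] [Smooth gY] [IsIntegral Y] [Flat f]
    (δX : X → ℤ) (δY : Y → ℤ) (hX : Cyc.IsSetup X δX) (hY : Cyc.IsSetup Y δY)
    (hδ : Cyc.DeltaCompat f δX δY) (n m : ℤ) (hn : δX (genericPoint X) = n)
    (hm : δY (genericPoint Y) = m) (e : ℕ) (he : (e : ℤ) = n - m) (hrel : Cyc.HasRelDim f e)
    (r s : ℤ) (α β : AlgebraicCycle Y ℤ) (hα : α ∈ Cyc.Zk Y δY r) (hβ : β ∈ Cyc.Zk Y δY s)
    (hprop : IntMult.IntersectProperly δY m ⇑α ⇑β) (x : X) (hA : δX x = δY (f x) + e)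
    (hB : δY (f x) = r + s - m) :
    IntMult.interProd δY m ⇑α ⇑β (f x) *
        ((Module.length (X.presheaf.stalk x) (FibRing f x)).toNat : ℤ) =
      IntMult.interProd δX n (Cyc.pullFun f δX δY e ⇑α) (Cyc.pullFun f δX δY e ⇑β) x := by
  haveI : IsLocallyNoetherian X := hX.1
  haveI : IsLocallyNoetherian Y := hY.1
  haveI : LocallyOfFiniteType f := by
    haveI : LocallyOfFiniteType (f ≫ gY) := by rw [hf]; infer_instance
    exact locallyOfFiniteType_of_comp f gY
  have hdX := hX.2.2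
  have hdY := hY.2.2
  have hαz : ∀ y, δY y ≠ r → α y = 0 := hα
  have hβz : ∀ y, δY y ≠ s → β y = 0 := hβ
  -- degenerate cases
  by_cases hra : δY (f x) ≤ r
  swap
  · have hαy : ∀ ξ : Y, ξ ⤳ f x → α ξ = 0 := by
      intro ξ hξ
      apply hαz
      have := delta_le_of_specializes δY hdY hξ
      omega
    rw [interProd_eq_zero_left δY m _ _ _ hαy, interProd_eq_zero_left δX n _ _ x
      (pullFun_eq_zero_of_forall f δX δY e _ x hαy), zero_mul]
  by_cases hsb : δY (f x) ≤ s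
  swap
  · have hβy : ∀ ξ : Y, ξ ⤳ f x → β ξ = 0 := by
      intro ξ hξ
      apply hβz
      have := delta_le_of_specializes δY hdY hξ
      omega
    rw [interProd_eq_zero_right δY m _ _ _ hβy, interProd_eq_zero_right δX n _ _ x
      (pullFun_eq_zero_of_forall f δX δY e _ x hβy), zero_mul]
  obtain ⟨a, ha⟩ : ∃ a : ℕ, r = δY (f x) + a := ⟨(r - δY (f x)).toNat, by omega⟩
  obtain ⟨b, hb⟩ : ∃ b : ℕ, s = δY (f x) + b := ⟨(s - δY (f x)).toNat, by omega⟩
  obtain ⟨dB, hdB1, hdB2⟩ := dim_stalk_eq δX hdX x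
  rw [hn] at hdB1
  have hab : a + b = dB := by omega
  -- algebra instances
  letI := (f.stalkMap x).hom.toAlgebra
  have hflat : (f.stalkMap x).hom.Flat := (Flat.iff_flat_stalkMap (f := f)).1 inferInstance x
  haveI : Module.Flat (Y.presheaf.stalk (f x)) (X.presheaf.stalk x) := hflat
  -- the regular local ring package upstairs
  obtain ⟨hreg, hserre⟩ := Groth.Agent.Lib.helper2.Diag.stalk_package gX x
  haveI := hreg
  have hD : ∀ (M' : Type u) [AddCommGroup M'] [Module (X.presheaf.stalk x) M']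
      [Module.Finite (X.presheaf.stalk x) M'], ∀ i, dB + 1 ≤ i →
      ∀ N' : ModuleCat.{u} (X.presheaf.stalk x), IsZero
        ((Groth.Agent.Lib.helper7.TorAPI.T i (ModuleCat.of (X.presheaf.stalk x) M')).obj N') :=
    fun M' _ _ _ i hi N' => Groth.Agent.Lib.helper2.Diag.isZero_T_of_regular _ dB hdB2 M' i hi N'
  have hvan : ∀ P Q : PrimeSpectrum (X.presheaf.stalk x),
      ringKrullDim (X.presheaf.stalk x ⧸ P.asIdeal) ≤ a →
      ringKrullDim (X.presheaf.stalk x ⧸ Q.asIdeal) ≤ b →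
      (ringKrullDim (X.presheaf.stalk x ⧸ P.asIdeal) ≠ a ∨
        ringKrullDim (X.presheaf.stalk x ⧸ Q.asIdeal) ≠ b) →
      SuppCond (X.presheaf.stalk x) (X.presheaf.stalk x ⧸ P.asIdeal)
        (X.presheaf.stalk x ⧸ Q.asIdeal) →
      IntMult.chi (X.presheaf.stalk x) (X.presheaf.stalk x ⧸ Q.asIdeal)
        (X.presheaf.stalk x ⧸ P.asIdeal) = 0 := by
    intro P Q hPa hQb hne hSPQ
    refine hserre P.asIdeal Q.asIdeal P.2.ne_top Q.2.ne_top
      (ringKrullDim_quot_sup_eq_zero_of_suppCond _ _ P.2.ne_top Q.2.ne_top hSPQ) ?_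
    obtain ⟨kP, hkP1, hkP2⟩ := delta_gen δX hdX x P
    obtain ⟨kQ, hkQ1, hkQ2⟩ := delta_gen δX hdX x Q
    rw [hkP2] at hPa hne
    rw [hkQ2] at hQb hne
    rw [hkP2, hkQ2, hdB2]
    have h1 : kP ≤ a := by exact_mod_cast hPa
    have h2 : kQ ≤ b := by exact_mod_cast hQb
    have h3 : kP ≠ a ∨ kQ ≠ b := by
      rcases hne with h | h
      · left
        intro h'
        exact h (by rw [h'])
      · right
        intro h'
        exact h (by rw [h'])
    have h4 : kP + kQ < dB := by omega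
    exact_mod_cast h4
  -- abbreviations
  set aα : PrimeSpectrum (Y.presheaf.stalk (f x)) → ℤ :=
    fun P => α (Y.fromSpecStalk (f x) P) with haα
  set bβ : PrimeSpectrum (Y.presheaf.stalk (f x)) → ℤ :=
    fun Q => β (Y.fromSpecStalk (f x) Q) with hbβ
  set a' : PrimeSpectrum (X.presheaf.stalk x) → ℤ :=
    fun P' => Cyc.pullFun f δX δY e ⇑α (X.fromSpecStalk x P') with ha'
  set b' : PrimeSpectrum (X.presheaf.stalk x) → ℤ :=
    fun Q' => Cyc.pullFun f δX δY e ⇑β (X.fromSpecStalk x Q') with hb'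
  set W : PrimeSpectrum (Y.presheaf.stalk (f x)) → PrimeSpectrum (X.presheaf.stalk x) → ℤ :=
    fun P => wt a (X.presheaf.stalk x ⧸ P.asIdeal.map (f.stalkMap x).hom) with hW
  set V : PrimeSpectrum (Y.presheaf.stalk (f x)) → PrimeSpectrum (X.presheaf.stalk x) → ℤ :=
    fun Q => wt b (X.presheaf.stalk x ⧸ Q.asIdeal.map (f.stalkMap x).hom) with hV
  set cA : PrimeSpectrum (Y.presheaf.stalk (f x)) → PrimeSpectrum (Y.presheaf.stalk (f x)) → ℤ :=
    fun P Q => IntMult.chi (Y.presheaf.stalk (f x)) (Y.presheaf.stalk (f x) ⧸ Q.asIdeal)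
      (Y.presheaf.stalk (f x) ⧸ P.asIdeal) with hcA
  set cB : PrimeSpectrum (X.presheaf.stalk x) → PrimeSpectrum (X.presheaf.stalk x) → ℤ :=
    fun P' Q' => IntMult.chi (X.presheaf.stalk x) (X.presheaf.stalk x ⧸ Q'.asIdeal)
      (X.presheaf.stalk x ⧸ P'.asIdeal) with hcB
  have hSfin := finite_gen_support α (f x)
  have hTfin := finite_gen_support β (f x)
  set S := hSfin.toFinset with hSdef
  set T := hTfin.toFinset with hTdef
  have hSmem : ∀ P, P ∈ S ↔ aα P ≠ 0 := by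
    intro P
    rw [hSdef, Set.Finite.mem_toFinset]
    rfl
  have hTmem : ∀ Q, Q ∈ T ↔ bβ Q ≠ 0 := by
    intro Q
    rw [hTdef, Set.Finite.mem_toFinset]
    rfl
  have hSr : ∀ P ∈ S, δY (Y.fromSpecStalk (f x) P) = r := by
    intro P hP
    by_contra hc
    exact (hSmem P).1 hP (hαz _ hc)
  have hTs : ∀ Q ∈ T, δY (Y.fromSpecStalk (f x) Q) = s := by
    intro Q hQ
    by_contra hc
    exact (hTmem Q).1 hQ (hβz _ hc)
  have hPQ : ∀ P ∈ S, ∀ Q ∈ T, ∀ ζ : Y, Y.fromSpecStalk (f x) P ⤳ ζ →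
      Y.fromSpecStalk (f x) Q ⤳ ζ → δY ζ ≤ δY (f x) := by
    intro P hP Q hQ ζ h1 h2
    have := hprop _ _ ζ ((hSmem P).1 hP) ((hTmem Q).1 hQ) h1 h2
    rw [hSr P hP, hTs Q hQ] at this
    omega
  have hWdim : ∀ P ∈ S, Module.supportDim (X.presheaf.stalk x)
      (X.presheaf.stalk x ⧸ P.asIdeal.map (f.stalkMap x).hom) ≤ (a : WithBot ℕ∞) :=
    fun P hP => supportDim_quot_map_le f δX δY hdX hdY e hrel hδ r x hA a ha P (hSr P hP).le
  have hVdim : ∀ Q ∈ T, Module.supportDim (X.presheaf.stalk x)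
      (X.presheaf.stalk x ⧸ Q.asIdeal.map (f.stalkMap x).hom) ≤ (b : WithBot ℕ∞) :=
    fun Q hQ => supportDim_quot_map_le f δX δY hdX hdY e hrel hδ s x hA b hb Q (hTs Q hQ).le
  have hWfin : ∀ P ∈ S, (Function.support (W P)).Finite :=
    fun P hP => support_wt_finite a _ (hWdim P hP)
  have hVfin : ∀ Q ∈ T, (Function.support (V Q)).Finite :=
    fun Q hQ => support_wt_finite b _ (hVdim Q hQ)
  have hS'fin : (⋃ P ∈ (S : Set (PrimeSpectrum (Y.presheaf.stalk (f x)))),
      Function.support (W P)).Finite :=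
    Set.Finite.biUnion S.finite_toSet (fun P hP => hWfin P hP)
  have hT'fin : (⋃ Q ∈ (T : Set (PrimeSpectrum (Y.presheaf.stalk (f x)))),
      Function.support (V Q)).Finite :=
    Set.Finite.biUnion T.finite_toSet (fun Q hQ => hVfin Q hQ)
  set S' := hS'fin.toFinset with hS'def
  set T' := hT'fin.toFinset with hT'def
  have hS'mem : ∀ P ∈ S, ∀ P', W P P' ≠ 0 → P' ∈ S' := by
    intro P hP P' h
    rw [hS'def, Set.Finite.mem_toFinset]
    exact Set.mem_biUnion (Finset.mem_coe.2 hP) h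
  have hT'mem : ∀ Q ∈ T, ∀ Q', V Q Q' ≠ 0 → Q' ∈ T' := by
    intro Q hQ Q' h
    rw [hT'def, Set.Finite.mem_toFinset]
    exact Set.mem_biUnion (Finset.mem_coe.2 hQ) h
  -- the key sums
  have hkeyα : ∀ P', ∑ P ∈ S, aα P * W P P' = a' P' := by
    intro P'
    have h₀ := map_gen_specializes f x P'
    have hterm : ∀ P ∈ S, aα P * W P P' = if P = pr h₀ then a' P' else 0 :=
      fun P _ => pullFun_gen f δX δY hdX hdY e hrel hδ ⇑α r hαz x hA a ha P' h₀ P
    rw [Finset.sum_congr rfl hterm, Finset.sum_ite_eq' S (pr h₀) (fun _ => a' P')]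
    split_ifs with hmem
    · rfl
    · have h0 : aα (pr h₀) = 0 := by
        by_contra hc
        exact hmem ((hSmem _).2 hc)
      have h1 : α (f (X.fromSpecStalk x P')) = 0 := by
        rw [← gen_pr h₀]
        exact h0
      show 0 = Cyc.pullFun f δX δY e ⇑α (X.fromSpecStalk x P')
      unfold Cyc.pullFun
      split_ifs
      · rw [h1, zero_mul]
      · rfl
  have hkeyβ : ∀ Q', ∑ Q ∈ T, bβ Q * V Q Q' = b' Q' := by
    intro Q'
    have h₀ := map_gen_specializes f x Q'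
    have hterm : ∀ Q ∈ T, bβ Q * V Q Q' = if Q = pr h₀ then b' Q' else 0 :=
      fun Q _ => pullFun_gen f δX δY hdX hdY e hrel hδ ⇑β s hβz x hA b hb Q' h₀ Q
    rw [Finset.sum_congr rfl hterm, Finset.sum_ite_eq' T (pr h₀) (fun _ => b' Q')]
    split_ifs with hmem
    · rfl
    · have h0 : bβ (pr h₀) = 0 := by
        by_contra hc
        exact hmem ((hTmem _).2 hc)
      have h1 : β (f (X.fromSpecStalk x Q')) = 0 := by
        rw [← gen_pr h₀]
        exact h0
      show 0 = Cyc.pullFun f δX δY e ⇑β (X.fromSpecStalk x Q')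
      unfold Cyc.pullFun
      split_ifs
      · rw [h1, zero_mul]
      · rfl
  have ha'supp : ∀ P', a' P' ≠ 0 → P' ∈ S' := by
    intro P' h
    rw [← hkeyα P'] at h
    obtain ⟨P, hP, hne⟩ := Finset.exists_ne_zero_of_sum_ne_zero h
    exact hS'mem P hP P' (right_ne_zero_of_mul hne)
  have hb'supp : ∀ Q', b' Q' ≠ 0 → Q' ∈ T' := by
    intro Q' h
    rw [← hkeyβ Q'] at h
    obtain ⟨Q, hQ, hne⟩ := Finset.exists_ne_zero_of_sum_ne_zero h
    exact hT'mem Q hQ Q' (right_ne_zero_of_mul hne)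
  -- the two sides as finite sums
  have hXside : IntMult.interProd δX n (Cyc.pullFun f δX δY e ⇑α) (Cyc.pullFun f δX δY e ⇑β) x =
      ∑ P' ∈ S', ∑ Q' ∈ T', a' P' * b' Q' * cB P' Q' := by
    rw [interProd_eq_finsum_primes, ← Finset.sum_product',
      finsum_eq_sum_of_support_subset (s := S' ×ˢ T')]
    · refine Finset.sum_congr rfl (fun z _ => ?_)
      by_cases h0 : a' z.1 * b' z.2 = 0
      · show (if _ then a' z.1 * b' z.2 * _ else 0) = a' z.1 * b' z.2 * _
        rw [h0, zero_mul, ite_self]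
      · have h1 := pullFun_ne_zero f δX δY e ⇑α _ (left_ne_zero_of_mul h0)
        have h2 := pullFun_ne_zero f δX δY e ⇑β _ (right_ne_zero_of_mul h0)
        have h3 : δY (f (X.fromSpecStalk x z.1)) = r := by
          by_contra hc
          exact h1.1 (hαz _ hc)
        have h4 : δY (f (X.fromSpecStalk x z.2)) = s := by
          by_contra hc
          exact h2.1 (hβz _ hc)
        rw [if_pos (by rw [h1.2, h2.2, h3, h4]; omega)]
    · intro z hz
      rw [Function.mem_support] at hz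
      have h0 : a' z.1 * b' z.2 ≠ 0 := by
        intro h0
        apply hz
        show (if _ then a' z.1 * b' z.2 * _ else 0) = 0
        rw [h0, zero_mul, ite_self]
      rw [Finset.mem_coe, Finset.mem_product]
      exact ⟨ha'supp _ (left_ne_zero_of_mul h0), hb'supp _ (right_ne_zero_of_mul h0)⟩
  have hYside : IntMult.interProd δY m ⇑α ⇑β (f x) =
      ∑ P ∈ S, ∑ Q ∈ T, aα P * bβ Q * cA P Q := by
    rw [interProd_eq_finsum_primes, ← Finset.sum_product',
      finsum_eq_sum_of_support_subset (s := S ×ˢ T)]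
    · refine Finset.sum_congr rfl (fun z hz => ?_)
      rw [Finset.mem_product] at hz
      rw [if_pos (by rw [hSr _ hz.1, hTs _ hz.2]; omega)]
    · intro z hz
      rw [Function.mem_support] at hz
      have h0 : aα z.1 * bβ z.2 ≠ 0 := by
        intro h0
        apply hz
        show (if _ then aα z.1 * bβ z.2 * _ else 0) = 0
        rw [h0, zero_mul, ite_self]
      rw [Finset.mem_coe, Finset.mem_product]
      exact ⟨(hSmem _).2 (left_ne_zero_of_mul h0), (hTmem _).2 (right_ne_zero_of_mul h0)⟩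
  -- the inner identity
  have hinner : ∀ P ∈ S, ∀ Q ∈ T,
      ∑ P' ∈ S', ∑ Q' ∈ T', W P P' * (V Q Q' * cB P' Q') =
        cA P Q * ((Module.length (X.presheaf.stalk x) (FibRing f x)).toNat : ℤ) := by
    intro P hP Q hQ
    have hS1 := suppCond_quot_of_forall δY hdY (f x) P Q (hPQ P hP Q hQ)
    have hS2 := suppCond_quot_map_of_forall f δX δY hdX hdY e hrel hδ x hA P Q (hPQ P hP Q hQ)
    have hsupp : Function.support (fun z : PrimeSpectrum (X.presheaf.stalk x) ×
        PrimeSpectrum (X.presheaf.stalk x) => W P z.1 * (V Q z.2 * cB z.1 z.2)) ⊆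
        ((S' ×ˢ T' : Finset _) : Set _) := by
      intro z hz
      rw [Function.mem_support] at hz
      rw [Finset.mem_coe, Finset.mem_product]
      exact ⟨hS'mem P hP _ (left_ne_zero_of_mul hz),
        hT'mem Q hQ _ (left_ne_zero_of_mul (right_ne_zero_of_mul hz))⟩
    rw [← Finset.sum_product', ← finsum_eq_sum_of_support_subset _ hsupp,
      ← rhsZ_rhsZ_eq a b (fun P' Q' => cB P' Q') _ _ (hWdim P hP) (hVdim Q hQ),
      ← chi_eq_double a b (dB + 1) hD hvan _ _ (hWdim P hP) (hVdim Q hQ) hS2]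
    have e1 : IntMult.chi (X.presheaf.stalk x)
        (X.presheaf.stalk x ⧸ P.asIdeal.map (f.stalkMap x).hom)
        (X.presheaf.stalk x ⧸ Q.asIdeal.map (f.stalkMap x).hom) =
        IntMult.chi (X.presheaf.stalk x)
          (X.presheaf.stalk x ⊗[Y.presheaf.stalk (f x)] (Y.presheaf.stalk (f x) ⧸ P.asIdeal))
          (X.presheaf.stalk x ⊗[Y.presheaf.stalk (f x)] (Y.presheaf.stalk (f x) ⧸ Q.asIdeal)) :=
      (chi_congr_left _ (Ideal.qoutMapEquivTensorQout (X.presheaf.stalk x)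
        (I := P.asIdeal))).trans (chi_congr_right _
          (Ideal.qoutMapEquivTensorQout (X.presheaf.stalk x) (I := Q.asIdeal)))
    rw [e1, Groth.Agent.Lib.helper2.TorFlat.chi_baseChange (Y.presheaf.stalk (f x))
      (X.presheaf.stalk x) _ _ (fun i => isFiniteLength_T _ _ hS1 i),
      Groth.Agent.Lib.helper2.IM.chi_symm]
    rfl
  rw [hXside, hYside]
  symm
  calc ∑ P' ∈ S', ∑ Q' ∈ T', a' P' * b' Q' * cB P' Q'
      = ∑ P' ∈ S', ∑ Q' ∈ T', (∑ P ∈ S, aα P * W P P') * (∑ Q ∈ T, bβ Q * V Q Q') *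
          cB P' Q' := by
        refine Finset.sum_congr rfl (fun P' _ => Finset.sum_congr rfl (fun Q' _ => ?_))
        rw [hkeyα P', hkeyβ Q']
    _ = ∑ P ∈ S, ∑ Q ∈ T, aα P * bβ Q *
          ∑ P' ∈ S', ∑ Q' ∈ T', W P P' * (V Q Q' * cB P' Q') := four_sum S T S' T' aα bβ W V cB
    _ = ∑ P ∈ S, ∑ Q ∈ T, aα P * bβ Q *
          (cA P Q * ((Module.length (X.presheaf.stalk x) (FibRing f x)).toNat : ℤ)) := by
        refine Finset.sum_congr rfl (fun P hP => Finset.sum_congr rfl (fun Q hQ => ?_))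
        rw [hinner P hP Q hQ]
    _ = (∑ P ∈ S, ∑ Q ∈ T, aα P * bβ Q * cA P Q) *
          ((Module.length (X.presheaf.stalk x) (FibRing f x)).toNat : ℤ) := by
        simp only [Finset.sum_mul, mul_assoc]

end Groth.Agent.Lib.helper2.DevSch
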