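import Groth.Agent.Lib.Helper2.DevSch8

/-!
# helper2: flat pullback commutes with the intersection product of properly intersecting cycles
(S6451)
-/

set_option autoImplicit false
universe u
open CategoryTheory CategoryTheory.Limits AlgebraicGeometry TopologicalSpace Opposite IsLocalRing
  TensorProduct

namespace Groth.Agent.Lib.helper2.DevSch

open Groth.Agent.Lib.helper16.OrdGen Groth.Agent.Lib.helper16.GenFib
  Groth.Agent.Lib.helper16.DivSum Groth.Agent.Lib.helper16.StalkLoc
  Groth.Agent.Lib.helper16.CohStalk Groth.Agent.Lib.helper16.CycFlat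
  Groth.Agent.Lib.helper16.FinDeg
  Groth.Agent.Lib.helper17.FibreStalk Groth.Agent.Lib.helper17.StalkPullback
  Groth.Agent.Lib.helper26.HS Groth.Agent.Lib.helper2.Dev Groth.Agent.Lib.helper2.Aus

variable {X Y : Scheme.{u}}

theorem interProd_eq_zero_of_forall (δ : X → ℤ) (n : ℤ) (α β : X → ℤ) (ζ : X)
    (h : ∀ ξ η : X, ξ ⤳ ζ → η ⤳ ζ → δ ξ + δ η - n = δ ζ → α ξ * β η = 0) :
    IntMult.interProd δ n α β ζ = 0 := by
  unfold IntMult.interProd
  refine (finsum_congr (fun p => ?_)).trans finsum_zero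
  rw [h _ _ p.2.1 p.2.2.1 p.2.2.2, zero_mul]

/-- S6451: flat pullback commutes with the intersection product of properly intersecting
cycles on smooth varieties. -/
theorem pullFun_interProd_eq (K : Type u) [Field K] (f : X ⟶ Y)
    (gX : X ⟶ Spec (CommRingCat.of K)) (gY : Y ⟶ Spec (CommRingCat.of K)) (hf : f ≫ gY = gX)
    [Smooth gX] [IsIntegral X] [Smooth gY] [IsIntegral Y] [Flat f]
    (δX : X → ℤ) (δY : Y → ℤ) (hX : Cyc.IsSetup X δX) (hY : Cyc.IsSetup Y δY)
    (hδ : Cyc.DeltaCompat f δX δY) (n m : ℤ) (hn : δX (genericPoint X) = n)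
    (hm : δY (genericPoint Y) = m) (e : ℕ) (he : (e : ℤ) = n - m) (hrel : Cyc.HasRelDim f e)
    (r s : ℤ) (α β : AlgebraicCycle Y ℤ) (hα : α ∈ Cyc.Zk Y δY r) (hβ : β ∈ Cyc.Zk Y δY s)
    (hprop : IntMult.IntersectProperly δY m ⇑α ⇑β) :
    IntMult.IntersectProperly δX n (Cyc.pullFun f δX δY e ⇑α) (Cyc.pullFun f δX δY e ⇑β) ∧
      Cyc.pullFun f δX δY e (IntMult.interProd δY m ⇑α ⇑β) =
        IntMult.interProd δX n (Cyc.pullFun f δX δY e ⇑α) (Cyc.pullFun f δX δY e ⇑β) := by
  haveI : IsLocallyNoetherian X := hX.1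
  haveI : IsLocallyNoetherian Y := hY.1
  haveI : LocallyOfFiniteType f := by
    haveI : LocallyOfFiniteType (f ≫ gY) := by rw [hf]; infer_instance
    exact locallyOfFiniteType_of_comp f gY
  have hαz : ∀ y, δY y ≠ r → α y = 0 := hα
  have hβz : ∀ y, δY y ≠ s → β y = 0 := hβ
  have hle : ∀ x' : X, δX x' ≤ δY (f x') + e := by
    intro x'
    obtain ⟨n', b', h4, h5, -⟩ := deltaCompat_fibre f δX δY e hrel hδ x'
    omega
  -- nonvanishing of the pullbacks
  have hnzα : ∀ ξ' : X, Cyc.pullFun f δX δY e ⇑α ξ' ≠ 0 →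
      α (f ξ') ≠ 0 ∧ δY (f ξ') = r ∧ δX ξ' = r + e := by
    intro ξ' h
    obtain ⟨h1, h2⟩ := pullFun_ne_zero f δX δY e ⇑α ξ' h
    have h3 : δY (f ξ') = r := by
      by_contra hc
      exact h1 (hαz _ hc)
    exact ⟨h1, h3, by omega⟩
  have hnzβ : ∀ ξ' : X, Cyc.pullFun f δX δY e ⇑β ξ' ≠ 0 →
      β (f ξ') ≠ 0 ∧ δY (f ξ') = s ∧ δX ξ' = s + e := by
    intro ξ' h
    obtain ⟨h1, h2⟩ := pullFun_ne_zero f δX δY e ⇑β ξ' h
    have h3 : δY (f ξ') = s := by
      by_contra hc
      exact h1 (hβz _ hc)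
    exact ⟨h1, h3, by omega⟩
  refine ⟨?_, ?_⟩
  · intro ξ' η' ζ' h1 h2 h3 h4
    obtain ⟨h1a, h1b, h1c⟩ := hnzα ξ' h1
    obtain ⟨h2a, h2b, h2c⟩ := hnzβ η' h2
    have h5 := hprop _ _ (f ζ') h1a h2a (f.base.hom.map_specializes h3)
      (f.base.hom.map_specializes h4)
    have h6 := hle ζ'
    omega
  · funext x
    by_cases hA : δX x = δY (f x) + e
    · by_cases hB : δY (f x) = r + s - m
      · rw [← pullFun_interProd_main K f gX gY hf δX δY hX hY hδ n m hn hm e he hrel r s α β hα hβ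
          hprop x hA hB]
        unfold Cyc.pullFun
        rw [if_pos hA]
      · have h1 : IntMult.interProd δY m ⇑α ⇑β (f x) = 0 := by
          refine interProd_eq_zero_of_forall δY m _ _ _ (fun ξ η hξ hη hc => ?_)
          by_contra hne
          have h2 : δY ξ = r := by
            by_contra hc'
            exact left_ne_zero_of_mul hne (hαz _ hc')
          have h3 : δY η = s := by
            by_contra hc'
            exact right_ne_zero_of_mul hne (hβz _ hc')
          omega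
        have h2 : IntMult.interProd δX n (Cyc.pullFun f δX δY e ⇑α)
            (Cyc.pullFun f δX δY e ⇑β) x = 0 := by
          refine interProd_eq_zero_of_forall δX n _ _ _ (fun ξ η hξ hη hc => ?_)
          by_contra hne
          obtain ⟨h1a, h1b, h1c⟩ := hnzα ξ (left_ne_zero_of_mul hne)
          obtain ⟨h2a, h2b, h2c⟩ := hnzβ η (right_ne_zero_of_mul hne)
          omega
        rw [h2]
        unfold Cyc.pullFun
        rw [if_pos hA, h1, zero_mul]
    · have h2 : IntMult.interProd δX n (Cyc.pullFun f δX δY e ⇑α)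
          (Cyc.pullFun f δX δY e ⇑β) x = 0 := by
        refine interProd_eq_zero_of_forall δX n _ _ _ (fun ξ η hξ hη hc => ?_)
        by_contra hne
        obtain ⟨h1a, h1b, h1c⟩ := hnzα ξ (left_ne_zero_of_mul hne)
        obtain ⟨h2a, h2b, h2c⟩ := hnzβ η (right_ne_zero_of_mul hne)
        have h5 := hprop _ _ (f x) h1a h2a (f.base.hom.map_specializes hξ)
          (f.base.hom.map_specializes hη)
        have h6 := hle x
        omega
      rw [h2]
      unfold Cyc.pullFun
      rw [if_neg hA]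

end Groth.Agent.Lib.helper2.DevSch
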