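import Groth.Agent.Lib.Helper7.TorBC
import Groth.Agent.Lib.Helper7.ModSES
import Mathlib.LinearAlgebra.TensorProduct.Pi

/-!
# helper2: reduction to the diagonal for `Tor`, abstract form

`A → B → A` ring maps with composite the identity (so `A` is a `B`-module), `C` a `B`-algebra which is
flat over `A` and such that `Tor^B_n(A, C) = 0` for `n ≥ 1`.  Then for every finite `A`-module `M`
(`A` Noetherian) there is a bijection `Tor^B_n(A, C ⊗_A M) → Tor^A_n(A ⊗_B C, M)`, semilinear over
`B → A`.
-/

universe u

open CategoryTheory CategoryTheory.Limits TensorProduct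

namespace Groth.Agent.Lib.helper2.Diag

open Groth.Agent.Lib.helper7 Groth.Agent.Lib.helper7.TorBC

section pi

variable {B : Type u} [CommRing B]

lemma isZero_T_pi (X : ModuleCat.{u} B) (Y : Type u) [AddCommGroup Y] [Module B Y] (n : ℕ)
    (h : IsZero ((TorAPI.T n X).obj (ModuleCat.of B Y))) (k : ℕ) :
    IsZero ((TorAPI.T n X).obj (ModuleCat.of B (Fin k → Y))) := by
  induction k with
  | zero => exact (TorAPI.T n X).map_isZero (ModuleCat.isZero_of_subsingleton _)
  | succ k ih =>
    let f : Y →ₗ[B] (Fin (k + 1) → Y) := LinearMap.single B (fun _ => Y) 0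
    let g : (Fin (k + 1) → Y) →ₗ[B] (Fin k → Y) :=
      LinearMap.pi (fun i : Fin k => LinearMap.proj i.succ)
    have hex : Function.Exact f g := by
      intro v
      constructor
      · intro hv
        refine ⟨v 0, ?_⟩
        funext i
        refine Fin.cases ?_ (fun j => ?_) i
        · simp [f]
        · have : v j.succ = 0 := congrFun hv j
          simp [f, this]
      · rintro ⟨y, rfl⟩
        funext j
        simp [f, g]
    have hf : Function.Injective f := fun a b hab => by
      have := congrFun hab 0
      simpa [f] using this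
    have hg : Function.Surjective g := by
      intro w
      refine ⟨Fin.cons 0 w, ?_⟩
      funext j
      simp [g]
    have hS := ModSES.mkSES_shortExact f g hex hf hg
    have hex2 := TorAPI.T_exact₂ X hS n
    exact hex2.isZero_of_both_zeros (h.eq_of_src _ _) (ih.eq_of_tgt _ _)

end pi

variable (A B C : Type u) [CommRing A] [CommRing B] [CommRing C]
  [Algebra A B] [Algebra B A] [IsScalarTower A B A]
  [Algebra B C] [Algebra A C] [IsScalarTower A B C]

/-- `(A ⊗[B] C) ⊗[A] M ≃ A ⊗[B] (C ⊗[A] M)` -/
noncomputable def θ (M : Type u) [AddCommGroup M] [Module A M] :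
    (A ⊗[B] C) ⊗[A] M ≃ₗ[B] A ⊗[B] (C ⊗[A] M) :=
  TensorProduct.AlgebraTensorModule.assoc A B B A C M

lemma θ_naturality {K F : Type u} [AddCommGroup K] [Module A K] [AddCommGroup F] [Module A F]
    (j : K →ₗ[A] F) (z : (A ⊗[B] C) ⊗[A] K) :
    θ A B C F (LinearMap.lTensor (A ⊗[B] C) j z) =
      LinearMap.lTensor A ((LinearMap.baseChange C j).restrictScalars B) (θ A B C K z) := by
  induction z using TensorProduct.induction_on with
  | zero => simp
  | add x y hx hy => simp only [map_add, hx, hy]
  | tmul w k =>
    induction w using TensorProduct.induction_on with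
    | zero => simp
    | add x y hx hy => simp only [TensorProduct.add_tmul, map_add, hx, hy]
    | tmul a c =>
      simp [θ]


/-- `θ.symm` as a bijection semilinear over `B → A`. -/
lemma semiBij_θ (M : Type u) [AddCommGroup M] [Module A M] :
    ∃ φ : A ⊗[B] (C ⊗[A] M) →ₛₗ[algebraMap B A] (A ⊗[B] C) ⊗[A] M,
      Function.Bijective φ ∧ ∀ z, φ z = (θ A B C M).symm z := by
  refine ⟨{ toFun := (θ A B C M).symm, map_add' := (θ A B C M).symm.map_add,
            map_smul' := fun b x => ?_ }, (θ A B C M).symm.bijective, fun _ => rfl⟩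
  change (θ A B C M).symm (b • x) = algebraMap B A b • (θ A B C M).symm x
  rw [(θ A B C M).symm.map_smul, algebraMap_smul]

variable [IsNoetherianRing A] [Module.Flat A C]

/-- **Reduction to the diagonal**, abstract form (semilinear bijection, by dimension shifting). -/
theorem semiBij_diag
    (hC : ∀ n, IsZero ((TorAPI.T (n + 1) (ModuleCat.of B A)).obj (ModuleCat.of B C))) (n : ℕ) :
    ∀ (M : Type u) [AddCommGroup M] [Module A M] [Module.Finite A M],
    SemiBij (A := B) (A' := A)
      ((TorAPI.T n (ModuleCat.of B A)).obj (ModuleCat.of B (C ⊗[A] M)))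
      ((TorAPI.T n (ModuleCat.of A (A ⊗[B] C))).obj (ModuleCat.of A M)) := by
  induction n using Nat.strong_induction_on with
  | _ n ih =>
  intro M _ _ _
  -- a finite free presentation of `M`
  obtain ⟨k, π, hπ⟩ := Module.Finite.exists_fin' A M
  let F := Fin k → A
  let K := LinearMap.ker π
  let j : K →ₗ[A] F := (LinearMap.ker π).subtype
  have hj : Function.Injective j := Submodule.injective_subtype _
  have hex : Function.Exact j π := LinearMap.exact_subtype_ker_map π
  have hS := ModSES.mkSES_shortExact j π hex hj hπ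
  let j' : C ⊗[A] K →ₗ[B] C ⊗[A] F := (LinearMap.baseChange C j).restrictScalars B
  let π' : C ⊗[A] F →ₗ[B] C ⊗[A] M := (LinearMap.baseChange C π).restrictScalars B
  have hex' : Function.Exact j' π' := lTensor_exact C hex hπ
  have hj' : Function.Injective j' := Module.Flat.lTensor_preserves_injective_linearMap j hj
  have hπ' : Function.Surjective π' := LinearMap.lTensor_surjective C hπ
  have hS' := ModSES.mkSES_shortExact j' π' hex' hj' hπ'
  haveI : Projective (ModSES.mkSES j π hex).X₂ :=
    (IsProjective.iff_projective (ModuleCat.of A F)).1 (inferInstanceAs (Module.Projective A F))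
  have hzero : ∀ m, IsZero ((TorAPI.T (m + 1) (ModuleCat.of B A)).obj
      (ModSES.mkSES j' π' hex').X₂) := by
    intro m
    have h1 := isZero_T_pi (ModuleCat.of B A) C (m + 1) (hC m) k
    have e : (Fin k → C) ≃ₗ[B] C ⊗[A] F := (TensorProduct.piScalarRight A B C (Fin k)).symm
    exact h1.of_iso ((TorAPI.T (m + 1) (ModuleCat.of B A)).mapIso e.toModuleIso).symm
  match n, ih with
  | 0, _ =>
    have e₁ := ((TorAPI.tor0Iso (ModuleCat.of B A)).app (ModuleCat.of B (C ⊗[A] M))).toLinearEquiv
    have e₂ := ((TorAPI.tor0Iso (ModuleCat.of A (A ⊗[B] C))).app (ModuleCat.of A M)).toLinearEquiv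
    obtain ⟨φ, hφ, -⟩ := semiBij_θ A B C M
    have h : SemiBij (A := B) (A' := A) (A ⊗[B] (C ⊗[A] M)) ((A ⊗[B] C) ⊗[A] M) := ⟨φ, hφ⟩
    exact (h.comp_left e₁).comp_right e₂.symm
  | 1, _ =>
    obtain ⟨d, hd, hdr⟩ := TorAPI.exists_linearMap_tor_one (ModuleCat.of B A) hS' (hzero 0)
    obtain ⟨d', hd', hdr'⟩ := TorAPI.exists_linearMap_tor_one (ModuleCat.of A (A ⊗[B] C)) hS
      (TorAPI.isZero_T_projective _ _ 0)
    have hdr2 : LinearMap.range d = LinearMap.ker (LinearMap.lTensor A j') := hdr
    have hdr2' : LinearMap.range d' = LinearMap.ker (LinearMap.lTensor (A ⊗[B] C) j) := hdr'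
    obtain ⟨φ, hφ, hφθ⟩ := semiBij_θ A B C K
    have h : SemiBij (A := B) (A' := A) (LinearMap.range d) (LinearMap.range d') := by
      refine SemiBij.of_submodule φ hφ _ _ ?_
      intro x
      rw [hdr2, hdr2', LinearMap.mem_ker, LinearMap.mem_ker, hφθ]
      have hn := θ_naturality A B C j ((θ A B C K).symm x)
      rw [LinearEquiv.apply_symm_apply] at hn
      constructor
      · intro hx
        apply (θ A B C F).injective
        rw [hn, map_zero]
        exact hx
      · intro hx
        have : LinearMap.lTensor A j' x = 0 := by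
          change LinearMap.lTensor A ((LinearMap.baseChange C j).restrictScalars B) x = 0
          rw [← hn, hx, map_zero]
        exact this
    exact (h.comp_left (LinearEquiv.ofInjective d hd)).comp_right
      (LinearEquiv.ofInjective d' hd').symm
  | (m + 2), ih =>
    obtain ⟨a⟩ := TorAPI.exists_iso_of_isZero (ModuleCat.of B A) hS' (m + 1)
      (hzero (m + 1)) (hzero m)
    obtain ⟨a'⟩ := TorAPI.exists_iso_of_isZero (ModuleCat.of A (A ⊗[B] C)) hS (m + 1)
      (TorAPI.isZero_T_projective _ _ (m + 1)) (TorAPI.isZero_T_projective _ _ m)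
    haveI : Module.Finite A K := Module.IsNoetherian.finite A K
    have h := ih (m + 1) (by omega) K
    exact (h.comp_left a.toLinearEquiv).comp_right a'.toLinearEquiv.symm

end Groth.Agent.Lib.helper2.Diag
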