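import Groth.Agent.Lib.Helper2.Diag9
import Groth.Agent.Lib.Helper2.Dev4

/-!
# helper2: Serre's vanishing theorem `χ(A/p, A/q) = 0` when `dim A/p + dim A/q < dim A`, for local
rings essentially smooth over a field, by reduction to the diagonal
-/

universe u

open TensorProduct Algebra.TensorProduct IsLocalRing CategoryTheory CategoryTheory.Limits
  RingTheory.Sequence

namespace Groth.Agent.Lib.helper2.Diag

open Groth.Agent.Lib.helper7

variable (K A : Type u) [Field K] [CommRing A] [Algebra K A] [IsLocalRing A] [IsNoetherianRing A]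
  [Algebra.EssFiniteType K A] [Algebra.FormallySmooth K A]

include K in
/-- **Serre's vanishing theorem** for a Noetherian local ring essentially of finite
type and formally smooth over a field. -/
theorem serre_vanish (p q : Ideal A) (hp : p ≠ ⊤) (hq : q ≠ ⊤)
    (h0 : ringKrullDim (A ⧸ (p ⊔ q)) = 0)
    (hlt : ringKrullDim (A ⧸ p) + ringKrullDim (A ⧸ q) < ringKrullDim A) :
    IntMult.chi A (A ⧸ q) (A ⧸ p) = 0 := by
  obtain ⟨c, g, hIg, hreg⟩ := exists_regular_ker K A
  obtain ⟨a, v, w, δ, ha, hv, hw, hb, hJd⟩ := dim_package_diag K A p q hp hq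
  haveI hl1 := isLocalHom_φL K A
  haveI hl2 := isLocalHom_φR K A
  set Q := idR K A A (BB K A) (ψ K A) q with hQdef
  set J := Q ⊔ p.map (φL K A A (BB K A) (ψ K A)) with hJdef
  set I := RingHom.ker (π K A) with hIdef
  have hItop : I ≠ ⊤ := by
    rw [hIdef]
    exact RingHom.ker_ne_top _
  have hIm : I ≤ maximalIdeal (BB K A) := le_maximalIdeal hItop
  have hJtop : J ≠ ⊤ := by
    intro h
    have h1 : J ≤ maximalIdeal (BB K A) := by
      rw [hJdef, hQdef, idR_eq]
      exact sup_le (map_le_maximalIdeal_of_isLocalHom _ q hq)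
        (map_le_maximalIdeal_of_isLocalHom _ p hp)
    rw [h] at h1
    exact (maximalIdeal.isMaximal (BB K A)).ne_top (top_le_iff.mp h1)
  -- `dim B = dim A + c`
  have hb2 : ringKrullDim (BB K A) = (a + c : ℕ) := by
    have h := ringKrullDim_add_length_eq_ringKrullDim_of_isRegular (List.ofFn g) hreg
    rw [List.length_ofFn, ofList_ofFn, ← hIg,
      ringKrullDim_eq_of_ringEquiv (RingHom.quotientKerEquivOfSurjective (π_surjective K A)),
      ha] at h
    rw [← h]
    push_cast
    rfl
  have hbb : a + a + δ = a + c := by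
    have : ((a + a + δ : ℕ) : WithBot ℕ∞) = ((a + c : ℕ) : WithBot ℕ∞) := by rw [← hb, ← hb2]
    exact_mod_cast this
  rw [ha, hv, hw] at hlt
  have hlt' : v + w < a := by exact_mod_cast hlt
  have hJI0 : ringKrullDim (BB K A ⧸ (J ⊔ I)) = 0 := by
    rw [ringKrullDim_quot_sup_ker K A p q, h0]
  have hvan := Groth.Agent.Lib.helper2.IM.chi_eq_zero_of_dim_lt J I c g hIg hreg hJtop hJI0
    (v + w + δ) hJd.le (by omega)
  rw [Groth.Agent.Lib.helper2.IM.chi_symm] at hvan
  -- reduction to the diagonal
  letI instBA : Algebra (BB K A) A := (π K A).toAlgebra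
  have hAB : algebraMap A (BB K A) = φL K A A (BB K A) (ψ K A) := by
    ext a
    rfl
  haveI : IsScalarTower A (BB K A) A := IsScalarTower.of_algebraMap_eq (fun a => by
    rw [hAB]
    exact (π_φL K A a).symm)
  haveI : Module.Flat A (BB K A ⧸ Q) := by
    have h := flat_left K A A (BB K A) (ψ K A) (ψ_flat K A) q
    rw [← RingHom.flat_algebraMap_iff]
    exact h
  have hC : ∀ n, IsZero ((TorAPI.T (n + 1) (ModuleCat.of (BB K A) A)).obj
      (ModuleCat.of (BB K A) (BB K A ⧸ Q))) := by
    intro n
    have hflat2 : @Module.Flat A (BB K A) _ _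
        (φR K A A (BB K A) (ψ K A)).toAlgebra.toModule := φR_flat K A
    have htower2 : @IsScalarTower A (BB K A) A
        (φR K A A (BB K A) (ψ K A)).toAlgebra.toSMul instBA.toSMul _ :=
      @IsScalarTower.of_algebraMap_eq A (BB K A) A _ _ _ (φR K A A (BB K A) (ψ K A)).toAlgebra
        instBA _ (fun a => (π_φR K A a).symm)
    have h := @isZero_T_section A (BB K A) _ _ (φR K A A (BB K A) (ψ K A)).toAlgebra instBA
      htower2 hflat2 q n
    rw [hQdef, idR_eq]
    exact h
  have hchi := chi_diag A (BB K A) Q hC (π_surjective K A) I rfl p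
  have hQq : Q.map (algebraMap (BB K A) A) = q := by
    rw [hQdef, idR_eq, Ideal.map_map]
    have h1 : (algebraMap (BB K A) A).comp (φR K A A (BB K A) (ψ K A)) = RingHom.id A :=
      RingHom.ext (π_φR K A)
    rw [h1, Ideal.map_id]
  rw [hQq, hAB] at hchi
  rw [hchi]
  exact hvan

end Groth.Agent.Lib.helper2.Diag
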