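import Groth.Agent.Lib.Helper2.Diag1
import Groth.Prelude.Def_IntMult
import Mathlib.RingTheory.TensorProduct.Quotient
import Mathlib.RingTheory.Ideal.Quotient.Operations

/-!
# helper2: reduction to the diagonal, Euler characteristics

With `A → B → A` the identity, `Q` an ideal of `B` with `B/Q` flat over `A` and `Tor^B_n(A, B/Q) = 0`
for `n ≥ 1`, and `B → A` surjective with kernel `I`:
`χ^A(A/QA, A/p) = χ^B(B/I, B/(Q + pB))`.
-/

universe u

open CategoryTheory CategoryTheory.Limits TensorProduct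

namespace Groth.Agent.Lib.helper2.Diag

open Groth.Agent.Lib.helper7 Groth.Agent.Lib.helper7.TorBC

section length

variable {B A : Type u} [CommRing B] [CommRing A] [Algebra B A]

lemma SemiBij.length_eq {Z : Type*} [AddCommGroup Z] [Module B Z] {X : Type*} [AddCommGroup X]
    [Module A X] (h : SemiBij (A := B) (A' := A) Z X)
    (hs : Function.Surjective (algebraMap B A)) :
    Module.length B Z = Module.length A X := by
  obtain ⟨φ, hφ⟩ := h
  haveI : RingHomSurjective (algebraMap B A) := ⟨hs⟩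
  rw [Module.length, Module.length, WithBot.unbot_inj,
    Order.krullDim_eq_of_orderIso (Submodule.orderIsoMapComapOfBijective φ hφ)]

end length

variable (A B : Type u) [CommRing A] [CommRing B]
  [Algebra A B] [Algebra B A] [IsScalarTower A B A]

/-- `A ⊗[B] (B ⧸ Q) ≃ A ⧸ Q A`. -/
noncomputable def e1 (Q : Ideal B) :
    A ⊗[B] (B ⧸ Q) ≃ₗ[A] A ⧸ Q.map (algebraMap B A) :=
  (Algebra.TensorProduct.quotIdealMapEquivTensorQuot A Q).toLinearEquiv.symm

/-- `(B ⧸ Q) ⊗[A] (A ⧸ p) ≃ B ⧸ (Q ⊔ p B)`. -/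
noncomputable def e2 (Q : Ideal B) (p : Ideal A) :
    (B ⧸ Q) ⊗[A] (A ⧸ p) ≃ₗ[B] B ⧸ (Q ⊔ p.map (algebraMap A B)) :=
  ((Algebra.TensorProduct.quotIdealMapEquivTensorQuot (B ⧸ Q) p).toLinearEquiv.symm.restrictScalars
      B) ≪≫ₗ
    (Submodule.quotEquivOfEq _ _ (by
      rw [IsScalarTower.algebraMap_eq A B (B ⧸ Q), ← Ideal.map_map]
      rfl)).restrictScalars B ≪≫ₗ
    (DoubleQuot.quotQuotEquivQuotSupₐ B Q (p.map (algebraMap A B))).toLinearEquiv


variable [IsNoetherianRing A]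

theorem length_tor_diag (Q : Ideal B) [Module.Flat A (B ⧸ Q)]
    (hC : ∀ n, IsZero ((TorAPI.T (n + 1) (ModuleCat.of B A)).obj (ModuleCat.of B (B ⧸ Q))))
    (hs : Function.Surjective (algebraMap B A)) (I : Ideal B)
    (hI : I = RingHom.ker (algebraMap B A)) (p : Ideal A) (n : ℕ) :
    Module.length A (DRing.Tor A n (A ⧸ Q.map (algebraMap B A)) (A ⧸ p)) =
      Module.length B (DRing.Tor B n (B ⧸ I) (B ⧸ (Q ⊔ p.map (algebraMap A B)))) := by
  have h := semiBij_diag A B (B ⧸ Q) hC n (A ⧸ p)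
  have hlen := SemiBij.length_eq h hs
  -- first variable over `A`
  have i1 : (TorAPI.T n (ModuleCat.of A (A ⊗[B] (B ⧸ Q)))).obj (ModuleCat.of A (A ⧸ p)) ≅
      (TorAPI.T n (ModuleCat.of A (A ⧸ Q.map (algebraMap B A)))).obj (ModuleCat.of A (A ⧸ p)) :=
    ((Tor (ModuleCat.{u} A) n).mapIso (e1 A B Q).toModuleIso).app _
  -- `A ≃ B ⧸ I`
  have e3 : A ≃ₗ[B] B ⧸ I :=
    (LinearMap.quotKerEquivOfSurjective (Algebra.linearMap B A) hs).symm ≪≫ₗ
      Submodule.quotEquivOfEq _ _ (by rw [hI]; rfl)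
  have i2 : (TorAPI.T n (ModuleCat.of B A)).obj (ModuleCat.of B ((B ⧸ Q) ⊗[A] (A ⧸ p))) ≅
      (TorAPI.T n (ModuleCat.of B (B ⧸ I))).obj (ModuleCat.of B ((B ⧸ Q) ⊗[A] (A ⧸ p))) :=
    ((Tor (ModuleCat.{u} B) n).mapIso e3.toModuleIso).app _
  have i3 : (TorAPI.T n (ModuleCat.of B (B ⧸ I))).obj (ModuleCat.of B ((B ⧸ Q) ⊗[A] (A ⧸ p))) ≅
      (TorAPI.T n (ModuleCat.of B (B ⧸ I))).obj
        (ModuleCat.of B (B ⧸ (Q ⊔ p.map (algebraMap A B)))) :=
    (TorAPI.T n (ModuleCat.of B (B ⧸ I))).mapIso (e2 A B Q p).toModuleIso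
  have h1 : Module.length A (DRing.Tor A n (A ⧸ Q.map (algebraMap B A)) (A ⧸ p)) =
      Module.length A ((TorAPI.T n (ModuleCat.of A (A ⊗[B] (B ⧸ Q)))).obj
        (ModuleCat.of A (A ⧸ p))) := i1.toLinearEquiv.length_eq.symm
  have h2 : Module.length B (DRing.Tor B n (B ⧸ I) (B ⧸ (Q ⊔ p.map (algebraMap A B)))) =
      Module.length B ((TorAPI.T n (ModuleCat.of B A)).obj
        (ModuleCat.of B ((B ⧸ Q) ⊗[A] (A ⧸ p)))) := (i2 ≪≫ i3).toLinearEquiv.length_eq.symm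
  rw [h1, h2, hlen]

theorem chi_diag (Q : Ideal B) [Module.Flat A (B ⧸ Q)]
    (hC : ∀ n, IsZero ((TorAPI.T (n + 1) (ModuleCat.of B A)).obj (ModuleCat.of B (B ⧸ Q))))
    (hs : Function.Surjective (algebraMap B A)) (I : Ideal B)
    (hI : I = RingHom.ker (algebraMap B A)) (p : Ideal A) :
    IntMult.chi A (A ⧸ Q.map (algebraMap B A)) (A ⧸ p) =
      IntMult.chi B (B ⧸ I) (B ⧸ (Q ⊔ p.map (algebraMap A B))) := by
  unfold IntMult.chi
  refine finsum_congr fun n => ?_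
  rw [length_tor_diag A B Q hC hs I hI p n]

end Groth.Agent.Lib.helper2.Diag
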