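import Groth.Agent.Lib.Helper7.TorBC
import Mathlib.RingTheory.TensorProduct.Quotient

/-!
# helper2: `Tor^B_n(A, B/qB) = 0` for `A → B → A` the identity with `A → B` flat
-/

universe u

open CategoryTheory CategoryTheory.Limits TensorProduct

namespace Groth.Agent.Lib.helper2.Diag

open Groth.Agent.Lib.helper7 Groth.Agent.Lib.helper7.TorBC

variable (A B : Type u) [CommRing A] [CommRing B]
  [Algebra A B] [Algebra B A] [IsScalarTower A B A] [Module.Flat A B]

theorem isZero_T_section (q : Ideal A) (n : ℕ) :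
    IsZero ((TorAPI.T (n + 1) (ModuleCat.of B A)).obj
      (ModuleCat.of B (B ⧸ q.map (algebraMap A B)))) := by
  obtain ⟨φ, hφ⟩ := semiBij_tor A B A (n + 1) (A ⧸ q)
  have h0 : IsZero ((TorAPI.T (n + 1) (ModuleCat.of A A)).obj (ModuleCat.of A (A ⧸ q))) :=
    TorAPI.isZero_T_flat (ModuleCat.of A A) _ n
  have hsub : Subsingleton ((TorAPI.T (n + 1) (ModuleCat.of B A)).obj
      (ModuleCat.of B (B ⊗[A] (A ⧸ q)))) := by
    haveI := ModuleCat.subsingleton_of_isZero h0
    exact hφ.2.subsingleton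
  have hz : IsZero ((TorAPI.T (n + 1) (ModuleCat.of B A)).obj
      (ModuleCat.of B (B ⊗[A] (A ⧸ q)))) := ModuleCat.isZero_of_subsingleton _
  exact hz.of_iso ((TorAPI.T (n + 1) (ModuleCat.of B A)).mapIso
    (Algebra.TensorProduct.quotIdealMapEquivTensorQuot B q).toLinearEquiv.toModuleIso)

end Groth.Agent.Lib.helper2.Diag
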