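import Groth.Agent.Lib.Helper24.FlatQuot
import Mathlib.RingTheory.TensorProduct.Quotient
import Mathlib.RingTheory.RingHom.Flat

/-!
# helper2: flatness of `A₁ → B/(p₂ B)` for a flat `A₁ ⊗[K] A₂`-algebra `B` over a field `K`
-/

universe u

open TensorProduct Algebra.TensorProduct

namespace Groth.Agent.Lib.helper2.Diag

variable (K A₁ A₂ B : Type u) [Field K] [CommRing A₁] [CommRing A₂] [Algebra K A₁] [Algebra K A₂]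
  [CommRing B]

/-- the left structure map `A₁ → B`. -/
def φL (ψ : A₁ ⊗[K] A₂ →+* B) : A₁ →+* B := ψ.comp includeLeftRingHom

/-- the right structure map `A₂ → B`. -/
def φR (ψ : A₁ ⊗[K] A₂ →+* B) : A₂ →+* B :=
  ψ.comp (includeRight : A₂ →ₐ[K] A₁ ⊗[K] A₂).toRingHom

/-- the ideal of `B` generated by `p₂ ⊆ A₂`. -/
def idR (ψ : A₁ ⊗[K] A₂ →+* B) (p₂ : Ideal A₂) : Ideal B :=
  (p₂.map (includeRight : A₂ →ₐ[K] A₁ ⊗[K] A₂)).map ψ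

lemma idR_eq (ψ : A₁ ⊗[K] A₂ →+* B) (p₂ : Ideal A₂) :
    idR K A₁ A₂ B ψ p₂ = p₂.map (φR K A₁ A₂ B ψ) := by
  unfold idR φR
  change Ideal.map ψ (Ideal.map (includeRight : A₂ →ₐ[K] A₁ ⊗[K] A₂).toRingHom p₂) = _
  rw [Ideal.map_map]

theorem flat_left (ψ : A₁ ⊗[K] A₂ →+* B) (hψ : ψ.Flat) (p₂ : Ideal A₂) :
    ((Ideal.Quotient.mk (idR K A₁ A₂ B ψ p₂)).comp (φL K A₁ A₂ B ψ)).Flat := by
  letI : Algebra (A₁ ⊗[K] A₂) B := ψ.toAlgebra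
  haveI : Module.Flat (A₁ ⊗[K] A₂) B := hψ
  set 𝔞 : Ideal (A₁ ⊗[K] A₂) := p₂.map (includeRight : A₂ →ₐ[K] A₁ ⊗[K] A₂) with h𝔞
  have h1 : Module.Flat ((A₁ ⊗[K] A₂) ⧸ 𝔞) (B ⧸ 𝔞.map (algebraMap (A₁ ⊗[K] A₂) B)) :=
    Groth.Agent.Lib.Helper24.FlatQuot.flat_quotient (A₁ ⊗[K] A₂) B 𝔞
  have h2 : Module.Flat A₁ ((A₁ ⊗[K] A₂) ⧸ 𝔞) :=
    Module.Flat.of_linearEquiv (tensorQuotientEquiv (R := K) A₁ A₂ A₁ p₂).symm.toLinearEquiv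
  rw [← RingHom.flat_algebraMap_iff] at h1 h2
  exact h2.comp h1

end Groth.Agent.Lib.helper2.Diag
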