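import Groth.Agent.Lib.Helper2.Diag4

/-!
# helper2: dimensions of the quotients `B/(p₁ B + p₂ B)` of a flat local `A₁ ⊗[K] A₂`-algebra `B`
-/

universe u

open TensorProduct Algebra.TensorProduct IsLocalRing

namespace Groth.Agent.Lib.helper2.Diag

variable (K A₁ A₂ B : Type u) [Field K] [CommRing A₁] [CommRing A₂] [Algebra K A₁] [Algebra K A₂]
  [CommRing B]

lemma ringKrullDim_quot_map_comp (Q : Ideal B) (f : A₁ →+* B) (I : Ideal A₁) :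
    ringKrullDim ((B ⧸ Q) ⧸ I.map ((Ideal.Quotient.mk Q).comp f)) =
      ringKrullDim (B ⧸ (Q ⊔ I.map f)) := by
  rw [← Ideal.map_map]
  exact ringKrullDim_eq_of_ringEquiv (DoubleQuot.quotQuotEquivQuotSup Q (I.map f))

variable [IsLocalRing A₁] [IsNoetherianRing A₁] [IsLocalRing B] [IsNoetherianRing B]

theorem dim_left (ψ : A₁ ⊗[K] A₂ →+* B) (hψ : ψ.Flat) (hloc : IsLocalHom (φL K A₁ A₂ B ψ))
    (p₁ : Ideal A₁) (hp₁ : p₁ ≠ ⊤) (p₂ : Ideal A₂) (hp₂ : idR K A₁ A₂ B ψ p₂ ≠ ⊤) :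
    ringKrullDim (B ⧸ (idR K A₁ A₂ B ψ p₂ ⊔ p₁.map (φL K A₁ A₂ B ψ))) =
      ringKrullDim (A₁ ⧸ p₁) +
        ringKrullDim (B ⧸ (idR K A₁ A₂ B ψ p₂ ⊔ (maximalIdeal A₁).map (φL K A₁ A₂ B ψ))) := by
  set Q := idR K A₁ A₂ B ψ p₂ with hQ
  haveI : Nontrivial (B ⧸ Q) := Ideal.Quotient.nontrivial_iff.mpr hp₂
  haveI : IsLocalRing (B ⧸ Q) := .of_surjective' _ Ideal.Quotient.mk_surjective
  letI : Algebra A₁ (B ⧸ Q) := ((Ideal.Quotient.mk Q).comp (φL K A₁ A₂ B ψ)).toAlgebra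
  haveI : Module.Flat A₁ (B ⧸ Q) := flat_left K A₁ A₂ B ψ hψ p₂
  haveI : IsLocalHom (Ideal.Quotient.mk Q) :=
    IsLocalHom.of_surjective _ Ideal.Quotient.mk_surjective
  haveI : IsLocalHom (algebraMap A₁ (B ⧸ Q)) :=
    RingHom.isLocalHom_comp (Ideal.Quotient.mk Q) (φL K A₁ A₂ B ψ)
  have h := Groth.Agent.Lib.Helper24.FlatQuot.ringKrullDim_quotient_map_eq_add A₁ (B ⧸ Q) p₁ hp₁
  have e1 := ringKrullDim_quot_map_comp A₁ B Q (φL K A₁ A₂ B ψ) p₁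
  have e2 := ringKrullDim_quot_map_comp A₁ B Q (φL K A₁ A₂ B ψ) (maximalIdeal A₁)
  rw [← e1, ← e2]
  exact h

end Groth.Agent.Lib.helper2.Diag
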