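import Groth.Agent.Lib.Helper15.Regular

/-!
# helper2: an ideal of a regular local ring with regular quotient is generated by a regular sequence
-/

universe u

open IsLocalRing RingTheory.Sequence

namespace Groth.Agent.Lib.helper2.Diag

theorem take_ofFn_castLE' {α : Type*} {d c : ℕ} (hc : c ≤ d) (x : Fin d → α) :
    (List.ofFn x).take c = List.ofFn (fun i : Fin c => x (Fin.castLE hc i)) := by
  apply List.ext_getElem
  · simp [hc]
  · intro i h1 h2
    simp

theorem exists_regular_generators (R : Type u) [CommRing R] [IsRegularLocalRing R] (I : Ideal R)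
    [IsRegularLocalRing (R ⧸ I)] :
    ∃ (c : ℕ) (g : Fin c → R), I = Ideal.span (Set.range g) ∧ IsRegular R (List.ofFn g) := by
  obtain ⟨a, ha⟩ : ∃ a, (maximalIdeal R).spanFinrank = a := ⟨_, rfl⟩
  obtain ⟨x, c, hc, hxm, hxI⟩ :=
    Groth.Agent.Lib.helper15.exists_generators_of_regular_quotient R a ha I
  refine ⟨c, fun i : Fin c => x (Fin.castLE hc i), hxI, ?_, ?_⟩
  · have h1 := Groth.Agent.Lib.helper15.isWeaklyRegular_ofFn R a ha x hxm
    rw [← List.take_append_drop c (List.ofFn x), isWeaklyRegular_append_iff] at h1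
    rw [← take_ofFn_castLE' hc x]
    exact h1.1
  · have hne : I ≠ ⊤ := by
      intro h
      have : Nontrivial (R ⧸ I) := inferInstance
      exact (Ideal.Quotient.nontrivial_iff.mp this) h
    rw [smul_eq_mul, Ideal.mul_top]
    intro h
    apply hne
    rw [hxI, h]
    unfold Ideal.ofList
    congr 1
    ext z
    simp [List.mem_ofFn]

end Groth.Agent.Lib.helper2.Diag
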