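import Groth.Agent.Lib.Helper2.Diag5
import Mathlib.RingTheory.Flat.Localization
import Mathlib.RingTheory.Localization.AtPrime.Basic

/-!
# helper2: the local ring of the diagonal point of `A ⊗[K] A` for a local `K`-algebra `A`
-/

universe u

open TensorProduct Algebra.TensorProduct IsLocalRing

namespace Groth.Agent.Lib.helper2.Diag

variable (K A : Type u) [Field K] [CommRing A] [Algebra K A] [IsLocalRing A]

/-- the multiplication map `A ⊗[K] A → A`. -/
noncomputable def mul' : A ⊗[K] A →+* A :=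
  (Algebra.TensorProduct.lmul' K : A ⊗[K] A →ₐ[K] A).toRingHom

lemma mul'_tmul (a b : A) : mul' K A (a ⊗ₜ b) = a * b := by
  simp [mul']

/-- the maximal ideal of the diagonal point. -/
noncomputable def MM : Ideal (A ⊗[K] A) := (maximalIdeal A).comap (mul' K A)

instance : (MM K A).IsPrime := Ideal.comap_isPrime _ _

/-- the local ring at the diagonal point. -/
abbrev BB := Localization.AtPrime (MM K A)

/-- the localization map. -/
noncomputable def ψ : A ⊗[K] A →+* BB K A := algebraMap _ _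

lemma isUnit_mul' (y : (MM K A).primeCompl) : IsUnit (mul' K A y) := by
  have h : mul' K A y ∉ maximalIdeal A := y.2
  rwa [mem_maximalIdeal, mem_nonunits_iff, not_not] at h

/-- the diagonal map `B → A`. -/
noncomputable def π : BB K A →+* A :=
  IsLocalization.lift (M := (MM K A).primeCompl) (isUnit_mul' K A)

lemma π_ψ (x : A ⊗[K] A) : π K A (ψ K A x) = mul' K A x :=
  IsLocalization.lift_eq _ _

lemma π_φL (a : A) : π K A (φL K A A (BB K A) (ψ K A) a) = a := by
  change π K A (ψ K A (a ⊗ₜ 1)) = a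
  rw [π_ψ, mul'_tmul, mul_one]

lemma π_φR (a : A) : π K A (φR K A A (BB K A) (ψ K A) a) = a := by
  change π K A (ψ K A (1 ⊗ₜ a)) = a
  rw [π_ψ, mul'_tmul, one_mul]

lemma π_surjective : Function.Surjective (π K A) := fun a => ⟨_, π_φL K A a⟩

lemma ψ_flat : (ψ K A).Flat :=
  RingHom.flat_algebraMap_iff.2 (IsLocalization.flat _ (MM K A).primeCompl)

lemma isLocalHom_φL : IsLocalHom (φL K A A (BB K A) (ψ K A)) :=
  ⟨fun a ha => by
    have := ha.map (π K A)
    rwa [π_φL] at this⟩

lemma isLocalHom_φR : IsLocalHom (φR K A A (BB K A) (ψ K A)) :=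
  ⟨fun a ha => by
    have := ha.map (π K A)
    rwa [π_φR] at this⟩

/-- the swapped structure map. -/
noncomputable def ψ' : A ⊗[K] A →+* BB K A :=
  (ψ K A).comp (Algebra.TensorProduct.comm K A A).toAlgHom.toRingHom

lemma ψ'_flat : (ψ' K A).Flat :=
  RingHom.Flat.comp (.of_bijective (Algebra.TensorProduct.comm K A A).bijective) (ψ_flat K A)

lemma φL_ψ' : φL K A A (BB K A) (ψ' K A) = φR K A A (BB K A) (ψ K A) := by
  ext a
  change ψ K A (Algebra.TensorProduct.comm K A A (a ⊗ₜ 1)) = ψ K A (1 ⊗ₜ a)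
  rw [Algebra.TensorProduct.comm_tmul]

lemma φR_ψ' : φR K A A (BB K A) (ψ' K A) = φL K A A (BB K A) (ψ K A) := by
  ext a
  change ψ K A (Algebra.TensorProduct.comm K A A (1 ⊗ₜ a)) = ψ K A (a ⊗ₜ 1)
  rw [Algebra.TensorProduct.comm_tmul]

lemma φR_flat : (φR K A A (BB K A) (ψ K A)).Flat := by
  rw [← φL_ψ']
  have h := flat_left K A A (BB K A) (ψ' K A) (ψ'_flat K A) ⊥
  have hbot : idR K A A (BB K A) (ψ' K A) ⊥ = ⊥ := by
    unfold idR
    rw [Ideal.map_bot, Ideal.map_bot]
  have h2 : (φL K A A (BB K A) (ψ' K A)) =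
      ((RingEquiv.quotientBot (BB K A)).toRingHom.comp (Ideal.quotEquivOfEq hbot).toRingHom).comp
        ((Ideal.Quotient.mk (idR K A A (BB K A) (ψ' K A) ⊥)).comp
          (φL K A A (BB K A) (ψ' K A))) := by
    ext a
    rfl
  rw [h2]
  exact h.comp (.of_bijective ((Ideal.quotEquivOfEq hbot).trans
    (RingEquiv.quotientBot (BB K A))).bijective)

end Groth.Agent.Lib.helper2.Diag
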