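import Mathlib.RingTheory.Ideal.KrullsHeightTheorem
import Mathlib.RingTheory.Ideal.Quotient.Operations
import Mathlib.RingTheory.LocalRing.RingHom.Basic

/-!
# helper2: small dimension lemmas for the reduction to the diagonal
-/

universe u

open IsLocalRing

namespace Groth.Agent.Lib.helper2.Diag

lemma exists_nat_dim (R : Type*) [CommRing R] [FiniteRingKrullDim R] :
    ∃ n : ℕ, ringKrullDim R = n := by
  have h1 := ringKrullDim_ne_top (R := R)
  have h2 := ringKrullDim_ne_bot (R := R)
  generalize ringKrullDim R = D at *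
  induction D using WithBot.recBotCoe with
  | bot => exact absurd rfl h2
  | coe x =>
    induction x using ENat.recTopCoe with
    | top => exact absurd rfl h1
    | coe n => exact ⟨n, rfl⟩

lemma map_ne_top_of_isLocalHom {R S : Type*} [CommRing R] [CommRing S] [IsLocalRing R]
    [IsLocalRing S] (f : R →+* S) [IsLocalHom f] (I : Ideal R) (hI : I ≠ ⊤) : I.map f ≠ ⊤ := by
  intro h
  have h1 : I.map f ≤ maximalIdeal S :=
    (Ideal.map_mono (le_maximalIdeal hI)).trans (map_maximalIdeal_le f)
  rw [h] at h1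
  exact (maximalIdeal.isMaximal S).ne_top (top_le_iff.mp h1)

lemma map_le_maximalIdeal_of_isLocalHom {R S : Type*} [CommRing R] [CommRing S] [IsLocalRing R]
    [IsLocalRing S] (f : R →+* S) [IsLocalHom f] (I : Ideal R) (hI : I ≠ ⊤) :
    I.map f ≤ maximalIdeal S :=
  le_maximalIdeal (map_ne_top_of_isLocalHom f I hI)

theorem krull_bound (R : Type u) [CommRing R] [IsNoetherianRing R] [IsLocalRing R] (J I : Ideal R)
    (hJ : J ≠ ⊤) (hI : I ≤ maximalIdeal R) (c : ℕ) (g : Fin c → R)
    (hg : I = Ideal.span (Set.range g)) :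
    ringKrullDim (R ⧸ J) ≤ ringKrullDim (R ⧸ (J ⊔ I)) + c := by
  classical
  haveI : Nontrivial (R ⧸ J) := Ideal.Quotient.nontrivial_iff.mpr hJ
  haveI : IsLocalRing (R ⧸ J) := .of_surjective' _ Ideal.Quotient.mk_surjective
  haveI : IsLocalHom (Ideal.Quotient.mk J) :=
    IsLocalHom.of_surjective _ Ideal.Quotient.mk_surjective
  let s : Finset (R ⧸ J) := Finset.univ.image (fun i => Ideal.Quotient.mk J (g i))
  have hspan : Ideal.span (s : Set (R ⧸ J)) = I.map (Ideal.Quotient.mk J) := by
    rw [hg, Ideal.map_span]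
    congr 1
    ext z
    simp [s]
  have hs : (s : Set (R ⧸ J)) ⊆ Ring.jacobson (R ⧸ J) := by
    rw [IsLocalRing.ringJacobson_eq_maximalIdeal]
    intro z hz
    have : z ∈ Ideal.span (s : Set (R ⧸ J)) := Ideal.subset_span hz
    rw [hspan] at this
    exact (Ideal.map_mono hI).trans (map_maximalIdeal_le (Ideal.Quotient.mk J)) this
  have h := ringKrullDim_le_ringKrullDim_quotient_add_card s hs
  rw [hspan, ringKrullDim_eq_of_ringEquiv (DoubleQuot.quotQuotEquivQuotSup J I)] at h
  refine h.trans ?_
  gcongr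
  have : s.card ≤ c := by
    refine Finset.card_image_le.trans ?_
    simp
  exact_mod_cast this

end Groth.Agent.Lib.helper2.Diag
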