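import Groth.Agent.Lib.Helper2.IM6
import Groth.Agent.Lib.Helper26.HS8
import Groth.Agent.S1914

/-!
# helper2: the Hilbert–Samuel limit formula and positivity for `χ(A/J, A/I)`, `I` generated by a
regular sequence which is a system of parameters on `A/J`
-/

universe u

open CategoryTheory RingTheory.Sequence IsLocalRing Filter Polynomial

namespace Groth.Agent.Lib.helper2.IM

open Groth.Agent.Lib.helper26.Kos Groth.Agent.Lib.helper26.HS

variable {A : Type u} [CommRing A] [IsNoetherianRing A] [IsLocalRing A]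

/-- `(A/J)/(I·(A/J)) ≃ A/(J + I)`. -/
noncomputable def quotSMulTopEquiv (J I : Ideal A) :
    ((A ⧸ J) ⧸ (I • ⊤ : Submodule A (A ⧸ J))) ≃ₗ[A] (A ⧸ (J ⊔ I)) :=
  (Submodule.quotEquivOfEq _ _ (smul_top_quot I J)) ≪≫ₗ
    (Submodule.quotientQuotientEquivQuotient J (I ⊔ J) le_sup_right) ≪≫ₗ
    (Submodule.quotEquivOfEq _ _ (sup_comm _ _))

theorem tendsto_and_pos (J I : Ideal A) (c : ℕ) (g : Fin c → A)
    (hg : I = Ideal.span (Set.range g)) (hreg : IsRegular A (List.ofFn g)) (hJ : J ≠ ⊤)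
    (hIm : I ≤ maximalIdeal A) (h0 : ringKrullDim (A ⧸ (J ⊔ I)) = 0)
    (hdim : ringKrullDim (A ⧸ J) = (c : WithBot ℕ∞)) :
    Tendsto (fun t : ℕ => (c.factorial : ℝ) *
        ((Module.length A (A ⧸ (J ⊔ I ^ t))).toNat : ℝ) / (t : ℝ) ^ c) atTop
      (nhds (IntMult.chi A (A ⧸ J) (A ⧸ I) : ℝ)) ∧ 0 < IntMult.chi A (A ⧸ J) (A ⧸ I) := by
  subst hg
  set I := Ideal.span (Set.range g) with hI
  haveI : Nontrivial (A ⧸ J) := Ideal.Quotient.nontrivial_iff.2 hJ
  have hsd0 : Module.supportDim A ((A ⧸ J) ⧸ (I • ⊤ : Submodule A (A ⧸ J))) ≤ 0 := by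
    rw [Module.supportDim_eq_of_equiv (quotSMulTopEquiv J I),
      Module.supportDim_quotient_eq_ringKrullDim, h0]
  rw [chi_symm]
  constructor
  · have key := Groth.Agent.S1914.result A c g hreg (A ⧸ J) hsd0
    refine key.congr (fun t => ?_)
    congr 4
    exact (quotSMulTopEquiv J (I ^ t)).length_eq
  · have hq : I = Ideal.span {a | a ∈ List.ofFn g} := by
      rw [Groth.Agent.S1914.setOf_mem_ofFn]
    rw [Groth.Agent.S1914.chi_eq A (List.ofFn g) hreg.toIsWeaklyRegular I hq (A ⧸ J)]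
    have hM : hs I (A ⧸ J) 1 ≠ ⊤ := by
      unfold hs col
      rw [pow_one]
      exact Module.length_ne_top_iff.2 (isFiniteLength_of_supportDim_le_zero hsd0)
    obtain ⟨P, hP⟩ := exists_isHSPoly I hM
    have hjac : I ≤ Ring.jacobson A := by
      rw [IsLocalRing.ringJacobson_eq_maximalIdeal]
      exact hIm
    have hsd : Module.supportDim A (A ⧸ J) = (c : WithBot ℕ∞) := by
      rw [Module.supportDim_quotient_eq_ringKrullDim, hdim]
    have h1 : P.natDegree ≤ c := natDegree_le_of_supportDim_le I c (A ⧸ J) hM P hP hsd.le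
    have h2 : c ≤ P.natDegree := by
      by_contra hlt
      push_neg at hlt
      have h3 := supportDim_le_of_natDegree_le I hjac (c - 1) (A ⧸ J) hM P hP (by omega)
      rw [hsd] at h3
      have h4 : c ≤ c - 1 := by exact_mod_cast h3
      omega
    have heq : P.natDegree = (List.ofFn g).length := by
      rw [List.length_ofFn]
      omega
    exact koszul_pos_of_natDegree_eq I (A ⧸ J) hjac (List.ofFn g) hq hM P hP heq

end Groth.Agent.Lib.helper2.IM
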