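import Groth.Agent.Lib.Helper2.Diag2
import Groth.Agent.Lib.Helper2.Diag3
import Groth.Agent.Lib.Helper2.Diag6
import Groth.Agent.Lib.Helper2.Diag7
import Groth.Agent.Lib.Helper2.Diag8
import Groth.Agent.Lib.Helper2.IM10
import Groth.Agent.Lib.Helper19.CohenK4
import Groth.Agent.Lib.Helper17.RegSmooth
import Mathlib.RingTheory.EssentialFiniteness

/-!
# helper2: Serre's positivity and dimension inequality for local rings essentially smooth over a
field, by reduction to the diagonal
-/

universe u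

open TensorProduct Algebra.TensorProduct IsLocalRing CategoryTheory CategoryTheory.Limits
  RingTheory.Sequence

namespace Groth.Agent.Lib.helper2.Diag

open Groth.Agent.Lib.helper7

variable (K A : Type u) [Field K] [CommRing A] [Algebra K A] [IsLocalRing A] [IsNoetherianRing A]
  [Algebra.EssFiniteType K A]

instance : Algebra.EssFiniteType K (A ⊗[K] A) := Algebra.EssFiniteType.comp K A (A ⊗[K] A)

instance : IsNoetherianRing (A ⊗[K] A) := Algebra.EssFiniteType.isNoetherianRing K _

instance : IsNoetherianRing (BB K A) :=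
  IsLocalization.isNoetherianRing (MM K A).primeCompl (BB K A) inferInstance

variable [Algebra.FormallySmooth K A]

instance : Algebra.FormallySmooth K (A ⊗[K] A) := Algebra.FormallySmooth.comp K A _

theorem isRegularLocalRing_BB : IsRegularLocalRing (BB K A) :=
  Groth.Agent.Lib.helper19.CohenK.isRegularLocalRing_of_isAdicFormallySmooth_field K (BB K A)
    (Groth.Agent.Lib.helper17.RegSmooth.isAdicFormallySmooth_of_formallySmooth K (BB K A) _)

include K in
theorem isRegularLocalRing_self : IsRegularLocalRing A :=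
  Groth.Agent.Lib.helper19.CohenK.isRegularLocalRing_of_isAdicFormallySmooth_field K A
    (Groth.Agent.Lib.helper17.RegSmooth.isAdicFormallySmooth_of_formallySmooth K A _)

/-- the kernel of `B → A` is generated by a regular sequence. -/
theorem exists_regular_ker :
    ∃ (c : ℕ) (g : Fin c → BB K A), RingHom.ker (π K A) = Ideal.span (Set.range g) ∧
      IsRegular (BB K A) (List.ofFn g) := by
  haveI := isRegularLocalRing_BB K A
  haveI := isRegularLocalRing_self K A
  haveI : IsRegularLocalRing (BB K A ⧸ RingHom.ker (π K A)) :=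
    IsRegularLocalRing.of_ringEquiv
      (RingHom.quotientKerEquivOfSurjective (π_surjective K A)).symm
  exact exists_regular_generators (BB K A) (RingHom.ker (π K A))


omit [Algebra.FormallySmooth K A] in
/-- the dimensions of `B` and of `B/(pB + qB)`. -/
theorem dim_package_diag (p q : Ideal A) (hp : p ≠ ⊤) (hq : q ≠ ⊤) :
    ∃ a v w δ : ℕ, ringKrullDim A = a ∧ ringKrullDim (A ⧸ p) = v ∧ ringKrullDim (A ⧸ q) = w ∧
      ringKrullDim (BB K A) = (a + a + δ : ℕ) ∧
      ringKrullDim (BB K A ⧸ (idR K A A (BB K A) (ψ K A) q ⊔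
        p.map (φL K A A (BB K A) (ψ K A)))) = (v + w + δ : ℕ) := by
  haveI hl1 := isLocalHom_φL K A
  haveI hl2 := isLocalHom_φR K A
  have hl1' : IsLocalHom (φL K A A (BB K A) (ψ' K A)) := by rw [φL_ψ']; exact hl2
  set φ1 := φL K A A (BB K A) (ψ K A) with hφ1
  set φ2 := φR K A A (BB K A) (ψ K A) with hφ2
  set m := maximalIdeal A with hm
  have hmtop : m ≠ ⊤ := (maximalIdeal.isMaximal A).ne_top
  -- the four dimension formulas
  have hQ : idR K A A (BB K A) (ψ K A) q ≠ ⊤ := by
    rw [idR_eq]; exact map_ne_top_of_isLocalHom φ2 q hq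
  have hM' : idR K A A (BB K A) (ψ' K A) m ≠ ⊤ := by
    rw [idR_eq, φR_ψ']; exact map_ne_top_of_isLocalHom φ1 m hmtop
  have hbot : idR K A A (BB K A) (ψ K A) ⊥ ≠ ⊤ := by
    rw [idR_eq, Ideal.map_bot]; exact bot_ne_top
  have D1 := dim_left K A A (BB K A) (ψ K A) (ψ_flat K A) hl1 p hp q hQ
  have D2 := dim_left K A A (BB K A) (ψ' K A) (ψ'_flat K A) hl1' q hq m hM'
  have D3 := dim_left K A A (BB K A) (ψ K A) (ψ_flat K A) hl1 ⊥ bot_ne_top ⊥ hbot
  have D4 := dim_left K A A (BB K A) (ψ' K A) (ψ'_flat K A) hl1' ⊥ bot_ne_top m hM'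
  rw [idR_eq, φR_ψ', φL_ψ', ← idR_eq] at D2
  rw [idR_eq, Ideal.map_bot, Ideal.map_bot, bot_sup_eq, bot_sup_eq] at D3
  rw [idR_eq, φR_ψ', φL_ψ', Ideal.map_bot, sup_bot_eq] at D4
  rw [ringKrullDim_eq_of_ringEquiv (RingEquiv.quotientBot (BB K A))] at D3
  rw [ringKrullDim_eq_of_ringEquiv (RingEquiv.quotientBot A)] at D3 D4
  rw [sup_comm] at D2
  haveI : Nontrivial (A ⧸ p) := Ideal.Quotient.nontrivial_iff.mpr hp
  haveI : IsLocalRing (A ⧸ p) := .of_surjective' _ Ideal.Quotient.mk_surjective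
  haveI : Nontrivial (A ⧸ q) := Ideal.Quotient.nontrivial_iff.mpr hq
  haveI : IsLocalRing (A ⧸ q) := .of_surjective' _ Ideal.Quotient.mk_surjective
  have hmm : m.map φ1 ⊔ m.map φ2 ≠ ⊤ := by
    intro h
    have h1 : m.map φ1 ⊔ m.map φ2 ≤ maximalIdeal (BB K A) :=
      sup_le (map_le_maximalIdeal_of_isLocalHom φ1 m hmtop)
        (map_le_maximalIdeal_of_isLocalHom φ2 m hmtop)
    rw [h] at h1
    exact (maximalIdeal.isMaximal (BB K A)).ne_top (top_le_iff.mp h1)
  haveI : Nontrivial (BB K A ⧸ (m.map φ1 ⊔ m.map φ2)) := Ideal.Quotient.nontrivial_iff.mpr hmm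
  haveI : IsLocalRing (BB K A ⧸ (m.map φ1 ⊔ m.map φ2)) :=
    .of_surjective' _ Ideal.Quotient.mk_surjective
  obtain ⟨a, ha⟩ := exists_nat_dim A
  obtain ⟨v, hv⟩ := exists_nat_dim (A ⧸ p)
  obtain ⟨w, hw⟩ := exists_nat_dim (A ⧸ q)
  obtain ⟨δ, hδ⟩ := exists_nat_dim (BB K A ⧸ (m.map φ1 ⊔ m.map φ2))
  refine ⟨a, v, w, δ, ha, hv, hw, ?_, ?_⟩
  · rw [D3, D4, ha, hδ]
    push_cast
    rw [add_assoc]
  · rw [D1, D2, hv, hw, hδ]
    push_cast
    rw [add_assoc]


lemma ofList_ofFn {R : Type*} [CommRing R] {c : ℕ} (g : Fin c → R) :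
    Ideal.ofList (List.ofFn g) = Ideal.span (Set.range g) := by
  unfold Ideal.ofList
  congr 1
  ext z
  simp [List.mem_ofFn]

omit [IsNoetherianRing A] [Algebra.EssFiniteType K A] [Algebra.FormallySmooth K A] in
lemma ringKrullDim_quot_sup_ker (p q : Ideal A) :
    ringKrullDim (BB K A ⧸ ((idR K A A (BB K A) (ψ K A) q ⊔
      p.map (φL K A A (BB K A) (ψ K A))) ⊔ RingHom.ker (π K A))) =
      ringKrullDim (A ⧸ (p ⊔ q)) := by
  set f : BB K A →+* A ⧸ (p ⊔ q) := (Ideal.Quotient.mk (p ⊔ q)).comp (π K A) with hf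
  have hfs : Function.Surjective f :=
    Ideal.Quotient.mk_surjective.comp (π_surjective K A)
  have hker : RingHom.ker f = (idR K A A (BB K A) (ψ K A) q ⊔
      p.map (φL K A A (BB K A) (ψ K A))) ⊔ RingHom.ker (π K A) := by
    rw [hf, ← RingHom.comap_ker, Ideal.mk_ker, RingHom.ker_eq_comap_bot (π K A),
      ← Ideal.comap_map_of_surjective (π K A) (π_surjective K A), idR_eq, Ideal.map_sup,
      Ideal.map_map, Ideal.map_map]
    have h1 : (π K A).comp (φR K A A (BB K A) (ψ K A)) = RingHom.id A :=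
      RingHom.ext (π_φR K A)
    have h2 : (π K A).comp (φL K A A (BB K A) (ψ K A)) = RingHom.id A :=
      RingHom.ext (π_φL K A)
    rw [h1, h2, Ideal.map_id, Ideal.map_id, sup_comm]
  rw [← hker]
  exact ringKrullDim_eq_of_ringEquiv (RingHom.quotientKerEquivOfSurjective hfs)


include K in
/-- **Serre's dimension inequality and positivity** for a Noetherian local ring essentially of finite
type and formally smooth over a field. -/
theorem serre_main (p q : Ideal A) (hp : p ≠ ⊤) (hq : q ≠ ⊤)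
    (h0 : ringKrullDim (A ⧸ (p ⊔ q)) = 0) :
    ringKrullDim (A ⧸ p) + ringKrullDim (A ⧸ q) ≤ ringKrullDim A ∧
      (ringKrullDim A ≤ ringKrullDim (A ⧸ p) + ringKrullDim (A ⧸ q) →
        0 < IntMult.chi A (A ⧸ q) (A ⧸ p)) := by
  obtain ⟨c, g, hIg, hreg⟩ := exists_regular_ker K A
  obtain ⟨a, v, w, δ, ha, hv, hw, hb, hJd⟩ := dim_package_diag K A p q hp hq
  haveI hl1 := isLocalHom_φL K A
  haveI hl2 := isLocalHom_φR K A
  set Q := idR K A A (BB K A) (ψ K A) q with hQdef
  set J := Q ⊔ p.map (φL K A A (BB K A) (ψ K A)) with hJdef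
  set I := RingHom.ker (π K A) with hIdef
  have hItop : I ≠ ⊤ := by
    rw [hIdef]
    exact RingHom.ker_ne_top _
  have hIm : I ≤ maximalIdeal (BB K A) := le_maximalIdeal hItop
  have hJtop : J ≠ ⊤ := by
    intro h
    have h1 : J ≤ maximalIdeal (BB K A) := by
      rw [hJdef, hQdef, idR_eq]
      exact sup_le (map_le_maximalIdeal_of_isLocalHom _ q hq)
        (map_le_maximalIdeal_of_isLocalHom _ p hp)
    rw [h] at h1
    exact (maximalIdeal.isMaximal (BB K A)).ne_top (top_le_iff.mp h1)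
  -- `dim B = dim A + c`
  have hb2 : ringKrullDim (BB K A) = (a + c : ℕ) := by
    have h := ringKrullDim_add_length_eq_ringKrullDim_of_isRegular (List.ofFn g) hreg
    rw [List.length_ofFn, ofList_ofFn, ← hIg,
      ringKrullDim_eq_of_ringEquiv (RingHom.quotientKerEquivOfSurjective (π_surjective K A)),
      ha] at h
    rw [← h]
    push_cast
    rfl
  -- Krull bound
  have hk := krull_bound (BB K A) J I hJtop hIm c g hIg
  rw [ringKrullDim_quot_sup_ker K A p q, h0, hJd, zero_add] at hk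
  have hk' : v + w + δ ≤ c := by exact_mod_cast hk
  have hbb : a + a + δ = a + c := by
    have : ((a + a + δ : ℕ) : WithBot ℕ∞) = ((a + c : ℕ) : WithBot ℕ∞) := by rw [← hb, ← hb2]
    exact_mod_cast this
  have hle : v + w ≤ a := by omega
  refine ⟨?_, fun hge => ?_⟩
  · rw [ha, hv, hw]
    exact_mod_cast hle
  · rw [ha, hv, hw] at hge
    have hge' : a ≤ v + w := by exact_mod_cast hge
    have hJc : ringKrullDim (BB K A ⧸ J) = (c : WithBot ℕ∞) := by
      rw [hJd]
      have : v + w + δ = c := by omega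
      exact_mod_cast this
    have hJI0 : ringKrullDim (BB K A ⧸ (J ⊔ I)) = 0 := by
      rw [ringKrullDim_quot_sup_ker K A p q, h0]
    have hpos := (Groth.Agent.Lib.helper2.IM.tendsto_and_pos J I c g hIg hreg hJtop hIm hJI0 hJc).2
    rw [Groth.Agent.Lib.helper2.IM.chi_symm] at hpos
    -- reduction to the diagonal
    letI instBA : Algebra (BB K A) A := (π K A).toAlgebra
    have hAB : algebraMap A (BB K A) = φL K A A (BB K A) (ψ K A) := by
      ext a
      rfl
    haveI : IsScalarTower A (BB K A) A := IsScalarTower.of_algebraMap_eq (fun a => by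
      rw [hAB]
      exact (π_φL K A a).symm)
    haveI : Module.Flat A (BB K A ⧸ Q) := by
      have h := flat_left K A A (BB K A) (ψ K A) (ψ_flat K A) q
      rw [← RingHom.flat_algebraMap_iff]
      exact h
    have hC : ∀ n, IsZero ((TorAPI.T (n + 1) (ModuleCat.of (BB K A) A)).obj
        (ModuleCat.of (BB K A) (BB K A ⧸ Q))) := by
      intro n
      have hflat2 : @Module.Flat A (BB K A) _ _
          (φR K A A (BB K A) (ψ K A)).toAlgebra.toModule := φR_flat K A
      have htower2 : @IsScalarTower A (BB K A) A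
          (φR K A A (BB K A) (ψ K A)).toAlgebra.toSMul instBA.toSMul _ :=
        @IsScalarTower.of_algebraMap_eq A (BB K A) A _ _ _ (φR K A A (BB K A) (ψ K A)).toAlgebra
          instBA _ (fun a => (π_φR K A a).symm)
      have h := @isZero_T_section A (BB K A) _ _ (φR K A A (BB K A) (ψ K A)).toAlgebra instBA
        htower2 hflat2 q n
      rw [hQdef, idR_eq]
      exact h
    have hchi := chi_diag A (BB K A) Q hC (π_surjective K A) I rfl p
    have hQq : Q.map (algebraMap (BB K A) A) = q := by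
      rw [hQdef, idR_eq, Ideal.map_map]
      have h1 : (algebraMap (BB K A) A).comp (φR K A A (BB K A) (ψ K A)) = RingHom.id A :=
        RingHom.ext (π_φR K A)
      rw [h1, Ideal.map_id]
    rw [hQq, hAB] at hchi
    rw [hchi]
    exact hpos

end Groth.Agent.Lib.helper2.Diag
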