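import Groth.Agent.Lib.Helper2.Diag2
import Groth.Agent.Lib.Helper2.Diag3
import Mathlib.RingTheory.RingHom.Flat

/-!
# helper2: reduction to the diagonal for Euler characteristics, abstract two-sided form

`φL φR : A → B`, `π : B → A` ring maps with `π ∘ φL = π ∘ φR = id`, `φR` flat and
`B / φR(q) B` flat over `A` via `φL`. Then
`χ^A(A/q, A/p) = χ^B(B/ker π, B/(φR(q) B + φL(p) B))`.
-/

universe u

open CategoryTheory CategoryTheory.Limits

namespace Groth.Agent.Lib.helper2.Diag

open Groth.Agent.Lib.helper7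

theorem chi_diag_abs {A B : Type u} [CommRing A] [CommRing B] [IsNoetherianRing A]
    (φL φR : A →+* B) (π : B →+* A) (hL : ∀ a, π (φL a) = a) (hR : ∀ a, π (φR a) = a)
    (hRflat : φR.Flat) (p q : Ideal A)
    (hflat : ((Ideal.Quotient.mk (q.map φR)).comp φL).Flat) :
    IntMult.chi A (A ⧸ q) (A ⧸ p) =
      IntMult.chi B (B ⧸ RingHom.ker π) (B ⧸ (q.map φR ⊔ p.map φL)) := by
  letI instAB : Algebra A B := φL.toAlgebra
  letI instBA : Algebra B A := π.toAlgebra
  have hAB : algebraMap A B = φL := rfl
  have hBA : algebraMap B A = π := rfl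
  haveI : IsScalarTower A B A := IsScalarTower.of_algebraMap_eq (fun a => by
    rw [hAB, hBA]
    exact (hL a).symm)
  set Q := q.map φR with hQdef
  haveI : Module.Flat A (B ⧸ Q) := by
    rw [← RingHom.flat_algebraMap_iff]
    exact hflat
  have hC : ∀ n, IsZero ((TorAPI.T (n + 1) (ModuleCat.of B A)).obj
      (ModuleCat.of B (B ⧸ Q))) := by
    intro n
    have hflat2 : @Module.Flat A B _ _ φR.toAlgebra.toModule := hRflat
    have htower2 : @IsScalarTower A B A φR.toAlgebra.toSMul instBA.toSMul _ :=
      @IsScalarTower.of_algebraMap_eq A B A _ _ _ φR.toAlgebra instBA _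
        (fun a => (hR a).symm)
    exact @isZero_T_section A B _ _ φR.toAlgebra instBA htower2 hflat2 q n
  have hs : Function.Surjective (algebraMap B A) := fun a => ⟨φL a, hL a⟩
  have hchi := chi_diag A B Q hC hs (RingHom.ker π) rfl p
  have hQq : Q.map (algebraMap B A) = q := by
    rw [hQdef, Ideal.map_map]
    have h1 : (algebraMap B A).comp φR = RingHom.id A := RingHom.ext hR
    rw [h1, Ideal.map_id]
  rw [hQq, hAB] at hchi
  exact hchi

end Groth.Agent.Lib.helper2.Diag
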