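import Groth.Agent.Lib.Helper2.ExtProd6
import Groth.Agent.Lib.Helper14.AbVarComm
import Groth.Agent.Lib.Helper14.CurveEtale1

/-!
# helper2: sections of a morphism and dimension functions; the self-product of a proper smooth
variety over an algebraically closed field
-/

set_option autoImplicit false
universe u
open CategoryTheory CategoryTheory.Limits AlgebraicGeometry TopologicalSpace Opposite IsLocalRing

namespace Groth.Agent.Lib.helper2.DiagProd

open Groth.Agent.Lib.helper16.OrdGen Groth.Agent.Lib.helper16.GenFib
  Groth.Agent.Lib.helper16.DivSum Groth.Agent.Lib.helper2.DevSch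
  Groth.Agent.Lib.helper2.Diag Groth.Agent.Lib.helper2.ExtProd
  Groth.Agent.Lib.helper3.DimIneq

variable {X P : Scheme.{u}}

/-- the stalks of a quasi-coherent ideal sheaf are compatible with generization. -/
theorem stalkIdeal_map_stalkSpecializes' (I : X.IdealSheafData) {x z : X} (h : z ⤳ x) :
    (IntMult.stalkIdeal I x).map (X.presheaf.stalkSpecializes h).hom = IntMult.stalkIdeal I z := by
  obtain ⟨_, ⟨U, hU : IsAffineOpen U, rfl⟩, hxU, -⟩ :=
    X.isBasis_affineOpens.exists_subset_of_mem_open (Set.mem_univ x) isOpen_univ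
  have hzU : z ∈ U := h.mem_open U.isOpen hxU
  rw [Groth.Agent.Lib.helper2.IM.stalkIdeal_eq_map I x ⟨U, hU⟩ hxU,
    Groth.Agent.Lib.helper2.IM.stalkIdeal_eq_map I z ⟨U, hU⟩ hzU, Ideal.map_map]
  congr 1
  rw [← CommRingCat.hom_comp, TopCat.Presheaf.germ_stalkSpecializes]

section sect

variable (s : X ⟶ P) (r : P ⟶ X) (hsr : s ≫ r = 𝟙 X)

include hsr in
theorem bijective_residueFieldMap_of_section (x : X) :
    Function.Bijective (r.residueFieldMap (s x)).hom := by
  refine ⟨(r.residueFieldMap (s x)).hom.injective, ?_⟩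
  have h1 := Scheme.Hom.residueFieldMap_congr hsr x
  have h0 := Scheme.residueFieldMap_comp s r x
  have h2 : (𝟙 X : X ⟶ X).residueFieldMap x = 𝟙 _ := Scheme.residueFieldMap_id x
  intro y
  have hb : Function.Bijective (X.residueFieldCongr
      (show (s ≫ r) x = (𝟙 X : X ⟶ X) x by rw [hsr])).hom.hom :=
    ConcreteCategory.bijective_of_isIso _
  obtain ⟨t, ht⟩ := hb.2 ((s.residueFieldMap x).hom y)
  refine ⟨t, (s.residueFieldMap x).hom.injective ?_⟩
  rw [← ht]
  have e1 := congrArg (fun φ => φ.hom t) (h0.symm.trans h1)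
  have e2 := congrArg (fun φ => φ.hom ((X.residueFieldCongr
      (show (s ≫ r) x = (𝟙 X : X ⟶ X) x by rw [hsr])).hom.hom t)) h2
  exact e1.trans e2

include hsr in
theorem residueDegree_of_section (x : X) : r.residueDegree (s x) = 1 := by
  unfold Scheme.Hom.residueDegree
  letI := (r.residueFieldMap (s x)).hom.toAlgebra
  have hb : Function.Bijective (Algebra.linearMap (X.residueField (r (s x)))
      (P.residueField (s x))) := bijective_residueFieldMap_of_section s r hsr x
  exact (LinearEquiv.ofBijective _ hb).finrank_eq.symm.trans (Module.finrank_self _)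

include hsr in
theorem delta_section (δP : P → ℤ) (δX : X → ℤ) (h : Cyc.DeltaCompat r δP δX) (x : X) :
    δP (s x) = δX x := by
  obtain ⟨k, hk, hδ⟩ := h (s x)
  have hb := bijective_residueFieldMap_of_section s r hsr x
  have h0 : td (r.residueFieldMap (s x)).hom = 0 := by
    letI := (r.residueFieldMap (s x)).hom.toAlgebra
    haveI := isAlgebraic_of_surjective (r.residueFieldMap (s x)).hom hb.2
    exact trdeg_eq_zero
  have hk' : td (r.residueFieldMap (s x)).hom = (k : Cardinal.{u}) := hk
  rw [h0] at hk'
  have : k = 0 := by exact_mod_cast hk'.symm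
  rw [hδ, this, retr_apply s r hsr x]
  simp

end sect


/-- the closure of the image of the generic point under a closed immersion. -/
theorem closure_image_genericPoint [IrreducibleSpace X] (s : X ⟶ P) [IsClosedImmersion s] :
    closure {s (genericPoint X)} = Set.range s := by
  have h1 : closure {s (genericPoint X)} = s '' closure {genericPoint X} := by
    rw [← Set.image_singleton]
    exact s.isClosedEmbedding.isClosedMap.closure_image_eq_of_continuous
      s.continuous _
  rw [h1, genericPoint_spec X, Set.image_univ]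

theorem specializes_image_genericPoint_iff [IrreducibleSpace X] (s : X ⟶ P) [IsClosedImmersion s]
    (z : P) : s (genericPoint X) ⤳ z ↔ z ∈ Set.range s := by
  rw [specializes_iff_mem_closure, closure_image_genericPoint]

section field

variable {K : Type u} [Field K] [IsAlgClosed K] (f : X ⟶ Spec (CommRingCat.of K))

theorem delta_closed_point [LocallyOfFiniteType f] (δ : X → ℤ)
    (hδ : Cyc.DeltaCompat f δ (fun _ => 0)) (x : X) (hx : IsClosed ({x} : Set X)) : δ x = 0 := by
  obtain ⟨k, hk, hδx⟩ := hδ x
  have hs := Groth.Agent.Lib.Helper14.CurveEtale.residueFieldMap_surjective f (𝟙 _) f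
    (Category.comp_id f) x hx
  have h0 : td (f.residueFieldMap x).hom = 0 := by
    letI := (f.residueFieldMap x).hom.toAlgebra
    haveI := isAlgebraic_of_surjective (f.residueFieldMap x).hom hs
    exact trdeg_eq_zero
  have hk' : td (f.residueFieldMap x).hom = (k : Cardinal.{u}) := hk
  rw [h0] at hk'
  have : k = 0 := by exact_mod_cast hk'.symm
  rw [hδx, this]
  simp

theorem isIntegral_pullback_self [Smooth f] [IsProper f] [IsIntegral X] :
    IsIntegral (pullback f f) := by
  haveI := Groth.Agent.Lib.Helper14.AbVarComm.geometricallyConnected_of_connectedSpace f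
  haveI : ConnectedSpace ↥(pullback f f) := inferInstance
  exact Groth.Agent.Lib.Helper14.AbVarComm.isIntegral_of_smooth_connected
    (pullback.fst f f ≫ f)

theorem delta_genericPoint_pullback [Smooth f] [IsProper f] [IsIntegral X]
    [IsIntegral (pullback f f)] (δ : X → ℤ) (δ₂ : ↥(pullback f f) → ℤ)
    (hδ : Cyc.DeltaCompat f δ (fun _ => 0))
    (h₂ : Cyc.DeltaCompat (pullback.fst f f ≫ f) δ₂ (fun _ => 0))
    (h₂' : Cyc.DeltaCompat (pullback.fst f f) δ₂ δ) (n : ℤ) (hn : δ (genericPoint X) = n) :
    δ₂ (genericPoint ↥(pullback f f)) = n + n := by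
  haveI : IsLocallyNoetherian X := LocallyOfFiniteType.isLocallyNoetherian f
  haveI : IsLocallyNoetherian (pullback f f) :=
    LocallyOfFiniteType.isLocallyNoetherian (pullback.fst f f ≫ f)
  have hdX : Cyc.IsDimFun X δ := Groth.Agent.Lib.helper16.CycMV.isDimFun_of_field K f δ hδ
  have hdP : Cyc.IsDimFun (pullback f f) δ₂ :=
    Groth.Agent.Lib.helper16.CycMV.isDimFun_of_field K (pullback.fst f f ≫ f) δ₂ h₂
  have hXn : ∀ x, δ x ≤ n := fun x => by
    have := delta_le_of_specializes δ hdX (genericPoint_specializes x)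
    rwa [hn] at this
  apply le_antisymm
  · have h1 := (delta_le_add f f δ δ δ₂ hδ hδ h₂ (genericPoint ↥(pullback f f))).1
    have h2 := hXn (pullback.fst f f (genericPoint ↥(pullback f f)))
    have h3 := hXn (pullback.snd f f (genericPoint ↥(pullback f f)))
    omega
  · haveI : CompactSpace X := (quasiCompact_iff_compactSpace f).mp inferInstance
    obtain ⟨x, -, hx⟩ := IsClosed.exists_closed_singleton (isClosed_univ (X := X))
      Set.univ_nonempty
    have hx0 : δ x = 0 := delta_closed_point f δ hδ x hx
    have hz0 : δ₂ (pullback.diagonal f x) = 0 := by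
      rw [delta_section (pullback.diagonal f) (pullback.fst f f) (pullback.diagonal_fst f) δ₂ δ
        h₂' x, hx0]
    have e1 : pullback.fst f f (pullback.diagonal f x) = x :=
      retr_apply _ _ (pullback.diagonal_fst f) x
    have e2 : pullback.snd f f (pullback.diagonal f x) = x :=
      retr_apply _ _ (pullback.diagonal_snd f) x
    have h := dim_stalk_add_le f f (pullback.diagonal f x)
    rw [e1, e2] at h
    obtain ⟨dx, hdx1, hdx2⟩ := dim_stalk_eq δ hdX x
    obtain ⟨dz, hdz1, hdz2⟩ := dim_stalk_eq δ₂ hdP (pullback.diagonal f x)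
    rw [hdx2, hdz2] at h
    have h' : dx + dx ≤ dz := by exact_mod_cast h
    rw [hn, hx0] at hdx1
    rw [hz0] at hdz1
    omega

end field

end Groth.Agent.Lib.helper2.DiagProd
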