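import Groth.Agent.Lib.Helper2.DiagProd1

/-!
# helper2: the ideal of `closure x₁ × closure x₂` in the local ring of a point of `X ×_K Y`
-/

set_option autoImplicit false
universe u
open CategoryTheory CategoryTheory.Limits AlgebraicGeometry TopologicalSpace Opposite IsLocalRing

namespace Groth.Agent.Lib.helper2.DiagProd

open Groth.Agent.Lib.helper16.OrdGen Groth.Agent.Lib.helper16.GenFib
  Groth.Agent.Lib.helper16.DivSum Groth.Agent.Lib.helper2.DevSch
  Groth.Agent.Lib.helper2.Diag Groth.Agent.Lib.helper2.ExtProd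
  Groth.Agent.Lib.helper3.DimIneq Groth.Agent.Lib.helper26.HS

variable {X Y S : Scheme.{u}} (f : X ⟶ S) (g : Y ⟶ S)

/-- the stalk at `ζ` of the ideal sheaf of `closure x₁ × closure x₂ ⊆ X ×_S Y`. -/
noncomputable def prodIdeal (x₁ : X) (x₂ : Y) (ζ : ↥(pullback f g)) :
    Ideal ((pullback f g).presheaf.stalk ζ) :=
  IntMult.stalkIdeal ((IntMult.ptIdeal x₁).comap (pullback.fst f g) ⊔
    (IntMult.ptIdeal x₂).comap (pullback.snd f g)) ζ

theorem mem_support_ptIdeal_of_specializes {x y : X} (h : x ⤳ y) :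
    y ∈ (IntMult.ptIdeal x).support := by
  unfold IntMult.ptIdeal
  rw [← SetLike.mem_coe, Scheme.IdealSheafData.coe_support_vanishingIdeal]
  exact h.mem_closure

theorem prodIdeal_eq (x₁ : X) (x₂ : Y) (ζ : ↥(pullback f g)) (h₁ : x₁ ⤳ pullback.fst f g ζ)
    (h₂ : x₂ ⤳ pullback.snd f g ζ) :
    prodIdeal f g x₁ x₂ ζ = (pOf h₁).map ((pullback.fst f g).stalkMap ζ).hom ⊔
      (pOf h₂).map ((pullback.snd f g).stalkMap ζ).hom := by
  unfold prodIdeal
  rw [stalkIdeal_sup, stalkIdeal_comap _ _ _ (mem_support_ptIdeal_of_specializes h₁),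
    stalkIdeal_comap _ _ _ (mem_support_ptIdeal_of_specializes h₂), stalkIdeal_ptIdeal h₁,
    stalkIdeal_ptIdeal h₂]

theorem specializes_of_prodIdeal_le (x₁ : X) (x₂ : Y) (ζ : ↥(pullback f g))
    (h₁ : x₁ ⤳ pullback.fst f g ζ) (h₂ : x₂ ⤳ pullback.snd f g ζ)
    (Q : PrimeSpectrum ((pullback f g).presheaf.stalk ζ))
    (hQ : prodIdeal f g x₁ x₂ ζ ≤ Q.asIdeal) :
    x₁ ⤳ pullback.fst f g ((pullback f g).fromSpecStalk ζ Q) ∧
      x₂ ⤳ pullback.snd f g ((pullback f g).fromSpecStalk ζ Q) := by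
  rw [prodIdeal_eq f g x₁ x₂ ζ h₁ h₂] at hQ
  constructor
  · have := gen_specializes_map_gen (pullback.fst f g) ζ (pr h₁) Q (le_sup_left.trans hQ)
    rwa [gen_pr h₁] at this
  · have := gen_specializes_map_gen (pullback.snd f g) ζ (pr h₂) Q (le_sup_right.trans hQ)
    rwa [gen_pr h₂] at this

/-- the localized length of `O_ζ / I(closure x₁ × closure x₂)` at a point `z` over `(x₁, x₂)` is
the multiplicity in the exterior product. -/
theorem locLen_prodIdeal {z ζ : ↥(pullback f g)} (h : z ⤳ ζ) :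
    locLen ((pullback f g).presheaf.stalk ζ ⧸
        prodIdeal f g (pullback.fst f g z) (pullback.snd f g z) ζ) (pr h) =
      Module.length ((pullback f g).presheaf.stalk z)
        ((pullback f g).presheaf.stalk z ⧸
          ((maximalIdeal (X.presheaf.stalk (pullback.fst f g z))).map
              ((pullback.fst f g).stalkMap z).hom ⊔
            (maximalIdeal (Y.presheaf.stalk (pullback.snd f g z))).map
              ((pullback.snd f g).stalkMap z).hom)) := by
  have hJ : (prodIdeal f g (pullback.fst f g z) (pullback.snd f g z) ζ).map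
      ((pullback f g).presheaf.stalkSpecializes h).hom =
      (maximalIdeal (X.presheaf.stalk (pullback.fst f g z))).map
              ((pullback.fst f g).stalkMap z).hom ⊔
            (maximalIdeal (Y.presheaf.stalk (pullback.snd f g z))).map
              ((pullback.snd f g).stalkMap z).hom := by
    unfold prodIdeal
    rw [stalkIdeal_map_stalkSpecializes', stalkIdeal_sup,
      stalkIdeal_comap _ _ _ (mem_support_ptIdeal _),
      stalkIdeal_comap _ _ _ (mem_support_ptIdeal _), stalkIdeal_ptIdeal_self,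
      stalkIdeal_ptIdeal_self]
  rw [← hJ, Groth.Agent.Lib.helper16.FinDeg.length_quotient_self, length_stalk_quot_eq h]
  rw [← Groth.Agent.Lib.helper16.FinDeg.length_quotient_self]
  exact locLen_quot_eq (pOf h) _


section field

variable {K : Type u} [Field K] {X Y : Scheme.{u}} (f : X ⟶ Spec (CommRingCat.of K))
  (g : Y ⟶ Spec (CommRingCat.of K))

/-- a point of `closure x₁ × closure x₂` has dimension at most `δ x₁ + δ x₂`, with equality only
over `(x₁, x₂)`. -/
theorem delta_le_of_prodIdeal_le [LocallyOfFiniteType f] [LocallyOfFiniteType g]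
    (δX : X → ℤ) (δY : Y → ℤ) (δ : ↥(pullback f g) → ℤ)
    (hX : Cyc.DeltaCompat f δX (fun _ => 0)) (hY : Cyc.DeltaCompat g δY (fun _ => 0))
    (hXY : Cyc.DeltaCompat (pullback.fst f g ≫ f) δ (fun _ => 0))
    (x₁ : X) (x₂ : Y) (ζ : ↥(pullback f g))
    (h₁ : x₁ ⤳ pullback.fst f g ζ) (h₂ : x₂ ⤳ pullback.snd f g ζ)
    (Q : PrimeSpectrum ((pullback f g).presheaf.stalk ζ))
    (hQ : prodIdeal f g x₁ x₂ ζ ≤ Q.asIdeal) :
    δ ((pullback f g).fromSpecStalk ζ Q) ≤ δX x₁ + δY x₂ ∧
      (δ ((pullback f g).fromSpecStalk ζ Q) = δX x₁ + δY x₂ →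
        pullback.fst f g ((pullback f g).fromSpecStalk ζ Q) = x₁ ∧
        pullback.snd f g ((pullback f g).fromSpecStalk ζ Q) = x₂) := by
  haveI : IsLocallyNoetherian X := LocallyOfFiniteType.isLocallyNoetherian f
  haveI : IsLocallyNoetherian Y := LocallyOfFiniteType.isLocallyNoetherian g
  have hdX : Cyc.IsDimFun X δX := Groth.Agent.Lib.helper16.CycMV.isDimFun_of_field K f δX hX
  have hdY : Cyc.IsDimFun Y δY := Groth.Agent.Lib.helper16.CycMV.isDimFun_of_field K g δY hY
  obtain ⟨s₁, s₂⟩ := specializes_of_prodIdeal_le f g x₁ x₂ ζ h₁ h₂ Q hQ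
  have hle := (delta_le_add f g δX δY δ hX hY hXY ((pullback f g).fromSpecStalk ζ Q)).1
  have d₁ := delta_le_of_specializes δX hdX s₁
  have d₂ := delta_le_of_specializes δY hdY s₂
  refine ⟨by omega, fun heq => ⟨?_, ?_⟩⟩
  · by_contra hne
    have := (hdX _ _ s₁ (Ne.symm hne)).1
    omega
  · by_contra hne
    have := (hdY _ _ s₂ (Ne.symm hne)).1
    omega

end field

end Groth.Agent.Lib.helper2.DiagProd
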