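import Groth.Agent.Lib.Helper2.DiagProd2

/-!
# helper2: reduction to the diagonal and dévissage of `closure x₁ × closure x₂` at a diagonal point
-/

set_option autoImplicit false
universe u
open CategoryTheory CategoryTheory.Limits AlgebraicGeometry TopologicalSpace Opposite IsLocalRing

namespace Groth.Agent.Lib.helper2.DiagProd

open Groth.Agent.Lib.helper16.OrdGen Groth.Agent.Lib.helper16.GenFib
  Groth.Agent.Lib.helper16.DivSum Groth.Agent.Lib.helper2.DevSch
  Groth.Agent.Lib.helper2.Diag Groth.Agent.Lib.helper2.ExtProd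
  Groth.Agent.Lib.helper3.DimIneq Groth.Agent.Lib.helper26.HS Groth.Agent.Lib.helper2.Dev
  Groth.Agent.Lib.helper2.Aus

variable {K : Type u} [Field K] {X : Scheme.{u}} (f : X ⟶ Spec (CommRingCat.of K))

theorem stalkIdeal_ker_diagonal [IsSeparated f] [IsIntegral X] (ξ : X)
    (h : pullback.diagonal f (genericPoint X) ⤳ pullback.diagonal f ξ) :
    IntMult.stalkIdeal (pullback.diagonal f).ker (pullback.diagonal f ξ) = pOf h := by
  rw [stalkIdeal_ker, ← comap_pOf (pullback.diagonal f) (genericPoint_specializes ξ) h]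
  have hbot : pOf (genericPoint_specializes ξ) = ⊥ :=
    Groth.Agent.Lib.helper16.SecOrd.ker_specMap_genericPoint ξ (genericPoint_specializes ξ)
  rw [hbot]
  rfl


set_option maxHeartbeats 1600000 in
/-- reduction to the diagonal followed by dévissage of `O_{closure x₁ × closure x₂}` at the diagonal
point `Δ ξ`. -/
theorem mult_eq_finsum_wt [IsAlgClosed K] [Smooth f] [IsProper f] [IsIntegral X]
    [IsIntegral (pullback f f)]
    (δ : X → ℤ) (δ₂ : ↥(pullback f f) → ℤ)
    (hδ : Cyc.DeltaCompat f δ (fun _ => 0))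
    (h₂ : Cyc.DeltaCompat (pullback.fst f f ≫ f) δ₂ (fun _ => 0))
    (h₂' : Cyc.DeltaCompat (pullback.fst f f) δ₂ δ) (n : ℕ) (hn : δ (genericPoint X) = n)
    (ξ x₁ x₂ : X) (hx₁ : x₁ ⤳ ξ) (hx₂ : x₂ ⤳ ξ) (hdim : δ x₁ + δ x₂ - n = δ ξ)
    (hpr : ∀ y, x₁ ⤳ y → x₂ ⤳ y → δ y ≤ δ x₁ + δ x₂ - n)
    (hΔ : pullback.diagonal f (genericPoint X) ⤳ pullback.diagonal f ξ) :
    IntMult.mult (IntMult.ptIdeal x₁) (IntMult.ptIdeal x₂) ξ =
      ∑ᶠ Q : PrimeSpectrum ((pullback f f).presheaf.stalk (pullback.diagonal f ξ)),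
        wt n ((pullback f f).presheaf.stalk (pullback.diagonal f ξ) ⧸
          prodIdeal f f x₁ x₂ (pullback.diagonal f ξ)) Q *
        IntMult.chi ((pullback f f).presheaf.stalk (pullback.diagonal f ξ))
          ((pullback f f).presheaf.stalk (pullback.diagonal f ξ) ⧸ Q.asIdeal)
          ((pullback f f).presheaf.stalk (pullback.diagonal f ξ) ⧸ pOf hΔ) := by
  haveI : IsLocallyNoetherian X := LocallyOfFiniteType.isLocallyNoetherian f
  haveI : IsLocallyNoetherian (pullback f f) :=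
    LocallyOfFiniteType.isLocallyNoetherian (pullback.fst f f ≫ f)
  have hdX : Cyc.IsDimFun X δ := Groth.Agent.Lib.helper16.CycMV.isDimFun_of_field K f δ hδ
  have hdP : Cyc.IsDimFun (pullback f f) δ₂ :=
    Groth.Agent.Lib.helper16.CycMV.isDimFun_of_field K (pullback.fst f f ≫ f) δ₂ h₂
  have e1 : pullback.fst f f (pullback.diagonal f ξ) = ξ :=
    retr_apply _ _ (pullback.diagonal_fst f) ξ
  have e2 : pullback.snd f f (pullback.diagonal f ξ) = ξ :=
    retr_apply _ _ (pullback.diagonal_snd f) ξ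
  have h₁' : x₁ ⤳ pullback.fst f f (pullback.diagonal f ξ) := by rw [e1]; exact hx₁
  have h₂'' : x₂ ⤳ pullback.snd f f (pullback.diagonal f ξ) := by rw [e2]; exact hx₂
  have h𝔡 := stalkIdeal_ker_diagonal f ξ hΔ
  have hζδ : δ₂ (pullback.diagonal f ξ) = δ ξ :=
    delta_section _ _ (pullback.diagonal_fst f) δ₂ δ h₂' ξ
  have hΔδ : δ₂ (pullback.diagonal f (genericPoint X)) = n := by
    rw [delta_section _ _ (pullback.diagonal_fst f) δ₂ δ h₂' _, hn]
  have hg : δ₂ (genericPoint ↥(pullback f f)) = n + n :=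
    delta_genericPoint_pullback f δ δ₂ hδ h₂ h₂' n hn
  obtain ⟨d, hd1, hd2⟩ := dim_stalk_eq δ₂ hdP (pullback.diagonal f ξ)
  obtain ⟨c, hc1, hc2⟩ := delta_eq_add_dim δ₂ hdP hΔ
  obtain ⟨hD, hvan⟩ := smooth_package' K (pullback.fst f f ≫ f) δ₂ hdP (pullback.diagonal f ξ)
    c n d hd2 (by omega)
  rw [mult_diag f (IntMult.ptIdeal x₁) (IntMult.ptIdeal x₂) ξ
    (mem_support_ptIdeal_of_specializes hx₁) (mem_support_ptIdeal_of_specializes hx₂)]
  unfold IntMult.mult
  rw [ker_pullback_map]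
  refine (chi_quot_congr' h𝔡 rfl).trans ?_
  show IntMult.chi ((pullback f f).presheaf.stalk (pullback.diagonal f ξ))
    ((pullback f f).presheaf.stalk (pullback.diagonal f ξ) ⧸ pOf hΔ)
    ((pullback f f).presheaf.stalk (pullback.diagonal f ξ) ⧸
      prodIdeal f f x₁ x₂ (pullback.diagonal f ξ)) = _
  -- support of `B/J`
  have hJdim : ∀ Q : PrimeSpectrum ((pullback f f).presheaf.stalk (pullback.diagonal f ξ)),
      prodIdeal f f x₁ x₂ (pullback.diagonal f ξ) ≤ Q.asIdeal →
      ringKrullDim ((pullback f f).presheaf.stalk (pullback.diagonal f ξ) ⧸ Q.asIdeal) ≤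
        (n : WithBot ℕ∞) := by
    intro Q hQ
    obtain ⟨k, hk1, hk2⟩ := delta_gen δ₂ hdP (pullback.diagonal f ξ) Q
    have := (delta_le_of_prodIdeal_le f f δ δ δ₂ hδ hδ h₂ x₁ x₂ _ h₁' h₂'' Q hQ).1
    rw [hk2]
    have : k ≤ n := by omega
    exact_mod_cast this
  have hMdim : Module.supportDim ((pullback f f).presheaf.stalk (pullback.diagonal f ξ))
      ((pullback f f).presheaf.stalk (pullback.diagonal f ξ) ⧸
        prodIdeal f f x₁ x₂ (pullback.diagonal f ξ)) ≤ (n : WithBot ℕ∞) :=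
    supportDim_le_of_forall _ n (fun Q hQ => hJdim Q (le_of_mem_support_quot _ _ hQ))
  have hS : SuppCond ((pullback f f).presheaf.stalk (pullback.diagonal f ξ))
      ((pullback f f).presheaf.stalk (pullback.diagonal f ξ) ⧸
        prodIdeal f f x₁ x₂ (pullback.diagonal f ξ))
      ((pullback f f).presheaf.stalk (pullback.diagonal f ξ) ⧸ pOf hΔ) := by
    intro Q hQ
    rw [Ideal.annihilator_quotient, Ideal.annihilator_quotient] at hQ
    have hz := specializes_fromSpecStalk (pullback.diagonal f ξ) Q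
    have hΔz : pullback.diagonal f (genericPoint X) ⤳
        (pullback f f).fromSpecStalk (pullback.diagonal f ξ) Q := by
      rw [specializes_iff_pOf_le hΔ hz, pOf_fromSpecStalk]
      exact le_sup_right.trans hQ
    obtain ⟨y, hy⟩ := (specializes_image_genericPoint_iff (pullback.diagonal f) _).1 hΔz
    obtain ⟨s₁, s₂⟩ := specializes_of_prodIdeal_le f f x₁ x₂ _ h₁' h₂'' Q (le_sup_left.trans hQ)
    rw [← hy, retr_apply _ _ (pullback.diagonal_fst f) y] at s₁
    rw [← hy, retr_apply _ _ (pullback.diagonal_snd f) y] at s₂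
    have hyξ : y ⤳ ξ := by
      have := (pullback.fst f f).base.hom.map_specializes hz
      rw [← hy] at this
      rwa [retr_apply _ _ (pullback.diagonal_fst f) y, e1] at this
    have hyeq : y = ξ := by
      by_contra hne
      have h1 := (hdX _ _ hyξ hne).1
      have h2 := hpr y s₁ s₂
      omega
    have hzeq : (pullback f f).fromSpecStalk (pullback.diagonal f ξ) Q = pullback.diagonal f ξ := by
      rw [← hy, hyeq]
    have := (pOf_eq_maximalIdeal_iff hz).2 hzeq
    rw [pOf_fromSpecStalk] at this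
    rw [this]
    exact IsLocalRing.maximalIdeal.isMaximal _
  rw [Groth.Agent.Lib.helper2.IM.chi_symm,
    chi_eq_rhsZ ((pullback f f).presheaf.stalk (pullback.diagonal f ξ) ⧸ pOf hΔ) n (d + 1)
      (hD _) ?_ _ hMdim hS, rhsZ_eq_wt]
  intro Q hQn hQne hSQ
  exact hvan (pr hΔ) Q (by rw [hc2]) hQn (Or.inr hQne) (suppCond_symm _ _ hSQ)

end Groth.Agent.Lib.helper2.DiagProd
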