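import Groth.Agent.Lib.Helper2.DiagProd3

/-!
# helper2: the exterior product at the generizations of a diagonal point, and `[Δ] · (α × β)` there
-/

set_option autoImplicit false
universe u
open CategoryTheory CategoryTheory.Limits AlgebraicGeometry TopologicalSpace Opposite IsLocalRing

namespace Groth.Agent.Lib.helper2.DiagProd

open Groth.Agent.Lib.helper16.OrdGen Groth.Agent.Lib.helper16.GenFib
  Groth.Agent.Lib.helper16.DivSum Groth.Agent.Lib.helper2.DevSch
  Groth.Agent.Lib.helper2.Diag Groth.Agent.Lib.helper2.ExtProd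
  Groth.Agent.Lib.helper3.DimIneq Groth.Agent.Lib.helper26.HS Groth.Agent.Lib.helper2.Dev
  Groth.Agent.Lib.helper2.Aus

theorem finsum_prod_eq_single_left {ι κ : Type*} (a₀ : ι) (F : ι × κ → ℤ)
    (h : ∀ x, x.1 ≠ a₀ → F x = 0) : ∑ᶠ x, F x = ∑ᶠ b, F (a₀, b) := by
  have hinj : Function.Injective (fun b : κ => (a₀, b)) := fun b b' hbb => (Prod.ext_iff.1 hbb).2
  rw [← finsum_mem_range hinj, ← finsum_mem_univ]
  refine finsum_mem_inter_support_eq' _ _ _ (fun x hx => ?_)
  simp only [Set.mem_univ, true_iff]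
  have : x.1 = a₀ := by
    by_contra hne
    exact hx (h x hne)
  exact ⟨x.2, by rw [← this]⟩

variable {K : Type u} [Field K] {X : Scheme.{u}} (f : X ⟶ Spec (CommRingCat.of K))

theorem supportDim_quot_prodIdeal_le [LocallyOfFiniteType f]
    (δ : X → ℤ) (δ₂ : ↥(pullback f f) → ℤ)
    (hδ : Cyc.DeltaCompat f δ (fun _ => 0))
    (h₂ : Cyc.DeltaCompat (pullback.fst f f ≫ f) δ₂ (fun _ => 0))
    (n : ℕ) (ζ : ↥(pullback f f)) (x₁ x₂ : X) (hx₁ : x₁ ⤳ pullback.fst f f ζ)
    (hx₂ : x₂ ⤳ pullback.snd f f ζ) (hdim : δ x₁ + δ x₂ ≤ δ₂ ζ + n) :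
    Module.supportDim ((pullback f f).presheaf.stalk ζ)
      ((pullback f f).presheaf.stalk ζ ⧸ prodIdeal f f x₁ x₂ ζ) ≤ (n : WithBot ℕ∞) := by
  haveI : IsLocallyNoetherian (pullback f f) :=
    LocallyOfFiniteType.isLocallyNoetherian (pullback.fst f f ≫ f)
  have hdP : Cyc.IsDimFun (pullback f f) δ₂ :=
    Groth.Agent.Lib.helper16.CycMV.isDimFun_of_field K (pullback.fst f f ≫ f) δ₂ h₂
  refine supportDim_le_of_forall _ n (fun Q hQ => ?_)
  have hQ' := le_of_mem_support_quot _ _ hQ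
  obtain ⟨k, hk1, hk2⟩ := delta_gen δ₂ hdP ζ Q
  have := (delta_le_of_prodIdeal_le f f δ δ δ₂ hδ hδ h₂ x₁ x₂ _ hx₁ hx₂ Q hQ').1
  rw [hk2]
  have : k ≤ n := by omega
  exact_mod_cast this

open Classical in
/-- the exterior product at a generization of the diagonal point `Δ ξ`. -/
theorem extProd_gen_eq_sum [LocallyOfFiniteType f] (δ : X → ℤ) (δ₂ : ↥(pullback f f) → ℤ)
    (hδ : Cyc.DeltaCompat f δ (fun _ => 0))
    (h₂ : Cyc.DeltaCompat (pullback.fst f f ≫ f) δ₂ (fun _ => 0))
    (n : ℕ) (α β : X → ℤ) (ξ : X) (e : ℤ) (hζδ : δ₂ (pullback.diagonal f ξ) = e) (hξ : δ ξ = e)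
    (S T : Finset X) (hS : ∀ x, x ∈ S ↔ α x ≠ 0 ∧ x ⤳ ξ) (hT : ∀ x, x ∈ T ↔ β x ≠ 0 ∧ x ⤳ ξ)
    (Q : PrimeSpectrum ((pullback f f).presheaf.stalk (pullback.diagonal f ξ))) :
    (if (n : ℤ) + δ₂ ((pullback f f).fromSpecStalk (pullback.diagonal f ξ) Q) - (n + n) = e then
      IntMult.extProd f f δ δ δ₂ α β ((pullback f f).fromSpecStalk (pullback.diagonal f ξ) Q)
      else 0) =
    ∑ p ∈ S ×ˢ T, (if δ p.1 + δ p.2 - n = e then
      α p.1 * β p.2 * wt n ((pullback f f).presheaf.stalk (pullback.diagonal f ξ) ⧸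
        prodIdeal f f p.1 p.2 (pullback.diagonal f ξ)) Q else 0) := by
  haveI : IsLocallyNoetherian X := LocallyOfFiniteType.isLocallyNoetherian f
  haveI : IsLocallyNoetherian (pullback f f) :=
    LocallyOfFiniteType.isLocallyNoetherian (pullback.fst f f ≫ f)
  have hdP : Cyc.IsDimFun (pullback f f) δ₂ :=
    Groth.Agent.Lib.helper16.CycMV.isDimFun_of_field K (pullback.fst f f ≫ f) δ₂ h₂
  have e1 : pullback.fst f f (pullback.diagonal f ξ) = ξ :=
    retr_apply _ _ (pullback.diagonal_fst f) ξ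
  have e2 : pullback.snd f f (pullback.diagonal f ξ) = ξ :=
    retr_apply _ _ (pullback.diagonal_snd f) ξ
  set z := (pullback f f).fromSpecStalk (pullback.diagonal f ξ) Q with hz
  have hzs : z ⤳ pullback.diagonal f ξ := specializes_fromSpecStalk _ Q
  have hz₁ : pullback.fst f f z ⤳ ξ := by
    have := (pullback.fst f f).base.hom.map_specializes hzs
    rwa [e1] at this
  have hz₂ : pullback.snd f f z ⤳ ξ := by
    have := (pullback.snd f f).base.hom.map_specializes hzs
    rwa [e2] at this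
  obtain ⟨k, hk1, hk2⟩ := delta_gen δ₂ hdP (pullback.diagonal f ξ) Q
  rw [← hz, hζδ] at hk1
  have hdimiff : ringKrullDim ((pullback f f).presheaf.stalk (pullback.diagonal f ξ) ⧸ Q.asIdeal) =
      (n : WithBot ℕ∞) ↔ k = n := by
    rw [hk2]
    exact_mod_cast Iff.rfl
  rw [Finset.sum_eq_single (pullback.fst f f z, pullback.snd f f z)]
  · -- the main term
    have hlen := locLen_prodIdeal f f hzs
    rw [pr_gen] at hlen
    unfold wt IntMult.extProd
    simp only [hdimiff]
    rw [hlen]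
    by_cases hk : k = n
    · by_cases hc : δ (pullback.fst f f z) + δ (pullback.snd f f z) - n = e
      · rw [if_pos (by omega), if_pos (by omega), if_pos hc, if_pos hk]
      · rw [if_pos (by omega), if_neg (by omega), if_neg hc]
    · rw [if_neg (by omega), if_neg hk, mul_zero]
      simp
  · -- the other terms vanish
    intro p hp hne
    by_contra hg
    apply hne
    have hC : δ p.1 + δ p.2 - n = e := by
      by_contra hc
      exact hg (if_neg hc)
    rw [if_pos hC] at hg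
    have hw := right_ne_zero_of_mul hg
    unfold wt at hw
    have hkn : k = n := by
      by_contra hc
      apply hw
      rw [if_neg (fun h => hc (hdimiff.1 h))]
    rw [if_pos (hdimiff.2 hkn)] at hw
    have hQs : Q ∈ Module.support ((pullback f f).presheaf.stalk (pullback.diagonal f ξ))
        ((pullback f f).presheaf.stalk (pullback.diagonal f ξ) ⧸
          prodIdeal f f p.1 p.2 (pullback.diagonal f ξ)) := by
      by_contra hns
      apply hw
      rw [locLen_eq_zero_iff.2 hns]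
      simp
    have hQ' := le_of_mem_support_quot _ _ hQs
    rw [Finset.mem_product, hS, hT] at hp
    have hp₁ : p.1 ⤳ pullback.fst f f (pullback.diagonal f ξ) := by rw [e1]; exact hp.1.2
    have hp₂ : p.2 ⤳ pullback.snd f f (pullback.diagonal f ξ) := by rw [e2]; exact hp.2.2
    obtain ⟨-, heq⟩ := delta_le_of_prodIdeal_le f f δ δ δ₂ hδ hδ h₂ p.1 p.2 _ hp₁ hp₂ Q hQ'
    obtain ⟨q1, q2⟩ := heq (by rw [← hz]; omega)
    exact Prod.ext q1.symm q2.symm
  · intro hnot
    rw [Finset.mem_product, hS, hT] at hnot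
    have : α (pullback.fst f f z) = 0 ∨ β (pullback.snd f f z) = 0 := by
      by_contra hc
      push_neg at hc
      exact hnot ⟨⟨hc.1, hz₁⟩, ⟨hc.2, hz₂⟩⟩
    rcases this with h0 | h0
    · simp [h0]
    · simp [h0]

end Groth.Agent.Lib.helper2.DiagProd
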