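import Groth.Agent.Lib.Helper2.DiagProd4

/-!
# helper2: `[Δ] · (α × β)` at a diagonal point is `α · β`
-/

set_option autoImplicit false
universe u
open CategoryTheory CategoryTheory.Limits AlgebraicGeometry TopologicalSpace Opposite IsLocalRing

namespace Groth.Agent.Lib.helper2.DiagProd

open Groth.Agent.Lib.helper16.OrdGen Groth.Agent.Lib.helper16.GenFib
  Groth.Agent.Lib.helper16.DivSum Groth.Agent.Lib.helper2.DevSch
  Groth.Agent.Lib.helper2.Diag Groth.Agent.Lib.helper2.ExtProd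
  Groth.Agent.Lib.helper3.DimIneq Groth.Agent.Lib.helper26.HS Groth.Agent.Lib.helper2.Dev
  Groth.Agent.Lib.helper2.Aus

variable {X : Scheme.{u}}

theorem finite_gen_support_pts (α : AlgebraicCycle X ℤ) (ξ : X) :
    {x : X | α x ≠ 0 ∧ x ⤳ ξ}.Finite := by
  obtain ⟨V, hV, hfin⟩ := α.supportLocallyFiniteWithinDomain' ξ trivial
  refine hfin.subset ?_
  rintro x ⟨hx, hxξ⟩
  exact ⟨mem_of_mem_nhds (hxξ hV), hx⟩

open Classical in
/-- the intersection product as a finite sum over the points of the supports. -/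
theorem interProd_eq_sum (δ : X → ℤ) (n : ℤ) (α β : X → ℤ) (ξ : X) (S T : Finset X)
    (hS : ∀ x, x ∈ S ↔ α x ≠ 0 ∧ x ⤳ ξ) (hT : ∀ x, x ∈ T ↔ β x ≠ 0 ∧ x ⤳ ξ) :
    IntMult.interProd δ n α β ξ = ∑ p ∈ S ×ˢ T, (if δ p.1 + δ p.2 - n = δ ξ then
      α p.1 * β p.2 * IntMult.mult (IntMult.ptIdeal p.1) (IntMult.ptIdeal p.2) ξ else 0) := by
  unfold IntMult.interProd
  rw [finsum_subtype_eq_finsum_cond
    (f := fun p : X × X => α p.1 * β p.2 *
      IntMult.mult (IntMult.ptIdeal p.1) (IntMult.ptIdeal p.2) ξ)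
    (fun p : X × X => p.1 ⤳ ξ ∧ p.2 ⤳ ξ ∧ δ p.1 + δ p.2 - n = δ ξ)]
  have h1 : ∀ p : X × X, (∑ᶠ (_ : p.1 ⤳ ξ ∧ p.2 ⤳ ξ ∧ δ p.1 + δ p.2 - n = δ ξ),
      α p.1 * β p.2 * IntMult.mult (IntMult.ptIdeal p.1) (IntMult.ptIdeal p.2) ξ) =
      if p.1 ⤳ ξ ∧ p.2 ⤳ ξ ∧ δ p.1 + δ p.2 - n = δ ξ then
        α p.1 * β p.2 * IntMult.mult (IntMult.ptIdeal p.1) (IntMult.ptIdeal p.2) ξ else 0 :=
    fun p => finsum_eq_if
  rw [finsum_congr h1, finsum_eq_sum_of_support_subset (s := S ×ˢ T)]
  · refine Finset.sum_congr rfl (fun p hp => ?_)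
    rw [Finset.mem_product, hS, hT] at hp
    by_cases hc : δ p.1 + δ p.2 - n = δ ξ
    · rw [if_pos ⟨hp.1.2, hp.2.2, hc⟩, if_pos hc]
    · rw [if_neg (fun h => hc h.2.2), if_neg hc]
  · intro p hp
    rw [Function.mem_support] at hp
    rw [Finset.mem_coe, Finset.mem_product, hS, hT]
    by_cases hc : p.1 ⤳ ξ ∧ p.2 ⤳ ξ ∧ δ p.1 + δ p.2 - n = δ ξ
    · rw [if_pos hc] at hp
      exact ⟨⟨left_ne_zero_of_mul (left_ne_zero_of_mul hp), hc.1⟩,
        ⟨right_ne_zero_of_mul (left_ne_zero_of_mul hp), hc.2.1⟩⟩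
    · rw [if_neg hc] at hp
      exact absurd rfl hp


open Classical in
set_option maxHeartbeats 1600000 in
/-- `([Δ] · (α × β)) (Δ ξ) = (α · β) ξ`. -/
theorem interProd_diag_extProd_apply {K : Type u} [Field K] [IsAlgClosed K]
    (f : X ⟶ Spec (CommRingCat.of K)) [Smooth f] [IsProper f] [IsIntegral X]
    [IsIntegral (pullback f f)] (δ : X → ℤ) (δ₂ : ↥(pullback f f) → ℤ)
    (hδ : Cyc.DeltaCompat f δ (fun _ => 0))
    (h₂ : Cyc.DeltaCompat (pullback.fst f f ≫ f) δ₂ (fun _ => 0))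
    (h₂' : Cyc.DeltaCompat (pullback.fst f f) δ₂ δ) (n : ℕ) (hn : δ (genericPoint X) = n)
    (α β : AlgebraicCycle X ℤ) (hprop : IntMult.IntersectProperly δ n ⇑α ⇑β) (ξ : X) :
    IntMult.interProd δ₂ ((n : ℤ) + n)
      (Set.indicator {pullback.diagonal f (genericPoint X)} 1)
      (IntMult.extProd f f δ δ δ₂ ⇑α ⇑β) (pullback.diagonal f ξ) =
      IntMult.interProd δ n ⇑α ⇑β ξ := by
  haveI : IsLocallyNoetherian X := LocallyOfFiniteType.isLocallyNoetherian f
  haveI : IsLocallyNoetherian (pullback f f) :=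
    LocallyOfFiniteType.isLocallyNoetherian (pullback.fst f f ≫ f)
  have e1 : pullback.fst f f (pullback.diagonal f ξ) = ξ :=
    retr_apply _ _ (pullback.diagonal_fst f) ξ
  have e2 : pullback.snd f f (pullback.diagonal f ξ) = ξ :=
    retr_apply _ _ (pullback.diagonal_snd f) ξ
  have hΔ : pullback.diagonal f (genericPoint X) ⤳ pullback.diagonal f ξ :=
    (pullback.diagonal f).base.hom.map_specializes (genericPoint_specializes ξ)
  have hζδ : δ₂ (pullback.diagonal f ξ) = δ ξ :=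
    delta_section _ _ (pullback.diagonal_fst f) δ₂ δ h₂' ξ
  have hΔδ : δ₂ (pullback.diagonal f (genericPoint X)) = n := by
    rw [delta_section _ _ (pullback.diagonal_fst f) δ₂ δ h₂' _, hn]
  set S := (finite_gen_support_pts α ξ).toFinset with hSdef
  set T := (finite_gen_support_pts β ξ).toFinset with hTdef
  have hS : ∀ x, x ∈ S ↔ α x ≠ 0 ∧ x ⤳ ξ := fun x => by
    rw [hSdef, Set.Finite.mem_toFinset]; rfl
  have hT : ∀ x, x ∈ T ↔ β x ≠ 0 ∧ x ⤳ ξ := fun x => by
    rw [hTdef, Set.Finite.mem_toFinset]; rfl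
  rw [interProd_eq_sum δ n α β ξ S T hS hT, interProd_eq_finsum_primes,
    finsum_prod_eq_single_left (pr hΔ)]
  · have hterm : ∀ Q : PrimeSpectrum ((pullback f f).presheaf.stalk (pullback.diagonal f ξ)),
        (if δ₂ ((pullback f f).fromSpecStalk (pullback.diagonal f ξ) (pr hΔ)) +
            δ₂ ((pullback f f).fromSpecStalk (pullback.diagonal f ξ) Q) - ((n : ℤ) + n) =
            δ₂ (pullback.diagonal f ξ) then
          Set.indicator {pullback.diagonal f (genericPoint X)} (1 : ↥(pullback f f) → ℤ)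
            ((pullback f f).fromSpecStalk (pullback.diagonal f ξ) (pr hΔ)) *
          IntMult.extProd f f δ δ δ₂ ⇑α ⇑β
            ((pullback f f).fromSpecStalk (pullback.diagonal f ξ) Q) *
          IntMult.chi ((pullback f f).presheaf.stalk (pullback.diagonal f ξ))
            ((pullback f f).presheaf.stalk (pullback.diagonal f ξ) ⧸ Q.asIdeal)
            ((pullback f f).presheaf.stalk (pullback.diagonal f ξ) ⧸ (pr hΔ).asIdeal) else 0) =
        ∑ p ∈ S ×ˢ T, (if δ p.1 + δ p.2 - n = δ ξ then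
          α p.1 * β p.2 * wt n ((pullback f f).presheaf.stalk (pullback.diagonal f ξ) ⧸
            prodIdeal f f p.1 p.2 (pullback.diagonal f ξ)) Q else 0) *
          IntMult.chi ((pullback f f).presheaf.stalk (pullback.diagonal f ξ))
            ((pullback f f).presheaf.stalk (pullback.diagonal f ξ) ⧸ Q.asIdeal)
            ((pullback f f).presheaf.stalk (pullback.diagonal f ξ) ⧸ pOf hΔ) := by
      intro Q
      rw [gen_pr hΔ, hΔδ, hζδ, Set.indicator_of_mem (Set.mem_singleton _), Pi.one_apply, one_mul,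
        ← Finset.sum_mul,
        ← extProd_gen_eq_sum f δ δ₂ hδ h₂ n α β ξ (δ ξ) hζδ rfl S T hS hT Q]
      split_ifs
      · rfl
      · rw [zero_mul]
    refine (finsum_congr hterm).trans ?_
    rw [finsum_sum_comm]
    · refine Finset.sum_congr rfl (fun p hp => ?_)
      rw [Finset.mem_product, hS, hT] at hp
      by_cases hc : δ p.1 + δ p.2 - n = δ ξ
      · simp only [if_pos hc]
        rw [mult_eq_finsum_wt f δ δ₂ hδ h₂ h₂' n hn ξ p.1 p.2 hp.1.2 hp.2.2 hc
          (fun y s₁ s₂ => hprop p.1 p.2 y hp.1.1 hp.2.1 s₁ s₂) hΔ, mul_finsum]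
        refine finsum_congr (fun Q => ?_)
        ring
      · simp only [if_neg hc, zero_mul]
        exact finsum_zero
    · intro p hp
      rw [Finset.mem_product, hS, hT] at hp
      by_cases hc : δ p.1 + δ p.2 - n = δ ξ
      · have hx₁ : p.1 ⤳ pullback.fst f f (pullback.diagonal f ξ) := by rw [e1]; exact hp.1.2
        have hx₂ : p.2 ⤳ pullback.snd f f (pullback.diagonal f ξ) := by rw [e2]; exact hp.2.2
        refine (support_wt_finite n _ (supportDim_quot_prodIdeal_le f δ δ₂ hδ h₂ n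
          (pullback.diagonal f ξ) p.1 p.2 hx₁ hx₂ (by rw [hζδ]; omega))).subset ?_
        intro Q hQ
        rw [Function.mem_support] at hQ ⊢
        intro h0
        apply hQ
        rw [if_pos hc, h0, mul_zero, zero_mul]
      · simp only [if_neg hc, zero_mul]
        show (Function.support (fun _ => (0 : ℤ))).Finite
        rw [Function.support_fun_zero]
        exact Set.finite_empty
  · intro x hx
    have hne : (pullback f f).fromSpecStalk (pullback.diagonal f ξ) x.1 ≠
        pullback.diagonal f (genericPoint X) := fun h =>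
      hx (gen_injective _ (h.trans (gen_pr hΔ).symm))
    rw [Set.indicator_of_notMem (by simpa using hne), zero_mul, zero_mul]
    simp

end Groth.Agent.Lib.helper2.DiagProd
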