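import Groth.Agent.Lib.Helper2.DiagProd5

/-!
# helper2: `pr₁_* ([Δ] · (α × β)) = α · β` on a proper smooth variety over an algebraically closed
field
-/

set_option autoImplicit false
universe u
open CategoryTheory CategoryTheory.Limits AlgebraicGeometry TopologicalSpace Opposite IsLocalRing

namespace Groth.Agent.Lib.helper2.DiagProd

open Groth.Agent.Lib.helper16.OrdGen Groth.Agent.Lib.helper16.GenFib
  Groth.Agent.Lib.helper16.DivSum Groth.Agent.Lib.helper2.DevSch
  Groth.Agent.Lib.helper2.Diag Groth.Agent.Lib.helper2.ExtProd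

variable {X : Scheme.{u}} {K : Type u} [Field K] [IsAlgClosed K]
  (f : X ⟶ Spec (CommRingCat.of K))

/-- a specialization of the generic point of the diagonal is a diagonal point. -/
theorem eq_diagonal_of_specializes [IsSeparated f] [IrreducibleSpace X] (z : ↥(pullback f f))
    (h : pullback.diagonal f (genericPoint X) ⤳ z) :
    z = pullback.diagonal f (pullback.fst f f z) := by
  obtain ⟨y, rfl⟩ := (specializes_image_genericPoint_iff (pullback.diagonal f) z).1 h
  rw [retr_apply _ _ (pullback.diagonal_fst f) y]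

theorem indicator_ne_zero {P : Type*} (a b : P) (h : Set.indicator {a} (1 : P → ℤ) b ≠ 0) :
    b = a := by
  by_contra hne
  exact h (Set.indicator_of_notMem (by simpa using hne) _)

/-- `[Δ]` and `α × β` intersect properly when `α` and `β` do. -/
theorem intersectProperly_diag_extProd [Smooth f] [IsProper f] [IsIntegral X]
    (δ : X → ℤ) (δ₂ : ↥(pullback f f) → ℤ)
    (h₂' : Cyc.DeltaCompat (pullback.fst f f) δ₂ δ) (n : ℤ) (hn : δ (genericPoint X) = n)
    (α β : X → ℤ) (hprop : IntMult.IntersectProperly δ n α β) :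
    IntMult.IntersectProperly δ₂ (n + n)
      (Set.indicator {pullback.diagonal f (genericPoint X)} 1)
      (IntMult.extProd f f δ δ δ₂ α β) := by
  intro a b ζ ha hb haζ hbζ
  obtain rfl := indicator_ne_zero _ _ ha
  have hζ := eq_diagonal_of_specializes f ζ haζ
  have hE : δ₂ b = δ (pullback.fst f f b) + δ (pullback.snd f f b) ∧
      α (pullback.fst f f b) ≠ 0 ∧ β (pullback.snd f f b) ≠ 0 := by
    unfold IntMult.extProd at hb
    by_cases hc : δ₂ b = δ (pullback.fst f f b) + δ (pullback.snd f f b)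
    · rw [if_pos hc] at hb
      exact ⟨hc, left_ne_zero_of_mul (left_ne_zero_of_mul hb),
        right_ne_zero_of_mul (left_ne_zero_of_mul hb)⟩
    · rw [if_neg hc] at hb
      exact absurd rfl hb
  have s₁ : pullback.fst f f b ⤳ pullback.fst f f ζ :=
    (pullback.fst f f).base.hom.map_specializes hbζ
  have s₂ : pullback.snd f f b ⤳ pullback.fst f f ζ := by
    have := (pullback.snd f f).base.hom.map_specializes hbζ
    rw [hζ, retr_apply _ _ (pullback.diagonal_snd f) _] at this
    exact this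
  have h1 := hprop _ _ _ hE.2.1 hE.2.2 s₁ s₂
  have h2 : δ₂ ζ = δ (pullback.fst f f ζ) := by
    rw [hζ, delta_section _ _ (pullback.diagonal_fst f) δ₂ δ h₂' _,
      retr_apply _ _ (pullback.diagonal_fst f) _]
  have h3 : δ₂ (pullback.diagonal f (genericPoint X)) = n := by
    rw [delta_section _ _ (pullback.diagonal_fst f) δ₂ δ h₂' _, hn]
  rw [h2, h3, hE.1]
  omega

/-- the push-forward along `pr₁` of a cycle supported on the diagonal. -/
theorem map_fst_apply_of_diag [IsSeparated f] [QuasiCompact (pullback.fst f f)]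
    (δ : X → ℤ) (δ₂ : ↥(pullback f f) → ℤ)
    (h₂' : Cyc.DeltaCompat (pullback.fst f f) δ₂ δ) (γ : AlgebraicCycle (pullback f f) ℤ)
    (hγ : ∀ z, γ z ≠ 0 → z = pullback.diagonal f (pullback.fst f f z)) (ξ : X) :
    AlgebraicCycle.map (pullback.fst f f) δ₂ δ γ ξ = γ (pullback.diagonal f ξ) := by
  have e1 : pullback.fst f f (pullback.diagonal f ξ) = ξ :=
    retr_apply _ _ (pullback.diagonal_fst f) ξ
  show ∑ᶠ z ∈ (pullback.fst f f) ⁻¹' {ξ}, γ z *
    ((AlgebraicCycle.mapCoeff (pullback.fst f f) δ₂ δ z : ℕ) : ℤ) = _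
  have hsup : ∀ z ∈ Function.support (fun z => γ z *
      ((AlgebraicCycle.mapCoeff (pullback.fst f f) δ₂ δ z : ℕ) : ℤ)),
      z ∈ (pullback.fst f f) ⁻¹' {ξ} ↔ z ∈ ({pullback.diagonal f ξ} : Set ↥(pullback f f)) := by
    intro z hz
    rw [Function.mem_support] at hz
    have hz' := hγ z (left_ne_zero_of_mul hz)
    rw [Set.mem_preimage, Set.mem_singleton_iff, Set.mem_singleton_iff]
    constructor
    · intro h
      rw [hz', h]
    · intro h
      rw [h, e1]
  rw [finsum_mem_inter_support_eq' _ _ _ hsup, finsum_mem_singleton]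
  have hc : AlgebraicCycle.mapCoeff (pullback.fst f f) δ₂ δ (pullback.diagonal f ξ) = 1 := by
    unfold AlgebraicCycle.mapCoeff
    rw [if_pos]
    · exact residueDegree_of_section _ _ (pullback.diagonal_fst f) ξ
    · rw [delta_section _ _ (pullback.diagonal_fst f) δ₂ δ h₂' ξ]
      exact congrArg δ e1.symm
  rw [hc]
  simp


/-- **S1953**: `[Δ]` and `α × β` intersect properly and `pr₁_* ([Δ] · (α × β)) = α · β`. -/
theorem map_fst_interProd_diag_extProd [Smooth f] [IsProper f] [IsIntegral X]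
    (δ : X → ℤ) (hδ : Cyc.DeltaCompat f δ (fun _ => 0)) (n : ℤ) (hn : δ (genericPoint X) = n)
    (δ₂ : ↥(pullback f f) → ℤ)
    (h₂ : Cyc.DeltaCompat (pullback.fst f f ≫ f) δ₂ (fun _ => 0))
    (h₂' : Cyc.DeltaCompat (pullback.fst f f) δ₂ δ)
    (α β : AlgebraicCycle X ℤ) (hprop : IntMult.IntersectProperly δ n ⇑α ⇑β)
    (γ : AlgebraicCycle (pullback f f) ℤ)
    (hγ : ⇑γ = IntMult.interProd δ₂ (n + n)
      (Set.indicator {pullback.diagonal f (genericPoint X)} 1)
      (IntMult.extProd f f δ δ δ₂ ⇑α ⇑β)) :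
    IntMult.IntersectProperly δ₂ (n + n)
        (Set.indicator {pullback.diagonal f (genericPoint X)} 1)
        (IntMult.extProd f f δ δ δ₂ ⇑α ⇑β) ∧
      ⇑(AlgebraicCycle.map (pullback.fst f f) δ₂ δ γ) = IntMult.interProd δ n ⇑α ⇑β := by
  obtain ⟨nn, hnn⟩ : ∃ nn : ℕ, n = nn := by
    obtain ⟨k, -, hk⟩ := hδ (genericPoint X)
    exact ⟨k, by rw [← hn, hk]; simp⟩
  subst hnn
  haveI := isIntegral_pullback_self f
  refine ⟨intersectProperly_diag_extProd f δ δ₂ h₂' _ hn α β hprop, ?_⟩
  have hsupp : ∀ z, γ z ≠ 0 → z = pullback.diagonal f (pullback.fst f f z) := by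
    intro z hz
    rw [hγ] at hz
    apply eq_diagonal_of_specializes
    by_contra hns
    apply hz
    refine interProd_eq_zero_of_forall _ _ _ _ _ (fun a b ha hb _ => ?_)
    have hne : a ≠ pullback.diagonal f (genericPoint X) := fun h => hns (h ▸ ha)
    rw [Set.indicator_of_notMem (by simpa using hne), zero_mul]
  funext ξ
  rw [map_fst_apply_of_diag f δ δ₂ h₂' γ hsupp ξ, hγ]
  exact interProd_diag_extProd_apply f δ δ₂ hδ h₂ h₂' nn hn α β hprop ξ

end Groth.Agent.Lib.helper2.DiagProd
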