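import Groth.Agent.Lib.Helper2.Diag9
import Mathlib.AlgebraicGeometry.Morphisms.Smooth
import Mathlib.AlgebraicGeometry.Morphisms.FiniteType
import Mathlib.AlgebraicGeometry.Noetherian

/-!
# helper2: Serre's dimension inequality and positivity at the local rings of a scheme smooth over a
field
-/

universe u

open CategoryTheory AlgebraicGeometry

namespace Groth.Agent.Lib.helper2.Diag

set_option backward.isDefEq.respectTransparency false in
theorem serre_stalk {K : Type u} [Field K] {X : Scheme.{u}} (f : X ⟶ Spec (CommRingCat.of K))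
    [Smooth f] (ξ : X) (p q : Ideal (X.presheaf.stalk ξ)) (hp : p ≠ ⊤) (hq : q ≠ ⊤)
    (h0 : ringKrullDim (X.presheaf.stalk ξ ⧸ (p ⊔ q)) = 0) :
    ringKrullDim (X.presheaf.stalk ξ ⧸ p) + ringKrullDim (X.presheaf.stalk ξ ⧸ q) ≤
        ringKrullDim (X.presheaf.stalk ξ) ∧
      (ringKrullDim (X.presheaf.stalk ξ) ≤
          ringKrullDim (X.presheaf.stalk ξ ⧸ p) + ringKrullDim (X.presheaf.stalk ξ ⧸ q) →
        0 < IntMult.chi (X.presheaf.stalk ξ) (X.presheaf.stalk ξ ⧸ q) (X.presheaf.stalk ξ ⧸ p)) := by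
  have hess := LocallyOfFiniteType.stalkMap f ξ
  haveI : IsLocallyNoetherian X := LocallyOfFiniteType.isLocallyNoetherian f
  have hx : ξ ∈ f.smoothLocus := by rw [Scheme.Hom.smoothLocus_eq_top]; trivial
  rw [Scheme.Hom.mem_smoothLocus] at hx
  algebraize [(f.stalkMap ξ).hom]
  let K' := (Spec.structureSheaf K).presheaf.stalk (f ξ)
  let e : K ≃ₐ[K] K' := IsLocalization.atUnits _ (f ξ).asIdeal.primeCompl
      (fun y hy ↦ by aesop (add simp IsUnit.mem_submonoid_iff))
  let : Field K' := (e.toRingEquiv.symm.isField (Field.toIsField K)).toField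
  let : Field ((Spec (.of K)).presheaf.stalk (f ξ)) := this
  letI : Algebra K' (X.presheaf.stalk ξ) := (f.stalkMap ξ).hom.toAlgebra
  haveI : Algebra.FormallySmooth ((Spec (.of K)).presheaf.stalk (f ξ)) (X.presheaf.stalk ξ) := hx
  haveI : Algebra.EssFiniteType ((Spec (.of K)).presheaf.stalk (f ξ)) (X.presheaf.stalk ξ) := hess
  exact serre_main ((Spec (.of K)).presheaf.stalk (f ξ)) (X.presheaf.stalk ξ) p q hp hq h0

end Groth.Agent.Lib.helper2.Diag
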