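import Groth.Agent.Lib.Helper2.IM3
import Groth.Agent.Lib.Helper16.CIPull2
import Mathlib.AlgebraicGeometry.IdealSheaf.Functorial

/-!
# helper2: stalks of kernels, suprema and pullbacks of ideal sheaves; the ideal of a product of
closed subschemes
-/

universe u

open CategoryTheory CategoryTheory.Limits AlgebraicGeometry

namespace Groth.Agent.Lib.helper2.Diag

open Groth.Agent.Lib.helper16

variable {X Y : Scheme.{u}}

/-- the stalk of the kernel of a closed immersion is the kernel of the stalk map -/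
theorem stalkIdeal_ker (ι : Y ⟶ X) [IsClosedImmersion ι] (y : Y) :
    IntMult.stalkIdeal ι.ker (ι y) = RingHom.ker (ι.stalkMap y).hom := by
  obtain ⟨_, ⟨W, hW, rfl⟩, hyW, -⟩ := X.isBasis_affineOpens.exists_subset_of_mem_open
    (Set.mem_univ (ι y)) isOpen_univ
  rw [Groth.Agent.Lib.helper2.IM.stalkIdeal_eq_map ι.ker _ ⟨W, hW⟩ hyW,
    ← Groth.Agent.Lib.helper17.RegNear.ker_stalkMap_eq_map ι y W hW hyW,
    Scheme.Hom.ker_apply]
  rfl

theorem stalkIdeal_sup (I J : X.IdealSheafData) (x : X) :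
    IntMult.stalkIdeal (I ⊔ J) x = IntMult.stalkIdeal I x ⊔ IntMult.stalkIdeal J x := by
  obtain ⟨_, ⟨W, hW, rfl⟩, hxW, -⟩ := X.isBasis_affineOpens.exists_subset_of_mem_open
    (Set.mem_univ x) isOpen_univ
  rw [Groth.Agent.Lib.helper2.IM.stalkIdeal_eq_map _ x ⟨W, hW⟩ hxW,
    Groth.Agent.Lib.helper2.IM.stalkIdeal_eq_map I x ⟨W, hW⟩ hxW,
    Groth.Agent.Lib.helper2.IM.stalkIdeal_eq_map J x ⟨W, hW⟩ hxW,
    Scheme.IdealSheafData.ideal_sup, Pi.sup_apply, Ideal.map_sup]

theorem stalkIdeal_map_stalkSpecializes (I : X.IdealSheafData) {x x' : X} (e : x' = x) :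
    (IntMult.stalkIdeal I x).map (X.presheaf.stalkSpecializes (specializes_of_eq e)).hom =
      IntMult.stalkIdeal I x' := by
  subst e
  rw [TopCat.Presheaf.stalkSpecializes_refl]
  exact Ideal.map_id _

theorem stalkIdeal_comap_fst (f : X ⟶ Y) (I : Y.IdealSheafData)
    (z : ↥(pullback f I.subschemeι)) :
    IntMult.stalkIdeal (I.comap f) (pullback.fst f I.subschemeι z) =
      (IntMult.stalkIdeal I (f (pullback.fst f I.subschemeι z))).map
        (f.stalkMap (pullback.fst f I.subschemeι z)).hom := by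
  rw [Scheme.IdealSheafData.comap, stalkIdeal_ker, CIPull.ker_stalkMap_fst,
    ← Groth.Agent.Lib.helper2.IM.stalkIdeal_eq_ker]
  unfold CIPull.baseMap
  rw [CommRingCat.hom_comp, ← Ideal.map_map,
    stalkIdeal_map_stalkSpecializes I (CIPull.apply_fst_eq_apply_snd f I.subschemeι z)]

/-- the stalk of the pullback of an ideal sheaf is generated by the image of the stalk -/
theorem stalkIdeal_comap (f : X ⟶ Y) (I : Y.IdealSheafData) (x : X) (hx : f x ∈ I.support) :
    IntMult.stalkIdeal (I.comap f) x =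
      (IntMult.stalkIdeal I (f x)).map (f.stalkMap x).hom := by
  rw [← SetLike.mem_coe, ← I.range_subschemeι] at hx
  obtain ⟨y, hy⟩ := hx
  obtain ⟨z, hz1, -⟩ := Scheme.Pullback.exists_preimage_pullback x y hy.symm
  subst hz1
  exact stalkIdeal_comap_fst f I z

end Groth.Agent.Lib.helper2.Diag

namespace Groth.Agent.Lib.helper2.Diag

open Scheme.IdealSheafData in
/-- the ideal of a product of closed subschemes -/
theorem ker_pullback_map {X₁ X₂ S : Scheme.{u}} (f₁ : X₁ ⟶ S) (f₂ : X₂ ⟶ S)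
    (I₁ : X₁.IdealSheafData) (I₂ : X₂.IdealSheafData) :
    (pullback.map (I₁.subschemeι ≫ f₁) (I₂.subschemeι ≫ f₂) f₁ f₂ I₁.subschemeι I₂.subschemeι
      (𝟙 S) (Category.comp_id _) (Category.comp_id _)).ker =
      I₁.comap (pullback.fst f₁ f₂) ⊔ I₂.comap (pullback.snd f₁ f₂) := by
  set j := pullback.map (I₁.subschemeι ≫ f₁) (I₂.subschemeι ≫ f₂) f₁ f₂ I₁.subschemeι I₂.subschemeι
      (𝟙 S) (Category.comp_id _) (Category.comp_id _) with hj
  have hj1 : j ≫ pullback.fst f₁ f₂ = pullback.fst _ _ ≫ I₁.subschemeι := by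
    rw [hj]; exact pullback.lift_fst _ _ _
  have hj2 : j ≫ pullback.snd f₁ f₂ = pullback.snd _ _ ≫ I₂.subschemeι := by
    rw [hj]; exact pullback.lift_snd _ _ _
  apply le_antisymm
  · set J := I₁.comap (pullback.fst f₁ f₂) ⊔ I₂.comap (pullback.snd f₁ f₂) with hJ
    have h₁ : I₁ ≤ J.map (pullback.fst f₁ f₂) := le_map_iff_comap_le.2 le_sup_left
    have h₂ : I₂ ≤ J.map (pullback.snd f₁ f₂) := le_map_iff_comap_le.2 le_sup_right
    let g₁ := subschemeMap J I₁ (pullback.fst f₁ f₂) h₁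
    let g₂ := subschemeMap J I₂ (pullback.snd f₁ f₂) h₂
    have hg₁ : g₁ ≫ I₁.subschemeι = J.subschemeι ≫ pullback.fst f₁ f₂ :=
      subschemeMap_subschemeι _ _ _ _
    have hg₂ : g₂ ≫ I₂.subschemeι = J.subschemeι ≫ pullback.snd f₁ f₂ :=
      subschemeMap_subschemeι _ _ _ _
    have hw : g₁ ≫ I₁.subschemeι ≫ f₁ = g₂ ≫ I₂.subschemeι ≫ f₂ := by
      rw [← Category.assoc, hg₁, ← Category.assoc g₂, hg₂, Category.assoc, Category.assoc,
        pullback.condition]
    let l := pullback.lift g₁ g₂ hw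
    have hl : l ≫ j = J.subschemeι := by
      apply pullback.hom_ext
      · rw [Category.assoc, hj1, ← Category.assoc, pullback.lift_fst, hg₁]
      · rw [Category.assoc, hj2, ← Category.assoc, pullback.lift_snd, hg₂]
    calc j.ker ≤ (l ≫ j).ker := Scheme.Hom.le_ker_comp l j
      _ = J := by rw [hl, ker_subschemeι]
  · refine sup_le ?_ ?_
    · rw [← le_map_iff_comap_le, map_ker, hj1]
      calc I₁ = I₁.subschemeι.ker := (ker_subschemeι I₁).symm
        _ ≤ _ := Scheme.Hom.le_ker_comp _ _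
    · rw [← le_map_iff_comap_le, map_ker, hj2]
      calc I₂ = I₂.subschemeι.ker := (ker_subschemeι I₂).symm
        _ ≤ _ := Scheme.Hom.le_ker_comp _ _

end Groth.Agent.Lib.helper2.Diag
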