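import Groth.Agent.Lib.Helper2.DiagAbs
import Groth.Agent.Lib.Helper2.DiagSch2
import Groth.Agent.Lib.Helper5.OverField

/-!
# helper2: reduction to the diagonal for intersection multiplicities on a scheme over a field
-/

universe u

open CategoryTheory CategoryTheory.Limits AlgebraicGeometry

namespace Groth.Agent.Lib.helper2.Diag

open Groth.Agent.Lib.helper16

section retraction

variable {X P : Scheme.{u}} (s : X ⟶ P) (r : P ⟶ X) (hsr : s ≫ r = 𝟙 X)

include hsr in
theorem retr_apply (x : X) : r (s x) = x := by
  have := congrArg (fun φ => φ.base x) hsr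
  exact this

/-- the map `O_{X,x} → O_{P,s x}` induced by the retraction `r` of `s` -/
noncomputable def retrMap (x : X) : X.presheaf.stalk x →+* P.presheaf.stalk (s x) :=
  (X.presheaf.stalkSpecializes (specializes_of_eq (retr_apply s r hsr x)) ≫
    r.stalkMap (s x)).hom

theorem stalkMap_retrMap (x : X) (a : X.presheaf.stalk x) :
    (s.stalkMap x).hom (retrMap s r hsr x a) = a := by
  have h1 := Scheme.Hom.stalkMap_congr_hom (s ≫ r) (𝟙 X) hsr x
  have h0 := Scheme.Hom.stalkMap_comp s r x
  have h1' : r.stalkMap (s x) ≫ s.stalkMap x =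
      X.presheaf.stalkSpecializes (specializes_of_eq (retr_apply s r hsr x).symm) := by
    have := h0.symm.trans h1
    rw [Scheme.Hom.stalkMap_id, TopCat.Presheaf.stalkCongr_hom] at this
    exact this.trans (Category.comp_id _)
  have h2 : X.presheaf.stalkSpecializes (specializes_of_eq (retr_apply s r hsr x)) ≫
      r.stalkMap (s x) ≫ s.stalkMap x = 𝟙 _ := by
    rw [h1', TopCat.Presheaf.stalkSpecializes_comp]
    exact TopCat.Presheaf.stalkSpecializes_refl _ _
  have h3 := congrArg (fun φ => φ.hom a) h2
  exact h3

theorem retrMap_flat [Flat r] (x : X) : (retrMap s r hsr x).Flat := by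
  unfold retrMap
  rw [CommRingCat.hom_comp]
  refine RingHom.Flat.comp ?_ (Flat.stalkMap r (s x))
  have e : Inseparable x (r (s x)) := .of_eq (retr_apply s r hsr x).symm
  have hb : Function.Bijective (X.presheaf.stalkCongr e).hom.hom :=
    ConcreteCategory.bijective_of_isIso (X.presheaf.stalkCongr e).hom
  rw [TopCat.Presheaf.stalkCongr_hom] at hb
  exact RingHom.Flat.of_bijective hb

theorem map_retrMap (I : X.IdealSheafData) (x : X) :
    (IntMult.stalkIdeal I x).map (retrMap s r hsr x) =
      (IntMult.stalkIdeal I (r (s x))).map (r.stalkMap (s x)).hom := by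
  unfold retrMap
  rw [CommRingCat.hom_comp, ← Ideal.map_map,
    stalkIdeal_map_stalkSpecializes I (retr_apply s r hsr x)]

end retraction

end Groth.Agent.Lib.helper2.Diag

namespace Groth.Agent.Lib.helper2.Diag

open Groth.Agent.Lib.helper16

theorem flat_quot_congr {A B : Type u} [CommRing A] [CommRing B] (φ : A →+* B) {J J' : Ideal B}
    (h : J = J') (hf : ((Ideal.Quotient.mk J).comp φ).Flat) :
    ((Ideal.Quotient.mk J').comp φ).Flat := by
  subst h
  exact hf

theorem chi_quot_congr' {A : Type u} [CommRing A] {I I' J J' : Ideal A} (hI : I = I')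
    (hJ : J = J') : IntMult.chi A (A ⧸ I) (A ⧸ J) = IntMult.chi A (A ⧸ I') (A ⧸ J') := by
  subst hI hJ
  rfl

/-- `A → B → B/ker ψ` is flat if `ψ : B → C` is surjective and `A → B → C` is flat. -/
theorem flat_quot_ker {A B C : Type u} [CommRing A] [CommRing B] [CommRing C] (φ : A →+* B)
    (ψ : B →+* C) (hψ : Function.Surjective ψ) (hf : (ψ.comp φ).Flat) :
    ((Ideal.Quotient.mk (RingHom.ker ψ)).comp φ).Flat := by
  let e := RingHom.quotientKerEquivOfSurjective hψ
  have h1 : (Ideal.Quotient.mk (RingHom.ker ψ)).comp φ =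
      (e.symm : C →+* B ⧸ RingHom.ker ψ).comp (ψ.comp φ) := by
    ext a
    simp only [RingHom.comp_apply, RingHom.coe_coe]
    rw [RingEquiv.eq_symm_apply]
    rfl
  rw [h1]
  exact RingHom.Flat.comp hf (RingHom.Flat.of_bijective e.symm.bijective)

variable {X P P' : Scheme.{u}}

theorem flat_quot_stalkIdeal_ker (g : P' ⟶ P) [IsClosedImmersion g] (r : P ⟶ X) [Flat (g ≫ r)]
    (z : P) (hz : z ∈ Set.range g) :
    ((Ideal.Quotient.mk (IntMult.stalkIdeal g.ker z)).comp (r.stalkMap z).hom).Flat := by
  obtain ⟨z', rfl⟩ := hz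
  refine flat_quot_congr _ (stalkIdeal_ker g z').symm ?_
  refine flat_quot_ker _ _ ?_ ?_
  · exact g.stalkMap_surjective z'
  · have h := Flat.stalkMap (g ≫ r) z'
    rw [Scheme.Hom.stalkMap_comp] at h
    exact h

end Groth.Agent.Lib.helper2.Diag

namespace Groth.Agent.Lib.helper2.Diag

open Groth.Agent.Lib.helper16

section main

variable {K : Type u} [Field K] {X : Scheme.{u}} (f : X ⟶ Spec (CommRingCat.of K))

theorem flat_fst_comp (IW : X.IdealSheafData) :
    Flat (pullback.fst (pullback.snd f f) IW.subschemeι ≫ pullback.fst f f) := by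
  have sqA : IsPullback (pullback.snd (pullback.snd f f) IW.subschemeι)
      (pullback.fst (pullback.snd f f) IW.subschemeι) IW.subschemeι (pullback.snd f f) :=
    (IsPullback.of_hasPullback _ _).flip
  have sqB : IsPullback (pullback.snd f f) (pullback.fst f f) f f :=
    (IsPullback.of_hasPullback f f).flip
  have sq := sqA.paste_vert sqB
  have hW : Flat (IW.subschemeι ≫ f) := Groth.Agent.Lib.helper5.OverField.flat_of_field _
  exact MorphismProperty.of_isPullback sq hW

variable [IsLocallyNoetherian X] [IsSeparated f]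

/-- **Reduction to the diagonal** for the Tor-formula intersection multiplicity on a separated
locally Noetherian scheme over a field. -/
theorem mult_diag (IV IW : X.IdealSheafData) (x : X) (hxV : x ∈ IV.support)
    (hxW : x ∈ IW.support) :
    IntMult.mult IV IW x =
      IntMult.mult (pullback.map (IV.subschemeι ≫ f) (IW.subschemeι ≫ f) f f IV.subschemeι
        IW.subschemeι (𝟙 _) (Category.comp_id _) (Category.comp_id _)).ker
        (pullback.diagonal f).ker (pullback.diagonal f x) := by
  have h1 : pullback.diagonal f ≫ pullback.fst f f = 𝟙 X := pullback.diagonal_fst f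
  have h2 : pullback.diagonal f ≫ pullback.snd f f = 𝟙 X := pullback.diagonal_snd f
  haveI : Flat f := Groth.Agent.Lib.helper5.OverField.flat_of_field f
  haveI : Flat (pullback.snd f f) := inferInstance
  have e1 : pullback.fst f f (pullback.diagonal f x) = x := retr_apply _ _ h1 x
  have e2 : pullback.snd f f (pullback.diagonal f x) = x := retr_apply _ _ h2 x
  have hp : (IntMult.stalkIdeal IV x).map (retrMap (pullback.diagonal f) (pullback.fst f f) h1 x) =
      IntMult.stalkIdeal (IV.comap (pullback.fst f f)) (pullback.diagonal f x) := by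
    rw [map_retrMap, stalkIdeal_comap _ _ _ (by rw [e1]; exact hxV)]
  have hq : (IntMult.stalkIdeal IW x).map (retrMap (pullback.diagonal f) (pullback.snd f f) h2 x) =
      IntMult.stalkIdeal (IW.comap (pullback.snd f f)) (pullback.diagonal f x) := by
    rw [map_retrMap, stalkIdeal_comap _ _ _ (by rw [e2]; exact hxW)]
  have hflat : ((Ideal.Quotient.mk ((IntMult.stalkIdeal IW x).map
      (retrMap (pullback.diagonal f) (pullback.snd f f) h2 x))).comp
      (retrMap (pullback.diagonal f) (pullback.fst f f) h1 x)).Flat := by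
    refine flat_quot_congr _ hq.symm ?_
    haveI := flat_fst_comp f IW
    have hz : pullback.diagonal f x ∈ Set.range (pullback.fst (pullback.snd f f) IW.subschemeι) := by
      rw [Scheme.Pullback.range_fst, Set.mem_preimage, e2, IW.range_subschemeι]
      exact hxW
    have h := flat_quot_stalkIdeal_ker (pullback.fst (pullback.snd f f) IW.subschemeι)
      (pullback.fst f f) (pullback.diagonal f x) hz
    have e : Inseparable x (pullback.fst f f (pullback.diagonal f x)) := .of_eq e1.symm
    have hb : Function.Bijective (X.presheaf.stalkCongr e).hom.hom :=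
      ConcreteCategory.bijective_of_isIso (X.presheaf.stalkCongr e).hom
    rw [TopCat.Presheaf.stalkCongr_hom] at hb
    have h3 := RingHom.Flat.comp (RingHom.Flat.of_bijective hb) h
    exact h3
  have hchi := chi_diag_abs (retrMap (pullback.diagonal f) (pullback.fst f f) h1 x)
    (retrMap (pullback.diagonal f) (pullback.snd f f) h2 x)
    ((pullback.diagonal f).stalkMap x).hom
    (stalkMap_retrMap _ _ h1 x) (stalkMap_retrMap _ _ h2 x) (retrMap_flat _ _ h2 x)
    (IntMult.stalkIdeal IV x) (IntMult.stalkIdeal IW x) hflat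
  unfold IntMult.mult
  rw [hchi]
  refine chi_quot_congr' ?_ ?_
  · exact (stalkIdeal_ker (pullback.diagonal f) x).symm
  · rw [ker_pullback_map, stalkIdeal_sup, ← hp, ← hq, sup_comm]

end main

end Groth.Agent.Lib.helper2.Diag
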