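import Groth.Agent.Lib.Helper2.QuotCat
import Mathlib

universe u
open CategoryTheory AlgebraicGeometry Opposite Limits

namespace Groth.Agent.Lib.helper2.QuotLib

section EffEpi
variable {S' S : Scheme.{u}} (g : S' ⟶ S)

theorem base_eq_of_fibre {W : Scheme.{u}} (e : S' ⟶ W)
    (he : pullback.fst g g ≫ e = pullback.snd g g ≫ e) (x y : S') (hxy : g.base x = g.base y) :
    e.base x = e.base y := by
  obtain ⟨z, hz1, hz2⟩ := Scheme.Pullback.exists_preimage_pullback (f := g) (g := g) x y hxy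
  rw [← hz1, ← hz2]
  exact congr($(he).base z)

/-- the open of `S` whose preimage is `e⁻¹ V` -/
def descOpen (hq : Topology.IsQuotientMap g.base) {W : Scheme.{u}} (e : S' ⟶ W)
    (he : pullback.fst g g ≫ e = pullback.snd g g ≫ e) (V : W.Opens) : S.Opens :=
  ⟨{s | ∀ s' : S', g.base s' = s → e.base s' ∈ V}, by
    rw [← hq.isOpen_preimage]
    convert (e ⁻¹ᵁ V).isOpen using 1
    ext x
    constructor
    · intro h
      exact h x rfl
    · intro h s' hs'
      rw [base_eq_of_fibre g e he s' x hs']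
      exact h⟩

theorem preimage_descOpen (hq : Topology.IsQuotientMap g.base) {W : Scheme.{u}} (e : S' ⟶ W)
    (he : pullback.fst g g ≫ e = pullback.snd g g ≫ e) (V : W.Opens) :
    g ⁻¹ᵁ (descOpen g hq e he V) = e ⁻¹ᵁ V := by
  ext x
  constructor
  · intro h
    exact h x rfl
  · intro h s' hs'
    rw [base_eq_of_fibre g e he s' x hs']
    exact h

theorem local_desc (hq : Topology.IsQuotientMap g.base)
    (hinj : ∀ U : S.Opens, Function.Injective (g.app U).hom)
    (heq : ∀ (U : S.Opens) (s' : Γ(S', g ⁻¹ᵁ U)),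
      (SGA1.overlapFstApp g U).hom s' = (SGA1.overlapSndApp g U).hom s' →
      s' ∈ Set.range (g.app U).hom)
    {W : Scheme.{u}} (e : S' ⟶ W)
    (he : pullback.fst g g ≫ e = pullback.snd g g ≫ e) {V : W.Opens} (hV : IsAffineOpen V) :
    ∃ a : (descOpen g hq e he V).toScheme ⟶ W,
      (g ∣_ (descOpen g hq e he V)) ≫ a = (g ⁻¹ᵁ (descOpen g hq e he V)).ι ≫ e := by
  set U := descOpen g hq e he V with hU
  have hle : g ⁻¹ᵁ U ≤ e ⁻¹ᵁ V := (preimage_descOpen g hq e he V).le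
  have hmem : ∀ t, (e.appLE V (g ⁻¹ᵁ U) hle).hom t ∈ Set.range (g.app U).hom := by
    intro t
    apply heq
    have h1 := Scheme.Hom.appLE_comp_appLE (pullback.fst g g) e V (g ⁻¹ᵁ U)
      ((pullback.fst g g) ⁻¹ᵁ (g ⁻¹ᵁ U)) hle le_rfl
    have h2 := Scheme.Hom.appLE_comp_appLE (pullback.snd g g) e V (g ⁻¹ᵁ U)
      ((pullback.fst g g) ⁻¹ᵁ (g ⁻¹ᵁ U)) hle (SGA1.fst_preimage_eq_snd_preimage g U).le
    have h3 := appLE_eq_of_eq' _ _ he V ((pullback.fst g g) ⁻¹ᵁ (g ⁻¹ᵁ U))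
      (by rw [Scheme.Hom.comp_preimage]; exact fun _ hx => hle hx)
      (by rw [Scheme.Hom.comp_preimage, SGA1.fst_preimage_eq_snd_preimage]
          exact fun _ hx => hle hx)
    rw [← h1, ← h2] at h3
    have h4 := congr($h3 t)
    simp only [CommRingCat.comp_apply] at h4
    rw [SGA1.overlapFstApp, SGA1.overlapSndApp, Scheme.Hom.app_eq_appLE]
    exact h4
  obtain ⟨ψ', hψ'⟩ := exists_factor_of_range_le (g.app U).hom (hinj U)
    (e.appLE V (g ⁻¹ᵁ U) hle).hom hmem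
  refine ⟨U.toSpecΓ ≫ Spec.map (CommRingCat.ofHom ψ') ≫ hV.fromSpec, ?_⟩
  have h3 : CommRingCat.ofHom ψ' ≫ g.app U = e.appLE V (g ⁻¹ᵁ U) hle := by
    ext t
    exact congr($hψ' t)
  rw [← Category.assoc, ← Scheme.Opens.toSpecΓ_naturality, Category.assoc, ← Category.assoc
    (Spec.map _), ← Spec.map_comp, h3, ← Category.assoc, Scheme.Opens.toSpecΓ_SpecMap_appLE,
    Category.assoc, IsAffineOpen.toSpecΓ_fromSpec, Scheme.Hom.resLE_comp_ι]

theorem exists_desc (hq : Topology.IsQuotientMap g.base)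
    (hinj : ∀ U : S.Opens, Function.Injective (g.app U).hom)
    (heq : ∀ (U : S.Opens) (s' : Γ(S', g ⁻¹ᵁ U)),
      (SGA1.overlapFstApp g U).hom s' = (SGA1.overlapSndApp g U).hom s' →
      s' ∈ Set.range (g.app U).hom)
    {W : Scheme.{u}} (e : S' ⟶ W)
    (he : pullback.fst g g ≫ e = pullback.snd g g ≫ e) :
    ∃ m : S ⟶ W, g ≫ m = e := by
  have hSI : SurjInj g := ⟨hq.surjective, hinj⟩
  let U : W.affineOpens → S.Opens := fun V => descOpen g hq e he V.1
  have hmemU : ∀ s' : S', ∃ V : W.affineOpens, g.base s' ∈ U V := by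
    intro s'
    obtain ⟨V, hV, hxV⟩ := exists_affine_nhd (e.base s')
    refine ⟨⟨V, hV⟩, ?_⟩
    intro s'' hs''
    rw [base_eq_of_fibre g e he s'' s' hs'']
    exact hxV
  have hcov : TopologicalSpace.IsOpenCover U := by
    apply TopologicalSpace.IsOpenCover.mk
    rw [eq_top_iff]
    intro y _
    obtain ⟨s', rfl⟩ := hq.surjective y
    obtain ⟨V, hV⟩ := hmemU s'
    exact TopologicalSpace.Opens.mem_iSup.2 ⟨V, hV⟩
  choose a ha using fun V : W.affineOpens => local_desc g hq hinj heq e he V.2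
  obtain ⟨m, hm⟩ := glue_opens U hcov a (fun y y' => by
    apply (hSI.restrict (U y ⊓ U y')).eq_of_comp_eq
    rw [← Category.assoc, ← Category.assoc, restrict_homOfLE, restrict_homOfLE,
      Category.assoc, Category.assoc, ha, ha, Scheme.homOfLE_ι_assoc, Scheme.homOfLE_ι_assoc])
  refine ⟨m, ?_⟩
  have hcovX : TopologicalSpace.IsOpenCover (fun V => g ⁻¹ᵁ (U V)) := by
    apply TopologicalSpace.IsOpenCover.mk
    rw [eq_top_iff]
    intro x _
    obtain ⟨V, hV⟩ := hmemU x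
    exact TopologicalSpace.Opens.mem_iSup.2 ⟨V, hV⟩
  apply (S'.openCoverOfIsOpenCover _ hcovX).hom_ext
  intro V
  show (g ⁻¹ᵁ (U V)).ι ≫ g ≫ m = (g ⁻¹ᵁ (U V)).ι ≫ e
  rw [← ha V, ← hm V, ← Category.assoc, ← morphismRestrict_ι, Category.assoc]

theorem effectiveEpi_of_quotient (hq : Topology.IsQuotientMap g.base)
    (hinj : ∀ U : S.Opens, Function.Injective (g.app U).hom)
    (heq : ∀ (U : S.Opens) (s' : Γ(S', g ⁻¹ᵁ U)),
      (SGA1.overlapFstApp g U).hom s' = (SGA1.overlapSndApp g U).hom s' →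
      s' ∈ Set.range (g.app U).hom) : EffectiveEpi g := by
  have hSI : SurjInj g := ⟨hq.surjective, hinj⟩
  have key : ∀ {W : Scheme.{u}} (e : S' ⟶ W),
      (∀ {Z : Scheme.{u}} (g₁ g₂ : Z ⟶ S'), g₁ ≫ g = g₂ ≫ g → g₁ ≫ e = g₂ ≫ e) →
      ∃ m : S ⟶ W, g ≫ m = e := fun e h =>
    exists_desc g hq hinj heq e (h _ _ pullback.condition)
  exact ⟨⟨{ desc := fun e h => (key e h).choose
            fac := fun e h => (key e h).choose_spec
            uniq := fun e h m hm => hSI.eq_of_comp_eq _ _ (hm.trans (key e h).choose_spec.symm) }⟩⟩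

end EffEpi

end Groth.Agent.Lib.helper2.QuotLib
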