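import Mathlib
import Groth.Agent.Lib.Helper2.PushPt4

/-!
# Envelopes: lifting a family of principal divisors along a pointwise section (helper2)

For a proper morphism `f : Y ⟶ X` with a pointwise section `σ` having trivial residue field extensions
(an envelope), a locally finite family of principal divisors on `X` is the pushforward of such a family
on `Y`.
-/

set_option autoImplicit false
set_option linter.unusedSectionVars false

namespace Groth.Agent.Lib.helper2.EnvSeq

universe u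

open CategoryTheory AlgebraicGeometry TopologicalSpace Function
open Groth.Agent.Lib.helper16.CycClosed Groth.Agent.Lib.helper2.PushPt

variable {X Y : Scheme.{u}}

theorem trdeg_zero_finrank_one {K L : Type u} [Field K] [Field L] (φ : K →+* L)
    (hφ : Function.Surjective φ) :
    (letI := φ.toAlgebra; Algebra.trdeg K L) = 0 ∧ (letI := φ.toAlgebra; Module.finrank K L) = 1 := by
  letI := φ.toAlgebra
  have hsurj : Function.Surjective (algebraMap K L) := hφ
  constructor
  · haveI : Algebra.IsIntegral K L := Algebra.isIntegral_of_surjective hsurj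
    exact trdeg_eq_zero
  · have hbij : Function.Bijective (Algebra.linearMap K L) := ⟨(algebraMap K L).injective, hsurj⟩
    rw [← (LinearEquiv.ofBijective (Algebra.linearMap K L) hbij).finrank_eq, Module.finrank_self]

/-- at a point with surjective residue field map the weights agree and the degree is one -/
theorem delta_eq_and_residueDegree (f : Y ⟶ X) (δY : Y → ℤ) (δ : X → ℤ)
    (hδ : Cyc.DeltaCompat f δY δ) (y : Y) (hs : Function.Surjective (f.residueFieldMap y).hom) :
    δY y = δ (f y) ∧ f.residueDegree y = 1 := by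
  obtain ⟨n, hn, hδn⟩ := hδ y
  obtain ⟨h1, h2⟩ := trdeg_zero_finrank_one (f.residueFieldMap y).hom hs
  have hn0 : n = 0 := by
    have : (n : Cardinal.{u}) = 0 := hn.symm.trans h1
    exact_mod_cast this
  subst hn0
  exact ⟨by rw [hδn]; simp, h2⟩

open Classical in
theorem mapCoeff_eq_one (f : Y ⟶ X) (δY : Y → ℤ) (δ : X → ℤ)
    (hδ : Cyc.DeltaCompat f δY δ) (y : Y) (hs : Function.Surjective (f.residueFieldMap y).hom) :
    AlgebraicCycle.mapCoeff f δY δ y = 1 := by
  obtain ⟨h1, h2⟩ := delta_eq_and_residueDegree f δY δ hδ y hs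
  unfold AlgebraicCycle.mapCoeff
  rw [if_pos h1, h2]

open Classical in
theorem exists_lift_of_family (δ : X → ℤ) (δY : Y → ℤ) (hX : Cyc.IsSetup X δ)
    (hY : Cyc.IsSetup Y δY) (f : Y ⟶ X) [IsProper f] (hδ : Cyc.DeltaCompat f δY δ)
    (σ : X → Y) (hσ1 : ∀ x, f (σ x) = x)
    (hσ2 : ∀ x, Function.Surjective (f.residueFieldMap (σ x)).hom) (k : ℤ)
    {ι : Type u} (ξ : ι → X) (r : ∀ i, X.residueField (ξ i)) (hξ : ∀ i, δ (ξ i) = k + 1)
    (hr : ∀ i, r i ≠ 0)
    (hlf : ∀ x : X, ∃ U : Set X, IsOpen U ∧ x ∈ U ∧ {i | (closure {ξ i} ∩ U).Nonempty}.Finite) :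
    ∃ β' : AlgebraicCycle Y ℤ, β' ∈ Cyc.Zk Y δY k ∧ Cyc.RatEquivZero δY k β' ∧
      ∀ x, AlgebraicCycle.map f δY δ β' x = ∑ᶠ i, Cyc.divFun δ (ξ i) (r i) x := by
  haveI := hX.1
  haveI := hY.1
  -- the lifted family
  let η : ι → Y := fun i => σ (ξ i)
  have hη : ∀ i, f (η i) = ξ i := fun i => hσ1 (ξ i)
  let g : ∀ i, X.residueField (f (η i)) := fun i => (X.residueFieldCongr (hη i)).inv (r i)
  have hg : ∀ i, g i ≠ 0 := fun i => congr_inv_ne_zero (hη i) (r i) (hr i)
  let F : ∀ i, Y.residueField (η i) := fun i => f.residueFieldMap (η i) (g i)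
  have hF : ∀ i, F i ≠ 0 := by
    intro i
    show (f.residueFieldMap (η i)).hom (g i) ≠ 0
    rw [Ne, map_eq_zero_iff _ (f.residueFieldMap (η i)).hom.injective]
    exact hg i
  have hδη : ∀ i, δY (η i) = k + 1 := by
    intro i
    rw [(delta_eq_and_residueDegree f δY δ hδ (η i) (hσ2 (ξ i))).1, hη i]
    exact hξ i
  have hlfY : ∀ y : Y, ∃ U : Set Y, IsOpen U ∧ y ∈ U ∧
      {i | (closure {η i} ∩ U).Nonempty}.Finite := by
    intro y
    obtain ⟨U, hU, hyU, hfin⟩ := hlf (f y)
    refine ⟨f ⁻¹' U, hU.preimage f.continuous, hyU, hfin.subset ?_⟩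
    rintro i ⟨y', hy1, hy2⟩
    refine ⟨f y', ?_, hy2⟩
    have h1 : η i ⤳ y' := specializes_iff_mem_closure.2 hy1
    have h2 : f (η i) ⤳ f y' := h1.map f.continuous
    rw [hη i] at h2
    exact specializes_iff_mem_closure.1 h2
  obtain ⟨β', hβ', hβ'k, hβ'r⟩ := exists_cycle_of_family (X := Y) δY hY.2.2 k η F hδη hF hlfY
  refine ⟨β', hβ'k, hβ'r, fun x => ?_⟩
  have hK : IsCompact (f ⁻¹' {x}) := f.isCompact_preimage_singleton x
  have hI₀ := finite_meets_compact η hlfY _ hK
  show ∑ᶠ y ∈ f ⁻¹' {x}, β' y * ((AlgebraicCycle.mapCoeff f δY δ y : ℕ) : ℤ) = _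
  have hrew : ∀ y, β' y * ((AlgebraicCycle.mapCoeff f δY δ y : ℕ) : ℤ) =
      (∑ᶠ i, Cyc.divFun δY (η i) (F i) y) * ((AlgebraicCycle.mapCoeff f δY δ y : ℕ) : ℤ) := by
    intro y
    rw [hβ' y]
  rw [finsum_mem_congr rfl (fun y _ => hrew y),
    finsum_mem_finsum_comm (f ⁻¹' {x}) (fun i y => Cyc.divFun δY (η i) (F i) y) _ hI₀ ?_ ?_]
  · apply finsum_congr
    intro i
    have h1 := push_divFun_pullback δY δ hY hX f hδ (η i) (g i) (hg i) x
    rw [mapCoeff_eq_one f δY δ hδ (η i) (hσ2 (ξ i)), Nat.cast_one, one_mul] at h1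
    rw [divFun_congr_inv δ (hη i) (r i)]
    exact h1
  · intro i hi y hy
    by_contra hne
    apply hi
    exact ⟨y, specializes_iff_mem_closure.1 (divFun_ne_zero_specializes δY _ _ y hne).1, hy⟩
  · intro i _
    exact finite_inter_support_divFun δY hY.2.2 (η i) (F i) (hF i) _ hK

end Groth.Agent.Lib.helper2.EnvSeq
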