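import Mathlib
import Groth.Agent.Lib.Helper2.EnvSeq1
import Groth.Agent.Lib.Helper2.GenFib2

/-!
# Envelopes: points of `Y ×_X Y` over `(y, σ (f y))` (helper2)
-/

set_option autoImplicit false
set_option linter.unusedSectionVars false

namespace Groth.Agent.Lib.helper2.EnvSeq

universe u

open CategoryTheory CategoryTheory.Limits AlgebraicGeometry TopologicalSpace Function

variable {X Y : Scheme.{u}}

/-- the residue field map of `Spec K ⟶ Y` at the closed point is bijective when the morphism is the
canonical one -/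
theorem desc_bijective_of_eq (y : Y) (g : Spec (Y.residueField y) ⟶ Y)
    (hg : g = Y.fromSpecResidueField y) :
    Function.Bijective
      (Scheme.descResidueField (K := Y.residueField y) (Scheme.stalkClosedPointTo g)).hom := by
  have h1 := (Scheme.SpecToEquivOfField (Y.residueField y) Y).right_inv ⟨y, 𝟙 _⟩
  have h2 : (Scheme.SpecToEquivOfField (Y.residueField y) Y).invFun ⟨y, 𝟙 _⟩ = g := by
    rw [hg]
    show Spec.map (𝟙 _) ≫ Y.fromSpecResidueField y = _
    rw [Spec.map_id, Category.id_comp]
  rw [h2] at h1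
  obtain ⟨e, he⟩ := Scheme.SpecToEquivOfField_eq_iff.1 h1
  have he' : Scheme.descResidueField (K := Y.residueField y) (Scheme.stalkClosedPointTo g) =
      (Y.residueFieldCongr e).hom ≫ 𝟙 _ := he
  rw [he', Category.comp_id]
  exact ConcreteCategory.bijective_of_isIso _

/-- a point `z` of `P` hit by a morphism `τ : Spec κ(y) ⟶ P` with `τ ≫ q = can` has trivial residue
field extension over `y` -/
theorem residueFieldMap_bijective_of_lift {P : Scheme.{u}} (q : P ⟶ Y) (y : Y)
    (τ : Spec (Y.residueField y) ⟶ P) (hτ : τ ≫ q = Y.fromSpecResidueField y) :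
    Function.Bijective
      (q.residueFieldMap (τ (IsLocalRing.closedPoint (Y.residueField y)))).hom := by
  have h1 := desc_bijective_of_eq y (τ ≫ q) hτ
  have h2 := Scheme.descResidueField_stalkClosedPointTo_comp (K := Y.residueField y) (f := q) τ
  set e := Scheme.descResidueField (K := Y.residueField y) (Scheme.stalkClosedPointTo τ) with he
  set a := q.residueFieldMap (τ (IsLocalRing.closedPoint (Y.residueField y))) with ha
  have h1' : Function.Bijective (a ≫ e).hom := by
    rw [← h2]
    exact h1
  have h3 : Function.Bijective (e.hom ∘ a.hom) := h1'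
  have he_inj : Function.Injective e.hom := e.hom.injective
  have he_surj : Function.Surjective e.hom := Function.Surjective.of_comp h3.2
  refine ⟨a.hom.injective, ?_⟩
  intro w
  obtain ⟨c, hc⟩ := h3.2 (e.hom w)
  exact ⟨c, he_inj hc⟩

/-- the point of `Y ×_X Y` over `(y, y₀)` when `κ(f y₀) → κ(y₀)` is surjective -/
theorem exists_point (f : Y ⟶ X) (y y₀ : Y) (h : f y₀ = f y)
    (hs : Function.Surjective (f.residueFieldMap y₀).hom) :
    ∃ z : ↥(pullback f f), pullback.fst f f z = y ∧ pullback.snd f f z = y₀ ∧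
      Function.Bijective ((pullback.fst f f).residueFieldMap z).hom := by
  haveI : IsIso (f.residueFieldMap y₀) :=
    (ConcreteCategory.isIso_iff_bijective _).2 ⟨(f.residueFieldMap y₀).hom.injective, hs⟩
  let ψ : Y.residueField y₀ ⟶ Y.residueField y :=
    inv (f.residueFieldMap y₀) ≫ (X.residueFieldCongr h).hom ≫ f.residueFieldMap y
  have hψ : f.residueFieldMap y₀ ≫ ψ = (X.residueFieldCongr h).hom ≫ f.residueFieldMap y := by
    simp only [ψ, IsIso.hom_inv_id_assoc]
  have comm : Y.fromSpecResidueField y ≫ f = (Spec.map ψ ≫ Y.fromSpecResidueField y₀) ≫ f := by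
    rw [← Scheme.Hom.SpecMap_residueFieldMap_fromSpecResidueField, Category.assoc,
      ← Scheme.Hom.SpecMap_residueFieldMap_fromSpecResidueField, ← Category.assoc,
      ← Spec.map_comp, hψ, Spec.map_comp, Category.assoc,
      Scheme.residueFieldCongr_fromSpecResidueField]
  let τ : Spec (Y.residueField y) ⟶ pullback f f :=
    pullback.lift (Y.fromSpecResidueField y) (Spec.map ψ ≫ Y.fromSpecResidueField y₀) comm
  have hτ1 : τ ≫ pullback.fst f f = Y.fromSpecResidueField y := pullback.lift_fst _ _ _
  have hτ2 : τ ≫ pullback.snd f f = Spec.map ψ ≫ Y.fromSpecResidueField y₀ :=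
    pullback.lift_snd _ _ _
  refine ⟨τ (IsLocalRing.closedPoint (Y.residueField y)), ?_, ?_, ?_⟩
  · rw [← Scheme.Hom.comp_apply, hτ1, Scheme.fromSpecResidueField_apply]
  · rw [← Scheme.Hom.comp_apply, hτ2, Scheme.Hom.comp_apply, Scheme.fromSpecResidueField_apply]
  · exact residueFieldMap_bijective_of_lift (pullback.fst f f) y τ hτ1

theorem fst_snd_apply (f : Y ⟶ X) (z : ↥(pullback f f)) :
    f (pullback.fst f f z) = f (pullback.snd f f z) := by
  rw [← Scheme.Hom.comp_apply, ← Scheme.Hom.comp_apply, pullback.condition]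

open Classical in
theorem mapCoeff_fst_snd (f : Y ⟶ X) (δ : X → ℤ) (δY : Y → ℤ) (δ2 : ↥(pullback f f) → ℤ)
    (hδ : Cyc.DeltaCompat f δY δ) (hδ2 : Cyc.DeltaCompat (pullback.fst f f) δ2 δY)
    (z : ↥(pullback f f)) (hb : Function.Bijective ((pullback.fst f f).residueFieldMap z).hom)
    (hs : Function.Surjective (f.residueFieldMap (pullback.snd f f z)).hom) :
    δ2 z = δY (pullback.fst f f z) ∧ AlgebraicCycle.mapCoeff (pullback.fst f f) δ2 δY z = 1 ∧
      AlgebraicCycle.mapCoeff (pullback.snd f f) δ2 δY z =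
        AlgebraicCycle.mapCoeff f δY δ (pullback.fst f f z) := by
  obtain ⟨h1, h2⟩ := delta_eq_and_residueDegree (pullback.fst f f) δ2 δY hδ2 z hb.2
  obtain ⟨h3, h4⟩ := delta_eq_and_residueDegree f δY δ hδ (pullback.snd f f z) hs
  refine ⟨h1, mapCoeff_eq_one (pullback.fst f f) δ2 δY hδ2 z hb.2, ?_⟩
  have hdeg : (pullback.snd f f).residueDegree z = f.residueDegree (pullback.fst f f z) := by
    have e1 := GenFib.residueDegree_comp (pullback.fst f f) f z
    have e2 := GenFib.residueDegree_comp (pullback.snd f f) f z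
    have e3 : (pullback.fst f f ≫ f).residueDegree z = (pullback.snd f f ≫ f).residueDegree z :=
      congrArg (fun g : pullback f f ⟶ X => g.residueDegree z) (pullback.condition (f := f) (g := f))
    rw [e1, e2, h2, h4, mul_one, one_mul] at e3
    exact e3.symm
  unfold AlgebraicCycle.mapCoeff
  rw [hdeg]
  have hiff : δ2 z = δY (pullback.snd f f z) ↔ δY (pullback.fst f f z) = δ (f (pullback.fst f f z)) := by
    rw [h1, h3, fst_snd_apply]
  by_cases hc : δ2 z = δY (pullback.snd f f z)
  · rw [if_pos hc, if_pos (hiff.1 hc)]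
  · rw [if_neg hc, if_neg (fun h => hc (hiff.2 h))]

end Groth.Agent.Lib.helper2.EnvSeq
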