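import Mathlib
import Groth.Agent.Lib.Helper2.EnvSeq2

/-!
# Envelopes: the cycle on `Y ×_X Y` attached to a cycle on `Y` (helper2)
-/

set_option autoImplicit false
set_option linter.unusedSectionVars false

namespace Groth.Agent.Lib.helper2.EnvSeq

universe u

open CategoryTheory CategoryTheory.Limits AlgebraicGeometry TopologicalSpace Function

variable {X Y : Scheme.{u}} (f : Y ⟶ X)

open Classical in
theorem exists_cycle_gam (Z : Y → ↥(pullback f f)) (b : AlgebraicCycle Y ℤ) :
    ∃ γ : AlgebraicCycle (pullback f f) ℤ,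
      ∀ z, γ z = if z = Z (pullback.fst f f z) then b (pullback.fst f f z) else 0 := by
  let γ : AlgebraicCycle (pullback f f) ℤ :=
    { toFun := fun z => if z = Z (pullback.fst f f z) then b (pullback.fst f f z) else 0
      supportWithinDomain' := by simp
      supportLocallyFiniteWithinDomain' := by
        intro z _
        obtain ⟨t, ht, hfin⟩ := b.supportLocallyFiniteWithinDomain' (pullback.fst f f z) trivial
        refine ⟨pullback.fst f f ⁻¹' t,
          (pullback.fst f f).continuous.continuousAt.preimage_mem_nhds ht, ?_⟩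
        refine (hfin.image Z).subset ?_
        rintro z' ⟨hz't, hz's⟩
        have hz'0 : (if z' = Z (pullback.fst f f z') then b (pullback.fst f f z') else 0) ≠ 0 := hz's
        by_cases he : z' = Z (pullback.fst f f z')
        · rw [if_pos he] at hz'0
          exact ⟨pullback.fst f f z', ⟨hz't, hz'0⟩, he.symm⟩
        · rw [if_neg he] at hz'0
          exact absurd rfl hz'0 }
  exact ⟨γ, fun _ => rfl⟩

variable [IsProper f] (δ : X → ℤ) (δY : Y → ℤ) (δ2 : ↥(pullback f f) → ℤ)
  (hδ : Cyc.DeltaCompat f δY δ) (hδ2 : Cyc.DeltaCompat (pullback.fst f f) δ2 δY)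
  (σ : X → Y) (hσ1 : ∀ x, f (σ x) = x)
  (hσ2 : ∀ x, Function.Surjective (f.residueFieldMap (σ x)).hom)
  (Z : Y → ↥(pullback f f)) (hZ1 : ∀ y, pullback.fst f f (Z y) = y)
  (hZ2 : ∀ y, pullback.snd f f (Z y) = σ (f y))
  (hZ3 : ∀ y, Function.Bijective ((pullback.fst f f).residueFieldMap (Z y)).hom)
  (b : AlgebraicCycle Y ℤ) (γ : AlgebraicCycle (pullback f f) ℤ)

include hδ2 hZ1 hZ3 in
open Classical in
theorem map_fst_gam
    (hγ : ∀ z, γ z = if z = Z (pullback.fst f f z) then b (pullback.fst f f z) else 0) (y : Y) :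
    AlgebraicCycle.map (pullback.fst f f) δ2 δY γ y = b y := by
  show ∑ᶠ z ∈ pullback.fst f f ⁻¹' {y},
    γ z * ((AlgebraicCycle.mapCoeff (pullback.fst f f) δ2 δY z : ℕ) : ℤ) = _
  rw [finsum_mem_def, finsum_eq_single _ (Z y)]
  · have hmem : Z y ∈ pullback.fst f f ⁻¹' {y} := hZ1 y
    rw [Set.indicator_of_mem hmem, hγ, hZ1 y, if_pos rfl,
      mapCoeff_eq_one (pullback.fst f f) δ2 δY hδ2 (Z y) (hZ3 y).2, Nat.cast_one, mul_one]
  · intro z hz
    by_cases hm : z ∈ pullback.fst f f ⁻¹' {y}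
    · rw [Set.indicator_of_mem hm, hγ]
      have hm' : pullback.fst f f z = y := hm
      rw [hm', if_neg hz, zero_mul]
    · rw [Set.indicator_of_notMem hm]

include hδ hδ2 hσ1 hσ2 hZ1 hZ2 hZ3 in
open Classical in
theorem map_snd_gam
    (hγ : ∀ z, γ z = if z = Z (pullback.fst f f z) then b (pullback.fst f f z) else 0) (y' : Y) :
    AlgebraicCycle.map (pullback.snd f f) δ2 δY γ y' =
      if y' = σ (f y') then AlgebraicCycle.map f δY δ b (f y') else 0 := by
  show ∑ᶠ z ∈ pullback.snd f f ⁻¹' {y'},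
    γ z * ((AlgebraicCycle.mapCoeff (pullback.snd f f) δ2 δY z : ℕ) : ℤ) = _
  by_cases hy' : y' = σ (f y')
  · rw [if_pos hy']
    show _ = ∑ᶠ y ∈ f ⁻¹' {f y'}, b y * ((AlgebraicCycle.mapCoeff f δY δ y : ℕ) : ℤ)
    have hinj : Set.InjOn Z (f ⁻¹' {f y'}) := by
      intro y₁ _ y₂ _ h12
      rw [← hZ1 y₁, ← hZ1 y₂, h12]
    have hterm : ∀ y, γ (Z y) * ((AlgebraicCycle.mapCoeff (pullback.snd f f) δ2 δY (Z y) : ℕ) : ℤ) =
        b y * ((AlgebraicCycle.mapCoeff f δY δ y : ℕ) : ℤ) := by
      intro y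
      have hs : Function.Surjective (f.residueFieldMap (pullback.snd f f (Z y))).hom := by
        rw [hZ2 y]
        exact hσ2 (f y)
      rw [(mapCoeff_fst_snd f δ δY δ2 hδ hδ2 (Z y) (hZ3 y) hs).2.2, hγ, hZ1 y, if_pos rfl]
    rw [← finsum_mem_congr rfl (fun y _ => hterm y)]
    refine Eq.trans ?_ (finsum_mem_image
      (f := fun z => γ z * ((AlgebraicCycle.mapCoeff (pullback.snd f f) δ2 δY z : ℕ) : ℤ)) hinj)
    apply finsum_mem_inter_support_eq
    ext z
    simp only [Set.mem_inter_iff, Set.mem_preimage, Set.mem_singleton_iff, Set.mem_image,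
      mem_support]
    constructor
    · rintro ⟨hz1, hz2⟩
      refine ⟨?_, hz2⟩
      have hne : γ z ≠ 0 := left_ne_zero_of_mul hz2
      rw [hγ] at hne
      have hzZ : z = Z (pullback.fst f f z) := by
        by_contra hc
        rw [if_neg hc] at hne
        exact hne rfl
      refine ⟨pullback.fst f f z, ?_, hzZ.symm⟩
      rw [fst_snd_apply, hz1]
    · rintro ⟨⟨y, hy1, rfl⟩, hz2⟩
      refine ⟨?_, hz2⟩
      rw [hZ2 y, hy1]
      exact hy'.symm
  · rw [if_neg hy']
    apply finsum_mem_eq_zero_of_forall_eq_zero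
    intro z hz
    have hz' : pullback.snd f f z = y' := hz
    by_cases hzZ : z = Z (pullback.fst f f z)
    · exfalso
      apply hy'
      have h1 : pullback.snd f f z = σ (f (pullback.fst f f z)) := by
        conv_lhs => rw [hzZ]
        exact hZ2 _
      rw [← hz', fst_snd_apply] at *
      rw [← h1]
    · rw [hγ, if_neg hzZ, zero_mul]

end Groth.Agent.Lib.helper2.EnvSeq
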