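import Groth.Agent.Lib.Helper2.QuotPts

universe u
open CategoryTheory AlgebraicGeometry Opposite Limits

namespace Groth.Agent.Lib.helper2.QuotLib

/-- surjective on points and injective on sections -/
def SurjInj {X Y : Scheme.{u}} (q : X ⟶ Y) : Prop :=
  Function.Surjective q.base ∧ ∀ U : Y.Opens, Function.Injective (q.app U).hom

theorem presheaf_map_map_self {X : Scheme.{u}} {V V' : X.Opens} (k₁ : op V ⟶ op V')
    (k₂ : op V' ⟶ op V) (s : Γ(X, V)) : X.presheaf.map k₂ (X.presheaf.map k₁ s) = s := by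
  have : k₁ ≫ k₂ = 𝟙 _ := Subsingleton.elim _ _
  rw [← ConcreteCategory.comp_apply, ← Functor.map_comp, this, X.presheaf.map_id]
  rfl

theorem SurjInj.eq_of_comp_eq {X Y Z : Scheme.{u}} {q : X ⟶ Y} (hq : SurjInj q) (a b : Y ⟶ Z)
    (e : q ≫ a = q ≫ b) : a = b := by
  have hbase : a.base = b.base := by
    ext y
    obtain ⟨x, rfl⟩ := hq.1 y
    exact congr($(e).base x)
  refine Scheme.Hom.ext hbase (fun W => ?_)
  ext t
  apply hq.2 (b ⁻¹ᵁ W)
  have h1 := Scheme.Hom.congr_app e W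
  have h2 := congr($h1 t)
  have h3 := q.naturality (eqToHom congr((TopologicalSpace.Opens.map $hbase.symm).obj W)).op
  have h4 := congr($h3 (a.app W t))
  simp only [CommRingCat.comp_apply] at h4 ⊢
  refine h4.trans ?_
  have h5 : q.app (a ⁻¹ᵁ W) (a.app W t) = (q ≫ a).app W t := rfl
  rw [h5, h2]
  exact presheaf_map_map_self _ _ _



/-- gluing morphisms along a cover by open subschemes -/
theorem glue_opens {Y Z : Scheme.{u}} {ι : Type u} (U : ι → Y.Opens)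
    (hU : TopologicalSpace.IsOpenCover U) (f : ∀ i, (U i).toScheme ⟶ Z)
    (hf : ∀ i j, Y.homOfLE (inf_le_left : U i ⊓ U j ≤ U i) ≫ f i =
      Y.homOfLE (inf_le_right : U i ⊓ U j ≤ U j) ≫ f j) :
    ∃ g : Y ⟶ Z, ∀ i, (U i).ι ≫ g = f i := by
  let 𝒰 := Y.openCoverOfIsOpenCover U hU
  have key : ∀ (i j : ι), pullback.fst (U i).ι (U j).ι ≫ f i = pullback.snd (U i).ι (U j).ι ≫ f j := by
    intro i j
    have := isPullback_opens_inf (U i) (U j)
    rw [← cancel_epi this.isoPullback.hom]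
    rw [IsPullback.isoPullback_hom_fst_assoc, IsPullback.isoPullback_hom_snd_assoc]
    exact hf i j
  exact ⟨𝒰.glueMorphisms f key, fun i => 𝒰.ι_glueMorphisms f key i⟩



/-- factor a ring hom through an injective ring hom containing its range -/
theorem exists_factor_of_range_le {A B C : Type*} [CommRing A] [CommRing B] [CommRing C]
    (φ : B →+* A) (hφ : Function.Injective φ) (ψ : C →+* A) (h : ∀ c, ψ c ∈ Set.range φ) :
    ∃ ψ' : C →+* B, φ.comp ψ' = ψ := by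
  let e : B ≃+* φ.range := RingEquiv.ofBijective φ.rangeRestrict
    ⟨fun x y hxy => hφ (congrArg Subtype.val hxy), φ.rangeRestrict_surjective⟩
  refine ⟨e.symm.toRingHom.comp (ψ.codRestrict φ.range (fun c => h c)), ?_⟩
  ext c
  have h1 : ∀ x : φ.range, φ (e.symm x) = x.1 := by
    intro x
    have : e (e.symm x) = x := e.apply_symm_apply x
    exact congrArg Subtype.val this
  exact h1 _

theorem appLE_eq_of_eq' {X Z : Scheme.{u}} (f f' : X ⟶ Z) (e : f = f') (W : Z.Opens) (V : X.Opens)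
    (h1 : V ≤ f ⁻¹ᵁ W) (h2 : V ≤ f' ⁻¹ᵁ W) : f.appLE W V h1 = f'.appLE W V h2 := by
  subst e; rfl

variable {X Y : Scheme.{u}} {G : Type u} [Group G] {ρ : G →* Aut X} {p : X ⟶ Y}

theorem restrict_isoSpec [IsAffineHom p] {U : Y.Opens} (hU : IsAffineOpen U) :
    (hU.preimage p).isoSpec.inv ≫ (p ∣_ U) = Spec.map (p.app U) ≫ hU.isoSpec.inv := by
  rw [← cancel_mono U.ι]
  simp only [Category.assoc, morphismRestrict_ι, IsAffineOpen.isoSpec_inv_ι,
    IsAffineOpen.isoSpec_inv_ι_assoc]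
  have := IsAffineOpen.SpecMap_appLE_fromSpec p hU (hU.preimage p) le_rfl
  rw [Scheme.Hom.appLE_eq_app] at this
  exact this.symm

theorem local_factor [Finite G] (hp : SGA1.IsQuot ρ p) {Z : Scheme.{u}} (h : X ⟶ Z)
    (hh : ∀ g, (ρ g).hom ≫ h = h) {U : Y.Opens} (hU : IsAffineOpen U) {W : Z.Opens}
    (hW : IsAffineOpen W) (e : p ⁻¹ᵁ U ≤ h ⁻¹ᵁ W) :
    ∃ a : U.toScheme ⟶ Z, (p ∣_ U) ≫ a = (p ⁻¹ᵁ U).ι ≫ h := by
  haveI := hp.affine
  have hV : IsAffineOpen (p ⁻¹ᵁ U) := hU.preimage p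
  have hmem : ∀ t, (h.appLE W (p ⁻¹ᵁ U) e).hom t ∈ Set.range (p.app U).hom := by
    intro t
    rw [hp.range_iff]
    intro g
    have h1 := Scheme.Hom.appLE_comp_appLE (ρ g).hom h W (p ⁻¹ᵁ U) (p ⁻¹ᵁ U) e
      (SGA1.preimage_le_of_inv ρ p hp.inv g U)
    have h2 := appLE_eq_of_eq' ((ρ g).hom ≫ h) h (hh g) W (p ⁻¹ᵁ U)
      (by rw [hh g]; exact e) e
    rw [h2] at h1
    exact congr($h1 t)
  obtain ⟨ψ', hψ'⟩ := exists_factor_of_range_le (p.app U).hom (hp.injective U)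
    (h.appLE W (p ⁻¹ᵁ U) e).hom hmem
  refine ⟨hU.isoSpec.hom ≫ Spec.map (CommRingCat.ofHom ψ') ≫ hW.fromSpec, ?_⟩
  rw [← cancel_epi hV.isoSpec.inv]
  rw [← Category.assoc, restrict_isoSpec hU]
  simp only [Category.assoc, Iso.inv_hom_id_assoc]
  rw [← Category.assoc, ← Spec.map_comp]
  have h3 : CommRingCat.ofHom ψ' ≫ p.app U = h.appLE W (p ⁻¹ᵁ U) e := by
    ext t
    exact congr($hψ' t)
  rw [h3, IsAffineOpen.SpecMap_appLE_fromSpec h hW hV e]
  rfl


theorem SurjInj.of_isQuot [Finite G] (hp : SGA1.IsQuot ρ p) : SurjInj p :=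
  ⟨surjective_of_isQuot hp, hp.injective⟩

theorem SurjInj.restrict {X Y : Scheme.{u}} {q : X ⟶ Y} (hq : SurjInj q) (U : Y.Opens) :
    SurjInj (q ∣_ U) := by
  constructor
  · rintro ⟨y, hy⟩
    obtain ⟨x, rfl⟩ := hq.1 y
    refine ⟨⟨x, hy⟩, ?_⟩
    apply Subtype.ext
    exact morphismRestrict_base_coe q U ⟨x, hy⟩
  · intro V
    rw [morphismRestrict_app]
    intro s t hst
    apply hq.2 (U.ι ''ᵁ V)
    have : Function.Injective
        (X.presheaf.map (eqToHom (image_morphismRestrict_preimage q U V)).op).hom := by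
      have : IsIso (X.presheaf.map (eqToHom (image_morphismRestrict_preimage q U V)).op) :=
        inferInstance
      exact (ConcreteCategory.bijective_of_isIso _).1
    exact this hst

theorem restrict_homOfLE {X Y : Scheme.{u}} (q : X ⟶ Y) {U U' : Y.Opens} (hle : U' ≤ U) :
    (q ∣_ U') ≫ Y.homOfLE hle =
      X.homOfLE (show q ⁻¹ᵁ U' ≤ q ⁻¹ᵁ U from fun _ hx => hle hx) ≫ (q ∣_ U) := by
  rw [← cancel_mono U.ι]
  simp only [Category.assoc, Scheme.homOfLE_ι, morphismRestrict_ι, Scheme.homOfLE_ι_assoc]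

theorem exists_nhds [Finite G] (hp : SGA1.IsQuot ρ p) {Z : Scheme.{u}} (h : X ⟶ Z)
    (hh : ∀ g, (ρ g).hom ≫ h = h) (y : Y) :
    ∃ (U : Y.Opens) (W : Z.Opens), IsAffineOpen U ∧ IsAffineOpen W ∧ y ∈ U ∧
      p ⁻¹ᵁ U ≤ h ⁻¹ᵁ W := by
  obtain ⟨x, rfl⟩ := surjective_of_isQuot hp y
  obtain ⟨W, hW, hxW⟩ := exists_affine_nhd (h.base x)
  haveI : IsIntegralHom p := Groth.Agent.S13596.result ρ p hp
  have hcl : IsClosed (p.base '' ((h ⁻¹ᵁ W : X.Opens) : Set X)ᶜ) :=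
    p.isClosedMap _ (h ⁻¹ᵁ W).isOpen.isClosed_compl
  have hnot : p.base x ∉ p.base '' ((h ⁻¹ᵁ W : X.Opens) : Set X)ᶜ := by
    rintro ⟨c, hc, hcx⟩
    obtain ⟨g, rfl⟩ := (fibre_iff_of_isQuot hp x c).1 hcx.symm
    apply hc
    show h.base ((ρ g).hom.base x) ∈ W
    have := hh g
    have h2 : h.base ((ρ g).hom.base x) = h.base x := congr($(this).base x)
    rw [h2]; exact hxW
  obtain ⟨_, ⟨U, hU, rfl⟩, hyU, hUsub⟩ :=
    Y.isBasis_affineOpens.exists_subset_of_mem_open hnot hcl.isOpen_compl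
  refine ⟨U, W, hU, hW, hyU, ?_⟩
  intro x' hx'
  by_contra hcon
  exact hUsub hx' ⟨x', hcon, rfl⟩

theorem exists_factor [Finite G] (hp : SGA1.IsQuot ρ p) {Z : Scheme.{u}} (h : X ⟶ Z)
    (hh : ∀ g, (ρ g).hom ≫ h = h) : ∃ h' : Y ⟶ Z, p ≫ h' = h := by
  choose U W hU hW hyU hUW using exists_nhds hp h hh
  have hcov : TopologicalSpace.IsOpenCover U := by
    apply TopologicalSpace.IsOpenCover.mk
    rw [eq_top_iff]
    intro y _
    exact TopologicalSpace.Opens.mem_iSup.2 ⟨y, hyU y⟩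
  choose a ha using fun y => local_factor hp h hh (hU y) (hW y) (hUW y)
  obtain ⟨g, hg⟩ := glue_opens U hcov a (fun y y' => by
    apply ((SurjInj.of_isQuot hp).restrict (U y ⊓ U y')).eq_of_comp_eq
    rw [← Category.assoc, ← Category.assoc, restrict_homOfLE, restrict_homOfLE,
      Category.assoc, Category.assoc, ha, ha, Scheme.homOfLE_ι_assoc, Scheme.homOfLE_ι_assoc])
  refine ⟨g, ?_⟩
  have hcovX : TopologicalSpace.IsOpenCover (fun y => p ⁻¹ᵁ (U y)) := by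
    apply TopologicalSpace.IsOpenCover.mk
    rw [eq_top_iff]
    intro x _
    exact TopologicalSpace.Opens.mem_iSup.2 ⟨p.base x, hyU (p.base x)⟩
  apply (X.openCoverOfIsOpenCover _ hcovX).hom_ext
  intro y
  show (p ⁻¹ᵁ (U y)).ι ≫ p ≫ g = (p ⁻¹ᵁ (U y)).ι ≫ h
  rw [← ha y, ← hg y, ← Category.assoc, ← morphismRestrict_ι, Category.assoc]

theorem existsUnique_factor [Finite G] (hp : SGA1.IsQuot ρ p) (Z : Scheme.{u}) (h : X ⟶ Z)
    (hh : ∀ g, (ρ g).hom ≫ h = h) : ∃! h' : Y ⟶ Z, p ≫ h' = h := by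
  obtain ⟨h', hh'⟩ := exists_factor hp h hh
  refine ⟨h', hh', fun b hb => ?_⟩
  exact (SurjInj.of_isQuot hp).eq_of_comp_eq b h' (hb.trans hh'.symm)

end Groth.Agent.Lib.helper2.QuotLib
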