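import Groth.Agent.Lib.Helper2.EtaPtLib
import Mathlib.RingTheory.Valuation.LocalSubring
import Mathlib.RingTheory.Ideal.MinimalPrime.Basic
import Mathlib.RingTheory.Polynomial.Basic

/-! Core lemmas (helper2) for the `EtaPt` family: `η` is bijective at `F K`; zero sets of elements
of `M A` are stable under specialization; components of elements of `M A` are integral. -/

set_option autoImplicit false
universe u

namespace Groth.Agent.Lib.helper2.EtaPtLib

open EtaPt

variable (η : EtaPt.FieldEndo.{u})

/-- `η_{F K} = F(η_K)`. -/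
theorem eta_obj_eq (K : Type u) [Field K] : η.eta (η.obj K) = η.map (η.eta K) := by
  apply RingHom.ext
  intro x
  obtain ⟨n, c, hc⟩ := η.exists_pow_mem_range_eta K x
  apply pow_expChar_pow_inj η (η.eta K) n
  rw [← map_pow, ← map_pow, ← hc, eta_natural_apply]

theorem eta_obj_bijective (K : Type u) [Field K] : Function.Bijective (η.eta (η.obj K)) := by
  rw [eta_obj_eq]
  exact η.bijective_map_eta K

/-- The canonical map `A → F(k(p))`. -/
noncomputable def jmap (A : Type u) [CommRing A] (p : PrimeSpectrum A) :
    A →+* η.obj p.asIdeal.ResidueField :=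
  (η.eta p.asIdeal.ResidueField).comp (algebraMap A p.asIdeal.ResidueField)

theorem jmap_apply (A : Type u) [CommRing A] (p : PrimeSpectrum A) (a : A) :
    jmap η A p a = η.t A a p := rfl

theorem jmap_eq_zero_iff (A : Type u) [CommRing A] (p : PrimeSpectrum A) (a : A) :
    jmap η A p a = 0 ↔ a ∈ p.asIdeal := by
  show η.eta _ (algebraMap A p.asIdeal.ResidueField a) = 0 ↔ _
  rw [map_eq_zero, Ideal.algebraMap_residueField_eq_zero]

/-- The projection `M A → F(k(p))`. -/
noncomputable def proj (A : Type u) [CommRing A] (p : PrimeSpectrum A) :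
    η.M A →+* η.obj p.asIdeal.ResidueField :=
  (Pi.evalRingHom (fun p : PrimeSpectrum A => η.obj p.asIdeal.ResidueField) p).comp
    (η.M A).subtype

theorem proj_apply (A : Type u) [CommRing A] (p : PrimeSpectrum A) (x : η.M A) :
    proj η A p x = (x : η.N A) p := rfl

theorem proj_q (A : Type u) [CommRing A] (p : PrimeSpectrum A) (a : A) :
    proj η A p (η.q A a) = jmap η A p a := rfl

/-- Reading off a component from `t V r = Nmap g x`. -/
theorem Nmap_eq_t_apply {A V : Type u} [CommRing A] [CommRing V] (g : A →+* V) (x : η.N A)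
    (r : V) (hr : η.t V r = η.Nmap g x) (m : PrimeSpectrum V) (P : PrimeSpectrum A)
    (hP : P.asIdeal = m.asIdeal.comap g) :
    η.map (Ideal.ResidueField.map P.asIdeal m.asIdeal g hP) (x P) =
      η.eta _ (algebraMap V m.asIdeal.ResidueField r) := by
  have := congrFun hr m
  rw [Nmap_apply η g x m P hP, t_apply] at this
  exact this.symm

theorem component_eq_zero_iff {A V : Type u} [CommRing A] [CommRing V] (g : A →+* V) (x : η.N A)
    (r : V) (hr : η.t V r = η.Nmap g x) (m : PrimeSpectrum V) (P : PrimeSpectrum A)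
    (hP : P.asIdeal = m.asIdeal.comap g) : x P = 0 ↔ r ∈ m.asIdeal := by
  have h := Nmap_eq_t_apply η g x r hr m P hP
  constructor
  · intro h0
    rw [h0, map_zero] at h
    have := (map_eq_zero (η.eta m.asIdeal.ResidueField)).1 h.symm
    exact Ideal.algebraMap_residueField_eq_zero.1 this
  · intro hm
    rw [Ideal.algebraMap_residueField_eq_zero.2 hm, map_zero] at h
    exact (map_eq_zero _).1 h

/-- Generic point computation: for a valuation subring `V` of `F(k(p))` receiving `A` compatibly,
the witness `r` of `x ∈ M A` is the `p`-component of `x`. -/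
theorem generic_eq {A : Type u} [CommRing A] (p : PrimeSpectrum A)
    (V : ValuationSubring (η.obj p.asIdeal.ResidueField)) (g : A →+* V)
    (hg : ∀ a, ((g a : V) : η.obj p.asIdeal.ResidueField) = jmap η A p a)
    (x : η.N A) (r : V) (hr : η.t V r = η.Nmap g x) :
    ((r : V) : η.obj p.asIdeal.ResidueField) = x p := by
  let q0 : PrimeSpectrum V := ⟨⊥, Ideal.isPrime_bot⟩
  have hker : p.asIdeal = q0.asIdeal.comap g := by
    show p.asIdeal = Ideal.comap g ⊥
    rw [← RingHom.ker_eq_comap_bot]
    ext a
    rw [RingHom.mem_ker, ← jmap_eq_zero_iff η, ← hg]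
    constructor
    · intro h
      exact Subtype.ext h
    · intro h
      rw [h]
      rfl
  have e1 := Nmap_eq_t_apply η g x r hr q0 p hker
  let ψ : (⊥ : Ideal V).ResidueField ≃ₐ[V] η.obj p.asIdeal.ResidueField :=
    IsLocalization.algEquiv (nonZeroDivisors V) _ _
  let ψr : (⊥ : Ideal V).ResidueField →+* η.obj p.asIdeal.ResidueField := ψ.toRingEquiv.toRingHom
  have hψr : ∀ v : V, ψr (algebraMap V _ v) = (v : η.obj p.asIdeal.ResidueField) :=
    fun v => ψ.commutes v
  have hcomp : ψr.comp (Ideal.ResidueField.map p.asIdeal q0.asIdeal g hker) =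
      η.eta p.asIdeal.ResidueField := by
    apply Ideal.ResidueField.ringHom_ext
    ext a
    simp only [RingHom.comp_apply]
    rw [Ideal.ResidueField.map_algebraMap, hψr]
    exact hg a
  have e2 := congrArg (η.map ψr) e1
  rw [eta_natural_apply, ← RingHom.comp_apply (η.map ψr), ← η.map_comp, hcomp, hψr,
    ← eta_obj_eq] at e2
  exact ((η.eta _).injective e2).symm

/-- Zero sets of elements of `M A` are stable under specialization. -/
theorem eq_zero_of_le {A : Type u} [CommRing A] {x : η.N A} (hx : x ∈ η.M A)
    (p p' : PrimeSpectrum A) (hle : p.asIdeal ≤ p'.asIdeal) (h0 : x p = 0) : x p' = 0 := by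
  classical
  have hunit : ∀ y : p'.asIdeal.primeCompl, IsUnit (jmap η A p y) := by
    intro y
    apply IsUnit.mk0
    intro h
    exact y.2 (hle ((jmap_eq_zero_iff η A p y).1 h))
  let f : Localization.AtPrime p'.asIdeal →+* η.obj p.asIdeal.ResidueField :=
    IsLocalization.lift (M := p'.asIdeal.primeCompl) hunit
  have hf : ∀ a, f (algebraMap A (Localization.AtPrime p'.asIdeal) a) = jmap η A p a :=
    IsLocalization.lift_eq _
  obtain ⟨V, hV, hloc⟩ := IsLocalRing.exists_factor_valuationRing f
  let g : A →+* V := (f.codRestrict V.toSubring hV).comp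
    (algebraMap A (Localization.AtPrime p'.asIdeal))
  have hg : ∀ a, ((g a : V) : η.obj p.asIdeal.ResidueField) = jmap η A p a := fun a => hf a
  have hVin : η.InV V :=
    InV_of_eta_bijective η (η.obj p.asIdeal.ResidueField) (eta_obj_bijective η _)
  obtain ⟨r, hr⟩ := hx V hVin g
  have hr0 : r = 0 := by
    apply Subtype.ext
    rw [generic_eq η p V g hg x r hr, h0]
    rfl
  let m : PrimeSpectrum V := ⟨IsLocalRing.maximalIdeal V, inferInstance⟩
  have hm : p'.asIdeal = m.asIdeal.comap g := by
    show p'.asIdeal = Ideal.comap ((f.codRestrict V.toSubring hV).comp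
      (algebraMap A (Localization.AtPrime p'.asIdeal))) (IsLocalRing.maximalIdeal V)
    rw [← Ideal.comap_comap, IsLocalRing.maximalIdeal_comap]
    exact (Localization.AtPrime.under_maximalIdeal).symm
  rw [component_eq_zero_iff η g x r hr m p' hm, hr0]
  exact Ideal.zero_mem _

/-- Components of elements of `M A` are integral over `A`. -/
theorem isIntegralElem_jmap {A : Type u} [CommRing A] {x : η.N A} (hx : x ∈ η.M A)
    (p : PrimeSpectrum A) : (jmap η A p).IsIntegralElem (x p) := by
  classical
  have hmem : x p ∈ (⨅ V : {V : ValuationSubring (η.obj p.asIdeal.ResidueField) //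
      Set.range (jmap η A p) ⊆ V.toSubring}, V.1.toSubring) := by
    rw [Subring.mem_iInf]
    rintro ⟨V, hV⟩
    let g : A →+* V := (jmap η A p).codRestrict V.toSubring (fun a => hV ⟨a, rfl⟩)
    have hVin : η.InV V :=
      InV_of_eta_bijective η (η.obj p.asIdeal.ResidueField) (eta_obj_bijective η _)
    obtain ⟨r, hr⟩ := hx V hVin g
    have := generic_eq η p V g (fun a => rfl) x r hr
    show x p ∈ V
    rw [← this]
    exact r.2
  rw [iInf_valuationSubring_superset] at hmem
  have hint : IsIntegral (Subring.closure (Set.range (jmap η A p))) (x p) := hmem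
  obtain ⟨P, hPm, hPx⟩ := hint
  let s : A →+* Subring.closure (Set.range (jmap η A p)) :=
    (jmap η A p).codRestrict _ (fun a => Subring.subset_closure ⟨a, rfl⟩)
  have hs : Function.Surjective s := by
    rintro ⟨y, hy⟩
    have hcl : Subring.closure (Set.range (jmap η A p)) = (jmap η A p).range := by
      rw [← RingHom.coe_range, Subring.closure_eq]
    rw [hcl] at hy
    obtain ⟨a, rfl⟩ := hy
    exact ⟨a, rfl⟩
  have hlift : P ∈ Polynomial.lifts s := by
    rw [Polynomial.mem_lifts]
    exact Polynomial.map_surjective _ hs P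
  obtain ⟨Q, hQ, -, hQm⟩ := Polynomial.lifts_and_degree_eq_and_monic hlift hPm
  refine ⟨Q, hQm, ?_⟩
  rw [← hQ, Polynomial.eval₂_map] at hPx
  exact hPx

end Groth.Agent.Lib.helper2.EtaPtLib
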