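import Groth.Prelude.Def_W4c1chowmix47Eta
import Mathlib.Algebra.CharP.Algebra
import Mathlib.Algebra.CharP.Reduced
import Mathlib.RingTheory.IntegralClosure.IntegrallyClosed
import Mathlib.Algebra.GCDMonoid.IntegrallyClosed
import Mathlib.RingTheory.Bezout

/-! Helper lemmas (helper2) for the `EtaPt` family (`Def_W4c1chowmix47Eta`). -/

set_option autoImplicit false
universe u

namespace Groth.Agent.Lib.helper2.EtaPtLib

open EtaPt

variable (η : EtaPt.FieldEndo.{u})

/-- `F` of an isomorphism of fields is bijective. -/
theorem map_equiv_bijective {K L : Type u} [Field K] [Field L] (e : K ≃+* L) :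
    Function.Bijective (η.map (e : K →+* L)) := by
  have h1 : (η.map (e.symm : L →+* K)).comp (η.map (e : K →+* L)) = RingHom.id _ := by
    rw [← η.map_comp, ← η.map_id]; congr 1; ext x; simp
  have h2 : (η.map (e : K →+* L)).comp (η.map (e.symm : L →+* K)) = RingHom.id _ := by
    rw [← η.map_comp, ← η.map_id]; congr 1; ext x; simp
  refine ⟨fun a b hab => ?_, fun b => ⟨η.map (e.symm : L →+* K) b, ?_⟩⟩
  · have := congrArg (η.map (e.symm : L →+* K)) hab
    rw [← RingHom.comp_apply, ← RingHom.comp_apply, h1] at this
    exact this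
  · rw [← RingHom.comp_apply, h2]; rfl

/-- bijectivity of `η` transports along field isomorphisms. -/
theorem eta_bijective_of_equiv {K L : Type u} [Field K] [Field L] (e : K ≃+* L)
    (h : Function.Bijective (η.eta K)) : Function.Bijective (η.eta L) := by
  have hnat := η.eta_natural (e : K →+* L)
  have : (η.eta L : L → η.obj L) = (η.map (e : K →+* L)) ∘ (η.eta K) ∘ e.symm := by
    funext x
    have := congrArg (fun f => f (e.symm x)) hnat
    simp only [RingHom.comp_apply, RingHom.coe_coe, RingEquiv.apply_symm_apply] at this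
    simp only [Function.comp_apply, this]
  rw [this]
  exact (map_equiv_bijective η e).comp (h.comp e.symm.bijective)

/-- `InV R` gives bijectivity of `η` at any fraction field of `R`. -/
theorem eta_bijective_of_InV {R : Type u} [CommRing R] [IsDomain R] (hR : η.InV R)
    (L : Type u) [Field L] [Algebra R L] [IsFractionRing R L] :
    Function.Bijective (η.eta L) :=
  eta_bijective_of_equiv η (FractionRing.algEquiv R L).toRingEquiv hR

/-- conversely. -/
theorem InV_of_eta_bijective {R : Type u} [CommRing R] [IsDomain R]
    (L : Type u) [Field L] [Algebra R L] [IsFractionRing R L]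
    (h : Function.Bijective (η.eta L)) : η.InV R :=
  eta_bijective_of_equiv η (FractionRing.algEquiv R L).toRingEquiv.symm h

/-- The component of `Nmap f x` at `q`, computed with any name `p` for the prime `f⁻¹ q`. -/
theorem Nmap_apply {A B : Type u} [CommRing A] [CommRing B] (f : A →+* B) (x : η.N A)
    (q : PrimeSpectrum B) (p : PrimeSpectrum A) (h : p.asIdeal = q.asIdeal.comap f) :
    η.Nmap f x q = η.map (Ideal.ResidueField.map p.asIdeal q.asIdeal f h) (x p) := by
  have hp : p = PrimeSpectrum.comap f q := PrimeSpectrum.ext h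
  subst hp
  rfl

theorem t_apply (A : Type u) [CommRing A] (a : A) (p : PrimeSpectrum A) :
    η.t A a p = η.eta p.asIdeal.ResidueField (algebraMap A p.asIdeal.ResidueField a) := rfl

/-- `e^n`-th roots are unique in `F L` when `e` is the exponential characteristic of a subfield. -/
theorem pow_expChar_pow_inj {K L : Type u} [Field K] [Field L] (f : K →+* L) (n : ℕ)
    {x y : η.obj L} (h : x ^ ringExpChar K ^ n = y ^ ringExpChar K ^ n) : x = y := by
  have : ExpChar (η.obj L) (ringExpChar K) :=
    expChar_of_injective_ringHom ((η.eta L).comp f).injective (ringExpChar K)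
  apply iterateFrobenius_inj (η.obj L) (ringExpChar K) n
  simpa only [iterateFrobenius_def] using h

theorem ringExpChar_pow_pos (K : Type u) [Field K] (n : ℕ) : 0 < ringExpChar K ^ n :=
  Nat.pow_pos (lt_of_lt_of_le Nat.zero_lt_one (le_max_right _ _))

theorem residueField_map_comp {A B C : Type u} [CommRing A] [CommRing B] [CommRing C]
    (f : A →+* B) (g : B →+* C) (I : Ideal A) [I.IsPrime] (J : Ideal B) [J.IsPrime]
    (K : Ideal C) [K.IsPrime] (h1 : I = J.comap f) (h2 : J = K.comap g)
    (h3 : I = K.comap (g.comp f)) :
    Ideal.ResidueField.map I K (g.comp f) h3 =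
      (Ideal.ResidueField.map J K g h2).comp (Ideal.ResidueField.map I J f h1) := by
  apply Ideal.ResidueField.ringHom_ext
  ext a
  simp only [RingHom.comp_apply, Ideal.ResidueField.map_algebraMap]

/-- Functoriality of `Nmap`. -/
theorem Nmap_comp {A B C : Type u} [CommRing A] [CommRing B] [CommRing C]
    (f : A →+* B) (g : B →+* C) (x : η.N A) :
    η.Nmap (g.comp f) x = η.Nmap g (η.Nmap f x) := by
  funext q
  have h3 : (PrimeSpectrum.comap f (PrimeSpectrum.comap g q)).asIdeal =
      q.asIdeal.comap (g.comp f) := by
    ext a; rfl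
  rw [Nmap_apply η (g.comp f) x q (PrimeSpectrum.comap f (PrimeSpectrum.comap g q)) h3,
    Nmap_apply η g _ q (PrimeSpectrum.comap g q) rfl,
    Nmap_apply η f x _ (PrimeSpectrum.comap f (PrimeSpectrum.comap g q)) rfl,
    residueField_map_comp f g (PrimeSpectrum.comap f (PrimeSpectrum.comap g q)).asIdeal
      (PrimeSpectrum.comap g q).asIdeal q.asIdeal rfl rfl h3, η.map_comp]
  rfl

/-- `Nmap f` carries `M A` into `M B`. -/
theorem Nmap_mem_M {A B : Type u} [CommRing A] [CommRing B] (f : A →+* B) {x : η.N A}
    (hx : x ∈ η.M A) : η.Nmap f x ∈ η.M B := by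
  intro R _ _ _ hR g
  rw [← Nmap_comp]
  exact hx R hR (g.comp f)

/-- `F` of a bijective field hom is bijective. -/
theorem map_bijective_of_bijective {K L : Type u} [Field K] [Field L] (f : K →+* L)
    (hf : Function.Bijective f) : Function.Bijective (η.map f) :=
  map_equiv_bijective η (RingEquiv.ofBijective f hf)

theorem eta_natural_apply {K L : Type u} [Field K] [Field L] (f : K →+* L) (x : K) :
    η.map f (η.eta K x) = η.eta L (f x) := by
  have := congrArg (fun h => h x) (η.eta_natural f)
  simpa only [RingHom.comp_apply] using this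

end Groth.Agent.Lib.helper2.EtaPtLib
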