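import Groth.Agent.Lib.Helper2.EtaPtRel
import Groth.Agent.S13802
import Groth.Agent.Lib.Helper2.EtaPtCore
import Mathlib.RingTheory.Ideal.MinimalPrime.Localization
import Mathlib.RingTheory.Localization.Integral
import Mathlib.RingTheory.SurjectiveOnStalks
import Mathlib.RingTheory.Spectrum.Prime.Topology

set_option autoImplicit false
universe u

/-! Localization `A → A_f` and `M_η` (helper2). -/

namespace Groth.Agent.Lib.helper2.EtaPtLib

open EtaPt

variable (η : EtaPt.FieldEndo.{u})

theorem finite_minimalPrimes_away {A : Type u} [CommRing A] (hA : (minimalPrimes A).Finite) (f : A) :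
    (minimalPrimes (Localization.Away f)).Finite := by
  have h1 := IsLocalization.minimalPrimes_map (Submonoid.powers f) (Localization.Away f)
    (⊥ : Ideal A)
  rw [Ideal.map_bot] at h1
  show ((⊥ : Ideal (Localization.Away f)).minimalPrimes).Finite
  rw [h1]
  apply Set.Finite.preimage _ hA
  intro I hI J hJ hIJ
  have hI' : I.IsPrime := by
    have : I ∈ (⊥ : Ideal (Localization.Away f)).minimalPrimes := by rw [h1]; exact hI
    exact this.1.1
  have hJ' : J.IsPrime := by
    have : J ∈ (⊥ : Ideal (Localization.Away f)).minimalPrimes := by rw [h1]; exact hJ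
    exact this.1.1
  rw [← IsLocalization.map_under (Submonoid.powers f) (Localization.Away f) I,
    ← IsLocalization.map_under (Submonoid.powers f) (Localization.Away f) J]
  exact congrArg _ hIJ

theorem isDomain_away {R : Type u} [CommRing R] [IsDomain R] (s : R) (hs : s ≠ 0) :
    IsDomain (Localization.Away s) := by
  apply IsLocalization.isDomain_localization (M := Submonoid.powers s)
  apply le_nonZeroDivisors_of_noZeroDivisors
  rintro ⟨n, hn⟩
  exact hs (eq_zero_of_pow_eq_zero hn)

theorem valuationRing_away {R : Type u} [CommRing R] [IsDomain R] [ValuationRing R] (s : R)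
    [IsDomain (Localization.Away s)] : ValuationRing (Localization.Away s) := by
  rw [ValuationRing.iff_dvd_total]
  constructor
  intro a b
  obtain ⟨⟨a', ⟨_, n, rfl⟩⟩, ha⟩ := IsLocalization.surj (Submonoid.powers s) a
  obtain ⟨⟨b', ⟨_, m, rfl⟩⟩, hb⟩ := IsLocalization.surj (Submonoid.powers s) b
  simp only at ha hb
  have hu : ∀ k : ℕ, IsUnit (algebraMap R (Localization.Away s) (s ^ k)) := fun k =>
    IsLocalization.map_units (Localization.Away s) (⟨s ^ k, k, rfl⟩ : Submonoid.powers s)
  have ha' : Associated a (algebraMap R _ a') := by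
    obtain ⟨u, hu'⟩ := hu n
    exact ⟨u, by rw [hu', ha]⟩
  have hb' : Associated b (algebraMap R _ b') := by
    obtain ⟨u, hu'⟩ := hu m
    exact ⟨u, by rw [hu', hb]⟩
  rcases ValuationRing.dvd_total a' b' with h | h
  · left
    exact (ha'.dvd_iff_dvd_left.2 ((hb'.dvd_iff_dvd_right).2 (map_dvd _ h)))
  · right
    exact (hb'.dvd_iff_dvd_left.2 ((ha'.dvd_iff_dvd_right).2 (map_dvd _ h)))

theorem isFractionRing_away {R : Type u} [CommRing R] [IsDomain R] (s : R)
    [IsDomain (Localization.Away s)] (hs : s ≠ 0) :
    IsFractionRing R (FractionRing (Localization.Away s)) := by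
  have hle : Submonoid.powers s ≤ nonZeroDivisors R := by
    apply le_nonZeroDivisors_of_noZeroDivisors
    rintro ⟨n, hn⟩
    exact hs (eq_zero_of_pow_eq_zero hn)
  have hinj : Function.Injective (algebraMap R (Localization.Away s)) :=
    IsLocalization.injective _ hle
  · have h1 := IsLocalization.localization_localization_isLocalization_of_has_all_units
      (Submonoid.powers s) (nonZeroDivisors (Localization.Away s))
      (FractionRing (Localization.Away s)) (fun x hx => hx.mem_nonZeroDivisors)
    have h2 : (nonZeroDivisors (Localization.Away s)).comap (algebraMap R (Localization.Away s)) =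
        nonZeroDivisors R := by
      ext x
      rw [Submonoid.mem_comap, mem_nonZeroDivisors_iff_ne_zero, mem_nonZeroDivisors_iff_ne_zero]
      exact (map_ne_zero_iff _ hinj)
    rw [h2] at h1
    exact h1

theorem InV_away {R : Type u} [CommRing R] [IsDomain R] (hR : η.InV R) (s : R)
    [IsDomain (Localization.Away s)] (hs : s ≠ 0) : η.InV (Localization.Away s) := by
  haveI := isFractionRing_away s hs
  exact eta_bijective_of_InV η hR (FractionRing (Localization.Away s))

/-- residue field maps of a localization are bijective after `F`. -/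
theorem map_residue_bijective_away {A : Type u} [CommRing A] (f : A)
    (p : PrimeSpectrum A) (Q : PrimeSpectrum (Localization.Away f))
    (h : p.asIdeal = Q.asIdeal.comap (algebraMap A (Localization.Away f))) :
    Function.Bijective (η.map (Ideal.ResidueField.map p.asIdeal Q.asIdeal
      (algebraMap A (Localization.Away f)) h)) := by
  apply map_bijective_of_bijective
  exact (RingHom.surjectiveOnStalks_of_isLocalization (Submonoid.powers f)
    (Localization.Away f)).residueFieldMap_bijective p.asIdeal Q.asIdeal h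

/-- primes of `A` not containing `f` come from `A_f`. -/
theorem exists_prime_away {A : Type u} [CommRing A] (f : A) (p : PrimeSpectrum A)
    (hf : f ∉ p.asIdeal) : ∃ Q : PrimeSpectrum (Localization.Away f),
      p.asIdeal = Q.asIdeal.comap (algebraMap A (Localization.Away f)) := by
  have : p ∈ Set.range (PrimeSpectrum.comap (algebraMap A (Localization.Away f))) := by
    rw [PrimeSpectrum.localization_away_comap_range (Localization.Away f) f]
    exact hf
  obtain ⟨Q, hQ⟩ := this
  exact ⟨Q, by rw [← hQ]; rfl⟩

theorem prime_away_unique {A : Type u} [CommRing A] (f : A) (p : PrimeSpectrum A)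
    (Q Q' : PrimeSpectrum (Localization.Away f))
    (h : p.asIdeal = Q.asIdeal.comap (algebraMap A (Localization.Away f)))
    (h' : p.asIdeal = Q'.asIdeal.comap (algebraMap A (Localization.Away f))) : Q = Q' := by
  apply PrimeSpectrum.localization_comap_injective (Localization.Away f) (Submonoid.powers f)
  apply PrimeSpectrum.ext
  show Q.asIdeal.comap _ = Q'.asIdeal.comap _
  rw [← h, ← h']

theorem not_mem_of_away {A : Type u} [CommRing A] (f : A)
    (Q : PrimeSpectrum (Localization.Away f)) :
    f ∉ (PrimeSpectrum.comap (algebraMap A (Localization.Away f)) Q).asIdeal := by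
  intro hf
  have h1 : algebraMap A (Localization.Away f) f ∈ Q.asIdeal := hf
  have h2 : IsUnit (algebraMap A (Localization.Away f) f) :=
    IsLocalization.Away.algebraMap_isUnit f
  exact Q.isPrime.ne_top (Ideal.eq_top_of_isUnit_mem _ h1 h2)

/-- Extend an element of `N(A_f)` by zero to `N(A)`. -/
theorem exists_lift_away {A : Type u} [CommRing A] (f : A) (y : η.N (Localization.Away f)) :
    ∃ x₀ : η.N A, η.Nmap (algebraMap A (Localization.Away f)) x₀ = y ∧
      ∀ p : PrimeSpectrum A, f ∈ p.asIdeal → x₀ p = 0 := by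
  classical
  have key : ∀ p : PrimeSpectrum A, f ∉ p.asIdeal → ∃ z : η.obj p.asIdeal.ResidueField,
      ∀ (Q : PrimeSpectrum (Localization.Away f))
        (h : p.asIdeal = Q.asIdeal.comap (algebraMap A (Localization.Away f))),
        η.map (Ideal.ResidueField.map p.asIdeal Q.asIdeal
          (algebraMap A (Localization.Away f)) h) z = y Q := by
    intro p hp
    obtain ⟨Q₀, h₀⟩ := exists_prime_away f p hp
    obtain ⟨z, hz⟩ := (map_residue_bijective_away η f p Q₀ h₀).2 (y Q₀)
    refine ⟨z, fun Q h => ?_⟩
    obtain rfl := prime_away_unique f p Q₀ Q h₀ h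
    exact hz
  refine ⟨fun p => if hp : f ∈ p.asIdeal then 0 else Classical.choose (key p hp), ?_, ?_⟩
  · funext Q
    rw [Nmap_apply η _ _ Q (PrimeSpectrum.comap (algebraMap A (Localization.Away f)) Q) rfl]
    have hnot := not_mem_of_away f Q
    simp only [dif_neg hnot]
    exact Classical.choose_spec (key _ hnot) Q rfl
  · intro p hp
    simp only [dif_pos hp]

/-- Elements of a valuation ring localization integral over the valuation ring come from it. -/
theorem exists_of_isIntegral_away {R : Type u} [CommRing R] [IsDomain R] [ValuationRing R] (s : R)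
    [IsDomain (Localization.Away s)] (hs : s ≠ 0) (w : Localization.Away s)
    (hw : IsIntegral R w) : ∃ r : R, algebraMap R (Localization.Away s) r = w := by
  haveI := isFractionRing_away s hs
  have h1 : IsIntegral R (algebraMap (Localization.Away s) (FractionRing (Localization.Away s)) w) :=
    hw.algebraMap
  obtain ⟨r, hr⟩ := IsIntegrallyClosed.isIntegral_iff.1 h1
  refine ⟨r, ?_⟩
  apply IsFractionRing.injective (Localization.Away s) (FractionRing (Localization.Away s))
  rw [← hr, ← IsScalarTower.algebraMap_apply]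

theorem awayMap_comp {A R : Type u} [CommRing A] [CommRing R] (g : A →+* R) (f : A) :
    (Localization.awayMap g f).comp (algebraMap A (Localization.Away f)) =
      (algebraMap R (Localization.Away (g f))).comp g :=
  IsLocalization.map_comp _

set_option maxHeartbeats 1000000 in
theorem exists_mul_pow_mem_M {A : Type u} [CommRing A] (hA : (minimalPrimes A).Finite) (f : A)
    (y : η.N (Localization.Away f)) (hy : y ∈ η.M (Localization.Away f)) :
    ∃ x ∈ η.M A, ∃ n : ℕ,
      y * η.t (Localization.Away f) (algebraMap A (Localization.Away f) f) ^ n =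
        η.Nmap (algebraMap A (Localization.Away f)) x := by
  classical
  set Af := Localization.Away f with hAf
  set ℓ : A →+* Af := algebraMap A Af with hℓ
  obtain ⟨x₀, hx₀y, hx₀0⟩ := exists_lift_away η f y
  -- integrality of `y` over `A_f`, then clear denominators
  obtain ⟨P, hPm, hP⟩ := Groth.Agent.S13802.result η Af (finite_minimalPrimes_away hA f) ⟨y, hy⟩
  letI : Algebra Af (η.N Af) := (η.t Af).toAlgebra
  letI : Algebra A (η.N Af) := ((η.t Af).comp ℓ).toAlgebra
  haveI : IsScalarTower A Af (η.N Af) := IsScalarTower.of_algebraMap_eq (fun _ => rfl)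
  have hyint : IsIntegral Af y := by
    refine ⟨P, hPm, ?_⟩
    have h1 := congrArg (η.M Af).subtype hP
    rw [Polynomial.hom_eval₂, map_zero] at h1
    exact h1
  obtain ⟨⟨_, ⟨k, rfl⟩⟩, P', hP'm, hP'⟩ :=
    IsIntegral.exists_multiple_integral_of_isLocalization (Submonoid.powers f) y hyint
  have hsmul : ((⟨f ^ k, ⟨k, rfl⟩⟩ : Submonoid.powers f) • y : η.N Af) =
      η.t Af (ℓ (f ^ k)) * y := by
    rw [Submonoid.smul_def, Algebra.smul_def]
    rfl
  rw [hsmul] at hP'
  have hP'' : Polynomial.eval₂ ((η.t Af).comp ℓ) (η.t Af (ℓ (f ^ k)) * y) P' = 0 := hP'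
  refine ⟨x₀ * η.t A f ^ (k + 1), ?_, k + 1, ?_⟩
  swap
  · rw [map_mul, map_pow, hx₀y, η.Nmap_t_apply]
  intro R _ _ _ hR g
  by_cases hs : g f = 0
  · refine ⟨0, ?_⟩
    rw [map_zero]
    symm
    funext 𝔭
    rw [Nmap_apply η g _ 𝔭 (PrimeSpectrum.comap g 𝔭) rfl]
    have hmem : f ∈ (PrimeSpectrum.comap g 𝔭).asIdeal := by
      show g f ∈ 𝔭.asIdeal
      rw [hs]
      exact zero_mem _
    rw [Pi.mul_apply, hx₀0 _ hmem, zero_mul, map_zero]
    rfl
  · set s := g f with hsdef
    haveI := isDomain_away s hs
    haveI := valuationRing_away s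
    have hR' := InV_away η hR s hs
    set R' := Localization.Away s with hR'def
    set j : R →+* R' := algebraMap R R' with hj
    set g' : Af →+* R' := Localization.awayMap g f with hg'
    have hcomm : g'.comp ℓ = j.comp g := awayMap_comp g f
    have hcomm' : ∀ a, g' (ℓ a) = j (g a) := fun a => congrArg (fun h => h a) hcomm
    obtain ⟨r', hr'⟩ := hy R' hR' g'
    set w : R' := j s ^ k * r' with hw
    -- `w` is integral over `R`
    have hNw : η.Nmap g' (η.t Af (ℓ (f ^ k)) * y) = η.t R' w := by
      rw [map_mul, η.Nmap_t_apply, hcomm', ← hr', ← map_mul, map_pow, map_pow]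
    have hcoef : (η.Nmap g').comp ((η.t Af).comp ℓ) = (η.t R').comp (j.comp g) := by
      ext a
      simp only [RingHom.comp_apply]
      rw [η.Nmap_t_apply, hcomm']
    have hz : η.t R' (Polynomial.eval₂ (j.comp g) w P') = 0 := by
      rw [Polynomial.hom_eval₂, ← hcoef, ← hNw, ← Polynomial.hom_eval₂, hP'', map_zero]
    have hz' : Polynomial.eval₂ (j.comp g) w P' = 0 :=
      ((t_eq_zero_iff η _).1 hz).eq_zero
    have hwint : IsIntegral R w := by
      refine ⟨P'.map g, hP'm.map g, ?_⟩
      rw [Polynomial.eval₂_map]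
      exact hz'
    obtain ⟨r, hr⟩ := exists_of_isIntegral_away s hs w hwint
    have hjr : j r = w := hr
    refine ⟨s * r, ?_⟩
    set x := x₀ * η.t A f ^ (k + 1) with hx
    set d : η.N R := η.Nmap g x - η.t R (s * r) with hd
    have e0 : η.Nmap ℓ x = y * η.t Af (ℓ f) ^ (k + 1) := by
      rw [hx, map_mul, map_pow, hx₀y, η.Nmap_t_apply]
    have e1 : η.Nmap j (η.Nmap g x) = η.t R' (r' * j s ^ (k + 1)) := by
      rw [← Nmap_comp, ← hcomm, Nmap_comp, e0, map_mul, map_pow, η.Nmap_t_apply, hcomm', ← hr',
        ← map_pow, ← map_mul]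
    have e2 : η.Nmap j (η.t R (s * r)) = η.t R' (j s * w) := by
      rw [η.Nmap_t_apply, map_mul, hjr]
    have hNd : η.Nmap j d = 0 := by
      rw [hd, map_sub, e1, e2, hw, sub_eq_zero]
      congr 1
      ring
    have hd0 : d = 0 := by
      funext 𝔭
      by_cases hs𝔭 : s ∈ 𝔭.asIdeal
      · have hmem : f ∈ (PrimeSpectrum.comap g 𝔭).asIdeal := hs𝔭
        have h1 : η.Nmap g x 𝔭 = 0 := by
          rw [Nmap_apply η g _ 𝔭 (PrimeSpectrum.comap g 𝔭) rfl, hx, Pi.mul_apply, hx₀0 _ hmem,
            zero_mul, map_zero]
        have h2 : η.t R (s * r) 𝔭 = 0 := by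
          rw [t_apply, (Ideal.algebraMap_residueField_eq_zero).2 (𝔭.asIdeal.mul_mem_right r hs𝔭),
            map_zero]
        show η.Nmap g x 𝔭 - η.t R (s * r) 𝔭 = 0
        rw [h1, h2, sub_zero]
      · obtain ⟨𝔭', h𝔭'⟩ := exists_prime_away s 𝔭 hs𝔭
        have h1 := congrFun hNd 𝔭'
        rw [Nmap_apply η j d 𝔭' 𝔭 h𝔭'] at h1
        exact (map_eq_zero _).1 h1
    exact (sub_eq_zero.1 hd0).symm

end Groth.Agent.Lib.helper2.EtaPtLib
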