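import Groth.Agent.Lib.Helper2.EtaPtSpec
import Groth.Agent.S13802
import Mathlib.RingTheory.Ideal.GoingUp
import Mathlib.RingTheory.Nilpotent.Lemmas

/-! The relative ring `rel f` (helper2): the section `σ : rel f → M A`, integrality, primes. -/

set_option autoImplicit false
universe u

namespace Groth.Agent.Lib.helper2.EtaPtLib

open EtaPt

variable (η : EtaPt.FieldEndo.{u})

theorem Nmap_injective_of_surjective {A B : Type u} [CommRing A] [CommRing B] (f : A →+* B)
    (hs : Function.Surjective (PrimeSpectrum.comap f)) : Function.Injective (η.Nmap f) := by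
  intro x x' h
  funext p
  obtain ⟨Q, rfl⟩ := hs p
  have := congrFun h Q
  rw [Nmap_apply η f x Q (PrimeSpectrum.comap f Q) rfl,
    Nmap_apply η f x' Q (PrimeSpectrum.comap f Q) rfl] at this
  exact (η.map _).injective this

theorem mem_rel_iff {A B : Type u} [CommRing A] [CommRing B] (f : A →+* B) (b : B) :
    b ∈ η.rel f ↔ ∃ x ∈ η.M A, η.Nmap f x = η.t B b := Iff.rfl

theorem t_eq_zero_iff {B : Type u} [CommRing B] (b : B) : η.t B b = 0 ↔ IsNilpotent b := by
  rw [nilpotent_iff_mem_prime]
  constructor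
  · intro hb J hJ
    have := congrFun hb ⟨J, hJ⟩
    rw [t_apply] at this
    exact Ideal.algebraMap_residueField_eq_zero.1 ((map_eq_zero (η.eta _)).1 this)
  · intro h
    funext p
    rw [t_apply, Ideal.algebraMap_residueField_eq_zero.2 (h p.asIdeal p.isPrime), map_zero]
    rfl

section Sigma

variable {A B : Type u} [CommRing A] [CommRing B] (f : A →+* B)

/-- the underlying function of `σ : rel f → M A`. -/
noncomputable def sigmaFun (b : η.rel f) : η.M A :=
  ⟨Classical.choose ((mem_rel_iff η f b).1 b.2),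
    (Classical.choose_spec ((mem_rel_iff η f b).1 b.2)).1⟩

theorem Nmap_sigmaFun (b : η.rel f) :
    η.Nmap f (sigmaFun η f b : η.N A) = η.t B b :=
  (Classical.choose_spec ((mem_rel_iff η f b).1 b.2)).2

variable (hs : Function.Surjective (PrimeSpectrum.comap f))

/-- `σ : rel f → M A`, the unique lift through `Nmap f`. -/
noncomputable def sigma : η.rel f →+* η.M A where
  toFun := sigmaFun η f
  map_one' := by
    apply Subtype.ext
    apply Nmap_injective_of_surjective η f hs
    rw [Nmap_sigmaFun]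
    show η.t B 1 = η.Nmap f 1
    rw [map_one, map_one]
  map_mul' b b' := by
    apply Subtype.ext
    apply Nmap_injective_of_surjective η f hs
    rw [Nmap_sigmaFun]
    show η.t B (b * b') = η.Nmap f ((sigmaFun η f b : η.N A) * (sigmaFun η f b' : η.N A))
    rw [map_mul, map_mul, Nmap_sigmaFun, Nmap_sigmaFun]
  map_zero' := by
    apply Subtype.ext
    apply Nmap_injective_of_surjective η f hs
    rw [Nmap_sigmaFun]
    show η.t B 0 = η.Nmap f 0
    rw [map_zero, map_zero]
  map_add' b b' := by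
    apply Subtype.ext
    apply Nmap_injective_of_surjective η f hs
    rw [Nmap_sigmaFun]
    show η.t B (b + b') = η.Nmap f ((sigmaFun η f b : η.N A) + (sigmaFun η f b' : η.N A))
    rw [map_add, map_add, Nmap_sigmaFun, Nmap_sigmaFun]

theorem Nmap_sigma (b : η.rel f) : η.Nmap f (sigma η f hs b : η.N A) = η.t B b :=
  Nmap_sigmaFun η f b

theorem sigma_qRel (a : A) : sigma η f hs (η.qRel f a) = η.q A a := by
  apply Subtype.ext
  apply Nmap_injective_of_surjective η f hs
  rw [Nmap_sigma]
  show η.t B (f a) = η.Nmap f (η.t A a)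
  rw [η.Nmap_t_apply]

theorem sigma_comp_qRel : (sigma η f hs).comp (η.qRel f) = η.q A :=
  RingHom.ext (sigma_qRel η f hs)

theorem isNilpotent_of_sigma_eq_zero (b : η.rel f) (h : sigma η f hs b = 0) : IsNilpotent b := by
  have h1 : η.t B b = 0 := by
    rw [← Nmap_sigma η f hs, h]
    exact map_zero _
  have h2 := (t_eq_zero_iff η (b : B)).1 h1
  obtain ⟨n, hn⟩ := h2
  exact ⟨n, Subtype.ext hn⟩

theorem ker_sigma_le (Q : PrimeSpectrum (η.rel f)) : RingHom.ker (sigma η f hs) ≤ Q.asIdeal := by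
  intro b hb
  obtain ⟨n, hn⟩ := isNilpotent_of_sigma_eq_zero η f hs b (RingHom.mem_ker.1 hb)
  exact Q.isPrime.mem_of_pow_mem n (hn ▸ Q.asIdeal.zero_mem)

variable (hA : (minimalPrimes A).Finite)

include hA in
theorem sigma_isIntegral : (sigma η f hs).IsIntegral := by
  intro x
  obtain ⟨P, hPm, hP⟩ := Groth.Agent.S13802.result η A hA x
  refine ⟨P.map (η.qRel f), hPm.map _, ?_⟩
  rw [Polynomial.eval₂_map, sigma_comp_qRel]
  exact hP

include hs hA in
theorem qRel_isIntegral : (η.qRel f).IsIntegral := by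
  intro b
  obtain ⟨P, hPm, hP⟩ := Groth.Agent.S13802.result η A hA (sigma η f hs b)
  have h1 : sigma η f hs (Polynomial.eval₂ (η.qRel f) b P) = 0 := by
    rw [Polynomial.hom_eval₂, sigma_comp_qRel]
    exact hP
  obtain ⟨n, hn⟩ := isNilpotent_of_sigma_eq_zero η f hs _ h1
  refine ⟨P ^ n, hPm.pow n, ?_⟩
  rw [Polynomial.eval₂_pow]
  exact hn

include hA in
/-- every prime of `rel f` is the contraction of `ker (proj P)` along `σ`. -/
theorem eq_comap_sigma_Qp (Q : PrimeSpectrum (η.rel f)) :
    Q = PrimeSpectrum.comap (sigma η f hs) (Qp η A (PrimeSpectrum.comap (η.qRel f) Q)) := by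
  letI : Algebra (η.rel f) (η.M A) := (sigma η f hs).toAlgebra
  have hint : Algebra.IsIntegral (η.rel f) (η.M A) :=
    algebraMap_isIntegral_iff.1 (sigma_isIntegral η f hs hA)
  obtain ⟨Qt, -, hQt, hQtQ⟩ := Ideal.exists_ideal_over_prime_of_isIntegral Q.asIdeal
    (⊥ : Ideal (η.M A)) (by
      rw [← RingHom.ker_eq_comap_bot]
      exact ker_sigma_le η f hs Q)
  let Qt' : PrimeSpectrum (η.M A) := ⟨Qt, hQt⟩
  have h1 : PrimeSpectrum.comap (sigma η f hs) Qt' = Q := PrimeSpectrum.ext hQtQ
  have h2 : PrimeSpectrum.comap (η.q A) Qt' = PrimeSpectrum.comap (η.qRel f) Q := by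
    rw [← h1]
    apply PrimeSpectrum.ext
    show Ideal.comap (η.q A) Qt = Ideal.comap (η.qRel f) (Ideal.comap (sigma η f hs) Qt)
    rw [Ideal.comap_comap, sigma_comp_qRel]
  have h3 := eq_Qp η hA Qt'
  rw [h2] at h3
  rw [← h3, h1]

end Sigma

end Groth.Agent.Lib.helper2.EtaPtLib
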