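import Groth.Agent.Lib.Helper2.EtaPtCore
import Mathlib.RingTheory.Ideal.Operations

/-! Primes of `M A` (helper2): every prime of `M A` is the kernel of a projection `M A → F(k(P))`,
when `A` has finitely many minimal primes. -/

set_option autoImplicit false
universe u

namespace Groth.Agent.Lib.helper2.EtaPtLib

open EtaPt

variable (η : EtaPt.FieldEndo.{u})

/-- The prime `ker (M A → F(k(p)))` of `M A`. -/
noncomputable def Qp (A : Type u) [CommRing A] (p : PrimeSpectrum A) : PrimeSpectrum (η.M A) :=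
  ⟨RingHom.ker (proj η A p), RingHom.ker_isPrime _⟩

theorem mem_Qp_iff (A : Type u) [CommRing A] (p : PrimeSpectrum A) (x : η.M A) :
    x ∈ (Qp η A p).asIdeal ↔ (x : η.N A) p = 0 := RingHom.mem_ker

theorem comap_Qp (A : Type u) [CommRing A] (p : PrimeSpectrum A) :
    PrimeSpectrum.comap (η.q A) (Qp η A p) = p := by
  apply PrimeSpectrum.ext
  ext a
  show proj η A p (η.q A a) = 0 ↔ a ∈ p.asIdeal
  rw [proj_q, jmap_eq_zero_iff]

/-- Any prime `Q` of `M A` containing `ker (proj p)` is `ker (proj P)`, `P` its contraction. -/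
theorem eq_Qp_of_le {A : Type u} [CommRing A] (p : PrimeSpectrum A) (Q : PrimeSpectrum (η.M A))
    (hle : (Qp η A p).asIdeal ≤ Q.asIdeal) :
    Q = Qp η A (PrimeSpectrum.comap (η.q A) Q) := by
  classical
  have hunit : ∀ y : Q.asIdeal.primeCompl, IsUnit (proj η A p y) := by
    intro y
    apply IsUnit.mk0
    intro h
    exact y.2 (hle (RingHom.mem_ker.2 h))
  let f : Localization.AtPrime Q.asIdeal →+* η.obj p.asIdeal.ResidueField :=
    IsLocalization.lift (M := Q.asIdeal.primeCompl) hunit
  have hf : ∀ y, f (algebraMap (η.M A) (Localization.AtPrime Q.asIdeal) y) = proj η A p y :=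
    IsLocalization.lift_eq _
  obtain ⟨V, hV, hloc⟩ := IsLocalRing.exists_factor_valuationRing f
  let h : η.M A →+* V := (f.codRestrict V.toSubring hV).comp
    (algebraMap (η.M A) (Localization.AtPrime Q.asIdeal))
  have hh : ∀ y, ((h y : V) : η.obj p.asIdeal.ResidueField) = proj η A p y := fun y => hf y
  let g : A →+* V := h.comp (η.q A)
  have hg : ∀ a, ((g a : V) : η.obj p.asIdeal.ResidueField) = jmap η A p a := fun a =>
    hh (η.q A a)
  have hVin : η.InV V :=
    InV_of_eta_bijective η (η.obj p.asIdeal.ResidueField) (eta_obj_bijective η _)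
  let m : PrimeSpectrum V := ⟨IsLocalRing.maximalIdeal V, inferInstance⟩
  have hmQ : Q.asIdeal = m.asIdeal.comap h := by
    show Q.asIdeal = Ideal.comap ((f.codRestrict V.toSubring hV).comp
      (algebraMap (η.M A) (Localization.AtPrime Q.asIdeal))) (IsLocalRing.maximalIdeal V)
    rw [← Ideal.comap_comap, IsLocalRing.maximalIdeal_comap]
    exact (Localization.AtPrime.under_maximalIdeal).symm
  have hmP : (PrimeSpectrum.comap (η.q A) Q).asIdeal = m.asIdeal.comap g := by
    show Ideal.comap (η.q A) Q.asIdeal = Ideal.comap (h.comp (η.q A)) m.asIdeal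
    rw [hmQ, Ideal.comap_comap]
  apply PrimeSpectrum.ext
  ext x
  rw [mem_Qp_iff]
  obtain ⟨r, hr⟩ := x.2 V hVin g
  have hrx : r = h x := by
    apply Subtype.ext
    rw [generic_eq η p V g hg x.1 r hr, hh]
    rfl
  rw [component_eq_zero_iff η g x.1 r hr m _ hmP, hrx, hmQ]
  rfl

/-- With finitely many minimal primes, every prime of `M A` contains some `ker (proj p)`. -/
theorem exists_Qp_le {A : Type u} [CommRing A] (hA : (minimalPrimes A).Finite)
    (Q : PrimeSpectrum (η.M A)) : ∃ p : PrimeSpectrum A, (Qp η A p).asIdeal ≤ Q.asIdeal := by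
  classical
  let F : Ideal A → Ideal (η.M A) := fun I =>
    if h : I.IsPrime then (Qp η A ⟨I, h⟩).asIdeal else ⊤
  have hinf : hA.toFinset.inf F ≤ Q.asIdeal := by
    intro x hx
    rw [Submodule.mem_finsetInf] at hx
    have hx0 : x = 0 := by
      apply Subtype.ext
      funext p
      obtain ⟨I, hI, hIp⟩ := Ideal.exists_minimalPrimes_le (I := ⊥) (J := p.asIdeal) bot_le
      have hIprime : I.IsPrime := hI.1.1
      have h1 := hx I (hA.mem_toFinset.2 hI)
      simp only [F, dif_pos hIprime] at h1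
      exact eq_zero_of_le η x.2 ⟨I, hIprime⟩ p hIp ((mem_Qp_iff η A _ x).1 h1)
    rw [hx0]
    exact Ideal.zero_mem _
  obtain ⟨I, hI, hIQ⟩ := (Ideal.IsPrime.inf_le' Q.isPrime).1 hinf
  have hIprime : I.IsPrime := ((hA.mem_toFinset.1 hI)).1.1
  simp only [F, dif_pos hIprime] at hIQ
  exact ⟨⟨I, hIprime⟩, hIQ⟩

/-- With finitely many minimal primes, every prime of `M A` is `ker (proj P)`. -/
theorem eq_Qp {A : Type u} [CommRing A] (hA : (minimalPrimes A).Finite)
    (Q : PrimeSpectrum (η.M A)) : Q = Qp η A (PrimeSpectrum.comap (η.q A) Q) := by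
  obtain ⟨p, hp⟩ := exists_Qp_le η hA Q
  exact eq_Qp_of_le η p Q hp

/-- The residue field of `Q` embeds into `F(k(P))` compatibly with `η` and the projection. -/
theorem exists_residue_factor' {A : Type u} [CommRing A] (hA : (minimalPrimes A).Finite)
    (Q : PrimeSpectrum (η.M A)) :
    ∃ φ : Q.asIdeal.ResidueField →+* η.obj (PrimeSpectrum.comap (η.q A) Q).asIdeal.ResidueField,
      φ.comp (Ideal.ResidueField.map (PrimeSpectrum.comap (η.q A) Q).asIdeal Q.asIdeal
        (η.q A) rfl) = η.eta (PrimeSpectrum.comap (η.q A) Q).asIdeal.ResidueField ∧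
      ∀ x : η.M A, φ (algebraMap (η.M A) Q.asIdeal.ResidueField x) =
        (x : η.N A) (PrimeSpectrum.comap (η.q A) Q) := by
  have hQ : Q.asIdeal = RingHom.ker (proj η A (PrimeSpectrum.comap (η.q A) Q)) :=
    congrArg PrimeSpectrum.asIdeal (eq_Qp η hA Q)
  have h1 : Q.asIdeal ≤ RingHom.ker (proj η A (PrimeSpectrum.comap (η.q A) Q)) := hQ.le
  have h2 : Q.asIdeal.primeCompl ≤
      (IsUnit.submonoid _).comap (proj η A (PrimeSpectrum.comap (η.q A) Q)) := by
    intro s hs
    show IsUnit (proj η A (PrimeSpectrum.comap (η.q A) Q) s)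
    apply IsUnit.mk0
    intro h0
    apply hs
    show s ∈ Q.asIdeal
    rw [hQ]
    exact RingHom.mem_ker.2 h0
  refine ⟨Ideal.ResidueField.lift Q.asIdeal (proj η A (PrimeSpectrum.comap (η.q A) Q)) h1 h2,
    ?_, fun x => Ideal.ResidueField.lift_algebraMap _ _ h1 h2 x⟩
  apply Ideal.ResidueField.ringHom_ext
  ext a
  simp only [RingHom.comp_apply]
  rw [Ideal.ResidueField.map_algebraMap, Ideal.ResidueField.lift_algebraMap]
  rfl

/-- The residue field of `Q` embeds into `F(k(P))` compatibly with `η`. -/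
theorem exists_residue_factor {A : Type u} [CommRing A] (hA : (minimalPrimes A).Finite)
    (Q : PrimeSpectrum (η.M A)) :
    ∃ φ : Q.asIdeal.ResidueField →+* η.obj (PrimeSpectrum.comap (η.q A) Q).asIdeal.ResidueField,
      φ.comp (Ideal.ResidueField.map (PrimeSpectrum.comap (η.q A) Q).asIdeal Q.asIdeal
        (η.q A) rfl) = η.eta (PrimeSpectrum.comap (η.q A) Q).asIdeal.ResidueField := by
  obtain ⟨φ, h, -⟩ := exists_residue_factor' η hA Q
  exact ⟨φ, h⟩

/-- If `φ ∘ ι = η_K` then `F ι` is bijective. -/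
theorem map_bijective_of_factor {K L : Type u} [Field K] [Field L] (ι : K →+* L)
    (φ : L →+* η.obj K) (h : φ.comp ι = η.eta K) : Function.Bijective (η.map ι) := by
  have h1 : Function.Bijective ((η.map φ) ∘ (η.map ι)) := by
    have : (η.map φ) ∘ (η.map ι) = η.map (η.eta K) := by
      rw [← h, η.map_comp]; rfl
    rw [this]
    exact η.bijective_map_eta K
  have h2 : Function.Bijective (η.map φ) :=
    ⟨RingHom.injective _, Function.Surjective.of_comp h1.surjective⟩
  exact (Function.Bijective.of_comp_iff' h2 _).1 h1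

/-- `Nmap f` is bijective when `Spec f` is bijective and `F` of each residue extension is. -/
theorem Nmap_bijective_of {A B : Type u} [CommRing A] [CommRing B] (f : A →+* B)
    (hf : Function.Bijective (PrimeSpectrum.comap f))
    (hres : ∀ Q : PrimeSpectrum B, Function.Bijective (η.map (Ideal.ResidueField.map
      (PrimeSpectrum.comap f Q).asIdeal Q.asIdeal f rfl))) :
    Function.Bijective (η.Nmap f) := by
  classical
  constructor
  · intro x x' hxx
    funext p
    obtain ⟨Q, rfl⟩ := hf.surjective p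
    have := congrFun hxx Q
    rw [Nmap_apply η f x Q (PrimeSpectrum.comap f Q) rfl,
      Nmap_apply η f x' Q (PrimeSpectrum.comap f Q) rfl] at this
    exact (hres Q).injective this
  · intro y
    have hex : ∀ p : PrimeSpectrum A, ∃ w : η.obj p.asIdeal.ResidueField,
        ∀ (Q : PrimeSpectrum B) (h : p.asIdeal = Q.asIdeal.comap f),
          η.map (Ideal.ResidueField.map p.asIdeal Q.asIdeal f h) w = y Q := by
      intro p
      obtain ⟨Q0, rfl⟩ := hf.surjective p
      obtain ⟨w, hw⟩ := (hres Q0).surjective (y Q0)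
      refine ⟨w, fun Q h => ?_⟩
      have hQ : Q0 = Q := hf.injective (PrimeSpectrum.ext h)
      subst hQ
      exact hw
    choose x hx using hex
    refine ⟨x, ?_⟩
    funext Q
    rw [Nmap_apply η f x Q (PrimeSpectrum.comap f Q) rfl]
    exact hx _ Q rfl

/-- `Nmap (q A)` is bijective when `A` has finitely many minimal primes. -/
theorem Nmap_q_bijective {A : Type u} [CommRing A] (hA : (minimalPrimes A).Finite) :
    Function.Bijective (η.Nmap (η.q A)) := by
  apply Nmap_bijective_of
  · refine ⟨fun Q1 Q2 h12 => ?_, fun p => ⟨Qp η A p, comap_Qp η A p⟩⟩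
    rw [eq_Qp η hA Q1, eq_Qp η hA Q2, h12]
  · intro Q
    obtain ⟨φ, hφ⟩ := exists_residue_factor η hA Q
    exact map_bijective_of_factor η _ φ hφ

end Groth.Agent.Lib.helper2.EtaPtLib
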