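import Groth.Agent.Lib.Helper2.EtaPtSpec
import Groth.Agent.S13812
import Mathlib.FieldTheory.Perfect
import Mathlib.RingTheory.Ideal.GoingUp

/-! `M R` for an integrally closed domain / valuation ring `R` (helper2). -/

set_option autoImplicit false
universe u

namespace Groth.Agent.Lib.helper2.EtaPtLib

open EtaPt

variable (η : EtaPt.FieldEndo.{u})

/-- Generic point computation for any domain `B` embedded in `F(k(p))`. -/
theorem generic_eq' {A B : Type u} [CommRing A] [CommRing B] [IsDomain B] (p : PrimeSpectrum A)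
    (ι : B →+* η.obj p.asIdeal.ResidueField) (hι : Function.Injective ι) (g : A →+* B)
    (hg : ∀ a, ι (g a) = jmap η A p a) (x : η.N A) (r : B) (hr : η.t B r = η.Nmap g x) :
    ι r = x p := by
  let q0 : PrimeSpectrum B := ⟨⊥, Ideal.isPrime_bot⟩
  have hker : p.asIdeal = q0.asIdeal.comap g := by
    show p.asIdeal = Ideal.comap g ⊥
    rw [← RingHom.ker_eq_comap_bot]
    ext a
    rw [RingHom.mem_ker, ← jmap_eq_zero_iff η, ← hg]
    constructor
    · intro h
      exact hι (h.trans (map_zero ι).symm)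
    · intro h
      rw [h, map_zero]
  have e1 := Nmap_eq_t_apply η g x r hr q0 p hker
  have h1 : (⊥ : Ideal B) ≤ RingHom.ker ι := bot_le
  have h2 : (⊥ : Ideal B).primeCompl ≤ (IsUnit.submonoid _).comap ι := by
    intro s hs
    show IsUnit (ι s)
    apply IsUnit.mk0
    intro h0
    apply hs
    have : s = 0 := hι (h0.trans (map_zero ι).symm)
    rw [this]
    exact Ideal.zero_mem _
  let ψr := Ideal.ResidueField.lift (⊥ : Ideal B) ι h1 h2
  have hψr : ∀ v : B, ψr (algebraMap B _ v) = ι v :=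
    Ideal.ResidueField.lift_algebraMap _ _ h1 h2
  have hcomp : ψr.comp (Ideal.ResidueField.map p.asIdeal q0.asIdeal g hker) =
      η.eta p.asIdeal.ResidueField := by
    apply Ideal.ResidueField.ringHom_ext
    ext a
    simp only [RingHom.comp_apply]
    rw [Ideal.ResidueField.map_algebraMap, hψr]
    exact hg a
  have e2 := congrArg (η.map ψr) e1
  rw [eta_natural_apply, ← RingHom.comp_apply (η.map ψr), ← η.map_comp, hcomp, hψr,
    ← eta_obj_eq] at e2
  exact ((η.eta _).injective e2).symm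

/-- If `η c` is integral over `A` then so is `c`. -/
theorem isIntegral_of_jmap_eta {A : Type u} [CommRing A] (p : PrimeSpectrum A)
    (c : p.asIdeal.ResidueField) (h : (jmap η A p).IsIntegralElem (η.eta _ c)) :
    IsIntegral A c := by
  obtain ⟨P, hPm, hP⟩ := h
  refine ⟨P, hPm, ?_⟩
  have : Polynomial.eval₂ (jmap η A p) (η.eta _ c) P =
      η.eta _ (Polynomial.eval₂ (algebraMap A _) c P) :=
    (Polynomial.hom_eval₂ P (algebraMap A _) (η.eta _) c).symm
  rw [this] at hP
  exact (map_eq_zero _).1 hP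

theorem isIntegralElem_pow {A S : Type u} [CommRing A] [CommRing S] (f : A →+* S) {x : S}
    (hx : f.IsIntegralElem x) (n : ℕ) : f.IsIntegralElem (x ^ n) := by
  letI := f.toAlgebra
  exact IsIntegral.pow (R := A) hx n

theorem isIntegralElem_of_pow {A S : Type u} [CommRing A] [CommRing S] (f : A →+* S) {x : S}
    {n : ℕ} (hn : 0 < n) (hx : f.IsIntegralElem (x ^ n)) : f.IsIntegralElem x := by
  letI := f.toAlgebra
  exact IsIntegral.of_pow (R := A) hn hx

section IntClosed

variable {R : Type u} [CommRing R] [IsDomain R] [IsIntegrallyClosed R]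

/-- An integral element of `F(K)` has an `e^n`-th power coming from `R`. -/
theorem exists_pow_eq_jmap (y : η.obj (⊥ : Ideal R).ResidueField)
    (hy : (jmap η R ⟨⊥, Ideal.isPrime_bot⟩).IsIntegralElem y) :
    ∃ (n : ℕ) (r : R), y ^ (ringExpChar (⊥ : Ideal R).ResidueField ^ n) =
      jmap η R ⟨⊥, Ideal.isPrime_bot⟩ r := by
  obtain ⟨n, c, hc⟩ := η.exists_pow_mem_range_eta _ y
  have hint : (jmap η R ⟨⊥, Ideal.isPrime_bot⟩).IsIntegralElem (η.eta _ c) := by
    rw [hc]
    exact isIntegralElem_pow _ hy _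
  have h2 := isIntegral_of_jmap_eta η ⟨⊥, Ideal.isPrime_bot⟩ c hint
  obtain ⟨r, hr⟩ := IsIntegrallyClosed.algebraMap_eq_of_integral h2
  refine ⟨n, r, ?_⟩
  rw [← hc, ← hr]
  rfl

/-- In the `InV` case every integral element of `F(K)` is the generic component of `t R r`. -/
theorem exists_of_isIntegral_of_InV (hR : η.InV R) (y : η.obj (⊥ : Ideal R).ResidueField)
    (hy : (jmap η R ⟨⊥, Ideal.isPrime_bot⟩).IsIntegralElem y) :
    ∃ r : R, jmap η R ⟨⊥, Ideal.isPrime_bot⟩ r = y := by
  have hb : Function.Bijective (η.eta (⊥ : Ideal R).ResidueField) :=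
    eta_bijective_of_InV η hR _
  obtain ⟨c, rfl⟩ := hb.surjective y
  have h2 := isIntegral_of_jmap_eta η ⟨⊥, Ideal.isPrime_bot⟩ c hy
  obtain ⟨r, hr⟩ := IsIntegrallyClosed.algebraMap_eq_of_integral h2
  exact ⟨r, by rw [← hr]; rfl⟩

end IntClosed

section Perfect

/-- `e^n`-th roots exist in perfect fields. -/
theorem exists_pow_eq_of_perfectField (Ω : Type u) [Field Ω] [PerfectField Ω] (e : ℕ)
    [ExpChar Ω e] (n : ℕ) (z : Ω) : ∃ w : Ω, w ^ (e ^ n) = z := by
  have := PerfectField.toPerfectRing (K := Ω) e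
  obtain ⟨w, hw⟩ := (bijective_iterateFrobenius Ω e n).2 z
  exact ⟨w, by rwa [iterateFrobenius_def] at hw⟩

theorem ringExpChar_eq_of_hom {R k : Type u} [CommRing R] [IsDomain R] [Field k] (φ : R →+* k)
    (p : ℕ) (hp : p.Prime) [CharP R p] : ringExpChar k = p := by
  have : CharP k p := CharP.of_ringHom_of_ne_zero φ p hp.ne_zero
  have : ExpChar k p := ExpChar.prime hp
  exact ringExpChar.eq k p

/-- If every element of `B` has an `e^n`-th power in `f(A)` and `F(k(P))` has all `e^n`-th roots,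
then `F` of the residue extension `k(P) → k(Q)` is bijective. -/
theorem map_residue_bijective_of_pow {A B : Type u} [CommRing A] [CommRing B] (f : A →+* B)
    (e : ℕ) (hpow : ∀ b : B, ∃ (n : ℕ) (a : A), b ^ (e ^ n) = f a)
    (Q : PrimeSpectrum B) (P : PrimeSpectrum A) (h : P.asIdeal = Q.asIdeal.comap f)
    (he : ringExpChar Q.asIdeal.ResidueField = e)
    (hroot : ∀ (n : ℕ) (z : η.obj P.asIdeal.ResidueField), ∃ w, w ^ (e ^ n) = z) :
    Function.Bijective (η.map (Ideal.ResidueField.map P.asIdeal Q.asIdeal f h)) := by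
  refine ⟨RingHom.injective _, fun z => ?_⟩
  obtain ⟨n, c, hc⟩ := η.exists_pow_mem_range_eta _ z
  rw [he] at hc
  obtain ⟨c', s', hs', hcs⟩ := IsFractionRing.div_surjective (B ⧸ Q.asIdeal) c
  obtain ⟨b, rfl⟩ := Ideal.Quotient.mk_surjective c'
  obtain ⟨s, rfl⟩ := Ideal.Quotient.mk_surjective s'
  have halg : ∀ b : B, algebraMap (B ⧸ Q.asIdeal) Q.asIdeal.ResidueField
      (Ideal.Quotient.mk _ b) = algebraMap B _ b := fun b => rfl
  rw [halg, halg] at hcs
  obtain ⟨m1, a1, h1⟩ := hpow b
  obtain ⟨m2, a2, h2⟩ := hpow s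
  have h1' : b ^ (e ^ (m1 + m2)) = f (a1 ^ (e ^ m2)) := by
    rw [pow_add, pow_mul, h1, map_pow]
  have h2' : s ^ (e ^ (m1 + m2)) = f (a2 ^ (e ^ m1)) := by
    rw [add_comm, pow_add, pow_mul, h2, map_pow]
  have hd : Ideal.ResidueField.map P.asIdeal Q.asIdeal f h
      (algebraMap A _ (a1 ^ (e ^ m2)) / algebraMap A _ (a2 ^ (e ^ m1))) =
      c ^ (e ^ (m1 + m2)) := by
    rw [← hcs, div_pow, ← map_pow, ← map_pow, h1', h2', map_div₀,
      Ideal.ResidueField.map_algebraMap, Ideal.ResidueField.map_algebraMap]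
  obtain ⟨w, hw⟩ := hroot (n + (m1 + m2))
    (η.eta _ (algebraMap A _ (a1 ^ (e ^ m2)) / algebraMap A _ (a2 ^ (e ^ m1))))
  refine ⟨w, ?_⟩
  apply pow_expChar_pow_inj η (RingHom.id Q.asIdeal.ResidueField) (n + (m1 + m2))
  rw [he, ← map_pow, hw, eta_natural_apply, hd, map_pow, hc, ← pow_mul, ← pow_add]

end Perfect

section CharPCase

variable {R : Type u} [CommRing R] [IsDomain R] [IsIntegrallyClosed R]

/-- In characteristic `p` with the perfectness hypothesis, every integral element of `F(K)` is the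
generic component of an element of `M R`. -/
theorem exists_of_isIntegral_of_perfect (p : ℕ) (hp : p.Prime) [CharP R p]
    (hH : ∀ (k : Type u) [Field k], ringChar k = ringChar R →
      Function.Bijective (η.eta k) → PerfectField k)
    (y : η.obj (⊥ : Ideal R).ResidueField)
    (hy : (jmap η R ⟨⊥, Ideal.isPrime_bot⟩).IsIntegralElem y) :
    ∃ x ∈ η.M R, x ⟨⊥, Ideal.isPrime_bot⟩ = y := by
  classical
  let p0 : PrimeSpectrum R := ⟨⊥, Ideal.isPrime_bot⟩
  letI : Algebra R (η.obj (⊥ : Ideal R).ResidueField) := (jmap η R p0).toAlgebra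
  let B := integralClosure R (η.obj (⊥ : Ideal R).ResidueField)
  let f : R →+* B := algebraMap R B
  have hf_int : f.IsIntegral := algebraMap_isIntegral_iff.2 inferInstance
  have hcharK : ringExpChar (⊥ : Ideal R).ResidueField = p :=
    ringExpChar_eq_of_hom (algebraMap R _) p hp
  have hpow : ∀ b : B, ∃ (n : ℕ) (r : R), b ^ (p ^ n) = f r := by
    intro b
    obtain ⟨n, r, hr⟩ := exists_pow_eq_jmap η b.1 b.2
    rw [hcharK] at hr
    exact ⟨n, r, Subtype.ext hr⟩
  have hfinj : Function.Injective f := by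
    intro a b hab
    have h1 : jmap η R p0 a = jmap η R p0 b := congrArg Subtype.val hab
    have h2 : jmap η R p0 (a - b) = 0 := by rw [map_sub, h1, sub_self]
    have h3 := (jmap_eq_zero_iff η R p0 (a - b)).1 h2
    exact sub_eq_zero.1 (Ideal.mem_bot.1 h3)
  have hcomap : Function.Bijective (PrimeSpectrum.comap f) := by
    constructor
    · have key : ∀ Q1 Q2 : PrimeSpectrum B,
          PrimeSpectrum.comap f Q1 = PrimeSpectrum.comap f Q2 → Q1.asIdeal ≤ Q2.asIdeal := by
        intro Q1 Q2 h b hb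
        obtain ⟨n, r, hr⟩ := hpow b
        have h1 : f r ∈ Q1.asIdeal := hr ▸ Ideal.pow_mem_of_mem _ hb _ (Nat.pow_pos hp.pos)
        have h2 : r ∈ (PrimeSpectrum.comap f Q1).asIdeal := h1
        rw [h] at h2
        have h3 : b ^ (p ^ n) ∈ Q2.asIdeal := hr ▸ h2
        exact Q2.isPrime.mem_of_pow_mem _ h3
      intro Q1 Q2 h
      exact PrimeSpectrum.ext (le_antisymm (key Q1 Q2 h) (key Q2 Q1 h.symm))
    · intro P
      obtain ⟨Q, hQ, hQP⟩ := Ideal.exists_ideal_over_prime_of_isIntegral_of_isDomain (S := B)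
        P.asIdeal (by
          rw [(RingHom.injective_iff_ker_eq_bot _).1 hfinj]
          exact bot_le)
      exact ⟨⟨Q, hQ⟩, PrimeSpectrum.ext hQP⟩
  have hres : ∀ Q : PrimeSpectrum B, Function.Bijective (η.map (Ideal.ResidueField.map
      (PrimeSpectrum.comap f Q).asIdeal Q.asIdeal f rfl)) := by
    intro Q
    apply map_residue_bijective_of_pow η f p hpow Q _ rfl
    · exact ringExpChar_eq_of_hom ((algebraMap B Q.asIdeal.ResidueField).comp f) p hp
    · have : CharP (η.obj (PrimeSpectrum.comap f Q).asIdeal.ResidueField) p :=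
        CharP.of_ringHom_of_ne_zero (jmap η R (PrimeSpectrum.comap f Q)) p hp.ne_zero
      have hperf : PerfectField (η.obj (PrimeSpectrum.comap f Q).asIdeal.ResidueField) :=
        hH _ (by rw [ringChar.eq _ p, ringChar.eq R p]) (eta_obj_bijective η _)
      have : ExpChar (η.obj (PrimeSpectrum.comap f Q).asIdeal.ResidueField) p :=
        ExpChar.prime hp
      exact fun n z => exists_pow_eq_of_perfectField _ p n z
  have hN := Nmap_bijective_of η f hcomap hres
  have hbijOn := Groth.Agent.S13812.result η f hf_int hN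
  obtain ⟨x, hx, hxy⟩ := hbijOn.surjOn (η.t_mem_M B ⟨y, hy⟩)
  refine ⟨x, hx, ?_⟩
  have := generic_eq' η p0 B.val.toRingHom Subtype.val_injective f (fun r => rfl) x ⟨y, hy⟩
    hxy.symm
  exact this.symm

end CharPCase

end Groth.Agent.Lib.helper2.EtaPtLib
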