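import Mathlib
import Groth.Agent.Lib.Helper2.FibreRank

set_option autoImplicit false
universe u v
open TensorProduct

namespace Groth.Agent.Lib.helper2.FibreRank

noncomputable section

section Cancel
variable {A : Type u} [CommRing A] (R : Type u) [CommRing R] [Algebra A R]
  (k : Type u) [CommRing k] [Algebra A k] [Algebra R k] [IsScalarTower A R k]
  {X Y Z : Type v} [AddCommGroup X] [AddCommGroup Y] [AddCommGroup Z]
  [Module A X] [Module A Y] [Module A Z]

lemma cancel_naturality (f : X →ₗ[A] Y) (z : k ⊗[R] (R ⊗[A] X)) :
    TensorProduct.AlgebraTensorModule.cancelBaseChange A R k k Y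
        (LinearMap.lTensor k (f.baseChange R) z) =
      LinearMap.lTensor k f (TensorProduct.AlgebraTensorModule.cancelBaseChange A R k k X z) := by
  induction z using TensorProduct.induction_on with
  | zero => simp
  | tmul c w =>
    induction w using TensorProduct.induction_on with
    | zero => simp
    | tmul r x => simp
    | add w w' hw hw' =>
      rw [TensorProduct.tmul_add, map_add, map_add, map_add, map_add, hw, hw']
  | add z z' hz hz' => rw [map_add, map_add, map_add, map_add, hz, hz']

/-- (T) -/
lemma lTensor_injective_of_localized_flat [Module.Flat A R] (f : X →ₗ[A] Y) (g : Y →ₗ[A] Z)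
    (hf : Function.Injective f) (hg : Function.Surjective g) (hex : Function.Exact f g)
    (hZ : Module.Flat R (R ⊗[A] Z)) : Function.Injective (LinearMap.lTensor k f) := by
  have hfR : Function.Injective (f.baseChange R) :=
    Module.Flat.lTensor_preserves_injective_linearMap (M := R) f hf
  have hgR : Function.Surjective (g.baseChange R) := LinearMap.lTensor_surjective R hg
  have hexR : Function.Exact (f.baseChange R) (g.baseChange R) := lTensor_exact R hex hg
  have hinj : Function.Injective (LinearMap.lTensor k (f.baseChange R)) :=
    LinearMap.lTensor_injective_of_exact_of_flat (g.baseChange R) hgR (f.baseChange R) hfR hexR k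
  intro a b hab
  obtain ⟨a', rfl⟩ := (TensorProduct.AlgebraTensorModule.cancelBaseChange A R k k X).surjective a
  obtain ⟨b', rfl⟩ := (TensorProduct.AlgebraTensorModule.cancelBaseChange A R k k X).surjective b
  rw [← cancel_naturality, ← cancel_naturality] at hab
  have := hinj ((TensorProduct.AlgebraTensorModule.cancelBaseChange A R k k Y).injective hab)
  rw [this]

lemma lTensor_injective_localized_of_injective (f : X →ₗ[A] Y)
    (h : Function.Injective (LinearMap.lTensor k f)) :
    Function.Injective (LinearMap.lTensor k (f.baseChange R)) := by
  intro a b hab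
  apply (TensorProduct.AlgebraTensorModule.cancelBaseChange A R k k X).injective
  apply h
  rw [← cancel_naturality, ← cancel_naturality, hab]

end Cancel

section Exchange
variable {A : Type u} [CommRing A] [IsNoetherianRing A]
  {M F : Type v} [AddCommGroup M] [Module A M] [Module.Finite A M]
  [AddCommGroup F] [Module A F] [Module.Finite A F] [Module.Free A F]
  (δ : M →ₗ[A] F) (p : Ideal A) [p.IsPrime]

omit [IsNoetherianRing A] [Module.Finite A M] [Module.Finite A F] [Module.Free A F] in
lemma exact_ker_rangeRestrict : Function.Exact (LinearMap.ker δ).subtype δ.rangeRestrict := by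
  rw [LinearMap.exact_iff, LinearMap.ker_rangeRestrict, Submodule.range_subtype]

omit [IsNoetherianRing A] [Module.Finite A M] [Module.Finite A F] [Module.Free A F] in
/-- Step 1 -/
lemma injective_lTensor_range_of_exact
    (h : Function.Exact (LinearMap.lTensor p.ResidueField (LinearMap.ker δ).subtype)
        (LinearMap.lTensor p.ResidueField δ)) :
    Function.Injective (LinearMap.lTensor p.ResidueField (LinearMap.range δ).subtype) := by
  rw [injective_iff_map_eq_zero]
  intro b hb
  obtain ⟨m, rfl⟩ := LinearMap.lTensor_surjective p.ResidueField δ.surjective_rangeRestrict b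
  have h1 : LinearMap.lTensor p.ResidueField δ m = 0 := by
    have : δ = (LinearMap.range δ).subtype ∘ₗ δ.rangeRestrict := rfl
    rw [this, LinearMap.lTensor_comp, LinearMap.comp_apply]
    exact hb
  obtain ⟨z, rfl⟩ := (h m).mp h1
  rw [← LinearMap.comp_apply, ← LinearMap.lTensor_comp]
  have : δ.rangeRestrict ∘ₗ (LinearMap.ker δ).subtype = 0 := by
    apply LinearMap.ext
    intro x
    apply Subtype.ext
    exact x.2
  rw [this, LinearMap.lTensor_zero, LinearMap.zero_apply]

/-- Step 2 -/
lemma free_coker_of_injective
    (h : Function.Injective (LinearMap.lTensor p.ResidueField (LinearMap.range δ).subtype)) :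
    Module.Free (Localization.AtPrime p)
      (Localization.AtPrime p ⊗[A] (F ⧸ LinearMap.range δ)) := by
  have hf := lTensor_injective_localized_of_injective (Localization.AtPrime p) p.ResidueField
    (LinearMap.range δ).subtype h
  exact Module.free_of_lTensor_residueField_injective
    ((LinearMap.range δ).subtype.baseChange (Localization.AtPrime p))
    ((LinearMap.range δ).mkQ.baseChange (Localization.AtPrime p))
    (LinearMap.lTensor_surjective _ (Submodule.mkQ_surjective _))
    (lTensor_exact _ (LinearMap.exact_subtype_mkQ _) (Submodule.mkQ_surjective _)) hf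

omit [IsNoetherianRing A] [Module.Finite A M] [Module.Finite A F] in
lemma flat_range_localized
    (hC : Module.Flat (Localization.AtPrime p)
      (Localization.AtPrime p ⊗[A] (F ⧸ LinearMap.range δ))) :
    Module.Flat (Localization.AtPrime p) (Localization.AtPrime p ⊗[A] (LinearMap.range δ)) := by
  exact flat_of_exact_left'
    ((LinearMap.range δ).subtype.baseChange (Localization.AtPrime p))
    ((LinearMap.range δ).mkQ.baseChange (Localization.AtPrime p))
    (Module.Flat.lTensor_preserves_injective_linearMap (M := Localization.AtPrime p) _
      Subtype.val_injective)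
    (LinearMap.lTensor_surjective _ (Submodule.mkQ_surjective _))
    (lTensor_exact _ (LinearMap.exact_subtype_mkQ _) (Submodule.mkQ_surjective _))

omit [IsNoetherianRing A] [Module.Finite A M] [Module.Finite A F] in
/-- Step 3 -/
lemma exact_and_injective_of_flat_coker
    (hC : Module.Flat (Localization.AtPrime p)
      (Localization.AtPrime p ⊗[A] (F ⧸ LinearMap.range δ))) :
    Function.Exact (LinearMap.lTensor p.ResidueField (LinearMap.ker δ).subtype)
        (LinearMap.lTensor p.ResidueField δ) ∧
      Function.Injective (LinearMap.lTensor p.ResidueField (LinearMap.ker δ).subtype) := by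
  have hB := flat_range_localized δ p hC
  have T1 : Function.Injective (LinearMap.lTensor p.ResidueField (LinearMap.range δ).subtype) :=
    lTensor_injective_of_localized_flat (Localization.AtPrime p) p.ResidueField
      (LinearMap.range δ).subtype (LinearMap.range δ).mkQ Subtype.val_injective
      (Submodule.mkQ_surjective _) (LinearMap.exact_subtype_mkQ _) hC
  have T2 : Function.Injective (LinearMap.lTensor p.ResidueField (LinearMap.ker δ).subtype) :=
    lTensor_injective_of_localized_flat (Localization.AtPrime p) p.ResidueField
      (LinearMap.ker δ).subtype δ.rangeRestrict Subtype.val_injective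
      δ.surjective_rangeRestrict (exact_ker_rangeRestrict δ) hB
  refine ⟨?_, T2⟩
  have hex := lTensor_exact p.ResidueField (exact_ker_rangeRestrict δ) δ.surjective_rangeRestrict
  intro m
  rw [← hex m]
  have : δ = (LinearMap.range δ).subtype ∘ₗ δ.rangeRestrict := rfl
  conv_lhs => rw [this, LinearMap.lTensor_comp, LinearMap.comp_apply]
  constructor
  · intro h
    exact T1 (by rw [h, map_zero])
  · intro h
    rw [h, map_zero]

/-- S14608 -/
lemma exchange_tfae :
    [ Function.Exact (LinearMap.lTensor p.ResidueField (LinearMap.ker δ).subtype)
        (LinearMap.lTensor p.ResidueField δ),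
      Function.Exact (LinearMap.lTensor p.ResidueField (LinearMap.ker δ).subtype)
        (LinearMap.lTensor p.ResidueField δ) ∧
        Function.Injective (LinearMap.lTensor p.ResidueField (LinearMap.ker δ).subtype),
      Module.Free (Localization.AtPrime p)
        (LocalizedModule p.primeCompl (F ⧸ LinearMap.range δ)) ].TFAE ∧
    (Function.Exact (LinearMap.lTensor p.ResidueField (LinearMap.ker δ).subtype)
        (LinearMap.lTensor p.ResidueField δ) →
      Module.Free (Localization.AtPrime p)
        (LocalizedModule p.primeCompl (LinearMap.range δ))) := by
  have h13 : Function.Exact (LinearMap.lTensor p.ResidueField (LinearMap.ker δ).subtype)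
        (LinearMap.lTensor p.ResidueField δ) →
      Module.Free (Localization.AtPrime p)
        (Localization.AtPrime p ⊗[A] (F ⧸ LinearMap.range δ)) := fun h =>
    free_coker_of_injective δ p (injective_lTensor_range_of_exact δ p h)
  constructor
  · tfae_have 1 → 3 := fun h => by
      haveI := h13 h
      exact Module.Free.of_equiv
        (LocalizedModule.equivTensorProduct p.primeCompl (F ⧸ LinearMap.range δ)).symm
    tfae_have 3 → 2 := fun h => by
      haveI := h
      haveI : Module.Free (Localization.AtPrime p)
          (Localization.AtPrime p ⊗[A] (F ⧸ LinearMap.range δ)) :=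
        Module.Free.of_equiv
          (LocalizedModule.equivTensorProduct p.primeCompl (F ⧸ LinearMap.range δ))
      exact exact_and_injective_of_flat_coker δ p inferInstance
    tfae_have 2 → 1 := fun h => h.1
    tfae_finish
  · intro h
    haveI := h13 h
    haveI hB : Module.Flat (Localization.AtPrime p)
        (Localization.AtPrime p ⊗[A] (LinearMap.range δ)) :=
      flat_range_localized δ p inferInstance
    haveI : Module.Free (Localization.AtPrime p)
        (Localization.AtPrime p ⊗[A] (LinearMap.range δ)) :=
      Module.free_of_flat_of_isLocalRing
    exact Module.Free.of_equiv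
      (LocalizedModule.equivTensorProduct p.primeCompl (LinearMap.range δ)).symm

end Exchange

end

end Groth.Agent.Lib.helper2.FibreRank
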