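import Groth.Agent.Lib.Helper15.ResGen
import Groth.Agent.Lib.Helper3.DimIneq
import Groth.Prelude.Def_Cyc

/-!
# helper2: transcendence degree of a compositum; the dimension inequality on a fibre product
-/

set_option autoImplicit false
universe u

open CategoryTheory CategoryTheory.Limits AlgebraicGeometry Cardinal

namespace Groth.Agent.Lib.helper2.ExtProd

open Groth.Agent.Lib.helper3.DimIneq Algebra

/-- If the field `L` is generated by the images of `E` and `F`, and the image of `k → F → L` lies
in the image of `E`, then `trdeg_E L ≤ trdeg_k F`. -/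
theorem td_le_of_closure {k F E L : Type u} [Field k] [Field F] [Field E] [Field L]
    (a : k →+* F) (b : F →+* L) (c : E →+* L)
    (h1 : ∀ t : k, b (a t) ∈ c.range)
    (h2 : Subfield.closure (Set.range c ∪ Set.range b) = ⊤) :
    td c ≤ td a := by
  letI := a.toAlgebra
  letI := b.toAlgebra
  letI := c.toAlgebra
  obtain ⟨s, hs⟩ := exists_isTranscendenceBasis k F
  set T' : Set L := b '' s with hT'
  have hmem : ∀ t ∈ Algebra.adjoin k (Set.range ((↑) : s → F)), b t ∈ Algebra.adjoin E T' := by
    intro t ht
    induction ht using Algebra.adjoin_induction with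
    | mem x hx =>
      obtain ⟨y, rfl⟩ := hx
      exact Algebra.subset_adjoin ⟨y.1, y.2, rfl⟩
    | algebraMap r =>
      obtain ⟨e, he⟩ := h1 r
      have : b (algebraMap k F r) = algebraMap E L e := he.symm
      rw [this]
      exact Subalgebra.algebraMap_mem _ e
    | add x y _ _ hx hy => rw [map_add]; exact Subalgebra.add_mem _ hx hy
    | mul x y _ _ hx hy => rw [map_mul]; exact Subalgebra.mul_mem _ hx hy
  let ψ : Algebra.adjoin k (Set.range ((↑) : s → F)) →+* Algebra.adjoin E T' :=
    (b.comp (Algebra.adjoin k (Set.range ((↑) : s → F))).val.toRingHom).codRestrict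
      (Algebra.adjoin E T') (fun t => hmem t.1 t.2)
  have hψ : Function.Injective ψ := by
    intro x y hxy
    have : b x.1 = b y.1 := congrArg Subtype.val hxy
    exact Subtype.ext (b.injective this)
  have halg : Algebra.IsAlgebraic (Algebra.adjoin E T') L := by
    let C := Subalgebra.algebraicClosure (Algebra.adjoin E T') L
    let Fd : Subfield L :=
      { carrier := C
        mul_mem' := C.mul_mem
        one_mem' := C.one_mem
        add_mem' := C.add_mem
        zero_mem' := C.zero_mem
        neg_mem' := C.neg_mem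
        inv_mem' := fun x hx => (Subalgebra.mem_algebraicClosure _ _).2
          ((Subalgebra.mem_algebraicClosure _ _).1 hx).inv }
    have hle : Subfield.closure (Set.range c ∪ Set.range b) ≤ Fd := by
      rw [Subfield.closure_le]
      rintro z (⟨e, rfl⟩ | ⟨y, rfl⟩)
      · exact (Subalgebra.mem_algebraicClosure _ _).2 (isAlgebraic_algebraMap
          (⟨c e, Subalgebra.algebraMap_mem _ e⟩ : Algebra.adjoin E T'))
      · have hy : IsAlgebraic (Algebra.adjoin k (Set.range ((↑) : s → F))) y :=
          hs.isAlgebraic.isAlgebraic y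
        exact (Subalgebra.mem_algebraicClosure _ _).2 (hy.ringHom_of_comp_eq ψ b hψ rfl)
    constructor
    intro z
    have hz : z ∈ Subfield.closure (Set.range c ∪ Set.range b) := h2 ▸ Subfield.mem_top z
    exact (Subalgebra.mem_algebraicClosure _ _).1 (hle hz)
  calc td c = Algebra.trdeg E L := rfl
    _ ≤ #T' := Algebra.IsAlgebraic.trdeg_le_cardinalMk E T'
    _ ≤ #s := Cardinal.mk_image_le
    _ = Algebra.trdeg k F := hs.cardinalMk_eq_trdeg

end Groth.Agent.Lib.helper2.ExtProd

namespace Groth.Agent.Lib.helper2.ExtProd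

open Groth.Agent.Lib.helper3.DimIneq Algebra

theorem td_comp {D B C : Type u} [Field D] [Field B] [Field C]
    (α : D →+* B) (β : B →+* C) : td (β.comp α) = td α + td β := by
  letI := α.toAlgebra; letI := β.toAlgebra
  letI : Algebra D C := (β.comp α).toAlgebra
  haveI : IsScalarTower D B C := IsScalarTower.of_algebraMap_eq (fun x => rfl)
  exact (trdeg_add_eq D B (A := C)).symm

theorem range_residueFieldMap_congr {P S : Scheme.{u}} (h h' : P ⟶ S) (e : h = h') (z : P)
    (t : S.residueField (h z)) :
    ∃ t' : S.residueField (h' z), (h.residueFieldMap z).hom t = (h'.residueFieldMap z).hom t' := by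
  subst e
  exact ⟨t, rfl⟩

theorem td_residueFieldMap_congr {P S : Scheme.{u}} (h h' : P ⟶ S) (e : h = h') (z : P) :
    td (h.residueFieldMap z).hom = td (h'.residueFieldMap z).hom := by
  subst e
  rfl

variable {X Y S : Scheme.{u}} (f : X ⟶ S) (g : Y ⟶ S)

/-- the residue field of `z ∈ X ×_S Y` has transcendence degree over `κ(pr₁ z)` at most that of
`κ(pr₂ z)` over `κ(g (pr₂ z))`. -/
theorem td_fst_le (z : ↥(pullback f g)) :
    td ((pullback.fst f g).residueFieldMap z).hom ≤
      td (g.residueFieldMap (pullback.snd f g z)).hom := by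
  refine td_le_of_closure _ ((pullback.snd f g).residueFieldMap z).hom _ ?_
    (Groth.Agent.Lib.helper15.ResGen.closure_range_residueFieldMap_eq_top f g z)
  intro t
  have h1 : ((pullback.snd f g).residueFieldMap z).hom
      ((g.residueFieldMap (pullback.snd f g z)).hom t) =
      ((pullback.snd f g ≫ g).residueFieldMap z).hom t := by
    rw [Scheme.residueFieldMap_comp]
    rfl
  obtain ⟨t', ht'⟩ := range_residueFieldMap_congr (pullback.snd f g ≫ g) (pullback.fst f g ≫ f)
    pullback.condition.symm z t
  rw [h1, ht', Scheme.residueFieldMap_comp]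
  exact ⟨(f.residueFieldMap (pullback.fst f g z)).hom t', rfl⟩

theorem td_snd_le (z : ↥(pullback f g)) :
    td ((pullback.snd f g).residueFieldMap z).hom ≤
      td (f.residueFieldMap (pullback.fst f g z)).hom := by
  refine td_le_of_closure _ ((pullback.fst f g).residueFieldMap z).hom _ ?_ ?_
  · intro t
    have h1 : ((pullback.fst f g).residueFieldMap z).hom
        ((f.residueFieldMap (pullback.fst f g z)).hom t) =
        ((pullback.fst f g ≫ f).residueFieldMap z).hom t := by
      rw [Scheme.residueFieldMap_comp]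
      rfl
    obtain ⟨t', ht'⟩ := range_residueFieldMap_congr (pullback.fst f g ≫ f) (pullback.snd f g ≫ g)
      pullback.condition z t
    rw [h1, ht', Scheme.residueFieldMap_comp]
    exact ⟨(g.residueFieldMap (pullback.snd f g z)).hom t', rfl⟩
  · rw [Set.union_comm]
    exact Groth.Agent.Lib.helper15.ResGen.closure_range_residueFieldMap_eq_top f g z

end Groth.Agent.Lib.helper2.ExtProd

namespace Groth.Agent.Lib.helper2.ExtProd

open Groth.Agent.Lib.helper3.DimIneq Algebra

variable {X Y S : Scheme.{u}} (f : X ⟶ S) (g : Y ⟶ S)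

theorem td_comp_residueFieldMap {P Q R : Scheme.{u}} (p : P ⟶ Q) (q : Q ⟶ R) (z : P) :
    td ((p ≫ q).residueFieldMap z).hom =
      td (q.residueFieldMap (p z)).hom + td (p.residueFieldMap z).hom := by
  rw [Scheme.residueFieldMap_comp]
  exact td_comp _ _

/-- **Dimension inequality on a fibre product** for the dimension functions induced from the base
(with `δ_S = 0`): `δ z ≤ δX (pr₁ z) + δY (pr₂ z)`, `δX (pr₁ z) ≤ δ z`, `δY (pr₂ z) ≤ δ z`. -/
theorem delta_le_add (δX : X → ℤ) (δY : Y → ℤ) (δ : ↥(pullback f g) → ℤ)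
    (hX : Cyc.DeltaCompat f δX (fun _ => 0)) (hY : Cyc.DeltaCompat g δY (fun _ => 0))
    (hXY : Cyc.DeltaCompat (pullback.fst f g ≫ f) δ (fun _ => 0)) (z : ↥(pullback f g)) :
    δ z ≤ δX (pullback.fst f g z) + δY (pullback.snd f g z) ∧
      δX (pullback.fst f g z) ≤ δ z ∧ δY (pullback.snd f g z) ≤ δ z := by
  obtain ⟨N, hN, hδz⟩ := hXY z
  obtain ⟨nX, hnX, hδx⟩ := hX (pullback.fst f g z)
  obtain ⟨nY, hnY, hδy⟩ := hY (pullback.snd f g z)
  have hN' : td ((pullback.fst f g ≫ f).residueFieldMap z).hom = (N : Cardinal.{u}) := hN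
  have hnX' : td (f.residueFieldMap (pullback.fst f g z)).hom = (nX : Cardinal.{u}) := hnX
  have hnY' : td (g.residueFieldMap (pullback.snd f g z)).hom = (nY : Cardinal.{u}) := hnY
  have h1 := td_comp_residueFieldMap (pullback.fst f g) f z
  have h2 := td_comp_residueFieldMap (pullback.snd f g) g z
  rw [← td_residueFieldMap_congr _ _ pullback.condition z] at h2
  rw [hN', hnX'] at h1
  rw [hN', hnY'] at h2
  have h3 := td_fst_le f g z
  rw [hnY'] at h3
  have h4 := td_snd_le f g z
  rw [hnX'] at h4
  obtain ⟨k, hk⟩ := Cardinal.lt_aleph0.1 (lt_of_le_of_lt h3 (Cardinal.natCast_lt_aleph0 (n := nY)))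
  obtain ⟨l, hl⟩ := Cardinal.lt_aleph0.1 (lt_of_le_of_lt h4 (Cardinal.natCast_lt_aleph0 (n := nX)))
  rw [hk] at h1 h3
  rw [hl] at h2 h4
  have e1 : N = nX + k := by exact_mod_cast h1
  have e2 : N = nY + l := by exact_mod_cast h2
  have e3 : k ≤ nY := by exact_mod_cast h3
  simp only [zero_add] at hδz hδx hδy
  rw [hδz, hδx, hδy]
  refine ⟨?_, ?_, ?_⟩
  · exact_mod_cast (by omega : N ≤ nX + nY)
  · exact_mod_cast (by omega : nX ≤ N)
  · exact_mod_cast (by omega : nY ≤ N)

end Groth.Agent.Lib.helper2.ExtProd
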