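import Groth.Agent.Lib.Helper2.DevSch10

/-!
# helper2: the flat pullback of a cycle at the generizations of an arbitrary point
(generalization of `DevSch.pullFun_gen`, needing only the inequality `δX ≤ δY ∘ f + e`)
-/

set_option autoImplicit false
universe u
open CategoryTheory CategoryTheory.Limits AlgebraicGeometry TopologicalSpace Opposite IsLocalRing
  TensorProduct

namespace Groth.Agent.Lib.helper2.ExtProd

open Groth.Agent.Lib.helper16.OrdGen Groth.Agent.Lib.helper16.GenFib
  Groth.Agent.Lib.helper16.DivSum Groth.Agent.Lib.helper16.StalkLoc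
  Groth.Agent.Lib.helper16.CohStalk Groth.Agent.Lib.helper16.CycFlat
  Groth.Agent.Lib.helper16.FinDeg
  Groth.Agent.Lib.helper17.FibreStalk Groth.Agent.Lib.helper17.StalkPullback
  Groth.Agent.Lib.helper26.HS Groth.Agent.Lib.helper2.Dev Groth.Agent.Lib.helper2.Aus
  Groth.Agent.Lib.helper2.DevSch

variable {X Y : Scheme.{u}} (f : X ⟶ Y)

open Classical in
/-- the flat pullback of a cycle at a generization of `x`, in terms of the weights of the modules
`O_x/𝔭 O_x`; `x` arbitrary. -/
theorem pullFun_gen' [IsLocallyNoetherian X]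
    (δX : X → ℤ) (δY : Y → ℤ) (hX : Cyc.IsDimFun X δX)
    (hY : Cyc.IsDimFun Y δY) (e : ℕ) (hle : ∀ x' : X, δX x' ≤ δY (f x') + e)
    (α : Y → ℤ) (r : ℤ) (hα : ∀ y, δY y ≠ r → α y = 0) (x : X)
    (a : ℕ) (ha : r + e = δX x + a) (P' : PrimeSpectrum (X.presheaf.stalk x))
    (h₀ : f (X.fromSpecStalk x P') ⤳ f x) (P : PrimeSpectrum (Y.presheaf.stalk (f x))) :
    α (Y.fromSpecStalk (f x) P) *
        wt a (X.presheaf.stalk x ⧸ P.asIdeal.map (f.stalkMap x).hom) P' =
      if P = pr h₀ then Cyc.pullFun f δX δY e α (X.fromSpecStalk x P') else 0 := by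
  have h' : X.fromSpecStalk x P' ⤳ x := specializes_fromSpecStalk x P'
  obtain ⟨k, hk1, hk2⟩ := delta_gen δX hX x P'
  have h4 := hle (X.fromSpecStalk x P')
  by_cases hP : P = pr h₀
  · rw [if_pos hP, hP]
    show α (Y.fromSpecStalk (f x) (pr h₀)) *
      wt a (X.presheaf.stalk x ⧸ (pOf h₀).map (f.stalkMap x).hom) P' = _
    rw [gen_pr h₀]
    by_cases hα0 : α (f (X.fromSpecStalk x P')) = 0
    · rw [hα0, zero_mul]
      unfold Cyc.pullFun
      split_ifs
      · rw [hα0, zero_mul]
      · rfl
    · have hr : δY (f (X.fromSpecStalk x P')) = r := by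
        by_contra hc
        exact hα0 (hα _ hc)
      unfold Cyc.pullFun wt
      by_cases hc : δX (X.fromSpecStalk x P') = δY (f (X.fromSpecStalk x P')) + e
      · have hka : k = a := by omega
        rw [if_pos hc, if_pos (by rw [hk2, hka])]
        have := locLen_quot_map_eq_fibRing f h' h₀
        rw [pr_gen x P'] at this
        rw [this]
      · have hka : k ≠ a := by omega
        rw [if_neg hc, if_neg (by rw [hk2]; exact_mod_cast hka), mul_zero]
  · rw [if_neg hP]
    by_contra hne
    have h1 : α (Y.fromSpecStalk (f x) P) ≠ 0 := left_ne_zero_of_mul hne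
    have h2 : wt a (X.presheaf.stalk x ⧸ P.asIdeal.map (f.stalkMap x).hom) P' ≠ 0 :=
      right_ne_zero_of_mul hne
    have hd : ringKrullDim (X.presheaf.stalk x ⧸ P'.asIdeal) = (a : WithBot ℕ∞) := by
      by_contra hc
      apply h2
      unfold wt
      rw [if_neg hc]
    have hl : P' ∈ Module.support (X.presheaf.stalk x)
        (X.presheaf.stalk x ⧸ P.asIdeal.map (f.stalkMap x).hom) := by
      by_contra hc
      apply h2
      unfold wt
      rw [locLen_eq_zero_iff.2 hc]
      simp
    have hsp := gen_specializes_map_gen f x P P' (le_of_mem_support_quot _ _ hl)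
    have hr : δY (Y.fromSpecStalk (f x) P) = r := by
      by_contra hc
      exact h1 (hα _ hc)
    have hka : k = a := by
      rw [hk2] at hd
      exact_mod_cast hd
    have heq : Y.fromSpecStalk (f x) P = f (X.fromSpecStalk x P') := by
      by_contra hne'
      have := (hY _ _ hsp hne').1
      omega
    apply hP
    rw [← pr_gen (f x) P]
    exact PrimeSpectrum.ext (pOf_congr heq _ _)

end Groth.Agent.Lib.helper2.ExtProd

namespace Groth.Agent.Lib.helper2.ExtProd

open Groth.Agent.Lib.helper16.OrdGen Groth.Agent.Lib.helper16.GenFib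
  Groth.Agent.Lib.helper16.DivSum Groth.Agent.Lib.helper16.StalkLoc
  Groth.Agent.Lib.helper16.CohStalk Groth.Agent.Lib.helper16.CycFlat
  Groth.Agent.Lib.helper16.FinDeg
  Groth.Agent.Lib.helper17.FibreStalk Groth.Agent.Lib.helper17.StalkPullback
  Groth.Agent.Lib.helper26.HS Groth.Agent.Lib.helper2.Dev Groth.Agent.Lib.helper2.Aus
  Groth.Agent.Lib.helper2.DevSch

variable {X Y : Scheme.{u}} (f : X ⟶ Y)

/-- at a point `x` with `δY (f x) = r`, the pullback of an `r`-cycle `α` among the generizations
of `x` is `α (f x)` times the cycle of the module `O_x/𝔪_{f x} O_x`. -/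
theorem pullFun_gen_closed [IsLocallyNoetherian X]
    (δX : X → ℤ) (δY : Y → ℤ) (hX : Cyc.IsDimFun X δX)
    (hY : Cyc.IsDimFun Y δY) (e : ℕ) (hle : ∀ x' : X, δX x' ≤ δY (f x') + e)
    (α : Y → ℤ) (r : ℤ) (hα : ∀ y, δY y ≠ r → α y = 0) (x : X) (hfx : δY (f x) = r)
    (a : ℕ) (ha : r + e = δX x + a) (P' : PrimeSpectrum (X.presheaf.stalk x)) :
    Cyc.pullFun f δX δY e α (X.fromSpecStalk x P') =
      α (f x) * wt a (X.presheaf.stalk x ⧸
        (maximalIdeal (Y.presheaf.stalk (f x))).map (f.stalkMap x).hom) P' := by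
  have h₀ := map_gen_specializes f x P'
  have key := pullFun_gen' f δX δY hX hY e hle α r hα x a ha P' h₀
    (closedPoint (Y.presheaf.stalk (f x)))
  rw [Scheme.fromSpecStalk_closedPoint] at key
  have hcl : (closedPoint (Y.presheaf.stalk (f x))).asIdeal =
      maximalIdeal (Y.presheaf.stalk (f x)) := rfl
  rw [hcl] at key
  rw [key]
  split_ifs with hP
  · rfl
  · by_contra hne
    unfold Cyc.pullFun at hne
    split_ifs at hne with hc
    · have hα0 : α (f (X.fromSpecStalk x P')) ≠ 0 := left_ne_zero_of_mul hne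
      have hr : δY (f (X.fromSpecStalk x P')) = r := by
        by_contra h
        exact hα0 (hα _ h)
      have heq : f (X.fromSpecStalk x P') = f x := by
        by_contra hne'
        have := (hY _ _ h₀ hne').1
        omega
      apply hP
      apply gen_injective (f x)
      rw [Scheme.fromSpecStalk_closedPoint, gen_pr]
      exact heq.symm
    · exact hne rfl

end Groth.Agent.Lib.helper2.ExtProd
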