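import Groth.Agent.Lib.Helper2.IM1

/-!
# helper2: `χ(A/I, A/(g)) = length A/(I + (g))` for `g` regular on `A` and on `A/I`
-/

universe u

open CategoryTheory Category Limits MonoidalCategory TensorProduct

namespace Groth.Agent.Lib.helper2.IM

open Groth.Agent.Lib.helper7.TorAPI

variable {A : Type u} [CommRing A]

lemma smul_top_quot (I J : Ideal A) :
    (I • (⊤ : Submodule A (A ⧸ J))) = Submodule.map J.mkQ (I ⊔ J) := by
  have h1 : (⊤ : Submodule A (A ⧸ J)) = Submodule.map J.mkQ (⊤ : Submodule A A) := by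
    rw [Submodule.map_top, Submodule.range_mkQ]
  rw [h1, ← Submodule.map_smul'', Submodule.map_sup]
  have h2 : Submodule.map J.mkQ J = ⊥ := by
    rw [← LinearMap.le_ker_iff_map, Submodule.ker_mkQ]
  have h3 : I • (⊤ : Submodule A A) = I := by
    exact Ideal.mul_top I
  rw [h2, h3, sup_bot_eq]

/-- `(A/I) ⊗ (A/J) ≃ A/(I + J)`. -/
noncomputable def tensorQuotEquiv (I J : Ideal A) :
    ((A ⧸ I) ⊗[A] (A ⧸ J)) ≃ₗ[A] (A ⧸ (I ⊔ J)) :=
  (TensorProduct.quotTensorEquivQuotSMul (A ⧸ J) I) ≪≫ₗ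
    (Submodule.quotEquivOfEq _ _ (smul_top_quot I J)) ≪≫ₗ
    (Submodule.quotientQuotientEquivQuotient J (I ⊔ J) le_sup_right)

theorem chi_eq_length (I : Ideal A) (g : A) (hg : IsSMulRegular A g)
    (hgI : IsSMulRegular (A ⧸ I) g) :
    IntMult.chi A (A ⧸ I) (A ⧸ Ideal.span {g}) =
      ((Module.length A (A ⧸ (I ⊔ Ideal.span {g}))).toNat : ℤ) := by
  unfold IntMult.chi
  rw [finsum_eq_single _ 0]
  · rw [pow_zero, one_mul]
    congr 2
    have e1 : DRing.Tor A 0 (A ⧸ I) (A ⧸ Ideal.span {g}) ≃ₗ[A]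
        ((A ⧸ I) ⊗[A] (A ⧸ Ideal.span {g})) :=
      ((tor0Iso (ModuleCat.of A (A ⧸ I))).app (ModuleCat.of A (A ⧸ Ideal.span {g}))).toLinearEquiv
    exact (e1 ≪≫ₗ tensorQuotEquiv I (Ideal.span {g})).length_eq
  · intro i hi
    obtain ⟨n, rfl⟩ : ∃ n, i = n + 1 := Nat.exists_eq_succ_of_ne_zero hi
    have hz : Subsingleton (DRing.Tor A (n + 1) (A ⧸ I) (A ⧸ Ideal.span {g})) := by
      rcases n with _ | n
      · exact ModuleCat.subsingleton_of_isZero (isZero_T_one (A ⧸ I) g hg hgI)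
      · exact ModuleCat.subsingleton_of_isZero (isZero_T_add_two _ g hg n)
    rw [Module.length_eq_zero]
    simp

end Groth.Agent.Lib.helper2.IM
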