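import Groth.Agent.Lib.Helper2.Diag3
import Groth.Agent.Lib.Helper2.IM2

/-!
# helper2: Tor-independence of `B/IB'` and `B/qB` over a flat `A`-algebra `B` when the first is
flat over `A`; the Euler characteristic is then a length
-/

universe u

open CategoryTheory CategoryTheory.Limits TensorProduct

namespace Groth.Agent.Lib.helper2.ExtProd

open Groth.Agent.Lib.helper7 Groth.Agent.Lib.helper7.TorBC Groth.Agent.Lib.helper7.TorAPI

theorem isZero_T_flat_left (A B : Type u) [CommRing A] [CommRing B] [Algebra A B]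
    [Module.Flat A B] (N : Type u) [AddCommGroup N] [Module B N] [Module A N]
    [IsScalarTower A B N] [Module.Flat A N] (q : Ideal A) (n : ℕ) :
    IsZero ((TorAPI.T (n + 1) (ModuleCat.of B N)).obj
      (ModuleCat.of B (B ⧸ q.map (algebraMap A B)))) := by
  obtain ⟨φ, hφ⟩ := semiBij_tor A B N (n + 1) (A ⧸ q)
  have h0 : IsZero ((TorAPI.T (n + 1) (ModuleCat.of A N)).obj (ModuleCat.of A (A ⧸ q))) :=
    TorAPI.isZero_T_flat (ModuleCat.of A N) _ n
  have hsub : Subsingleton ((TorAPI.T (n + 1) (ModuleCat.of B N)).obj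
      (ModuleCat.of B (B ⊗[A] (A ⧸ q)))) := by
    haveI := ModuleCat.subsingleton_of_isZero h0
    exact hφ.2.subsingleton
  have hz : IsZero ((TorAPI.T (n + 1) (ModuleCat.of B N)).obj
      (ModuleCat.of B (B ⊗[A] (A ⧸ q)))) := ModuleCat.isZero_of_subsingleton _
  exact hz.of_iso ((TorAPI.T (n + 1) (ModuleCat.of B N)).mapIso
    (Algebra.TensorProduct.quotIdealMapEquivTensorQuot B q).toLinearEquiv.toModuleIso)

theorem chi_eq_length_of_isZero {A : Type u} [CommRing A] (I J : Ideal A)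
    (h : ∀ n, IsZero ((TorAPI.T (n + 1) (ModuleCat.of A (A ⧸ I))).obj (ModuleCat.of A (A ⧸ J)))) :
    IntMult.chi A (A ⧸ I) (A ⧸ J) = ((Module.length A (A ⧸ (I ⊔ J))).toNat : ℤ) := by
  unfold IntMult.chi
  rw [finsum_eq_single _ 0]
  · rw [pow_zero, one_mul]
    congr 2
    have e1 : DRing.Tor A 0 (A ⧸ I) (A ⧸ J) ≃ₗ[A] ((A ⧸ I) ⊗[A] (A ⧸ J)) :=
      ((tor0Iso (ModuleCat.of A (A ⧸ I))).app (ModuleCat.of A (A ⧸ J))).toLinearEquiv
    exact (e1 ≪≫ₗ Groth.Agent.Lib.helper2.IM.tensorQuotEquiv I J).length_eq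
  · intro i hi
    obtain ⟨n, rfl⟩ : ∃ n, i = n + 1 := Nat.exists_eq_succ_of_ne_zero hi
    have hz : Subsingleton (DRing.Tor A (n + 1) (A ⧸ I) (A ⧸ J)) :=
      ModuleCat.subsingleton_of_isZero (h n)
    rw [Module.length_eq_zero]
    simp

/-- `χ^B(B/I, B/qB) = length B/(I + qB)` when `B` and `B/I` are flat over `A`. -/
theorem chi_eq_length_of_flat {A B : Type u} [CommRing A] [CommRing B] (φ : A →+* B)
    (hφ : φ.Flat) (I : Ideal B) (hI : ((Ideal.Quotient.mk I).comp φ).Flat) (q : Ideal A) :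
    IntMult.chi B (B ⧸ I) (B ⧸ q.map φ) =
      ((Module.length B (B ⧸ (I ⊔ q.map φ))).toNat : ℤ) := by
  letI := φ.toAlgebra
  haveI : Module.Flat A B := hφ
  haveI : Module.Flat A (B ⧸ I) := by
    rw [← RingHom.flat_algebraMap_iff]
    exact hI
  exact chi_eq_length_of_isZero I (q.map φ) (fun n => isZero_T_flat_left A B (B ⧸ I) q n)

end Groth.Agent.Lib.helper2.ExtProd
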