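import Groth.Agent.Lib.Helper2.DiagSch3
import Groth.Agent.Lib.Helper2.DevSch2
import Groth.Agent.Lib.Helper2.ExtProd4
import Groth.Agent.Lib.Helper24.FlatDimFormula

/-!
# helper2: the local rings of `X ×_K Y`: flatness of `O_ζ/𝔪_x O_ζ` over `O_y`, dimension, and the
Tor-independence of `O_ζ/𝔪_x O_ζ` and `O_ζ/𝔪_y O_ζ`
-/

set_option autoImplicit false
universe u

open CategoryTheory CategoryTheory.Limits AlgebraicGeometry IsLocalRing

namespace Groth.Agent.Lib.helper2.ExtProd

open Groth.Agent.Lib.helper16 Groth.Agent.Lib.helper16.OrdGen Groth.Agent.Lib.helper2.Diag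
  Groth.Agent.Lib.helper2.DevSch

variable {K : Type u} [Field K] {X Y : Scheme.{u}} (f : X ⟶ Spec (CommRingCat.of K))
  (g : Y ⟶ Spec (CommRingCat.of K))

theorem flat_fst_comp_snd (I : X.IdealSheafData) :
    Flat (pullback.fst (pullback.fst f g) I.subschemeι ≫ pullback.snd f g) := by
  have sqA : IsPullback (pullback.fst (pullback.fst f g) I.subschemeι)
      (pullback.snd (pullback.fst f g) I.subschemeι) (pullback.fst f g) I.subschemeι :=
    IsPullback.of_hasPullback _ _
  have sqB : IsPullback (pullback.snd f g) (pullback.fst f g) g f :=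
    (IsPullback.of_hasPullback f g).flip
  have sq := sqA.paste_horiz sqB
  have hW : Flat (I.subschemeι ≫ f) := Groth.Agent.Lib.helper5.OverField.flat_of_field _
  exact MorphismProperty.of_isPullback sq.flip hW

theorem flat_fst_comp_fst (I : Y.IdealSheafData) :
    Flat (pullback.fst (pullback.snd f g) I.subschemeι ≫ pullback.fst f g) := by
  have sqA : IsPullback (pullback.fst (pullback.snd f g) I.subschemeι)
      (pullback.snd (pullback.snd f g) I.subschemeι) (pullback.snd f g) I.subschemeι :=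
    IsPullback.of_hasPullback _ _
  have sqB : IsPullback (pullback.fst f g) (pullback.snd f g) f g :=
    IsPullback.of_hasPullback f g
  have sq := sqA.paste_horiz sqB
  have hW : Flat (I.subschemeι ≫ g) := Groth.Agent.Lib.helper5.OverField.flat_of_field _
  exact MorphismProperty.of_isPullback sq.flip hW

theorem stalkIdeal_ptIdeal_self (x : X) :
    IntMult.stalkIdeal (IntMult.ptIdeal x) x = maximalIdeal (X.presheaf.stalk x) := by
  rw [stalkIdeal_ptIdeal (specializes_rfl : x ⤳ x)]
  exact (Groth.Agent.Lib.helper16.DivSum.pOf_eq_maximalIdeal_iff _).2 rfl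

theorem mem_support_ptIdeal (x : X) : x ∈ (IntMult.ptIdeal x).support := by
  unfold IntMult.ptIdeal
  rw [← SetLike.mem_coe, Scheme.IdealSheafData.coe_support_vanishingIdeal]
  exact subset_closure rfl

/-- `O_{Y, pr₂ ζ} → O_ζ / 𝔪_{pr₁ ζ} O_ζ` is flat. -/
theorem flat_quot_fst (ζ : ↥(pullback f g)) :
    ((Ideal.Quotient.mk ((maximalIdeal (X.presheaf.stalk (pullback.fst f g ζ))).map
      ((pullback.fst f g).stalkMap ζ).hom)).comp ((pullback.snd f g).stalkMap ζ).hom).Flat := by
  set x := pullback.fst f g ζ with hx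
  haveI := flat_fst_comp_snd f g (IntMult.ptIdeal x)
  have hz : ζ ∈ Set.range (pullback.fst (pullback.fst f g) (IntMult.ptIdeal x).subschemeι) := by
    rw [Scheme.Pullback.range_fst, Set.mem_preimage, Scheme.IdealSheafData.range_subschemeι]
    exact mem_support_ptIdeal x
  have h := flat_quot_stalkIdeal_ker (pullback.fst (pullback.fst f g)
    (IntMult.ptIdeal x).subschemeι) (pullback.snd f g) ζ hz
  refine flat_quot_congr _ ?_ h
  show IntMult.stalkIdeal ((IntMult.ptIdeal x).comap (pullback.fst f g)) ζ = _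
  rw [stalkIdeal_comap _ _ _ (mem_support_ptIdeal x), stalkIdeal_ptIdeal_self]

/-- `O_{X, pr₁ ζ} → O_ζ / 𝔪_{pr₂ ζ} O_ζ` is flat. -/
theorem flat_quot_snd (ζ : ↥(pullback f g)) :
    ((Ideal.Quotient.mk ((maximalIdeal (Y.presheaf.stalk (pullback.snd f g ζ))).map
      ((pullback.snd f g).stalkMap ζ).hom)).comp ((pullback.fst f g).stalkMap ζ).hom).Flat := by
  set y := pullback.snd f g ζ with hy
  haveI := flat_fst_comp_fst f g (IntMult.ptIdeal y)
  have hz : ζ ∈ Set.range (pullback.fst (pullback.snd f g) (IntMult.ptIdeal y).subschemeι) := by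
    rw [Scheme.Pullback.range_fst, Set.mem_preimage, Scheme.IdealSheafData.range_subschemeι]
    exact mem_support_ptIdeal y
  have h := flat_quot_stalkIdeal_ker (pullback.fst (pullback.snd f g)
    (IntMult.ptIdeal y).subschemeι) (pullback.fst f g) ζ hz
  refine flat_quot_congr _ ?_ h
  show IntMult.stalkIdeal ((IntMult.ptIdeal y).comap (pullback.snd f g)) ζ = _
  rw [stalkIdeal_comap _ _ _ (mem_support_ptIdeal y), stalkIdeal_ptIdeal_self]

end Groth.Agent.Lib.helper2.ExtProd

namespace Groth.Agent.Lib.helper2.ExtProd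

open Groth.Agent.Lib.helper16 Groth.Agent.Lib.helper16.OrdGen Groth.Agent.Lib.helper2.Diag
  Groth.Agent.Lib.helper2.DevSch Groth.Agent.Lib.Helper24.FlatDimFormula

theorem dim_le_of_flat_local {R S : Type u} [CommRing R] [CommRing S] [IsLocalRing R]
    [IsLocalRing S] [IsNoetherianRing R] [IsNoetherianRing S] (φ : R →+* S) [hl : IsLocalHom φ]
    (hφ : φ.Flat) : ringKrullDim R ≤ ringKrullDim S := by
  letI := φ.toAlgebra
  haveI : IsLocalHom (algebraMap R S) := hl
  haveI : Module.Flat R S := hφ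
  letI := isLocalRing_quotient R S
  rw [ringKrullDim_eq_add_of_flat R S]
  exact le_add_of_nonneg_right ringKrullDim_nonneg_of_nontrivial

theorem dim_add_le {A A' B : Type u} [CommRing A] [CommRing A'] [CommRing B] [IsLocalRing A]
    [IsLocalRing A'] [IsLocalRing B] [IsNoetherianRing A] [IsNoetherianRing A']
    [IsNoetherianRing B] (φ₁ : A →+* B) (φ₂ : A' →+* B) [hl₁ : IsLocalHom φ₁]
    [hl₂ : IsLocalHom φ₂] (h₁ : φ₁.Flat)
    (h₂ : ((Ideal.Quotient.mk ((maximalIdeal A).map φ₁)).comp φ₂).Flat) :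
    ringKrullDim A + ringKrullDim A' ≤ ringKrullDim B := by
  letI := φ₁.toAlgebra
  haveI : IsLocalHom (algebraMap A B) := hl₁
  haveI : Module.Flat A B := h₁
  letI := isLocalRing_quotient A B
  rw [ringKrullDim_eq_add_of_flat A B]
  refine add_le_add_right ?_ _
  haveI : IsLocalHom (Ideal.Quotient.mk ((maximalIdeal A).map (algebraMap A B))) :=
    IsLocalHom.of_surjective _ Ideal.Quotient.mk_surjective
  haveI : IsLocalHom ((Ideal.Quotient.mk ((maximalIdeal A).map (algebraMap A B))).comp φ₂) :=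
    RingHom.isLocalHom_comp _ _
  exact dim_le_of_flat_local _ h₂

variable {K : Type u} [Field K] {X Y : Scheme.{u}} (f : X ⟶ Spec (CommRingCat.of K))
  (g : Y ⟶ Spec (CommRingCat.of K))

/-- `dim O_{X,pr₁ ζ} + dim O_{Y,pr₂ ζ} ≤ dim O_{X×Y,ζ}`. -/
theorem dim_stalk_add_le [IsLocallyNoetherian X] [IsLocallyNoetherian Y]
    [IsLocallyNoetherian (pullback f g)] (ζ : ↥(pullback f g)) :
    ringKrullDim (X.presheaf.stalk (pullback.fst f g ζ)) +
      ringKrullDim (Y.presheaf.stalk (pullback.snd f g ζ)) ≤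
      ringKrullDim ((pullback f g).presheaf.stalk ζ) := by
  haveI : Flat g := Groth.Agent.Lib.helper5.OverField.flat_of_field g
  haveI : Flat (pullback.fst f g) := inferInstance
  exact dim_add_le ((pullback.fst f g).stalkMap ζ).hom ((pullback.snd f g).stalkMap ζ).hom
    (Flat.stalkMap (pullback.fst f g) ζ) (flat_quot_fst f g ζ)

/-- Tor-independence: `χ(O_ζ/𝔪_x O_ζ, O_ζ/𝔪_y O_ζ) = length O_ζ/(𝔪_x + 𝔪_y) O_ζ`. -/
theorem chi_fibre (ζ : ↥(pullback f g)) :
    IntMult.chi ((pullback f g).presheaf.stalk ζ)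
      ((pullback f g).presheaf.stalk ζ ⧸
        (maximalIdeal (X.presheaf.stalk (pullback.fst f g ζ))).map
          ((pullback.fst f g).stalkMap ζ).hom)
      ((pullback f g).presheaf.stalk ζ ⧸
        (maximalIdeal (Y.presheaf.stalk (pullback.snd f g ζ))).map
          ((pullback.snd f g).stalkMap ζ).hom) =
    ((Module.length ((pullback f g).presheaf.stalk ζ)
      ((pullback f g).presheaf.stalk ζ ⧸
        ((maximalIdeal (X.presheaf.stalk (pullback.fst f g ζ))).map
            ((pullback.fst f g).stalkMap ζ).hom ⊔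
          (maximalIdeal (Y.presheaf.stalk (pullback.snd f g ζ))).map
            ((pullback.snd f g).stalkMap ζ).hom))).toNat : ℤ) := by
  haveI : Flat f := Groth.Agent.Lib.helper5.OverField.flat_of_field f
  haveI : Flat (pullback.snd f g) := inferInstance
  exact chi_eq_length_of_flat ((pullback.snd f g).stalkMap ζ).hom
    (Flat.stalkMap (pullback.snd f g) ζ) _ (flat_quot_fst f g ζ) _

end Groth.Agent.Lib.helper2.ExtProd
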