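import Groth.Agent.Lib.Helper2.ExtProd1
import Groth.Agent.Lib.Helper2.ExtProd2
import Groth.Agent.Lib.Helper2.ExtProd3
import Groth.Agent.Lib.Helper2.ExtProd5
import Groth.Agent.Lib.Helper2.DevSch9
import Groth.Agent.Lib.Helper16.CycMV

/-!
# helper2: `pr₁^* α · pr₂^* β = α × β` on `X ×_K Y` for smooth varieties `X`, `Y` over a field
-/

set_option autoImplicit false
universe u
open CategoryTheory CategoryTheory.Limits AlgebraicGeometry TopologicalSpace Opposite IsLocalRing
  TensorProduct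

namespace Groth.Agent.Lib.helper2.ExtProd

open Groth.Agent.Lib.helper16.OrdGen Groth.Agent.Lib.helper16.GenFib
  Groth.Agent.Lib.helper16.DivSum Groth.Agent.Lib.helper16.StalkLoc
  Groth.Agent.Lib.helper16.CohStalk
  Groth.Agent.Lib.helper26.HS Groth.Agent.Lib.helper2.Dev Groth.Agent.Lib.helper2.Aus
  Groth.Agent.Lib.helper2.DevSch

variable {K : Type u} [Field K] {X Y : Scheme.{u}} (f : X ⟶ Spec (CommRingCat.of K))
  (g : Y ⟶ Spec (CommRingCat.of K))

/-- a generization `ξ'` of `ζ` whose prime contains `𝔪_{pr₁ ζ} O_ζ` lies over `pr₁ ζ`. -/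
theorem map_gen_eq_of_le {P X : Scheme.{u}} (p : P ⟶ X) (ζ : P)
    (P' : PrimeSpectrum (P.presheaf.stalk ζ))
    (hle : (maximalIdeal (X.presheaf.stalk (p ζ))).map (p.stalkMap ζ).hom ≤ P'.asIdeal) :
    p (P.fromSpecStalk ζ P') = p ζ := by
  have h₀ := map_gen_specializes p ζ P'
  have hsp := gen_specializes_map_gen p ζ (closedPoint (X.presheaf.stalk (p ζ))) P' hle
  rw [Scheme.fromSpecStalk_closedPoint] at hsp
  exact (h₀.antisymm hsp).eq


/-- the support dimension of `O_ζ/𝔪_{pr₁ ζ} O_ζ`. -/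
theorem supportDim_quot_fst_le [IsLocallyNoetherian (pullback f g)]
    (δX : X → ℤ) (δ : ↥(pullback f g) → ℤ) (hdP : Cyc.IsDimFun (pullback f g) δ)
    (m : ℕ) (hleA : ∀ z, δ z ≤ δX (pullback.fst f g z) + m) (ζ : ↥(pullback f g)) (a : ℕ)
    (ha : δX (pullback.fst f g ζ) + m = δ ζ + a) :
    Module.supportDim ((pullback f g).presheaf.stalk ζ)
      ((pullback f g).presheaf.stalk ζ ⧸
        (maximalIdeal (X.presheaf.stalk (pullback.fst f g ζ))).map
          ((pullback.fst f g).stalkMap ζ).hom) ≤ (a : WithBot ℕ∞) := by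
  refine supportDim_le_of_forall _ a (fun P' hP' => ?_)
  have heq := map_gen_eq_of_le (pullback.fst f g) ζ P' (le_of_mem_support_quot _ _ hP')
  obtain ⟨k, hk1, hk2⟩ := delta_gen δ hdP ζ P'
  have h1 := hleA ((pullback f g).fromSpecStalk ζ P')
  rw [heq] at h1
  rw [hk2]
  have : k ≤ a := by omega
  exact_mod_cast this

theorem supportDim_quot_snd_le [IsLocallyNoetherian (pullback f g)]
    (δY : Y → ℤ) (δ : ↥(pullback f g) → ℤ) (hdP : Cyc.IsDimFun (pullback f g) δ)
    (n : ℕ) (hleB : ∀ z, δ z ≤ δY (pullback.snd f g z) + n) (ζ : ↥(pullback f g)) (b : ℕ)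
    (hb : δY (pullback.snd f g ζ) + n = δ ζ + b) :
    Module.supportDim ((pullback f g).presheaf.stalk ζ)
      ((pullback f g).presheaf.stalk ζ ⧸
        (maximalIdeal (Y.presheaf.stalk (pullback.snd f g ζ))).map
          ((pullback.snd f g).stalkMap ζ).hom) ≤ (b : WithBot ℕ∞) := by
  refine supportDim_le_of_forall _ b (fun P' hP' => ?_)
  have heq := map_gen_eq_of_le (pullback.snd f g) ζ P' (le_of_mem_support_quot _ _ hP')
  obtain ⟨k, hk1, hk2⟩ := delta_gen δ hdP ζ P'
  have h1 := hleB ((pullback f g).fromSpecStalk ζ P')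
  rw [heq] at h1
  rw [hk2]
  have : k ≤ b := by omega
  exact_mod_cast this

/-- the supports of `O_ζ/𝔪_x O_ζ` and `O_ζ/𝔪_y O_ζ` meet only in the closed point when `ζ` has the
maximal possible `δ`. -/
theorem suppCond_quot_fst_snd (δX : X → ℤ) (δY : Y → ℤ) (δ : ↥(pullback f g) → ℤ)
    (hdP : Cyc.IsDimFun (pullback f g) δ)
    (hle : ∀ z, δ z ≤ δX (pullback.fst f g z) + δY (pullback.snd f g z)) (ζ : ↥(pullback f g))
    (hζ : δ ζ = δX (pullback.fst f g ζ) + δY (pullback.snd f g ζ)) :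
    SuppCond ((pullback f g).presheaf.stalk ζ)
      ((pullback f g).presheaf.stalk ζ ⧸
        (maximalIdeal (X.presheaf.stalk (pullback.fst f g ζ))).map
          ((pullback.fst f g).stalkMap ζ).hom)
      ((pullback f g).presheaf.stalk ζ ⧸
        (maximalIdeal (Y.presheaf.stalk (pullback.snd f g ζ))).map
          ((pullback.snd f g).stalkMap ζ).hom) := by
  intro Q hQ
  rw [Ideal.annihilator_quotient, Ideal.annihilator_quotient] at hQ
  have hsp := specializes_fromSpecStalk ζ Q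
  have heq1 := map_gen_eq_of_le (pullback.fst f g) ζ Q (le_sup_left.trans hQ)
  have heq2 := map_gen_eq_of_le (pullback.snd f g) ζ Q (le_sup_right.trans hQ)
  have h1 := hle ((pullback f g).fromSpecStalk ζ Q)
  rw [heq1, heq2] at h1
  have heq : (pullback f g).fromSpecStalk ζ Q = ζ := by
    by_contra hne
    have := (hdP _ _ hsp hne).1
    omega
  have := (pOf_eq_maximalIdeal_iff hsp).2 heq
  rw [pOf_fromSpecStalk ζ Q] at this
  rw [this]
  exact IsLocalRing.maximalIdeal.isMaximal _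

end Groth.Agent.Lib.helper2.ExtProd

namespace Groth.Agent.Lib.helper2.ExtProd

open Groth.Agent.Lib.helper16.OrdGen Groth.Agent.Lib.helper16.GenFib
  Groth.Agent.Lib.helper16.DivSum Groth.Agent.Lib.helper16.StalkLoc
  Groth.Agent.Lib.helper16.CohStalk
  Groth.Agent.Lib.helper26.HS Groth.Agent.Lib.helper2.Dev Groth.Agent.Lib.helper2.Aus
  Groth.Agent.Lib.helper2.DevSch

variable {K : Type u} [Field K] {X Y : Scheme.{u}} (f : X ⟶ Spec (CommRingCat.of K))
  (g : Y ⟶ Spec (CommRingCat.of K))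

set_option maxHeartbeats 1600000 in
/-- the value of `pr₁^* α · pr₂^* β` at a point `ζ` generic in `closure (pr₁ ζ) × closure (pr₂ ζ)`
with `pr₁ ζ`, `pr₂ ζ` of the dimensions of the cycles. -/
theorem interProd_pullFun_main [Smooth f] [IsIntegral X] [Smooth g] [IsIntegral Y]
    (δX : X → ℤ) (δY : Y → ℤ) (δ : ↥(pullback f g) → ℤ)
    (hX : Cyc.DeltaCompat f δX (fun _ => 0)) (hY : Cyc.DeltaCompat g δY (fun _ => 0))
    (hXY : Cyc.DeltaCompat (pullback.fst f g ≫ f) δ (fun _ => 0)) (n m : ℕ)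
    (hn : δX (genericPoint X) = n) (hm : δY (genericPoint Y) = m) (r s : ℤ)
    (α : X → ℤ) (β : Y → ℤ) (hα : ∀ x, δX x ≠ r → α x = 0) (hβ : ∀ y, δY y ≠ s → β y = 0)
    (ζ : ↥(pullback f g)) (hxr : δX (pullback.fst f g ζ) = r) (hys : δY (pullback.snd f g ζ) = s)
    (hζ : δ ζ = r + s) :
    IntMult.interProd δ (n + m) (Cyc.pullFun (pullback.fst f g) δ δX m α)
      (Cyc.pullFun (pullback.snd f g) δ δY n β) ζ = IntMult.extProd f g δX δY δ α β ζ := by
  haveI : IsLocallyNoetherian X := LocallyOfFiniteType.isLocallyNoetherian f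
  haveI : IsLocallyNoetherian Y := LocallyOfFiniteType.isLocallyNoetherian g
  haveI : IsLocallyNoetherian (pullback f g) :=
    LocallyOfFiniteType.isLocallyNoetherian (pullback.fst f g ≫ f)
  have hdX : Cyc.IsDimFun X δX := Groth.Agent.Lib.helper16.CycMV.isDimFun_of_field K f δX hX
  have hdY : Cyc.IsDimFun Y δY := Groth.Agent.Lib.helper16.CycMV.isDimFun_of_field K g δY hY
  have hdP : Cyc.IsDimFun (pullback f g) δ :=
    Groth.Agent.Lib.helper16.CycMV.isDimFun_of_field K (pullback.fst f g ≫ f) δ hXY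
  have hXn : ∀ x, δX x ≤ n := fun x => by
    have := delta_le_of_specializes δX hdX (genericPoint_specializes x)
    rwa [hn] at this
  have hYm : ∀ y, δY y ≤ m := fun y => by
    have := delta_le_of_specializes δY hdY (genericPoint_specializes y)
    rwa [hm] at this
  have hle : ∀ z, δ z ≤ δX (pullback.fst f g z) + δY (pullback.snd f g z) := fun z =>
    (delta_le_add f g δX δY δ hX hY hXY z).1
  have hleA : ∀ z, δ z ≤ δX (pullback.fst f g z) + m := fun z => by
    have h1 := hle z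
    have h2 := hYm (pullback.snd f g z)
    omega
  have hleB : ∀ z, δ z ≤ δY (pullback.snd f g z) + n := fun z => by
    have h1 := hle z
    have h2 := hXn (pullback.fst f g z)
    omega
  obtain ⟨a, ha⟩ : ∃ a : ℕ, (a : ℤ) = m - s :=
    ⟨(m - s).toNat, Int.toNat_of_nonneg (by have := hYm (pullback.snd f g ζ); omega)⟩
  obtain ⟨b, hb⟩ : ∃ b : ℕ, (b : ℤ) = n - r :=
    ⟨(n - r).toNat, Int.toNat_of_nonneg (by have := hXn (pullback.fst f g ζ); omega)⟩
  obtain ⟨d, hd⟩ := Groth.Agent.Lib.helper2.Diag.exists_nat_dim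
    ((pullback f g).presheaf.stalk ζ)
  have habd : a + b ≤ d := by
    obtain ⟨dx, hdx1, hdx2⟩ := dim_stalk_eq δX hdX (pullback.fst f g ζ)
    obtain ⟨dy, hdy1, hdy2⟩ := dim_stalk_eq δY hdY (pullback.snd f g ζ)
    have h := dim_stalk_add_le f g ζ
    rw [hdx2, hdy2, hd] at h
    have h' : dx + dy ≤ d := by exact_mod_cast h
    rw [hn, hxr] at hdx1
    rw [hm, hys] at hdy1
    omega
  have key := interProd_eq_chi' K (pullback.fst f g ≫ f) δ hdP (n + m)
    (Cyc.pullFun (pullback.fst f g) δ δX m α) (Cyc.pullFun (pullback.snd f g) δ δY n β) ζ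
    ((pullback f g).presheaf.stalk ζ ⧸
        (maximalIdeal (X.presheaf.stalk (pullback.fst f g ζ))).map
          ((pullback.fst f g).stalkMap ζ).hom)
    ((pullback f g).presheaf.stalk ζ ⧸
        (maximalIdeal (Y.presheaf.stalk (pullback.snd f g ζ))).map
          ((pullback.snd f g).stalkMap ζ).hom)
    a b d (by omega) hd habd
    (supportDim_quot_fst_le f g δX δ hdP m hleA ζ a (by omega))
    (supportDim_quot_snd_le f g δY δ hdP n hleB ζ b (by omega))
    (suppCond_quot_fst_snd f g δX δY δ hdP hle ζ (by omega))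
    (α (pullback.fst f g ζ)) (β (pullback.snd f g ζ))
    (fun P' => pullFun_gen_closed (pullback.fst f g) δ δX hdP hdX m hleA α r hα ζ hxr a
      (by omega) P')
    (fun P' => pullFun_gen_closed (pullback.snd f g) δ δY hdP hdY n hleB β s hβ ζ hys b
      (by omega) P')
  rw [key, chi_fibre]
  unfold IntMult.extProd
  rw [if_pos (by omega)]

end Groth.Agent.Lib.helper2.ExtProd

namespace Groth.Agent.Lib.helper2.ExtProd

open Groth.Agent.Lib.helper16.OrdGen Groth.Agent.Lib.helper16.GenFib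
  Groth.Agent.Lib.helper16.DivSum Groth.Agent.Lib.helper16.StalkLoc
  Groth.Agent.Lib.helper16.CohStalk
  Groth.Agent.Lib.helper26.HS Groth.Agent.Lib.helper2.Dev Groth.Agent.Lib.helper2.Aus
  Groth.Agent.Lib.helper2.DevSch

variable {K : Type u} [Field K] {X Y : Scheme.{u}} (f : X ⟶ Spec (CommRingCat.of K))
  (g : Y ⟶ Spec (CommRingCat.of K))

/-- **S1951**: `pr₁^* α · pr₂^* β = α × β` on `X ×_K Y`, and the two pullbacks intersect properly. -/
theorem interProd_pullFun_eq_extProd [Smooth f] [IsIntegral X] [Smooth g] [IsIntegral Y]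
    (δX : X → ℤ) (δY : Y → ℤ) (δ : ↥(pullback f g) → ℤ)
    (hX : Cyc.DeltaCompat f δX (fun _ => 0)) (hY : Cyc.DeltaCompat g δY (fun _ => 0))
    (hXY : Cyc.DeltaCompat (pullback.fst f g ≫ f) δ (fun _ => 0)) (n m : ℕ)
    (hn : δX (genericPoint X) = n) (hm : δY (genericPoint Y) = m) (r s : ℤ)
    (α : X → ℤ) (β : Y → ℤ) (hα : ∀ x, δX x ≠ r → α x = 0) (hβ : ∀ y, δY y ≠ s → β y = 0) :
    IntMult.IntersectProperly δ (n + m) (Cyc.pullFun (pullback.fst f g) δ δX m α)
        (Cyc.pullFun (pullback.snd f g) δ δY n β) ∧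
      IntMult.interProd δ (n + m) (Cyc.pullFun (pullback.fst f g) δ δX m α)
        (Cyc.pullFun (pullback.snd f g) δ δY n β) = IntMult.extProd f g δX δY δ α β := by
  have hdX : Cyc.IsDimFun X δX := Groth.Agent.Lib.helper16.CycMV.isDimFun_of_field K f δX hX
  have hdY : Cyc.IsDimFun Y δY := Groth.Agent.Lib.helper16.CycMV.isDimFun_of_field K g δY hY
  have hle : ∀ z, δ z ≤ δX (pullback.fst f g z) + δY (pullback.snd f g z) := fun z =>
    (delta_le_add f g δX δY δ hX hY hXY z).1
  -- support facts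
  have hA : ∀ ξ', Cyc.pullFun (pullback.fst f g) δ δX m α ξ' ≠ 0 →
      δX (pullback.fst f g ξ') = r ∧ δ ξ' = r + m := by
    intro ξ' h
    obtain ⟨h1, h2⟩ := pullFun_ne_zero _ _ _ _ _ _ h
    have h3 : δX (pullback.fst f g ξ') = r := by
      by_contra hc
      exact h1 (hα _ hc)
    exact ⟨h3, by rw [h2, h3]⟩
  have hB : ∀ η', Cyc.pullFun (pullback.snd f g) δ δY n β η' ≠ 0 →
      δY (pullback.snd f g η') = s ∧ δ η' = s + n := by
    intro η' h
    obtain ⟨h1, h2⟩ := pullFun_ne_zero _ _ _ _ _ _ h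
    have h3 : δY (pullback.snd f g η') = s := by
      by_contra hc
      exact h1 (hβ _ hc)
    exact ⟨h3, by rw [h2, h3]⟩
  have hbound : ∀ ξ' η' ζ, Cyc.pullFun (pullback.fst f g) δ δX m α ξ' ≠ 0 →
      Cyc.pullFun (pullback.snd f g) δ δY n β η' ≠ 0 → ξ' ⤳ ζ → η' ⤳ ζ →
      δX (pullback.fst f g ζ) ≤ r ∧ δY (pullback.snd f g ζ) ≤ s := by
    intro ξ' η' ζ h1 h2 h3 h4
    obtain ⟨e1, -⟩ := hA ξ' h1
    obtain ⟨e2, -⟩ := hB η' h2
    have h5 := delta_le_of_specializes δX hdX ((pullback.fst f g).base.hom.map_specializes h3)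
    have h6 := delta_le_of_specializes δY hdY ((pullback.snd f g).base.hom.map_specializes h4)
    constructor
    · rw [← e1]; exact h5
    · rw [← e2]; exact h6
  refine ⟨?_, ?_⟩
  · intro ξ' η' ζ h1 h2 h3 h4
    obtain ⟨b1, b2⟩ := hbound ξ' η' ζ h1 h2 h3 h4
    obtain ⟨-, e1⟩ := hA ξ' h1
    obtain ⟨-, e2⟩ := hB η' h2
    have := hle ζ
    rw [e1, e2]
    omega
  · funext ζ
    by_cases hmain : δX (pullback.fst f g ζ) = r ∧ δY (pullback.snd f g ζ) = s ∧ δ ζ = r + s
    · obtain ⟨hxr, hys, hζ⟩ := hmain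
      exact interProd_pullFun_main f g δX δY δ hX hY hXY n m hn hm r s α β hα hβ ζ hxr hys hζ
    · have hL : IntMult.interProd δ (n + m) (Cyc.pullFun (pullback.fst f g) δ δX m α)
          (Cyc.pullFun (pullback.snd f g) δ δY n β) ζ = 0 := by
        refine interProd_eq_zero_of_forall _ _ _ _ _ (fun ξ' η' h3 h4 h5 => ?_)
        by_contra hne
        have h1 := left_ne_zero_of_mul hne
        have h2 := right_ne_zero_of_mul hne
        obtain ⟨b1, b2⟩ := hbound ξ' η' ζ h1 h2 h3 h4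
        obtain ⟨-, e1⟩ := hA ξ' h1
        obtain ⟨-, e2⟩ := hB η' h2
        have := hle ζ
        apply hmain
        refine ⟨?_, ?_, ?_⟩ <;> omega
      have hR : IntMult.extProd f g δX δY δ α β ζ = 0 := by
        unfold IntMult.extProd
        split_ifs with hc
        · by_contra hne
          have h1 : α (pullback.fst f g ζ) ≠ 0 := left_ne_zero_of_mul (left_ne_zero_of_mul hne)
          have h2 : β (pullback.snd f g ζ) ≠ 0 := right_ne_zero_of_mul (left_ne_zero_of_mul hne)
          have e1 : δX (pullback.fst f g ζ) = r := by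
            by_contra h
            exact h1 (hα _ h)
          have e2 : δY (pullback.snd f g ζ) = s := by
            by_contra h
            exact h2 (hβ _ h)
          exact hmain ⟨e1, e2, by rw [hc, e1, e2]⟩
        · rfl
      rw [hL, hR]

end Groth.Agent.Lib.helper2.ExtProd
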