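import Mathlib
import Groth.Agent.Lib.Helper2.ExtRat1
import Groth.Agent.Lib.Helper2.SetupLft
import Groth.Agent.Lib.Helper2.BivarPush
import Groth.Agent.Lib.Helper2.ExtProd5
import Groth.Agent.Lib.Helper16.CycMV
import Groth.Agent.Lib.Helper16.GysinFlat1
import Groth.Agent.Lib.Helper16.ShiftPull
import Groth.Agent.Lib.Helper16.CIPull2
import Groth.Agent.Lib.Helper16.C1Pull
import Groth.Agent.Lib.Helper18.AffImageRed
import Groth.Agent.S17840
import Groth.Agent.S1940

/-!
# helper2: the product `X ×_K closure(y)` inside `X ×_K Y`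
-/

set_option autoImplicit false
universe u
open CategoryTheory CategoryTheory.Limits AlgebraicGeometry TopologicalSpace Opposite

namespace Groth.Agent.Lib.helper2.ExtRat

open Groth.Agent.Lib.helper16.ShiftPull

section V

variable {Y : Scheme.{u}}

/-- the closure of `y` with its reduced structure -/
noncomputable abbrev V (y : Y) : Scheme.{u} := (IntMult.ptIdeal y).subscheme

/-- the closed immersion of the closure of `y` -/
noncomputable abbrev jV (y : Y) : V y ⟶ Y := (IntMult.ptIdeal y).subschemeι

instance isIntegral_V (y : Y) : IsIntegral (V y) :=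
  Groth.Agent.Lib.Helper18.AffImageRed.isIntegral_subscheme_vanishingIdeal
    ⟨closure {y}, isClosed_closure⟩ isIrreducible_singleton.closure

theorem range_jV (y : Y) : Set.range (jV y) = closure {y} := by
  rw [Scheme.IdealSheafData.range_subschemeι]
  exact Scheme.IdealSheafData.coe_support_vanishingIdeal _

theorem jV_genericPoint (y : Y) : jV y (genericPoint (V y)) = y := by
  have h1 : closure {jV y (genericPoint (V y))} = closure {y} := by
    rw [← range_jV y, ← Set.image_singleton,
      (jV y).isClosedEmbedding.closure_image_eq, (genericPoint_spec (V y)).def,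
      Set.image_univ]
  have h2 : IsGenericPoint (jV y (genericPoint (V y))) (closure {y}) := h1
  exact h2.eq isGenericPoint_closure

end V

section P

variable {K : Type u} [Field K] {X Y : Scheme.{u}} (f : X ⟶ Spec (CommRingCat.of K))
  (g : Y ⟶ Spec (CommRingCat.of K))

/-- `X ×_K closure(y)` as a closed subscheme of `X ×_K Y` -/
noncomputable abbrev P (y : Y) : Scheme.{u} := pullback (pullback.snd f g) (jV y)

/-- the closed immersion `X ×_K closure(y) ⟶ X ×_K Y` -/
noncomputable abbrev iP (y : Y) : P f g y ⟶ pullback f g := pullback.fst (pullback.snd f g) (jV y)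

/-- the projection to `closure(y)` -/
noncomputable abbrev vP (y : Y) : P f g y ⟶ V y := pullback.snd (pullback.snd f g) (jV y)

/-- the projection to `X` -/
noncomputable abbrev πP (y : Y) : P f g y ⟶ X := iP f g y ≫ pullback.fst f g

theorem isPullback_P (y : Y) : IsPullback (vP f g y) (πP f g y) (jV y ≫ g) f :=
  ((IsPullback.of_hasPullback (pullback.snd f g) (jV y)).paste_horiz
    (IsPullback.of_hasPullback f g)).flip

instance flat_toSpecField {W : Scheme.{u}} (a : W ⟶ Spec (CommRingCat.of K)) : Flat a :=
  inferInstance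

instance flat_πP (y : Y) : Flat (πP f g y) :=
  MorphismProperty.of_isPullback (P := @Flat) (isPullback_P f g y) inferInstance

variable [LocallyOfFiniteType f] [LocallyOfFiniteType g]

instance lft_πP (y : Y) : LocallyOfFiniteType (πP f g y) :=
  MorphismProperty.of_isPullback (P := @LocallyOfFiniteType) (isPullback_P f g y)
    inferInstance

variable (δX : X → ℤ) (δY : Y → ℤ) (δ : ↥(pullback f g) → ℤ)
  (hX : Cyc.DeltaCompat f δX (fun _ => 0)) (hY : Cyc.DeltaCompat g δY (fun _ => 0))
  (hXY : Cyc.DeltaCompat (pullback.fst f g ≫ f) δ (fun _ => 0))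

include hY in
theorem hasRelDim_jV (y : Y) (s : ℕ) (hs : δY y = s) : Cyc.HasRelDim (jV y ≫ g) s := by
  have h := (Groth.Agent.S17840.result (jV y ≫ g) (fun v => δY (jV y v)) (fun _ => 0)
    (Groth.Agent.Lib.helper16.CycMV.isSetup_spec_field K)
    (Groth.Agent.Lib.helper16.GysinFlat.deltaCompat_closedImmersion_comp (jV y) g δY _ hY)).2.1
  rw [jV_genericPoint, hs] at h
  simpa using h

include hY in
theorem hasRelDim_πP (y : Y) (s : ℕ) (hs : δY y = s) : Cyc.HasRelDim (πP f g y) s :=
  hasRelDim_of_isPullback (jV y ≫ g) f (vP f g y) (πP f g y) (isPullback_P f g y) s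
    (hasRelDim_jV g δY hY y s hs)

include hX hXY in
theorem deltaCompat_πP (y : Y) :
    Cyc.DeltaCompat (πP f g y) (fun w => δ (iP f g y w)) δX := by
  refine BivarPush.deltaCompat_cancel (πP f g y) f _ δX (fun _ => 0) ?_ hX
  have h := Groth.Agent.Lib.helper16.GysinFlat.deltaCompat_closedImmersion_comp (iP f g y)
    (pullback.fst f g ≫ f) δ _ hXY
  rwa [← Category.assoc] at h

include hX hY hXY in
theorem hasShift_πP (y : Y) (s : ℕ) (hs : δY y = s) :
    HasShift (πP f g y) (fun w => δ (iP f g y w)) δX s :=
  hasShift_of_hasRelDim (πP f g y) _ δX s (hasRelDim_πP f g δY hY y s hs)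
    (deltaCompat_πP f g δX δ hX hXY y)

include hXY in
theorem isSetup_Z : Cyc.IsSetup (pullback f g) δ :=
  SetupLft.isSetup_of_lft (pullback.fst f g ≫ f) (fun _ => 0) δ
    (Groth.Agent.Lib.helper16.CycMV.isSetup_spec_field K) hXY

include hX in
theorem isSetup_X : Cyc.IsSetup X δX :=
  SetupLft.isSetup_of_lft f (fun _ => 0) δX
    (Groth.Agent.Lib.helper16.CycMV.isSetup_spec_field K) hX

include hXY in
theorem isSetup_P (y : Y) : Cyc.IsSetup (P f g y) (fun w => δ (iP f g y w)) :=
  Groth.Agent.Lib.helper16.CycClosed.isSetup_closedImmersion (iP f g y) δ (isSetup_Z f g δ hXY)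

end P

end Groth.Agent.Lib.helper2.ExtRat
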