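import Mathlib
import Groth.Agent.Lib.Helper2.ExtRat2
import Groth.Agent.Lib.Helper2.ExtProd1

/-!
# helper2: `(X ×_K closure(y) ⟶ X ×_K Y)_* (pr_X^* α) = α × [y]`
-/

set_option autoImplicit false
universe u
open CategoryTheory CategoryTheory.Limits AlgebraicGeometry TopologicalSpace Opposite IsLocalRing

namespace Groth.Agent.Lib.helper2.ExtRat

open Groth.Agent.Lib.helper16.ShiftPull Groth.Agent.Lib.helper16.CIPull

theorem length_core {A B : Type u} [CommRing A] [CommRing B] (ψ : A →+* B)
    (hψ : Function.Surjective ψ) (Jx Jy : Ideal A) (hker : RingHom.ker ψ = Jy) :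
    Module.length B (B ⧸ Jx.map ψ) = Module.length A (A ⧸ (Jx ⊔ Jy)) := by
  have h := length_quot_map_of_ker_le ψ hψ (Jx ⊔ Jy) (hker ▸ le_sup_right)
  have h2 : Jy.map ψ = ⊥ := by
    rw [← hker]; exact (Ideal.map_eq_bot_iff_le_ker ψ).2 le_rfl
  rwa [Ideal.map_sup, h2, sup_bot_eq] at h

section P

variable {K : Type u} [Field K] {X Y : Scheme.{u}} (f : X ⟶ Spec (CommRingCat.of K))
  (g : Y ⟶ Spec (CommRingCat.of K))

/-- at a point `w` over the generic point of `closure(y)`, the kernel of the stalk map of the closed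
immersion is generated by the maximal ideal of `O_{Y,y}`. -/
theorem ker_stalkMap_iP (y : Y) (w : P f g y) (hw : pullback.snd f g (iP f g y w) = y) :
    RingHom.ker ((iP f g y).stalkMap w).hom =
      (maximalIdeal (Y.presheaf.stalk (pullback.snd f g (iP f g y w)))).map
        ((pullback.snd f g).stalkMap (iP f g y w)).hom := by
  have hv : vP f g y w = genericPoint (V y) := by
    apply (jV y).isClosedEmbedding.injective
    rw [jV_genericPoint]
    exact (apply_fst_eq_apply_snd (pullback.snd f g) (jV y) w).symm.trans hw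
  rw [ker_stalkMap_fst (pullback.snd f g) (jV y) w, ← map_baseMap_maximalIdeal]
  congr 1
  refine le_antisymm (ker_stalkMap_le_maximalIdeal (jV y) _) ?_
  intro a ha
  rw [RingHom.mem_ker]
  have hfield : IsField ((V y).presheaf.stalk (pullback.snd (pullback.snd f g) (jV y) w)) := by
    have h0 : IsField ((V y).presheaf.stalk (genericPoint (V y))) :=
      Field.toIsField (V y).functionField
    have hv' : pullback.snd (pullback.snd f g) (jV y) w = genericPoint (V y) := hv
    rw [hv']
    exact h0
  by_contra hne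
  obtain ⟨b, hb⟩ := hfield.mul_inv_cancel hne
  have hu : IsUnit (((jV y).stalkMap (pullback.snd (pullback.snd f g) (jV y) w)).hom a) :=
    IsUnit.of_mul_eq_one _ hb
  have hu' : IsUnit a := (isUnit_map_iff ((jV y).stalkMap _).hom a).1 hu
  exact ha hu'

theorem length_eq (y : Y) (w : P f g y) (hw : pullback.snd f g (iP f g y w) = y) :
    Module.length ((P f g y).presheaf.stalk w)
      ((P f g y).presheaf.stalk w ⧸ Ideal.map ((πP f g y).stalkMap w).hom
        (maximalIdeal (X.presheaf.stalk (πP f g y w)))) =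
    Module.length ((pullback f g).presheaf.stalk (iP f g y w))
      (((pullback f g).presheaf.stalk (iP f g y w)) ⧸
        ((maximalIdeal (X.presheaf.stalk (pullback.fst f g (iP f g y w)))).map
            ((pullback.fst f g).stalkMap (iP f g y w)).hom ⊔
         (maximalIdeal (Y.presheaf.stalk (pullback.snd f g (iP f g y w)))).map
            ((pullback.snd f g).stalkMap (iP f g y w)).hom)) := by
  rw [← length_core ((iP f g y).stalkMap w).hom ((iP f g y).stalkMap_surjective w) _ _
    (ker_stalkMap_iP f g y w hw), Ideal.map_map]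
  have h1 : (πP f g y).stalkMap w =
      (pullback.fst f g).stalkMap (iP f g y w) ≫ (iP f g y).stalkMap w :=
    Scheme.Hom.stalkMap_comp (iP f g y) (pullback.fst f g) w
  rw [h1]
  rfl

variable [LocallyOfFiniteType f] [LocallyOfFiniteType g]
  (δX : X → ℤ) (δY : Y → ℤ) (δ : ↥(pullback f g) → ℤ)
  (hX : Cyc.DeltaCompat f δX (fun _ => 0)) (hY : Cyc.DeltaCompat g δY (fun _ => 0))
  (hXY : Cyc.DeltaCompat (pullback.fst f g ≫ f) δ (fun _ => 0))

theorem mem_range_iP_iff (y : Y) (z : ↥(pullback f g)) :
    z ∈ Set.range (iP f g y) ↔ pullback.snd f g z ∈ closure ({y} : Set Y) := by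
  constructor
  · rintro ⟨w, rfl⟩
    rw [← range_jV y]
    exact ⟨vP f g y w, (apply_fst_eq_apply_snd (pullback.snd f g) (jV y) w).symm⟩
  · intro h
    rw [← range_jV y] at h
    obtain ⟨v, hv⟩ := h
    obtain ⟨w, hw1, -⟩ := Scheme.Pullback.exists_preimage_pullback z v hv.symm
    exact ⟨w, hw1⟩

include hX hY hXY in
/-- `(i_y)_* (π_y^* α) = α × [y]` on coefficient functions. -/
theorem map_pullFun_eq_extProd (y : Y) (s : ℕ) (hs : δY y = s) (α : X → ℤ)
    (α' : AlgebraicCycle (P f g y) ℤ)
    (hα' : ⇑α' = Cyc.pullFun (πP f g y) (fun w => δ (iP f g y w)) δX s α) (z : ↥(pullback f g)) :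
    AlgebraicCycle.map (iP f g y) (fun w => δ (iP f g y w)) δ α' z =
      IntMult.extProd f g δX δY δ α (Set.indicator {y} (fun _ => (1 : ℤ))) z := by
  classical
  by_cases hz : z ∈ Set.range (iP f g y)
  · obtain ⟨w, rfl⟩ := hz
    rw [Groth.Agent.Lib.helper16.CycClosed.map_apply (iP f g y) _ δ (fun _ => rfl), hα']
    unfold Cyc.pullFun IntMult.extProd
    by_cases hq : pullback.snd f g (iP f g y w) = y
    · have hc : (δ (iP f g y w) = δX (πP f g y w) + (s : ℤ)) ↔
          (δ (iP f g y w) = δX (pullback.fst f g (iP f g y w)) +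
            δY (pullback.snd f g (iP f g y w))) := by
        rw [hq, hs]
        rfl
      by_cases hd : δ (iP f g y w) = δX (πP f g y w) + (s : ℤ)
      · rw [if_pos hd, if_pos (hc.1 hd), Set.indicator_of_mem (show _ ∈ ({y} : Set Y) from hq), mul_one,
          length_eq f g y w hq]
        rfl
      · rw [if_neg hd, if_neg (fun h => hd (hc.2 h))]
    · rw [Set.indicator_of_notMem (show _ ∉ ({y} : Set Y) from hq), mul_zero, zero_mul, ite_self]
      rw [if_neg]
      intro hd
      have h1 := (ExtProd.delta_le_add f g δX δY δ hX hY hXY (iP f g y w)).1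
      have hsp : y ⤳ pullback.snd f g (iP f g y w) := by
        rw [specializes_iff_mem_closure]
        exact (mem_range_iP_iff f g y _).1 ⟨w, rfl⟩
      have h2 := (Groth.Agent.Lib.helper16.CycMV.isDimFun_of_field K g δY hY y _ hsp
        (fun h => hq h.symm)).1
      have hd' : δ (iP f g y w) = δX (pullback.fst f g (iP f g y w)) + (s : ℤ) := hd
      omega
  · rw [Groth.Agent.Lib.helper16.CycClosed.map_apply_of_notMem_range (iP f g y) _ δ α' z hz]
    unfold IntMult.extProd
    have hq : pullback.snd f g z ≠ y := by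
      intro h
      apply hz
      rw [mem_range_iP_iff, h]
      exact subset_closure rfl
    rw [Set.indicator_of_notMem (show _ ∉ ({y} : Set Y) from hq), mul_zero, zero_mul, ite_self]

end P

end Groth.Agent.Lib.helper2.ExtRat
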