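import Mathlib
import Groth.Agent.Lib.Helper2.ExtRat3

/-!
# helper2: `α × β ∼ 0` when `α ∼ 0` (exterior products over a field)
-/

set_option autoImplicit false
universe u
open CategoryTheory CategoryTheory.Limits AlgebraicGeometry TopologicalSpace Opposite IsLocalRing

namespace Groth.Agent.Lib.helper2.ExtRat

open Groth.Agent.Lib.helper16.ShiftPull

variable {K : Type u} [Field K] {X Y : Scheme.{u}} (f : X ⟶ Spec (CommRingCat.of K))
  (g : Y ⟶ Spec (CommRingCat.of K)) [LocallyOfFiniteType f] [LocallyOfFiniteType g]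
  (δX : X → ℤ) (δY : Y → ℤ) (δ : ↥(pullback f g) → ℤ)
  (hX : Cyc.DeltaCompat f δX (fun _ => 0)) (hY : Cyc.DeltaCompat g δY (fun _ => 0))
  (hXY : Cyc.DeltaCompat (pullback.fst f g ≫ f) δ (fun _ => 0))

include hX hY hXY in
/-- If `α ∼ 0` then `α × β ∼ 0`. -/
theorem ratEquivZero_extProd_left (r s : ℤ) (α : AlgebraicCycle X ℤ) (β : AlgebraicCycle Y ℤ)
    (hα : α ∈ Cyc.Zk X δX r) (hβ : β ∈ Cyc.Zk Y δY s) (h0 : Cyc.RatEquivZero δX r α)
    (γ : AlgebraicCycle (pullback f g) ℤ)
    (hγ : ⇑γ = IntMult.extProd f g δX δY δ ⇑α ⇑β) : Cyc.RatEquivZero δ (r + s) γ := by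
  classical
  let T : Type u := {y : Y // β y ≠ 0}
  have hsT : ∀ t : T, δY t.1 = (s.toNat : ℤ) := by
    intro t
    have h1 : δY t.1 = s := by
      by_contra hne
      exact t.2 (hβ t.1 hne)
    obtain ⟨n, -, hn⟩ := hY t.1
    have hn' : δY t.1 = 0 + (n : ℤ) := hn
    rw [h1]
    omega
  have hsetX := isSetup_X f δX hX
  have hsetP := fun t : T => isSetup_P f g δ hXY t.1
  have hshift := fun t : T => hasShift_πP f g δX δY δ hX hY hXY t.1 s.toNat (hsT t)
  have hex : ∀ t : T, ∃ α' : AlgebraicCycle (P f g t.1) ℤ,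
      ⇑α' = Cyc.pullFun (πP f g t.1) (fun w => δ (iP f g t.1 w)) δX (s.toNat : ℤ) ⇑α := by
    intro t
    haveI := (hsetP t).1
    exact Groth.Agent.Lib.helper16.C1Pull.exists_cycle_pullFun (p := πP f g t.1) (hsetP t).2.2
      (hshift t) α
  choose α' hα' using hex
  have h0' : ∀ t : T, Cyc.RatEquivZero (fun w => δ (iP f g t.1 w)) (r + (s.toNat : ℤ)) (α' t) :=
    fun t => Groth.Agent.S1940.result X (P f g t.1) δX _ hsetX (hsetP t) (πP f g t.1) (s.toNat : ℤ)
      (hshift t) r α hα h0 (α' t) (hα' t)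
  have hsr : ∀ t : T, (s.toNat : ℤ) = s := by
    intro t
    have := hsT t
    have h1 : δY t.1 = s := by
      by_contra hne
      exact t.2 (hβ t.1 hne)
    omega
  refine ratEquivZero_of_sum δ (r + s) (T := T) (fun t => Set.range (iP f g t.1))
    (fun t => (iP f g t.1).isClosedEmbedding.isClosed_range) ?_ (fun t => β t.1)
    (fun t => ⇑(AlgebraicCycle.map (iP f g t.1) (fun w => δ (iP f g t.1 w)) δ (α' t))) ?_ γ ?_
  · intro z
    obtain ⟨Tn, hTn, hfin⟩ := β.supportLocallyFiniteWithinDomain' (pullback.snd f g z) trivial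
    refine ⟨(pullback.snd f g) ⁻¹' (interior Tn),
      isOpen_interior.preimage (pullback.snd f g).continuous,
      mem_interior_iff_mem_nhds.2 hTn, ?_⟩
    refine (hfin.preimage Subtype.val_injective.injOn).subset ?_
    rintro t ⟨z', hz1, hz2⟩
    have h1 := (mem_range_iP_iff f g t.1 z').1 hz1
    have h2 : t.1 ⤳ pullback.snd f g z' := specializes_iff_mem_closure.2 h1
    exact ⟨interior_subset (h2.mem_open isOpen_interior hz2), t.2⟩
  · intro t
    have h := ratEquivZeroIn_map (iP f g t.1) δ (r + (s.toNat : ℤ)) (α' t) (h0' t)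
    rwa [hsr t] at h
  · intro z
    have hterm : ∀ t : T, β t.1 * AlgebraicCycle.map (iP f g t.1) (fun w => δ (iP f g t.1 w)) δ
        (α' t) z = β t.1 * IntMult.extProd f g δX δY δ ⇑α
          (Set.indicator {t.1} (fun _ => (1 : ℤ))) z := fun t => by
      rw [map_pullFun_eq_extProd f g δX δY δ hX hY hXY t.1 s.toNat (hsT t) ⇑α (α' t) (hα' t) z]
    rw [finsum_congr hterm, hγ]
    by_cases hb : β (pullback.snd f g z) = 0
    · have hz0 : IntMult.extProd f g δX δY δ ⇑α ⇑β z = 0 := by
        unfold IntMult.extProd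
        rw [hb, mul_zero, zero_mul, ite_self]
      rw [hz0]
      symm
      apply finsum_eq_zero_of_forall_eq_zero
      intro t
      have hne : pullback.snd f g z ≠ t.1 := fun h => t.2 (h ▸ hb)
      unfold IntMult.extProd
      rw [Set.indicator_of_notMem (show _ ∉ ({t.1} : Set Y) from hne), mul_zero, zero_mul,
        ite_self, mul_zero]
    · rw [finsum_eq_single _ (⟨pullback.snd f g z, hb⟩ : T)]
      · unfold IntMult.extProd
        rw [Set.indicator_of_mem (show _ ∈ ({pullback.snd f g z} : Set Y) from rfl)]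
        split_ifs <;> ring
      · intro t ht
        have hne : pullback.snd f g z ≠ t.1 := fun h => ht (Subtype.ext h.symm)
        unfold IntMult.extProd
        rw [Set.indicator_of_notMem (show _ ∉ ({t.1} : Set Y) from hne), mul_zero, zero_mul,
          ite_self, mul_zero]

end Groth.Agent.Lib.helper2.ExtRat
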