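import Mathlib
import Groth.Agent.Lib.Helper2.ExtRat4

/-!
# helper2: `α × β ∼ 0` when `β ∼ 0` (by symmetry of the fibre product)
-/

set_option autoImplicit false
universe u
open CategoryTheory CategoryTheory.Limits AlgebraicGeometry TopologicalSpace Opposite IsLocalRing

namespace Groth.Agent.Lib.helper2.ExtRat

open Groth.Agent.Lib.helper16.CIPull

theorem map_maximalIdeal_congr {W X : Scheme.{u}} {a b : W ⟶ X} (h : a = b) (w : W) :
    Ideal.map (a.stalkMap w).hom (maximalIdeal (X.presheaf.stalk (a w))) =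
      Ideal.map (b.stalkMap w).hom (maximalIdeal (X.presheaf.stalk (b w))) := by
  subst h
  rfl

theorem apply_congr {W X : Scheme.{u}} {a b : W ⟶ X} (h : a = b) (w : W) : a w = b w := by
  subst h
  rfl

section symm

variable {K : Type u} [Field K] {X Y : Scheme.{u}} (f : X ⟶ Spec (CommRingCat.of K))
  (g : Y ⟶ Spec (CommRingCat.of K))

/-- the exterior product is symmetric under the symmetry of the fibre product -/
theorem extProd_symm (δX : X → ℤ) (δY : Y → ℤ) (δ : ↥(pullback f g) → ℤ) (α : X → ℤ) (β : Y → ℤ)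
    (w : ↥(pullback g f)) :
    IntMult.extProd f g δX δY δ α β ((pullbackSymmetry g f).hom w) =
      IntMult.extProd g f δY δX (fun w => δ ((pullbackSymmetry g f).hom w)) β α w := by
  set e := pullbackSymmetry g f with he
  have h1 : e.hom ≫ pullback.fst f g = pullback.snd g f := pullbackSymmetry_hom_comp_fst g f
  have h2 : e.hom ≫ pullback.snd f g = pullback.fst g f := pullbackSymmetry_hom_comp_snd g f
  have p1 : pullback.fst f g (e.hom w) = pullback.snd g f w := apply_congr h1 w
  have p2 : pullback.snd f g (e.hom w) = pullback.fst g f w := apply_congr h2 w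
  unfold IntMult.extProd
  have hlen : Module.length ((pullback f g).presheaf.stalk (e.hom w))
      (((pullback f g).presheaf.stalk (e.hom w)) ⧸
        ((maximalIdeal (X.presheaf.stalk (pullback.fst f g (e.hom w)))).map
            ((pullback.fst f g).stalkMap (e.hom w)).hom ⊔
         (maximalIdeal (Y.presheaf.stalk (pullback.snd f g (e.hom w)))).map
            ((pullback.snd f g).stalkMap (e.hom w)).hom)) =
      Module.length ((pullback g f).presheaf.stalk w)
      (((pullback g f).presheaf.stalk w) ⧸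
        ((maximalIdeal (Y.presheaf.stalk (pullback.fst g f w))).map
            ((pullback.fst g f).stalkMap w).hom ⊔
         (maximalIdeal (X.presheaf.stalk (pullback.snd g f w))).map
            ((pullback.snd g f).stalkMap w).hom)) := by
    have hbij : Function.Bijective (e.hom.stalkMap w).hom :=
      ConcreteCategory.bijective_of_isIso (e.hom.stalkMap w)
    have hker : RingHom.ker (e.hom.stalkMap w).hom ≤
        ((maximalIdeal (X.presheaf.stalk (pullback.fst f g (e.hom w)))).map
            ((pullback.fst f g).stalkMap (e.hom w)).hom ⊔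
         (maximalIdeal (Y.presheaf.stalk (pullback.snd f g (e.hom w)))).map
            ((pullback.snd f g).stalkMap (e.hom w)).hom) := by
      rw [(RingHom.injective_iff_ker_eq_bot _).1 hbij.1]
      exact bot_le
    rw [← length_quot_map_of_ker_le (e.hom.stalkMap w).hom hbij.2 _ hker, Ideal.map_sup,
      Ideal.map_map, Ideal.map_map, sup_comm]
    have e1 : ((e.hom.stalkMap w).hom.comp ((pullback.fst f g).stalkMap (e.hom w)).hom) =
        ((e.hom ≫ pullback.fst f g).stalkMap w).hom := by
      rw [Scheme.Hom.stalkMap_comp]; rfl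
    have e2 : ((e.hom.stalkMap w).hom.comp ((pullback.snd f g).stalkMap (e.hom w)).hom) =
        ((e.hom ≫ pullback.snd f g).stalkMap w).hom := by
      rw [Scheme.Hom.stalkMap_comp]; rfl
    rw [e1, e2]
    have m1 := map_maximalIdeal_congr h1 w
    have m2 := map_maximalIdeal_congr h2 w
    exact congrArg₂ (fun I J => Module.length ((pullback g f).presheaf.stalk w)
      (((pullback g f).presheaf.stalk w) ⧸ (I ⊔ J))) m2 m1
  rw [hlen, p1, p2]
  have hc : (δ (e.hom w) = δX (pullback.snd g f w) + δY (pullback.fst g f w)) ↔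
      (δ (e.hom w) = δY (pullback.fst g f w) + δX (pullback.snd g f w)) := by
    rw [add_comm]
  by_cases hd : δ (e.hom w) = δX (pullback.snd g f w) + δY (pullback.fst g f w)
  · rw [if_pos hd, if_pos (hc.1 hd), mul_comm (α _)]
  · rw [if_neg hd, if_neg (fun h => hd (hc.2 h))]

end symm

section right

variable {K : Type u} [Field K] {X Y : Scheme.{u}} (f : X ⟶ Spec (CommRingCat.of K))
  (g : Y ⟶ Spec (CommRingCat.of K)) [LocallyOfFiniteType f] [LocallyOfFiniteType g]
  (δX : X → ℤ) (δY : Y → ℤ) (δ : ↥(pullback f g) → ℤ)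
  (hX : Cyc.DeltaCompat f δX (fun _ => 0)) (hY : Cyc.DeltaCompat g δY (fun _ => 0))
  (hXY : Cyc.DeltaCompat (pullback.fst f g ≫ f) δ (fun _ => 0))

include hX hY hXY in
/-- If `β ∼ 0` then `α × β ∼ 0`. -/
theorem ratEquivZero_extProd_right (r s : ℤ) (α : AlgebraicCycle X ℤ) (β : AlgebraicCycle Y ℤ)
    (hα : α ∈ Cyc.Zk X δX r) (hβ : β ∈ Cyc.Zk Y δY s) (h0 : Cyc.RatEquivZero δY s β)
    (γ : AlgebraicCycle (pullback f g) ℤ)
    (hγ : ⇑γ = IntMult.extProd f g δX δY δ ⇑α ⇑β) : Cyc.RatEquivZero δ (r + s) γ := by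
  set e := pullbackSymmetry g f with he
  have h1 : e.hom ≫ pullback.fst f g = pullback.snd g f := pullbackSymmetry_hom_comp_fst g f
  let δ' : ↥(pullback g f) → ℤ := fun w => δ (e.hom w)
  have hXY' : Cyc.DeltaCompat (pullback.fst g f ≫ g) δ' (fun _ => 0) := by
    have h := Groth.Agent.Lib.helper16.GysinFlat.deltaCompat_closedImmersion_comp e.hom
      (pullback.fst f g ≫ f) δ _ hXY
    have hm : e.hom ≫ pullback.fst f g ≫ f = pullback.fst g f ≫ g := by
      rw [← Category.assoc, h1, pullback.condition]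
    rwa [hm] at h
  have hδinv : ∀ z, δ z = δ' (e.inv z) := by
    intro z
    show δ z = δ (e.hom (e.inv z))
    rw [← Scheme.Hom.comp_apply, e.inv_hom_id]
    rfl
  set γ' : AlgebraicCycle (pullback g f) ℤ := AlgebraicCycle.map e.inv δ δ' γ with hγ'def
  have hγ'app : ∀ w, γ' w = γ (e.hom w) := by
    intro w
    have hw : w = e.inv (e.hom w) := by
      rw [← Scheme.Hom.comp_apply, e.hom_inv_id]
      rfl
    rw [hγ'def]
    conv_lhs => rw [hw]
    exact Groth.Agent.Lib.helper16.CycClosed.map_apply e.inv δ δ' hδinv γ (e.hom w)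
  have hγ' : ⇑γ' = IntMult.extProd g f δY δX δ' ⇑β ⇑α := by
    funext w
    rw [hγ'app w, hγ]
    exact extProd_symm f g δX δY δ ⇑α ⇑β w
  have hA := ratEquivZero_extProd_left g f δY δX δ' hY hX hXY' s r β α hβ hα h0 γ' hγ'
  have hB := Groth.Agent.Lib.helper16.CycClosed.ratEquivZero_map e.hom δ (s + r) γ' hA
  obtain ⟨J, ξ, φ, hξ, hφ, hlf, hsum⟩ := hB
  refine ⟨J, ξ, φ, fun i => by rw [hξ i]; ring, hφ, hlf, fun z => ?_⟩
  rw [← hsum z]
  have hz : z = e.hom (e.inv z) := by
    rw [← Scheme.Hom.comp_apply, e.inv_hom_id]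
    rfl
  conv_rhs => rw [hz]
  rw [Groth.Agent.Lib.helper16.CycClosed.map_apply e.hom _ δ (fun _ => rfl) γ' (e.inv z),
    hγ'app, ← hz]

end right

end Groth.Agent.Lib.helper2.ExtRat
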