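import Mathlib
import Groth.Agent.Lib.Helper2.FPull1
import Groth.Agent.Lib.Helper2.ExtRat1
import Groth.Agent.Lib.Helper16.DivSum9
import Groth.Agent.Lib.Helper16.C1Pull

/-!
# Flat pullback on Chow groups and the operations of the flat pullback class (helper2)
-/

set_option autoImplicit false
set_option linter.unusedSectionVars false

namespace Groth.Agent.Lib.helper2.FPull

universe u

open CategoryTheory CategoryTheory.Limits AlgebraicGeometry TopologicalSpace Function Opposite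
open Groth.Agent.Lib.helper2.BivarPush Groth.Agent.Lib.helper2.PPush Bivar
open Groth.Agent.Lib.helper16.ShiftPull Groth.Agent.Lib.helper16.C1Pull
  Groth.Agent.Lib.helper16.DivSum

section pullCH

variable {T S : Scheme.{u}} (δT : T → ℤ) (δS : S → ℤ) (hT : Cyc.IsSetup T δT)
  (hS : Cyc.IsSetup S δS) (q : T ⟶ S) [Flat q] [LocallyOfFiniteType q] (r : ℕ)
  (hr : Cyc.HasRelDim q r) (hδ : Cyc.DeltaCompat q δT δS) (k : ℤ)

include hT hr hδ in
theorem exists_pull (α : AlgebraicCycle S ℤ) :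
    ∃ α' : AlgebraicCycle T ℤ, ⇑α' = Cyc.pullFun q δT δS r ⇑α :=
  haveI := hT.1
  exists_cycle_pullFun q hT.2.2 (hasShift_of_hasRelDim q δT δS r hr hδ) α

/-- the flat pullback of a cycle, as a cycle -/
noncomputable def pullCyc (α : AlgebraicCycle S ℤ) : AlgebraicCycle T ℤ :=
  (exists_pull δT δS hT q r hr hδ α).choose

theorem pullCyc_coe (α : AlgebraicCycle S ℤ) :
    ⇑(pullCyc δT δS hT q r hr hδ α) = Cyc.pullFun q δT δS r ⇑α :=
  (exists_pull δT δS hT q r hr hδ α).choose_spec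

theorem pullCyc_eq (α : AlgebraicCycle S ℤ) (α' : AlgebraicCycle T ℤ)
    (h : ⇑α' = Cyc.pullFun q δT δS r ⇑α) : pullCyc δT δS hT q r hr hδ α = α' :=
  DFunLike.coe_injective ((pullCyc_coe δT δS hT q r hr hδ α).trans h.symm)

/-- flat pullback on `k`-cycles as a group homomorphism -/
noncomputable def pullZk : ↥(ChowOps.zk S δS k) →+ ↥(ChowOps.zk T δT (k + r)) where
  toFun a := ⟨pullCyc δT δS hT q r hr hδ a.1,
    pullFun_mem_Zk q δT δS r k a.2 _ (pullCyc_coe δT δS hT q r hr hδ a.1)⟩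
  map_zero' := by
    apply Subtype.ext
    apply DFunLike.coe_injective
    show ⇑(pullCyc δT δS hT q r hr hδ 0) = ⇑(0 : AlgebraicCycle T ℤ)
    rw [pullCyc_coe]
    exact pullFun_zero q δT δS r
  map_add' a b := by
    apply Subtype.ext
    apply DFunLike.coe_injective
    show ⇑(pullCyc δT δS hT q r hr hδ (a.1 + b.1)) =
      ⇑(pullCyc δT δS hT q r hr hδ a.1 + pullCyc δT δS hT q r hr hδ b.1)
    rw [Function.locallyFinsuppWithin.coe_add, pullCyc_coe, pullCyc_coe, pullCyc_coe,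
      Function.locallyFinsuppWithin.coe_add]
    exact pullFun_add q δT δS r _ _

include hS in
theorem ratTriv_le_comap_pull :
    ChowOps.ratTriv S δS k ≤
      (ChowOps.ratTriv T δT (k + r)).comap (pullZk δT δS hT q r hr hδ k) := by
  unfold ChowOps.ratTriv
  rw [AddSubgroup.closure_le]
  intro a ha
  apply AddSubgroup.subset_closure
  haveI := hT.1
  haveI := hS.1
  exact ratEquivZero_pullFun q hS.2.2 hT.2.2 (hasShift_of_hasRelDim q δT δS r hr hδ) k a.1 ha _
    (pullCyc_coe δT δS hT q r hr hδ a.1)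

/-- flat pullback on Chow groups -/
noncomputable def pullCH : ChowOps.CH S δS k →+ ChowOps.CH T δT (k + r) :=
  QuotientAddGroup.map (ChowOps.ratTriv S δS k) (ChowOps.ratTriv T δT (k + r))
    (pullZk δT δS hT q r hr hδ k) (ratTriv_le_comap_pull δT δS hT hS q r hr hδ k)

theorem pullCH_cl (α : AlgebraicCycle S ℤ) (hα : α ∈ Cyc.Zk S δS k) (α' : AlgebraicCycle T ℤ)
    (h : ⇑α' = Cyc.pullFun q δT δS r ⇑α) (hα' : α' ∈ Cyc.Zk T δT (k + r)) :
    pullCH δT δS hT hS q r hr hδ k (ChowOps.cl α hα) = ChowOps.cl α' hα' := by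
  have e := pullCyc_eq δT δS hT q r hr hδ α α' h
  show ChowOps.cl (pullCyc δT δS hT q r hr hδ α) _ = ChowOps.cl α' hα'
  exact cl_congr e _ _

end pullCH

section Sq

variable {X Y : Scheme.{u}} {δX : X → ℤ} {δY : Y → ℤ} {f : X ⟶ Y}

theorem Sq.flat_f' [Flat f] (s : Sq f δX δY) : Flat s.f' :=
  MorphismProperty.of_isPullback (P := @Flat) s.isPullback.flip inferInstance

theorem Sq.lft_f' [LocallyOfFiniteType f] (s : Sq f δX δY) : LocallyOfFiniteType s.f' :=
  MorphismProperty.of_isPullback (P := @LocallyOfFiniteType) s.isPullback.flip inferInstance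

theorem Sq.hasRelDim_f' [LocallyOfFiniteType f] (r : ℕ) (hr : Cyc.HasRelDim f r)
    (s : Sq f δX δY) : Cyc.HasRelDim s.f' r :=
  Groth.Agent.Lib.helper2.ExtRat.hasRelDim_of_isPullback f s.g s.g' s.f' s.isPullback.flip r hr

theorem Sq.deltaCompat_f' (hδ : Cyc.DeltaCompat f δX δY) (s : Sq f δX δY) :
    Cyc.DeltaCompat s.f' s.δX' s.δY' := by
  refine deltaCompat_cancel s.f' s.g s.δX' s.δY' δY ?_ s.compatY
  rw [s.isPullback.w]
  exact deltaCompat_comp s.g' f s.δX' δX δY s.compatX hδ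

end Sq

variable {X Y : Scheme.{u}} {δX : X → ℤ} {δY : Y → ℤ} (hX : Cyc.IsSetup X δX)
  (hY : Cyc.IsSetup Y δY) (f : X ⟶ Y) [Flat f] [LocallyOfFiniteType f] (r : ℕ)
  (hr : Cyc.HasRelDim f r) (hδ : Cyc.DeltaCompat f δX δY)

/-- the operation of the flat pullback class -/
noncomputable def pullOp (s : Sq f δX δY) (k : ℤ) :
    ChowOps.CH s.Y' s.δY' k →+ ChowOps.CH s.X' s.δX' (k - -(r : ℤ)) :=
  haveI := Sq.flat_f' s
  haveI := Sq.lft_f' s
  (chCast s.X' s.δX' (show k + (r : ℤ) = k - -(r : ℤ) by ring)).toAddMonoidHom.comp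
    (pullCH s.δX' s.δY' (Sq.isSetup_X' hX s) (Sq.isSetup_Y' hY s) s.f' r
      (Sq.hasRelDim_f' r hr s) (Sq.deltaCompat_f' hδ s) k)

theorem pullOp_cl (s : Sq f δX δY) (k : ℤ) (α : AlgebraicCycle s.Y' ℤ)
    (hα : α ∈ Cyc.Zk s.Y' s.δY' k) (α' : AlgebraicCycle s.X' ℤ)
    (h : ⇑α' = Cyc.pullFun s.f' s.δX' s.δY' r ⇑α) (l : ℤ) (hl : l = k - -(r : ℤ))
    (hα' : α' ∈ Cyc.Zk s.X' s.δX' l) :
    pullOp hX hY f r hr hδ s k (ChowOps.cl α hα) =
      ChowOps.cl α' (hl ▸ hα') := by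
  subst hl
  haveI := Sq.flat_f' s
  haveI := Sq.lft_f' s
  have hα'' : α' ∈ Cyc.Zk s.X' s.δX' (k + r) := pullFun_mem_Zk s.f' s.δX' s.δY' r k hα α' h
  unfold pullOp
  rw [AddMonoidHom.comp_apply, pullCH_cl _ _ _ _ _ _ _ _ _ α hα α' h hα'']
  exact chCast_cl _ _ _ _ _

end Groth.Agent.Lib.helper2.FPull
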