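import Mathlib
import Groth.Agent.Lib.Helper2.FPull2
import Groth.Agent.Lib.Helper16.CycFlat4

/-!
# The flat pullback class: compatibility with proper pushforward and flat pullback (helper2)
-/

set_option autoImplicit false
set_option linter.unusedSectionVars false

namespace Groth.Agent.Lib.helper2.FPull

universe u

open CategoryTheory CategoryTheory.Limits AlgebraicGeometry TopologicalSpace Function Opposite
open Groth.Agent.Lib.helper2.BivarPush Groth.Agent.Lib.helper2.PPush Bivar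
open Groth.Agent.Lib.helper16.ShiftPull Groth.Agent.Lib.helper16.C1Pull
  Groth.Agent.Lib.helper16.DivSum

variable {X Y : Scheme.{u}} {δX : X → ℤ} {δY : Y → ℤ} (hX : Cyc.IsSetup X δX)
  (hY : Cyc.IsSetup Y δY) (f : X ⟶ Y) [Flat f] [LocallyOfFiniteType f] (r : ℕ)
  (hr : Cyc.HasRelDim f r) (hδ : Cyc.DeltaCompat f δX δY)

section squares

variable {f} {s t : Sq f δX δY} (h : t.Y' ⟶ s.Y') (h' : t.X' ⟶ s.X')
  (w1 : h ≫ s.g = t.g) (w2 : h' ≫ s.f' = t.f' ≫ h) (w3 : h' ≫ s.g' = t.g')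

include w1 w2 w3 in
theorem isPullback_sq : IsPullback h' t.f' s.f' h := by
  refine IsPullback.of_right ?_ w2 s.isPullback.flip
  rw [w3, w1]
  exact t.isPullback.flip

include w1 in
theorem deltaCompat_h : Cyc.DeltaCompat h t.δY' s.δY' := by
  refine deltaCompat_cancel h s.g t.δY' s.δY' δY ?_ s.compatY
  rw [w1]
  exact t.compatY

include w3 in
theorem deltaCompat_h' : Cyc.DeltaCompat h' t.δX' s.δX' := by
  refine deltaCompat_cancel h' s.g' t.δX' s.δX' δX ?_ s.compatX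
  rw [w3]
  exact t.compatX

include w1 in
theorem lft_h : LocallyOfFiniteType h := by
  haveI := t.lft
  haveI : LocallyOfFiniteType (h ≫ s.g) := by rw [w1]; infer_instance
  exact locallyOfFiniteType_of_comp h s.g

include w3 in
theorem lft_h' : LocallyOfFiniteType h' := by
  haveI := Sq.lft_g' t
  haveI : LocallyOfFiniteType (h' ≫ s.g') := by rw [w3]; infer_instance
  exact locallyOfFiniteType_of_comp h' s.g'

end squares

theorem pushOK_pullOp (s t : Sq f δX δY) (h : t.Y' ⟶ s.Y') [IsProper h] (h' : t.X' ⟶ s.X')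
    [IsProper h'] (w1 : h ≫ s.g = t.g) (w2 : h' ≫ s.f' = t.f' ≫ h) (w3 : h' ≫ s.g' = t.g')
    (k : ℤ) :
    PushOK t.δY' t.δX' s.δY' s.δX' h h' (pullOp hX hY f r hr hδ t k)
      (pullOp hX hY f r hr hδ s k) := by
  intro α hα
  haveI := Sq.flat_f' s
  haveI := Sq.lft_f' s
  haveI := Sq.flat_f' t
  haveI := Sq.lft_f' t
  have hssX := Sq.isSetup_X' hX s
  have hssY := Sq.isSetup_Y' hY s
  have hstX := Sq.isSetup_X' hX t
  have hstY := Sq.isSetup_Y' hY t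
  obtain ⟨β, hβe⟩ := exists_pull t.δX' t.δY' hstX t.f' r (Sq.hasRelDim_f' r hr t)
    (Sq.deltaCompat_f' hδ t) α
  have hβ0 : β ∈ Cyc.Zk t.X' t.δX' (k + r) := pullFun_mem_Zk t.f' t.δX' t.δY' r k hα β hβe
  have hβ : β ∈ Cyc.Zk t.X' t.δX' (k - -(r : ℤ)) := by
    rwa [show k - -(r : ℤ) = k + r by ring]
  refine ⟨β, hβ, ?_, ?_⟩
  · exact pullOp_cl hX hY f r hr hδ t k α hα β hβe _ rfl hβ
  · have key := map_pullFun_of_isPullback t.f' h' h s.f' (isPullback_sq h h' w1 w2 w3).flip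
      t.δY' s.δY' s.δX' t.δX' r (Sq.hasRelDim_f' r hr s) hssY hstY hssX hstX
      (deltaCompat_h h w1) (Sq.deltaCompat_f' hδ s) (deltaCompat_h' h' w3) k α hα β hβe
    exact pullOp_cl hX hY f r hr hδ s k _ _ _ key _ rfl (cycMap_mem_Zk h' t.δX' s.δX' _ hβ)

theorem pullOK_pullOp (s t : Sq f δX δY) (h : t.Y' ⟶ s.Y') [Flat h] (h' : t.X' ⟶ s.X')
    [Flat h'] (r' : ℕ) (hr₁ : Cyc.HasRelDim h r') (hr₂ : Cyc.HasRelDim h' r')
    (w1 : h ≫ s.g = t.g) (w2 : h' ≫ s.f' = t.f' ≫ h) (w3 : h' ≫ s.g' = t.g') (k : ℤ) :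
    PullOK s.δY' s.δX' t.δY' t.δX' h h' (r' : ℤ) (pullOp hX hY f r hr hδ s k)
      (pullOp hX hY f r hr hδ t (k + r')) := by
  intro α hα
  haveI := Sq.flat_f' s
  haveI := Sq.lft_f' s
  haveI := Sq.flat_f' t
  haveI := Sq.lft_f' t
  haveI := lft_h h w1
  haveI := lft_h' h' w3
  have hssX := Sq.isSetup_X' hX s
  have hssY := Sq.isSetup_Y' hY s
  have hstX := Sq.isSetup_X' hX t
  have hstY := Sq.isSetup_Y' hY t
  haveI : IsLocallyNoetherian s.X' := hssX.1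
  haveI : IsLocallyNoetherian t.Y' := hstY.1
  obtain ⟨β, hβe⟩ := exists_pull s.δX' s.δY' hssX s.f' r (Sq.hasRelDim_f' r hr s)
    (Sq.deltaCompat_f' hδ s) α
  have hβ0 : β ∈ Cyc.Zk s.X' s.δX' (k + r) := pullFun_mem_Zk s.f' s.δX' s.δY' r k hα β hβe
  have hβ : β ∈ Cyc.Zk s.X' s.δX' (k - -(r : ℤ)) := by
    rwa [show k - -(r : ℤ) = k + r by ring]
  refine ⟨β, hβ, ?_, ?_⟩
  · exact pullOp_cl hX hY f r hr hδ s k α hα β hβe _ rfl hβ
  · intro α₁ hα₁e hα₁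
    obtain ⟨β₁, hβ₁e⟩ := exists_pull t.δX' s.δX' hstX h' r' hr₂ (deltaCompat_h' h' w3) β
    have hβ₁0 : β₁ ∈ Cyc.Zk t.X' t.δX' (k - -(r : ℤ) + r') :=
      pullFun_mem_Zk h' t.δX' s.δX' r' _ hβ β₁ hβ₁e
    have hβ₁ : β₁ ∈ Cyc.Zk t.X' t.δX' (k + r' - -(r : ℤ)) := by
      rwa [show k + (r' : ℤ) - -(r : ℤ) = k - -(r : ℤ) + r' by ring]
    refine ⟨β₁, hβ₁, hβ₁e, ?_⟩
    have e1 := Groth.Agent.Lib.helper16.CycFlat.pullFun_comp h' s.f' t.δX' s.δX' s.δY' r' r hr₂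
      (Sq.hasRelDim_f' r hr s) (deltaCompat_h' h' w3) (Sq.deltaCompat_f' hδ s) ⇑α
    have e2 := Groth.Agent.Lib.helper16.CycFlat.pullFun_comp t.f' h t.δX' t.δY' s.δY' r r'
      (Sq.hasRelDim_f' r hr t) hr₁ (Sq.deltaCompat_f' hδ t) (deltaCompat_h h w1) ⇑α
    have e3 : ∀ (q q' : t.X' ⟶ s.Y') (_ : q = q') (m m' : ℤ) (_ : m = m'),
        Cyc.pullFun q t.δX' s.δY' m ⇑α = Cyc.pullFun q' t.δX' s.δY' m' ⇑α := by
      intro q q' hq m m' hm; subst hq; subst hm; rfl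
    have key : ⇑β₁ = Cyc.pullFun t.f' t.δX' t.δY' r ⇑α₁ := by
      rw [hβ₁e, hβe, hα₁e, e1, e2]
      exact e3 _ _ w2 _ _ (by ring)
    exact pullOp_cl hX hY f r hr hδ t (k + r') α₁ hα₁ β₁ key _ rfl hβ₁

end Groth.Agent.Lib.helper2.FPull
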