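import Mathlib
import Groth.Agent.Lib.Helper2.PushPt6
import Groth.Agent.Lib.Helper17.FlatOver7

/-!
# Transport of `c₁`-data along an isomorphism of modules (helper2)

For an isomorphism `e : M ≅ M'` of `O_X`-modules: `fibMap e ξ : M(ξ) → M'(ξ)`, and invariance of
`Cyc.secOrdAt`, `Cyc.secDivFun`, `Cyc.gysinChoice`, `Cyc.c1CapFun`, `Cyc.IsZeroSchemeOf`.
-/

set_option autoImplicit false
set_option linter.unusedSectionVars false

namespace Groth.Agent.Lib.helper2.PPush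

universe u

open CategoryTheory CategoryTheory.Limits AlgebraicGeometry TopologicalSpace Function
open Groth.Agent.Lib.helper16.CycClosed Groth.Agent.Lib.helper16.SecOrd
  Groth.Agent.Lib.helper16.PullStalk Groth.Agent.Lib.helper17.FlatOver7

variable {X : Scheme.{u}} {M M' : X.Modules}

theorem stalkLin_germ (φ : M ⟶ M') (x : X) (U : X.Opens) (hx : x ∈ U) (s : Γ(M, U)) :
    stalkLin φ x ((M.presheaf.germ U x hx).hom s) =
      (M'.presheaf.germ U x hx).hom ((φ.app U).hom s) :=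
  stalkAdd_germ φ x U hx s

theorem stalkLin_stalkSpecializes (φ : M ⟶ M') {x ξ : X} (h : ξ ⤳ x)
    (t : M.presheaf.stalk x) :
    stalkLin φ ξ (M.presheaf.stalkSpecializes h t) =
      M'.presheaf.stalkSpecializes h (stalkLin φ x t) := by
  obtain ⟨U, hxU, a, rfl⟩ := TopCat.Presheaf.exists_germ_eq _ t
  have hξU : ξ ∈ U := h.mem_open U.isOpen hxU
  have e1 : M.presheaf.stalkSpecializes h (M.presheaf.germ U x hxU a) =
      M.presheaf.germ U ξ hξU a :=
    ConcreteCategory.congr_hom (TopCat.Presheaf.germ_stalkSpecializes M.presheaf hxU h) a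
  have e2 : M'.presheaf.stalkSpecializes h (M'.presheaf.germ U x hxU ((φ.app U).hom a)) =
      M'.presheaf.germ U ξ hξU ((φ.app U).hom a) :=
    ConcreteCategory.congr_hom (TopCat.Presheaf.germ_stalkSpecializes M'.presheaf hxU h) _
  rw [e1]
  erw [stalkLin_germ φ ξ U hξU a, stalkLin_germ φ x U hxU a]
  exact e2.symm

variable (e : M ≅ M')

theorem span_stalkLin {x : X} (t : M.presheaf.stalk x)
    (ht : Submodule.span (X.presheaf.stalk x) {t} = ⊤) :
    Submodule.span (X.presheaf.stalk x) {stalkLin e.hom x t} = ⊤ := by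
  have h1 : Submodule.map (stalkLinEquiv e x).toLinearMap
      (Submodule.span (X.presheaf.stalk x) {t}) = ⊤ := by
    rw [ht, Submodule.map_top]
    exact LinearEquiv.range _
  rw [Submodule.map_span, Set.image_singleton] at h1
  exact h1

/-- the induced map on fibres `M(ξ) → M'(ξ)` -/
noncomputable def fibMap (ξ : X) :
    Cyc.secFibre M ξ →ₗ[X.presheaf.stalk ξ] Cyc.secFibre M' ξ :=
  Submodule.mapQ _ _ (stalkLin e.hom ξ) (by
    rw [Submodule.smul_le]
    intro r hr n _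
    rw [Submodule.mem_comap, map_smul]
    exact Submodule.smul_mem_smul hr Submodule.mem_top)

theorem fibMap_mk (ξ : X) (m : M.presheaf.stalk ξ) :
    fibMap e ξ (Submodule.Quotient.mk m) = Submodule.Quotient.mk (stalkLin e.hom ξ m) :=
  Submodule.mapQ_apply _ _ _ _

theorem fibMap_symm_fibMap (ξ : X) (s : Cyc.secFibre M ξ) :
    fibMap e.symm ξ (fibMap e ξ s) = s := by
  obtain ⟨m, rfl⟩ := Submodule.Quotient.mk_surjective _ s
  rw [fibMap_mk, fibMap_mk]
  congr 1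
  exact (stalkLinEquiv e ξ).left_inv m

theorem fibMap_ne_zero (ξ : X) (s : Cyc.secFibre M ξ) (hs : s ≠ 0) : fibMap e ξ s ≠ 0 := by
  intro h
  apply hs
  rw [← fibMap_symm_fibMap e ξ s, h, map_zero]

theorem fibMap_eq_zero_iff (ξ : X) (s : Cyc.secFibre M ξ) : fibMap e ξ s = 0 ↔ s = 0 := by
  constructor
  · intro h
    by_contra hs
    exact fibMap_ne_zero e ξ s hs h
  · rintro rfl
    exact map_zero _

theorem secOrdAt_fibMap (hM : IsLocCyc M) (x ξ : X) (h : ξ ⤳ x) (s : Cyc.secFibre M ξ)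
    (hs : s ≠ 0) : Cyc.secOrdAt M' ξ x h (fibMap e ξ s) = Cyc.secOrdAt M ξ x h s := by
  obtain ⟨g, hg⟩ := hM.cyc x
  have hg' := hM.spec x ξ h g hg
  obtain ⟨ψ, hψ⟩ := exists_smul_mk_eq M ξ _ hg' s
  rw [secOrdAt_eq M x ξ h s hs g hg ψ hψ,
    secOrdAt_eq M' x ξ h (fibMap e ξ s) (fibMap_ne_zero e ξ s hs) (stalkLin e.hom x g)
      (span_stalkLin e g hg) ψ (by
        rw [← stalkLin_stalkSpecializes, ← fibMap_mk, ← map_smul, ← hψ])]

theorem secDivFun_fibMap (hM : IsLocCyc M) (δ : X → ℤ) (ξ : X) (s : Cyc.secFibre M ξ)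
    (hs : s ≠ 0) : Cyc.secDivFun δ M' ξ (fibMap e ξ s) = Cyc.secDivFun δ M ξ s := by
  funext x
  unfold Cyc.secDivFun
  split_ifs with h
  · exact secOrdAt_fibMap e hM x ξ h.1 s hs
  · rfl

theorem c1CapFun_fibMap (hM : IsLocCyc M) (δ : X → ℤ) (β : X → ℤ)
    (u : (ξ : X) → Cyc.secFibre M ξ) (hu : ∀ ξ, u ξ ≠ 0) :
    Cyc.c1CapFun δ M' β (fun ξ => fibMap e ξ (u ξ)) = Cyc.c1CapFun δ M β u := by
  funext x
  unfold Cyc.c1CapFun
  refine finsum_congr fun ξ => ?_
  rw [secDivFun_fibMap e hM δ ξ (u ξ) (hu ξ)]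

theorem mk_germ_app (σ : M.presheaf.obj (Opposite.op ⊤)) (ξ : X) :
    (Submodule.Quotient.mk ((M'.presheaf.germ ⊤ ξ trivial) ((e.hom.app ⊤).hom σ)) :
      Cyc.secFibre M' ξ) =
    fibMap e ξ (Submodule.Quotient.mk ((M.presheaf.germ ⊤ ξ trivial) σ)) := by
  rw [fibMap_mk]
  congr 1
  exact (stalkLin_germ e.hom ξ ⊤ trivial σ).symm

open Classical in
theorem gysinChoice_fibMap (σ : M.presheaf.obj (Opposite.op ⊤))
    (w : (ξ : X) → Cyc.secFibre M ξ) (ξ : X) :
    Cyc.gysinChoice M' ((e.hom.app ⊤).hom σ) (fun ξ => fibMap e ξ (w ξ)) ξ =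
      fibMap e ξ (Cyc.gysinChoice M σ w ξ) := by
  unfold Cyc.gysinChoice
  rw [mk_germ_app]
  by_cases h : (Submodule.Quotient.mk ((M.presheaf.germ ⊤ ξ trivial) σ) : Cyc.secFibre M ξ) = 0
  · have h' : fibMap e ξ (Submodule.Quotient.mk ((M.presheaf.germ ⊤ ξ trivial) σ)) = 0 := by
      rw [h, map_zero]
    rw [if_neg (not_not.2 h'), if_neg (not_not.2 h)]
  · have h' : fibMap e ξ (Submodule.Quotient.mk ((M.presheaf.germ ⊤ ξ trivial) σ)) ≠ 0 :=
      fibMap_ne_zero e ξ _ h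
    rw [if_pos h', if_pos h]

theorem isZeroSchemeOf_iso {D : Scheme.{u}} (i : D ⟶ X) (σ : M.presheaf.obj (Opposite.op ⊤))
    (h : Cyc.IsZeroSchemeOf i M σ) : Cyc.IsZeroSchemeOf i M' ((e.hom.app ⊤).hom σ) := by
  refine ⟨?_, ?_⟩
  · rw [h.1]
    ext x
    simp only [Set.mem_setOf_eq]
    rw [mk_germ_app, fibMap_eq_zero_iff]
  · intro d
    obtain ⟨t, f, ht, hf, hk⟩ := h.2 d
    refine ⟨stalkLin e.hom (i d) t, f, span_stalkLin e t ht, ?_, hk⟩
    rw [← map_smul, ← hf]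
    exact (stalkLin_germ e.hom (i d) ⊤ trivial σ).symm

end Groth.Agent.Lib.helper2.PPush
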