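import Mathlib
import Groth.Agent.Lib.Helper2.PPush4

/-!
# `f_* ∘ c`: compatibility with proper pushforward (helper2)
-/

set_option autoImplicit false
set_option linter.unusedSectionVars false

namespace Groth.Agent.Lib.helper2.PPush

universe u

open CategoryTheory CategoryTheory.Limits AlgebraicGeometry TopologicalSpace Function Opposite
open Groth.Agent.Lib.helper2.BivarPush Bivar

variable {X Y Z : Scheme.{u}} {δX : X → ℤ} {δY : Y → ℤ} {δZ : Z → ℤ}
  (f : X ⟶ Y) (g : Y ⟶ Z) [LocallyOfFiniteType g]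

section baseChange

variable {f g} {s t : Sq g δY δZ} (d : FP f g s δX) (h' : t.X' ⟶ s.X') (w3 : h' ≫ s.g' = t.g')

include w3 in
theorem FP.isPullback_baseChange :
    IsPullback (pullback.snd d.f' h') (pullback.fst d.f' h' ≫ d.gX) t.g' f := by
  have := (IsPullback.of_hasPullback d.f' h').paste_horiz d.hp.flip
  rw [w3] at this
  exact this.flip

include w3 in
theorem FP.lft_baseChange : LocallyOfFiniteType (pullback.fst d.f' h' ≫ d.gX) :=
  MorphismProperty.of_isPullback (P := @LocallyOfFiniteType) (d.isPullback_baseChange h' w3)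
    (Sq.lft_g' t)

/-- the fibre product over `t` obtained by base change of a fibre product over `s` along
`h' : t.X' ⟶ s.X'` -/
noncomputable def FP.baseChange : FP f g t δX :=
  haveI := d.lft_baseChange h' w3
  { X' := pullback d.f' h'
    f' := pullback.snd d.f' h'
    gX := pullback.fst d.f' h' ≫ d.gX
    hp := d.isPullback_baseChange h' w3
    δX' := (exists_deltaCompat (pullback.fst d.f' h' ≫ d.gX) δX).choose
    hX' := (exists_deltaCompat (pullback.fst d.f' h' ≫ d.gX) δX).choose_spec }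

theorem FP.deltaCompat_fst :
    Cyc.DeltaCompat (pullback.fst d.f' h') (d.baseChange h' w3).δX' d.δX' := by
  refine deltaCompat_cancel (pullback.fst d.f' h') d.gX _ d.δX' δX ?_ d.hX'
  exact (d.baseChange h' w3).hX'

end baseChange

variable [IsProper f] (hX : Cyc.IsSetup X δX) (hY : Cyc.IsSetup Y δY)
  (hδf : Cyc.DeltaCompat f δX δY) {p : ℤ} (c : Cl p (f ≫ g) δX δZ)

theorem pushOK_pushOp (s t : Sq g δY δZ) (h : t.Y' ⟶ s.Y') [IsProper h] (h' : t.X' ⟶ s.X')
    [IsProper h'] (w1 : h ≫ s.g = t.g) (w2 : h' ≫ s.f' = t.f' ≫ h) (w3 : h' ≫ s.g' = t.g')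
    (k : ℤ) :
    PushOK t.δY' t.δX' s.δY' s.δX' h h' (pushOp f g hX hY hδf c t k)
      (pushOp f g hX hY hδf c s k) := by
  intro α hα
  set ds := chosen f g s δX with hds
  set dt := ds.baseChange h' w3 with hdt
  haveI := ds.isProper_f'
  haveI := dt.isProper_f'
  let h'' : dt.X' ⟶ ds.X' := pullback.fst ds.f' h'
  haveI : IsProper h'' := inferInstanceAs (IsProper (pullback.fst ds.f' h'))
  have hcond : h'' ≫ ds.f' = dt.f' ≫ h' := pullback.condition
  have w1' : h ≫ ds.sq.g = dt.sq.g := w1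
  have w2' : h'' ≫ ds.sq.f' = dt.sq.f' ≫ h := by
    show h'' ≫ ds.f' ≫ s.f' = (dt.f' ≫ t.f') ≫ h
    rw [← Category.assoc, hcond, Category.assoc, w2, Category.assoc]
  have w3' : h'' ≫ ds.sq.g' = dt.sq.g' := rfl
  obtain ⟨β, hβ, e₁, e₂⟩ := c.push ds.sq dt.sq h h'' w1' w2' w3' k α hα
  have hsds : Cyc.IsSetup ds.X' ds.δX' := ds.isSetup hX
  have hsdt : Cyc.IsSetup dt.X' dt.δX' := dt.isSetup hX
  have hssX : Cyc.IsSetup s.X' s.δX' := Sq.isSetup_X' hY s
  have hstX : Cyc.IsSetup t.X' t.δX' := Sq.isSetup_X' hY t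
  have hδh'' : Cyc.DeltaCompat h'' dt.δX' ds.δX' := ds.deltaCompat_fst h' w3
  have hδh' : Cyc.DeltaCompat h' t.δX' s.δX' := by
    refine deltaCompat_cancel h' s.g' t.δX' s.δX' δY ?_ s.compatX
    rw [w3]
    exact t.compatX
  refine ⟨AlgebraicCycle.map dt.f' dt.δX' t.δX' β, cycMap_mem_Zk _ _ _ (k - p) hβ, ?_, ?_⟩
  · exact pushOp_eq f g hX hY hδf c t dt k α hα β hβ e₁
  · rw [pushOp_cl f g hX hY hδf c s k _ _ _ _ e₂]
    refine cl_congr ?_ _ _
    rw [map_map hsdt hsds hssX h'' ds.f' (dt.f' ≫ h') hcond hδh'' (ds.deltaCompat_f' hδf)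
      (k - p) β hβ]
    exact (map_map hsdt hstX hssX dt.f' h' (dt.f' ≫ h') rfl (dt.deltaCompat_f' hδf) hδh'
      (k - p) β hβ).symm

end Groth.Agent.Lib.helper2.PPush
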