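import Mathlib
import Groth.Agent.Lib.Helper2.PPush5
import Groth.Agent.Lib.Helper2.PPush1
import Groth.Agent.Lib.Helper2.PPush2
import Groth.Agent.Lib.Helper2.PPush3
import Groth.Agent.Lib.Helper2.PInsep1

/-!
# `f_* ∘ c`: compatibility with Gysin maps (helper2)
-/

set_option autoImplicit false
set_option linter.unusedSectionVars false

namespace Groth.Agent.Lib.helper2.PPush

universe u

open CategoryTheory CategoryTheory.Limits AlgebraicGeometry TopologicalSpace Function Opposite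
open Groth.Agent.Lib.helper2.BivarPush Bivar
open Groth.Agent.Lib.helper16.CycClosed Groth.Agent.Lib.helper16.SecOrd

theorem c1CapFun_eq_zero_of_delta_ne {T : Scheme.{u}} (δ : T → ℤ) (L : T.Modules) (l : ℤ)
    (β : AlgebraicCycle T ℤ) (hβ : β ∈ Cyc.Zk T δ (l + 1)) (u : (ξ : T) → Cyc.secFibre L ξ)
    (x : T) (hx : δ x ≠ l) : Cyc.c1CapFun δ L ⇑β u x = 0 := by
  unfold Cyc.c1CapFun
  refine finsum_eq_zero_of_forall_eq_zero fun ξ => ?_
  by_cases h : β ξ = 0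
  · rw [h, zero_mul]
  · have hξ : δ ξ = l + 1 := by
      by_contra hne
      exact h (hβ ξ hne)
    have : Cyc.secDivFun δ L ξ (u ξ) x = 0 := by
      by_contra hne
      have := (secDivFun_ne_zero_specializes δ L ξ (u ξ) x hne).2
      omega
    rw [this, mul_zero]

variable {X Y Z : Scheme.{u}} {δX : X → ℤ} {δY : Y → ℤ} {δZ : Z → ℤ}
  (f : X ⟶ Y) (g : Y ⟶ Z) [LocallyOfFiniteType g]
  [IsProper f] (hX : Cyc.IsSetup X δX) (hY : Cyc.IsSetup Y δY)
  (hδf : Cyc.DeltaCompat f δX δY) {p : ℤ} (c : Cl p (f ≫ g) δX δZ)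

theorem gysinOK_pushOp (s t : Sq g δY δZ) (i : t.Y' ⟶ s.Y') [IsClosedImmersion i]
    (j : t.X' ⟶ s.X') [IsClosedImmersion j] (w1 : i ≫ s.g = t.g)
    (w2 : j ≫ s.f' = t.f' ≫ i) (w3 : j ≫ s.g' = t.g') (L : s.Y'.Modules)
    (hL : PicF.IsInvertible L) (σ : L.presheaf.obj (Opposite.op ⊤))
    (hσ : Cyc.IsZeroSchemeOf i L σ)
    (τ : ((Scheme.Modules.pullback s.f').obj L).presheaf.obj (Opposite.op ⊤))
    (hτ : Cyc.IsZeroSchemeOf j ((Scheme.Modules.pullback s.f').obj L) τ) (k : ℤ) :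
    GysinOK s.δY' t.δY' s.δX' t.δX' i L σ j ((Scheme.Modules.pullback s.f').obj L) τ
      (pushOp f g hX hY hδf c s k) (pushOp f g hX hY hδf c t (k - 1)) := by
  intro α hα
  set ds := chosen f g s δX with hds
  set dt := ds.baseChange j w3 with hdt
  haveI := ds.isProper_f'
  haveI := dt.isProper_f'
  let j'' : dt.X' ⟶ ds.X' := pullback.fst ds.f' j
  haveI : IsClosedImmersion j'' := inferInstanceAs (IsClosedImmersion (pullback.fst ds.f' j))
  have hcond : j'' ≫ ds.f' = dt.f' ≫ j := pullback.condition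
  have w1' : i ≫ ds.sq.g = dt.sq.g := w1
  have w2' : j'' ≫ ds.sq.f' = dt.sq.f' ≫ i := by
    show j'' ≫ ds.f' ≫ s.f' = (dt.f' ≫ t.f') ≫ i
    rw [← Category.assoc, hcond, Category.assoc, w2, Category.assoc]
  have w3' : j'' ≫ ds.sq.g' = dt.sq.g' := rfl
  -- the modules
  let L₀ := (Scheme.Modules.pullback s.f').obj L
  have hL₀ : PicF.IsInvertible L₀ := isInvertible_pullback s.f' L hL
  let M := (Scheme.Modules.pullback ds.f').obj L₀
  have hM : PicF.IsInvertible M := isInvertible_pullback ds.f' L₀ hL₀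
  have hMc : IsLocCyc M := isLocCyc_of_isInvertible M hM
  let e : M ≅ (Scheme.Modules.pullback (ds.f' ≫ s.f')).obj L :=
    (Scheme.Modules.pullbackComp ds.f' s.f').app L
  let s' := pullGlobal ds.f' L₀ τ
  have hs' : Cyc.IsZeroSchemeOf (pullback.fst ds.f' j) M s' :=
    isZeroSchemeOf_pullGlobal ds.f' j L₀ hL₀ τ hτ
  have hτ'' := isZeroSchemeOf_iso e (pullback.fst ds.f' j) s' hs'
  obtain ⟨β, hβ, e₁, e₂⟩ := c.gysin ds.sq dt.sq i j'' w1' w2' w3' L hL σ hσ _ hτ'' k α hα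
  have hsds : Cyc.IsSetup ds.X' ds.δX' := ds.isSetup hX
  have hsdt : Cyc.IsSetup dt.X' dt.δX' := dt.isSetup hX
  have hssX : Cyc.IsSetup s.X' s.δX' := Sq.isSetup_X' hY s
  have hstX : Cyc.IsSetup t.X' t.δX' := Sq.isSetup_X' hY t
  have hδj : Cyc.DeltaCompat j t.δX' s.δX' := by
    refine deltaCompat_cancel j s.g' t.δX' s.δX' δY ?_ s.compatX
    rw [w3]
    exact t.compatX
  have hδt : t.δX' = fun d => s.δX' (j d) :=
    funext fun d => Groth.Agent.Lib.helper2.PInsep.delta_eq_of_isFinite j t.δX' s.δX' hδj d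
  have hδdt : dt.δX' = fun z => ds.δX' (pullback.fst ds.f' j z) :=
    funext fun z => Groth.Agent.Lib.helper2.PInsep.delta_eq_of_isFinite j'' dt.δX' ds.δX'
      (ds.deltaCompat_fst j w3) z
  refine ⟨AlgebraicCycle.map ds.f' ds.δX' s.δX' β, cycMap_mem_Zk _ _ _ (k - p) hβ, ?_, ?_⟩
  · exact pushOp_cl f g hX hY hδf c s k α hα β hβ e₁
  · intro w hw γ hγe hγ w' hw'
    obtain ⟨w₀, hw₀⟩ := exists_nowhere_zero M hM
    obtain ⟨ζ'', hζ'', hζ''e, e₄⟩ := e₂ w hw γ hγe hγ (fun ξ => fibMap e ξ (w₀ ξ))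
      (fun ξ => fibMap_ne_zero e ξ _ (hw₀ ξ))
    haveI : IsLocallyNoetherian s.X' := hssX.1
    have hu := Groth.Agent.Lib.helper16.GysinFlat.gysinChoice_ne_zero L₀ τ w' hw'
    obtain ⟨γX, hγX⟩ := exists_cycle_c1CapFun s.δX' hssX.2.2 L₀ hL₀
      (AlgebraicCycle.map ds.f' ds.δX' s.δX' β) (Cyc.gysinChoice L₀ τ w') hu
    obtain ⟨ζ, hζe⟩ := exists_restrict j γX
    have hζe' : ∀ d, ζ d = Cyc.c1CapFun s.δX' L₀
        ⇑(AlgebraicCycle.map ds.f' ds.δX' s.δX' β) (Cyc.gysinChoice L₀ τ w') (j d) := by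
      intro d
      rw [hζe d, hγX]
    have hβ' : AlgebraicCycle.map ds.f' ds.δX' s.δX' β ∈ Cyc.Zk s.X' s.δX' (k - 1 - p + 1) := by
      have := cycMap_mem_Zk ds.f' ds.δX' s.δX' (k - p) hβ
      rwa [show k - 1 - p + 1 = k - p by ring]
    have hζ : ζ ∈ Cyc.Zk t.X' t.δX' (k - 1 - p) := by
      intro d hd
      rw [hζe' d]
      refine c1CapFun_eq_zero_of_delta_ne s.δX' L₀ (k - 1 - p) _ hβ' _ (j d) ?_
      rw [← congrFun hδt d]
      exact hd
    refine ⟨ζ, hζ, hζe', ?_⟩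
    rw [pushOp_eq f g hX hY hδf c t dt (k - 1) γ hγ ζ'' hζ'' e₄]
    symm
    refine cl_eq_of_ratEquiv _ _ ?_
    have hβ'' : β ∈ Cyc.Zk ds.X' ds.δX' (k - 1 - p + 1) := by
      rwa [show k - 1 - p + 1 = k - p by ring]
    have hu₀ := Groth.Agent.Lib.helper16.GysinFlat.gysinChoice_ne_zero M s' w₀ hw₀
    have hγ' : ∀ z, ζ'' z = Cyc.c1CapFun ds.δX' M ⇑β (Cyc.gysinChoice M s' w₀)
        (pullback.fst ds.f' j z) := by
      intro z
      rw [hζ''e z, ← c1CapFun_fibMap e hMc ds.δX' ⇑β (Cyc.gysinChoice M s' w₀) hu₀]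
      congr 2
      funext ξ
      exact gysinChoice_fibMap e s' w₀ ξ
    have key := Groth.Agent.Lib.helper2.PushPt.ratEquiv_gysin_push ds.f' j s.δX' ds.δX' hssX hsds
      (ds.deltaCompat_f' hδf) L₀ hL₀ τ hτ s' hs' (k - 1 - p) β hβ'' w' hw' w₀ hw₀ ζ hζe' ζ'' hγ'
    rw [← hδt, ← hδdt] at key
    exact key

end Groth.Agent.Lib.helper2.PPush
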