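import Mathlib
import Groth.Agent.Lib.Helper2.FPull3
import Groth.Agent.Lib.Helper2.PPush7
import Groth.Agent.Lib.Helper2.AffB8
import Groth.Agent.Lib.Helper16.GysinFlat3

/-!
# The flat pullback class: compatibility with Gysin maps (helper2)
-/

set_option autoImplicit false
set_option linter.unusedSectionVars false

namespace Groth.Agent.Lib.helper2.FPull

universe u

open CategoryTheory CategoryTheory.Limits AlgebraicGeometry TopologicalSpace Function Opposite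
open Groth.Agent.Lib.helper2.BivarPush Groth.Agent.Lib.helper2.PPush Bivar
open Groth.Agent.Lib.helper16.ShiftPull Groth.Agent.Lib.helper16.C1Pull
  Groth.Agent.Lib.helper16.DivSum Groth.Agent.Lib.helper16.CycClosed
  Groth.Agent.Lib.helper16.SecOrd

theorem isZeroSchemeOf_comp_iso {D D' T : Scheme.{u}} (e : D' ≅ D) (i : D ⟶ T) (L : T.Modules)
    (s : L.presheaf.obj (Opposite.op ⊤)) (h : Cyc.IsZeroSchemeOf i L s) :
    Cyc.IsZeroSchemeOf (e.hom ≫ i) L s := by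
  refine ⟨?_, ?_⟩
  · rw [← h.1]
    ext x
    constructor
    · rintro ⟨d', rfl⟩
      exact ⟨e.hom d', rfl⟩
    · rintro ⟨d, rfl⟩
      exact ⟨e.inv d, by
        show i (e.hom (e.inv d)) = i d
        rw [inv_hom_apply]⟩
  · intro d'
    obtain ⟨t, φ, ht, hφ, hk⟩ := h.2 (e.hom d')
    refine ⟨t, φ, ht, hφ, ?_⟩
    have hbij : Function.Bijective (e.hom.stalkMap d').hom :=
      ConcreteCategory.bijective_of_isIso (e.hom.stalkMap d')
    have hker : RingHom.ker ((e.hom ≫ i).stalkMap d').hom =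
        RingHom.ker (i.stalkMap (e.hom d')).hom := by
      ext a
      show ((e.hom ≫ i).stalkMap d').hom a = 0 ↔ (i.stalkMap (e.hom d')).hom a = 0
      rw [Scheme.Hom.stalkMap_comp]
      show (e.hom.stalkMap d').hom ((i.stalkMap (e.hom d')).hom a) = 0 ↔ _
      rw [map_eq_zero_iff _ hbij.1]
    exact hker.trans hk

variable {X Y : Scheme.{u}} {δX : X → ℤ} {δY : Y → ℤ} (hX : Cyc.IsSetup X δX)
  (hY : Cyc.IsSetup Y δY) (f : X ⟶ Y) [Flat f] [LocallyOfFiniteType f] (r : ℕ)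
  (hr : Cyc.HasRelDim f r) (hδ : Cyc.DeltaCompat f δX δY)

theorem gysinOK_pullOp (s t : Sq f δX δY) (i : t.Y' ⟶ s.Y') [IsClosedImmersion i]
    (j : t.X' ⟶ s.X') [IsClosedImmersion j] (w1 : i ≫ s.g = t.g)
    (w2 : j ≫ s.f' = t.f' ≫ i) (w3 : j ≫ s.g' = t.g') (L : s.Y'.Modules)
    (hL : PicF.IsInvertible L) (σ : L.presheaf.obj (Opposite.op ⊤))
    (hσ : Cyc.IsZeroSchemeOf i L σ)
    (τ : ((Scheme.Modules.pullback s.f').obj L).presheaf.obj (Opposite.op ⊤))
    (hτ : Cyc.IsZeroSchemeOf j ((Scheme.Modules.pullback s.f').obj L) τ) (k : ℤ) :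
    GysinOK s.δY' t.δY' s.δX' t.δX' i L σ j ((Scheme.Modules.pullback s.f').obj L) τ
      (pullOp hX hY f r hr hδ s k) (pullOp hX hY f r hr hδ t (k - 1)) := by
  intro α hα
  haveI := Sq.flat_f' s
  haveI := Sq.lft_f' s
  haveI := Sq.flat_f' t
  haveI := Sq.lft_f' t
  have hssX := Sq.isSetup_X' hX s
  have hssY := Sq.isSetup_Y' hY s
  have hstX := Sq.isSetup_X' hX t
  have hstY := Sq.isSetup_Y' hY t
  haveI : IsLocallyNoetherian s.X' := hssX.1
  obtain ⟨β, hβe⟩ := exists_pull s.δX' s.δY' hssX s.f' r (Sq.hasRelDim_f' r hr s)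
    (Sq.deltaCompat_f' hδ s) α
  have hβ0 : β ∈ Cyc.Zk s.X' s.δX' (k + r) := pullFun_mem_Zk s.f' s.δX' s.δY' r k hα β hβe
  have hβ : β ∈ Cyc.Zk s.X' s.δX' (k - -(r : ℤ)) := by
    rwa [show k - -(r : ℤ) = k + r by ring]
  refine ⟨β, hβ, ?_, ?_⟩
  · exact pullOp_cl hX hY f r hr hδ s k α hα β hβe _ rfl hβ
  · intro w hw γ hγe hγ w' hw'
    let M := (Scheme.Modules.pullback s.f').obj L
    have hM : PicF.IsInvertible M := isInvertible_pullback s.f' L hL
    have hu := Groth.Agent.Lib.helper16.GysinFlat.gysinChoice_ne_zero M τ w' hw'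
    obtain ⟨γX, hγX⟩ := exists_cycle_c1CapFun s.δX' hssX.2.2 M hM β (Cyc.gysinChoice M τ w') hu
    obtain ⟨ζ, hζe⟩ := exists_restrict j γX
    have hζe' : ∀ d, ζ d = Cyc.c1CapFun s.δX' M ⇑β (Cyc.gysinChoice M τ w') (j d) := by
      intro d
      rw [hζe d, hγX]
    have hδt : t.δX' = fun d => s.δX' (j d) :=
      funext fun d => Groth.Agent.Lib.helper2.PInsep.delta_eq_of_isFinite j t.δX' s.δX'
        (deltaCompat_h' j w3) d
    have hδtY : t.δY' = fun d => s.δY' (i d) :=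
      funext fun d => Groth.Agent.Lib.helper2.PInsep.delta_eq_of_isFinite i t.δY' s.δY'
        (deltaCompat_h i w1) d
    have hβ' : β ∈ Cyc.Zk s.X' s.δX' (k - 1 - -(r : ℤ) + 1) := by
      rwa [show k - 1 - -(r : ℤ) + 1 = k - -(r : ℤ) by ring]
    have hζ : ζ ∈ Cyc.Zk t.X' t.δX' (k - 1 - -(r : ℤ)) := by
      intro d hd
      rw [hζe' d]
      refine c1CapFun_eq_zero_of_delta_ne s.δX' M (k - 1 - -(r : ℤ)) _ hβ' _ (j d) ?_
      rw [← congrFun hδt d]
      exact hd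
    refine ⟨ζ, hζ, hζe', ?_⟩
    -- the flat pullback of γ
    obtain ⟨θ, hθe⟩ := exists_pull t.δX' t.δY' hstX t.f' r (Sq.hasRelDim_f' r hr t)
      (Sq.deltaCompat_f' hδ t) γ
    have hθ0 : θ ∈ Cyc.Zk t.X' t.δX' (k - 1 + r) :=
      pullFun_mem_Zk t.f' t.δX' t.δY' r (k - 1) hγ θ hθe
    have hθ : θ ∈ Cyc.Zk t.X' t.δX' (k - 1 - -(r : ℤ)) := by
      rwa [show k - 1 - -(r : ℤ) = k - 1 + r by ring]
    rw [pullOp_cl hX hY f r hr hδ t (k - 1) γ hγ θ hθe _ rfl hθ]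
    symm
    refine cl_eq_of_ratEquiv _ _ ?_
    -- transport to the chosen pullback
    let e : t.X' ≅ pullback s.f' i := (isPullback_sq i j w1 w2 w3).isoPullback
    have he1 : e.hom ≫ pullback.fst s.f' i = j := (isPullback_sq i j w1 w2 w3).isoPullback_hom_fst
    have he2 : e.hom ≫ pullback.snd s.f' i = t.f' :=
      (isPullback_sq i j w1 w2 w3).isoPullback_hom_snd
    have he1' : e.inv ≫ j = pullback.fst s.f' i := by rw [← he1, Iso.inv_hom_id_assoc]
    have hD' : Cyc.IsZeroSchemeOf (pullback.fst s.f' i) M τ := by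
      rw [← he1']
      exact isZeroSchemeOf_comp_iso e.symm j M τ hτ
    have hfst : ∀ a, pullback.fst s.f' i (e.hom a) = j a := fun a => by
      rw [← Scheme.Hom.comp_apply, he1]
    have hδQ : ∀ a, t.δX' a = s.δX' (pullback.fst s.f' i (e.hom a)) := fun a => by
      rw [hfst, congrFun hδt a]
    obtain ⟨ζ₁, hζ₁e⟩ := exists_restrict (pullback.fst s.f' i) γX
    let ζ₂ := AlgebraicCycle.map e.hom t.δX' (fun z => s.δX' (pullback.fst s.f' i z)) θ
    have h₁ : ∀ z, ζ₁ z = Cyc.c1CapFun s.δX' M (Cyc.pullFun s.f' s.δX' s.δY' r ⇑α)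
        (Cyc.gysinChoice M τ w') (pullback.fst s.f' i z) := by
      intro z
      rw [hζ₁e z, hγX, hβe]
    have h₂ : ⇑ζ₂ = Cyc.pullFun (pullback.snd s.f' i) (fun z => s.δX' (pullback.fst s.f' i z))
        (fun d => s.δY' (i d)) r
        (fun d => Cyc.c1CapFun s.δY' L ⇑α (Cyc.gysinChoice L σ w) (i d)) := by
      funext z
      have hz : e.hom (e.inv z) = z := inv_hom_apply e z
      rw [← hz]
      show AlgebraicCycle.map e.hom t.δX' _ θ (e.hom (e.inv z)) = _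
      rw [map_iso_apply e t.δX' _ hδQ θ (e.inv z), hθe]
      have hγf : (fun d => Cyc.c1CapFun s.δY' L ⇑α (Cyc.gysinChoice L σ w) (i d)) = ⇑γ :=
        funext fun d => (hγe d).symm
      rw [hγf, ← hδtY,
        ← pullFun_comp_iso e (pullback.snd s.f' i) t.δX' _ t.δY' hδQ r ⇑γ (e.inv z)]
      have : ∀ (q q' : t.X' ⟶ t.Y') (_ : q = q') (a : t.X'),
          Cyc.pullFun q t.δX' t.δY' r ⇑γ a = Cyc.pullFun q' t.δX' t.δY' r ⇑γ a := by
        intro q q' h a; subst h; rfl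
      exact this _ _ he2.symm _
    have hα' : α ∈ Cyc.Zk s.Y' s.δY' (k - 1 + 1) := by
      rwa [show k - 1 + 1 = k by ring]
    have key := Groth.Agent.Lib.helper16.GysinFlat.ratEquiv_gysin_pull s.f' i s.δY' s.δX' hssY
      hssX r (Sq.hasRelDim_f' r hr s) (Sq.deltaCompat_f' hδ s) L hL σ hσ τ hD' (k - 1) α hα' w hw
      w' hw' ζ₁ ζ₂ h₁ h₂
    have hδe : (fun b => t.δX' (e.inv b)) = fun z => s.δX' (pullback.fst s.f' i z) := by
      funext b
      rw [hδQ (e.inv b), inv_hom_apply]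
    show Cyc.RatEquivZero t.δX' (k - 1 - -(r : ℤ)) (ζ - θ)
    refine Groth.Agent.Lib.helper2.AffB.ratEquivZero_of_iso e t.δX' _ (ζ - θ) (ζ₁ - ζ₂) ?_ ?_
    · intro a
      show ζ₁ (e.hom a) - ζ₂ (e.hom a) = ζ a - θ a
      rw [hζ₁e, hfst, ← hζe a]
      congr 1
      exact map_iso_apply e t.δX' _ hδQ θ a
    · rw [hδe, show k - 1 - -(r : ℤ) = k - 1 + r by ring]
      exact key

end Groth.Agent.Lib.helper2.FPull
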