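import Mathlib

namespace Groth.Agent.Lib.helper2.QuotRing

open Polynomial

/-- In a normal extension, an element fixed by all automorphisms has a `q`-power in the base. -/
theorem pow_mem_of_fixed {K L : Type*} [Field K] [Field L] [Algebra K L] [Normal K L]
    (q : ℕ) [ExpChar K q] (l : L) (hl : ∀ σ : L ≃ₐ[K] L, σ l = l) :
    ∃ n : ℕ, l ^ q ^ n ∈ (algebraMap K L).range := by
  rw [← minpoly.natSepDegree_eq_one_iff_pow_mem q]
  classical
  have hint : IsIntegral K l := Normal.isIntegral inferInstance l
  have hsplit : ((minpoly K l).map (algebraMap K L)).Splits := Normal.splits inferInstance l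
  rw [natSepDegree_eq_of_splits (minpoly K l) hsplit]
  have : ((minpoly K l).aroots L).toFinset = {l} := by
    ext β
    simp only [Multiset.mem_toFinset, Finset.mem_singleton]
    rw [mem_aroots]
    constructor
    · rintro ⟨-, hβ⟩
      obtain ⟨σ, hσ⟩ := minpoly.exists_algEquiv_of_root' hint.isAlgebraic hβ
      rw [← hσ, hl]
    · rintro rfl
      exact ⟨minpoly.ne_zero hint, minpoly.aeval K β⟩
  rw [this, Finset.card_singleton]

/-- purely inseparable criterion through a comparison with a normal extension -/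
theorem isPurelyInseparable_of_fixed {K F M L K' : Type*} [Field K] [Field F] [Field M] [Field L]
    [Field K'] (a : K →+* F) (b : F →+* M) (d : L →+* M) (k : K' →+* L) (c : K ≃+* K')
    (hcomm : ∀ z, b (a z) = d (k (c z)))
    (hnorm : letI := k.toAlgebra; Normal K' L)
    (hfix : ∀ τ : L ≃+* L, (∀ z, τ (k z) = k z) → ∀ f : F, ∃ l : L, d l = b f ∧ τ l = l)
    (hd : Function.Surjective d) :
    a.IsPurelyInseparable := by
  obtain ⟨q, hq⟩ := ExpChar.exists K
  haveI : ExpChar K' q := expChar_of_injective_ringHom (f := c.toRingHom) c.injective q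
  letI := k.toAlgebra
  haveI := hnorm
  letI := a.toAlgebra
  show IsPurelyInseparable K F
  rw [isPurelyInseparable_iff_pow_mem K q]
  intro f
  obtain ⟨l, hl⟩ := hd (b f)
  have hlfix : ∀ σ : L ≃ₐ[K'] L, σ l = l := by
    intro σ
    obtain ⟨l', hl'1, hl'2⟩ := hfix σ.toRingEquiv (fun z => σ.commutes z) f
    have : l' = l := d.injective (hl'1.trans hl.symm)
    rw [← this]
    exact hl'2
  obtain ⟨n, z', hz'⟩ := pow_mem_of_fixed q l hlfix
  refine ⟨n, c.symm z', ?_⟩
  apply b.injective
  show b (a (c.symm z')) = b (f ^ q ^ n)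
  rw [hcomm, c.apply_symm_apply, map_pow, ← hl, ← map_pow]
  exact congrArg d hz'

end Groth.Agent.Lib.helper2.QuotRing
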