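import Mathlib
import Groth.Agent.S0415
import Groth.Prelude.Def_HTop2

/-!
# Factoring through finite universal homeomorphisms (helper2)

If `h ≫ π = ν` with `ν` a universal homeomorphism, `h` surjective and `π` separated and locally of
finite type, then `π` is a finite universal homeomorphism.  Used with scheme-theoretic images.
-/

set_option autoImplicit false
universe u

open AlgebraicGeometry CategoryTheory Limits MorphismProperty

namespace Groth.Agent.Lib.helper2.FiniteUH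

/-- the map to the scheme-theoretic image is scheme-theoretically dominant. -/
instance isSchemeTheoreticallyDominant_toImage {X Y : Scheme.{u}} (f : X ⟶ Y) [QuasiCompact f] :
    IsSchemeTheoreticallyDominant f.toImage := by
  rw [isSchemeTheoreticallyDominant_iff]
  refine Scheme.IdealSheafData.ext_of_iSup_eq_top
    (fun U : Y.affineOpens ↦ ⟨f.imageι ⁻¹ᵁ U.1, U.2.preimage f.imageι⟩) ?_ ?_
  · exact f.imageι.iSup_preimage_eq_top (iSup_affineOpens_eq_top Y)
  · intro U
    simp only [Scheme.Hom.ker_apply, Scheme.IdealSheafData.ideal_bot, Pi.bot_apply]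
    exact (RingHom.injective_iff_ker_eq_bot _).1 (f.toImage_app_injective U)

theorem isReduced_image {X Y : Scheme.{u}} (f : X ⟶ Y) [QuasiCompact f] [IsReduced X] :
    IsReduced f.image :=
  IsSchemeTheoreticallyDominant.isReduced f.toImage

theorem universallyInjective_of_comp_surjective {X Y Z : Scheme.{u}} (h : X ⟶ Y) (π : Y ⟶ Z)
    [Surjective h] [UniversallyInjective (h ≫ π)] : UniversallyInjective π := by
  rw [universallyInjective_iff]
  intro P Z' i₁ i₂ π' hpb
  -- P' = pullback h i₁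
  have hpb' : IsPullback (pullback.snd h i₁) (pullback.fst h i₁) i₁ h :=
    (IsPullback.of_hasPullback h i₁).flip
  have hpaste : IsPullback (pullback.snd h i₁ ≫ π') (pullback.fst h i₁) i₂ (h ≫ π) :=
    hpb'.paste_horiz hpb
  have hinj : Function.Injective (pullback.snd h i₁ ≫ π') :=
    (inferInstance : UniversallyInjective (h ≫ π)).universally_injective _ _ _ hpaste
  intro a b hab
  obtain ⟨a', rfl⟩ := (pullback.snd h i₁).surjective a
  obtain ⟨b', rfl⟩ := (pullback.snd h i₁).surjective b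
  have : (pullback.snd h i₁ ≫ π') a' = (pullback.snd h i₁ ≫ π') b' := by
    simpa [Scheme.Hom.comp_apply] using hab
  rw [hinj this]

theorem residueFieldsIso_of_comp_surjective {X Y Z : Scheme.{u}} (h : X ⟶ Y) (π : Y ⟶ Z)
    [Surjective h] (hν : HTop.ResidueFieldsIso (h ≫ π)) : HTop.ResidueFieldsIso π := by
  intro y
  obtain ⟨x, rfl⟩ := h.surjective y
  have h4 : IsIso (π.residueFieldMap (h x) ≫ h.residueFieldMap x) := by
    rw [← Scheme.residueFieldMap_comp]
    exact hν x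
  have h5 : Function.Bijective (h.residueFieldMap x).hom := by
    refine ⟨RingHom.injective _, ?_⟩
    have h6 := (ConcreteCategory.isIso_iff_bijective _).1 h4
    intro k
    obtain ⟨w, hw⟩ := h6.2 k
    exact ⟨(π.residueFieldMap (h x)).hom w, hw⟩
  have h7 : IsIso (h.residueFieldMap x) := (ConcreteCategory.isIso_iff_bijective _).2 h5
  exact IsIso.of_isIso_comp_right _ (h.residueFieldMap x)

theorem residueFieldsIso_comp {X Y Z : Scheme.{u}} (h : X ⟶ Y) (π : Y ⟶ Z)
    (h1 : HTop.ResidueFieldsIso h) (h2 : HTop.ResidueFieldsIso π) :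
    HTop.ResidueFieldsIso (h ≫ π) := by
  intro x
  rw [Scheme.residueFieldMap_comp]
  exact @IsIso.comp_isIso _ _ _ _ _ _ _ (h2 (h x)) (h1 x)

/-- core lemma. -/
theorem isFinite_and_isUnivHomeo_of_comp {T' T₁ T : Scheme.{u}} (h : T' ⟶ T₁) (π : T₁ ⟶ T)
    [Surjective h] [IsSeparated π] [LocallyOfFiniteType π]
    (hν : FlatMor.IsUnivHomeo (h ≫ π)) : IsFinite π ∧ FlatMor.IsUnivHomeo π := by
  obtain ⟨hint, hui, hsurj⟩ := (Groth.Agent.S0415.result (h ≫ π)).1 hν
  haveI : UniversallyClosed (h ≫ π) := inferInstance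
  haveI : UniversallyClosed π := UniversallyClosed.of_comp_surjective h π
  haveI : IsProper π := {}
  haveI : UniversallyInjective π := universallyInjective_of_comp_surjective h π
  haveI : LocallyQuasiFinite π := LocallyQuasiFinite.of_injective π.injective
  haveI : IsFinite π := IsFinite.of_isProper_of_locallyQuasiFinite π
  haveI : Surjective π := ⟨fun z => by
    obtain ⟨x, hx⟩ := (h ≫ π).surjective z
    exact ⟨h x, by simpa [Scheme.Hom.comp_apply] using hx⟩⟩
  exact ⟨inferInstance, (Groth.Agent.S0415.result π).2 ⟨inferInstance, inferInstance, inferInstance⟩⟩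

theorem universallyClosed_of_isUnivHomeo {X Y : Scheme.{u}} (f : X ⟶ Y) (hf : FlatMor.IsUnivHomeo f) :
    UniversallyClosed f := by
  obtain ⟨hint, -, -⟩ := (Groth.Agent.S0415.result f).1 hf
  infer_instance

/-- Part 1: factor a map to a separated lft scheme through a finite universal homeomorphism. -/
theorem exists_factor {S X T T' : Scheme.{u}} (fX : X ⟶ S) [LocallyOfFiniteType fX]
    [IsSeparated fX] (fT : T ⟶ S) (ν : T' ⟶ T) (hν : FlatMor.IsUnivHomeo ν) (g : T' ⟶ X)
    (hg : g ≫ fX = ν ≫ fT) :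
    ∃ (T₁ : Scheme.{u}) (π : T₁ ⟶ T) (_ : IsFinite π) (_ : FlatMor.IsUnivHomeo π) (g₁ : T₁ ⟶ X)
      (h : T' ⟶ T₁), h ≫ π = ν ∧ g₁ ≫ fX = π ≫ fT ∧ h ≫ g₁ = g ∧ Surjective h := by
  let q : T' ⟶ pullback fT fX := pullback.lift ν g hg.symm
  have hq1 : q ≫ pullback.fst fT fX = ν := pullback.lift_fst _ _ _
  have hq2 : q ≫ pullback.snd fT fX = g := pullback.lift_snd _ _ _
  haveI : UniversallyClosed ν := universallyClosed_of_isUnivHomeo ν hν
  haveI : UniversallyClosed (q ≫ pullback.fst fT fX) := by rw [hq1]; infer_instance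
  haveI : UniversallyClosed q := UniversallyClosed.of_comp_of_isSeparated q (pullback.fst fT fX)
  haveI : Surjective q.toImage := inferInstance
  have e1 : q.toImage ≫ (q.imageι ≫ pullback.fst fT fX) = ν := by
    rw [← Category.assoc, Scheme.Hom.toImage_imageι, hq1]
  obtain ⟨hfin, huh⟩ := isFinite_and_isUnivHomeo_of_comp q.toImage
    (q.imageι ≫ pullback.fst fT fX) (by rw [e1]; exact hν)
  refine ⟨q.image, q.imageι ≫ pullback.fst fT fX, hfin, huh, q.imageι ≫ pullback.snd fT fX,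
    q.toImage, e1, ?_, ?_, inferInstance⟩
  · rw [Category.assoc, Category.assoc, pullback.condition]
  · rw [← Category.assoc, Scheme.Hom.toImage_imageι, hq2]

/-- Part 2: two factorizations agree after a further finite universal homeomorphism. -/
theorem exists_dominating {X T T' T₁ T₂ : Scheme.{u}} [X.IsSeparated] [IsReduced T']
    (ν : T' ⟶ T) (hν : FlatMor.IsUnivHomeo ν) (π₁ : T₁ ⟶ T) (π₂ : T₂ ⟶ T) [IsFinite π₁]
    [IsFinite π₂] (g₁ : T₁ ⟶ X) (g₂ : T₂ ⟶ X) (h₁ : T' ⟶ T₁) (h₂ : T' ⟶ T₂)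
    (e₁ : h₁ ≫ π₁ = ν) (e₂ : h₂ ≫ π₂ = ν) (e : h₁ ≫ g₁ = h₂ ≫ g₂) :
    ∃ (T₃ : Scheme.{u}) (π₃ : T₃ ⟶ T) (_ : IsFinite π₃) (_ : FlatMor.IsUnivHomeo π₃)
      (a₁ : T₃ ⟶ T₁) (a₂ : T₃ ⟶ T₂) (h₃ : T' ⟶ T₃),
      a₁ ≫ π₁ = π₃ ∧ a₂ ≫ π₂ = π₃ ∧ a₁ ≫ g₁ = a₂ ≫ g₂ ∧ Surjective h₃ ∧ h₃ ≫ π₃ = ν := by
  let q : T' ⟶ pullback π₁ π₂ := pullback.lift h₁ h₂ (e₁.trans e₂.symm)
  have hq1 : q ≫ pullback.fst π₁ π₂ = h₁ := pullback.lift_fst _ _ _
  have hq2 : q ≫ pullback.snd π₁ π₂ = h₂ := pullback.lift_snd _ _ _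
  haveI : UniversallyClosed ν := universallyClosed_of_isUnivHomeo ν hν
  haveI : UniversallyClosed (q ≫ (pullback.fst π₁ π₂ ≫ π₁)) := by
    rw [← Category.assoc, hq1, e₁]; infer_instance
  haveI : UniversallyClosed q :=
    UniversallyClosed.of_comp_of_isSeparated q (pullback.fst π₁ π₂ ≫ π₁)
  haveI : Surjective q.toImage := inferInstance
  have e1 : q.toImage ≫ ((q.imageι ≫ pullback.fst π₁ π₂) ≫ π₁) = ν := by
    rw [← Category.assoc, ← Category.assoc, Scheme.Hom.toImage_imageι, hq1, e₁]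
  obtain ⟨hfin, huh⟩ := isFinite_and_isUnivHomeo_of_comp q.toImage
    ((q.imageι ≫ pullback.fst π₁ π₂) ≫ π₁) (by rw [e1]; exact hν)
  haveI : IsReduced q.image := isReduced_image q
  refine ⟨q.image, (q.imageι ≫ pullback.fst π₁ π₂) ≫ π₁, hfin, huh, q.imageι ≫ pullback.fst π₁ π₂,
    q.imageι ≫ pullback.snd π₁ π₂, q.toImage, rfl, ?_, ?_, inferInstance, e1⟩
  · rw [Category.assoc, Category.assoc, pullback.condition]
  · refine ext_of_isDominant (ι := q.toImage) ?_
    rw [← Category.assoc, ← Category.assoc, ← Category.assoc, ← Category.assoc,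
      Scheme.Hom.toImage_imageι, hq1, hq2, e]

end Groth.Agent.Lib.helper2.FiniteUH
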