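import Mathlib
import Groth.Prelude.Def_Frob
import Groth.Agent.Lib.Helper2.SpecResidue

/-!
# The absolute Frobenius is a universal homeomorphism (helper2)
-/

set_option autoImplicit false
universe u

open AlgebraicGeometry CategoryTheory Limits MorphismProperty

namespace Groth.Agent.Lib.helper2.FrobLib

open Groth.Agent.Lib.helper2
open FrobSch

variable (p : ℕ) [Fact p.Prime] (X : Scheme.{u}) [IsCharP X p]

theorem residueFieldMap_frob_apply (x : X) (z : X.residueField x) :
    ((frob X p).residueFieldMap x).hom z = z ^ p := by
  obtain ⟨t, rfl⟩ := X.residue_surjective x z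
  obtain ⟨U, hxU, s, rfl⟩ := X.presheaf.exists_germ_eq (x := x) t
  have h1 := Scheme.evaluation_naturality_apply (frob X p) x (V := U) hxU s
  have h3 : (X.evaluation U x hxU).hom (s ^ p) = ((X.evaluation U x hxU).hom s) ^ p :=
    map_pow _ _ _
  exact h1.trans h3

theorem natCast_residueField_eq_zero (x : X) : (p : X.residueField x) = 0 := by
  have h := congrArg (X.Γevaluation x).hom (IsCharP.natCast_eq_zero (X := X) (p := p))
  simpa using h

theorem isPurelyInseparable_residueFieldMap_frob (x : X) :
    ((frob X p).residueFieldMap x).hom.IsPurelyInseparable := by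
  have hp : p.Prime := Fact.out
  haveI : CharP (X.residueField x) p :=
    (CharP.charP_iff_prime_eq_zero hp).2 (natCast_residueField_eq_zero p X x)
  haveI : ExpChar (X.residueField x) p := ExpChar.prime hp
  show letI : Algebra (X.residueField x) (X.residueField x) :=
    ((frob X p).residueFieldMap x).hom.toAlgebra
    IsPurelyInseparable (X.residueField x) (X.residueField x)
  letI : Algebra (X.residueField x) (X.residueField x) :=
    ((frob X p).residueFieldMap x).hom.toAlgebra
  rw [isPurelyInseparable_iff_pow_mem (X.residueField x) p]
  intro z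
  refine ⟨1, z, ?_⟩
  rw [pow_one]
  exact residueFieldMap_frob_apply p X x z

theorem universallyInjective_frob : UniversallyInjective (frob X p) := by
  have h20 : (Function.Injective (frob X p) ∧
      ∀ x, ((frob X p).residueFieldMap x).hom.IsPurelyInseparable) →
      UniversallyInjective (frob X p) := ((tfae_universallyInjective (frob X p)).out 2 0).1
  refine h20 ⟨?_, isPurelyInseparable_residueFieldMap_frob p X⟩
  intro x y hxy
  exact hxy

theorem isAffineHom_frob : IsAffineHom (frob X p) := ⟨fun U hU => hU⟩

theorem isIntegralHom_frob : IsIntegralHom (frob X p) := by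
  haveI := isAffineHom_frob p X
  refine ⟨fun U hU => ?_⟩
  have key : ∀ t : Γ(X, U), ((frob X p).app U).hom.IsIntegralElem t := by
    intro t
    refine ⟨Polynomial.X ^ p - Polynomial.C t,
      Polynomial.monic_X_pow_sub_C t (Fact.out : p.Prime).ne_zero, ?_⟩
    have h2 : ((frob X p).app U).hom t = t ^ p := rfl
    rw [Polynomial.eval₂_sub, Polynomial.eval₂_pow, Polynomial.eval₂_X, Polynomial.eval₂_C, h2]
    exact sub_self _
  exact key

theorem surjective_frob : Surjective (frob X p) := ⟨fun x => ⟨x, rfl⟩⟩

theorem isUnivHomeo_frob : FlatMor.IsUnivHomeo (frob X p) := by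
  haveI := isIntegralHom_frob p X
  haveI := universallyInjective_frob p X
  haveI := surjective_frob p X
  exact SpecResidue.isUnivHomeo_of_integral _

end Groth.Agent.Lib.helper2.FrobLib
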