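import Mathlib
import Groth.Agent.Lib.Helper4.ExactH1

/-!
# Čech cocycle of a pseudo-torsor with a point over a cover (helper2)

Abstract (cartesian monoidal category) statements: the division cocycle of a point of a
pseudo-torsor satisfies the cocycle identity, and if it is a coboundary the translated
point descends (has equal pull-backs).
-/

set_option autoImplicit false
set_option linter.unusedSectionVars false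
universe v u
open CategoryTheory MonoidalCategory CartesianMonoidalCategory MonObj GrpObj Limits

namespace Groth.Agent.Lib.helper2.TorsCocycle

open Groth.Agent.Lib.Helper4.ExactH1

variable {C : Type u} [Category.{v} C] [CartesianMonoidalCategory C]
variable {G X : C} [GrpObj G] (a : G ⊗ X ⟶ X)

omit [GrpObj G] in
theorem comp_act {T T' : C} (r : T' ⟶ T) (g : T ⟶ G) (p : T ⟶ X) :
    r ≫ lift g p ≫ a = lift (r ≫ g) (r ≫ p) ≫ a := by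
  rw [← Category.assoc, comp_lift]

/-- the cocycle identity of the division cocycle -/
theorem cocycle (hmul : (μ[G] ▷ X) ≫ a = (α_ G G X).hom ≫ (G ◁ a) ≫ a)
    [IsIso (lift a (snd G X))]
    {P0 P2 P3 : C} (x : P0 ⟶ X) (q₁ q₂ : P2 ⟶ P0) (r₁₂ r₁₃ r₂₃ : P3 ⟶ P2)
    (h1 : r₁₂ ≫ q₁ = r₁₃ ≫ q₁) (h2 : r₁₂ ≫ q₂ = r₂₃ ≫ q₁) (h3 : r₁₃ ≫ q₂ = r₂₃ ≫ q₂)
    (g : P2 ⟶ G) (hg : lift g (q₂ ≫ x) ≫ a = q₁ ≫ x) :
    (r₁₂ ≫ g) * (r₂₃ ≫ g) = r₁₃ ≫ g := by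
  obtain ⟨g₀, -, huniq⟩ := existsUnique_act a (r₁₃ ≫ q₁ ≫ x) (r₁₃ ≫ q₂ ≫ x)
  have e13 : lift (r₁₃ ≫ g) (r₁₃ ≫ q₂ ≫ x) ≫ a = r₁₃ ≫ q₁ ≫ x := by
    rw [← comp_act, hg]
  have e23 : lift (r₂₃ ≫ g) (r₂₃ ≫ q₂ ≫ x) ≫ a = r₂₃ ≫ q₁ ≫ x := by
    rw [← comp_act, hg]
  have e12 : lift (r₁₂ ≫ g) (r₁₂ ≫ q₂ ≫ x) ≫ a = r₁₂ ≫ q₁ ≫ x := by
    rw [← comp_act, hg]
  have e : lift ((r₁₂ ≫ g) * (r₂₃ ≫ g)) (r₁₃ ≫ q₂ ≫ x) ≫ a = r₁₃ ≫ q₁ ≫ x := by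
    rw [mul_pt a hmul]
    have h3' : r₁₃ ≫ q₂ ≫ x = r₂₃ ≫ q₂ ≫ x := by
      rw [← Category.assoc, h3, Category.assoc]
    have h2' : r₂₃ ≫ q₁ ≫ x = r₁₂ ≫ q₂ ≫ x := by
      rw [← Category.assoc, ← h2, Category.assoc]
    have h1' : r₁₂ ≫ q₁ ≫ x = r₁₃ ≫ q₁ ≫ x := by
      rw [← Category.assoc, h1, Category.assoc]
    rw [h3', e23, h2', e12, h1']
  rw [huniq _ e, huniq _ e13]

/-- if the division cocycle is the coboundary of `hh`, the translate of the point by `hh` has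
equal pull-backs -/
theorem descend (hmul : (μ[G] ▷ X) ≫ a = (α_ G G X).hom ≫ (G ◁ a) ≫ a)
    {P0 P2 : C} (x : P0 ⟶ X) (q₁ q₂ : P2 ⟶ P0)
    (g : P2 ⟶ G) (hg : lift g (q₂ ≫ x) ≫ a = q₁ ≫ x) (hh : P0 ⟶ G)
    (hgh : g = (q₁ ≫ hh)⁻¹ * (q₂ ≫ hh)) :
    q₁ ≫ (lift hh x ≫ a) = q₂ ≫ (lift hh x ≫ a) := by
  rw [comp_act, comp_act, ← hg, ← mul_pt a hmul, hgh, mul_inv_cancel_left]

end Groth.Agent.Lib.helper2.TorsCocycle
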