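import Mathlib
import Groth.Agent.Lib.Helper2.AmitsurOne
import Groth.Agent.Lib.Helper2.TorsCocycle
import Groth.Agent.Lib.Helper2.CechOv
import Groth.Agent.Lib.Helper4.TorsorAffine

/-!
# fpqc torsors under `𝔾_a` are Zariski-locally trivial (helper2)
-/

set_option autoImplicit false
set_option backward.isDefEq.respectTransparency false
universe u
open CategoryTheory MonoidalCategory CartesianMonoidalCategory MonObj GrpObj AlgebraicGeometry Limits
open scoped TensorProduct

namespace Groth.Agent.Lib.helper2.GaTorsZar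

open Groth.Agent.Lib.helper2.CechOv Groth.Agent.Lib.helper2.AmitsurOne
  Groth.Agent.Lib.helper2.TorsCocycle Groth.Agent.Lib.Helper4.ExactH1

/-- a `𝔾_a`-pseudo-torsor with a point over a faithfully flat affine cover of `Spec R` has a point
over `Spec R` -/
theorem hasSection_of_faithfullyFlat {S : Scheme.{u}} (X : Over S)
    (a : AlgGrp.Action (Red.Ga S) X) (hps : NonAbH1.IsPseudoTorsorSch a)
    {R C : Type u} [CommRing R] [CommRing C] [Algebra R C] [Module.FaithfullyFlat R C]
    (f : Spec (CommRingCat.of R) ⟶ S) (x : ov f C ⟶ X) :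
    NonAbH1.HasSectionOver X f := by
  haveI : IsIso (lift a.act (snd (Red.Ga S) X)) := hps
  let i1 : C →ₐ[R] C ⊗[R] C := Algebra.TensorProduct.includeLeft
  let i2 : C →ₐ[R] C ⊗[R] C := Algebra.TensorProduct.includeRight
  obtain ⟨g, hg, -⟩ := existsUnique_act a.act (ovMap f i1 ≫ x) (ovMap f i2 ≫ x)
  have h1 : ovMap f (j12 R C) ≫ ovMap f i1 = ovMap f (j13 R C) ≫ ovMap f i1 := by
    rw [← ovMap_comp, ← ovMap_comp]
    congr 1
  have h2 : ovMap f (j12 R C) ≫ ovMap f i2 = ovMap f (j23 R C) ≫ ovMap f i1 := by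
    rw [← ovMap_comp, ← ovMap_comp]
    congr 1
  have h3 : ovMap f (j13 R C) ≫ ovMap f i2 = ovMap f (j23 R C) ≫ ovMap f i2 := by
    rw [← ovMap_comp, ← ovMap_comp]
    congr 1
  have hc := cocycle a.act a.mul_act x (ovMap f i1) (ovMap f i2) (ovMap f (j12 R C))
    (ovMap f (j13 R C)) (ovMap f (j23 R C)) h1 h2 h3 g hg
  have hy : j13 R C (fn f g) = j12 R C (fn f g) + j23 R C (fn f g) := by
    have := congrArg (fn f) hc
    rw [fn_mul, fn_ovMap, fn_ovMap, fn_ovMap] at this
    exact this.symm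
  obtain ⟨h, hh⟩ := AmitsurOne.main R C (fn f g) hy
  obtain ⟨hh', hhh⟩ := exists_fn_eq f h
  have hgh : g = (ovMap f i1 ≫ hh')⁻¹ * (ovMap f i2 ≫ hh') := by
    apply fn_injective f
    rw [fn_mul, fn_inv, fn_ovMap, fn_ovMap, hhh, hh]
    simp only [i1, i2, Algebra.TensorProduct.includeLeft_apply,
      Algebra.TensorProduct.includeRight_apply]
    abel
  have hd := descend a.act a.mul_act x (ovMap f i1) (ovMap f i2) g hg hh' hgh
  exact exists_desc f X _ hd

instance flat_ga (S : Scheme.{u}) : Flat (Red.Ga S).hom := by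
  have h : Flat (Red.GaZ.{u}).hom := by
    show Flat (Spec.map (CommRingCat.ofHom (algebraMap (ULift.{u} ℤ)
      (SymmetricAlgebra (ULift.{u} ℤ) (ULift.{u} ℤ)))))
    rw [HasRingHomProperty.Spec_iff (P := @Flat)]
    exact RingHom.flat_algebraMap_iff.2 inferInstance
  exact MorphismProperty.pullback_snd _ _ h

instance isAffineHom_ga (S : Scheme.{u}) : IsAffineHom (Red.Ga S).hom := by
  have h : IsAffineHom (Red.GaZ.{u}).hom := by
    show IsAffineHom (Spec.map (CommRingCat.ofHom (algebraMap (ULift.{u} ℤ)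
      (SymmetricAlgebra (ULift.{u} ℤ) (ULift.{u} ℤ)))))
    infer_instance
  exact MorphismProperty.pullback_snd _ _ h

/-- a `𝔾_a`-pseudo-torsor with affine faithfully flat structure morphism has a point over every
affine scheme over the base -/
theorem hasSection_affine {S : Scheme.{u}} (X : Over S)
    (a : AlgGrp.Action (Red.Ga S) X) (hps : NonAbH1.IsPseudoTorsorSch a)
    [IsAffineHom X.hom] [Flat X.hom] [Surjective X.hom]
    {V : Scheme.{u}} [IsAffine V] (f : V ⟶ S) : NonAbH1.HasSectionOver X f := by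
  let T := pullback X.hom f
  let π : T ⟶ V := pullback.snd X.hom f
  haveI : IsAffine T := isAffine_of_isAffineHom π
  have hff : π.appTop.hom.FaithfullyFlat :=
    (Flat.flat_and_surjective_iff_faithfullyFlat_of_isAffine π).1 ⟨inferInstance, inferInstance⟩
  letI : Algebra Γ(V, ⊤) Γ(T, ⊤) := π.appTop.hom.toAlgebra
  haveI : Module.FaithfullyFlat Γ(V, ⊤) Γ(T, ⊤) := hff
  let f' : Spec (CommRingCat.of Γ(V, ⊤)) ⟶ S := V.isoSpec.inv ≫ f
  let x : ov f' Γ(T, ⊤) ⟶ X := Over.homMk (T.isoSpec.inv ≫ pullback.fst X.hom f) (by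
    show (T.isoSpec.inv ≫ pullback.fst X.hom f) ≫ X.hom =
      Spec.map (CommRingCat.ofHom (algebraMap Γ(V, ⊤) Γ(T, ⊤))) ≫ V.isoSpec.inv ≫ f
    have e : CommRingCat.ofHom (algebraMap Γ(V, ⊤) Γ(T, ⊤)) = π.appTop := rfl
    rw [e, Scheme.isoSpec_inv_naturality_assoc, Category.assoc, pullback.condition])
  obtain ⟨s, hs⟩ := hasSection_of_faithfullyFlat X a hps f' x
  refine ⟨V.isoSpec.hom ≫ s, ?_⟩
  rw [Category.assoc, hs, Iso.hom_inv_id_assoc]

/-- **fpqc torsors under `𝔾_a` are Zariski-locally trivial.** -/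
theorem main {S : Scheme.{u}} (X : Over S)
    (a : AlgGrp.Action (Red.Ga S) X) (h : NonAbH1.IsTorsorFor Scheme.fpqcPrecoverage a) :
    NonAbH1.IsTorsorFor Scheme.zariskiPrecoverage a := by
  obtain ⟨haff, hflat⟩ := Groth.Agent.Lib.Helper4.TorsorAffine.main (Red.Ga S) X a h
  obtain ⟨hps, hsurj, -, -⟩ :=
    (Groth.Agent.Lib.Helper4.TorsorFpqc.isTorsorFor_fpqc_iff (Red.Ga S) X a).mp h
  refine ⟨hps, Presieve.ofArrows S.affineCover.X S.affineCover.f, S.affineCover.mem₀, ?_⟩
  rintro V f ⟨i⟩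
  haveI : IsAffine (S.affineCover.X i) := by
    show IsAffine (Spec _)
    infer_instance
  exact hasSection_affine X a hps (S.affineCover.f i)

end Groth.Agent.Lib.helper2.GaTorsZar
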