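import Mathlib
import Groth.Agent.Lib.Helper2.AmitsurOne

/-!
# Hilbert 90 for faithfully flat ring maps, Zariski-local form (helper2)

For a faithfully flat ring map `R → C` and a unit Amitsur 1-cocycle `u ∈ (C ⊗ C)ˣ`, Zariski-locally
on `Spec R` the cocycle is a coboundary: for every prime `p` of `R` there are `r ∉ p` and
`ℓ, ℓ' ∈ C` with `ℓ ℓ' = r` and `u (ℓ ⊗ 1) = 1 ⊗ ℓ`.
-/

set_option autoImplicit false
open TensorProduct
universe u

namespace Groth.Agent.Lib.helper2.Hilb90Loc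

open Groth.Agent.Lib.helper2.AmitsurOne

variable (R : Type u) [CommRing R] (C : Type u) [CommRing C] [Algebra R C]

/-- Amitsur exactness in degree zero -/
theorem mem_range_of_tmul_one_eq [Module.FaithfullyFlat R C] (c : C)
    (hc : c ⊗ₜ[R] (1 : C) = (1 : C) ⊗ₜ[R] c) : c ∈ (algebraMap R C).range := by
  let q := (LinearMap.range (Algebra.linearMap R C)).mkQ
  have h1 : (q.lTensor C) (c ⊗ₜ[R] (1 : C)) = 0 := by
    rw [LinearMap.lTensor_tmul]
    have : q 1 = 0 := by
      rw [Submodule.mkQ_apply, Submodule.Quotient.mk_eq_zero]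
      exact ⟨1, by simp⟩
    rw [this, TensorProduct.tmul_zero]
  rw [hc, LinearMap.lTensor_tmul] at h1
  have h3 : q c = 0 := by
    apply Module.FaithfullyFlat.tensorProduct_mk_injective (A := R) (B := C)
    rw [map_zero]
    exact h1
  rw [Submodule.mkQ_apply, Submodule.Quotient.mk_eq_zero] at h3
  obtain ⟨r, hr⟩ := h3
  exact ⟨r, hr⟩

/-- total multiplication `C ⊗ (C ⊗ C) → C` -/
noncomputable def m3 : C ⊗[R] (C ⊗[R] C) →ₐ[R] C :=
  (Algebra.TensorProduct.lmul' R).comp
    (Algebra.TensorProduct.map (AlgHom.id R C) (Algebra.TensorProduct.lmul' R))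

lemma m3_j12 (y : C ⊗[R] C) : m3 R C (j12 R C y) = Algebra.TensorProduct.lmul' R y := by
  induction y using TensorProduct.induction_on with
  | zero => simp
  | tmul a b => simp [m3]
  | add y y' hy hy' => simp only [map_add, hy, hy']

lemma m3_j13 (y : C ⊗[R] C) : m3 R C (j13 R C y) = Algebra.TensorProduct.lmul' R y := by
  induction y using TensorProduct.induction_on with
  | zero => simp
  | tmul a b => simp [m3]
  | add y y' hy hy' => simp only [map_add, hy, hy']

lemma m3_j23 (y : C ⊗[R] C) : m3 R C (j23 R C y) = Algebra.TensorProduct.lmul' R y := by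
  induction y using TensorProduct.induction_on with
  | zero => simp
  | tmul a b => simp [m3]
  | add y y' hy hy' => simp only [map_add, hy, hy']

variable {R C}

/-- a unit cocycle is normalised -/
theorem lmul_eq_one (u u' : C ⊗[R] C) (huu' : u * u' = 1)
    (hc : j12 R C u * j23 R C u = j13 R C u) : Algebra.TensorProduct.lmul' R u = 1 := by
  have h1 := congrArg (m3 R C) hc
  rw [map_mul, m3_j12, m3_j23, m3_j13] at h1
  have h2 := congrArg (Algebra.TensorProduct.lmul' R (S := C)) huu'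
  rw [map_mul, map_one] at h2
  have hu : IsUnit (Algebra.TensorProduct.lmul' R (S := C) u) := IsUnit.of_mul_eq_one _ h2
  exact hu.mul_left_cancel (by rw [h1, mul_one])

variable (R C) in
/-- the twisted descent module of a cocycle: `{c | u (c ⊗ 1) = 1 ⊗ c}` -/
noncomputable def psi (u : C ⊗[R] C) : C →ₗ[R] C ⊗[R] C :=
  (LinearMap.mulLeft R u) ∘ₗ (Algebra.TensorProduct.includeLeft : C →ₐ[R] C ⊗[R] C).toLinearMap -
    (Algebra.TensorProduct.includeRight : C →ₐ[R] C ⊗[R] C).toLinearMap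

lemma psi_apply (u : C ⊗[R] C) (c : C) : psi R C u c = u * (c ⊗ₜ[R] 1) - 1 ⊗ₜ[R] c := rfl

lemma mem_ker_psi (u : C ⊗[R] C) (c : C) :
    c ∈ LinearMap.ker (psi R C u) ↔ u * (c ⊗ₜ[R] 1) = 1 ⊗ₜ[R] c := by
  rw [LinearMap.mem_ker, psi_apply, sub_eq_zero]

lemma lTensor_psi (u : C ⊗[R] C) (w : C ⊗[R] C) :
    (psi R C u).lTensor C w = j23 R C u * j12 R C w - j13 R C w := by
  induction w using TensorProduct.induction_on with
  | zero => simp
  | tmul a c =>
    rw [LinearMap.lTensor_tmul, psi_apply, TensorProduct.tmul_sub,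
      Algebra.TensorProduct.map_tmul, Algebra.TensorProduct.map_tmul]
    have : j23 R C u = (1 : C) ⊗ₜ[R] u := rfl
    rw [this]
    simp
  | add y y' hy hy' => rw [map_add, map_add, map_add, hy, hy', mul_add]; abel

/-- the ideal generated by the twisted descent module is the unit ideal -/
theorem span_ker_psi_eq_top [Module.Flat R C] (u u' : C ⊗[R] C) (huu' : u * u' = 1)
    (hc : j12 R C u * j23 R C u = j13 R C u) :
    Ideal.span ((LinearMap.ker (psi R C u) : Submodule R C) : Set C) = ⊤ := by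
  have h0 : (psi R C u).lTensor C u = 0 := by
    rw [lTensor_psi, mul_comm, hc, sub_self]
  have hex : Function.Exact ((LinearMap.ker (psi R C u)).subtype.lTensor C)
      ((psi R C u).lTensor C) :=
    Module.Flat.lTensor_exact C (LinearMap.exact_subtype_ker_map (psi R C u))
  obtain ⟨w, hw⟩ := (hex u).1 h0
  have key : ∀ w : C ⊗[R] (LinearMap.ker (psi R C u)),
      Algebra.TensorProduct.lmul' R ((LinearMap.ker (psi R C u)).subtype.lTensor C w) ∈
        Ideal.span ((LinearMap.ker (psi R C u) : Submodule R C) : Set C) := by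
    intro w
    induction w using TensorProduct.induction_on with
    | zero => simp
    | tmul a c =>
      rw [LinearMap.lTensor_tmul, Algebra.TensorProduct.lmul'_apply_tmul]
      exact Ideal.mul_mem_left _ _ (Ideal.subset_span c.2)
    | add y y' hy hy' => rw [map_add, map_add]; exact add_mem hy hy'
  have h1 := key w
  rw [hw, lmul_eq_one u u' huu' hc] at h1
  exact (Ideal.eq_top_iff_one _).2 h1

/-- **Hilbert 90, Zariski-local form.** -/
theorem main [Module.FaithfullyFlat R C] (u u' : C ⊗[R] C) (huu' : u * u' = 1)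
    (hc : j12 R C u * j23 R C u = j13 R C u) (p : Ideal R) [p.IsPrime] :
    ∃ r : R, r ∉ p ∧ ∃ l l' : C, l * l' = algebraMap R C r ∧ u * (l ⊗ₜ[R] 1) = 1 ⊗ₜ[R] l := by
  have hc' : j12 R C u' * j23 R C u' = j13 R C u' := by
    have e12 : j12 R C u * j12 R C u' = 1 := by rw [← map_mul, huu', map_one]
    have e23 : j23 R C u * j23 R C u' = 1 := by rw [← map_mul, huu', map_one]
    have e13 : j13 R C u * j13 R C u' = 1 := by rw [← map_mul, huu', map_one]
    have hu13 : IsUnit (j13 R C u) := IsUnit.of_mul_eq_one _ e13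
    apply hu13.mul_left_cancel
    rw [e13, ← hc]
    calc j12 R C u * j23 R C u * (j12 R C u' * j23 R C u')
        = (j12 R C u * j12 R C u') * (j23 R C u * j23 R C u') := by ring
      _ = 1 := by rw [e12, e23, mul_one]
  have hu'u : u' * u = 1 := by rw [mul_comm]; exact huu'
  have h1 := span_ker_psi_eq_top u u' huu' hc
  have h2 := span_ker_psi_eq_top u' u hu'u hc'
  let 𝔞 : Ideal R := Ideal.span {r : R | ∃ l ∈ LinearMap.ker (psi R C u),
    ∃ l' ∈ LinearMap.ker (psi R C u'), l * l' = algebraMap R C r}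
  have h3 : 𝔞.map (algebraMap R C) = ⊤ := by
    have h12 : (⊤ : Ideal C) = Ideal.span ((LinearMap.ker (psi R C u) : Submodule R C) : Set C) *
        Ideal.span ((LinearMap.ker (psi R C u') : Submodule R C) : Set C) := by
      rw [h1, h2, Ideal.mul_top]
    rw [eq_top_iff, h12, Ideal.span_mul_span', Ideal.span_le]
    rintro _ ⟨l, hl, l', hl', rfl⟩
    have hl1 := (mem_ker_psi u l).1 hl
    have hl2 := (mem_ker_psi u' l').1 hl'
    have hll : (l * l') ⊗ₜ[R] (1 : C) = (1 : C) ⊗ₜ[R] (l * l') := by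
      have e1 : (l * l') ⊗ₜ[R] (1 : C) = (l ⊗ₜ[R] 1) * (l' ⊗ₜ[R] 1) := by simp
      have e2 : (1 : C) ⊗ₜ[R] (l * l') = ((1 : C) ⊗ₜ[R] l) * ((1 : C) ⊗ₜ[R] l') := by simp
      rw [e2, ← hl1, ← hl2, e1]
      calc l ⊗ₜ[R] 1 * l' ⊗ₜ[R] 1 = (u * u') * (l ⊗ₜ[R] 1 * l' ⊗ₜ[R] 1) := by
            rw [huu', one_mul]
        _ = u * l ⊗ₜ[R] 1 * (u' * l' ⊗ₜ[R] 1) := by ring
    obtain ⟨r, hr⟩ := mem_range_of_tmul_one_eq R C (l * l') hll
    show l * l' ∈ Ideal.map (algebraMap R C) 𝔞
    rw [← hr]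
    exact Ideal.mem_map_of_mem _ (Ideal.subset_span ⟨l, hl, l', hl', hr.symm⟩)
  have h4 : 𝔞 = ⊤ := by
    rw [← Ideal.comap_map_eq_self_of_faithfullyFlat (B := C) 𝔞, h3, Ideal.comap_top]
  have h5 : ¬ 𝔞 ≤ p := by
    rw [h4]
    intro hle
    exact (Ideal.IsPrime.ne_top ‹_›) (top_le_iff.1 hle)
  rw [Ideal.span_le] at h5
  obtain ⟨r, ⟨l, hl, l', -, hll⟩, hrp⟩ := Set.not_subset.1 h5
  exact ⟨r, hrp, l, l', hll, (mem_ker_psi u l).1 hl⟩

end Groth.Agent.Lib.helper2.Hilb90Loc
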