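import Mathlib
import Groth.Agent.Lib.Helper2.Hilb90Loc
import Groth.Agent.Lib.Helper2.TorsCocycle
import Groth.Agent.Lib.Helper2.CechOvGm
import Groth.Agent.Lib.Helper4.TorsorAffine

/-!
# fpqc torsors under `𝔾_m` are Zariski-locally trivial (helper2)
-/

set_option autoImplicit false

universe u
open CategoryTheory MonoidalCategory CartesianMonoidalCategory MonObj GrpObj AlgebraicGeometry Limits
open scoped TensorProduct

namespace Groth.Agent.Lib.helper2.GmTorsZar

open Groth.Agent.Lib.helper2.CechOv Groth.Agent.Lib.helper2.AmitsurOne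
  Groth.Agent.Lib.helper2.TorsCocycle Groth.Agent.Lib.Helper4.ExactH1

section theta
variable (R C R' C' : Type u) [CommRing R] [CommRing C] [CommRing R'] [CommRing C']
  [Algebra R C] [Algebra R R'] [Algebra R' C'] [Algebra R C'] [IsScalarTower R R' C']
  [Algebra C C'] [IsScalarTower R C C']

/-- the map `C ⊗[R] C → C' ⊗[R'] C'` -/
noncomputable def theta : C ⊗[R] C →ₐ[R] C' ⊗[R'] C' :=
  Algebra.TensorProduct.lift
    (((Algebra.TensorProduct.includeLeft : C' →ₐ[R'] C' ⊗[R'] C').restrictScalars R).comp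
      (IsScalarTower.toAlgHom R C C'))
    (((Algebra.TensorProduct.includeRight : C' →ₐ[R'] C' ⊗[R'] C').restrictScalars R).comp
      (IsScalarTower.toAlgHom R C C'))
    (fun _ _ => Commute.all _ _)

lemma theta_tmul (a b : C) :
    theta R C R' C' (a ⊗ₜ[R] b) = (algebraMap C C' a) ⊗ₜ[R'] (algebraMap C C' b) := by
  simp [theta]

lemma theta_comp_left :
    (theta R C R' C').comp (Algebra.TensorProduct.includeLeft : C →ₐ[R] C ⊗[R] C) =
      ((Algebra.TensorProduct.includeLeft : C' →ₐ[R'] C' ⊗[R'] C').restrictScalars R).comp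
        (IsScalarTower.toAlgHom R C C') := by
  ext c
  simp [theta_tmul]

lemma theta_comp_right :
    (theta R C R' C').comp (Algebra.TensorProduct.includeRight : C →ₐ[R] C ⊗[R] C) =
      ((Algebra.TensorProduct.includeRight : C' →ₐ[R'] C' ⊗[R'] C').restrictScalars R).comp
        (IsScalarTower.toAlgHom R C C') := by
  ext c
  simp [theta_tmul]

end theta

/-- a `𝔾_m`-pseudo-torsor with a point over an affine cover of `Spec R` whose division cocycle
becomes a coboundary over a faithfully flat cover `C'` of `Spec R'` has a point over `Spec R'` -/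
theorem hasSection_of_coboundary {S : Scheme.{u}} (X : Over S)
    (a : AlgGrp.Action (Red.Gm S) X)
    {R C R' C' : Type u} [CommRing R] [CommRing C] [CommRing R'] [CommRing C']
    [Algebra R C] [Algebra R R'] [Algebra R' C'] [Algebra R C'] [IsScalarTower R R' C']
    [Algebra C C'] [IsScalarTower R C C'] [Module.FaithfullyFlat R' C']
    (f : Spec (CommRingCat.of R) ⟶ S) (x : ov f C ⟶ X)
    (g : ov f (C ⊗[R] C) ⟶ Red.Gm S)
    (hg : lift g (ovMap f (Algebra.TensorProduct.includeRight : C →ₐ[R] C ⊗[R] C) ≫ x) ≫ a.act =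
      ovMap f (Algebra.TensorProduct.includeLeft : C →ₐ[R] C ⊗[R] C) ≫ x)
    (v v' : C') (hv : v * v' = 1)
    (huv : theta R C R' C' (fnm f g) * (v ⊗ₜ[R'] 1) = 1 ⊗ₜ[R'] v) :
    NonAbH1.HasSectionOver X (Spec.map (CommRingCat.ofHom (algebraMap R R')) ≫ f) := by
  let i1 : C →ₐ[R] C ⊗[R] C := Algebra.TensorProduct.includeLeft
  let i2 : C →ₐ[R] C ⊗[R] C := Algebra.TensorProduct.includeRight
  let i1' : C' →ₐ[R] C' ⊗[R'] C' :=
    (Algebra.TensorProduct.includeLeft : C' →ₐ[R'] C' ⊗[R'] C').restrictScalars R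
  let i2' : C' →ₐ[R] C' ⊗[R'] C' :=
    (Algebra.TensorProduct.includeRight : C' →ₐ[R'] C' ⊗[R'] C').restrictScalars R
  let lam := ovMap f (IsScalarTower.toAlgHom R C C')
  let kap := ovMap f (theta R C R' C')
  have e1 : ovMap f i1' ≫ lam = kap ≫ ovMap f i1 := by
    rw [← ovMap_comp, ← ovMap_comp, theta_comp_left]
  have e2 : ovMap f i2' ≫ lam = kap ≫ ovMap f i2 := by
    rw [← ovMap_comp, ← ovMap_comp, theta_comp_right]
  let x' : ov f C' ⟶ X := lam ≫ x
  let g' : ov f (C' ⊗[R'] C') ⟶ Red.Gm S := kap ≫ g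
  have hg' : lift g' (ovMap f i2' ≫ x') ≫ a.act = ovMap f i1' ≫ x' := by
    have h1 : ovMap f i2' ≫ x' = kap ≫ (ovMap f i2 ≫ x) := by
      show ovMap f i2' ≫ lam ≫ x = _
      rw [← Category.assoc, e2, Category.assoc]
    have h2 : ovMap f i1' ≫ x' = kap ≫ (ovMap f i1 ≫ x) := by
      show ovMap f i1' ≫ lam ≫ x = _
      rw [← Category.assoc, e1, Category.assoc]
    rw [h1, h2, ← comp_act, hg]
  obtain ⟨hh, hhh⟩ := exists_fnm_eq f v v' hv
  have hmul : (ovMap f i1' ≫ hh) * g' = ovMap f i2' ≫ hh := by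
    apply fnm_injective f
    rw [fnm_mul, fnm_ovMap, fnm_ovMap, fnm_ovMap, hhh, mul_comm]
    exact huv
  have hgh : g' = (ovMap f i1' ≫ hh)⁻¹ * (ovMap f i2' ≫ hh) := eq_inv_mul_of_mul_eq hmul
  have hd := descend a.act a.mul_act x' (ovMap f i1') (ovMap f i2') g' hg' hh hgh
  exact exists_desc' f X _ hd

instance flat_gm (S : Scheme.{u}) : Flat (Red.Gm S).hom := by
  have h : Flat (Red.diag (ULift.{u} ℤ) ℤ).hom := by
    show Flat (Spec.map (CommRingCat.ofHom (algebraMap (ULift.{u} ℤ)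
      (MonoidAlgebra (ULift.{u} ℤ) (Multiplicative ℤ)))))
    rw [HasRingHomProperty.Spec_iff (P := @Flat)]
    exact RingHom.flat_algebraMap_iff.2 inferInstance
  exact MorphismProperty.pullback_snd _ _ h

instance isAffineHom_gm (S : Scheme.{u}) : IsAffineHom (Red.Gm S).hom := by
  have h : IsAffineHom (Red.diag (ULift.{u} ℤ) ℤ).hom := by
    show IsAffineHom (Spec.map (CommRingCat.ofHom (algebraMap (ULift.{u} ℤ)
      (MonoidAlgebra (ULift.{u} ℤ) (Multiplicative ℤ)))))
    infer_instance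
  exact MorphismProperty.pullback_snd _ _ h

lemma fnm_one {S : Scheme.{u}} {R : Type u} [CommRing R] (f : Spec (CommRingCat.of R) ⟶ S)
    {A : Type u} [CommRing A] [Algebra R A] : fnm f (1 : ov f A ⟶ Red.Gm S) = 1 := by
  rw [fnm, Groth.Agent.Lib.helper15.GaGm.gmFn_one, map_one]

/-- Zariski-local sections of a `𝔾_m`-pseudo-torsor with affine faithfully flat structure morphism
-/
theorem exists_open_section {S : Scheme.{u}} (X : Over S)
    (a : AlgGrp.Action (Red.Gm S) X) (hps : NonAbH1.IsPseudoTorsorSch a)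
    [IsAffineHom X.hom] [Flat X.hom] [Surjective X.hom]
    {V : Scheme.{u}} [IsAffine V] (f : V ⟶ S) [IsOpenImmersion f] (v : V) :
    ∃ (W : Scheme.{u}) (j : W ⟶ S), IsOpenImmersion j ∧ f v ∈ Set.range j ∧
      NonAbH1.HasSectionOver X j := by
  haveI : IsIso (lift a.act (snd (Red.Gm S) X)) := hps
  let T := pullback X.hom f
  let π : T ⟶ V := pullback.snd X.hom f
  haveI : IsAffine T := isAffine_of_isAffineHom π
  have hff : π.appTop.hom.FaithfullyFlat :=
    (Flat.flat_and_surjective_iff_faithfullyFlat_of_isAffine π).1 ⟨inferInstance, inferInstance⟩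
  letI : Algebra Γ(V, ⊤) Γ(T, ⊤) := π.appTop.hom.toAlgebra
  haveI : Module.FaithfullyFlat Γ(V, ⊤) Γ(T, ⊤) := hff
  let f' : Spec (CommRingCat.of Γ(V, ⊤)) ⟶ S := V.isoSpec.inv ≫ f
  let x : ov f' Γ(T, ⊤) ⟶ X := Over.homMk (T.isoSpec.inv ≫ pullback.fst X.hom f) (by
    show (T.isoSpec.inv ≫ pullback.fst X.hom f) ≫ X.hom =
      Spec.map (CommRingCat.ofHom (algebraMap Γ(V, ⊤) Γ(T, ⊤))) ≫ V.isoSpec.inv ≫ f
    have e : CommRingCat.ofHom (algebraMap Γ(V, ⊤) Γ(T, ⊤)) = π.appTop := rfl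
    rw [e, Scheme.isoSpec_inv_naturality_assoc, Category.assoc, pullback.condition])
  -- abbreviations
  let R := (Γ(V, ⊤) : Type u)
  let C := (Γ(T, ⊤) : Type u)
  let i1 : C →ₐ[R] C ⊗[R] C := Algebra.TensorProduct.includeLeft
  let i2 : C →ₐ[R] C ⊗[R] C := Algebra.TensorProduct.includeRight
  obtain ⟨g, hg, -⟩ := existsUnique_act a.act (ovMap f' i1 ≫ x) (ovMap f' i2 ≫ x)
  have h1 : ovMap f' (j12 R C) ≫ ovMap f' i1 = ovMap f' (j13 R C) ≫ ovMap f' i1 := by
    rw [← ovMap_comp, ← ovMap_comp]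
    congr 1
  have h2 : ovMap f' (j12 R C) ≫ ovMap f' i2 = ovMap f' (j23 R C) ≫ ovMap f' i1 := by
    rw [← ovMap_comp, ← ovMap_comp]
    congr 1
  have h3 : ovMap f' (j13 R C) ≫ ovMap f' i2 = ovMap f' (j23 R C) ≫ ovMap f' i2 := by
    rw [← ovMap_comp, ← ovMap_comp]
    congr 1
  have hc := cocycle a.act a.mul_act x (ovMap f' i1) (ovMap f' i2) (ovMap f' (j12 R C))
    (ovMap f' (j13 R C)) (ovMap f' (j23 R C)) h1 h2 h3 g hg
  have hcu : j12 R C (fnm f' g) * j23 R C (fnm f' g) = j13 R C (fnm f' g) := by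
    have := congrArg (fnm f') hc
    rw [fnm_mul, fnm_ovMap, fnm_ovMap, fnm_ovMap] at this
    exact this
  have huu' : fnm f' g * fnm f' g⁻¹ = 1 := by
    rw [← fnm_mul, mul_inv_cancel, fnm_one]
  let p : Ideal R := (V.isoSpec.hom v).asIdeal
  obtain ⟨r, hrp, l, l', hll, hul⟩ := Hilb90Loc.main (fnm f' g) (fnm f' g⁻¹) huu' hcu p
  -- the localised rings
  let R' := Localization.Away r
  let C' := R' ⊗[R] C
  letI : Algebra C C' := (Algebra.TensorProduct.includeRight : C →ₐ[R] R' ⊗[R] C).toRingHom.toAlgebra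
  haveI : IsScalarTower R C C' := IsScalarTower.of_algebraMap_eq (fun t => by
    show algebraMap R (R' ⊗[R] C) t = (1 : R') ⊗ₜ[R] (algebraMap R C t)
    rw [Algebra.algebraMap_eq_smul_one, Algebra.algebraMap_eq_smul_one]
    rw [TensorProduct.tmul_smul]
    rfl)
  have hsec := hasSection_of_coboundary X a (R := R) (C := C) (R' := R') (C' := C') f' x g hg
    ((1 : R') ⊗ₜ[R] l) ((IsLocalization.Away.invSelf r) ⊗ₜ[R] l') (by
      rw [Algebra.TensorProduct.tmul_mul_tmul, _root_.one_mul, hll, Algebra.algebraMap_eq_smul_one,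
        TensorProduct.tmul_smul, TensorProduct.smul_tmul', Algebra.smul_def,
        IsLocalization.Away.mul_invSelf]
      rfl) (by
      have e1 : ((1 : R') ⊗ₜ[R] l : C') ⊗ₜ[R'] (1 : C') = theta R C R' C' (l ⊗ₜ[R] 1) := by
        rw [theta_tmul, map_one]; rfl
      have e2 : (1 : C') ⊗ₜ[R'] ((1 : R') ⊗ₜ[R] l : C') = theta R C R' C' (1 ⊗ₜ[R] l) := by
        rw [theta_tmul, map_one]; rfl
      rw [e1, e2, ← map_mul, hul])
  refine ⟨Spec (CommRingCat.of R'), Spec.map (CommRingCat.ofHom (algebraMap R R')) ≫ f', ?_, ?_,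
    hsec⟩
  · haveI : IsOpenImmersion (Spec.map (CommRingCat.ofHom (algebraMap R R'))) :=
      IsOpenImmersion.of_isLocalization r
    infer_instance
  · have hr : V.isoSpec.hom v ∈ Set.range (Spec.map (CommRingCat.ofHom (algebraMap R R'))) := by
      have := PrimeSpectrum.localization_away_comap_range R' r
      have hmem : V.isoSpec.hom v ∈ (PrimeSpectrum.basicOpen r : Set (PrimeSpectrum R)) := hrp
      rw [← this] at hmem
      exact hmem
    obtain ⟨w, hw⟩ := hr
    refine ⟨w, ?_⟩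
    show (Spec.map (CommRingCat.ofHom (algebraMap R R')) ≫ V.isoSpec.inv ≫ f) w = f v
    rw [Scheme.Hom.comp_apply, hw, Scheme.Hom.comp_apply]
    have hv : V.isoSpec.inv (V.isoSpec.hom v) = v := by
      rw [← Scheme.Hom.comp_apply, Iso.hom_inv_id]
      rfl
    rw [hv]

/-- Zariski-local triviality from pointwise open sections -/
theorem isLocallyTrivialFor_zariski_of_forall {S : Scheme.{u}} (X : Over S)
    (h : ∀ s : S, ∃ (W : Scheme.{u}) (j : W ⟶ S), IsOpenImmersion j ∧ s ∈ Set.range j ∧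
      NonAbH1.HasSectionOver X j) :
    NonAbH1.IsLocallyTrivialFor Scheme.zariskiPrecoverage X := by
  refine ⟨fun W j => IsOpenImmersion j ∧ NonAbH1.HasSectionOver X j, ⟨?_, ?_⟩, fun W j hj => hj.2⟩
  · rw [Presieve.mem_comap_jointlySurjectivePrecoverage_iff]
    intro s
    obtain ⟨W, j, hj, hs, hsec⟩ := h s
    exact ⟨W, j, ⟨hj, hsec⟩, hs⟩
  · intro W j hj
    exact hj.1

/-- **fpqc torsors under `𝔾_m` are Zariski-locally trivial.** -/
theorem main {S : Scheme.{u}} (X : Over S)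
    (a : AlgGrp.Action (Red.Gm S) X) (h : NonAbH1.IsTorsorFor Scheme.fpqcPrecoverage a) :
    NonAbH1.IsTorsorFor Scheme.zariskiPrecoverage a := by
  obtain ⟨haff, hflat⟩ := Groth.Agent.Lib.Helper4.TorsorAffine.main (Red.Gm S) X a h
  obtain ⟨hps, hsurj, -, -⟩ :=
    (Groth.Agent.Lib.Helper4.TorsorFpqc.isTorsorFor_fpqc_iff (Red.Gm S) X a).mp h
  refine ⟨hps, isLocallyTrivialFor_zariski_of_forall X (fun s => ?_)⟩
  obtain ⟨v, hv⟩ := S.affineCover.covers s
  haveI : IsAffine (S.affineCover.X (S.affineCover.idx s)) := by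
    show IsAffine (Spec _)
    infer_instance
  obtain ⟨W, j, hj, hs, hsec⟩ := exists_open_section X a hps (S.affineCover.f (S.affineCover.idx s)) v
  exact ⟨W, j, hj, hv ▸ hs, hsec⟩

end Groth.Agent.Lib.helper2.GmTorsZar
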