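import Mathlib
import Groth.Agent.Lib.Helper17.ArtGor
import Groth.Agent.Lib.Helper17.SocleFlat

/-!
# helper2: Artinian local algebras over a field: Gorenstein iff there is a nondegenerate functional
-/

set_option autoImplicit false
universe u v

open IsLocalRing

namespace Groth.Agent.Lib.helper2.GorFrob

/-- A linear functional `φ` on a `κ`-algebra is nondegenerate when `φ(b ·) = 0` forces `b = 0`. -/
def Nondeg {κ : Type v} {R : Type u} [CommSemiring κ] [Semiring R] [Algebra κ R]
    (φ : R →ₗ[κ] κ) : Prop :=
  ∀ b : R, (∀ c : R, φ (b * c) = 0) → b = 0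

section local_

variable {κ : Type v} [Field κ] {R : Type u} [CommRing R] [IsLocalRing R] [IsArtinianRing R]
  [Algebra κ R]

open Groth.Agent.Lib.helper17 in
/-- a nonzero element of an Artinian local ring has a nonzero multiple in the socle -/
theorem exists_mul_mem_soc {b : R} (hb : b ≠ 0) :
    ∃ y : R, y * b ≠ 0 ∧ ∀ a ∈ maximalIdeal R, a * (y * b) = 0 := by
  classical
  obtain ⟨N, hN⟩ := IsArtinianRing.isNilpotent_jacobson_bot (R := R)
  rw [IsLocalRing.jacobson_eq_maximalIdeal _ bot_ne_top] at hN
  have hex : ∃ n : ℕ, ∀ y ∈ maximalIdeal R ^ n, y * b = 0 := by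
    refine ⟨N, fun y hy => ?_⟩
    rw [hN] at hy
    have : y = 0 := by simpa using hy
    rw [this, zero_mul]
  have hmin : ∀ {m : ℕ}, m < Nat.find hex → ¬ ∀ y ∈ maximalIdeal R ^ m, y * b = 0 :=
    fun {m} h => Nat.find_min hex h
  have hspec := Nat.find_spec hex
  set n₀ := Nat.find hex with hn₀
  have hpos : n₀ ≠ 0 := by
    intro h0
    have := hspec 1 (by rw [h0, pow_zero, Ideal.one_eq_top]; trivial)
    rw [one_mul] at this
    exact hb this
  obtain ⟨k, hk⟩ := Nat.exists_eq_succ_of_ne_zero hpos
  have hnot := hmin (m := k) (by omega)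
  push_neg at hnot
  obtain ⟨y, hy, hyb⟩ := hnot
  refine ⟨y, hyb, fun a ha => ?_⟩
  rw [← mul_assoc]
  apply hspec
  rw [hk, pow_succ']
  exact Ideal.mul_mem_mul ha hy

open Groth.Agent.Lib.helper17 in
/-- `typ R` is the length of the socle -/
theorem typ_eq_length_soc : ArtGor.typ R = Module.length R (SocleFlat.socM R R R) :=
  (SocleFlat.homEquivSoc R R R).length_eq

open Groth.Agent.Lib.helper17 in
/-- a Gorenstein Artinian local algebra has a nondegenerate functional -/
theorem exists_nondeg_of_typ (h : ArtGor.typ R = 1) : ∃ φ : R →ₗ[κ] κ, Nondeg φ := by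
  rw [typ_eq_length_soc, Module.length_eq_one_iff] at h
  haveI := h
  haveI : Nontrivial (SocleFlat.socM R R R) := IsSimpleModule.nontrivial R _
  obtain ⟨x₀, hx₀⟩ := exists_ne (0 : SocleFlat.socM R R R)
  have hx₀' : (x₀ : R) ≠ 0 := fun h0 => hx₀ (Subtype.ext h0)
  obtain ⟨φ, hφ⟩ : ∃ φ : Module.Dual κ R, φ x₀ ≠ 0 := by
    by_contra hcon
    push_neg at hcon
    exact hx₀' ((Module.forall_dual_apply_eq_zero_iff κ (x₀ : R)).mp hcon)
  refine ⟨φ, fun b hb => ?_⟩
  by_contra hb0
  obtain ⟨y, hyb, hsoc⟩ := exists_mul_mem_soc hb0
  let z : SocleFlat.socM R R R := ⟨y * b, fun a ha => by rw [smul_eq_mul]; exact hsoc a ha⟩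
  have hz : z ≠ 0 := fun h0 => hyb (congrArg Subtype.val h0)
  obtain ⟨r, hr⟩ := IsSimpleModule.toSpanSingleton_surjective R hz x₀
  have hr' : r * (y * b) = (x₀ : R) := by
    have := congrArg Subtype.val hr
    simpa [z] using this
  apply hφ
  rw [← hr', show r * (y * b) = b * (r * y) by ring]
  exact hb _

open Groth.Agent.Lib.helper17 in
/-- an Artinian local algebra, finite over a field, with a nondegenerate functional has `typ = 1` -/
theorem typ_of_nondeg [Module.Finite κ R] (φ : R →ₗ[κ] κ) (hφ : Nondeg φ) : ArtGor.typ R = 1 := by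
  rw [typ_eq_length_soc, Module.length_eq_one_iff]
  set soc := SocleFlat.socM R R R with hsoc
  set m := maximalIdeal R with hm
  -- the socle embeds in the annihilator of `m` in the dual
  let S : soc.restrictScalars κ →ₗ[κ] Module.Dual κ R :=
    { toFun := fun s => φ ∘ₗ LinearMap.mulLeft κ (s : R)
      map_add' := fun s t => by
        apply LinearMap.ext; intro x
        simp [add_mul]
      map_smul' := fun c s => by
        apply LinearMap.ext; intro x
        simp }
  have hSinj : Function.Injective S := by
    rw [← LinearMap.ker_eq_bot, LinearMap.ker_eq_bot']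
    intro s hs
    apply Subtype.ext
    apply hφ
    intro c
    have := LinearMap.congr_fun hs c
    simpa [S] using this
  have hSrange : LinearMap.range S ≤ (m.restrictScalars κ).dualAnnihilator := by
    rintro _ ⟨s, rfl⟩
    rw [Submodule.mem_dualAnnihilator]
    intro a ha
    have h0 : (s : R) * a = 0 := by
      have := s.2 a ha
      rw [smul_eq_mul] at this
      rw [mul_comm]; exact this
    simp [S, h0]
  have hfin1 : Module.finrank κ (soc.restrictScalars κ) ≤
      Module.finrank κ ((m.restrictScalars κ).dualAnnihilator) := by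
    calc Module.finrank κ (soc.restrictScalars κ) = Module.finrank κ (LinearMap.range S) :=
          (LinearMap.finrank_range_of_inj hSinj).symm
      _ ≤ _ := Submodule.finrank_mono hSrange
  have hfin2 := Subspace.finrank_add_finrank_dualAnnihilator_eq (m.restrictScalars κ)
  -- every nonzero socle element generates the socle
  have key : ∀ x : R, x ∈ soc → x ≠ 0 → ∀ z ∈ soc, ∃ r : R, r * x = z := by
    intro x hx hx0 z hz
    let T : R →ₗ[κ] R := (LinearMap.toSpanSingleton R R x).restrictScalars κ
    have hker : LinearMap.ker T = m.restrictScalars κ := by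
      ext r
      simp only [LinearMap.mem_ker, Submodule.restrictScalars_mem]
      constructor
      · intro hr
        by_contra hrm
        have hu : IsUnit r := by
          by_contra hnu
          exact hrm ((IsLocalRing.mem_maximalIdeal r).mpr hnu)
        have : r * x = 0 := by simpa [T] using hr
        exact hx0 (hu.mul_right_eq_zero.mp this)
      · intro hr
        have := hx r hr
        simpa [T] using this
    have hrange : LinearMap.range T ≤ soc.restrictScalars κ := by
      rintro _ ⟨r, rfl⟩
      show r • x ∈ soc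
      exact soc.smul_mem r hx
    have hrn := LinearMap.finrank_range_add_finrank_ker T
    rw [hker] at hrn
    have hle : Module.finrank κ (soc.restrictScalars κ) ≤ Module.finrank κ (LinearMap.range T) := by
      omega
    have heq := Submodule.eq_of_le_of_finrank_le hrange hle
    have hz' : z ∈ LinearMap.range T := by rw [heq]; exact hz
    obtain ⟨r, hr⟩ := hz'
    exact ⟨r, by simpa [T] using hr⟩
  rw [isSimpleModule_iff_toSpanSingleton_surjective]
  constructor
  · obtain ⟨y, hy, hys⟩ := exists_mul_mem_soc (one_ne_zero (α := R))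
    refine ⟨⟨⟨y * 1, fun a ha => by rw [smul_eq_mul]; exact hys a ha⟩, 0, ?_⟩⟩
    intro h0
    exact hy (congrArg Subtype.val h0)
  · intro x hx z
    have hx0 : (x : R) ≠ 0 := fun h0 => hx (Subtype.ext h0)
    obtain ⟨r, hr⟩ := key x x.2 hx0 z z.2
    exact ⟨r, Subtype.ext (by simpa using hr)⟩

end local_

section semilocal

variable {κ : Type v} [Field κ] {F : Type u} [CommRing F] [Algebra κ F] [Module.Finite κ F]

theorem finite_localization (q : Ideal F) [q.IsPrime] :
    Module.Finite κ (Localization.AtPrime q) :=
  haveI : IsArtinianRing F := IsArtinianRing.of_finite κ F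
  Module.Finite.of_surjective (Algebra.algHom κ F (Localization.AtPrime q)).toLinearMap
    (IsArtinianRing.localization_surjective q.primeCompl (Localization.AtPrime q))

open PrimeSpectrum in
/-- a nondegenerate functional on `F` induces one on each localization -/
theorem exists_nondeg_localization (φ : F →ₗ[κ] κ) (hφ : Nondeg φ) (q : Ideal F) [q.IsPrime] :
    ∃ ψ : Localization.AtPrime q →ₗ[κ] κ, Nondeg ψ := by
  classical
  haveI : IsArtinianRing F := IsArtinianRing.of_finite κ F
  let e := PrimeSpectrum.toPiLocalizationEquiv F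
  let q' : PrimeSpectrum F := ⟨q, inferInstance⟩
  let ι : Localization.AtPrime q →ₗ[κ] PiLocalization F :=
    LinearMap.single κ (fun p : PrimeSpectrum F => Localization p.asIdeal.primeCompl) q'
  let esymm : PiLocalization F →ₗ[κ] F := (e.symm.toLinearMap).restrictScalars κ
  refine ⟨φ ∘ₗ esymm ∘ₗ ι, fun x hx => ?_⟩
  have hb : e.symm (Pi.single q' x) = 0 := by
    apply hφ
    intro c
    have h1 : e.symm (Pi.single q' x) * c = e.symm (Pi.single q' (x * (e c) q')) := by
      apply e.injective
      rw [map_mul, e.apply_symm_apply, e.apply_symm_apply]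
      ext p
      by_cases hp : p = q'
      · subst hp; simp
      · simp [Pi.single_eq_of_ne hp]
    rw [h1]
    exact hx ((e c) q')
  have h2 : (Pi.single q' x : PiLocalization F) = 0 := by
    have := congrArg e hb
    rwa [e.apply_symm_apply, map_zero] at this
  have := congrFun h2 q'
  simpa using this

open PrimeSpectrum in
/-- nondegenerate functionals on all localizations glue to one on `F` -/
theorem exists_nondeg_of_localization
    (h : ∀ (q : Ideal F) [q.IsPrime], ∃ ψ : Localization.AtPrime q →ₗ[κ] κ, Nondeg ψ) :
    ∃ φ : F →ₗ[κ] κ, Nondeg φ := by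
  classical
  haveI : IsArtinianRing F := IsArtinianRing.of_finite κ F
  haveI : Fintype (PrimeSpectrum F) := Fintype.ofFinite _
  let e := PrimeSpectrum.toPiLocalizationEquiv F
  choose ψ hψ using fun p : PrimeSpectrum F => h p.asIdeal
  let loc : ∀ p : PrimeSpectrum F, F →ₗ[κ] Localization.AtPrime p.asIdeal := fun p =>
    (Algebra.algHom κ F (Localization.AtPrime p.asIdeal)).toLinearMap
  refine ⟨∑ p : PrimeSpectrum F, ψ p ∘ₗ loc p, fun b hb => ?_⟩
  apply PrimeSpectrum.toPiLocalization_injective F
  rw [map_zero]
  ext p
  show algebraMap F (Localization.AtPrime p.asIdeal) b = 0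
  apply hψ p
  intro z
  have hc := hb (e.symm (Pi.single p z))
  rw [LinearMap.sum_apply] at hc
  rw [Finset.sum_eq_single p] at hc
  · have h1 : loc p (b * e.symm (Pi.single p z)) =
        algebraMap F (Localization.AtPrime p.asIdeal) b * z := by
      show algebraMap F (Localization.AtPrime p.asIdeal) (b * e.symm (Pi.single p z)) = _
      rw [map_mul]
      congr 1
      have h3 : (e (e.symm (Pi.single p z))) p =
          algebraMap F (Localization.AtPrime p.asIdeal) (e.symm (Pi.single p z)) := rfl
      rw [← h3, e.apply_symm_apply, Pi.single_eq_same]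
    rw [LinearMap.comp_apply, h1] at hc
    exact hc
  · intro p' _ hp'
    have h1 : loc p' (b * e.symm (Pi.single p z)) = 0 := by
      show algebraMap F (Localization.AtPrime p'.asIdeal) (b * e.symm (Pi.single p z)) = _
      rw [map_mul]
      have h3 : (e (e.symm (Pi.single p z))) p' =
          algebraMap F (Localization.AtPrime p'.asIdeal) (e.symm (Pi.single p z)) := rfl
      have h2 : algebraMap F (Localization.AtPrime p'.asIdeal) (e.symm (Pi.single p z)) = 0 := by
        rw [← h3, e.apply_symm_apply, Pi.single_eq_of_ne hp']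
      rw [h2, mul_zero]
    rw [LinearMap.comp_apply, h1, map_zero]
  · intro hp
    exact absurd (Finset.mem_univ p) hp

open Groth.Agent.Lib.helper17 in
/-- **Frobenius criterion.** A finite-dimensional commutative algebra over a field is Gorenstein
iff it carries a nondegenerate linear functional. -/
theorem gor_iff_nondeg : LocCoh.IsGorensteinRing F ↔ ∃ φ : F →ₗ[κ] κ, Nondeg φ := by
  haveI : IsArtinianRing F := IsArtinianRing.of_finite κ F
  constructor
  · intro hG
    apply exists_nondeg_of_localization
    intro q _
    haveI := finite_localization (κ := κ) q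
    have hq := hG.isGorensteinLocalRing_localization q
    exact exists_nondeg_of_typ ((ArtGor.isGorensteinLocalRing_iff_typ _).mp hq)
  · rintro ⟨φ, hφ⟩
    haveI : IsNoetherianRing F := inferInstance
    refine { isGorensteinLocalRing_localization := fun q _ => ?_ }
    haveI := finite_localization (κ := κ) q
    obtain ⟨ψ, hψ⟩ := exists_nondeg_localization φ hφ q
    exact (ArtGor.isGorensteinLocalRing_iff_typ _).mpr (typ_of_nondeg ψ hψ)

end semilocal

end Groth.Agent.Lib.helper2.GorFrob
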