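import Mathlib
import Groth.Prelude.Def_Disc

/-!
# helper2: Gram determinants of functionals on a finite free algebra

For a finite free `A`-algebra `B` with basis `b` and `φ ∈ ω = Hom_A(B, A)`, the Gram matrix
`G = (φ(b_i b_j))` has determinant `d`; `ω` is free on `φ` over `B` after inverting `d`.
-/

set_option autoImplicit false
universe u v

open Disc

namespace Groth.Agent.Lib.helper2.GorFrob

section gram

variable {A : Type u} {B : Type v} [CommRing A] [CommRing B] [Algebra A B]
  {ι : Type*} [Fintype ι] [DecidableEq ι] (b : Module.Basis ι A B)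

/-- the Gram matrix of a functional -/
noncomputable def gram (φ : B →ₗ[A] A) : Matrix ι ι A := fun i j => φ (b i * b j)

theorem gram_transpose (φ : B →ₗ[A] A) : (gram b φ).transpose = gram b φ := by
  ext i j
  simp [gram, Matrix.transpose_apply, mul_comm]

/-- the "dual basis up to the determinant" -/
noncomputable def dualB (φ : B →ₗ[A] A) (i : ι) : B := ∑ k, (gram b φ).adjugate i k • b k

theorem phi_dualB_mul (φ : B →ₗ[A] A) (i j : ι) :
    φ (dualB b φ i * b j) = if i = j then (gram b φ).det else 0 := by
  have h1 : φ (dualB b φ i * b j) = ((gram b φ).adjugate * gram b φ) i j := by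
    rw [dualB, Finset.sum_mul, map_sum, Matrix.mul_apply]
    refine Finset.sum_congr rfl fun k _ => ?_
    rw [smul_mul_assoc, map_smul, smul_eq_mul]
    rfl
  rw [h1, Matrix.adjugate_mul]
  simp [Matrix.smul_apply, Matrix.one_apply]

theorem sum_gram_dualB (φ : B →ₗ[A] A) (k : ι) :
    ∑ i, gram b φ k i • dualB b φ i = (gram b φ).det • b k := by
  have h1 : ∑ i, gram b φ k i • dualB b φ i =
      ∑ l, (gram b φ * (gram b φ).adjugate) k l • b l := by
    simp only [dualB, Finset.smul_sum, smul_smul]
    rw [Finset.sum_comm]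
    refine Finset.sum_congr rfl fun l _ => ?_
    rw [← Finset.sum_smul, Matrix.mul_apply]
  rw [h1, Matrix.mul_adjugate]
  simp [Matrix.smul_apply, Matrix.one_apply, ite_smul]

/-- the almost-inverse `Θ : Hom_A(B, A) → B` of `x ↦ x • φ` -/
noncomputable def theta (φ : B →ₗ[A] A) : (B →ₗ[A] A) →ₗ[A] B :=
  ∑ i, (LinearMap.applyₗ (b i)).smulRight (dualB b φ i)

theorem theta_apply (φ ψ : B →ₗ[A] A) : theta b φ ψ = ∑ i, ψ (b i) • dualB b φ i := by
  simp [theta, LinearMap.sum_apply]

theorem phi_theta_mul (φ ψ : B →ₗ[A] A) (x : B) :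
    φ (theta b φ ψ * x) = (gram b φ).det * ψ x := by
  have h : (φ ∘ₗ LinearMap.mulLeft A (theta b φ ψ)) = (gram b φ).det • ψ := by
    apply b.ext
    intro l
    rw [LinearMap.comp_apply, LinearMap.mulLeft_apply, theta_apply, Finset.sum_mul, map_sum]
    simp only [smul_mul_assoc, map_smul, phi_dualB_mul, smul_eq_mul, LinearMap.smul_apply]
    rw [Finset.sum_eq_single l]
    · simp [mul_comm]
    · intro i _ hi; simp [hi]
    · intro hl; exact absurd (Finset.mem_univ l) hl
  have := LinearMap.congr_fun h x
  simpa using this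

theorem theta_comp_mulLeft (φ : B →ₗ[A] A) (x : B) :
    theta b φ (φ ∘ₗ LinearMap.mulLeft A x) = (gram b φ).det • x := by
  have h : (theta b φ ∘ₗ
      ((LinearMap.llcomp A B B A φ) ∘ₗ (LinearMap.mul A B))) =
      (gram b φ).det • LinearMap.id := by
    apply b.ext
    intro k
    rw [LinearMap.comp_apply, LinearMap.comp_apply, theta_apply]
    simp only [LinearMap.llcomp_apply, LinearMap.mul_apply', LinearMap.smul_apply,
      LinearMap.id_apply]
    exact sum_gram_dualB b φ k
  have := LinearMap.congr_fun h x
  rw [LinearMap.comp_apply, LinearMap.comp_apply] at this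
  have h2 : ((LinearMap.llcomp A B B A) φ) ((LinearMap.mul A B) x) = φ ∘ₗ LinearMap.mulLeft A x := by
    apply LinearMap.ext; intro y; simp
  rw [h2] at this
  simpa using this

end gram

section loc

variable {A : Type u} {B : Type v} [CommRing A] [CommRing B] [Algebra A B]
  {ι : Type*} [Fintype ι] [DecidableEq ι] (b : Module.Basis ι A B)

/-- the Gram determinant of an element of `ω` -/
noncomputable def gdet (φ : Omega A B) : A := (gram b φ.toLinearMap).det

/-- `Θ` on `ω` -/
noncomputable def thetaO (φ ψ : Omega A B) : B := theta b φ.toLinearMap ψ.toLinearMap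

theorem thetaO_smul_self (φ ψ : Omega A B) :
    thetaO b φ ψ • φ = algebraMap A B (gdet b φ) • ψ := by
  apply Omega.ext
  apply LinearMap.ext
  intro x
  rw [Omega.smul_toLinearMap_apply, Omega.smul_toLinearMap_apply]
  rw [thetaO, phi_theta_mul, ← Algebra.smul_def, map_smul, smul_eq_mul]
  rfl

theorem thetaO_smul (φ : Omega A B) (x : B) :
    thetaO b φ (x • φ) = algebraMap A B (gdet b φ) * x := by
  rw [← Algebra.smul_def]
  exact theta_comp_mulLeft b φ.toLinearMap x

theorem thetaO_algebraMap_smul (φ ψ : Omega A B) (a : A) :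
    thetaO b φ (algebraMap A B a • ψ) = algebraMap A B a * thetaO b φ ψ := by
  have h : (algebraMap A B a • ψ).toLinearMap = a • ψ.toLinearMap := by
    apply LinearMap.ext
    intro x
    rw [Omega.smul_toLinearMap_apply, ← Algebra.smul_def, map_smul]
    rfl
  rw [thetaO, h, map_smul, ← Algebra.smul_def]
  rfl

theorem thetaO_zero (φ : Omega A B) : thetaO b φ 0 = 0 := by
  simp [thetaO]

/-- after inverting the Gram determinant of `φ`, `ω` is free of rank one on `φ` -/
theorem nonempty_equiv_away (φ : Omega A B) :
    Nonempty (LocalizedModule.Away (algebraMap A B (gdet b φ)) (Omega A B)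
      ≃ₗ[Localization.Away (algebraMap A B (gdet b φ))]
      Localization.Away (algebraMap A B (gdet b φ))) := by
  set f : B := algebraMap A B (gdet b φ) with hf
  set S : Submonoid B := Submonoid.powers f with hS
  let g : Localization S →ₗ[Localization S] LocalizedModule S (Omega A B) :=
    LinearMap.toSpanSingleton (Localization S) (LocalizedModule S (Omega A B))
      (LocalizedModule.mk φ (1 : S))
  have hg : ∀ (x : B) (s : S), g (Localization.mk x s) = LocalizedModule.mk (x • φ) s := by
    intro x s
    show Localization.mk x s • (LocalizedModule.mk φ (1 : S) : LocalizedModule S (Omega A B)) = _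
    rw [LocalizedModule.mk_smul_mk, mul_one]
  have hpow : ∀ (k : ℕ) (ψ : Omega A B),
      thetaO b φ ((f ^ k : B) • ψ) = f ^ k * thetaO b φ ψ := by
    intro k ψ
    rw [hf, ← map_pow, thetaO_algebraMap_smul]
  have hinj : Function.Injective g := by
    rw [← LinearMap.ker_eq_bot, LinearMap.ker_eq_bot']
    intro z hz
    induction z using Localization.induction_on with
    | H y =>
    obtain ⟨x, s⟩ := y
    rw [hg, ← LocalizedModule.zero_mk (1 : S), LocalizedModule.mk_eq] at hz
    obtain ⟨⟨_, k, rfl⟩, hu⟩ := hz
    simp only [one_smul, smul_zero, Submonoid.smul_def] at hu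
    have h1 := congrArg (thetaO b φ) hu
    rw [hpow, thetaO_smul, thetaO_zero] at h1
    rw [← Localization.mk_zero (1 : S), Localization.mk_eq_mk_iff, Localization.r_iff_exists]
    refine ⟨⟨f ^ (k + 1), k + 1, rfl⟩, ?_⟩
    simp only [OneMemClass.coe_one, one_mul, mul_zero]
    rw [pow_succ, mul_assoc]
    exact h1
  have hsurj : Function.Surjective g := by
    intro z
    induction z using LocalizedModule.induction_on with
    | h ψ s =>
      refine ⟨Localization.mk (thetaO b φ ψ) (s * ⟨f, 1, pow_one f⟩), ?_⟩
      rw [hg, thetaO_smul_self]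
      exact LocalizedModule.mk_cancel_common_right s ⟨f, 1, pow_one f⟩ ψ
  exact ⟨(LinearEquiv.ofBijective g ⟨hinj, hsurj⟩).symm⟩

end loc

end Groth.Agent.Lib.helper2.GorFrob
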