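import Mathlib
import Groth.Prelude.Def_Disc
import Groth.Agent.Lib.Helper2.GorFrob1
import Groth.Agent.Lib.Helper2.GorFrob2

/-!
# helper2: Gorenstein fibres and Gram determinants
-/

set_option autoImplicit false
universe u v

open Disc TensorProduct

namespace Groth.Agent.Lib.helper2.GorFrob

section field

variable {κ : Type v} [Field κ] {F : Type u} [CommRing F] [Algebra κ F]
  {ι : Type*} [Fintype ι] [DecidableEq ι] (bF : Module.Basis ι κ F)

/-- a nondegenerate functional has nonzero Gram determinant -/
theorem gram_det_ne_zero (φ : F →ₗ[κ] κ) (hφ : Nondeg φ) : (gram bF φ).det ≠ 0 := by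
  intro hdet
  obtain ⟨v, hv, hGv⟩ := Matrix.exists_mulVec_eq_zero_iff.mpr hdet
  set x : F := ∑ j, v j • bF j with hx
  have hx0 : x = 0 := by
    apply hφ
    intro c
    have hc : c = ∑ i, bF.repr c i • bF i := (bF.sum_repr c).symm
    rw [mul_comm, hc, Finset.sum_mul, map_sum]
    apply Finset.sum_eq_zero
    intro i _
    rw [smul_mul_assoc, map_smul, hx, Finset.mul_sum, map_sum]
    have : ∑ j, φ (bF i * v j • bF j) = (gram bF φ).mulVec v i := by
      rw [Matrix.mulVec, dotProduct]
      refine Finset.sum_congr rfl fun j _ => ?_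
      rw [mul_smul_comm, map_smul, smul_eq_mul, mul_comm]
      rfl
    rw [this, hGv]
    simp
  apply hv
  have h2 : ∀ j, bF.repr x j = v j := by
    intro j
    rw [hx, map_sum, Finsupp.finsetSum_apply]
    simp [Finsupp.single_apply]
  ext j
  rw [← h2, hx0]
  simp

end field

section lift

variable {A B : Type u} [CommRing A] [CommRing B] [Algebra A B]
  {ι : Type*} [Fintype ι] [DecidableEq ι] (b : Module.Basis ι A B)
  (p : Ideal A) [p.IsPrime]

/-- a nondegenerate functional on the fibre lifts (up to a unit) to a functional with Gram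
determinant outside `p` -/
theorem exists_gdet_notMem (φ' : p.Fiber B →ₗ[p.ResidueField] p.ResidueField) (hφ' : Nondeg φ') :
    ∃ φ : Omega A B, gdet b φ ∉ p := by
  classical
  set κ := p.ResidueField with hκ
  let bF : Module.Basis ι κ (κ ⊗[A] B) := Algebra.TensorProduct.basis κ b
  have hbF : ∀ i, bF i = (1 : κ) ⊗ₜ[A] b i := fun i => Algebra.TensorProduct.basis_apply b i
  -- lift the values to the local ring
  have hsurj := IsLocalRing.residue_surjective (R := Localization.AtPrime p)
  choose t ht using fun i => hsurj (φ' (bF i))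
  obtain ⟨s, hs⟩ := IsLocalization.exist_integer_multiples p.primeCompl Finset.univ t
  choose a ha using fun i => hs i (Finset.mem_univ i)
  let φ : Omega A B := ⟨b.constr A a⟩
  have hφb : ∀ i, φ.toLinearMap (b i) = a i := fun i => b.constr_basis A a i
  set s' : κ := algebraMap A κ (s : A) with hs'
  have hs'0 : s' ≠ 0 := by
    rw [hs', Ne, Ideal.algebraMap_residueField_eq_zero]
    exact s.2
  -- the key identity
  have key : ∀ x : B, s' * φ' ((1 : κ) ⊗ₜ[A] x) = algebraMap A κ (φ.toLinearMap x) := by
    intro x
    have h : ((s' • φ').restrictScalars A) ∘ₗ (TensorProduct.mk A κ B 1) =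
        (Algebra.linearMap A κ) ∘ₗ φ.toLinearMap := by
      apply b.ext
      intro i
      simp only [LinearMap.comp_apply, LinearMap.restrictScalars_apply, LinearMap.smul_apply,
        TensorProduct.mk_apply, Algebra.linearMap_apply, smul_eq_mul]
      rw [hφb, ← hbF, ← ht i]
      rw [hs', IsScalarTower.algebraMap_apply A (Localization.AtPrime p) κ,
        IsScalarTower.algebraMap_apply A (Localization.AtPrime p) κ (a i), ha i]
      rw [Algebra.smul_def, map_mul]
      rfl
    have := LinearMap.congr_fun h x
    simpa using this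
  refine ⟨φ, fun hmem => ?_⟩
  have hmap : (gram b φ.toLinearMap).map (algebraMap A κ) = s' • gram bF φ' := by
    ext i j
    simp only [Matrix.map_apply, Matrix.smul_apply, gram, smul_eq_mul]
    rw [hbF, hbF, Algebra.TensorProduct.tmul_mul_tmul, one_mul, key]
  have hdet : algebraMap A κ (gdet b φ) = s' ^ Fintype.card ι * (gram bF φ').det := by
    rw [gdet, RingHom.map_det, RingHom.mapMatrix_apply, hmap, Matrix.det_smul]
  have h0 : algebraMap A κ (gdet b φ) = 0 := Ideal.algebraMap_residueField_eq_zero.mpr hmem
  rw [hdet] at h0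
  rcases mul_eq_zero.mp h0 with h1 | h1
  · exact hs'0 (eq_zero_of_pow_eq_zero h1)
  · exact gram_det_ne_zero bF φ' hφ' h1

end lift

section inv

variable {A B : Type u} [CommRing A] [CommRing B] [Algebra A B]
  {ι : Type*} [Fintype ι] [DecidableEq ι] (b : Module.Basis ι A B)
  (κ : Type u) [Field κ] [Algebra A κ]

/-- `toLinearMap` as an additive map -/
def Omega.toLinearMapHom (A' B' : Type*) [CommRing A'] [CommRing B'] [Algebra A' B'] :
    Omega A' B' →+ (B' →ₗ[A'] A') where
  toFun := Omega.toLinearMap
  map_zero' := rfl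
  map_add' _ _ := rfl

/-- base change of a functional to the fibre -/
noncomputable def bc (φ : Omega A B) : Omega κ (κ ⊗[A] B) :=
  ⟨(AlgebraTensorModule.rid A κ κ).toLinearMap ∘ₗ (φ.toLinearMap.baseChange κ)⟩

theorem bc_tmul (φ : Omega A B) (c : κ) (x : B) :
    (bc κ φ).toLinearMap (c ⊗ₜ[A] x) = φ.toLinearMap x • c := by
  simp [bc]

include b in
attribute [local instance] Algebra.TensorProduct.rightAlgebra in
/-- if `ω` is invertible then the fibre carries a nondegenerate functional -/
theorem exists_nondeg_of_invertible [Module.Invertible B (Omega A B)] :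
    ∃ φ' : κ ⊗[A] B →ₗ[κ] κ, Nondeg φ' := by
  classical
  haveI : Module.Finite A B := Module.Finite.of_basis b
  set F := κ ⊗[A] B with hF
  let bF : Module.Basis ι κ F := Algebra.TensorProduct.basis κ b
  have hbF : ∀ i, bF i = (1 : κ) ⊗ₜ[A] b i := fun i => Algebra.TensorProduct.basis_apply b i
  set N := Omega κ F with hN
  letI : Module B N := Module.compHom N (algebraMap B F)
  haveI : IsScalarTower B F N := ⟨fun β f n => by
    show (β • f) • n = algebraMap B F β • (f • n)
    rw [Algebra.smul_def, mul_smul]⟩
  have halg : ∀ β : B, algebraMap B F β = (1 : κ) ⊗ₜ[A] β := fun β => rfl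
  let bcL : Omega A B →ₗ[B] N :=
    { toFun := bc κ
      map_add' := fun φ ψ => by
        apply Omega.ext
        apply TensorProduct.AlgebraTensorModule.ext
        intro c x
        show (bc κ (φ + ψ)).toLinearMap (c ⊗ₜ[A] x) =
          ((bc κ φ).toLinearMap + (bc κ ψ).toLinearMap) (c ⊗ₜ[A] x)
        rw [LinearMap.add_apply, bc_tmul, bc_tmul, bc_tmul]
        show (φ.toLinearMap + ψ.toLinearMap) x • c = _
        rw [LinearMap.add_apply, add_smul]
      map_smul' := fun β φ => by
        apply Omega.ext
        apply TensorProduct.AlgebraTensorModule.ext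
        intro c x
        show (bc κ (β • φ)).toLinearMap (c ⊗ₜ[A] x) =
          (algebraMap B F β • bc κ φ).toLinearMap (c ⊗ₜ[A] x)
        rw [Omega.smul_toLinearMap_apply, halg, Algebra.TensorProduct.tmul_mul_tmul, one_mul,
          bc_tmul, bc_tmul, Omega.smul_toLinearMap_apply] }
  let T : F ⊗[B] Omega A B →ₗ[F] N := bcL.liftBaseChange F
  have hT : LinearMap.range T = ⊤ := by
    rw [LinearMap.range_liftBaseChange, eq_top_iff]
    intro ψ _
    have hψ : ψ = ∑ i, algebraMap κ F (ψ.toLinearMap (bF i)) • bcL ⟨b.coord i⟩ := by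
      apply Omega.ext
      apply bF.ext
      intro j
      have h1 : (∑ i, algebraMap κ F (ψ.toLinearMap (bF i)) • bcL ⟨b.coord i⟩).toLinearMap =
          ∑ i, (algebraMap κ F (ψ.toLinearMap (bF i)) • bcL ⟨b.coord i⟩).toLinearMap :=
        map_sum (Omega.toLinearMapHom κ F) _ _
      rw [h1, LinearMap.sum_apply, Finset.sum_eq_single j]
      · rw [Omega.smul_toLinearMap_apply, hbF j, Algebra.TensorProduct.algebraMap_apply,
          Algebra.TensorProduct.tmul_mul_tmul, mul_one, one_mul]
        show _ = (bc κ ⟨b.coord j⟩).toLinearMap _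
        rw [bc_tmul]
        simp
      · intro i _ hij
        rw [Omega.smul_toLinearMap_apply, hbF j, Algebra.TensorProduct.algebraMap_apply,
          Algebra.TensorProduct.tmul_mul_tmul, mul_one, one_mul]
        show (bc κ ⟨b.coord i⟩).toLinearMap _ = 0
        rw [bc_tmul]
        simp [Finsupp.single_eq_of_ne hij]
      · intro hj; exact absurd (Finset.mem_univ j) hj
    rw [hψ]
    exact Submodule.sum_mem _ fun i _ =>
      Submodule.smul_mem _ _ (Submodule.subset_span ⟨_, rfl⟩)
  -- the tensor product is free of rank one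
  haveI : Module.Finite κ F := inferInstance
  haveI : IsArtinianRing F := IsArtinianRing.of_finite κ F
  haveI : Module.Invertible F (F ⊗[B] Omega A B) := inferInstance
  haveI : Module.Free F (F ⊗[B] Omega A B) := inferInstance
  obtain ⟨e⟩ := Module.Invertible.free_iff_linearEquiv.mp
    (inferInstance : Module.Free F (F ⊗[B] Omega A B))
  set φ₀ : N := T (e.symm 1) with hφ₀
  have hgen : ∀ ψ : N, ∃ c : F, c • φ₀ = ψ := by
    intro ψ
    obtain ⟨m, rfl⟩ := LinearMap.range_eq_top.mp hT ψ
    refine ⟨e m, ?_⟩
    rw [hφ₀, ← map_smul, ← map_smul, smul_eq_mul, mul_one, e.symm_apply_apply]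
  let L : F →ₗ[κ] Module.Dual κ F :=
    { toFun := fun c => (c • φ₀).toLinearMap
      map_add' := fun c c' => by rw [add_smul]; rfl
      map_smul' := fun r c => by
        apply LinearMap.ext
        intro x
        show φ₀.toLinearMap ((r • c) * x) = r • φ₀.toLinearMap (c * x)
        rw [smul_mul_assoc, map_smul] }
  have hLsurj : Function.Surjective L := by
    intro ψ'
    obtain ⟨c, hc⟩ := hgen ⟨ψ'⟩
    exact ⟨c, by show (c • φ₀).toLinearMap = ψ'; rw [hc]⟩
  have hLinj : Function.Injective L :=
    (LinearMap.injective_iff_surjective_of_finrank_eq_finrank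
      (Subspace.dual_finrank_eq (K := κ) (V := F)).symm).mpr hLsurj
  refine ⟨φ₀.toLinearMap, fun x hx => ?_⟩
  apply hLinj
  rw [map_zero]
  apply LinearMap.ext
  intro c
  exact hx c

end inv

end Groth.Agent.Lib.helper2.GorFrob
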