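import Mathlib
import Groth.Prelude.Def_Disc
import Groth.Agent.Lib.Helper2.GorFrob1
import Groth.Agent.Lib.Helper17.LciGor
import Groth.Agent.Lib.Helper17.CIField6
import Groth.Agent.Lib.Helper26.PolyMax

/-!
# helper2: zero-dimensional global complete intersections over a field are Gorenstein, and
`Hom_k(B, k) ≅ B` for Gorenstein finite-dimensional algebras
-/

set_option autoImplicit false
universe u v

open Disc IsLocalRing

namespace Groth.Agent.Lib.helper2.GorFrob


/-- a nondegenerate functional generates `ω = Hom_κ(F, κ)` freely -/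
theorem nonempty_equiv_of_nondeg {κ : Type v} [Field κ] {F : Type u} [CommRing F] [Algebra κ F]
    [Module.Finite κ F] (φ : F →ₗ[κ] κ) (hφ : Nondeg φ) : Nonempty (Omega κ F ≃ₗ[F] F) := by
  let φ₀ : Omega κ F := ⟨φ⟩
  let L : F →ₗ[κ] Module.Dual κ F :=
    { toFun := fun c => (c • φ₀).toLinearMap
      map_add' := fun c c' => by rw [add_smul]; rfl
      map_smul' := fun r c => by
        apply LinearMap.ext
        intro x
        show φ₀.toLinearMap ((r • c) * x) = r • φ₀.toLinearMap (c * x)
        rw [smul_mul_assoc, map_smul] }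
  have hLinj : Function.Injective L := by
    rw [← LinearMap.ker_eq_bot, LinearMap.ker_eq_bot']
    intro c hc
    apply hφ
    intro x
    exact LinearMap.congr_fun hc x
  have hLsurj : Function.Surjective L :=
    (LinearMap.injective_iff_surjective_of_finrank_eq_finrank
      (Subspace.dual_finrank_eq (K := κ) (V := F)).symm).mp hLinj
  let g : F →ₗ[F] Omega κ F := LinearMap.toSpanSingleton F (Omega κ F) φ₀
  have hg : Function.Bijective g := by
    constructor
    · intro c c' h
      apply hLinj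
      show (c • φ₀).toLinearMap = (c' • φ₀).toLinearMap
      exact congrArg Omega.toLinearMap h
    · intro ψ
      obtain ⟨c, hc⟩ := hLsurj ψ.toLinearMap
      exact ⟨c, Omega.ext hc⟩
  exact ⟨(LinearEquiv.ofBijective g hg).symm⟩

set_option quotPrecheck false in
local notation "P" => MvPolynomial (Fin _) _

open Groth.Agent.Lib.helper17 in
/-- `k[x_1..x_n]/(f_1..f_n)` of dimension zero is Gorenstein -/
theorem isGorensteinRing_ci_dim_zero_aux (k : Type u) [Field k] (n : ℕ)
    (f : Fin n → MvPolynomial (Fin n) k) (I : Ideal (MvPolynomial (Fin n) k))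
    (hI : I = Ideal.span (Set.range f))
    (h0 : ringKrullDim (MvPolynomial (Fin n) k ⧸ I) = 0) :
    LocCoh.IsGorensteinRing (MvPolynomial (Fin n) k ⧸ I) := by
  haveI : Ring.KrullDimLE 0 (P ⧸ I) := (Ring.krullDimLE_iff).mpr (le_of_eq h0)
  refine { isGorensteinLocalRing_localization := fun 𝔮 h𝔮 => ?_ }
  haveI := h𝔮
  let Q : Ideal P := 𝔮.comap (Ideal.Quotient.mk I)
  have hQ : Q = 𝔮.comap (Ideal.Quotient.mk I) := rfl
  haveI : Q.IsPrime := Ideal.comap_isPrime _ _
  have hIQ : I ≤ Q := by
    intro x hx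
    rw [hQ, Ideal.mem_comap, Ideal.Quotient.eq_zero_iff_mem.mpr hx]
    exact 𝔮.zero_mem
  have h𝔮max : 𝔮.IsMaximal := Ideal.IsPrime.isMaximal' h𝔮
  have hQmax : Q.IsMaximal :=
    Ideal.comap_isMaximal_of_surjective _ Ideal.Quotient.mk_surjective
  have hQht : Q.height = n := Groth.Agent.Lib.helper26.PolyMax.height_eq_of_isMaximal k n Q hQmax
  let A := Localization.AtPrime Q
  haveI : IsRegularLocalRing A := inferInstance
  have hdimA : ringKrullDim A = n := by
    rw [IsLocalization.AtPrime.ringKrullDim_eq_height Q A, hQht]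
    rfl
  let g : Fin n → A := fun i => algebraMap P A (f i)
  have hIA : Ideal.ofList (List.ofFn g) = I.map (algebraMap P A) := by
    rw [H1Reg.ofList_ofFn, hI, Ideal.map_span, ← Set.range_comp]
    rfl
  have hmem : ∀ x ∈ List.ofFn g, x ∈ maximalIdeal A := by
    intro x hx
    obtain ⟨i, rfl⟩ := (List.mem_ofFn' g x).1 hx
    rw [← Localization.AtPrime.map_eq_maximalIdeal]
    exact Ideal.mem_map_of_mem _ (hIQ (by rw [hI]; exact Ideal.subset_span ⟨i, rfl⟩))
  -- the quotient is the localization of `B` at `𝔮`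
  have hsub : Algebra.algebraMapSubmonoid (MvPolynomial (Fin n) k ⧸ I) Q.primeCompl =
      𝔮.primeCompl := by
    ext y
    constructor
    · rintro ⟨x, hx, rfl⟩
      exact hx
    · intro hy
      obtain ⟨x, rfl⟩ := Ideal.Quotient.mk_surjective y
      exact ⟨x, hy, rfl⟩
  haveI hloc : IsLocalization 𝔮.primeCompl
      (A ⧸ I.map (algebraMap (MvPolynomial (Fin n) k) A)) := by
    rw [← hsub]; infer_instance
  let e : Localization.AtPrime 𝔮 ≃ₐ[MvPolynomial (Fin n) k ⧸ I]
      (A ⧸ I.map (algebraMap (MvPolynomial (Fin n) k) A)) :=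
    IsLocalization.algEquiv 𝔮.primeCompl (Localization.AtPrime 𝔮)
      (A ⧸ I.map (algebraMap (MvPolynomial (Fin n) k) A))
  have hdimq : ringKrullDim (A ⧸ Ideal.ofList (List.ofFn g)) = 0 := by
    rw [hIA, ← ringKrullDim_eq_of_ringEquiv e.toRingEquiv,
      IsLocalization.AtPrime.ringKrullDim_eq_height 𝔮 (Localization.AtPrime 𝔮)]
    have h1 : (𝔮.height : WithBot ℕ∞) ≤ 0 := by
      rw [← h0]
      exact Ideal.height_le_ringKrullDim_of_ne_top h𝔮max.ne_top
    exact le_antisymm h1 (by exact_mod_cast bot_le (a := 𝔮.height))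
  have hreg := CIField.isRegular_of_dim_quot A (List.ofFn g) hmem (by
    rw [hdimq, zero_add, hdimA, List.length_ofFn])
  haveI := GorRing.isGorensteinRing_of_field k
  haveI := GorRing.isGorensteinRing_mvPolynomial_fin k n
  have hG : LocCoh.IsGorensteinLocalRing A :=
    LocCoh.IsGorensteinRing.isGorensteinLocalRing_localization Q
  have h5 := LciGor.gor_quot_ofList A (List.ofFn g) hmem hreg.toIsWeaklyRegular hG
  have h6 : LocCoh.IsGorensteinLocalRing (A ⧸ I.map (algebraMap (MvPolynomial (Fin n) k) A)) :=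
    GorIso.isGorensteinLocalRing_of_ringEquiv (Ideal.quotEquivOfEq hIA.symm) h5
  exact GorIso.isGorensteinLocalRing_of_ringEquiv e.toRingEquiv h6

/-- `k[x_1..x_n]/(f_1..f_n)` of dimension zero is Gorenstein -/
theorem isGorensteinRing_ci_dim_zero (k : Type u) [Field k] (n : ℕ)
    (f : Fin n → MvPolynomial (Fin n) k)
    (h0 : ringKrullDim (MvPolynomial (Fin n) k ⧸ Ideal.span (Set.range f)) = 0) :
    LocCoh.IsGorensteinRing (MvPolynomial (Fin n) k ⧸ Ideal.span (Set.range f)) :=
  isGorensteinRing_ci_dim_zero_aux k n f _ rfl h0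

end Groth.Agent.Lib.helper2.GorFrob
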