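import Mathlib
import Groth.Prelude.Def_Disc
import Groth.Agent.Lib.Helper2.GorFrob3

/-!
# helper2: norms of the different generate the discriminant ideal (finite free, `ω` invertible)
-/

set_option autoImplicit false
universe u v

open Disc TensorProduct

namespace Groth.Agent.Lib.helper2.GorFrob

section

variable {A B : Type u} [CommRing A] [CommRing B] [Algebra A B]
  {ι : Type*} [Fintype ι] [DecidableEq ι] (b : Module.Basis ι A B)

/-- norms of elements of the different lie in the discriminant ideal -/
theorem norm_mem_span_discr {x : B} (hx : x ∈ Disc.differentSet A B) :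
    Algebra.norm A x ∈ Ideal.span {Algebra.discr A b} := by
  choose c hc using fun i => hx (b.coord i)
  let C : Matrix ι ι A := fun i k => b.repr (c i) k
  have hM : Algebra.leftMulMatrix b x = C * Algebra.traceMatrix A b := by
    ext i j
    rw [Algebra.leftMulMatrix_eq_repr_mul, Matrix.mul_apply]
    have h1 : b.repr (x * b j) i = b.coord i (x * b j) := rfl
    rw [h1, hc i (b j)]
    have h2 : c i = ∑ k, b.repr (c i) k • b k := (b.sum_repr (c i)).symm
    conv_lhs => rw [h2, Finset.sum_mul, map_sum]
    refine Finset.sum_congr rfl fun k _ => ?_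
    rw [smul_mul_assoc, map_smul, smul_eq_mul]
    rfl
  rw [Algebra.norm_eq_matrix_det b, hM, Matrix.det_mul, Algebra.discr_def]
  exact Ideal.mul_mem_left _ _ (Ideal.subset_span rfl)

/-- the element `d · Θ(Tr)` of the different attached to `φ` -/
theorem exists_mem_differentSet (φ : Omega A B) :
    ∃ x ∈ Disc.differentSet A B,
      gdet b φ * Algebra.norm A x = gdet b φ ^ (2 * Fintype.card ι) * Algebra.discr A b := by
  haveI : Module.Finite A B := Module.Finite.of_basis b
  haveI : Module.Free A B := Module.Free.of_basis b
  set d := gdet b φ with hd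
  set Tr : Omega A B := ⟨Algebra.trace A B⟩ with hTr
  set δ : B := thetaO b φ Tr with hδ
  have hδφ : δ • φ = algebraMap A B d • Tr := thetaO_smul_self b φ Tr
  refine ⟨algebraMap A B d * δ, ?_, ?_⟩
  · intro ψ
    refine ⟨thetaO b φ ⟨ψ⟩ * algebraMap A B d, fun y => ?_⟩
    have h1 : (algebraMap A B d * δ) • (⟨ψ⟩ : Omega A B) =
        (thetaO b φ ⟨ψ⟩ * algebraMap A B d) • Tr := by
      rw [mul_comm (algebraMap A B d) δ, mul_smul, ← thetaO_smul_self b φ ⟨ψ⟩, smul_comm,
        hδφ, mul_smul]
    have h2 := congrArg (fun ω : Omega A B => ω.toLinearMap y) h1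
    simpa [Tr] using h2
  · -- the norm computation
    have hmat : d • Algebra.traceMatrix A b =
        (Algebra.leftMulMatrix b δ).transpose * gram b φ.toLinearMap := by
      ext i j
      have h3 := congrArg (fun ω : Omega A B => ω.toLinearMap (b i * b j)) hδφ
      simp only [Omega.smul_toLinearMap_apply] at h3
      rw [Matrix.smul_apply, Algebra.traceMatrix_apply, Algebra.traceForm_apply, smul_eq_mul,
        Matrix.mul_apply]
      have h4 : Tr.toLinearMap (algebraMap A B d * (b i * b j)) =
          d * Algebra.trace A B (b i * b j) := by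
        rw [← Algebra.smul_def, map_smul, smul_eq_mul]
      rw [← h4, ← h3, ← mul_assoc]
      have h5 : δ * b i = ∑ k, Algebra.leftMulMatrix b δ k i • b k := by
        simp_rw [Algebra.leftMulMatrix_eq_repr_mul]
        exact (b.sum_repr (δ * b i)).symm
      rw [h5, Finset.sum_mul, map_sum]
      refine Finset.sum_congr rfl fun k _ => ?_
      rw [smul_mul_assoc, map_smul, smul_eq_mul, Matrix.transpose_apply]
      rfl
    have hdet := congrArg Matrix.det hmat
    rw [Matrix.det_smul, Matrix.det_mul, Matrix.det_transpose, ← Algebra.norm_eq_matrix_det b,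
      ← Algebra.discr_def] at hdet
    rw [map_mul, Algebra.norm_algebraMap_of_basis b]
    have hg : (gram b φ.toLinearMap).det = d := rfl
    rw [hg] at hdet
    calc d * (d ^ Fintype.card ι * Algebra.norm A δ)
        = d ^ Fintype.card ι * (Algebra.norm A δ * d) := by ring
      _ = d ^ Fintype.card ι * (d ^ Fintype.card ι * Algebra.discr A b) := by rw [← hdet]
      _ = d ^ (2 * Fintype.card ι) * Algebra.discr A b := by ring

/-- **S2229.** For `B` finite free over `A` with `ω` invertible, the norms of the elements of the
different generate the discriminant ideal. -/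
theorem span_norm_differentSet [Module.Invertible B (Omega A B)] :
    Ideal.span (Algebra.norm A '' Disc.differentSet A B) = Ideal.span {Algebra.discr A b} := by
  apply le_antisymm
  · rw [Ideal.span_le]
    rintro _ ⟨x, hx, rfl⟩
    exact norm_mem_span_discr b hx
  · rw [Ideal.span_le, Set.singleton_subset_iff]
    set J := Ideal.span (Algebra.norm A '' Disc.differentSet A B) with hJ
    -- the colon ideal
    let K : Ideal A := Submodule.colon J ({Algebra.discr A b} : Set A)
    have hK : ∀ φ : Omega A B, gdet b φ ^ (2 * Fintype.card ι + 1) ∈ K := by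
      intro φ
      obtain ⟨x, hx, hnorm⟩ := exists_mem_differentSet b φ
      rw [Submodule.mem_colon_singleton]
      rw [pow_succ, smul_eq_mul, mul_assoc, mul_comm (gdet b φ) (Algebra.discr A b), ← mul_assoc,
        ← hnorm, mul_assoc]
      refine Ideal.mul_mem_left _ _ (Ideal.mul_mem_right _ _ (Ideal.subset_span ⟨x, hx, rfl⟩))
    have hKtop : K = ⊤ := by
      by_contra hne
      obtain ⟨m, hm, hle⟩ := Ideal.exists_le_maximal K hne
      haveI := hm.isPrime
      obtain ⟨φ', hφ'⟩ := exists_nondeg_of_invertible b m.ResidueField
      obtain ⟨φ, hφ⟩ := exists_gdet_notMem b m φ' hφ'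
      exact hφ (hm.isPrime.mem_of_pow_mem _ (hle (hK φ)))
    have h1 : (1 : A) ∈ K := by rw [hKtop]; trivial
    rw [Submodule.mem_colon_singleton] at h1
    simpa using h1

end

end Groth.Agent.Lib.helper2.GorFrob
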