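import Mathlib
import Groth.Agent.Lib.Helper2.Sym7

/-!
# Symmetry of `c₁`, part 8: the function-level form of the symmetry, with the explicit family
(helper2)
-/

set_option autoImplicit false
universe u

namespace Groth.Agent.Lib.helper2.Sym

open IsLocalRing CycAlg AlgebraicGeometry CategoryTheory
open Groth.Agent.Lib.helper16.OrdGen Groth.Agent.Lib.helper16.CycOpen
open Groth.Agent.Lib.helper16.SecOrd

section main

variable {X : Scheme.{u}} [IsIntegral X] [IsLocallyNoetherian X] {L N : X.Modules}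
  {s : Cyc.secFibre L (genericPoint X)} {t : Cyc.secFibre N (genericPoint X)}
  {u : (ξ : X) → Cyc.secFibre N ξ} {v : (ξ : X) → Cyc.secFibre L ξ}

theorem Ffun_ne_zero (δ : X → ℤ) (hδ : Cyc.IsDimFun X δ) (hL : PicF.IsInvertible L)
    (hN : PicF.IsInvertible N) (hs0 : s ≠ 0) (ht0 : t ≠ 0) (hu0 : ∀ ξ, u ξ ≠ 0)
    (hv0 : ∀ ξ, v ξ ≠ 0) (ξ : X) (hξ : δ ξ + 1 = δ (genericPoint X)) :
    Ffun L N s t u v ξ ≠ 0 := by
  have hLc := isLocCyc_of_isInvertible L hL
  have hNc := isLocCyc_of_isInvertible N hN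
  have hdim : ringKrullDim (X.presheaf.stalk ξ) = 1 := dim_stalk_of_delta δ hδ ξ hξ
  obtain ⟨R⟩ := nonempty_rep (s := s) (t := t) (ξ := ξ) (uξ := u ξ) (vξ := v ξ) hLc hNc
  rw [Ffun_eq hdim hs0 ht0 (hu0 _) (hv0 _) R]
  exact R.val_ne_zero hdim hs0 ht0 (hu0 _) (hv0 _)

/-- **Symmetry, function level**: the difference of the two coefficient functions is the sum of
the divisors of the functions `Ffun` at the points of codimension one. -/
theorem c1_symm_fun (δ : X → ℤ) (hδ : Cyc.IsDimFun X δ) (hL : PicF.IsInvertible L)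
    (hN : PicF.IsInvertible N) (hs0 : s ≠ 0) (ht0 : t ≠ 0) (hu0 : ∀ ξ, u ξ ≠ 0)
    (hv0 : ∀ ξ, v ξ ≠ 0) (x : X) :
    Cyc.c1CapFun δ N (Cyc.secDivFun δ L (genericPoint X) s) u x -
      Cyc.c1CapFun δ L (Cyc.secDivFun δ N (genericPoint X) t) v x =
    ∑ᶠ ξ, (if δ ξ + 1 = δ (genericPoint X) then
      Cyc.divFun δ ξ (Ffun L N s t u v ξ) x else 0) := by
  classical
  have hLc := isLocCyc_of_isInvertible L hL
  have hNc := isLocCyc_of_isInvertible N hN
  unfold Cyc.c1CapFun
  by_cases hx : δ x + 2 = δ (genericPoint X)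
  · obtain ⟨gLx, hgLx⟩ := hLc.cyc x
    obtain ⟨gNx, hgNx⟩ := hNc.cyc x
    obtain ⟨Ax, hAx⟩ := exists_smul_mk_eq L (genericPoint X) _
      (hLc.spec x (genericPoint X) (genericPoint_specializes x) gLx hgLx) s
    obtain ⟨Bx, hBx⟩ := exists_smul_mk_eq N (genericPoint X) _
      (hNc.spec x (genericPoint X) (genericPoint_specializes x) gNx hgNx) t
    have hAx0 : Ax ≠ 0 := by
      rintro rfl
      exact hs0 (by rw [hAx, zero_smul])
    have hBx0 : Bx ≠ 0 := by
      rintro rfl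
      exact ht0 (by rw [hBx, zero_smul])
    have hpt := pointwise δ hδ hLc hNc hs0 ht0 hu0 hv0 x hx gLx gNx hgLx hgNx Ax Bx hAx hBx
    obtain ⟨f4, s4⟩ := finsum_divFun_tameFrac δ hδ x hx (A := Ax) (B := Bx) hAx0 hBx0
    have f1 := finite_support_cap (N := N) (u := u) δ hδ hL hs0 x
    have f2 := finite_support_cap (N := L) (u := v) δ hδ hN ht0 x
    have f3 : (Function.support fun ξ => (if δ ξ + 1 = δ (genericPoint X) then
        Cyc.divFun δ ξ (Ffun L N s t u v ξ) x else 0)).Finite := by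
      obtain ⟨W, hxW, hfin⟩ := exists_open_finite hL hN hs0 ht0 hu0 hv0 x
      refine hfin.subset ?_
      intro ξ hξ
      have hξ' : (if δ ξ + 1 = δ (genericPoint X) then
        Cyc.divFun δ ξ (Ffun L N s t u v ξ) x else 0) ≠ 0 := hξ
      split_ifs at hξ' with hd
      · have hsp : ξ ⤳ x := by
          unfold Cyc.divFun at hξ'
          split_ifs at hξ' with hc
          · exact hc.1
          · exact absurd rfl hξ'
        refine ⟨hsp.mem_open W.isOpen hxW, dim_stalk_of_delta δ hδ ξ hd, ?_⟩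
        intro hF
        rw [hF, divFun_one] at hξ'
        exact hξ' rfl
      · exact absurd rfl hξ'
    have f12 : (Function.support fun ξ =>
        Cyc.secDivFun δ L (genericPoint X) s ξ * Cyc.secDivFun δ N ξ (u ξ) x -
        Cyc.secDivFun δ N (genericPoint X) t ξ * Cyc.secDivFun δ L ξ (v ξ) x).Finite :=
      (f1.union f2).subset (Function.support_sub _ _)
    have hsum : ∑ᶠ ξ, (Cyc.secDivFun δ L (genericPoint X) s ξ * Cyc.secDivFun δ N ξ (u ξ) x -
        Cyc.secDivFun δ N (genericPoint X) t ξ * Cyc.secDivFun δ L ξ (v ξ) x -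
        (if δ ξ + 1 = δ (genericPoint X) then
          Cyc.divFun δ ξ (Ffun L N s t u v ξ) x else 0)) = 0 := by
      rw [finsum_congr hpt, finsum_neg_distrib, s4, neg_zero]
    rw [finsum_sub_distrib f12 f3, finsum_sub_distrib f1 f2] at hsum
    linarith
  · have z1 : ∀ ξ, Cyc.secDivFun δ L (genericPoint X) s ξ * Cyc.secDivFun δ N ξ (u ξ) x = 0 := by
      intro ξ
      by_contra hne
      have h1 := Groth.Agent.Lib.helper2.PPush.secDivFun_ne_zero_specializes δ L _ s ξ
        (left_ne_zero_of_mul hne)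
      have h2 := Groth.Agent.Lib.helper2.PPush.secDivFun_ne_zero_specializes δ N ξ (u ξ) x
        (right_ne_zero_of_mul hne)
      omega
    have z2 : ∀ ξ, Cyc.secDivFun δ N (genericPoint X) t ξ * Cyc.secDivFun δ L ξ (v ξ) x = 0 := by
      intro ξ
      by_contra hne
      have h1 := Groth.Agent.Lib.helper2.PPush.secDivFun_ne_zero_specializes δ N _ t ξ
        (left_ne_zero_of_mul hne)
      have h2 := Groth.Agent.Lib.helper2.PPush.secDivFun_ne_zero_specializes δ L ξ (v ξ) x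
        (right_ne_zero_of_mul hne)
      omega
    have z3 : ∀ ξ, (if δ ξ + 1 = δ (genericPoint X) then
        Cyc.divFun δ ξ (Ffun L N s t u v ξ) x else 0) = 0 := by
      intro ξ
      split_ifs with hd
      · unfold Cyc.divFun
        rw [dif_neg]
        intro hc
        omega
      · rfl
    rw [finsum_congr z1, finsum_congr z2, finsum_congr z3]
    simp

/-- the sum of the divisors of the functions `Ffun` as a sum over the family of points where
`Ffun ≠ 1` -/
theorem finsum_family (δ : X → ℤ) (n : ℤ) (hn : δ (genericPoint X) = n) (x : X) :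
    ∑ᶠ ξ, (if δ ξ + 1 = δ (genericPoint X) then
      Cyc.divFun δ ξ (Ffun L N s t u v ξ) x else 0) =
    ∑ᶠ i : {ξ : X // δ ξ + 1 = n ∧ Ffun L N s t u v ξ ≠ 1},
      Cyc.divFun δ i.1 (Ffun L N s t u v i.1) x := by
  classical
  symm
  rw [finsum_subtype_eq_finsum_cond (fun ξ => δ ξ + 1 = n ∧ Ffun L N s t u v ξ ≠ 1)
    (f := fun ξ => Cyc.divFun δ ξ (Ffun L N s t u v ξ) x)]
  apply finsum_congr
  intro ξ
  rw [finsum_eq_if, hn]
  by_cases hξ : δ ξ + 1 = n
  · by_cases hF : Ffun L N s t u v ξ = 1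
    · rw [if_neg (fun h => h.2 hF), if_pos hξ, hF, divFun_one]
    · rw [if_pos ⟨hξ, hF⟩, if_pos hξ]
  · rw [if_neg (fun h => hξ h.1), if_neg hξ]

/-- local finiteness of the family of points where `Ffun ≠ 1` -/
theorem family_locallyFinite (δ : X → ℤ) (hδ : Cyc.IsDimFun X δ) (n : ℤ)
    (hn : δ (genericPoint X) = n) (hL : PicF.IsInvertible L)
    (hN : PicF.IsInvertible N) (hs0 : s ≠ 0) (ht0 : t ≠ 0) (hu0 : ∀ ξ, u ξ ≠ 0)
    (hv0 : ∀ ξ, v ξ ≠ 0) (x : X) :
    ∃ U : Set X, IsOpen U ∧ x ∈ U ∧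
      {i : {ξ : X // δ ξ + 1 = n ∧ Ffun L N s t u v ξ ≠ 1} |
        (closure {i.1} ∩ U).Nonempty}.Finite := by
  obtain ⟨W, hxW, hfin⟩ := exists_open_finite hL hN hs0 ht0 hu0 hv0 x
  refine ⟨W, W.isOpen, hxW, ?_⟩
  apply (hfin.preimage Subtype.val_injective.injOn).subset
  rintro i ⟨z, hz1, hz2⟩
  have hiz : i.1 ⤳ z := specializes_iff_mem_closure.2 hz1
  exact ⟨hiz.mem_open W.isOpen hz2, dim_stalk_of_delta δ hδ i.1 (by rw [hn]; exact i.2.1),
    i.2.2⟩

end main

end Groth.Agent.Lib.helper2.Sym
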