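import Mathlib
import Groth.Agent.Lib.Helper2.Sym8
import Groth.Agent.Lib.Helper16.CycClosed4
import Groth.Agent.Lib.Helper16.FinDeg1
import Groth.Agent.Lib.Helper16.SecOrd6
import Groth.Agent.Lib.Helper16.GysinFlat3

/-!
# The Gysin map of a principal divisor, part 1 (helper2)

* `Ffun_eq_one_of_mk_germ_ne_zero`: the functions `Ffun` of the symmetry of `c₁` are `1` at the
  points of codimension one outside the zero scheme of the regular section.
* `zeroSectionFun_eq_map`: `[Z(s)]_k = i_*[D]_k` for the zero scheme `i : D → X` of `s`.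
-/

set_option autoImplicit false
universe u

namespace Groth.Agent.Lib.helper2.Gys

open IsLocalRing CycAlg AlgebraicGeometry CategoryTheory
open Groth.Agent.Lib.helper16.SecOrd Groth.Agent.Lib.helper16.CycClosed
open Groth.Agent.Lib.helper2.Sym

section germ

variable {X : Scheme.{u}} {L : X.Modules}

theorem germ_stalkSpecializes_top (M : X.Modules) (σ : M.presheaf.obj (Opposite.op ⊤)) {x ξ : X}
    (h : ξ ⤳ x) :
    M.presheaf.stalkSpecializes h ((M.presheaf.germ ⊤ x trivial) σ) =
      (M.presheaf.germ ⊤ ξ trivial) σ :=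
  ConcreteCategory.congr_hom (TopCat.Presheaf.germ_stalkSpecializes M.presheaf
    (show x ∈ (⊤ : X.Opens) from trivial) h) σ

/-- if the image of `σ` in the fibre at `ξ` is nonzero, the germ of `σ` generates the stalk -/
theorem span_germ_eq_top (hL : PicF.IsInvertible L) (σ : L.presheaf.obj (Opposite.op ⊤)) (ξ : X)
    (hξσ : (Submodule.Quotient.mk ((L.presheaf.germ ⊤ ξ trivial) σ) : Cyc.secFibre L ξ) ≠ 0) :
    Submodule.span (X.presheaf.stalk ξ) {(L.presheaf.germ ⊤ ξ trivial) σ} = ⊤ := by
  obtain ⟨g₀, hg₀⟩ := (isLocCyc_of_isInvertible L hL).cyc ξ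
  obtain ⟨a, ha⟩ : ∃ a : X.presheaf.stalk ξ, a • g₀ = (L.presheaf.germ ⊤ ξ trivial) σ :=
    Submodule.mem_span_singleton.1 (hg₀ ▸ Submodule.mem_top)
  have hau : IsUnit a := by
    by_contra hna
    apply hξσ
    rw [Submodule.Quotient.mk_eq_zero, ← ha]
    exact Submodule.smul_mem_smul ((mem_maximalIdeal a).2 hna) Submodule.mem_top
  rw [← ha, Submodule.span_singleton_smul_eq hau, hg₀]

end germ

section ffun

variable {X : Scheme.{u}} [IsIntegral X] [IsLocallyNoetherian X] {L N : X.Modules}
  {t : Cyc.secFibre N (genericPoint X)} {u : (ξ : X) → Cyc.secFibre N ξ}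

theorem Ffun_eq_one_of_mk_germ_ne_zero (δ : X → ℤ) (hδ : Cyc.IsDimFun X δ)
    (hL : PicF.IsInvertible L) (hN : PicF.IsInvertible N)
    (σ : L.presheaf.obj (Opposite.op ⊤))
    (hσ : (Submodule.Quotient.mk ((L.presheaf.germ ⊤ (genericPoint X) trivial) σ) :
      Cyc.secFibre L (genericPoint X)) ≠ 0)
    (ht0 : t ≠ 0) (hu0 : ∀ ξ, u ξ ≠ 0) (w : (ξ : X) → Cyc.secFibre L ξ) (hw : ∀ ξ, w ξ ≠ 0)
    (ξ : X) (hξ : δ ξ + 1 = δ (genericPoint X))
    (hξσ : (Submodule.Quotient.mk ((L.presheaf.germ ⊤ ξ trivial) σ) : Cyc.secFibre L ξ) ≠ 0) :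
    Ffun L N (Submodule.Quotient.mk ((L.presheaf.germ ⊤ (genericPoint X) trivial) σ)) t u
      (Cyc.gysinChoice L σ w) ξ = 1 := by
  have hNc := isLocCyc_of_isInvertible N hN
  have hdim : ringKrullDim (X.presheaf.stalk ξ) = 1 := dim_stalk_of_delta δ hδ ξ hξ
  have hgen := span_germ_eq_top hL σ ξ hξσ
  obtain ⟨gN, hgN⟩ := hNc.cyc ξ
  obtain ⟨B, hB⟩ := exists_smul_mk_eq N (genericPoint X) _
    (hNc.spec ξ (genericPoint X) (genericPoint_specializes ξ) gN hgN) t
  obtain ⟨C, hC⟩ := exists_smul_mk_eq N ξ gN hgN (u ξ)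
  have hB0 : B ≠ 0 := by
    rintro rfl
    exact ht0 (by rw [hB, zero_smul])
  have hv0 := Groth.Agent.Lib.helper16.GysinFlat.gysinChoice_ne_zero L σ w hw
  let R : Rep L N (Submodule.Quotient.mk ((L.presheaf.germ ⊤ (genericPoint X) trivial) σ)) t ξ
      (u ξ) (Cyc.gysinChoice L σ w ξ) :=
    { gL := (L.presheaf.germ ⊤ ξ trivial) σ
      gN := gN
      hgL := hgen
      hgN := hgN
      A := 1
      B := B
      C := C
      D := 1
      hs := by
        rw [one_smul, germ_stalkSpecializes_top]
      ht := hB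
      hu := hC
      hv := by
        unfold Cyc.gysinChoice
        rw [if_pos hξσ, one_smul] }
  rw [Ffun_eq hdim hσ ht0 (hu0 ξ) (hv0 ξ) R]
  show tameFrac (X.presheaf.stalk ξ) X.functionField 1 B *
    residue (X.presheaf.stalk ξ) C ^ (CycAlg.ordFrac (X.presheaf.stalk ξ) X.functionField 1) *
    residue (X.presheaf.stalk ξ) 1 ^
      (-(CycAlg.ordFrac (X.presheaf.stalk ξ) X.functionField B)) = 1
  have h1 := tameFrac_unit_left (K := X.functionField) hdim (1 : (X.presheaf.stalk ξ)ˣ) hB0
  rw [Units.val_one, map_one, map_one, one_zpow] at h1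
  rw [h1, ordFrac_one', zpow_zero, map_one, one_zpow, mul_one, mul_one]

end ffun

section zero

variable {X D : Scheme.{u}} (i : D ⟶ X) [IsClosedImmersion i]

theorem zeroSectionFun_eq_map (δ : X → ℤ) (k : ℤ) (L : X.Modules) (hL : PicF.IsInvertible L)
    (s : L.presheaf.obj (Opposite.op ⊤))
    (hreg : ∀ x : X, Function.Injective
      (fun a : X.presheaf.stalk x => a • (L.presheaf.germ ⊤ x trivial) s))
    (hD : Cyc.IsZeroSchemeOf i L s) (DD : AlgebraicCycle D ℤ)
    (hDD : ⇑DD = Cyc.subschemeFun (fun d => δ (i d)) k (𝟙 D)) :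
    Cyc.zeroSectionFun δ k L s = ⇑(AlgebraicCycle.map i (fun d => δ (i d)) δ DD) := by
  classical
  have hLc := isLocCyc_of_isInvertible L hL
  funext y
  by_cases hy : y ∈ Set.range i
  · obtain ⟨d, rfl⟩ := hy
    rw [map_apply i _ δ (fun _ => rfl), hDD, subschemeFun_id]
    unfold Cyc.zeroSectionFun
    by_cases hk : δ (i d) = k
    · have ht := hLc.cyc (i d)
      have ht₀ := Classical.choose_spec ht
      have hf : ∃ f : X.presheaf.stalk (i d),
          (L.presheaf.germ ⊤ (i d) trivial) s = f • Classical.choose ht :=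
        (Submodule.mem_span_singleton.1 (by rw [ht₀]; exact Submodule.mem_top)).imp
          fun f hf => hf.symm
      rw [if_pos hk, if_pos hk, dif_pos ht, dif_pos hf]
      have hf₀ := Classical.choose_spec hf
      set g := Classical.choose ht with hg
      set f := Classical.choose hf with hfdef
      obtain ⟨t', f', ht', hst', hker⟩ := hD.2 d
      -- `t'` has trivial annihilator
      have hann : ∀ c : X.presheaf.stalk (i d), c • t' = 0 → c = 0 := by
        intro c hc
        apply hreg (i d)
        show c • (L.presheaf.germ ⊤ (i d) trivial) s = (0 : X.presheaf.stalk (i d)) •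
          (L.presheaf.germ ⊤ (i d) trivial) s
        rw [zero_smul, hst', smul_comm, hc, smul_zero]
      obtain ⟨a, ha⟩ : ∃ a : X.presheaf.stalk (i d), a • t' = g :=
        Submodule.mem_span_singleton.1 (ht' ▸ Submodule.mem_top)
      obtain ⟨b, hb⟩ : ∃ b : X.presheaf.stalk (i d), b • g = t' :=
        Submodule.mem_span_singleton.1 (ht₀ ▸ Submodule.mem_top)
      have e1 : f' = f * a := by
        have : (f' - f * a) • t' = 0 := by
          rw [sub_smul, mul_smul, ha, ← hst', ← hf₀, sub_self]
        exact sub_eq_zero.1 (hann _ this)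
      have e2 : a * b = 1 := by
        have : (a * b - 1) • t' = 0 := by
          rw [sub_smul, one_smul, mul_comm, mul_smul, ha, hb, sub_self]
        exact sub_eq_zero.1 (hann _ this)
      have hspan : Ideal.span {f} = Ideal.span {f'} := by
        apply le_antisymm
        · rw [Ideal.span_singleton_le_span_singleton]
          exact ⟨b, by rw [e1, mul_assoc, e2, mul_one]⟩
        · rw [Ideal.span_singleton_le_span_singleton]
          exact ⟨a, e1⟩
      rw [hspan, ← hker, Groth.Agent.Lib.helper16.FinDeg.length_quotient_self,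
        Groth.Agent.Lib.helper16.FinDeg.length_self_ringEquiv
          (RingHom.quotientKerEquivOfSurjective (i.stalkMap_surjective d))]
    · rw [if_neg hk, if_neg hk]
  · rw [map_apply_of_notMem_range i _ δ DD y hy]
    have hy' : (Submodule.Quotient.mk ((L.presheaf.germ ⊤ y trivial) s) : Cyc.secFibre L y) ≠ 0 := by
      intro h0
      apply hy
      rw [hD.1]
      exact h0
    unfold Cyc.zeroSectionFun
    split_ifs with hk ht hf
    · have hf₀ := Classical.choose_spec hf
      set f := Classical.choose hf with hfdef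
      have hfu : IsUnit f := by
        by_contra hna
        apply hy'
        rw [Submodule.Quotient.mk_eq_zero, hf₀]
        exact Submodule.smul_mem_smul ((mem_maximalIdeal f).2 hna) Submodule.mem_top
      have htop : Ideal.span {f} = ⊤ := Ideal.span_singleton_eq_top.2 hfu
      haveI : Subsingleton (X.presheaf.stalk y ⧸ Ideal.span {f}) := by
        rw [htop]
        exact Ideal.Quotient.subsingleton_iff.2 rfl
      rw [Module.length_eq_zero]
      rfl
    · rfl
    · rfl
    · rfl

end zero

end Groth.Agent.Lib.helper2.Gys
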