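import Mathlib
import Groth.Agent.Lib.Helper2.Gys1
import Groth.Agent.Lib.Helper2.C1Comm1
import Groth.Agent.Lib.Helper2.AffB6
import Groth.Agent.Lib.Helper2.PPush3
import Groth.Agent.Lib.Helper2.PushPt6
import Groth.Agent.Lib.Helper16.SecOrd3
import Groth.Agent.Lib.Helper16.CycClosed4

/-!
# The Gysin map of a principal divisor, part 2: `i^*(div_N t) ∼ c₁(N|_D) ∩ [D]` (helper2)
-/

set_option autoImplicit false
universe u

namespace Groth.Agent.Lib.helper2.Gys

open IsLocalRing CycAlg AlgebraicGeometry CategoryTheory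
open Groth.Agent.Lib.helper16.SecOrd Groth.Agent.Lib.helper16.CycClosed
open Groth.Agent.Lib.helper16.PullStalk Groth.Agent.Lib.helper2.PushPt
open Groth.Agent.Lib.helper2.PPush Groth.Agent.Lib.helper2.Sym
open Groth.Agent.Lib.helper2.C1Comm

theorem ratEquiv_gysin_div (X D : Scheme.{u}) [IsIntegral X] (δ : X → ℤ) (hX : Cyc.IsSetup X δ)
    (n : ℤ) (hn : δ (genericPoint X) = n) (L : X.Modules) (hL : PicF.IsInvertible L)
    (s : L.presheaf.obj (Opposite.op ⊤))
    (hreg : ∀ x : X, Function.Injective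
      (fun a : X.presheaf.stalk x => a • (L.presheaf.germ ⊤ x trivial) s))
    (i : D ⟶ X) [IsClosedImmersion i] (hD : Cyc.IsZeroSchemeOf i L s) (N : X.Modules)
    (hN : PicF.IsInvertible N) (t : Cyc.secFibre N (genericPoint X)) (ht : t ≠ 0)
    (w : (ξ : X) → Cyc.secFibre L ξ) (hw : ∀ ξ, w ξ ≠ 0)
    (u : (d : D) → Cyc.secFibre ((Scheme.Modules.pullback i).obj N) d) (hu : ∀ d, u d ≠ 0)
    (γ₁ γ₂ : AlgebraicCycle D ℤ)
    (h₁ : ∀ d : D, γ₁ d = Cyc.c1CapFun δ L (Cyc.secDivFun δ N (genericPoint X) t)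
      (Cyc.gysinChoice L s w) (i d))
    (h₂ : ⇑γ₂ = Cyc.c1CapFun (fun d => δ (i d)) ((Scheme.Modules.pullback i).obj N)
      (Cyc.subschemeFun (fun d => δ (i d)) (n - 1) (𝟙 D)) u) :
    Cyc.RatEquiv (fun d => δ (i d)) (n - 2) γ₁ γ₂ := by
  classical
  haveI := hX.1
  have hδ := hX.2.2
  have hDs : Cyc.IsSetup D (fun d => δ (i d)) := isSetup_closedImmersion i δ hX
  haveI := hDs.1
  have hδi : Cyc.DeltaCompat i (fun d => δ (i d)) δ := deltaCompat_closedImmersion i δ
  have hNc := isLocCyc_of_isInvertible N hN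
  have hND := isInvertible_pullback i N hN
  have hNDc := isLocCyc_of_isInvertible _ hND
  -- the rational section `s̄`
  have hgerm : (L.presheaf.germ ⊤ (genericPoint X) trivial) s ≠ 0 := by
    intro h0
    have := hreg (genericPoint X) (a₁ := 1) (a₂ := 0) (by
      show (1 : X.presheaf.stalk (genericPoint X)) • _ = (0 : X.presheaf.stalk (genericPoint X)) • _
      rw [h0, smul_zero, smul_zero])
    exact one_ne_zero this
  have hs0 : (Submodule.Quotient.mk ((L.presheaf.germ ⊤ (genericPoint X) trivial) s) :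
      Cyc.secFibre L (genericPoint X)) ≠ 0 := by
    intro h0
    rw [Submodule.Quotient.mk_eq_zero, maximalIdeal_genericPoint, Submodule.bot_smul,
      Submodule.mem_bot] at h0
    exact hgerm h0
  have hηD : genericPoint X ∉ Set.range i := by
    intro hmem
    rw [hD.1] at hmem
    exact hs0 hmem
  have hdimD : ∀ d : D, δ (i d) ≤ n - 1 := by
    intro d
    have h1 := (hδ (genericPoint X) (i d) (genericPoint_specializes _)
      (fun h => hηD ⟨d, h.symm⟩)).1
    omega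
  -- sections
  have hv0 := Groth.Agent.Lib.helper16.GysinFlat.gysinChoice_ne_zero L s w hw
  obtain ⟨u', hu'⟩ := exists_nowhere_zero N hN
  have hpN := pullSec_family_ne_zero i N hN u' hu'
  -- the fundamental cycle of `D`
  obtain ⟨DD, hDD, hDDk⟩ := exists_cycle_subschemeFun_id (fun d => δ (i d)) hDs.2.2 (n - 1) hdimD
  have hdivL : Cyc.secDivFun δ L (genericPoint X)
      (Submodule.Quotient.mk ((L.presheaf.germ ⊤ (genericPoint X) trivial) s)) =
      ⇑(AlgebraicCycle.map i (fun d => δ (i d)) δ DD) := by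
    rw [secDivFun_eq_zeroSectionFun δ hX n hn L hL s hgerm]
    exact zeroSectionFun_eq_map i δ (n - 1) L hL s hreg hD DD hDD
  -- `c₁(N|_D) ∩ [D]` with the pulled back sections
  obtain ⟨γ₀, hγ₀⟩ := exists_cycle_c1CapFun (fun d => δ (i d)) hDs.2.2 _ hND DD
    (fun d => pullSec i d N (u' (i d))) hpN
  have m0 := map_c1CapFun_pullSec (fun d => δ (i d)) δ hDs hX i hδi N hNc
    (fun d => pullSec i d N (u' (i d))) hpN DD u' hu' γ₀ hγ₀
  rw [← hdivL] at m0
  have h02 : Cyc.RatEquiv (fun d => δ (i d)) (n - 2) γ₀ γ₂ :=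
    ratEquiv_c1CapFun_of_sections D (fun d => δ (i d)) _ hNDc (n - 2) DD
      (by rw [show n - 2 + 1 = n - 1 by ring]; exact hDDk) _ u hpN hu γ₀ γ₂ hγ₀
      (by rw [h₂, hDD])
  -- the family of functions
  set sb : Cyc.secFibre L (genericPoint X) :=
    Submodule.Quotient.mk ((L.presheaf.germ ⊤ (genericPoint X) trivial) s) with hsb
  set v := Cyc.gysinChoice L s w with hv
  have hJr : ∀ j : {ξ : X // δ ξ + 1 = n ∧ Ffun L N sb t u' v ξ ≠ 1}, j.1 ∈ Set.range i := by
    intro j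
    by_contra hj
    apply j.2.2
    have hj' : (Submodule.Quotient.mk ((L.presheaf.germ ⊤ j.1 trivial) s) :
        Cyc.secFibre L j.1) ≠ 0 := by
      intro h0
      apply hj
      rw [hD.1]
      exact h0
    exact Ffun_eq_one_of_mk_germ_ne_zero δ hδ hL hN s hs0 ht hu' w hw j.1
      (by rw [hn]; exact j.2.1) hj'
  obtain ⟨Dc, hDc, -, hDcr⟩ := exists_cycle_restrict_family i δ hδ (n - 2)
    (J := {ξ : X // δ ξ + 1 = n ∧ Ffun L N sb t u' v ξ ≠ 1}) (fun j => j.1)
    (fun j => Ffun L N sb t u' v j.1) (fun j => by have := j.2.1; omega)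
    (fun j => Ffun_ne_zero δ hδ hL hN hs0 ht hu' hv0 j.1 (by rw [hn]; exact j.2.1))
    (family_locallyFinite δ hδ n hn hL hN hs0 ht hu' hv0) hJr
  have h01 : γ₀ - γ₁ = Dc := by
    ext d
    have hlhs : (γ₀ - γ₁) d = γ₀ d - γ₁ d := by
      rw [Function.locallyFinsuppWithin.coe_sub]
      rfl
    rw [hlhs, hDc d, h₁ d, ← map_apply i (fun d => δ (i d)) δ (fun _ => rfl) γ₀ d, m0,
      c1_symm_fun δ hδ hL hN hs0 ht hu' hv0 (i d), finsum_family δ n hn (i d)]
  have heq : γ₁ - γ₂ = (γ₀ - γ₂) + (-(γ₀ - γ₁)) := by abel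
  unfold Cyc.RatEquiv at h02 ⊢
  rw [heq]
  exact Groth.Agent.Lib.helper2.AffB.ratEquivZero_add _ _ _ _ h02
    (ratEquivZero_neg _ _ _ (h01 ▸ hDcr))

end Groth.Agent.Lib.helper2.Gys
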