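import Mathlib
import Groth.Agent.Lib.Helper2.Gys2
import Groth.Agent.Lib.Helper2.C1Rat2

/-!
# The Gysin map and rational equivalence, part 1 (helper2)

* `RatEquivZeroIn.mono`, `ratEquivZeroIn_map_in`, `ratEquivZeroIn_of_sum`,
  `ratEquivZero_of_ratEquivZeroIn_range`: bookkeeping for sums of principal divisors of functions
  at points of a given set.
* `Ffun_eq_one_of_eq_mk_germ`: the functions `Ffun` are `1` at the points of codimension one where
  the chosen section is the image of the regular global section.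
* `ratEquivZeroIn_gysin_divFun_integral`: on an integral scheme, `c₁(L) ∩ div(f)` computed with
  the Gysin choice of sections is a sum of principal divisors at points of the zero scheme.
-/

set_option autoImplicit false
universe u

namespace Groth.Agent.Lib.helper2.Gys

open IsLocalRing CycAlg AlgebraicGeometry CategoryTheory
open Groth.Agent.Lib.helper16.SecOrd Groth.Agent.Lib.helper16.CycClosed
open Groth.Agent.Lib.helper16.PullStalk Groth.Agent.Lib.helper2.PushPt
open Groth.Agent.Lib.helper2.PPush Groth.Agent.Lib.helper2.Sym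
open Groth.Agent.Lib.helper2.C1Comm Groth.Agent.Lib.helper2.ExtRat
open Groth.Agent.Lib.helper2.C1Rat Groth.Agent.Lib.helper16.DivSum

section book

variable {X : Scheme.{u}}

theorem RatEquivZeroIn.mono {δ : X → ℤ} {k : ℤ} {α : X → ℤ} {C C' : Set X}
    (h : RatEquivZeroIn δ k α C) (hC : C ⊆ C') : RatEquivZeroIn δ k α C' := by
  obtain ⟨J, ξ, f, h1, h2, h3, h4, h5⟩ := h
  exact ⟨J, ξ, f, h1, h2, h3, h4, fun j => hC (h5 j)⟩

/-- A locally finite integral combination of functions which are sums of principal divisors of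
functions at points of `C'`, supported in a locally finite family of closed sets, is such a sum. -/
theorem ratEquivZeroIn_of_sum (δ : X → ℤ) (k : ℤ) {T : Type u} (C : T → Set X)
    (hC : ∀ t, IsClosed (C t))
    (hlf : ∀ x : X, ∃ U : Set X, IsOpen U ∧ x ∈ U ∧ {t | (C t ∩ U).Nonempty}.Finite)
    (n : T → ℤ) (γt : T → X → ℤ) (h : ∀ t, RatEquivZeroIn δ k (γt t) (C t))
    (γ : X → ℤ) (hγ : ∀ x, γ x = ∑ᶠ t, n t * γt t x) (C' : Set X) (hCC' : ∀ t, C t ⊆ C') :
    RatEquivZeroIn δ k γ C' := by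
  classical
  choose J ξ f hδ hf hlfJ hsum hmem using h
  have hcl : ∀ t (j : J t), closure {ξ t j} ⊆ C t := fun t j =>
    (hC t).closure_subset_iff.2 (Set.singleton_subset_iff.2 (hmem t j))
  have hLF : ∀ x : X, ∃ U : Set X, IsOpen U ∧ x ∈ U ∧
      {p : Σ t, J t | (closure {ξ p.1 p.2} ∩ U).Nonempty}.Finite := by
    intro x
    obtain ⟨U₀, hU₀, hxU₀, hfin₀⟩ := hlf x
    choose V hV hxV hfinV using fun t => hlfJ t x
    refine ⟨U₀ ∩ ⋂ t ∈ hfin₀.toFinset, V t, ?_, ⟨hxU₀, ?_⟩, ?_⟩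
    · exact hU₀.inter (isOpen_biInter_finset fun t _ => hV t)
    · simp only [Set.mem_iInter]
      exact fun t _ => hxV t
    · refine (Set.Finite.biUnion hfin₀ (fun t _ => (hfinV t).image (Sigma.mk t))).subset ?_
      rintro ⟨t, j⟩ ⟨z, hz1, hz2, hz3⟩
      have ht : t ∈ {t | (C t ∩ U₀).Nonempty} := ⟨z, hcl t j hz1, hz2⟩
      rw [Set.mem_iUnion₂]
      refine ⟨t, ht, j, ⟨z, hz1, ?_⟩, rfl⟩
      simp only [Set.mem_iInter] at hz3
      exact hz3 t (hfin₀.mem_toFinset.2 ht)
  refine ⟨Σ t, J t, fun p => ξ p.1 p.2, fun p => f p.1 p.2 ^ (n p.1), fun p => hδ p.1 p.2,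
    fun p => zpow_ne_zero _ (hf p.1 p.2), hLF, ?_, fun p => hCC' p.1 (hmem p.1 p.2)⟩
  intro x
  rw [hγ x]
  have h1 : ∀ p : Σ t, J t, Cyc.divFun δ (ξ p.1 p.2) (f p.1 p.2 ^ (n p.1)) x =
      n p.1 * Cyc.divFun δ (ξ p.1 p.2) (f p.1 p.2) x := fun p =>
    divFun_zpow δ _ _ (hf p.1 p.2) _ x
  rw [finsum_congr h1]
  have hfinS : (Function.support fun p : Σ t, J t =>
      n p.1 * Cyc.divFun δ (ξ p.1 p.2) (f p.1 p.2) x).Finite := by
    obtain ⟨U, hU, hxU, hfin⟩ := hLF x
    refine hfin.subset ?_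
    intro p hp
    rw [Function.mem_support] at hp
    have hsp : ξ p.1 p.2 ⤳ x := by
      by_contra hns
      apply hp
      unfold Cyc.divFun
      rw [dif_neg (fun h => hns h.1), mul_zero]
    exact ⟨x, specializes_iff_mem_closure.mp hsp, hxU⟩
  rw [finsum_sigma' _ hfinS]
  refine finsum_congr fun t => ?_
  rw [hsum t x]
  exact mul_finsum _ _

variable {Z : Scheme.{u}} (ι : Z ⟶ X) [IsClosedImmersion ι]

/-- push forward along a closed immersion, keeping track of the points -/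
theorem ratEquivZeroIn_map_in (δ : X → ℤ) (k : ℤ) (β : AlgebraicCycle Z ℤ) (C : Set Z)
    (h : RatEquivZeroIn (fun z => δ (ι z)) k ⇑β C) :
    RatEquivZeroIn δ k (⇑(AlgebraicCycle.map ι (fun z => δ (ι z)) δ β)) (ι '' C) := by
  obtain ⟨J, ξ, f, hδξ, hf, hlf, hsum, hmem⟩ := h
  let f' : ∀ j, X.residueField (ι (ξ j)) := fun j => (resEquiv ι (ξ j)).symm (f j)
  have hf' : ∀ j, f' j ≠ 0 := fun j =>
    (map_ne_zero_iff _ (resEquiv ι (ξ j)).symm.injective).2 (hf j)
  have hσf : ∀ j, ι.residueFieldMap (ξ j) (f' j) = f j := fun j =>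
    (resEquiv ι (ξ j)).apply_symm_apply (f j)
  refine ⟨J, fun j => ι (ξ j), f', hδξ, hf', ?_, ?_, fun j => ⟨ξ j, hmem j, rfl⟩⟩
  · intro x
    by_cases hx : x ∈ Set.range ι
    · obtain ⟨z, rfl⟩ := hx
      obtain ⟨U', hU', hzU', hfin⟩ := hlf z
      obtain ⟨U, hU, rfl⟩ := ι.isClosedEmbedding.isInducing.isOpen_iff.1 hU'
      refine ⟨U, hU, hzU', hfin.subset ?_⟩
      rintro j ⟨y, hy1, hy2⟩
      have hsp : ι (ξ j) ⤳ y := specializes_iff_mem_closure.2 hy1
      obtain ⟨z', rfl⟩ := mem_range_of_specializes ι (ξ j) y hsp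
      exact ⟨z', specializes_iff_mem_closure.1
        ((specializes_iff_closedImmersion ι z' (ξ j)).1 hsp), hy2⟩
    · refine ⟨(Set.range ι)ᶜ, ι.isClosedEmbedding.isClosed_range.isOpen_compl, hx, ?_⟩
      convert Set.finite_empty
      ext j
      simp only [Set.mem_ofPred_eq, Set.mem_empty_iff_false, iff_false]
      rintro ⟨y, hy1, hy2⟩
      exact hy2 (mem_range_of_specializes ι (ξ j) y (specializes_iff_mem_closure.2 hy1))
  · intro x
    by_cases hx : x ∈ Set.range ι
    · obtain ⟨z, rfl⟩ := hx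
      rw [map_apply ι _ δ (fun _ => rfl), hsum z]
      apply finsum_congr
      intro j
      rw [← hσf j]
      exact (divFun_closedImmersion ι δ z (ξ j) (f' j)).symm
    · rw [map_apply_of_notMem_range ι _ δ β x hx]
      symm
      apply finsum_eq_zero_of_forall_eq_zero
      intro j
      exact divFun_eq_zero_of_notMem_range ι δ (ξ j) (f' j) x hx

/-- a sum of principal divisors of functions at points of a closed subscheme is rationally
equivalent to zero on the closed subscheme -/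
theorem ratEquivZero_of_ratEquivZeroIn_range [IsLocallyNoetherian X] (δ : X → ℤ)
    (hδ : Cyc.IsDimFun X δ) (k : ℤ) (Γ : X → ℤ)
    (h : RatEquivZeroIn δ k Γ (Set.range ι)) (γ : AlgebraicCycle Z ℤ)
    (hγ : ∀ z, γ z = Γ (ι z)) : Cyc.RatEquivZero (fun z => δ (ι z)) k γ := by
  obtain ⟨J, ξ, f, hδξ, hf, hlf, hsum, hmem⟩ := h
  obtain ⟨Dc, hDc, -, hDcr⟩ := exists_cycle_restrict_family ι δ hδ k ξ f hδξ hf hlf hmem
  have : γ = Dc := by
    ext z
    rw [hγ z, hsum (ι z), hDc z]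
  rw [this]
  exact hDcr

end book

section ffun

variable {X : Scheme.{u}} [IsIntegral X] [IsLocallyNoetherian X] {L N : X.Modules}
  {t : Cyc.secFibre N (genericPoint X)} {u : (ξ : X) → Cyc.secFibre N ξ}

theorem Ffun_eq_one_of_eq_mk_germ (δ : X → ℤ) (hδ : Cyc.IsDimFun X δ)
    (hL : PicF.IsInvertible L) (hN : PicF.IsInvertible N)
    (σ : L.presheaf.obj (Opposite.op ⊤))
    (hσ : (Submodule.Quotient.mk ((L.presheaf.germ ⊤ (genericPoint X) trivial) σ) :
      Cyc.secFibre L (genericPoint X)) ≠ 0)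
    (ht0 : t ≠ 0) (hu0 : ∀ ξ, u ξ ≠ 0) (v : (ξ : X) → Cyc.secFibre L ξ) (hv0 : ∀ ξ, v ξ ≠ 0)
    (ξ : X) (hξ : δ ξ + 1 = δ (genericPoint X))
    (hvξ : v ξ = (Submodule.Quotient.mk ((L.presheaf.germ ⊤ ξ trivial) σ) : Cyc.secFibre L ξ)) :
    Ffun L N (Submodule.Quotient.mk ((L.presheaf.germ ⊤ (genericPoint X) trivial) σ)) t u
      v ξ = 1 := by
  have hξσ : (Submodule.Quotient.mk ((L.presheaf.germ ⊤ ξ trivial) σ) : Cyc.secFibre L ξ) ≠ 0 :=
    hvξ ▸ hv0 ξ
  have hNc := isLocCyc_of_isInvertible N hN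
  have hdim : ringKrullDim (X.presheaf.stalk ξ) = 1 := dim_stalk_of_delta δ hδ ξ hξ
  have hgen := span_germ_eq_top hL σ ξ hξσ
  obtain ⟨gN, hgN⟩ := hNc.cyc ξ
  obtain ⟨B, hB⟩ := exists_smul_mk_eq N (genericPoint X) _
    (hNc.spec ξ (genericPoint X) (genericPoint_specializes ξ) gN hgN) t
  obtain ⟨C, hC⟩ := exists_smul_mk_eq N ξ gN hgN (u ξ)
  have hB0 : B ≠ 0 := by
    rintro rfl
    exact ht0 (by rw [hB, zero_smul])
  let R : Rep L N (Submodule.Quotient.mk ((L.presheaf.germ ⊤ (genericPoint X) trivial) σ)) t ξ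
      (u ξ) (v ξ) :=
    { gL := (L.presheaf.germ ⊤ ξ trivial) σ
      gN := gN
      hgL := hgen
      hgN := hgN
      A := 1
      B := B
      C := C
      D := 1
      hs := by
        rw [one_smul, germ_stalkSpecializes_top]
      ht := hB
      hu := hC
      hv := by
        rw [hvξ, one_smul] }
  rw [Ffun_eq hdim hσ ht0 (hu0 ξ) (hv0 ξ) R]
  show tameFrac (X.presheaf.stalk ξ) X.functionField 1 B *
    residue (X.presheaf.stalk ξ) C ^ (CycAlg.ordFrac (X.presheaf.stalk ξ) X.functionField 1) *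
    residue (X.presheaf.stalk ξ) 1 ^
      (-(CycAlg.ordFrac (X.presheaf.stalk ξ) X.functionField B)) = 1
  have h1 := tameFrac_unit_left (K := X.functionField) hdim (1 : (X.presheaf.stalk ξ)ˣ) hB0
  rw [Units.val_one, map_one, map_one, one_zpow] at h1
  rw [h1, ordFrac_one', zpow_zero, map_one, one_zpow, mul_one, mul_one]

end ffun

section integral

variable {X : Scheme.{u}}

open Classical in
/-- on an integral scheme, `c₁(L) ∩ div(f)` computed with sections which are the images of a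
regular global section `σ` wherever these are nonzero is a sum of principal divisors of functions
at points of the zero scheme of `σ` -/
theorem ratEquivZeroIn_gysin_divFun_integral [IsIntegral X] (δ : X → ℤ) (hX : Cyc.IsSetup X δ)
    (n : ℤ) (hn : δ (genericPoint X) = n) (L : X.Modules) (hL : PicF.IsInvertible L)
    (σ : L.presheaf.obj (Opposite.op ⊤))
    (hσ : (Submodule.Quotient.mk ((L.presheaf.germ ⊤ (genericPoint X) trivial) σ) :
      Cyc.secFibre L (genericPoint X)) ≠ 0)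
    (v : (ξ : X) → Cyc.secFibre L ξ) (hv0 : ∀ ξ, v ξ ≠ 0)
    (hv : ∀ ξ, (Submodule.Quotient.mk ((L.presheaf.germ ⊤ ξ trivial) σ) : Cyc.secFibre L ξ) ≠ 0 →
      v ξ = Submodule.Quotient.mk ((L.presheaf.germ ⊤ ξ trivial) σ))
    (f : X.residueField (genericPoint X)) (hf : f ≠ 0) :
    RatEquivZeroIn δ (n - 2) (Cyc.c1CapFun δ L (Cyc.divFun δ (genericPoint X) f) v)
      {x | (Submodule.Quotient.mk ((L.presheaf.germ ⊤ x trivial) σ) : Cyc.secFibre L x) = 0} := by
  haveI := hX.1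
  have hδ := hX.2.2
  have hO := Groth.Agent.Lib.helper11.InvMod.isInvertible_structureModule X
  obtain ⟨f', rfl⟩ := X.residue_surjective (genericPoint X) f
  obtain ⟨ht0, htdiv⟩ := secDivFun_structureModule δ (genericPoint X) f' hf
  set u : (ξ : X) → Cyc.secFibre (Coh.structureModule X) ξ :=
    fun ξ => Submodule.Quotient.mk (one1 ξ) with hu_def
  have hu : ∀ ξ, u ξ ≠ 0 := mk_one1_ne_zero
  have hudiv : ∀ ξ x, Cyc.secDivFun δ (Coh.structureModule X) ξ (u ξ) x = 0 := by
    intro ξ x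
    have h1 := (secDivFun_structureModule δ ξ 1 (by rw [map_one]; exact one_ne_zero)).2
    rw [one_smul, map_one] at h1
    rw [hu_def]
    show Cyc.secDivFun δ (Coh.structureModule X) ξ (Submodule.Quotient.mk (one1 ξ)) x = 0
    rw [h1]
    exact divFun_one δ ξ x
  set sb : Cyc.secFibre L (genericPoint X) :=
    Submodule.Quotient.mk ((L.presheaf.germ ⊤ (genericPoint X) trivial) σ) with hsb
  set tt : Cyc.secFibre (Coh.structureModule X) (genericPoint X) :=
    f' • (Submodule.Quotient.mk (one1 (genericPoint X)) :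
      Cyc.secFibre (Coh.structureModule X) (genericPoint X)) with htt
  have hJmem : ∀ j : {ξ : X // δ ξ + 1 = n ∧ Ffun L (Coh.structureModule X) sb tt u v ξ ≠ 1},
      j.1 ∈ {x | (Submodule.Quotient.mk ((L.presheaf.germ ⊤ x trivial) σ) :
        Cyc.secFibre L x) = 0} := by
    intro j
    by_contra hj
    apply j.2.2
    exact Ffun_eq_one_of_eq_mk_germ δ hδ hL hO σ hσ ht0 hu v hv0 j.1
      (by rw [hn]; exact j.2.1) (hv j.1 hj)
  refine ⟨{ξ : X // δ ξ + 1 = n ∧ Ffun L (Coh.structureModule X) sb tt u v ξ ≠ 1},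
    fun j => j.1, fun j => (Ffun L (Coh.structureModule X) sb tt u v j.1)⁻¹,
    fun j => by have := j.2.1; show δ j.1 = n - 2 + 1; omega,
    fun j => inv_ne_zero (Ffun_ne_zero δ hδ hL hO hσ ht0 hu hv0 j.1 (by rw [hn]; exact j.2.1)),
    family_locallyFinite δ hδ n hn hL hO hσ ht0 hu hv0, ?_, hJmem⟩
  intro x
  have hsym := c1_symm_fun (s := sb) (t := tt) (u := u) (v := v) δ hδ hL hO hσ ht0 hu hv0 x
  rw [finsum_family δ n hn x, htdiv] at hsym
  have hfirst : Cyc.c1CapFun δ (Coh.structureModule X) (Cyc.secDivFun δ L (genericPoint X) sb)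
      u x = 0 := by
    unfold Cyc.c1CapFun
    apply finsum_eq_zero_of_forall_eq_zero
    intro ξ
    rw [hudiv ξ x, mul_zero]
  rw [hfirst, zero_sub] at hsym
  have hinv : ∀ j : {ξ : X // δ ξ + 1 = n ∧ Ffun L (Coh.structureModule X) sb tt u v ξ ≠ 1},
      Cyc.divFun δ j.1 (Ffun L (Coh.structureModule X) sb tt u v j.1)⁻¹ x =
        - Cyc.divFun δ j.1 (Ffun L (Coh.structureModule X) sb tt u v j.1) x := fun j =>
    divFun_inv δ j.1 _
      (Ffun_ne_zero δ hδ hL hO hσ ht0 hu hv0 j.1 (by rw [hn]; exact j.2.1)) x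
  rw [finsum_congr hinv, finsum_neg_distrib, ← hsym, neg_neg]

end integral

end Groth.Agent.Lib.helper2.Gys
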