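import Mathlib
import Groth.Agent.Lib.Helper2.Gys3

/-!
# The Gysin map and rational equivalence, part 2: `α ∼ 0 ⇒ i^*α ∼ 0` (helper2)
-/

set_option autoImplicit false
universe u

namespace Groth.Agent.Lib.helper2.Gys

open IsLocalRing CycAlg AlgebraicGeometry CategoryTheory
open Groth.Agent.Lib.helper16.SecOrd Groth.Agent.Lib.helper16.CycClosed
open Groth.Agent.Lib.helper16.PullStalk Groth.Agent.Lib.helper2.PushPt
open Groth.Agent.Lib.helper2.PPush Groth.Agent.Lib.helper2.Sym
open Groth.Agent.Lib.helper2.C1Comm Groth.Agent.Lib.helper2.ExtRat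
open Groth.Agent.Lib.helper2.C1Rat Groth.Agent.Lib.helper16.DivSum

variable {X : Scheme.{u}}

/-- `c₁(L) ∩ div_ξ(f)`, computed with sections which are the images of the global section `s`
wherever these are nonzero, for a point `ξ` outside the zero scheme of `s`, is a sum of principal
divisors of functions at points of the closure of `ξ` in the zero scheme of `s` -/
theorem ratEquivZeroIn_gysin_divFun (δ : X → ℤ) (hX : Cyc.IsSetup X δ) (L : X.Modules)
    (hL : PicF.IsInvertible L) (s : L.presheaf.obj (Opposite.op ⊤))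
    (v : (x : X) → Cyc.secFibre L x) (hv0 : ∀ x, v x ≠ 0)
    (hv : ∀ x, (Submodule.Quotient.mk ((L.presheaf.germ ⊤ x trivial) s) : Cyc.secFibre L x) ≠ 0 →
      v x = Submodule.Quotient.mk ((L.presheaf.germ ⊤ x trivial) s))
    (ξ : X) (k : ℤ) (hξ : δ ξ = k + 2)
    (hξs : (Submodule.Quotient.mk ((L.presheaf.germ ⊤ ξ trivial) s) : Cyc.secFibre L ξ) ≠ 0)
    (f : X.residueField ξ) (hf : f ≠ 0) :
    RatEquivZeroIn δ k (Cyc.c1CapFun δ L (Cyc.divFun δ ξ f) v)
      (closure {ξ} ∩
        {x | (Submodule.Quotient.mk ((L.presheaf.germ ⊤ x trivial) s) : Cyc.secFibre L x) = 0}) := by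
  haveI := hX.1
  set j := jc ξ with hj
  have hW : Cyc.IsSetup (Wc ξ) (fun w => δ (j w)) := isSetup_closedImmersion j δ hX
  haveI := hW.1
  have hδj : Cyc.DeltaCompat j (fun w => δ (j w)) δ := deltaCompat_closedImmersion j δ
  have hη : j (genericPoint (Wc ξ)) = ξ := jc_genericPoint ξ
  have hLW := isInvertible_pullback j L hL
  have hLc := isLocCyc_of_isInvertible L hL
  have hpL := pullSec_family_ne_zero j L hL v hv0
  rw [divFun_congr_inv δ hη f]
  set f'' := (X.residueFieldCongr hη).inv f with hf''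
  have hf''0 : f'' ≠ 0 := congr_inv_ne_zero hη f hf
  set fW := j.residueFieldMap (genericPoint (Wc ξ)) f'' with hfW
  have hfW0 : fW ≠ 0 :=
    (map_ne_zero_iff _ (j.residueFieldMap (genericPoint (Wc ξ))).hom.injective).2 hf''0
  obtain ⟨Df, hDf⟩ := exists_cycle_divFun (fun w => δ (j w)) hW.2.2 (genericPoint (Wc ξ)) fW hfW0
  obtain ⟨G, hG⟩ := exists_cycle_c1CapFun (fun w => δ (j w)) hW.2.2 _ hLW Df
    (fun w => pullSec j w L (v (j w))) hpL
  -- the pulled back global section
  have hσW : (Submodule.Quotient.mk ((((Scheme.Modules.pullback j).obj L).presheaf.germ ⊤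
      (genericPoint (Wc ξ)) trivial) (pullGlobal j L s)) :
        Cyc.secFibre ((Scheme.Modules.pullback j).obj L) (genericPoint (Wc ξ))) ≠ 0 := by
    intro h0
    have h1 := (mk_germ_pullGlobal_eq_zero_iff j L hL s (genericPoint (Wc ξ))).1 h0
    have h2 : ∀ y : X, y = ξ → (Submodule.Quotient.mk ((L.presheaf.germ ⊤ y trivial) s) :
        Cyc.secFibre L y) ≠ 0 := by
      rintro y rfl
      exact hξs
    exact h2 _ hη h1
  have hvW : ∀ w : Wc ξ, (Submodule.Quotient.mk ((((Scheme.Modules.pullback j).obj L).presheaf.germ ⊤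
      w trivial) (pullGlobal j L s)) : Cyc.secFibre ((Scheme.Modules.pullback j).obj L) w) ≠ 0 →
      pullSec j w L (v (j w)) = Submodule.Quotient.mk
        ((((Scheme.Modules.pullback j).obj L).presheaf.germ ⊤ w trivial) (pullGlobal j L s)) := by
    intro w hw
    have h1 : (Submodule.Quotient.mk ((L.presheaf.germ ⊤ (j w) trivial) s) :
        Cyc.secFibre L (j w)) ≠ 0 :=
      fun h => hw ((mk_germ_pullGlobal_eq_zero_iff j L hL s w).2 h)
    rw [hv (j w) h1, pullSec_mk, germ_pullGlobal]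
  have hG0 := ratEquivZeroIn_gysin_divFun_integral (fun w => δ (j w)) hW (k + 2)
    (by show δ (j (genericPoint (Wc ξ))) = k + 2; rw [hη, hξ]) _ hLW (pullGlobal j L s) hσW
    (fun w => pullSec j w L (v (j w))) hpL hvW fW hfW0
  have hk : k + 2 - 2 = k := by ring
  rw [hk, ← hDf, ← hG] at hG0
  have m := map_c1CapFun_pullSec (fun w => δ (j w)) δ hW hX j hδj L hLc
    (fun w => pullSec j w L (v (j w))) hpL Df v hv0 G hG
  have hpush : ⇑(AlgebraicCycle.map j (fun w => δ (j w)) δ Df) =
      Cyc.divFun δ (j (genericPoint (Wc ξ))) f'' := by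
    funext y
    by_cases hy : y ∈ Set.range j
    · obtain ⟨w, rfl⟩ := hy
      rw [map_apply j _ δ (fun _ => rfl), hDf]
      exact (divFun_closedImmersion j δ w (genericPoint (Wc ξ)) f'').symm
    · rw [map_apply_of_notMem_range j _ δ Df y hy,
        divFun_eq_zero_of_notMem_range j δ (genericPoint (Wc ξ)) f'' y hy]
  rw [hpush] at m
  have hin := ratEquivZeroIn_map_in j δ k G _ hG0
  rw [m] at hin
  refine RatEquivZeroIn.mono hin ?_
  rintro _ ⟨w, hw, rfl⟩
  refine ⟨?_, (mk_germ_pullGlobal_eq_zero_iff j L hL s w).1 hw⟩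
  rw [← range_jc]
  exact ⟨w, rfl⟩

/-- **the Gysin map passes to rational equivalence** (= S1929) -/
theorem ratEquivZero_gysin (X D : Scheme.{u}) (δ : X → ℤ) (hX : Cyc.IsSetup X δ) (L : X.Modules)
    (hL : PicF.IsInvertible L) (s : L.presheaf.obj (Opposite.op ⊤)) (i : D ⟶ X)
    [IsClosedImmersion i] (hD : Cyc.IsZeroSchemeOf i L s) (k : ℤ) (α : AlgebraicCycle X ℤ)
    (h0 : Cyc.RatEquivZero δ (k + 1) α) (t : (ξ : X) → Cyc.secFibre L ξ) (ht : ∀ ξ, t ξ ≠ 0)
    (γ : AlgebraicCycle D ℤ)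
    (hγ : ∀ d : D, γ d = Cyc.c1CapFun δ L ⇑α (Cyc.gysinChoice L s t) (i d)) :
    Cyc.RatEquivZero (fun d => δ (i d)) k γ := by
  classical
  haveI := hX.1
  have hδ := hX.2.2
  set v := Cyc.gysinChoice L s t with hvdef
  have hv0 : ∀ x, v x ≠ 0 := Groth.Agent.Lib.helper16.GysinFlat.gysinChoice_ne_zero L s t ht
  have hv : ∀ x, (Submodule.Quotient.mk ((L.presheaf.germ ⊤ x trivial) s) : Cyc.secFibre L x) ≠ 0 →
      v x = Submodule.Quotient.mk ((L.presheaf.germ ⊤ x trivial) s) := by
    intro x hx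
    rw [hvdef]
    unfold Cyc.gysinChoice
    rw [if_pos hx]
  obtain ⟨ι, ξ, f, hδξ, hf, hlf, hsum⟩ := h0
  have hrange : IsClosed (Set.range i) := i.isClosedEmbedding.isClosed_range
  have hIn : RatEquivZeroIn δ k (Cyc.c1CapFun δ L ⇑α v) (Set.range i) := by
    refine ratEquivZeroIn_of_sum δ k (T := ι) (fun a => closure {ξ a} ∩ Set.range i)
      (fun a => isClosed_closure.inter hrange) ?_ (fun _ => 1)
      (fun a => Cyc.c1CapFun δ L (Cyc.divFun δ (ξ a) (f a)) v) ?_ _ ?_ (Set.range i)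
      (fun a => Set.inter_subset_right)
    · intro x
      obtain ⟨U, hU, hxU, hfin⟩ := hlf x
      refine ⟨U, hU, hxU, hfin.subset ?_⟩
      rintro a ⟨z, ⟨hz1, -⟩, hz2⟩
      exact ⟨z, hz1, hz2⟩
    · intro a
      have hδa : δ (ξ a) = k + 2 := by rw [hδξ a]; ring
      by_cases ha : ξ a ∈ Set.range i
      · refine RatEquivZeroIn.mono
          (ratEquivZeroIn_c1CapFun_divFun δ hX L hL v hv0 (ξ a) k hδa (f a) (hf a)) ?_
        exact Set.subset_inter le_rfl
          (hrange.closure_subset_iff.2 (Set.singleton_subset_iff.2 ha))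
      · have hne : (Submodule.Quotient.mk ((L.presheaf.germ ⊤ (ξ a) trivial) s) :
            Cyc.secFibre L (ξ a)) ≠ 0 := by
          intro h
          apply ha
          rw [hD.1]
          exact h
        have := ratEquivZeroIn_gysin_divFun δ hX L hL s v hv0 hv (ξ a) k hδa hne (f a) (hf a)
        rw [hD.1]
        exact this
    · intro x
      obtain ⟨_, ⟨W, hW : IsAffineOpen W, rfl⟩, hxW, -⟩ :=
        X.isBasis_affineOpens.exists_subset_of_mem_open (Set.mem_univ x) isOpen_univ
      set K : Set X := (W : Set X) with hK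
      set c : X → ℤ := fun ζ => Cyc.secDivFun δ L ζ (v ζ) x with hc
      have hc0 : ∀ ζ, ζ ∉ K → c ζ = 0 := by
        intro ζ hζ
        by_contra hne
        exact hζ ((secDivFun_ne_zero_specializes δ L ζ (v ζ) x hne).1.mem_open W.isOpen hxW)
      set Dm : ι → X → ℤ := fun a ζ => Cyc.divFun δ (ξ a) (f a) ζ with hDm
      have hI₀ := finite_meets_compact ξ hlf K hW.isCompact
      have h0' : ∀ a, a ∉ {a | (closure {ξ a} ∩ K).Nonempty} → ∀ ζ ∈ K, Dm a ζ = 0 := by
        intro a hi ζ hζ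
        by_contra hne
        apply hi
        have hsp := (divFun_ne_zero_specializes δ (ξ a) (f a) ζ hne).1
        exact ⟨ζ, specializes_iff_mem_closure.1 hsp, hζ⟩
      have hfin : ∀ a ∈ {a | (closure {ξ a} ∩ K).Nonempty},
          (K ∩ Function.support (Dm a)).Finite :=
        fun a _ => finite_inter_support_divFun δ hδ (ξ a) (f a) (hf a) K hW.isCompact
      have key := finsum_mem_finsum_comm K Dm _ hI₀ h0' hfin c
      have hl : Cyc.c1CapFun δ L ⇑α v x = ∑ᶠ ζ ∈ K, (∑ᶠ a, Dm a ζ) * c ζ := by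
        unfold Cyc.c1CapFun
        have : ∀ ζ, α ζ * Cyc.secDivFun δ L ζ (v ζ) x = (∑ᶠ a, Dm a ζ) * c ζ := by
          intro ζ
          rw [hsum ζ]
        rw [finsum_congr this]
        apply finsum_eq_finsum_mem_of_forall
        intro ζ hζ
        have h := hc0 ζ hζ
        show _ * c ζ = 0
        rw [h, mul_zero]
      rw [hl, key]
      apply finsum_congr
      intro a
      rw [one_mul]
      unfold Cyc.c1CapFun
      symm
      apply finsum_eq_finsum_mem_of_forall
      intro ζ hζ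
      have h := hc0 ζ hζ
      show _ * c ζ = 0
      rw [h, mul_zero]
  exact ratEquivZero_of_ratEquivZeroIn_range i δ hδ k _ hIn γ hγ

end Groth.Agent.Lib.helper2.Gys
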