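import Mathlib
import Groth.Agent.Lib.Helper2.Gys4

/-!
# Commutation of `c₁` and Gysin maps, part 1: the integral case (helper2)

* `mk_germ_ne_zero_of_specializes`, `secDivFun_mk_germ_eq_zero`,
  `c1CapFun_gysin_eq_zero_of_mk_germ_ne_zero`: the divisor of the image of a global section is
  supported in its zero scheme.
* `Ffun_eq_one_left`, `Ffun_eq_one_right`: the functions `Ffun` are `1` at points where one of the
  two families of sections comes from a global section which is nonzero there.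
* `ratEquivZeroIn_symm_integral`: the symmetry of `c₁` with the locus of the points.
-/

set_option autoImplicit false
universe u

namespace Groth.Agent.Lib.helper2.Gys

open IsLocalRing CycAlg AlgebraicGeometry CategoryTheory
open Groth.Agent.Lib.helper16.SecOrd Groth.Agent.Lib.helper16.CycClosed
open Groth.Agent.Lib.helper16.PullStalk Groth.Agent.Lib.helper2.PushPt
open Groth.Agent.Lib.helper2.PPush Groth.Agent.Lib.helper2.Sym
open Groth.Agent.Lib.helper2.C1Comm Groth.Agent.Lib.helper2.ExtRat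
open Groth.Agent.Lib.helper2.C1Rat Groth.Agent.Lib.helper16.DivSum

section support

variable {X : Scheme.{u}} {L : X.Modules}

theorem mk_germ_ne_zero_of_specializes (hL : PicF.IsInvertible L)
    (σ : L.presheaf.obj (Opposite.op ⊤)) {x ξ : X} (h : ξ ⤳ x)
    (hx : (Submodule.Quotient.mk ((L.presheaf.germ ⊤ x trivial) σ) : Cyc.secFibre L x) ≠ 0) :
    (Submodule.Quotient.mk ((L.presheaf.germ ⊤ ξ trivial) σ) : Cyc.secFibre L ξ) ≠ 0 := by
  have hLc := isLocCyc_of_isInvertible L hL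
  have hgen := span_germ_eq_top hL σ x hx
  have hgen' := hLc.spec x ξ h _ hgen
  rw [germ_stalkSpecializes_top] at hgen'
  obtain ⟨e, he⟩ := exists_secFibre_ne_zero L hL ξ
  obtain ⟨c, hc⟩ := exists_smul_mk_eq L ξ _ hgen' e
  intro h0
  apply he
  rw [hc, h0, smul_zero]

/-- the divisor of the image of a global section vanishes outside the zero scheme -/
theorem secDivFun_mk_germ_eq_zero (δ : X → ℤ) (hL : PicF.IsInvertible L)
    (σ : L.presheaf.obj (Opposite.op ⊤)) (ξ x : X)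
    (hx : (Submodule.Quotient.mk ((L.presheaf.germ ⊤ x trivial) σ) : Cyc.secFibre L x) ≠ 0) :
    Cyc.secDivFun δ L ξ (Submodule.Quotient.mk ((L.presheaf.germ ⊤ ξ trivial) σ)) x = 0 := by
  unfold Cyc.secDivFun
  split_ifs with h
  · have hgen := span_germ_eq_top hL σ x hx
    have hne := mk_germ_ne_zero_of_specializes hL σ h.1 hx
    rw [secOrdAt_eq L x ξ h.1 _ hne _ hgen 1 (by rw [one_smul, germ_stalkSpecializes_top]),
      map_one]
    exact ordAt_one h.1
  · rfl

/-- the Gysin function `c₁(L) ∩ α` computed with the sections `s` is supported in the zero scheme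
of `s` -/
theorem c1CapFun_gysin_eq_zero_of_mk_germ_ne_zero (δ : X → ℤ) (hL : PicF.IsInvertible L)
    (σ : L.presheaf.obj (Opposite.op ⊤)) (α : X → ℤ) (v : (ξ : X) → Cyc.secFibre L ξ)
    (hv : ∀ ξ, (Submodule.Quotient.mk ((L.presheaf.germ ⊤ ξ trivial) σ) : Cyc.secFibre L ξ) ≠ 0 →
      v ξ = Submodule.Quotient.mk ((L.presheaf.germ ⊤ ξ trivial) σ)) (x : X)
    (hx : (Submodule.Quotient.mk ((L.presheaf.germ ⊤ x trivial) σ) : Cyc.secFibre L x) ≠ 0) :
    Cyc.c1CapFun δ L α v x = 0 := by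
  unfold Cyc.c1CapFun
  apply finsum_eq_zero_of_forall_eq_zero
  intro ξ
  by_cases h : ξ ⤳ x
  · rw [hv ξ (mk_germ_ne_zero_of_specializes hL σ h hx),
      secDivFun_mk_germ_eq_zero δ hL σ ξ x hx, mul_zero]
  · unfold Cyc.secDivFun
    rw [dif_neg (fun h' => h h'.1), mul_zero]

end support

section ffun

variable {X : Scheme.{u}} [IsIntegral X] [IsLocallyNoetherian X] {L N : X.Modules}
  {s : Cyc.secFibre L (genericPoint X)} {t : Cyc.secFibre N (genericPoint X)}
  {u : (ξ : X) → Cyc.secFibre N ξ} {v : (ξ : X) → Cyc.secFibre L ξ}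

theorem Ffun_eq_one_left (δ : X → ℤ) (hδ : Cyc.IsDimFun X δ)
    (hL : PicF.IsInvertible L) (hN : PicF.IsInvertible N)
    (σ : L.presheaf.obj (Opposite.op ⊤)) (hs0 : s ≠ 0)
    (hs : s = (Submodule.Quotient.mk ((L.presheaf.germ ⊤ (genericPoint X) trivial) σ) :
      Cyc.secFibre L (genericPoint X)))
    (ht0 : t ≠ 0) (hu0 : ∀ ξ, u ξ ≠ 0) (hv0 : ∀ ξ, v ξ ≠ 0)
    (ξ : X) (hξ : δ ξ + 1 = δ (genericPoint X))
    (hvξ : v ξ = (Submodule.Quotient.mk ((L.presheaf.germ ⊤ ξ trivial) σ) : Cyc.secFibre L ξ)) :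
    Ffun L N s t u v ξ = 1 := by
  subst hs
  exact Ffun_eq_one_of_eq_mk_germ δ hδ hL hN σ hs0 ht0 hu0 v hv0 ξ hξ hvξ

theorem Ffun_eq_one_right (δ : X → ℤ) (hδ : Cyc.IsDimFun X δ)
    (hL : PicF.IsInvertible L) (hN : PicF.IsInvertible N)
    (σ : N.presheaf.obj (Opposite.op ⊤)) (hs0 : s ≠ 0) (ht0 : t ≠ 0)
    (ht : t = (Submodule.Quotient.mk ((N.presheaf.germ ⊤ (genericPoint X) trivial) σ) :
      Cyc.secFibre N (genericPoint X)))
    (hu0 : ∀ ξ, u ξ ≠ 0) (hv0 : ∀ ξ, v ξ ≠ 0)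
    (ξ : X) (hξ : δ ξ + 1 = δ (genericPoint X))
    (huξ : u ξ = (Submodule.Quotient.mk ((N.presheaf.germ ⊤ ξ trivial) σ) : Cyc.secFibre N ξ)) :
    Ffun L N s t u v ξ = 1 := by
  have hξσ : (Submodule.Quotient.mk ((N.presheaf.germ ⊤ ξ trivial) σ) : Cyc.secFibre N ξ) ≠ 0 :=
    huξ ▸ hu0 ξ
  have hLc := isLocCyc_of_isInvertible L hL
  have hdim : ringKrullDim (X.presheaf.stalk ξ) = 1 := dim_stalk_of_delta δ hδ ξ hξ
  have hgen := span_germ_eq_top hN σ ξ hξσ
  obtain ⟨gL, hgL⟩ := hLc.cyc ξ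
  obtain ⟨A, hA⟩ := exists_smul_mk_eq L (genericPoint X) _
    (hLc.spec ξ (genericPoint X) (genericPoint_specializes ξ) gL hgL) s
  obtain ⟨Dd, hDd⟩ := exists_smul_mk_eq L ξ gL hgL (v ξ)
  have hA0 : A ≠ 0 := by
    rintro rfl
    exact hs0 (by rw [hA, zero_smul])
  let R : Rep L N s t ξ (u ξ) (v ξ) :=
    { gL := gL
      gN := (N.presheaf.germ ⊤ ξ trivial) σ
      hgL := hgL
      hgN := hgen
      A := A
      B := 1
      C := 1
      D := Dd
      hs := hA
      ht := by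
        rw [one_smul, germ_stalkSpecializes_top, ht]
      hu := by
        rw [huξ, one_smul]
      hv := hDd }
  rw [Ffun_eq hdim hs0 ht0 (hu0 ξ) (hv0 ξ) R]
  show tameFrac (X.presheaf.stalk ξ) X.functionField A 1 *
    residue (X.presheaf.stalk ξ) 1 ^ (CycAlg.ordFrac (X.presheaf.stalk ξ) X.functionField A) *
    residue (X.presheaf.stalk ξ) Dd ^
      (-(CycAlg.ordFrac (X.presheaf.stalk ξ) X.functionField 1)) = 1
  have h1 := tameFrac_unit_right (K := X.functionField) hdim (1 : (X.presheaf.stalk ξ)ˣ) hA0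
  rw [Units.val_one, map_one, map_one, one_zpow] at h1
  rw [h1, ordFrac_one', neg_zero, zpow_zero, map_one, one_zpow, mul_one, mul_one]

end ffun

section integral

variable {X : Scheme.{u}}

open Classical in
/-- **symmetry of `c₁` with the locus of the points**: on an integral scheme, if the sections `v`
of `L` (resp. `u` of `N`) are the images of a global section `σL` (resp. `σN`) wherever these are
nonzero, then `c₁(N) ∩ div_L(v η) - c₁(L) ∩ div_N(u η)` is a sum of principal divisors of functions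
at points of the intersection of the zero schemes of `σL` and `σN`. -/
theorem ratEquivZeroIn_symm_integral [IsIntegral X] (δ : X → ℤ) (hX : Cyc.IsSetup X δ)
    (n : ℤ) (hn : δ (genericPoint X) = n) (L N : X.Modules) (hL : PicF.IsInvertible L)
    (hN : PicF.IsInvertible N)
    (σL : L.presheaf.obj (Opposite.op ⊤)) (σN : N.presheaf.obj (Opposite.op ⊤))
    (v : (ξ : X) → Cyc.secFibre L ξ) (hv0 : ∀ ξ, v ξ ≠ 0)
    (hv : ∀ ξ, (Submodule.Quotient.mk ((L.presheaf.germ ⊤ ξ trivial) σL) : Cyc.secFibre L ξ) ≠ 0 →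
      v ξ = Submodule.Quotient.mk ((L.presheaf.germ ⊤ ξ trivial) σL))
    (u : (ξ : X) → Cyc.secFibre N ξ) (hu0 : ∀ ξ, u ξ ≠ 0)
    (hu : ∀ ξ, (Submodule.Quotient.mk ((N.presheaf.germ ⊤ ξ trivial) σN) : Cyc.secFibre N ξ) ≠ 0 →
      u ξ = Submodule.Quotient.mk ((N.presheaf.germ ⊤ ξ trivial) σN)) :
    RatEquivZeroIn δ (n - 2)
      (fun x => Cyc.c1CapFun δ N (Cyc.secDivFun δ L (genericPoint X) (v (genericPoint X))) u x -
        Cyc.c1CapFun δ L (Cyc.secDivFun δ N (genericPoint X) (u (genericPoint X))) v x)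
      ({x | (Submodule.Quotient.mk ((L.presheaf.germ ⊤ x trivial) σL) : Cyc.secFibre L x) = 0} ∩
        {x | (Submodule.Quotient.mk ((N.presheaf.germ ⊤ x trivial) σN) :
          Cyc.secFibre N x) = 0}) := by
  haveI := hX.1
  have hδ := hX.2.2
  have hs0 := hv0 (genericPoint X)
  have ht0 := hu0 (genericPoint X)
  have hJmem : ∀ j : {ξ : X // δ ξ + 1 = n ∧
      Ffun L N (v (genericPoint X)) (u (genericPoint X)) u v ξ ≠ 1},
      j.1 ∈ {x | (Submodule.Quotient.mk ((L.presheaf.germ ⊤ x trivial) σL) :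
          Cyc.secFibre L x) = 0} ∩
        {x | (Submodule.Quotient.mk ((N.presheaf.germ ⊤ x trivial) σN) :
          Cyc.secFibre N x) = 0} := by
    intro j
    have hj1 : δ j.1 + 1 = δ (genericPoint X) := by rw [hn]; exact j.2.1
    constructor
    · by_contra hj
      apply j.2.2
      have hη := mk_germ_ne_zero_of_specializes hL σL (genericPoint_specializes j.1) hj
      exact Ffun_eq_one_left δ hδ hL hN σL hs0 (hv _ hη) ht0 hu0 hv0 j.1 hj1 (hv j.1 hj)
    · by_contra hj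
      apply j.2.2
      have hη := mk_germ_ne_zero_of_specializes hN σN (genericPoint_specializes j.1) hj
      exact Ffun_eq_one_right δ hδ hL hN σN hs0 ht0 (hu _ hη) hu0 hv0 j.1 hj1 (hu j.1 hj)
  refine ⟨{ξ : X // δ ξ + 1 = n ∧
      Ffun L N (v (genericPoint X)) (u (genericPoint X)) u v ξ ≠ 1},
    fun j => j.1, fun j => Ffun L N (v (genericPoint X)) (u (genericPoint X)) u v j.1,
    fun j => by have := j.2.1; show δ j.1 = n - 2 + 1; omega,
    fun j => Ffun_ne_zero δ hδ hL hN hs0 ht0 hu0 hv0 j.1 (by rw [hn]; exact j.2.1),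
    family_locallyFinite δ hδ n hn hL hN hs0 ht0 hu0 hv0, ?_, hJmem⟩
  intro x
  show Cyc.c1CapFun δ N (Cyc.secDivFun δ L (genericPoint X) (v (genericPoint X))) u x -
    Cyc.c1CapFun δ L (Cyc.secDivFun δ N (genericPoint X) (u (genericPoint X))) v x = _
  rw [c1_symm_fun δ hδ hL hN hs0 ht0 hu0 hv0 x, finsum_family δ n hn x]

end integral

end Groth.Agent.Lib.helper2.Gys
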