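import Mathlib
import Groth.Agent.Lib.Helper2.Gys5

/-!
# Commutation of `c₁` and Gysin maps, part 2: one point, and the sum (helper2)
-/

set_option autoImplicit false
universe u

namespace Groth.Agent.Lib.helper2.Gys

open IsLocalRing CycAlg AlgebraicGeometry CategoryTheory
open Groth.Agent.Lib.helper16.SecOrd Groth.Agent.Lib.helper16.CycClosed
open Groth.Agent.Lib.helper16.PullStalk Groth.Agent.Lib.helper2.PushPt
open Groth.Agent.Lib.helper2.PPush Groth.Agent.Lib.helper2.Sym
open Groth.Agent.Lib.helper2.C1Comm Groth.Agent.Lib.helper2.ExtRat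
open Groth.Agent.Lib.helper2.C1Rat Groth.Agent.Lib.helper16.DivSum

variable {X : Scheme.{u}}

/-- the pulled back sections of a family which is the image of a global section wherever this is
nonzero have the same property for the pulled back global section -/
theorem pullSec_eq_mk_germ_pullGlobal {Z : Scheme.{u}} (j : Z ⟶ X) (L : X.Modules)
    (hL : PicF.IsInvertible L) (s : L.presheaf.obj (Opposite.op ⊤))
    (v : (x : X) → Cyc.secFibre L x)
    (hv : ∀ x, (Submodule.Quotient.mk ((L.presheaf.germ ⊤ x trivial) s) : Cyc.secFibre L x) ≠ 0 →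
      v x = Submodule.Quotient.mk ((L.presheaf.germ ⊤ x trivial) s)) (w : Z)
    (hw : (Submodule.Quotient.mk ((((Scheme.Modules.pullback j).obj L).presheaf.germ ⊤
      w trivial) (pullGlobal j L s)) : Cyc.secFibre ((Scheme.Modules.pullback j).obj L) w) ≠ 0) :
    pullSec j w L (v (j w)) = Submodule.Quotient.mk
      ((((Scheme.Modules.pullback j).obj L).presheaf.germ ⊤ w trivial) (pullGlobal j L s)) := by
  have h1 : (Submodule.Quotient.mk ((L.presheaf.germ ⊤ (j w) trivial) s) :
      Cyc.secFibre L (j w)) ≠ 0 :=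
    fun h => hw ((mk_germ_pullGlobal_eq_zero_iff j L hL s w).2 h)
  rw [hv (j w) h1, pullSec_mk, germ_pullGlobal]

open Classical in
/-- **symmetry of `c₁` on the closure of one point, with the locus of the points** -/
theorem ratEquivZeroIn_symm_point (δ : X → ℤ) (hX : Cyc.IsSetup X δ) (L N : X.Modules)
    (hL : PicF.IsInvertible L) (hN : PicF.IsInvertible N)
    (sL : L.presheaf.obj (Opposite.op ⊤)) (sN : N.presheaf.obj (Opposite.op ⊤))
    (v : (x : X) → Cyc.secFibre L x) (hv0 : ∀ x, v x ≠ 0)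
    (hv : ∀ x, (Submodule.Quotient.mk ((L.presheaf.germ ⊤ x trivial) sL) : Cyc.secFibre L x) ≠ 0 →
      v x = Submodule.Quotient.mk ((L.presheaf.germ ⊤ x trivial) sL))
    (u : (x : X) → Cyc.secFibre N x) (hu0 : ∀ x, u x ≠ 0)
    (hu : ∀ x, (Submodule.Quotient.mk ((N.presheaf.germ ⊤ x trivial) sN) : Cyc.secFibre N x) ≠ 0 →
      u x = Submodule.Quotient.mk ((N.presheaf.germ ⊤ x trivial) sN))
    (ξ : X) (k : ℤ) (hξ : δ ξ = k + 2) :
    RatEquivZeroIn δ k
      (fun x => Cyc.c1CapFun δ N (Cyc.secDivFun δ L ξ (v ξ)) u x -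
        Cyc.c1CapFun δ L (Cyc.secDivFun δ N ξ (u ξ)) v x)
      (closure {ξ} ∩
        ({x | (Submodule.Quotient.mk ((L.presheaf.germ ⊤ x trivial) sL) : Cyc.secFibre L x) = 0} ∩
        {x | (Submodule.Quotient.mk ((N.presheaf.germ ⊤ x trivial) sN) :
          Cyc.secFibre N x) = 0})) := by
  haveI := hX.1
  set j := jc ξ with hj
  have hW : Cyc.IsSetup (Wc ξ) (fun w => δ (j w)) := isSetup_closedImmersion j δ hX
  haveI := hW.1
  have hδj : Cyc.DeltaCompat j (fun w => δ (j w)) δ := deltaCompat_closedImmersion j δ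
  have hη : j (genericPoint (Wc ξ)) = ξ := jc_genericPoint ξ
  have hLW := isInvertible_pullback j L hL
  have hNW := isInvertible_pullback j N hN
  have hLc := isLocCyc_of_isInvertible L hL
  have hNc := isLocCyc_of_isInvertible N hN
  have hpL := pullSec_family_ne_zero j L hL v hv0
  have hpN := pullSec_family_ne_zero j N hN u hu0
  -- the fundamental cycle of `W`
  let FW : AlgebraicCycle (Wc ξ) ℤ := Function.locallyFinsuppWithin.single (genericPoint (Wc ξ)) 1
  have hFW : ∀ w, FW w = if w = genericPoint (Wc ξ) then 1 else 0 := fun w =>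
    Function.locallyFinsuppWithin.single_apply
  obtain ⟨DL, hDL⟩ := exists_cycle_c1CapFun (fun w => δ (j w)) hW.2.2 _ hLW FW
    (fun w => pullSec j w L (v (j w))) hpL
  obtain ⟨DN, hDN⟩ := exists_cycle_c1CapFun (fun w => δ (j w)) hW.2.2 _ hNW FW
    (fun w => pullSec j w N (u (j w))) hpN
  have hDL' := hDL.trans (c1CapFun_single (fun w => δ (j w)) _ _ (genericPoint (Wc ξ)) _ hFW)
  have hDN' := hDN.trans (c1CapFun_single (fun w => δ (j w)) _ _ (genericPoint (Wc ξ)) _ hFW)
  obtain ⟨G1, hG1⟩ := exists_cycle_c1CapFun (fun w => δ (j w)) hW.2.2 _ hNW DL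
    (fun w => pullSec j w N (u (j w))) hpN
  obtain ⟨G2, hG2⟩ := exists_cycle_c1CapFun (fun w => δ (j w)) hW.2.2 _ hLW DN
    (fun w => pullSec j w L (v (j w))) hpL
  have key := ratEquivZeroIn_symm_integral (fun w => δ (j w)) hW (k + 2)
    (by show δ (j (genericPoint (Wc ξ))) = k + 2; rw [hη, hξ]) _ _ hLW hNW
    (pullGlobal j L sL) (pullGlobal j N sN)
    (fun w => pullSec j w L (v (j w))) hpL (pullSec_eq_mk_germ_pullGlobal j L hL sL v hv)
    (fun w => pullSec j w N (u (j w))) hpN (pullSec_eq_mk_germ_pullGlobal j N hN sN u hu)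
  have hk : k + 2 - 2 = k := by ring
  rw [hk] at key
  have hkeyfun : (fun w => Cyc.c1CapFun (fun w => δ (j w)) ((Scheme.Modules.pullback j).obj N)
        (Cyc.secDivFun (fun w => δ (j w)) ((Scheme.Modules.pullback j).obj L)
          (genericPoint (Wc ξ)) (pullSec j (genericPoint (Wc ξ)) L (v (j (genericPoint (Wc ξ))))))
        (fun w => pullSec j w N (u (j w))) w -
      Cyc.c1CapFun (fun w => δ (j w)) ((Scheme.Modules.pullback j).obj L)
        (Cyc.secDivFun (fun w => δ (j w)) ((Scheme.Modules.pullback j).obj N)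
          (genericPoint (Wc ξ)) (pullSec j (genericPoint (Wc ξ)) N (u (j (genericPoint (Wc ξ))))))
        (fun w => pullSec j w L (v (j w))) w) = ⇑(G1 - G2) := by
    funext w
    rw [Function.locallyFinsuppWithin.coe_sub, Pi.sub_apply, hG1, hG2, hDL', hDN']
  rw [hkeyfun] at key
  -- push forward
  have m1 := map_c1CapFun_pullSec (fun w => δ (j w)) δ hW hX j hδj N hNc
    (fun w => pullSec j w N (u (j w))) hpN DL u hu0 G1 hG1
  have mDL := map_c1CapFun_pullSec (fun w => δ (j w)) δ hW hX j hδj L hLc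
    (fun w => pullSec j w L (v (j w))) hpL FW v hv0 DL hDL
  have m2 := map_c1CapFun_pullSec (fun w => δ (j w)) δ hW hX j hδj L hLc
    (fun w => pullSec j w L (v (j w))) hpL DN v hv0 G2 hG2
  have mDN := map_c1CapFun_pullSec (fun w => δ (j w)) δ hW hX j hδj N hNc
    (fun w => pullSec j w N (u (j w))) hpN FW u hu0 DN hDN
  have hinj : Function.Injective j := j.isClosedEmbedding.injective
  have hpush : ∀ y, (AlgebraicCycle.map j (fun w => δ (j w)) δ FW) y = if y = ξ then 1 else 0 := by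
    intro y
    by_cases hy : y ∈ Set.range j
    · obtain ⟨w, rfl⟩ := hy
      rw [map_apply j _ δ (fun _ => rfl), hFW w]
      by_cases hw : w = genericPoint (Wc ξ)
      · rw [if_pos hw, if_pos (by rw [hw, hη])]
      · rw [if_neg hw, if_neg (fun h => hw (hinj (h.trans hη.symm)))]
    · rw [map_apply_of_notMem_range j _ δ FW y hy, if_neg]
      rintro rfl
      exact hy ⟨_, hη⟩
  rw [c1CapFun_single δ L v ξ _ hpush] at mDL
  rw [c1CapFun_single δ N u ξ _ hpush] at mDN
  rw [mDL] at m1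
  rw [mDN] at m2
  have hin := ratEquivZeroIn_map_in j δ k (G1 - G2) _ key
  have hfun : ⇑(AlgebraicCycle.map j (fun w => δ (j w)) δ (G1 - G2)) =
      fun x => Cyc.c1CapFun δ N (Cyc.secDivFun δ L ξ (v ξ)) u x -
        Cyc.c1CapFun δ L (Cyc.secDivFun δ N ξ (u ξ)) v x := by
    funext y
    rw [← m1, ← m2]
    by_cases hy : y ∈ Set.range j
    · obtain ⟨w, rfl⟩ := hy
      rw [map_apply j _ δ (fun _ => rfl), map_apply j _ δ (fun _ => rfl),
        map_apply j _ δ (fun _ => rfl), Function.locallyFinsuppWithin.coe_sub]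
      rfl
    · rw [map_apply_of_notMem_range j _ δ _ y hy, map_apply_of_notMem_range j _ δ _ y hy,
        map_apply_of_notMem_range j _ δ _ y hy, sub_zero]
  rw [hfun] at hin
  refine RatEquivZeroIn.mono hin ?_
  rintro _ ⟨w, ⟨hw1, hw2⟩, rfl⟩
  refine ⟨?_, (mk_germ_pullGlobal_eq_zero_iff j L hL sL w).1 hw1,
    (mk_germ_pullGlobal_eq_zero_iff j N hN sN w).1 hw2⟩
  rw [← range_jc]
  exact ⟨w, rfl⟩

/-- **commutation of `c₁(L) ∩ -` and `c₁(N) ∩ -` with the locus of the points**: if the sections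
`v` of `L` (resp. `u` of `N`) are the images of a global section `sL` (resp. `sN`) wherever these
are nonzero, the difference `c₁(N) ∩ c₁(L) ∩ α - c₁(L) ∩ c₁(N) ∩ α` is a sum of principal divisors
of functions at points of the intersection of the zero schemes. -/
theorem ratEquivZeroIn_c1_comm (δ : X → ℤ) (hX : Cyc.IsSetup X δ) (L N : X.Modules)
    (hL : PicF.IsInvertible L) (hN : PicF.IsInvertible N)
    (sL : L.presheaf.obj (Opposite.op ⊤)) (sN : N.presheaf.obj (Opposite.op ⊤))
    (v : (x : X) → Cyc.secFibre L x) (hv0 : ∀ x, v x ≠ 0)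
    (hv : ∀ x, (Submodule.Quotient.mk ((L.presheaf.germ ⊤ x trivial) sL) : Cyc.secFibre L x) ≠ 0 →
      v x = Submodule.Quotient.mk ((L.presheaf.germ ⊤ x trivial) sL))
    (u : (x : X) → Cyc.secFibre N x) (hu0 : ∀ x, u x ≠ 0)
    (hu : ∀ x, (Submodule.Quotient.mk ((N.presheaf.germ ⊤ x trivial) sN) : Cyc.secFibre N x) ≠ 0 →
      u x = Submodule.Quotient.mk ((N.presheaf.germ ⊤ x trivial) sN))
    (hZ : IsClosed
      ({x | (Submodule.Quotient.mk ((L.presheaf.germ ⊤ x trivial) sL) : Cyc.secFibre L x) = 0} ∩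
        {x | (Submodule.Quotient.mk ((N.presheaf.germ ⊤ x trivial) sN) :
          Cyc.secFibre N x) = 0}))
    (k : ℤ) (α : AlgebraicCycle X ℤ) (hα : α ∈ Cyc.Zk X δ (k + 2)) :
    RatEquivZeroIn δ k
      (fun x => Cyc.c1CapFun δ N (Cyc.c1CapFun δ L ⇑α v) u x -
        Cyc.c1CapFun δ L (Cyc.c1CapFun δ N ⇑α u) v x)
      ({x | (Submodule.Quotient.mk ((L.presheaf.germ ⊤ x trivial) sL) : Cyc.secFibre L x) = 0} ∩
        {x | (Submodule.Quotient.mk ((N.presheaf.germ ⊤ x trivial) sN) :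
          Cyc.secFibre N x) = 0}) := by
  classical
  haveI := hX.1
  have hδ := hX.2.2
  refine ratEquivZeroIn_of_sum δ k (T := {ξ : X // α ξ ≠ 0})
    (fun t => closure {t.1} ∩
      ({x | (Submodule.Quotient.mk ((L.presheaf.germ ⊤ x trivial) sL) : Cyc.secFibre L x) = 0} ∩
        {x | (Submodule.Quotient.mk ((N.presheaf.germ ⊤ x trivial) sN) :
          Cyc.secFibre N x) = 0}))
    (fun t => isClosed_closure.inter hZ) ?_ (fun t => α t.1)
    (fun t x => Cyc.c1CapFun δ N (Cyc.secDivFun δ L t.1 (v t.1)) u x -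
      Cyc.c1CapFun δ L (Cyc.secDivFun δ N t.1 (u t.1)) v x) ?_ _ ?_ _
    (fun t => Set.inter_subset_right)
  · intro x
    obtain ⟨V, hV, hfin⟩ := α.supportLocallyFiniteWithinDomain' x trivial
    refine ⟨interior V, isOpen_interior, mem_interior_iff_mem_nhds.2 hV, ?_⟩
    apply (hfin.preimage Subtype.val_injective.injOn).subset
    rintro i ⟨z, ⟨hz1, -⟩, hz2⟩
    have hiz : i.1 ⤳ z := specializes_iff_mem_closure.2 hz1
    exact ⟨interior_subset (hiz.mem_open isOpen_interior hz2), i.2⟩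
  · intro t
    have ht : δ t.1 = k + 2 := by
      by_contra hne
      exact t.2 (hα t.1 hne)
    exact ratEquivZeroIn_symm_point δ hX L N hL hN sL sN v hv0 hv u hu0 hu t.1 k ht
  · intro x
    show Cyc.c1CapFun δ N (Cyc.c1CapFun δ L ⇑α v) u x -
      Cyc.c1CapFun δ L (Cyc.c1CapFun δ N ⇑α u) v x = _
    rw [c1CapFun_c1CapFun_eq δ hδ N L hL α v hv0 u x,
      c1CapFun_c1CapFun_eq δ hδ L N hN α u hu0 v x]
    have hsupp : ∀ F : X → ℤ, (∀ ξ, ¬ ξ ⤳ x → F ξ = 0) →
        (Function.support fun ξ => α ξ * F ξ).Finite := by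
      intro F hF
      refine (finite_specializes_support α x).subset ?_
      intro ξ hξ
      rw [Function.mem_support] at hξ
      refine ⟨left_ne_zero_of_mul hξ, ?_⟩
      by_contra hne
      exact hξ (by rw [hF ξ hne, mul_zero])
    have hcap0 : ∀ (M M' : X.Modules) (σ : (y : X) → Cyc.secFibre M y)
        (τ : (y : X) → Cyc.secFibre M' y) (ξ : X), ¬ ξ ⤳ x →
        Cyc.c1CapFun δ M (Cyc.secDivFun δ M' ξ (τ ξ)) σ x = 0 := by
      intro M M' σ τ ξ hξ
      unfold Cyc.c1CapFun
      apply finsum_eq_zero_of_forall_eq_zero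
      intro ζ
      by_contra hne
      apply hξ
      exact (secDivFun_ne_zero_specializes δ M' ξ (τ ξ) ζ (left_ne_zero_of_mul hne)).1.trans
        (secDivFun_ne_zero_specializes δ M ζ (σ ζ) x (right_ne_zero_of_mul hne)).1
    rw [← finsum_sub_distrib (hsupp _ (hcap0 N L u v)) (hsupp _ (hcap0 L N v u))]
    rw [finsum_subtype_eq_finsum_cond (fun ξ => α ξ ≠ 0)
      (f := fun ξ => α ξ * (Cyc.c1CapFun δ N (Cyc.secDivFun δ L ξ (v ξ)) u x -
        Cyc.c1CapFun δ L (Cyc.secDivFun δ N ξ (u ξ)) v x))]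
    apply finsum_congr
    intro ξ
    rw [finsum_eq_if]
    by_cases hξ : α ξ = 0
    · rw [if_neg (not_not.2 hξ), hξ, zero_mul, zero_mul, sub_zero]
    · rw [if_pos hξ]
      ring

end Groth.Agent.Lib.helper2.Gys
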