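import Mathlib
import Groth.Agent.Lib.Helper2.Gys6

/-!
# Commutation of `c₁` and Gysin maps, part 3: `i^*(c₁(N) ∩ α) ∼ c₁(i^*N) ∩ i^*α` (helper2)
-/

set_option autoImplicit false
universe u

namespace Groth.Agent.Lib.helper2.Gys

open IsLocalRing CycAlg AlgebraicGeometry CategoryTheory
open Groth.Agent.Lib.helper16.SecOrd Groth.Agent.Lib.helper16.CycClosed
open Groth.Agent.Lib.helper16.PullStalk Groth.Agent.Lib.helper2.PushPt
open Groth.Agent.Lib.helper2.PPush Groth.Agent.Lib.helper2.Sym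
open Groth.Agent.Lib.helper2.C1Comm Groth.Agent.Lib.helper2.ExtRat
open Groth.Agent.Lib.helper2.C1Rat Groth.Agent.Lib.helper16.DivSum

variable {X : Scheme.{u}}

theorem gysinChoice_eq_of_ne_zero (L : X.Modules) (s : L.presheaf.obj (Opposite.op ⊤))
    (w : (ξ : X) → Cyc.secFibre L ξ) (x : X)
    (hx : (Submodule.Quotient.mk ((L.presheaf.germ ⊤ x trivial) s) : Cyc.secFibre L x) ≠ 0) :
    Cyc.gysinChoice L s w x = Submodule.Quotient.mk ((L.presheaf.germ ⊤ x trivial) s) := by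
  unfold Cyc.gysinChoice
  rw [if_pos hx]

theorem mk_germ_zero (N : X.Modules) (x : X) :
    (Submodule.Quotient.mk ((N.presheaf.germ ⊤ x trivial) 0) : Cyc.secFibre N x) = 0 := by
  rw [map_zero]
  rfl

/-- the Gysin function of a cycle as a cycle on the zero scheme -/
theorem exists_gysin_cycle {D : Scheme.{u}} (δ : X → ℤ) (hX : Cyc.IsSetup X δ) (L : X.Modules)
    (hL : PicF.IsInvertible L) (s : L.presheaf.obj (Opposite.op ⊤)) (i : D ⟶ X)
    [IsClosedImmersion i] (hD : Cyc.IsZeroSchemeOf i L s) (k : ℤ) (α : AlgebraicCycle X ℤ)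
    (hα : α ∈ Cyc.Zk X δ (k + 1)) (w : (ξ : X) → Cyc.secFibre L ξ) (hw : ∀ ξ, w ξ ≠ 0) :
    ∃ γc : AlgebraicCycle D ℤ,
      (∀ d, γc d = Cyc.c1CapFun δ L ⇑α (Cyc.gysinChoice L s w) (i d)) ∧
      ⇑(AlgebraicCycle.map i (fun d => δ (i d)) δ γc) =
        Cyc.c1CapFun δ L ⇑α (Cyc.gysinChoice L s w) ∧
      γc ∈ Cyc.Zk D (fun d => δ (i d)) k := by
  haveI := hX.1
  have hδ := hX.2.2
  have hvL0 := Groth.Agent.Lib.helper16.GysinFlat.gysinChoice_ne_zero L s w hw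
  obtain ⟨Γc, hΓc⟩ := exists_cycle_c1CapFun δ hδ L hL α (Cyc.gysinChoice L s w) hvL0
  obtain ⟨γc, hγc⟩ := exists_restrict i Γc
  have hγc' : ∀ d, γc d = Cyc.c1CapFun δ L ⇑α (Cyc.gysinChoice L s w) (i d) := by
    intro d
    rw [hγc d, hΓc]
  refine ⟨γc, hγc', ?_, ?_⟩
  · funext y
    by_cases hy : y ∈ Set.range i
    · obtain ⟨d, rfl⟩ := hy
      rw [map_apply i _ δ (fun _ => rfl), hγc' d]
    · rw [map_apply_of_notMem_range i _ δ γc y hy]
      have hy' : (Submodule.Quotient.mk ((L.presheaf.germ ⊤ y trivial) s) :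
          Cyc.secFibre L y) ≠ 0 := by
        intro h0
        apply hy
        rw [hD.1]
        exact h0
      exact (c1CapFun_gysin_eq_zero_of_mk_germ_ne_zero δ hL s ⇑α _
        (gysinChoice_eq_of_ne_zero L s w) y hy').symm
  · intro d hd
    rw [hγc' d]
    unfold Cyc.c1CapFun
    apply finsum_eq_zero_of_forall_eq_zero
    intro ξ
    by_contra hne
    have h1 : δ ξ = k + 1 := by
      by_contra h
      exact left_ne_zero_of_mul hne (hα ξ h)
    have h2 := (secDivFun_ne_zero_specializes δ L ξ _ (i d) (right_ne_zero_of_mul hne)).2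
    apply hd
    show δ (i d) = k
    omega

/-- **`i^*(c₁(N) ∩ α) ∼ c₁(i^*N) ∩ i^*α`** (= S6466) -/
theorem ratEquiv_gysin_c1Cap (X D : Scheme.{u}) (δ : X → ℤ) (hX : Cyc.IsSetup X δ)
    (L N : X.Modules) (hL : PicF.IsInvertible L) (hN : PicF.IsInvertible N)
    (s : L.presheaf.obj (Opposite.op ⊤)) (i : D ⟶ X) [IsClosedImmersion i]
    (hD : Cyc.IsZeroSchemeOf i L s) (k : ℤ) (α : AlgebraicCycle X ℤ) (hα : α ∈ Cyc.Zk X δ k)
    (w : (ξ : X) → Cyc.secFibre L ξ) (hw : ∀ ξ, w ξ ≠ 0)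
    (v : (ξ : X) → Cyc.secFibre N ξ) (hv : ∀ ξ, v ξ ≠ 0)
    (t : (d : D) → Cyc.secFibre ((Scheme.Modules.pullback i).obj N) d) (ht : ∀ d, t d ≠ 0)
    (β : AlgebraicCycle X ℤ) (hβ : ⇑β = Cyc.c1CapFun δ N ⇑α v) (γ : D → ℤ)
    (hγ : γ = fun d => Cyc.c1CapFun δ L ⇑α (Cyc.gysinChoice L s w) (i d))
    (ζ₁ ζ₂ : AlgebraicCycle D ℤ)
    (h₁ : ∀ d, ζ₁ d = Cyc.c1CapFun δ L ⇑β (Cyc.gysinChoice L s w) (i d))
    (h₂ : ⇑ζ₂ = Cyc.c1CapFun (fun d => δ (i d)) ((Scheme.Modules.pullback i).obj N) γ t) :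
    Cyc.RatEquiv (fun d => δ (i d)) (k - 2) ζ₁ ζ₂ := by
  classical
  haveI := hX.1
  have hδ := hX.2.2
  have hDs : Cyc.IsSetup D (fun d => δ (i d)) := isSetup_closedImmersion i δ hX
  haveI := hDs.1
  have hδi : Cyc.DeltaCompat i (fun d => δ (i d)) δ := deltaCompat_closedImmersion i δ
  have hNc := isLocCyc_of_isInvertible N hN
  have hND := isInvertible_pullback i N hN
  have hNDc := isLocCyc_of_isInvertible _ hND
  have hvL0 := Groth.Agent.Lib.helper16.GysinFlat.gysinChoice_ne_zero L s w hw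
  have hα' : α ∈ Cyc.Zk X δ (k - 2 + 1 + 1) := by
    rw [show k - 2 + 1 + 1 = k by ring]; exact hα
  obtain ⟨γc, hγc, hmapγ, hγck⟩ := exists_gysin_cycle δ hX L hL s i hD (k - 2 + 1) α hα' w hw
  have hγfun : ⇑γc = γ := by
    funext d
    rw [hγc d, hγ]
  have hpN := pullSec_family_ne_zero i N hN v hv
  obtain ⟨G, hG⟩ := exists_cycle_c1CapFun (fun d => δ (i d)) hDs.2.2 _ hND γc
    (fun d => pullSec i d N (v (i d))) hpN
  have h2G : Cyc.RatEquiv (fun d => δ (i d)) (k - 2) ζ₂ G :=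
    ratEquiv_c1CapFun_of_sections D (fun d => δ (i d)) _ hNDc (k - 2) γc hγck t _ ht hpN ζ₂ G
      (by rw [h₂, hγfun]) hG
  have mG := map_c1CapFun_pullSec (fun d => δ (i d)) δ hDs hX i hδi N hNc
    (fun d => pullSec i d N (v (i d))) hpN γc v hv G hG
  rw [hmapγ] at mG
  have hrange : IsClosed (Set.range i) := i.isClosedEmbedding.isClosed_range
  have hZeq : ({x | (Submodule.Quotient.mk ((L.presheaf.germ ⊤ x trivial) s) :
        Cyc.secFibre L x) = 0} ∩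
      {x | (Submodule.Quotient.mk ((N.presheaf.germ ⊤ x trivial) 0) :
        Cyc.secFibre N x) = 0}) = Set.range i := by
    rw [hD.1]
    ext x
    simp only [Set.mem_inter_iff, Set.mem_ofPred_eq, and_iff_left_iff_imp]
    intro _
    exact mk_germ_zero N x
  have hIn := ratEquivZeroIn_c1_comm δ hX L N hL hN s 0 _ hvL0 (gysinChoice_eq_of_ne_zero L s w)
    v hv (fun x hx => absurd (mk_germ_zero N x) hx) (by rw [hZeq]; exact hrange) (k - 2) α
    (by rw [show k - 2 + 2 = k by ring]; exact hα)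
  rw [hZeq] at hIn
  have hG1 : Cyc.RatEquivZero (fun d => δ (i d)) (k - 2) (G - ζ₁) := by
    refine ratEquivZero_of_ratEquivZeroIn_range i δ hδ (k - 2) _ hIn (G - ζ₁) ?_
    intro d
    have hlhs : (G - ζ₁) d = G d - ζ₁ d := by
      rw [Function.locallyFinsuppWithin.coe_sub]
      rfl
    rw [hlhs, h₁ d, hβ, ← map_apply i (fun d => δ (i d)) δ (fun _ => rfl) G d, mG]
  have heq : ζ₁ - ζ₂ = -((G - ζ₁) + (ζ₂ - G)) := by abel
  unfold Cyc.RatEquiv at h2G ⊢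
  rw [heq]
  exact ratEquivZero_neg _ _ _
    (Groth.Agent.Lib.helper2.AffB.ratEquivZero_add _ _ _ _ hG1 h2G)

end Groth.Agent.Lib.helper2.Gys
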