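import Mathlib
import Groth.Agent.Lib.Helper2.Gys7

/-!
# Commutation of Gysin maps (helper2)

* `isZeroSchemeOf_of_iso_comp`: the zero scheme condition does not depend on the source up to
  isomorphism.
* `ratEquiv_c1CapFun_restrict_of_sections`: two families of sections with the same divisors at the
  points of a closed subscheme `P`, away from `P`, give rationally equivalent restrictions to `P`.
* `ratEquiv_gysin_gysin`: commutation of Gysin maps (= S1931).
-/

set_option autoImplicit false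
universe u

namespace Groth.Agent.Lib.helper2.Gys

open IsLocalRing CycAlg AlgebraicGeometry CategoryTheory CategoryTheory.Limits
open Groth.Agent.Lib.helper16.SecOrd Groth.Agent.Lib.helper16.CycClosed
open Groth.Agent.Lib.helper16.PullStalk Groth.Agent.Lib.helper2.PushPt
open Groth.Agent.Lib.helper2.PPush Groth.Agent.Lib.helper2.Sym
open Groth.Agent.Lib.helper2.C1Comm Groth.Agent.Lib.helper2.ExtRat
open Groth.Agent.Lib.helper2.C1Rat Groth.Agent.Lib.helper16.DivSum

section iso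

variable {Y P P' : Scheme.{u}}

theorem isZeroSchemeOf_of_iso_comp (e : P ≅ P') (j' : P' ⟶ Y) (M : Y.Modules)
    (σ : M.presheaf.obj (Opposite.op ⊤)) (h : Cyc.IsZeroSchemeOf (e.hom ≫ j') M σ) :
    Cyc.IsZeroSchemeOf j' M σ := by
  have hsurj : Function.Surjective e.hom := fun d' => ⟨e.inv d', by
    rw [← Scheme.Hom.comp_apply, e.inv_hom_id]; rfl⟩
  refine ⟨?_, ?_⟩
  · rw [← h.1]
    ext y
    constructor
    · rintro ⟨d', rfl⟩
      obtain ⟨d, rfl⟩ := hsurj d'
      exact ⟨d, rfl⟩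
    · rintro ⟨d, rfl⟩
      exact ⟨e.hom d, rfl⟩
  · intro d'
    obtain ⟨d, rfl⟩ := hsurj d'
    obtain ⟨t, f, ht, hst, hker⟩ := h.2 d
    refine ⟨t, f, ht, hst, Eq.trans ?_ hker⟩
    have hcomp := Scheme.Hom.stalkMap_comp e.hom j' d
    have hinj : Function.Injective (e.hom.stalkMap d).hom :=
      ((ConcreteCategory.isIso_iff_bijective (e.hom.stalkMap d)).1 inferInstance).1
    have h2 : ∀ a : Y.presheaf.stalk (j' (e.hom d)),
        ((e.hom ≫ j').stalkMap d).hom a =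
          (e.hom.stalkMap d).hom ((j'.stalkMap (e.hom d)).hom a) := by
      intro a
      rw [hcomp]
      rfl
    apply le_antisymm
    · intro a ha
      have ha' : (j'.stalkMap (e.hom d)).hom a = 0 := ha
      show ((e.hom ≫ j').stalkMap d).hom a = 0
      rw [h2 a, ha', map_zero]
    · intro a ha
      have ha' : ((e.hom ≫ j').stalkMap d).hom a = 0 := ha
      show (j'.stalkMap (e.hom d)).hom a = 0
      rw [h2 a] at ha'
      exact hinj (by rw [ha', map_zero])

end iso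

section compare

variable {Y P : Scheme.{u}} (j : P ⟶ Y) [IsClosedImmersion j]

open Classical in
/-- two families of sections with the same divisors, at the points of `P`, of the sections at the
points outside `P` give rationally equivalent restrictions of `c₁(M) ∩ β` to `P` -/
theorem ratEquiv_c1CapFun_restrict_of_sections (δ : Y → ℤ) (hY : Cyc.IsSetup Y δ)
    (M : Y.Modules) (hM : PicF.IsInvertible M) (k : ℤ)
    (β : AlgebraicCycle Y ℤ) (hβ : β ∈ Cyc.Zk Y δ (k + 1))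
    (u₁ u₂ : (d : Y) → Cyc.secFibre M d) (hu₁ : ∀ d, u₁ d ≠ 0) (hu₂ : ∀ d, u₂ d ≠ 0)
    (hcomp : ∀ d, d ∉ Set.range j → ∀ z,
      Cyc.secDivFun δ M d (u₁ d) (j z) = Cyc.secDivFun δ M d (u₂ d) (j z))
    (ζ ζ' : AlgebraicCycle P ℤ) (hζ : ∀ z, ζ z = Cyc.c1CapFun δ M ⇑β u₁ (j z))
    (hζ' : ∀ z, ζ' z = Cyc.c1CapFun δ M ⇑β u₂ (j z)) :
    Cyc.RatEquiv (fun z => δ (j z)) k ζ ζ' := by
  haveI := hY.1
  have hMc := isLocCyc_of_isInvertible M hM
  have hβk : ∀ d, β d ≠ 0 → δ d = k + 1 := by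
    intro d hne
    by_contra h
    exact hne (hβ d h)
  have hex : ∀ d : Y, ∃ ρ : Y.presheaf.stalk d, u₁ d = ρ • u₂ d :=
    fun d => exists_smul_eq M hMc d _ _ (hu₂ d)
  choose ρ hρ using hex
  have hρt : ∀ d, ρ d • u₂ d ≠ 0 := fun d => hρ d ▸ hu₁ d
  let rr : ∀ d : Y, Y.residueField d := fun d => Y.residue d (ρ d)
  have hrr : ∀ d, rr d ≠ 0 := fun d => residue_ne_zero_of_smul_ne_zero M d (hρt d)
  have hdiff : ∀ d x, Cyc.secDivFun δ M d (u₁ d) x =
      Cyc.divFun δ d (rr d) x + Cyc.secDivFun δ M d (u₂ d) x := by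
    intro d x
    rw [hρ d]
    exact secDivFun_smul δ M hMc d _ (ρ d) (hρt d) x
  have hdiv0 : ∀ d z, d ∉ Set.range j → Cyc.divFun δ d (rr d) (j z) = 0 := by
    intro d z hd
    have h1 := hdiff d (j z)
    rw [hcomp d hd z] at h1
    linarith
  have hsupp : ∀ (x : Y) (F : Y → ℤ), (∀ ξ, ¬ ξ ⤳ x → F ξ = 0) →
      (Function.support fun ξ => β ξ * F ξ).Finite := by
    intro x F hF
    refine (finite_specializes_support β x).subset ?_
    intro ξ hξ
    rw [Function.mem_support] at hξ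
    refine ⟨fun h => hξ (by rw [h, zero_mul]), ?_⟩
    by_contra hne
    exact hξ (by rw [hF ξ hne, mul_zero])
  have hsec0 : ∀ (u : (ξ : Y) → Cyc.secFibre M ξ) (x ξ : Y),
      ¬ ξ ⤳ x → Cyc.secDivFun δ M ξ (u ξ) x = 0 := by
    intro u x ξ hne
    unfold Cyc.secDivFun
    rw [dif_neg (fun h => hne h.1)]
  have hsub : ∀ z, ζ z - ζ' z = ∑ᶠ d, β d * Cyc.divFun δ d (rr d) (j z) := by
    intro z
    rw [hζ z, hζ' z]
    unfold Cyc.c1CapFun
    rw [← finsum_sub_distrib (hsupp _ _ (hsec0 _ _)) (hsupp _ _ (hsec0 _ _))]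
    apply finsum_congr
    intro d
    rw [hdiff d (j z)]
    ring
  obtain ⟨Dc, hDc, -, hDr⟩ := exists_cycle_restrict_family j δ hY.2.2 k
    (J := {d : Y // β d ≠ 0 ∧ d ∈ Set.range j})
    (fun a => a.1) (fun a => rr a.1 ^ (β a.1))
    (fun a => hβk a.1 a.2.1) (fun a => zpow_ne_zero _ (hrr a.1))
    (by
      intro x
      obtain ⟨V, hV, hfin⟩ := β.supportLocallyFiniteWithinDomain' x trivial
      refine ⟨interior V, isOpen_interior, mem_interior_iff_mem_nhds.2 hV, ?_⟩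
      apply (hfin.preimage Subtype.val_injective.injOn).subset
      rintro a ⟨y, hy1, hy2⟩
      have hay : a.1 ⤳ y := specializes_iff_mem_closure.2 hy1
      exact ⟨interior_subset (hay.mem_open isOpen_interior hy2), a.2.1⟩)
    (fun a => a.2.2)
  have hE : ζ - ζ' = Dc := by
    ext z
    have hlhs : (ζ - ζ') z = ζ z - ζ' z := by
      rw [Function.locallyFinsuppWithin.coe_sub]
      rfl
    rw [hlhs, hsub z, hDc z]
    have h3 : ∀ a : {d : Y // β d ≠ 0 ∧ d ∈ Set.range j},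
        Cyc.divFun δ a.1 (rr a.1 ^ (β a.1)) (j z) =
        (fun d => β d * Cyc.divFun δ d (rr d) (j z)) a.1 := fun a =>
      divFun_zpow δ a.1 (rr a.1) (hrr a.1) (β a.1) (j z)
    rw [finsum_congr h3, finsum_subtype_eq_finsum_cond
      (fun d => β d ≠ 0 ∧ d ∈ Set.range j)
      (f := fun d => β d * Cyc.divFun δ d (rr d) (j z))]
    apply finsum_congr
    intro d
    by_cases hd : β d ≠ 0 ∧ d ∈ Set.range j
    · simp [hd]
    · rw [finsum_eq_if, if_neg hd]
      by_cases h0 : β d = 0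
      · rw [h0, zero_mul]
      · rw [hdiv0 d z (fun hmem => hd ⟨h0, hmem⟩), mul_zero]
  unfold Cyc.RatEquiv
  rw [hE]
  exact hDr

end compare

section main

variable {X D D' : Scheme.{u}}

/-- **commutation of Gysin maps** (= S1931) -/
theorem ratEquiv_gysin_gysin (δ : X → ℤ) (hX : Cyc.IsSetup X δ)
    (L L' : X.Modules) (hL : PicF.IsInvertible L) (hL' : PicF.IsInvertible L')
    (s : L.presheaf.obj (Opposite.op ⊤)) (s' : L'.presheaf.obj (Opposite.op ⊤))
    (i : D ⟶ X) (i' : D' ⟶ X) [IsClosedImmersion i] [IsClosedImmersion i']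
    (hD : Cyc.IsZeroSchemeOf i L s) (hD' : Cyc.IsZeroSchemeOf i' L' s')
    (σ' : ((Scheme.Modules.pullback i).obj L').presheaf.obj (Opposite.op ⊤))
    (hσ' : Cyc.IsZeroSchemeOf (pullback.fst i i') ((Scheme.Modules.pullback i).obj L') σ')
    (σ : ((Scheme.Modules.pullback i').obj L).presheaf.obj (Opposite.op ⊤))
    (hσ : Cyc.IsZeroSchemeOf (pullback.snd i i') ((Scheme.Modules.pullback i').obj L) σ)
    (k : ℤ) (α : AlgebraicCycle X ℤ) (hα : α ∈ Cyc.Zk X δ k)
    (w : (ξ : X) → Cyc.secFibre L ξ) (hw : ∀ ξ, w ξ ≠ 0)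
    (w' : (ξ : X) → Cyc.secFibre L' ξ) (hw' : ∀ ξ, w' ξ ≠ 0)
    (w₁ : (d : D) → Cyc.secFibre ((Scheme.Modules.pullback i).obj L') d) (hw₁ : ∀ d, w₁ d ≠ 0)
    (w₂ : (d : D') → Cyc.secFibre ((Scheme.Modules.pullback i').obj L) d) (hw₂ : ∀ d, w₂ d ≠ 0)
    (γ : D → ℤ) (hγ : γ = fun d => Cyc.c1CapFun δ L ⇑α (Cyc.gysinChoice L s w) (i d))
    (γ' : D' → ℤ) (hγ' : γ' = fun d => Cyc.c1CapFun δ L' ⇑α (Cyc.gysinChoice L' s' w') (i' d))
    (ζ₁ ζ₂ : AlgebraicCycle (pullback i i') ℤ)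
    (h₁ : ∀ z, ζ₁ z = Cyc.c1CapFun (fun d => δ (i d)) ((Scheme.Modules.pullback i).obj L') γ
      (Cyc.gysinChoice ((Scheme.Modules.pullback i).obj L') σ' w₁) (pullback.fst i i' z))
    (h₂ : ∀ z, ζ₂ z = Cyc.c1CapFun (fun d => δ (i' d)) ((Scheme.Modules.pullback i').obj L) γ'
      (Cyc.gysinChoice ((Scheme.Modules.pullback i').obj L) σ w₂) (pullback.snd i i' z)) :
    Cyc.RatEquiv (fun z => δ (i (pullback.fst i i' z))) (k - 2) ζ₁ ζ₂ := by
  classical
  haveI := hX.1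
  have hδ := hX.2.2
  have hDs : Cyc.IsSetup D (fun d => δ (i d)) := isSetup_closedImmersion i δ hX
  have hD's : Cyc.IsSetup D' (fun d => δ (i' d)) := isSetup_closedImmersion i' δ hX
  haveI := hDs.1
  haveI := hD's.1
  have hδi : Cyc.DeltaCompat i (fun d => δ (i d)) δ := deltaCompat_closedImmersion i δ
  have hδi' : Cyc.DeltaCompat i' (fun d => δ (i' d)) δ := deltaCompat_closedImmersion i' δ
  have hLc := isLocCyc_of_isInvertible L hL
  have hL'c := isLocCyc_of_isInvertible L' hL'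
  have hM₁ := isInvertible_pullback i L' hL'
  have hM₂ := isInvertible_pullback i' L hL
  have hvL0 := Groth.Agent.Lib.helper16.GysinFlat.gysinChoice_ne_zero L s w hw
  have hvL'0 := Groth.Agent.Lib.helper16.GysinFlat.gysinChoice_ne_zero L' s' w' hw'
  have hα' : α ∈ Cyc.Zk X δ (k - 2 + 1 + 1) := by
    rw [show k - 2 + 1 + 1 = k by ring]; exact hα
  -- the Gysin cycles on `D` and `D'`
  obtain ⟨γc, hγc, hmapγ, hγck⟩ := exists_gysin_cycle δ hX L hL s i hD (k - 2 + 1) α hα' w hw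
  obtain ⟨γc', hγc', hmapγ', hγck'⟩ :=
    exists_gysin_cycle δ hX L' hL' s' i' hD' (k - 2 + 1) α hα' w' hw'
  have hγfun : ⇑γc = γ := by
    funext d
    rw [hγc d, hγ]
  have hγfun' : ⇑γc' = γ' := by
    funext d
    rw [hγc' d, hγ']
  -- the pulled back sections
  have hpV := pullSec_family_ne_zero i L' hL' _ hvL'0
  have hpV' := pullSec_family_ne_zero i' L hL _ hvL0
  obtain ⟨G₁, hG₁⟩ := exists_cycle_c1CapFun (fun d => δ (i d)) hDs.2.2 _ hM₁ γc
    (fun d => pullSec i d L' (Cyc.gysinChoice L' s' w' (i d))) hpV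
  obtain ⟨G₂, hG₂⟩ := exists_cycle_c1CapFun (fun d => δ (i' d)) hD's.2.2 _ hM₂ γc'
    (fun d => pullSec i' d L (Cyc.gysinChoice L s w (i' d))) hpV'
  obtain ⟨Z₁, hZ₁⟩ := exists_restrict (pullback.fst i i') G₁
  obtain ⟨Z₂, hZ₂⟩ := exists_restrict (pullback.snd i i') G₂
  -- step 1: compare the sections
  have hu₁ := Groth.Agent.Lib.helper16.GysinFlat.gysinChoice_ne_zero
    ((Scheme.Modules.pullback i).obj L') σ' w₁ hw₁
  have hu₂ := Groth.Agent.Lib.helper16.GysinFlat.gysinChoice_ne_zero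
    ((Scheme.Modules.pullback i').obj L) σ w₂ hw₂
  have s1 : Cyc.RatEquiv (fun z => δ (i (pullback.fst i i' z))) (k - 2) ζ₁ Z₁ :=
    ratEquiv_c1CapFun_restrict_of_sections (pullback.fst i i') (fun d => δ (i d)) hDs _ hM₁
      (k - 2) γc hγck _ _ hu₁ hpV
      (fun d hd z => Groth.Agent.Lib.helper16.GysinFlat.secDivFun_gysin_pull_eq i i'
        (fun d => δ (i d)) L' hL' s' hD' σ' hσ' w' w₁ hw₁ d hd z)
      ζ₁ Z₁ (fun z => by rw [h₁ z, hγfun]) (fun z => by rw [hZ₁ z, hG₁])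
  -- the symmetric square
  have hσsym : Cyc.IsZeroSchemeOf (pullback.fst i' i) ((Scheme.Modules.pullback i').obj L) σ := by
    apply isZeroSchemeOf_of_iso_comp (pullbackSymmetry i i')
    rw [pullbackSymmetry_hom_comp_fst]
    exact hσ
  have hsymz : ∀ z : ↥(pullback i i'),
      pullback.fst i' i ((pullbackSymmetry i i').hom z) = pullback.snd i i' z := by
    intro z
    rw [← Scheme.Hom.comp_apply, pullbackSymmetry_hom_comp_fst]
  have hrange_sym : Set.range (pullback.fst i' i) = Set.range (pullback.snd i i') := by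
    rw [hσsym.1, hσ.1]
  have s2' : Cyc.RatEquiv (fun z => δ (i' (pullback.snd i i' z))) (k - 2) ζ₂ Z₂ :=
    ratEquiv_c1CapFun_restrict_of_sections (pullback.snd i i') (fun d => δ (i' d)) hD's _ hM₂
      (k - 2) γc' hγck' _ _ hu₂ hpV'
      (fun d hd z => by
        rw [← hsymz z]
        exact Groth.Agent.Lib.helper16.GysinFlat.secDivFun_gysin_pull_eq i' i
          (fun d => δ (i' d)) L hL s hD σ hσsym w w₂ hw₂ d (by rw [hrange_sym]; exact hd) _)
      ζ₂ Z₂ (fun z => by rw [h₂ z, hγfun']) (fun z => by rw [hZ₂ z, hG₂])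
  have hcond : ∀ z : ↥(pullback i i'), i' (pullback.snd i i' z) = i (pullback.fst i i' z) := by
    intro z
    rw [← Scheme.Hom.comp_apply, ← Scheme.Hom.comp_apply, pullback.condition]
  have hδeq : (fun z : ↥(pullback i i') => δ (i' (pullback.snd i i' z))) =
      fun z => δ (i (pullback.fst i i' z)) := funext fun z => by rw [hcond z]
  have s2 : Cyc.RatEquiv (fun z => δ (i (pullback.fst i i' z))) (k - 2) ζ₂ Z₂ := hδeq ▸ s2'
  -- step 2: push forward to `X`
  have m₁ := map_c1CapFun_pullSec (fun d => δ (i d)) δ hDs hX i hδi L' hL'c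
    (fun d => pullSec i d L' (Cyc.gysinChoice L' s' w' (i d))) hpV γc _ hvL'0 G₁ hG₁
  have m₂ := map_c1CapFun_pullSec (fun d => δ (i' d)) δ hD's hX i' hδi' L hLc
    (fun d => pullSec i' d L (Cyc.gysinChoice L s w (i' d))) hpV' γc' _ hvL0 G₂ hG₂
  rw [hmapγ] at m₁
  rw [hmapγ'] at m₂
  -- step 3: the commutation on `X`
  have hri : IsClosed (Set.range i) := i.isClosedEmbedding.isClosed_range
  have hri' : IsClosed (Set.range i') := i'.isClosedEmbedding.isClosed_range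
  have hIn := ratEquivZeroIn_c1_comm δ hX L L' hL hL' s s' _ hvL0
    (gysinChoice_eq_of_ne_zero L s w) _ hvL'0 (gysinChoice_eq_of_ne_zero L' s' w')
    (by rw [← hD.1, ← hD'.1]; exact hri.inter hri') (k - 2) α
    (by rw [show k - 2 + 2 = k by ring]; exact hα)
  rw [← hD.1, ← hD'.1] at hIn
  have hp : Set.range i ∩ Set.range i' ⊆ Set.range (pullback.fst i i' ≫ i) := by
    rintro x ⟨⟨d, rfl⟩, ⟨d', hd'⟩⟩
    obtain ⟨z, hz1, -⟩ := Scheme.Pullback.exists_preimage_pullback (f := i) (g := i') d d' hd'.symm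
    exact ⟨z, by rw [Scheme.Hom.comp_apply, hz1]⟩
  have s3 : Cyc.RatEquivZero (fun z => δ (i (pullback.fst i i' z))) (k - 2) (Z₁ - Z₂) := by
    refine ratEquivZero_of_ratEquivZeroIn_range (pullback.fst i i' ≫ i) δ hδ (k - 2) _
      (RatEquivZeroIn.mono hIn hp) (Z₁ - Z₂) ?_
    intro z
    have hlhs : (Z₁ - Z₂) z = Z₁ z - Z₂ z := by
      rw [Function.locallyFinsuppWithin.coe_sub]
      rfl
    rw [hlhs, hZ₁ z, hZ₂ z,
      ← map_apply i (fun d => δ (i d)) δ (fun _ => rfl) G₁ (pullback.fst i i' z),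
      ← map_apply i' (fun d => δ (i' d)) δ (fun _ => rfl) G₂ (pullback.snd i i' z), m₁, m₂,
      hcond z]
    rfl
  have heq : ζ₁ - ζ₂ = ((ζ₁ - Z₁) + (Z₁ - Z₂)) + (-(ζ₂ - Z₂)) := by abel
  unfold Cyc.RatEquiv at s1 s2 ⊢
  rw [heq]
  exact Groth.Agent.Lib.helper2.AffB.ratEquivZero_add _ _ _ _
    (Groth.Agent.Lib.helper2.AffB.ratEquivZero_add _ _ _ _ s1 s3)
    (ratEquivZero_neg _ _ _ s2)

end main

end Groth.Agent.Lib.helper2.Gys
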