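import Groth.Agent.Lib.Helper2.H90c
import Groth.Agent.Lib.Helper12.RedNorm
import Groth.Prelude.Def_Curves

/-! Galois equivariance of the reduced norm and H¹ of the norm-one group (helper2). -/

universe u v w
open scoped TensorProduct
attribute [local instance] CSAGal.tensorAction GpH1.unitsAction

namespace Groth.Agent.Lib.helper2.H90N

open Groth.Agent.Lib.helper2.H90

section Basic

variable {k : Type u} [Field k] {K : Type v} [Field K] [Algebra k K]
  {A : Type w} [Ring A] [Algebra k A]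

/-- the splitting twisted by a Galois automorphism -/
noncomputable def twistSplit {n : ℕ} (φ : K ⊗[k] A ≃ₐ[K] Matrix (Fin n) (Fin n) K)
    (σ : K ≃ₐ[k] K) : K ⊗[k] A ≃ₐ[K] Matrix (Fin n) (Fin n) K :=
  AlgEquiv.ofRingEquiv
    (f := ((MulSemiringAction.toRingEquiv (K ≃ₐ[k] K) (K ⊗[k] A) σ).trans φ.toRingEquiv).trans
      (RingEquiv.mapMatrix (σ.symm : K ≃+* K)))
    (by
      intro c
      change ((φ (σ • ((algebraMap K (K ⊗[k] A)) c))).map (σ.symm : K → K)) = _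
      have h1 : algebraMap K (K ⊗[k] A) c = c ⊗ₜ[k] (1 : A) := rfl
      rw [h1, smul_tmul]
      have h2 : (σ c) ⊗ₜ[k] (1 : A) = algebraMap K (K ⊗[k] A) (σ c) := rfl
      rw [h2, φ.commutes]
      ext i j
      simp only [Matrix.map_apply, Matrix.algebraMap_matrix_apply]
      split_ifs <;> simp)

theorem twistSplit_apply {n : ℕ} (φ : K ⊗[k] A ≃ₐ[K] Matrix (Fin n) (Fin n) K)
    (σ : K ≃ₐ[k] K) (t : K ⊗[k] A) :
    twistSplit φ σ t = (φ (σ • t)).map (σ.symm : K → K) := rfl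

variable [FiniteDimensional k A]

theorem NK_eq_det (NK : (K ⊗[k] A) →* K) (hNK : CSAGal.IsRedNorm K (K ⊗[k] A) NK)
    {n : ℕ} (hn : n ≠ 0) (φ : K ⊗[k] A ≃ₐ[K] Matrix (Fin n) (Fin n) K) (t : K ⊗[k] A) :
    NK t = (φ t).det := by
  haveI : NeZero n := ⟨hn⟩
  haveI : Nontrivial (K ⊗[k] A) := φ.symm.injective.nontrivial
  have h := Groth.Agent.Lib.helper12.RedNorm.isRedNorm_eq_det K (K ⊗[k] A) NK hNK K n
    ((Algebra.TensorProduct.lid K (K ⊗[k] A)).trans φ) t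
  simpa using h

theorem NK_smul (NK : (K ⊗[k] A) →* K) (hNK : CSAGal.IsRedNorm K (K ⊗[k] A) NK)
    {n : ℕ} (hn : n ≠ 0) (φ : K ⊗[k] A ≃ₐ[K] Matrix (Fin n) (Fin n) K) (σ : K ≃ₐ[k] K)
    (t : K ⊗[k] A) : NK (σ • t) = σ (NK t) := by
  have h1 := NK_eq_det NK hNK hn (twistSplit φ σ) t
  rw [twistSplit_apply] at h1
  have h2 := NK_eq_det NK hNK hn φ (σ • t)
  have h3 : ((φ (σ • t)).map (σ.symm : K → K)).det = σ.symm ((φ (σ • t)).det) := by
    have := RingHom.map_det (σ.symm : K ≃+* K).toRingHom (φ (σ • t))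
    exact this.symm
  rw [h1, h3, ← h2, AlgEquiv.apply_symm_apply]

theorem N_eq [Nontrivial A] (N : A →* k) (hN : CSAGal.IsRedNorm k A N)
    (NK : (K ⊗[k] A) →* K) (hNK : CSAGal.IsRedNorm K (K ⊗[k] A) NK)
    {n : ℕ} (hn : n ≠ 0) (φ : K ⊗[k] A ≃ₐ[K] Matrix (Fin n) (Fin n) K) (a : A) :
    algebraMap k K (N a) = NK ((1 : K) ⊗ₜ[k] a) := by
  rw [NK_eq_det NK hNK hn φ]
  exact Groth.Agent.Lib.helper12.RedNorm.isRedNorm_eq_det k A N hN K n φ a

theorem repr_smul {ι : Type*} (b : Module.Basis ι k A) (σ : K ≃ₐ[k] K) (t : K ⊗[k] A) (i : ι) :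
    (Algebra.TensorProduct.basis K b).repr (σ • t) i =
      σ ((Algebra.TensorProduct.basis K b).repr t i) := by
  induction t using TensorProduct.induction_on with
  | zero => simp
  | tmul x a =>
    rw [smul_tmul, Algebra.TensorProduct.basis_repr_tmul, Algebra.TensorProduct.basis_repr_tmul]
    simp
  | add x y hx hy =>
    rw [smul_add, map_add, map_add, Finsupp.add_apply, Finsupp.add_apply, hx, hy, map_add]

variable [FiniteDimensional k K] [IsGalois k K]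

theorem exists_of_invariant (t : K ⊗[k] A) (ht : ∀ σ : K ≃ₐ[k] K, σ • t = t) :
    ∃ a : A, t = (1 : K) ⊗ₜ[k] a := by
  classical
  let b := Module.finBasis k A
  let B := Algebra.TensorProduct.basis K b
  have h1 : ∀ i, ∃ c : k, algebraMap k K c = B.repr t i := by
    intro i
    have := (IsGalois.mem_range_algebraMap_iff_fixed (F := k) (E := K) (B.repr t i)).2 (by
      intro σ
      have h := repr_smul b σ t i
      rw [ht σ] at h
      exact h.symm)
    exact this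
  choose c hc using h1
  refine ⟨∑ i, c i • b i, ?_⟩
  rw [TensorProduct.tmul_sum]
  conv_lhs => rw [← B.sum_repr t]
  apply Finset.sum_congr rfl
  intro i _
  rw [← hc i, Algebra.TensorProduct.basis_apply, TensorProduct.tmul_smul,
    algebraMap_smul]

theorem exists_unit_of_invariant (y : (K ⊗[k] A)ˣ) (hy : ∀ σ : K ≃ₐ[k] K, σ • y = y) :
    ∃ x : Aˣ, (y : K ⊗[k] A) = (1 : K) ⊗ₜ[k] (x : A) := by
  have hinj : Function.Injective (Algebra.TensorProduct.includeRight : A →ₐ[k] K ⊗[k] A) :=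
    Algebra.TensorProduct.includeRight_injective (algebraMap k K).injective
  obtain ⟨a, ha⟩ := exists_of_invariant (y : K ⊗[k] A) (fun σ => by
    have := congrArg (fun u : (K ⊗[k] A)ˣ => (u : K ⊗[k] A)) (hy σ)
    exact this)
  obtain ⟨a', ha'⟩ := exists_of_invariant ((y⁻¹ : (K ⊗[k] A)ˣ) : K ⊗[k] A) (fun σ => by
    have h1 : σ • y⁻¹ = y⁻¹ := by rw [smul_inv', hy σ]
    have := congrArg (fun u : (K ⊗[k] A)ˣ => (u : K ⊗[k] A)) h1
    exact this)
  have h1 : a * a' = 1 := by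
    apply hinj
    change (1 : K) ⊗ₜ[k] (a * a') = (1 : K) ⊗ₜ[k] (1 : A)
    have : (1 : K) ⊗ₜ[k] (a * a') = ((1 : K) ⊗ₜ[k] a) * ((1 : K) ⊗ₜ[k] a') := by
      rw [Algebra.TensorProduct.tmul_mul_tmul, one_mul]
    rw [this, ← ha, ← ha', Units.mul_inv]
    rfl
  have h2 : a' * a = 1 := by
    apply hinj
    change (1 : K) ⊗ₜ[k] (a' * a) = (1 : K) ⊗ₜ[k] (1 : A)
    have : (1 : K) ⊗ₜ[k] (a' * a) = ((1 : K) ⊗ₜ[k] a') * ((1 : K) ⊗ₜ[k] a) := by
      rw [Algebra.TensorProduct.tmul_mul_tmul, one_mul]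
    rw [this, ← ha, ← ha', Units.inv_mul]
    rfl
  exact ⟨⟨a, a', h1, h2⟩, ha⟩

theorem main [Nontrivial A] (hA : Curves.Splits k A K)
    (N : A →* k) (hN : CSAGal.IsRedNorm k A N)
    (NK : (K ⊗[k] A) →* K) (hNK : CSAGal.IsRedNorm K (K ⊗[k] A) NK) :
    (∀ a : GpH1.OneCocycle (K ≃ₐ[k] K) (K ⊗[k] A)ˣ, (∀ σ, NK (a σ : K ⊗[k] A) = 1) →
        ∃ (c : kˣ) (b : (K ⊗[k] A)ˣ), NK (b : K ⊗[k] A) = algebraMap k K (c : k) ∧
          ∀ σ : K ≃ₐ[k] K, a σ = b⁻¹ * σ • b) ∧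
    (∀ (c c' : kˣ) (b b' : (K ⊗[k] A)ˣ),
        NK (b : K ⊗[k] A) = algebraMap k K (c : k) → NK (b' : K ⊗[k] A) = algebraMap k K (c' : k) →
        ((∃ s : (K ⊗[k] A)ˣ, NK (s : K ⊗[k] A) = 1 ∧
            ∀ σ : K ≃ₐ[k] K, b'⁻¹ * σ • b' = s⁻¹ * (b⁻¹ * σ • b) * σ • s) ↔
          ∃ x : Aˣ, (c' : k) = N (x : A) * (c : k))) := by
  obtain ⟨n, hn, ⟨φ⟩⟩ := hA
  -- the norm on units
  let NU : (K ⊗[k] A)ˣ →* Kˣ := Units.map NK
  have hNU : ∀ u : (K ⊗[k] A)ˣ, ((NU u : Kˣ) : K) = NK (u : K ⊗[k] A) := fun _ => rfl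
  have hNUσ : ∀ (σ : K ≃ₐ[k] K) (u : (K ⊗[k] A)ˣ), ((NU (σ • u) : Kˣ) : K) = σ (NU u : K) := by
    intro σ u
    exact NK_smul NK hNK hn φ σ _
  constructor
  · intro a ha
    obtain ⟨b, hb⟩ := P_of_findim k K A a
    have hfix : ∀ σ : K ≃ₐ[k] K, σ ((NU b : Kˣ) : K) = (NU b : Kˣ) := by
      intro σ
      have h1 : NU (a σ) = 1 := Units.ext (ha σ)
      rw [hb σ, map_mul, map_inv, inv_mul_eq_one] at h1
      rw [← hNUσ, ← h1]
    obtain ⟨c₀, hc₀⟩ := (IsGalois.mem_range_algebraMap_iff_fixed (F := k) (E := K) _).2 hfix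
    have hc₀ne : c₀ ≠ 0 := by
      rintro rfl
      rw [map_zero] at hc₀
      exact (NU b).ne_zero hc₀.symm
    exact ⟨Units.mk0 c₀ hc₀ne, b, hc₀.symm, hb⟩
  · intro c c' b b' hb hb'
    constructor
    · rintro ⟨s, hs, hrel⟩
      have hinv : ∀ σ : K ≃ₐ[k] K, σ • (b * s * b'⁻¹) = b * s * b'⁻¹ := by
        intro σ
        rw [smul_mul', smul_mul', smul_inv']
        have h' : σ • b * σ • s = b * s * b'⁻¹ * σ • b' := by
          have := hrel σ
          calc σ • b * σ • s = b * s * (s⁻¹ * (b⁻¹ * σ • b) * σ • s) := by group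
            _ = b * s * (b'⁻¹ * σ • b') := by rw [← this]
            _ = _ := by group
        rw [h']
        group
      obtain ⟨x, hx⟩ := exists_unit_of_invariant _ hinv
      refine ⟨x⁻¹, ?_⟩
      have h1 : ((NU (b * s * b'⁻¹) : Kˣ) : K) = algebraMap k K (N (x : A)) := by
        rw [hNU, hx, N_eq N hN NK hNK hn φ]
      rw [map_mul, map_mul, map_inv] at h1
      have h2 : NU s = 1 := Units.ext hs
      rw [h2, mul_one] at h1
      have h3 : ((NU b : Kˣ) : K) = algebraMap k K (N (x : A)) * ((NU b' : Kˣ) : K) := by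
        rw [← h1, Units.val_mul, mul_assoc, ← Units.val_mul, inv_mul_cancel, Units.val_one, mul_one]
      rw [hNU, hNU, hb, hb', ← map_mul] at h3
      have h4 := (algebraMap k K).injective h3
      rw [h4, ← mul_assoc, ← map_mul, ← Units.val_mul, inv_mul_cancel, Units.val_one, map_one,
        one_mul]
    · rintro ⟨x, hx⟩
      let y : (K ⊗[k] A)ˣ :=
        Units.map (Algebra.TensorProduct.includeRight : A →ₐ[k] K ⊗[k] A).toMonoidHom x⁻¹
      have hy : ∀ σ : K ≃ₐ[k] K, σ • y = y := by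
        intro σ
        apply Units.ext
        change σ • ((1 : K) ⊗ₜ[k] ((x⁻¹ : Aˣ) : A)) = (1 : K) ⊗ₜ[k] ((x⁻¹ : Aˣ) : A)
        rw [smul_tmul, map_one]
      have hNy : ((NU y : Kˣ) : K) = algebraMap k K (N ((x⁻¹ : Aˣ) : A)) := by
        rw [hNU]
        exact (N_eq N hN NK hNK hn φ _).symm
      refine ⟨b⁻¹ * y * b', ?_, fun σ => ?_⟩
      · rw [← hNU, map_mul, map_mul, map_inv, Units.val_mul, Units.val_mul, hNy, hNU b', hb', hx]
        have h5 : (((NU b)⁻¹ : Kˣ) : K) = (algebraMap k K (c : k))⁻¹ := by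
          rw [Units.val_inv_eq_inv_val, hNU, hb]
        rw [h5, map_mul]
        have hcne : algebraMap k K (c : k) ≠ 0 := by
          rw [Ne, map_eq_zero]; exact c.ne_zero
        have h6 : algebraMap k K (N ((x⁻¹ : Aˣ) : A)) * algebraMap k K (N (x : A)) = 1 := by
          rw [← map_mul, ← map_mul, ← Units.val_mul, inv_mul_cancel, Units.val_one, map_one, map_one]
        calc (algebraMap k K (c : k))⁻¹ * algebraMap k K (N ((x⁻¹ : Aˣ) : A)) *
              (algebraMap k K (N (x : A)) * algebraMap k K (c : k))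
            = (algebraMap k K (c : k))⁻¹ * (algebraMap k K (N ((x⁻¹ : Aˣ) : A)) *
              algebraMap k K (N (x : A))) * algebraMap k K (c : k) := by ring
          _ = 1 := by rw [h6, mul_one, inv_mul_cancel₀ hcne]
      · rw [smul_mul', smul_mul', smul_inv', hy σ]
        group

end Basic

end Groth.Agent.Lib.helper2.H90N
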