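import Groth.Prelude.Def_GSzH1
import Groth.Prelude.Def_GSzCSA
import Mathlib

/-! Hilbert 90 for `(K ⊗ A)ˣ` (helper2), part a (dual basis, averaging operator). -/

universe u v w
open scoped TensorProduct
attribute [local instance] CSAGal.tensorAction GpH1.unitsAction

namespace Groth.Agent.Lib.helper2.H90


section DualBasis

variable (k : Type u) [Field k] (K : Type v) [Field K] [Algebra k K] [FiniteDimensional k K]

theorem exists_pair (g : K ≃ₐ[k] K) :
    ∃ x y : Bool → K, (∑ i, x i * y i = 1) ∧ (g ≠ 1 → ∑ i, x i * g (y i) = 0) := by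
  by_cases hg : g = 1
  · exact ⟨fun b => if b then 1 else 0, fun b => if b then 1 else 0, by simp, fun h => (h hg).elim⟩
  · have : ∃ c : K, g c ≠ c := by
      by_contra hcon
      push_neg at hcon
      exact hg (AlgEquiv.ext hcon)
    obtain ⟨c, hc⟩ := this
    have hne : c - g c ≠ 0 := sub_ne_zero.2 (Ne.symm hc)
    refine ⟨fun b => if b then (c - g c)⁻¹ else -((c - g c)⁻¹ * g c),
      fun b => if b then c else 1, ?_, fun _ => ?_⟩
    · simp only [Fintype.sum_bool, if_true, if_false, Bool.false_eq_true]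
      field_simp
      ring
    · simp only [Fintype.sum_bool, if_true, if_false, Bool.false_eq_true, map_one]
      ring

theorem exists_dualBasis :
    ∃ (I : Type v) (_ : Fintype I) (x y : I → K),
      (∑ i, x i * y i = 1) ∧ ∀ e : K ≃ₐ[k] K, e ≠ 1 → ∑ i, x i * e (y i) = 0 := by
  classical
  choose x y h1 h2 using exists_pair k K
  refine ⟨(K ≃ₐ[k] K) → Bool, inferInstance, fun J => ∏ g, x g (J g), fun J => ∏ g, y g (J g), ?_⟩
  have key : ∀ e : K ≃ₐ[k] K, ∑ J : ((K ≃ₐ[k] K) → Bool), (∏ g, x g (J g)) * e (∏ g, y g (J g)) =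
      ∏ g, ∑ j, x g j * e (y g j) := by
    intro e
    rw [Finset.prod_univ_sum, ← Fintype.piFinset_univ]
    apply Finset.sum_congr rfl
    intro J _
    rw [map_prod, Finset.prod_mul_distrib]
  constructor
  · have := key 1
    simp only [AlgEquiv.one_apply] at this
    rw [this]
    exact Finset.prod_eq_one (fun g _ => h1 g)
  · intro e he
    rw [key e]
    exact Finset.prod_eq_zero (Finset.mem_univ e) (h2 e he)

end DualBasis



section Core

variable {k : Type u} [Field k] {K : Type v} [Field K] [Algebra k K]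
  {A : Type w} [Ring A] [Algebra k A]

theorem smul_tmul (σ : K ≃ₐ[k] K) (x : K) (a : A) :
    σ • (x ⊗ₜ[k] a) = (σ x) ⊗ₜ[k] a := by
  rw [CSAGal.smul_eq_map, Algebra.TensorProduct.map_tmul]
  rfl

theorem smul_smul_K (σ : K ≃ₐ[k] K) (c : K) (t : K ⊗[k] A) :
    σ • (c • t) = σ c • (σ • t) := by
  induction t using TensorProduct.induction_on with
  | zero => simp
  | tmul x a =>
    rw [TensorProduct.smul_tmul', smul_tmul, smul_tmul, TensorProduct.smul_tmul', smul_eq_mul,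
      smul_eq_mul, map_mul]
  | add x y hx hy => rw [smul_add, smul_add, smul_add, smul_add, hx, hy]

theorem smul_includeRight (σ : K ≃ₐ[k] K) (a : A) :
    σ • ((1 : K) ⊗ₜ[k] a) = (1 : K) ⊗ₜ[k] a := by
  rw [smul_tmul, map_one]

variable [FiniteDimensional k K]

/-- the averaging operator attached to a cocycle -/
noncomputable def T (a : GpH1.OneCocycle (K ≃ₐ[k] K) (K ⊗[k] A)ˣ) (c : K ⊗[k] A) : K ⊗[k] A :=
  ∑ τ : K ≃ₐ[k] K, τ • c * ((a τ)⁻¹ : (K ⊗[k] A)ˣ)

theorem smul_T (a : GpH1.OneCocycle (K ≃ₐ[k] K) (K ⊗[k] A)ˣ) (σ : K ≃ₐ[k] K) (c : K ⊗[k] A) :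
    σ • T a c = T a c * (a σ : K ⊗[k] A) := by
  unfold T
  rw [Finset.smul_sum, Finset.sum_mul]
  rw [← Fintype.sum_equiv (Equiv.mulLeft σ) (fun τ => σ • (τ • c * ((a τ)⁻¹ : (K ⊗[k] A)ˣ)))
    (fun τ => τ • c * ((a τ)⁻¹ : (K ⊗[k] A)ˣ) * (a σ : K ⊗[k] A))]
  intro τ
  simp only [Equiv.coe_mulLeft]
  rw [smul_mul', smul_smul, mul_assoc]
  congr 1
  have h1 : a (σ * τ) = a σ * σ • a τ := a.2 σ τ
  have h2 : ((a (σ * τ))⁻¹ : (K ⊗[k] A)ˣ) * a σ = σ • (a τ)⁻¹ := by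
    rw [h1, mul_inv_rev, mul_assoc, inv_mul_cancel, mul_one, smul_inv']
  have h3 := congrArg (fun u : (K ⊗[k] A)ˣ => (u : K ⊗[k] A)) h2
  simp only [Units.val_mul] at h3
  rw [h3]
  rfl

theorem T_smul_of_mem (a : GpH1.OneCocycle (K ≃ₐ[k] K) (K ⊗[k] A)ˣ) (w : K ⊗[k] A)
    (hw : ∀ τ : K ≃ₐ[k] K, τ • w = w * (a τ : K ⊗[k] A)) (μ : K) :
    T a (μ • w) = (∑ τ : K ≃ₐ[k] K, τ μ) • w := by
  unfold T
  rw [Finset.sum_smul]
  apply Finset.sum_congr rfl
  intro τ _
  rw [smul_smul_K, hw τ, smul_mul_assoc, mul_assoc, Units.mul_inv, mul_one]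

theorem T_smul_K (a : GpH1.OneCocycle (K ≃ₐ[k] K) (K ⊗[k] A)ˣ) (c : K) (t : K ⊗[k] A) :
    T a (c • t) = ∑ τ : K ≃ₐ[k] K, τ c • (τ • t * ((a τ)⁻¹ : (K ⊗[k] A)ˣ)) := by
  unfold T
  apply Finset.sum_congr rfl
  intro τ _
  rw [smul_smul_K, smul_mul_assoc]

theorem cocycle_one (a : GpH1.OneCocycle (K ≃ₐ[k] K) (K ⊗[k] A)ˣ) : a 1 = 1 := by
  have h := a.2 1 1
  rw [mul_one, one_smul] at h
  exact (mul_eq_left.1 h.symm)

/-- reconstruction from the dual basis -/
theorem reconstruct (a : GpH1.OneCocycle (K ≃ₐ[k] K) (K ⊗[k] A)ˣ)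
    {I : Type v} [Fintype I] (x y : I → K) (h1 : ∑ i, x i * y i = 1)
    (h0 : ∀ e : K ≃ₐ[k] K, e ≠ 1 → ∑ i, x i * e (y i) = 0) (m : K ⊗[k] A) :
    ∑ i, x i • T a (y i • m) = m := by
  classical
  simp only [T_smul_K, Finset.smul_sum, smul_smul]
  rw [Finset.sum_comm]
  simp only [← Finset.sum_smul]
  rw [Finset.sum_eq_single (1 : K ≃ₐ[k] K)]
  · simp only [AlgEquiv.one_apply, h1, one_smul, cocycle_one, inv_one, Units.val_one, mul_one]
  · intro e _ he
    rw [h0 e he, zero_smul]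
  · intro h
    exact (h (Finset.mem_univ _)).elim

end Core


end Groth.Agent.Lib.helper2.H90
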