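import Groth.Prelude.Def_GSzH1
import Groth.Prelude.Def_GSzCSA
import Mathlib
import Groth.Agent.Lib.Helper2.H90a
/-! Hilbert 90 for `(K ⊗ A)ˣ` (helper2), part b (simple algebras). -/

universe u v w
open scoped TensorProduct
attribute [local instance] CSAGal.tensorAction GpH1.unitsAction

namespace Groth.Agent.Lib.helper2.H90

section Simple

variable {k : Type u} [Field k] {K : Type v} [Field K] [Algebra k K]
  {A : Type w} [Ring A] [Algebra k A] [FiniteDimensional k K]

theorem T_add (a : GpH1.OneCocycle (K ≃ₐ[k] K) (K ⊗[k] A)ˣ) (c d : K ⊗[k] A) :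
    T a (c + d) = T a c + T a d := by
  unfold T
  rw [← Finset.sum_add_distrib]
  apply Finset.sum_congr rfl
  intro τ _
  rw [smul_add, add_mul]

theorem T_zero (a : GpH1.OneCocycle (K ≃ₐ[k] K) (K ⊗[k] A)ˣ) : T a 0 = 0 := by
  unfold T
  simp

theorem T_sum (a : GpH1.OneCocycle (K ≃ₐ[k] K) (K ⊗[k] A)ˣ) {ι : Type*} (s : Finset ι)
    (f : ι → K ⊗[k] A) : T a (∑ i ∈ s, f i) = ∑ i ∈ s, T a (f i) := by
  classical
  induction s using Finset.induction_on with
  | empty => simp [T_zero]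
  | insert i s hi ih => rw [Finset.sum_insert hi, Finset.sum_insert hi, T_add, ih]

/-- `A` acts on `K ⊗ A` by left multiplication through the right factor -/
@[reducible] noncomputable def modA : Module A (K ⊗[k] A) :=
  Module.compHom _ (Algebra.TensorProduct.includeRight (R := k) (A := K) (B := A)).toRingHom

attribute [local instance] modA

theorem smulA_def (α : A) (t : K ⊗[k] A) : α • t = ((1 : K) ⊗ₜ[k] α) * t := rfl

instance : IsScalarTower k A (K ⊗[k] A) where
  smul_assoc c α t := by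
    rw [smulA_def, smulA_def, TensorProduct.tmul_smul, smul_mul_assoc]

/-- twisted invariants -/
noncomputable def Wsub (a : GpH1.OneCocycle (K ≃ₐ[k] K) (K ⊗[k] A)ˣ) : Submodule A (K ⊗[k] A) where
  carrier := {w | ∀ τ : K ≃ₐ[k] K, τ • w = w * (a τ : K ⊗[k] A)}
  add_mem' := by
    intro x y hx hy τ
    rw [smul_add, hx τ, hy τ, add_mul]
  zero_mem' := by
    intro τ
    simp
  smul_mem' := by
    intro α x hx τ
    rw [smulA_def, smul_mul', smul_includeRight, hx τ, mul_assoc]

theorem mem_Wsub (a : GpH1.OneCocycle (K ≃ₐ[k] K) (K ⊗[k] A)ˣ) (w : K ⊗[k] A) :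
    w ∈ Wsub a ↔ ∀ τ : K ≃ₐ[k] K, τ • w = w * (a τ : K ⊗[k] A) := Iff.rfl

theorem T_mem (a : GpH1.OneCocycle (K ≃ₐ[k] K) (K ⊗[k] A)ˣ) (c : K ⊗[k] A) : T a c ∈ Wsub a :=
  fun τ => smul_T a τ c

variable [IsGalois k K]

theorem sum_aut_eq_trace (μ : K) : ∑ τ : K ≃ₐ[k] K, τ μ = algebraMap k K (Algebra.trace k K μ) :=
  (trace_eq_sum_automorphisms μ).symm

variable [FiniteDimensional k A]

theorem finrank_Wsub_le (a : GpH1.OneCocycle (K ≃ₐ[k] K) (K ⊗[k] A)ˣ) :
    Module.finrank k (Wsub a) ≤ Module.finrank k A := by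
  classical
  let W := Wsub a
  haveI : Module.Finite k W :=
    Module.Finite.of_injective (W.subtype.restrictScalars k) W.subtype_injective
  let b := Module.finBasis k W
  have hli : LinearIndependent K (fun j => ((b j : W) : K ⊗[k] A)) := by
    rw [Fintype.linearIndependent_iff]
    intro g hg j
    have key : ∀ μ : K, ∀ j, Algebra.trace k K (μ * g j) = 0 := by
      intro μ
      have h1 : T a (μ • ∑ j, g j • ((b j : W) : K ⊗[k] A)) = 0 := by rw [hg, smul_zero, T_zero]
      rw [Finset.smul_sum, T_sum] at h1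
      have h2 : ∀ j, T a (μ • g j • ((b j : W) : K ⊗[k] A)) =
          Algebra.trace k K (μ * g j) • ((b j : W) : K ⊗[k] A) := by
        intro j
        rw [smul_smul, T_smul_of_mem a _ ((b j).2), sum_aut_eq_trace, algebraMap_smul]
      simp only [h2] at h1
      have h3 : ∑ j, Algebra.trace k K (μ * g j) • b j = 0 := by
        apply Subtype.ext
        rw [Submodule.coe_sum]
        simpa using h1
      exact Fintype.linearIndependent_iff.1 b.linearIndependent _ h3
    have hnd := traceForm_nondegenerate k K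
    apply hnd.1 (g j)
    intro μ
    rw [Algebra.traceForm_apply, mul_comm]
    exact key μ j
  have h4 := hli.fintype_card_le_finrank
  rw [Fintype.card_fin, Module.finrank_baseChange] at h4
  exact h4

theorem exists_surjective_of_simple [IsSimpleRing A]
    (a : GpH1.OneCocycle (K ≃ₐ[k] K) (K ⊗[k] A)ˣ) :
    ∃ φ : A →ₗ[A] Wsub a, Function.Surjective φ := by
  classical
  haveI : IsArtinianRing A := IsArtinianRing.of_finite k A
  let W := Wsub a
  haveI : Module.Finite k W :=
    Module.Finite.of_injective (W.subtype.restrictScalars k) W.subtype_injective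
  haveI : Module.Finite A W := Module.Finite.of_restrictScalars_finite k A W
  obtain ⟨S₀, hS₀⟩ := IsAtomic.exists_atom (Submodule A A)
  rw [← isSimpleModule_iff_isAtom] at hS₀
  have hA : IsIsotypicOfType A A S₀ := IsSimpleRing.isIsotypic A A S₀
  have htype : ∀ (M : Type (max v w)) [AddCommGroup M] [Module A M], IsIsotypicOfType A M S₀ := by
    intro M _ _ m _
    obtain ⟨I, ⟨e⟩⟩ := IsSemisimpleRing.exists_linearEquiv_ideal_of_isSimpleModule A m
    haveI : IsSimpleModule A I := IsSimpleModule.congr e.symm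
    exact ⟨e.trans (hA I).some⟩
  obtain ⟨m, ⟨e₁⟩⟩ := (htype W).linearEquiv_fun
  obtain ⟨n, ⟨e₂⟩⟩ := hA.linearEquiv_fun
  haveI : Nontrivial S₀ := IsSimpleModule.nontrivial A S₀
  haveI : Module.Finite k S₀ :=
    Module.Finite.of_injective (S₀.subtype.restrictScalars k) S₀.subtype_injective
  have hd : 0 < Module.finrank k S₀ := Module.finrank_pos
  have h1 : Module.finrank k W = m * Module.finrank k S₀ := by
    rw [LinearEquiv.finrank_eq (e₁.restrictScalars k), Module.finrank_pi_fintype]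
    simp
  have h2 : Module.finrank k A = n * Module.finrank k S₀ := by
    rw [LinearEquiv.finrank_eq (e₂.restrictScalars k), Module.finrank_pi_fintype]
    simp
  have hmn : m ≤ n := by
    have h3 := finrank_Wsub_le a
    have h3' : Module.finrank k W ≤ Module.finrank k A := h3
    rw [h1, h2] at h3'
    exact Nat.le_of_mul_le_mul_right h3' hd
  refine ⟨e₁.symm.toLinearMap ∘ₗ (LinearMap.funLeft A S₀ (Fin.castLE hmn)) ∘ₗ e₂.toLinearMap, ?_⟩
  rw [LinearMap.coe_comp, LinearMap.coe_comp]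
  refine e₁.symm.surjective.comp (Function.Surjective.comp ?_ e₂.surjective)
  exact LinearMap.funLeft_surjective_of_injective A S₀ _ (Fin.castLE_injective hmn)

theorem exists_coboundary_of_simple [IsSimpleRing A]
    (a : GpH1.OneCocycle (K ≃ₐ[k] K) (K ⊗[k] A)ˣ) :
    ∃ c : (K ⊗[k] A)ˣ, ∀ σ : K ≃ₐ[k] K, a σ = c⁻¹ * σ • c := by
  classical
  obtain ⟨φ, hφ⟩ := exists_surjective_of_simple a
  obtain ⟨I, hI, x, y, h1, h0⟩ := exists_dualBasis k K
  obtain ⟨w, hw⟩ : ∃ w : K ⊗[k] A, w = ((φ 1 : Wsub a) : K ⊗[k] A) := ⟨_, rfl⟩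
  have hwmem : w ∈ Wsub a := hw ▸ (φ 1).2
  have hgen : ∀ w' ∈ Wsub a, ∃ α : A, w' = ((1 : K) ⊗ₜ[k] α) * w := by
    intro w' hw'
    obtain ⟨α, hα⟩ := hφ ⟨w', hw'⟩
    refine ⟨α, ?_⟩
    have h2 : φ α = α • φ 1 := by
      rw [← map_smul, smul_eq_mul, mul_one]
    have h3 := congrArg (fun z : Wsub a => (z : K ⊗[k] A)) (hα.symm.trans h2)
    simp only [Submodule.coe_smul] at h3
    rw [hw]
    exact h3
  choose α hα using fun i => hgen (T a (y i • (1 : K ⊗[k] A))) (T_mem a _)
  have hβ : (∑ i, x i • ((1 : K) ⊗ₜ[k] α i)) * w = 1 := by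
    rw [Finset.sum_mul]
    simp only [smul_mul_assoc, ← hα]
    exact reconstruct a x y h1 h0 1
  haveI : IsArtinianRing (K ⊗[k] A) := IsArtinianRing.of_finite K _
  have hβ' : w * (∑ i, x i • ((1 : K) ⊗ₜ[k] α i)) = 1 := mul_eq_one_comm.1 hβ
  refine ⟨⟨w, _, hβ', hβ⟩, fun σ => ?_⟩
  apply Units.ext
  have hσ : σ • w = w * (a σ : K ⊗[k] A) := hwmem σ
  change (a σ : K ⊗[k] A) = (∑ i, x i • ((1 : K) ⊗ₜ[k] α i)) * (σ • w)
  rw [hσ, ← mul_assoc, hβ, one_mul]

end Simple


end Groth.Agent.Lib.helper2.H90
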