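import Groth.Prelude.Def_GSzH1
import Groth.Prelude.Def_GSzCSA
import Mathlib
import Groth.Agent.Lib.Helper2.H90b
/-! Hilbert 90 for `(K ⊗ A)ˣ` (helper2), part c (transport, nilpotent kernels, final). -/

universe u v w
open scoped TensorProduct
attribute [local instance] CSAGal.tensorAction GpH1.unitsAction

namespace Groth.Agent.Lib.helper2.H90

section Transport

variable (k : Type u) [Field k] (K : Type v) [Field K] [Algebra k K]

/-- the property: every cocycle with values in `(K ⊗ A)ˣ` is a coboundary -/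
def P (A : Type w) [Ring A] [Algebra k A] : Prop :=
  ∀ a : GpH1.OneCocycle (K ≃ₐ[k] K) (K ⊗[k] A)ˣ,
    ∃ c : (K ⊗[k] A)ˣ, ∀ σ : K ≃ₐ[k] K, a σ = c⁻¹ * σ • c

variable {k K}
variable {A : Type w} [Ring A] [Algebra k A] {A' : Type w} [Ring A'] [Algebra k A']

theorem map_equivariant (f : A →ₐ[k] A') (σ : K ≃ₐ[k] K) (t : K ⊗[k] A) :
    Algebra.TensorProduct.map (AlgHom.id k K) f (σ • t) =
      σ • Algebra.TensorProduct.map (AlgHom.id k K) f t := by
  induction t using TensorProduct.induction_on with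
  | zero => simp
  | tmul x a =>
    rw [smul_tmul, Algebra.TensorProduct.map_tmul, Algebra.TensorProduct.map_tmul, smul_tmul]
    rfl
  | add x y hx hy => rw [smul_add, map_add, map_add, smul_add, hx, hy]

/-- push a cocycle along an equivariant ring hom -/
noncomputable def pushCocycle (f : A →ₐ[k] A') (a : GpH1.OneCocycle (K ≃ₐ[k] K) (K ⊗[k] A)ˣ) :
    GpH1.OneCocycle (K ≃ₐ[k] K) (K ⊗[k] A')ˣ :=
  ⟨fun σ => Units.map (Algebra.TensorProduct.map (AlgHom.id k K) f).toMonoidHom (a σ), by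
    intro σ τ
    have h := a.2 σ τ
    change Units.map (Algebra.TensorProduct.map (AlgHom.id k K) f).toMonoidHom (a (σ * τ)) =
      Units.map (Algebra.TensorProduct.map (AlgHom.id k K) f).toMonoidHom (a σ) *
        σ • Units.map (Algebra.TensorProduct.map (AlgHom.id k K) f).toMonoidHom (a τ)
    rw [show a (σ * τ) = a σ * σ • a τ from h, map_mul]
    congr 1
    apply Units.ext
    exact map_equivariant f σ _⟩

theorem pushCocycle_val (f : A →ₐ[k] A') (a : GpH1.OneCocycle (K ≃ₐ[k] K) (K ⊗[k] A)ˣ)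
    (σ : K ≃ₐ[k] K) : ((pushCocycle f a σ : (K ⊗[k] A')ˣ) : K ⊗[k] A') =
      Algebra.TensorProduct.map (AlgHom.id k K) f (a σ : K ⊗[k] A) := rfl

theorem P_of_algEquiv (e : A ≃ₐ[k] A') (h : P k K A') : P k K A := by
  intro a
  obtain ⟨c', hc'⟩ := h (pushCocycle e.toAlgHom a)
  let E := Algebra.TensorProduct.map (AlgHom.id k K) e.toAlgHom
  let E' := Algebra.TensorProduct.map (AlgHom.id k K) e.symm.toAlgHom
  have hEE' : ∀ t, E' (E t) = t := by
    intro t
    change (E'.comp E) t = t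
    have : E'.comp E = AlgHom.id k _ := by
      ext <;> simp [E, E']
    rw [this]; rfl
  have hE'E : ∀ t, E (E' t) = t := by
    intro t
    change (E.comp E') t = t
    have : E.comp E' = AlgHom.id k _ := by
      ext <;> simp [E, E']
    rw [this]; rfl
  refine ⟨Units.map E'.toMonoidHom c', fun σ => ?_⟩
  apply Units.ext
  have h1 := congrArg (fun u : (K ⊗[k] A')ˣ => E' (u : K ⊗[k] A')) (hc' σ)
  simp only [pushCocycle_val, Units.val_mul] at h1
  rw [hEE', map_mul] at h1
  rw [h1, Units.val_mul]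
  congr 1
  exact map_equivariant e.symm.toAlgHom σ _

theorem P_pi {ι : Type} [Fintype ι] [DecidableEq ι] (B : ι → Type w) [∀ i, Ring (B i)]
    [∀ i, Algebra k (B i)] (h : ∀ i, P k K (B i)) : P k K (Π i, B i) := by
  intro a
  choose c hc using fun i => h i (pushCocycle (Pi.evalAlgHom k B i) a)
  let E := Algebra.TensorProduct.piRight k k K B
  have hE : ∀ (t : K ⊗[k] (Π i, B i)) (i : ι),
      E t i = Algebra.TensorProduct.map (AlgHom.id k K) (Pi.evalAlgHom k B i) t := by
    intro t i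
    induction t using TensorProduct.induction_on with
    | zero => simp
    | tmul x f => rfl
    | add x y hx hy => rw [map_add, map_add, Pi.add_apply, hx, hy]
  have hEσ : ∀ (σ : K ≃ₐ[k] K) (t : K ⊗[k] (Π i, B i)) (i : ι), E (σ • t) i = σ • E t i := by
    intro σ t i
    rw [hE, hE, map_equivariant]
  have h1 : E.symm (fun i => ((c i : (K ⊗[k] B i)ˣ) : K ⊗[k] B i)) *
      E.symm (fun i => (((c i)⁻¹ : (K ⊗[k] B i)ˣ) : K ⊗[k] B i)) = 1 := by
    rw [← map_mul, ← map_one E.symm]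
    congr 1
    funext i
    simp
  have h2 : E.symm (fun i => (((c i)⁻¹ : (K ⊗[k] B i)ˣ) : K ⊗[k] B i)) *
      E.symm (fun i => ((c i : (K ⊗[k] B i)ˣ) : K ⊗[k] B i)) = 1 := by
    rw [← map_mul, ← map_one E.symm]
    congr 1
    funext i
    simp
  refine ⟨⟨_, _, h1, h2⟩, fun σ => ?_⟩
  apply Units.ext
  apply E.injective
  funext i
  have h3 := congrArg (fun u : (K ⊗[k] B i)ˣ => (u : K ⊗[k] B i)) (hc i σ)
  simp only [pushCocycle_val, Units.val_mul] at h3
  rw [hE, h3, Units.val_mul, map_mul, Pi.mul_apply]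
  congr 1
  · change _ = E (E.symm _) i
    rw [AlgEquiv.apply_symm_apply]
  · change _ = E (σ • E.symm _) i
    rw [hEσ, AlgEquiv.apply_symm_apply]
    rfl

end Transport



section Nil

variable {k : Type u} [Field k] {K : Type v} [Field K] [Algebra k K]
  {A : Type w} [Ring A] [Algebra k A]

/-- the `k`-span of the tensors `x ⊗ j` with `j ∈ I` -/
def Nsub (I : Ideal A) : Submodule k (K ⊗[k] A) :=
  Submodule.span k {t | ∃ x : K, ∃ j ∈ I, t = x ⊗ₜ[k] j}

theorem Nsub_mul (I I' : Ideal A) :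
    Nsub (k := k) (K := K) I * Nsub I' ≤ Nsub (I * I') := by
  unfold Nsub
  rw [Submodule.span_mul_span]
  apply Submodule.span_le.2
  rintro _ ⟨_, ⟨x, j, hj, rfl⟩, _, ⟨x', j', hj', rfl⟩, rfl⟩
  apply Submodule.subset_span
  refine ⟨x * x', j * j', Submodule.mul_mem_mul hj hj', ?_⟩
  simp [Algebra.TensorProduct.tmul_mul_tmul]

theorem pow_mem_Nsub (J : Ideal A) (t : K ⊗[k] A) (ht : t ∈ Nsub (k := k) (K := K) J)
    (r : ℕ) : t ^ (r + 1) ∈ Nsub (k := k) (K := K) (J ^ (r + 1)) := by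
  induction r with
  | zero =>
    rw [zero_add, pow_one, Submodule.pow_one]
    exact ht
  | succ r ih =>
    rw [pow_succ, Submodule.pow_succ]
    exact Nsub_mul _ _ (Submodule.mul_mem_mul ih ht)

theorem Nsub_eq_bot (I : Ideal A) (h : I = ⊥) : Nsub (k := k) (K := K) I = ⊥ := by
  unfold Nsub
  rw [Submodule.span_eq_bot]
  rintro _ ⟨x, j, hj, rfl⟩
  rw [h, Ideal.mem_bot] at hj
  rw [hj, TensorProduct.tmul_zero]

theorem ker_le_Nsub (J : Ideal A) [J.IsTwoSided] (t : K ⊗[k] A)
    (ht : Algebra.TensorProduct.map (AlgHom.id k K) (Ideal.Quotient.mkₐ k J) t = 0) :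
    t ∈ Nsub (k := k) (K := K) J := by
  have hex : Function.Exact (J.restrictScalars k).subtype (Ideal.Quotient.mkₐ k J).toLinearMap := by
    intro a
    constructor
    · intro h
      have : a ∈ J := Ideal.Quotient.eq_zero_iff_mem.1 h
      exact ⟨⟨a, this⟩, rfl⟩
    · rintro ⟨⟨b, hb⟩, rfl⟩
      exact Ideal.Quotient.eq_zero_iff_mem.2 hb
  have hsurj : Function.Surjective (Ideal.Quotient.mkₐ k J).toLinearMap :=
    Ideal.Quotient.mk_surjective
  have h2 := lTensor_exact K hex hsurj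
  have h3 : t ∈ LinearMap.range (LinearMap.lTensor K (J.restrictScalars k).subtype) := by
    rw [← LinearMap.exact_iff.1 h2]
    exact ht
  have hall : ∀ s : K ⊗[k] (J.restrictScalars k),
      LinearMap.lTensor K (J.restrictScalars k).subtype s ∈ Nsub (k := k) (K := K) J := by
    intro s
    induction s using TensorProduct.induction_on with
    | zero => simp
    | tmul x j =>
      apply Submodule.subset_span
      exact ⟨x, j.1, j.2, rfl⟩
    | add x y hx hy =>
      rw [map_add]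
      exact Submodule.add_mem _ hx hy
  obtain ⟨s, rfl⟩ := h3
  exact hall s

theorem pow_eq_zero_of_ker (J : Ideal A) [J.IsTwoSided] (hJ : IsNilpotent J) :
    ∃ N : ℕ, ∀ t : K ⊗[k] A,
      Algebra.TensorProduct.map (AlgHom.id k K) (Ideal.Quotient.mkₐ k J) t = 0 → t ^ (N + 1) = 0 := by
  obtain ⟨N, hN⟩ := hJ
  refine ⟨N, fun t ht => ?_⟩
  have h1 := pow_mem_Nsub J t (ker_le_Nsub J t ht) N
  have hb : J ^ (N + 1) = ⊥ := by
    rw [Submodule.pow_succ, hN, Submodule.zero_eq_bot, Submodule.bot_mul]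
  rw [Nsub_eq_bot _ hb] at h1
  exact h1

end Nil

-- new material
section Final

variable {k : Type u} [Field k] {K : Type v} [Field K] [Algebra k K]
  {A : Type w} [Ring A] [Algebra k A] {A' : Type w} [Ring A'] [Algebra k A']

theorem map_smul_K (f : A →ₐ[k] A') (c : K) (t : K ⊗[k] A) :
    Algebra.TensorProduct.map (AlgHom.id k K) f (c • t) =
      c • Algebra.TensorProduct.map (AlgHom.id k K) f t := by
  induction t using TensorProduct.induction_on with
  | zero => simp
  | tmul x a =>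
    rw [TensorProduct.smul_tmul', Algebra.TensorProduct.map_tmul, Algebra.TensorProduct.map_tmul,
      TensorProduct.smul_tmul']
    rfl
  | add x y hx hy => rw [smul_add, map_add, map_add, smul_add, hx, hy]

theorem map_surjective_of (f : A →ₐ[k] A') (hf : Function.Surjective f) :
    Function.Surjective (Algebra.TensorProduct.map (AlgHom.id k K) f) := by
  have h := TensorProduct.map_surjective (R := k) (g := (AlgHom.id k K).toLinearMap)
    (g' := f.toLinearMap) (fun x => ⟨x, rfl⟩) hf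
  intro t
  obtain ⟨s, hs⟩ := h t
  exact ⟨s, hs⟩

variable [FiniteDimensional k K]

theorem map_T (f : A →ₐ[k] A') (a : GpH1.OneCocycle (K ≃ₐ[k] K) (K ⊗[k] A)ˣ) (c : K ⊗[k] A) :
    Algebra.TensorProduct.map (AlgHom.id k K) f (T a c) =
      T (pushCocycle f a) (Algebra.TensorProduct.map (AlgHom.id k K) f c) := by
  unfold T
  rw [map_sum]
  apply Finset.sum_congr rfl
  intro τ _
  rw [map_mul, map_equivariant]
  rfl

variable [IsGalois k K]

theorem P_of_quotient (J : Ideal A) [J.IsTwoSided] (hJ : IsNilpotent J)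
    (h : P k K (A ⧸ J)) : P k K A := by
  intro a
  obtain ⟨N, hN⟩ := pow_eq_zero_of_ker (k := k) (K := K) J hJ
  set f := Algebra.TensorProduct.map (AlgHom.id k K) (Ideal.Quotient.mkₐ k J) with hf
  have hfs : Function.Surjective f :=
    map_surjective_of _ (Ideal.Quotient.mkₐ_surjective k J)
  obtain ⟨cb, hcb⟩ := h (pushCocycle (Ideal.Quotient.mkₐ k J) a)
  -- cb is a twisted invariant
  have hcb' : ∀ τ : K ≃ₐ[k] K, τ • (cb : K ⊗[k] (A ⧸ J)) =
      (cb : K ⊗[k] (A ⧸ J)) * (pushCocycle (Ideal.Quotient.mkₐ k J) a τ : K ⊗[k] (A ⧸ J)) := by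
    intro τ
    have h1 : τ • cb = cb * pushCocycle (Ideal.Quotient.mkₐ k J) a τ := by
      rw [hcb τ, ← mul_assoc, mul_inv_cancel, one_mul]
    have h2 := congrArg (fun u : (K ⊗[k] (A ⧸ J))ˣ => (u : K ⊗[k] (A ⧸ J))) h1
    simp only [Units.val_mul] at h2
    exact h2
  obtain ⟨m, hm⟩ := hfs (cb : K ⊗[k] (A ⧸ J))
  obtain ⟨m', hm'⟩ := hfs ((cb⁻¹ : (K ⊗[k] (A ⧸ J))ˣ) : K ⊗[k] (A ⧸ J))
  obtain ⟨l, hl⟩ := Algebra.trace_surjective k K 1
  set w := T a (l • m) with hw
  have hfw : f w = cb := by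
    rw [hw, hf, map_T, map_smul_K, ← hf, hm, T_smul_of_mem _ _ hcb', sum_aut_eq_trace, hl,
      map_one, one_smul]
  -- w is a unit
  have hnil : ∀ t, f t = 1 → IsUnit t := by
    intro t ht
    have h1 : f (1 - t) = 0 := by rw [map_sub, map_one, ht, sub_self]
    have h2 : IsNilpotent (1 - t) := ⟨N + 1, hN _ h1⟩
    have := h2.isUnit_one_sub
    rwa [sub_sub_cancel] at this
  have hu1 : IsUnit (w * m') := hnil _ (by rw [map_mul, hfw, hm', Units.mul_inv])
  have hu2 : IsUnit (m' * w) := hnil _ (by rw [map_mul, hfw, hm', Units.inv_mul])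
  have hwu : IsUnit w := by
    rw [isUnit_iff_exists_and_exists]
    obtain ⟨u1, hu1⟩ := hu1
    obtain ⟨u2, hu2⟩ := hu2
    refine ⟨⟨m' * ↑u1⁻¹, ?_⟩, ⟨↑u2⁻¹ * m', ?_⟩⟩
    · rw [← mul_assoc, ← hu1, Units.mul_inv]
    · rw [mul_assoc, ← hu2, Units.inv_mul]
  obtain ⟨W, hW⟩ := hwu
  refine ⟨W, fun σ => ?_⟩
  have h3 : σ • W = W * a σ := by
    apply Units.ext
    change σ • (W : K ⊗[k] A) = (W : K ⊗[k] A) * (a σ : K ⊗[k] A)
    rw [hW, hw]
    exact smul_T a σ _
  rw [h3, ← mul_assoc, inv_mul_cancel, one_mul]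

theorem P_of_findim (k : Type u) [Field k] (K : Type v) [Field K] [Algebra k K]
    [FiniteDimensional k K] [IsGalois k K] (A : Type w) [Ring A] [Algebra k A]
    [FiniteDimensional k A] : P k K A := by
  classical
  haveI : IsArtinianRing A := IsArtinianRing.of_finite k A
  have hJ : IsNilpotent (Ring.jacobson A) := IsSemiprimaryRing.isNilpotent
  apply P_of_quotient (Ring.jacobson A) hJ
  obtain ⟨n, D, d, _, _, hfin, hd, ⟨e⟩⟩ :=
    IsSemisimpleRing.exists_algEquiv_pi_matrix_divisionRing_finite k (A ⧸ Ring.jacobson A)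
  apply P_of_algEquiv e
  apply P_pi
  intro i
  haveI := hd i
  haveI := hfin i
  intro a
  exact exists_coboundary_of_simple a

theorem isTrivial (k : Type u) [Field k] (K : Type v) [Field K] [Algebra k K]
    [FiniteDimensional k K] [IsGalois k K] (A : Type w) [Ring A] [Algebra k A]
    [FiniteDimensional k A] : GpH1.H1.IsTrivial (K ≃ₐ[k] K) (K ⊗[k] A)ˣ := by
  intro x
  obtain ⟨a, rfl⟩ := GpH1.OneCocycle.cl_surjective x
  change a.cl = (GpH1.OneCocycle.trivial : GpH1.OneCocycle (K ≃ₐ[k] K) (K ⊗[k] A)ˣ).cl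
  rw [GpH1.OneCocycle.cl_eq_cl_iff]
  obtain ⟨c, hc⟩ := P_of_findim k K A a
  refine ⟨c, fun σ => ?_⟩
  rw [hc σ]
  change _ = c⁻¹ * 1 * σ • c
  rw [mul_one]

end Final


end Groth.Agent.Lib.helper2.H90
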