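import Mathlib
import Groth.Prelude.Def_CAlgX
import Groth.Prelude.Def_CAlg
import Groth.Agent.Lib.Helper2.BE9
import Groth.Agent.S12908

/-!
# The Hilbert–Burch theorem (helper2)

`hilbert_burch`: if `0 → R^m --Ψ--> R^n --π--> R` is exact with `I = range π ≠ 0` over a Noetherian
ring, then `n = m + 1`, `I = a · I_m(Ψ)` for a non-zero-divisor `a`, and `I_m(Ψ)` has depth `≥ 2`.
-/

set_option autoImplicit false
universe u

namespace Groth.Agent.Lib.helper2.HB

open CAlgX LocCoh Groth.Agent.Lib.helper2.BE Groth.Agent.Lib.helper26.Depth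

/-- the ranks of the Hilbert–Burch complex -/
def hbN (m n : ℕ) : ℕ → ℕ
  | 0 => 1
  | 1 => n
  | _ + 2 => m

/-- the matrices of the Hilbert–Burch complex -/
def hbA {R : Type u} [CommRing R] (m n : ℕ) (P : Matrix (Fin 1) (Fin n) R)
    (Ψ : Matrix (Fin n) (Fin m) R) :
    (i : ℕ) → Matrix (Fin (hbN m n i)) (Fin (hbN m n (i + 1))) R
  | 0 => P
  | 1 => Ψ
  | _ + 2 => 0

variable {R : Type u} [CommRing R]

/-- the row matrix of a linear form -/
def rowMat {n : ℕ} (π : (Fin n → R) →ₗ[R] R) : Matrix (Fin 1) (Fin n) R :=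
  Matrix.of fun _ j => π (Pi.single j 1)

theorem rowMat_mulVec {n : ℕ} (π : (Fin n → R) →ₗ[R] R) (v : Fin n → R) (i : Fin 1) :
    ((rowMat π).mulVec v) i = π v := by
  classical
  simp only [rowMat, Matrix.mulVec, dotProduct, Matrix.of_apply]
  conv_rhs => rw [← (Pi.basisFun R (Fin n)).sum_repr v]
  rw [map_sum]
  refine Finset.sum_congr rfl fun j _ => ?_
  rw [map_smul, smul_eq_mul, mul_comm]
  simp

theorem ker_rowMat {n : ℕ} (π : (Fin n → R) →ₗ[R] R) :
    LinearMap.ker (rowMat π).mulVecLin = LinearMap.ker π := by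
  ext v
  rw [LinearMap.mem_ker, LinearMap.mem_ker, Matrix.mulVecLin_apply]
  constructor
  · intro h
    rw [← rowMat_mulVec π v 0, h]; rfl
  · intro h
    ext i
    rw [rowMat_mulVec, h]; rfl

theorem minorIdeal_rowMat_one {n : ℕ} (π : (Fin n → R) →ₗ[R] R) :
    minorIdeal (rowMat π) 1 = LinearMap.range π := by
  classical
  unfold minorIdeal
  apply le_antisymm
  · rw [Ideal.span_le]
    rintro _ ⟨⟨f, g⟩, rfl⟩
    refine ⟨Pi.single (g 0) 1, ?_⟩
    simp [rowMat]
  · rintro _ ⟨v, rfl⟩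
    rw [← (Pi.basisFun R (Fin n)).sum_repr v, map_sum]
    refine Ideal.sum_mem _ fun j _ => ?_
    rw [map_smul]
    apply Ideal.mul_mem_left
    refine Ideal.subset_span ⟨(fun _ => 0, fun _ => j), ?_⟩
    simp [rowMat]

theorem minorIdeal_rowMat_two {n : ℕ} (π : (Fin n → R) →ₗ[R] R) :
    minorIdeal (rowMat π) 2 = ⊥ := by
  unfold minorIdeal
  rw [Ideal.span_eq_bot]
  rintro _ ⟨⟨f, g⟩, rfl⟩
  apply Matrix.det_zero_of_row_eq (i := 0) (j := 1) (by decide)
  ext k
  simp only [Matrix.submatrix_apply]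
  rw [Subsingleton.elim (f 0) (f 1)]

variable [IsNoetherianRing R]

theorem hilbert_burch (m n : ℕ)
    (Ψ : Matrix (Fin n) (Fin m) R) (π : (Fin n → R) →ₗ[R] R)
    (hΨ : LinearMap.ker Ψ.mulVecLin = ⊥) (hex : LinearMap.ker π = LinearMap.range Ψ.mulVecLin)
    (hI : LinearMap.range π ≠ ⊥) :
    n = m + 1 ∧
      (∃ a : R, a ∈ nonZeroDivisors R ∧ LinearMap.range π = Ideal.span {a} * minorIdeal Ψ m) ∧
      2 ≤ idealDepth (minorIdeal Ψ m) R := by
  classical
  haveI : Nontrivial R := by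
    by_contra hnt
    rw [not_nontrivial_iff_subsingleton] at hnt
    exact hI (Subsingleton.elim _ _)
  -- the complex
  have hexC : ∀ t, t < 2 → LinearMap.ker (psi 2 (hbN m n) (hbA m n (rowMat π) Ψ) t) =
      LinearMap.range (psi 2 (hbN m n) (hbA m n (rowMat π) Ψ) (t + 1)) := by
    intro t ht
    interval_cases t
    · rw [psi_of_lt 2 _ _ (by norm_num : 0 < 2), psi_of_lt 2 _ _ (by norm_num : 0 + 1 < 2)]
      show LinearMap.ker (rowMat π).mulVecLin = LinearMap.range Ψ.mulVecLin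
      rw [ker_rowMat, hex]
    · rw [psi_of_lt 2 _ _ (by norm_num : 1 < 2), psi_of_le 2 _ _ (by norm_num : 2 ≤ 1 + 1),
        LinearMap.range_zero]
      exact hΨ
  obtain ⟨hr1, hd1⟩ := be_nec 2 (hbN m n) (hbA m n (rowMat π) Ψ) hexC 1 (by norm_num)
  obtain ⟨hr0, hd0⟩ := be_nec 2 (hbN m n) (hbA m n (rowMat π) Ψ) hexC 0 (by norm_num)
  have hrΨ : matrixRank Ψ = m := by
    have h : (matrixRank Ψ : ℤ) = (m : ℤ) := by
      have : (matrixRank Ψ : ℤ) =
          ∑ t ∈ Finset.Icc (1 + 1) 2, (-1 : ℤ) ^ (t - (1 + 1)) * (hbN m n t : ℤ) := hr1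
      rw [this]
      simp [hbN]
    exact_mod_cast h
  have hdetΨ : detIdeal Ψ = minorIdeal Ψ m := by unfold detIdeal; rw [hrΨ]
  have hrP : matrixRank (rowMat π) = 1 :=
    matrixRank_eq_of _ (by rw [minorIdeal_rowMat_one]; exact hI) (minorIdeal_rowMat_two π)
  have hdetP : detIdeal (rowMat π) = LinearMap.range π := by
    unfold detIdeal; rw [hrP, minorIdeal_rowMat_one]
  have hnm : n = m + 1 := by
    have h : ((1 : ℕ) : ℤ) = (n : ℤ) - (m : ℤ) := by
      have h2 : (matrixRank (rowMat π) : ℤ) =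
          ∑ t ∈ Finset.Icc (0 + 1) 2, (-1 : ℤ) ^ (t - (0 + 1)) * (hbN m n t : ℤ) := hr0
      rw [hrP] at h2
      rw [h2]
      have : Finset.Icc (0 + 1) 2 = {1, 2} := by decide
      rw [this]
      simp [hbN]
      ring
    omega
  -- depth of the ideal of maximal minors
  have hdepth : 2 ≤ idealDepth (minorIdeal Ψ m) R := by
    have hd1' : detIdeal Ψ = ⊤ ∨ ∃ rs : List R, rs.length = 1 + 1 ∧ (∀ r ∈ rs, r ∈ detIdeal Ψ) ∧
        RingTheory.Sequence.IsRegular R rs := hd1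
    rw [hdetΨ] at hd1'
    rcases hd1' with h | ⟨rs, hlen, hmem, hreg⟩
    · rw [h, idealDepth_eq_top_of_smul_top_eq_top]
      · exact le_top
      · rw [smul_eq_mul, Ideal.mul_top]
    · have := length_le_idealDepth (I := minorIdeal Ψ m) hreg.toIsWeaklyRegular hmem
      rw [hlen] at this
      exact_mod_cast this
  refine ⟨hnm, ?_, hdepth⟩
  -- a non-zero-divisor in `I`
  obtain ⟨s₀, hs₀I, hs₀⟩ : ∃ s₀ ∈ LinearMap.range π, s₀ ∈ nonZeroDivisors R := by
    have hd0' : detIdeal (rowMat π) = ⊤ ∨ ∃ rs : List R, rs.length = 0 + 1 ∧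
        (∀ r ∈ rs, r ∈ detIdeal (rowMat π)) ∧ RingTheory.Sequence.IsRegular R rs := hd0
    rw [hdetP] at hd0'
    rcases hd0' with h | ⟨rs, hlen, hmem, hreg⟩
    · exact ⟨1, by rw [h]; trivial, one_mem _⟩
    · match rs, hlen, hmem, hreg with
      | [s], _, hmem, hreg =>
        refine ⟨s, hmem s (by simp), ?_⟩
        have h1 := hreg.toIsWeaklyRegular
        rw [RingTheory.Sequence.isWeaklyRegular_cons_iff] at h1
        rw [mem_nonZeroDivisors_iff_left]
        intro x hx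
        exact h1.1 (by simpa [smul_eq_mul] using hx)
  subst hnm
  obtain ⟨-, hΔker, hΔrange⟩ := Groth.Agent.S12908.result m Ψ hdepth 1 (one_mem _)
  set Δ := Fintype.linearCombination R
    (fun i : Fin (m + 1) => (1 : R) * ((-1 : R) ^ (i : ℕ) * (Ψ.submatrix i.succAbove id).det))
    with hΔ
  have hJ : LinearMap.range Δ = minorIdeal Ψ m := by
    rw [hΔrange, Ideal.span_singleton_one, Ideal.top_mul]
  obtain ⟨x, y, hxJ, hyJ, hxreg, hyreg⟩ := Groth.Agent.S12908.exists_regular_pair _ hdepth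
  rw [← hJ] at hxJ hyJ
  obtain ⟨zx, rfl⟩ := hxJ
  obtain ⟨zy, rfl⟩ := hyJ
  have hkey : ∀ z, Δ z = 0 → π z = 0 := by
    intro z hz
    have : z ∈ LinearMap.ker π := by rw [hex, ← hΔker]; exact hz
    exact this
  have h1 : Δ zy * π zx = Δ zx * π zy := by
    have := hkey (Δ zx • zy - Δ zy • zx) (by
      rw [map_sub, map_smul, map_smul, smul_eq_mul, smul_eq_mul, mul_comm, sub_self])
    rw [map_sub, map_smul, map_smul, smul_eq_mul, smul_eq_mul, sub_eq_zero] at this
    exact this.symm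
  obtain ⟨a, ha⟩ := hyreg (π zx) (π zy) h1
  have h2 : ∀ z, π z = a * Δ z := by
    intro z
    have := hkey (Δ zx • z - Δ z • zx) (by
      rw [map_sub, map_smul, map_smul, smul_eq_mul, smul_eq_mul, mul_comm, sub_self])
    rw [map_sub, map_smul, map_smul, smul_eq_mul, smul_eq_mul, sub_eq_zero, ha] at this
    have h3 : Δ zx * (π z - a * Δ z) = 0 := by
      rw [mul_sub, this]; ring
    exact sub_eq_zero.mp (hxreg _ h3)
  refine ⟨a, ?_, ?_⟩
  · obtain ⟨zs, rfl⟩ := hs₀I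
    rw [h2 zs] at hs₀
    exact (mul_mem_nonZeroDivisors.mp hs₀).1
  · rw [← hJ]
    apply le_antisymm
    · rintro _ ⟨z, rfl⟩
      rw [h2 z]
      exact Ideal.mul_mem_mul (Ideal.mem_span_singleton_self a) ⟨z, rfl⟩
    · rw [Ideal.mul_le]
      rintro r hr _ ⟨z, rfl⟩
      obtain ⟨c, rfl⟩ := Ideal.mem_span_singleton'.mp hr
      refine ⟨c • z, ?_⟩
      rw [map_smul, h2 z, smul_eq_mul, mul_assoc]

end Groth.Agent.Lib.helper2.HB
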