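import Mathlib
import Groth.Prelude.Def_CAlgX
import Groth.Prelude.Def_CAlg
import Groth.Agent.Lib.Helper2.HB1
import Groth.Agent.Lib.Helper26.ProjDimRegular
import Groth.Agent.Lib.Helper26.Depth7
import Groth.Agent.Lib.Helper26.DepthCR2

/-!
# Hilbert–Burch structure theorem for codimension two Cohen–Macaulay quotients (helper2)

* `exists_resolution_of_pd`: an ideal `I` of a Noetherian local ring with `pd (A/I) ≤ 2` has a
  resolution `0 → A^k → A^μ → I → 0`, `μ = μ`.
* `hasProjectiveDimensionLT_quotient_of_cm_codim_two`: regular local, `A/I` CM of codimension two.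
* `hilbert_burch_cm_codim_two`: the structure theorem.
-/

set_option autoImplicit false
universe u

namespace Groth.Agent.Lib.helper2.HB

open CAlgX LocCoh CategoryTheory Groth.Agent.Lib.helper2.BE Groth.Agent.Lib.helper26.Depth

section res

variable {A : Type u} [CommRing A] [IsNoetherianRing A] [IsLocalRing A]

theorem exists_resolution_of_pd (I : Ideal A) (μ : ℕ) (hμ : I.spanFinrank = μ)
    (hpd : HasProjectiveDimensionLT (ModuleCat.of A (A ⧸ I)) 3) :
    ∃ (k : ℕ) (Ψ : Matrix (Fin μ) (Fin k) A)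
      (π : (Fin μ → A) →ₗ[A] A),
      LinearMap.ker Ψ.mulVecLin = ⊥ ∧ LinearMap.ker π = LinearMap.range Ψ.mulVecLin ∧
        LinearMap.range π = I := by
  classical
  -- generators
  obtain ⟨s, hscard, hsspan⟩ :=
    Submodule.FG.exists_span_finset_card_eq_spanFinrank (IsNoetherian.noetherian I)
  rw [hμ] at hscard
  let eqv : Fin μ ≃ s := (Fintype.equivFinOfCardEq (by simp [hscard])).symm
  let f : Fin μ → A := fun i => (eqv i : A)
  have hf : Ideal.span (Set.range f) = I := by
    rw [← hsspan]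
    congr 1
    ext x
    constructor
    · rintro ⟨i, rfl⟩; exact (eqv i).2
    · intro hx; exact ⟨eqv.symm ⟨x, hx⟩, by simp [f]⟩
  let π : (Fin μ → A) →ₗ[A] A := Fintype.linearCombination A f
  have hπrange : LinearMap.range π = I := by
    rw [Fintype.range_linearCombination]; exact hf
  -- first syzygy
  let q : A →ₗ[A] A ⧸ I := (Ideal.Quotient.mkₐ A I).toLinearMap
  have hq : Function.Surjective q := Ideal.Quotient.mk_surjective
  have hkerq : LinearMap.ker q = I := by
    ext x
    rw [LinearMap.mem_ker]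
    exact Ideal.Quotient.eq_zero_iff_mem
  have hS1 := LinearMap.shortExact_shortComplexKer hq
  have h1 : HasProjectiveDimensionLT (ModuleCat.of A (LinearMap.ker q)) 2 := by
    apply hS1.hasProjectiveDimensionLT_X₁ 2
    · exact hasProjectiveDimensionLT_of_ge (ModuleCat.of A A) 1 2 (by omega)
    · exact hpd
  -- second syzygy
  let π' : (Fin μ → A) →ₗ[A] LinearMap.ker q :=
    π.codRestrict (LinearMap.ker q) (fun v => by rw [hkerq, ← hπrange]; exact ⟨v, rfl⟩)
  have hπ' : Function.Surjective π' := by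
    rintro ⟨x, hx⟩
    rw [hkerq, ← hπrange] at hx
    obtain ⟨v, rfl⟩ := hx
    exact ⟨v, rfl⟩
  have hS2 := LinearMap.shortExact_shortComplexKer hπ'
  have h2 : HasProjectiveDimensionLT (ModuleCat.of A (LinearMap.ker π')) 1 := by
    apply hS2.hasProjectiveDimensionLT_X₁ 1
    · exact (inferInstance : HasProjectiveDimensionLT (ModuleCat.of A (Fin μ → A)) 1)
    · exact h1
  have hker' : LinearMap.ker π' = LinearMap.ker π := LinearMap.ker_codRestrict _ _ _
  have hproj : Module.Projective A (LinearMap.ker π) := by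
    rw [← hker', IsProjective.iff_projective]
    infer_instance
  haveI : Module.Free A (LinearMap.ker π) := Module.free_of_flat_of_isLocalRing
  let b := Module.finBasis A (LinearMap.ker π)
  let g : (Fin (Module.finrank A (LinearMap.ker π)) → A) →ₗ[A] (Fin μ → A) :=
    (LinearMap.ker π).subtype ∘ₗ b.equivFun.symm.toLinearMap
  have hginj : Function.Injective g := by
    rw [LinearMap.coe_comp]
    exact (Submodule.injective_subtype _).comp b.equivFun.symm.injective
  have hgrange : LinearMap.range g = LinearMap.ker π := by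
    rw [LinearMap.range_comp, LinearEquiv.range, Submodule.map_top, Submodule.range_subtype]
  have hΨ : (LinearMap.toMatrix' g).mulVecLin = g :=
    LinearMap.ext fun v => by rw [Matrix.mulVecLin_apply, LinearMap.toMatrix'_mulVec]
  refine ⟨_, LinearMap.toMatrix' g, π, ?_, ?_, hπrange⟩
  · rw [hΨ, LinearMap.ker_eq_bot]; exact hginj
  · rw [hΨ, hgrange]

end res

section cm

variable (A : Type u) [CommRing A] [IsRegularLocalRing A] (I : Ideal A)
  [IsCohenMacaulayLocalRing (A ⧸ I)]

theorem hasProjectiveDimensionLT_quotient_of_cm_codim_two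
    (hcodim : ringKrullDim (A ⧸ I) + 2 = ringKrullDim A) :
    HasProjectiveDimensionLT (ModuleCat.of A (A ⧸ I)) 3 := by
  haveI : Nontrivial (A ⧸ I) := inferInstance
  haveI : IsLocalHom (algebraMap A (A ⧸ I)) :=
    IsLocalHom.of_surjective _ Ideal.Quotient.mk_surjective
  have hfin := Groth.Agent.Lib.helper26.PDReg.hasProjectiveDimensionLE_of_isRegularLocalRing
    _ A rfl (A ⧸ I)
  have hne_top : projectiveDimension (ModuleCat.of A (A ⧸ I)) ≠ ⊤ := by
    rw [projectiveDimension_ne_top_iff]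
    exact ⟨_, hfin⟩
  have hne_bot : projectiveDimension (ModuleCat.of A (A ⧸ I)) ≠ ⊥ := by
    rw [Ne, projectiveDimension_eq_bot_iff]
    intro hz
    exact not_subsingleton (A ⧸ I) (ModuleCat.subsingleton_of_isZero hz)
  obtain ⟨k, hk⟩ : ∃ k : ℕ, projectiveDimension (ModuleCat.of A (A ⧸ I)) = (k : WithBot ℕ∞) := by
    generalize projectiveDimension (ModuleCat.of A (A ⧸ I)) = p at hne_top hne_bot
    induction p with
    | bot => exact absurd rfl hne_bot
    | coe p =>
      induction p with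
      | top => exact absurd rfl hne_top
      | coe k => exact ⟨k, rfl⟩
  have hab := auslander_buchsbaum k (A ⧸ I) hk
  have h1 : ((depth A A : ℕ∞) : WithBot ℕ∞) = ringKrullDim A :=
    depth_eq_ringKrullDim_of_isRegularLocalRing A
  have h2 : depth A (A ⧸ I) = depth (A ⧸ I) (A ⧸ I) := depth_eq_of_isLocalHom (A ⧸ I)
  have h3 : ringKrullDim (A ⧸ I) = ((depth (A ⧸ I) (A ⧸ I) : ℕ∞) : WithBot ℕ∞) := by
    rw [← Module.supportDim_self_eq_ringKrullDim]
    exact IsCohenMacaulayLocalRing.supportDim_eq_depth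
  have hc_ne : depth (A ⧸ I) (A ⧸ I) ≠ ⊤ := depth_ne_top (A ⧸ I)
  obtain ⟨c, hc⟩ := ENat.ne_top_iff_exists.mp hc_ne
  rw [h3, ← h1, hab, h2, ← hc] at hcodim
  have hk2 : k = 2 := by
    have h4 : (((c + 2 : ℕ) : ℕ∞) : WithBot ℕ∞) = (((k + c : ℕ) : ℕ∞) : WithBot ℕ∞) := by
      rw [Nat.cast_add, Nat.cast_add, WithBot.coe_add]
      exact hcodim
    have h5 : ((c + 2 : ℕ) : ℕ∞) = ((k + c : ℕ) : ℕ∞) := WithBot.coe_injective h4
    have h6 : c + 2 = k + c := by exact_mod_cast h5
    omega
  rw [← projectiveDimension_lt_iff, hk, hk2]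
  exact_mod_cast (by norm_num : (2 : ℕ) < 3)

theorem hilbert_burch_cm_codim_two
    (hcodim : ringKrullDim (A ⧸ I) + 2 = ringKrullDim A) :
    ∃ (r : ℕ) (φ : Matrix (Fin (r + 1)) (Fin r) A),
      Ideal.span (Set.range (fun i : Fin (r + 1) =>
        (-1 : A) ^ (i : ℕ) * (φ.submatrix i.succAbove id).det)) = I ∧
      I.spanFinrank = r + 1 ∧
      Function.Injective φ.mulVecLin ∧
      LinearMap.range φ.mulVecLin =
        LinearMap.ker (Fintype.linearCombination A (fun i : Fin (r + 1) =>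
          (-1 : A) ^ (i : ℕ) * (φ.submatrix i.succAbove id).det)) := by
  classical
  have hpd := hasProjectiveDimensionLT_quotient_of_cm_codim_two A I hcodim
  haveI : Nontrivial (A ⧸ I) := inferInstance
  -- dimensions as natural numbers
  have hdA : ((IsLocalRing.maximalIdeal A).spanFinrank : WithBot ℕ∞) = ringKrullDim A :=
    IsRegularLocalRing.spanFinrank_maximalIdeal
  set dA := (IsLocalRing.maximalIdeal A).spanFinrank with hdAdef
  have h3 : ringKrullDim (A ⧸ I) = ((depth (A ⧸ I) (A ⧸ I) : ℕ∞) : WithBot ℕ∞) := by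
    rw [← Module.supportDim_self_eq_ringKrullDim]
    exact IsCohenMacaulayLocalRing.supportDim_eq_depth
  obtain ⟨c, hc⟩ := ENat.ne_top_iff_exists.mp (depth_ne_top (A := A ⧸ I) (A ⧸ I))
  rw [← hc] at h3
  have hdim : c + 2 = dA := by
    rw [h3, ← hdA] at hcodim
    have h4 : (((c + 2 : ℕ) : ℕ∞) : WithBot ℕ∞) = ((dA : ℕ∞) : WithBot ℕ∞) := by
      rw [Nat.cast_add, WithBot.coe_add]
      exact hcodim
    exact_mod_cast WithBot.coe_injective h4
  have hIne : I ≠ ⊥ := by
    rintro rfl
    have h5 : ringKrullDim (A ⧸ (⊥ : Ideal A)) = ringKrullDim A :=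
      ringKrullDim_eq_of_ringEquiv (RingEquiv.quotientBot A)
    rw [h3, ← hdA] at h5
    have h6 : ((c : ℕ∞) : WithBot ℕ∞) = ((dA : ℕ∞) : WithBot ℕ∞) := h5
    have h7 : c = dA := by exact_mod_cast WithBot.coe_injective h6
    omega
  obtain ⟨μ, hμdef⟩ : ∃ μ, I.spanFinrank = μ := ⟨_, rfl⟩
  obtain ⟨k, Ψ, π, hΨ, hex, hrange⟩ := exists_resolution_of_pd I μ hμdef hpd
  obtain ⟨hμ, ⟨a, ha, hIa⟩, hdepth⟩ := hilbert_burch k μ Ψ π hΨ hex (by rw [hrange]; exact hIne)
  subst hμ
  rw [hrange] at hIa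
  -- `a` is a unit
  have haunit : IsUnit a := by
    by_contra hnu
    have ham : a ∈ IsLocalRing.maximalIdeal A := (IsLocalRing.mem_maximalIdeal a).mpr hnu
    have hreg : IsSMulRegular A a := by
      intro x y hxy
      have h8 : a * (x - y) = 0 := by
        rw [mul_sub, sub_eq_zero]; exact hxy
      exact sub_eq_zero.mp ((mem_nonZeroDivisors_iff_left.mp ha) _ h8)
    have h9 := ringKrullDim_quotient_span_singleton_succ_eq_ringKrullDim hreg ham
    have hle : I ≤ Ideal.span {a} := by rw [hIa]; exact Ideal.mul_le_left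
    have h10 : ringKrullDim (A ⧸ Ideal.span {a}) ≤ ringKrullDim (A ⧸ I) :=
      ringKrullDim_le_of_surjective (Ideal.Quotient.factor hle)
        (Ideal.Quotient.factor_surjective hle)
    rw [h3] at h10
    have h11 : ringKrullDim (A ⧸ Ideal.span {a}) + 1 ≤ ((c : ℕ∞) : WithBot ℕ∞) + 1 :=
      add_le_add_left h10 1
    rw [h9, ← hdA] at h11
    have h12 : ((dA : ℕ∞) : WithBot ℕ∞) ≤ (((c + 1 : ℕ) : ℕ∞) : WithBot ℕ∞) := by
      rw [Nat.cast_add, WithBot.coe_add]
      exact h11
    have h13 : dA ≤ c + 1 := by exact_mod_cast WithBot.coe_le_coe.mp h12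
    omega
  have hIJ : I = minorIdeal Ψ k := by
    rw [hIa, Ideal.span_singleton_eq_top.mpr haunit, Ideal.top_mul]
  rw [Groth.Agent.S12908.minorIdeal_eq_span k Ψ] at hIJ
  obtain ⟨-, hΔker, -⟩ := Groth.Agent.S12908.result k Ψ hdepth 1 (one_mem _)
  simp only [one_mul] at hΔker
  refine ⟨k, Ψ, ?_, hμdef, LinearMap.ker_eq_bot.mp hΨ, hΔker.symm⟩
  rw [hIJ]
  have hσ : ∀ i : ℕ, ((-1 : A) ^ i) * ((-1 : A) ^ i) = 1 := by
    intro i; rw [← mul_pow]; simp
  apply le_antisymm
  · rw [Ideal.span_le]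
    rintro _ ⟨i, rfl⟩
    exact Ideal.mul_mem_left _ _ (Ideal.subset_span ⟨i, rfl⟩)
  · rw [Ideal.span_le]
    rintro _ ⟨i, rfl⟩
    have : (Ψ.submatrix i.succAbove id).det =
        (-1 : A) ^ (i : ℕ) * ((-1 : A) ^ (i : ℕ) * (Ψ.submatrix i.succAbove id).det) := by
      rw [← mul_assoc, hσ, one_mul]
    show (Ψ.submatrix i.succAbove id).det ∈ _
    rw [this]
    exact Ideal.mul_mem_left _ _ (Ideal.subset_span ⟨i, rfl⟩)

end cm

end Groth.Agent.Lib.helper2.HB
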