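import Mathlib
import Groth.Agent.Lib.Helper2.HB1
import Groth.Agent.Lib.Helper19.DefCI
import Groth.Agent.S11457

/-!
# Deforming Hilbert–Burch presentations (helper2)

* `exists_mul_minors`: over a Noetherian ring, if `0 → R^r --φ--> R^{r+1} --Δ--> R` is exact (`Δ` the
  signed maximal minors of `φ`), then every row vector `f` with `f φ = 0` is a multiple of `Δ`.
* `deform`: deformation of a Hilbert–Burch presentation along a nilpotent extension of the base.
-/

set_option autoImplicit false
universe u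

namespace Groth.Agent.Lib.helper2.HBDef

open CAlgX LocCoh Groth.Agent.S11457 Groth.Agent.Lib.Helper19

theorem exists_mul_minors {R : Type u} [CommRing R] [IsNoetherianRing R] (r : ℕ)
    (φ : Matrix (Fin (r + 1)) (Fin r) R) (hinj : Function.Injective φ.mulVecLin)
    (hex : LinearMap.range φ.mulVecLin = LinearMap.ker (Fintype.linearCombination R (minors φ)))
    (f : Fin (r + 1) → R) (hf : ∀ j, ∑ i, f i * φ i j = 0) :
    ∃ a : R, ∀ i, f i = a * minors φ i := by
  classical
  rcases subsingleton_or_nontrivial R with hs | hnt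
  · exact ⟨0, fun i => Subsingleton.elim _ _⟩
  set Δ := Fintype.linearCombination R (minors φ) with hΔ
  have hne : LinearMap.range Δ ≠ ⊥ := by
    intro h0
    have hker : LinearMap.ker Δ = ⊤ := by
      rw [LinearMap.ker_eq_top]
      exact LinearMap.range_eq_bot.mp h0
    rw [hker] at hex
    have hsurj : Function.Surjective φ.mulVecLin := LinearMap.range_eq_top.mp hex
    let e := LinearEquiv.ofBijective φ.mulVecLin ⟨hinj, hsurj⟩
    have h1 := e.finrank_eq
    simp at h1
  obtain ⟨-, -, hdepth⟩ := HB.hilbert_burch r (r + 1) φ Δ (LinearMap.ker_eq_bot.mpr hinj)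
    hex.symm hne
  obtain ⟨-, -, hΔrange⟩ := Groth.Agent.S12908.result r φ hdepth 1 (one_mem _)
  have hJ : LinearMap.range Δ = minorIdeal φ r := by
    rw [Ideal.span_singleton_one, Ideal.top_mul] at hΔrange
    rw [← hΔrange, hΔ]
    congr 2
    funext i
    rw [one_mul]
    rfl
  obtain ⟨x, y, hxJ, hyJ, hxreg, hyreg⟩ := Groth.Agent.S12908.exists_regular_pair _ hdepth
  rw [← hJ] at hxJ hyJ
  obtain ⟨zx, rfl⟩ := hxJ
  obtain ⟨zy, rfl⟩ := hyJ
  set π := Fintype.linearCombination R f with hπ
  have hkey : ∀ z, Δ z = 0 → π z = 0 := by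
    intro z hz
    have hz' : z ∈ LinearMap.range φ.mulVecLin := by rw [hex]; exact hz
    obtain ⟨w, rfl⟩ := hz'
    rw [hπ, Fintype.linearCombination_apply]
    simp only [Matrix.mulVecLin_apply, Matrix.mulVec, dotProduct, smul_eq_mul, Finset.sum_mul]
    rw [Finset.sum_comm]
    have : ∀ j, ∑ i, φ i j * w j * f i = w j * ∑ i, f i * φ i j := by
      intro j
      rw [Finset.mul_sum]
      exact Finset.sum_congr rfl fun i _ => by ring
    simp only [this, hf, mul_zero, Finset.sum_const_zero]
  have h1 : Δ zy * π zx = Δ zx * π zy := by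
    have := hkey (Δ zx • zy - Δ zy • zx) (by
      rw [map_sub, map_smul, map_smul, smul_eq_mul, smul_eq_mul, mul_comm, sub_self])
    rw [map_sub, map_smul, map_smul, smul_eq_mul, smul_eq_mul, sub_eq_zero] at this
    exact this.symm
  obtain ⟨a, ha⟩ := hyreg (π zx) (π zy) h1
  have h2 : ∀ z, π z = a * Δ z := by
    intro z
    have := hkey (Δ zx • z - Δ z • zx) (by
      rw [map_sub, map_smul, map_smul, smul_eq_mul, smul_eq_mul, mul_comm, sub_self])
    rw [map_sub, map_smul, map_smul, smul_eq_mul, smul_eq_mul, sub_eq_zero, ha] at this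
    have h3 : Δ zx * (π z - a * Δ z) = 0 := by
      rw [mul_sub, this]; ring
    exact sub_eq_zero.mp (hxreg _ h3)
  refine ⟨a, fun i => ?_⟩
  have := h2 (Pi.single i 1)
  rw [hπ, hΔ, Fintype.linearCombination_apply_single, Fintype.linearCombination_apply_single,
    one_smul, one_smul] at this
  exact this

theorem deform {C' A' : Type u} [CommRing C'] [CommRing A'] [Algebra C' A'] [IsNoetherianRing A']
    (J : Ideal C') (hJ : IsNilpotent J) (r : ℕ)
    (φ : Matrix (Fin (r + 1)) (Fin r) (A' ⧸ J.map (algebraMap C' A')))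
    (I' : Ideal A') [Module.Flat C' (A' ⧸ I')]
    (hI' : I'.map (Ideal.Quotient.mk (J.map (algebraMap C' A'))) =
      Ideal.span (Set.range (minors φ)))
    (hlift : ∀ φ' : Matrix (Fin (r + 1)) (Fin r) A',
      φ'.map (Ideal.Quotient.mk (J.map (algebraMap C' A'))) = φ →
      Function.Injective φ'.mulVecLin ∧
      LinearMap.range φ'.mulVecLin = LinearMap.ker (Fintype.linearCombination A' (minors φ')) ∧
      Module.Flat C' (A' ⧸ Ideal.span (Set.range (minors φ')))) :
    ∃ φ' : Matrix (Fin (r + 1)) (Fin r) A',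
      φ'.map (Ideal.Quotient.mk (J.map (algebraMap C' A'))) = φ ∧
      I' = Ideal.span (Set.range (minors φ')) := by
  classical
  have hKnil : IsNilpotent (J.map (algebraMap C' A')) := by
    obtain ⟨n, hn⟩ := hJ
    refine ⟨n, ?_⟩
    rw [← Ideal.map_pow, hn, Ideal.zero_eq_bot, Ideal.map_bot, Ideal.zero_eq_bot]
  have hmk : Function.Surjective (Ideal.Quotient.mk (J.map (algebraMap C' A'))) :=
    Ideal.Quotient.mk_surjective
  -- lift generators
  have h1 : ∀ i, ∃ f' ∈ I', Ideal.Quotient.mk (J.map (algebraMap C' A')) f' = minors φ i := by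
    intro i
    have : minors φ i ∈ I'.map (Ideal.Quotient.mk (J.map (algebraMap C' A'))) := by
      rw [hI']; exact Ideal.subset_span ⟨i, rfl⟩
    exact (Ideal.mem_map_iff_of_surjective _ hmk).mp this
  choose f' hf'I hf' using h1
  have hspan : I' = Ideal.span (Set.range f') := by
    apply DefCI.span_eq_of_flat J hJ I' f' hf'I
    rw [hI']
    congr 2
    funext i
    exact (hf' i).symm
  -- lift the matrix
  have h2 : ∀ i j, ∃ a : A', Ideal.Quotient.mk (J.map (algebraMap C' A')) a = φ i j :=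
    fun i j => hmk _
  choose ψ hψ using h2
  have he : ∀ j, ∑ i, f' i * ψ i j ∈ J.map (algebraMap C' A') * I' := by
    intro j
    apply DefCI.inf_map_le_mul I' J
    refine ⟨Ideal.sum_mem _ fun i _ => Ideal.mul_mem_right _ _ (hf'I i),
      Ideal.Quotient.eq_zero_iff_mem.mp ?_⟩
    rw [map_sum]
    simp only [map_mul, hf', hψ]
    exact sum_minors_mul φ j
  have h3 : ∀ j, ∃ c : Fin (r + 1) → A', (∀ i, c i ∈ J.map (algebraMap C' A')) ∧
      ∑ i, f' i * ψ i j = ∑ i, c i * f' i := by
    intro j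
    have h := he j
    rw [hspan, ← smul_eq_mul, Submodule.mem_ideal_smul_span_iff_exists_sum] at h
    obtain ⟨a, ha, hsum⟩ := h
    refine ⟨a, ha, ?_⟩
    rw [← hsum, Finsupp.sum_fintype _ _ (fun i => by simp)]
    rfl
  choose c hcK hc using h3
  let φ'' : Matrix (Fin (r + 1)) (Fin r) A' := Matrix.of fun i j => ψ i j - c j i
  have hφ'' : φ''.map (Ideal.Quotient.mk (J.map (algebraMap C' A'))) = φ := by
    ext i j
    simp only [Matrix.map_apply, φ'', Matrix.of_apply, map_sub, hψ]
    rw [Ideal.Quotient.eq_zero_iff_mem.mpr (hcK j i), sub_zero]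
  have hrel : ∀ j, ∑ i, f' i * φ'' i j = 0 := by
    intro j
    simp only [φ'', Matrix.of_apply, mul_sub, Finset.sum_sub_distrib]
    rw [hc j, sub_eq_zero]
    exact Finset.sum_congr rfl fun i _ => mul_comm _ _
  obtain ⟨hinj, hex, hflat⟩ := hlift φ'' hφ''
  obtain ⟨a, ha⟩ := exists_mul_minors r φ'' hinj hex f' hrel
  refine ⟨φ'', hφ'', ?_⟩
  have hle : I' ≤ Ideal.span (Set.range (minors φ'')) := by
    rw [hspan, Ideal.span_le]
    rintro _ ⟨i, rfl⟩
    show f' i ∈ _
    rw [ha i]
    exact Ideal.mul_mem_left _ _ (Ideal.subset_span ⟨i, rfl⟩)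
  refine (DefCI.eq_of_le_sup_mul (J.map (algebraMap C' A')) _ I' hKnil hle ?_).symm
  rw [Ideal.span_le]
  rintro _ ⟨i, rfl⟩
  have hd : minors φ'' i - f' i ∈ J.map (algebraMap C' A') *
      Ideal.span (Set.range (minors φ'')) := by
    apply DefCI.inf_map_le_mul _ J
    refine ⟨Ideal.sub_mem _ (Ideal.subset_span ⟨i, rfl⟩) (hle (hf'I i)),
      Ideal.Quotient.eq_zero_iff_mem.mp ?_⟩
    rw [map_sub, minors_map, hφ'', hf', sub_self]
  have : minors φ'' i = f' i + (minors φ'' i - f' i) := by ring
  show minors φ'' i ∈ _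
  rw [this]
  exact Ideal.add_mem _ (Ideal.mem_sup_left (hf'I i)) (Ideal.mem_sup_right hd)

end Groth.Agent.Lib.helper2.HBDef
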