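import Mathlib
import Groth.Agent.Lib.Helper2.HBDef1

/-!
# Deforming Hilbert–Burch presentations, II (helper2)

* `lift_exact`: helper19's `S11457` for an arbitrary nilpotent ideal `J` of an arbitrary base.
* `deform_exact`: combined with `deform`.
-/

set_option autoImplicit false
universe u

namespace Groth.Agent.Lib.helper2.HBDef

open CAlgX LocCoh Groth.Agent.S11457 Groth.Agent.Lib.Helper19

theorem lift_exact {C' A' : Type u} [CommRing C'] [CommRing A'] [Algebra C' A']
    [Module.Flat C' A'] (J : Ideal C') (hJnil : IsNilpotent J) (r : ℕ)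
    (φ' : Matrix (Fin (r + 1)) (Fin r) A')
    (ha : Function.Injective (φ'.map (Ideal.Quotient.mk (J.map (algebraMap C' A')))).mulVecLin)
    (hb : LinearMap.range (φ'.map (Ideal.Quotient.mk (J.map (algebraMap C' A')))).mulVecLin =
      LinearMap.ker (Fintype.linearCombination (A' ⧸ J.map (algebraMap C' A'))
        (minors (φ'.map (Ideal.Quotient.mk (J.map (algebraMap C' A')))))))
    [Module.Flat (C' ⧸ J) ((A' ⧸ J.map (algebraMap C' A')) ⧸
      Ideal.span (Set.range (minors (φ'.map (Ideal.Quotient.mk (J.map (algebraMap C' A')))))))] :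
    Function.Injective φ'.mulVecLin ∧
      LinearMap.range φ'.mulVecLin = LinearMap.ker (Fintype.linearCombination A' (minors φ')) ∧
      Module.Flat C' (A' ⧸ Ideal.span (Set.range (minors φ'))) := by
  obtain ⟨hinj, hfl⟩ := step1 J φ' hJnil ha hb
  haveI := hfl
  obtain ⟨hle, hflat⟩ := step2 J φ' hJnil hb
  refine ⟨hinj, ?_, hflat⟩
  apply le_antisymm
  · rintro _ ⟨x, rfl⟩
    exact linearCombination_minors_mulVec φ' x
  · exact hle

theorem deform_exact {C' A' : Type u} [CommRing C'] [CommRing A'] [Algebra C' A']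
    [IsNoetherianRing A'] [Module.Flat C' A']
    (J : Ideal C') (hJ : IsNilpotent J) (r : ℕ)
    (φ : Matrix (Fin (r + 1)) (Fin r) (A' ⧸ J.map (algebraMap C' A')))
    (ha : Function.Injective φ.mulVecLin)
    (hb : LinearMap.range φ.mulVecLin =
      LinearMap.ker (Fintype.linearCombination (A' ⧸ J.map (algebraMap C' A')) (minors φ)))
    [Module.Flat (C' ⧸ J) ((A' ⧸ J.map (algebraMap C' A')) ⧸ Ideal.span (Set.range (minors φ)))]
    (I' : Ideal A') [Module.Flat C' (A' ⧸ I')]
    (hI' : I'.map (Ideal.Quotient.mk (J.map (algebraMap C' A'))) =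
      Ideal.span (Set.range (minors φ))) :
    ∃ φ' : Matrix (Fin (r + 1)) (Fin r) A',
      φ'.map (Ideal.Quotient.mk (J.map (algebraMap C' A'))) = φ ∧
      I' = Ideal.span (Set.range (minors φ')) ∧
      Function.Injective φ'.mulVecLin ∧
      LinearMap.range φ'.mulVecLin = LinearMap.ker (Fintype.linearCombination A' (minors φ')) := by
  have hlift : ∀ φ' : Matrix (Fin (r + 1)) (Fin r) A',
      φ'.map (Ideal.Quotient.mk (J.map (algebraMap C' A'))) = φ →
      Function.Injective φ'.mulVecLin ∧
      LinearMap.range φ'.mulVecLin = LinearMap.ker (Fintype.linearCombination A' (minors φ')) ∧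
      Module.Flat C' (A' ⧸ Ideal.span (Set.range (minors φ'))) := by
    intro φ' hφ'
    subst hφ'
    exact lift_exact J hJ r φ' ha hb
  obtain ⟨φ', hφ', hI⟩ := deform J hJ r φ I' hI' hlift
  obtain ⟨hinj, hex, -⟩ := hlift φ' hφ'
  exact ⟨φ', hφ', hI, hinj, hex⟩

end Groth.Agent.Lib.helper2.HBDef
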