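import Mathlib
import Groth.Agent.Lib.Helper2.BE2
import Groth.Agent.S11457

/-!
# Spreading out a Hilbert–Burch presentation from a local ring to a principal open (helper2)

* `exists_smul_ker_le_range`, `ker_le_range_of_isUnit`: spreading out exactness of matrices.
* `exists_mul_mem_of_map_le`, `map_le_map_of_isUnit`: spreading out inclusions of ideals.
* `spread_hb`: a Hilbert–Burch presentation of `I S_P` spreads out to `S_g`, `g ∉ P`.
-/

set_option autoImplicit false
universe u

namespace Groth.Agent.Lib.helper2.HBSpread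

open Matrix Groth.Agent.Lib.helper2.BE Groth.Agent.S11457

section general

variable {S : Type u} [CommRing S]

theorem exists_smul_ker_le_range [IsNoetherianRing S] (M : Submonoid S) (A : Type u) [CommRing A]
    [Algebra S A] [IsLocalization M A] {a b c : Type} [Fintype a] [Fintype b] [Fintype c]
    (X : Matrix a b S) (Y : Matrix b c S)
    (h : LinearMap.ker (X.map (algebraMap S A)).mulVecLin ≤
      LinearMap.range (Y.map (algebraMap S A)).mulVecLin) :
    ∃ g ∈ M, ∀ k ∈ LinearMap.ker X.mulVecLin, g • k ∈ LinearMap.range Y.mulVecLin := by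
  classical
  have hfg : (LinearMap.ker X.mulVecLin).FG := IsNoetherian.noetherian _
  obtain ⟨T, hT⟩ := hfg
  have h1 : ∀ k ∈ T, ∃ s ∈ M, s • k ∈ LinearMap.range Y.mulVecLin := by
    intro k hk
    have hk' : k ∈ LinearMap.ker X.mulVecLin := hT ▸ Submodule.subset_span hk
    rw [LinearMap.mem_ker, Matrix.mulVecLin_apply] at hk'
    apply (locVec_mem_range_iff M A Y k).mp
    apply h
    rw [LinearMap.mem_ker, Matrix.mulVecLin_apply, ← locVec_mulVec, hk', locVec_zero]
  choose! s hsM hs using h1
  refine ⟨∏ k ∈ T, s k, Submonoid.prod_mem _ (fun k hk => hsM k hk), ?_⟩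
  intro k hk
  rw [← hT] at hk
  refine Submodule.span_induction ?_ ?_ ?_ ?_ hk
  · intro x hx
    rw [← Finset.mul_prod_erase T s hx, mul_comm, mul_smul]
    exact Submodule.smul_mem _ _ (hs x hx)
  · rw [smul_zero]; exact Submodule.zero_mem _
  · intro x y _ _ hx hy
    rw [smul_add]; exact Submodule.add_mem _ hx hy
  · intro a x _ hx
    rw [smul_comm]; exact Submodule.smul_mem _ _ hx

theorem ker_le_range_of_isUnit {a b c : Type} [Fintype a] [Fintype b] [Fintype c]
    (X : Matrix a b S) (Y : Matrix b c S) (g : S)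
    (hg : ∀ k ∈ LinearMap.ker X.mulVecLin, g • k ∈ LinearMap.range Y.mulVecLin)
    (N : Submonoid S) (B : Type u) [CommRing B] [Algebra S B] [IsLocalization N B]
    (hu : IsUnit (algebraMap S B g)) :
    LinearMap.ker (X.map (algebraMap S B)).mulVecLin ≤
      LinearMap.range (Y.map (algebraMap S B)).mulVecLin := by
  intro v hv
  rw [LinearMap.mem_ker, Matrix.mulVecLin_apply] at hv
  obtain ⟨t, ht, w, hw⟩ := exists_locVec_eq N B v
  have hunit : IsUnit (algebraMap S B t) := IsLocalization.map_units B ⟨t, ht⟩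
  have h1 : locVec B (X *ᵥ w) = 0 := by
    rw [locVec_mulVec, ← hw, Matrix.mulVec_smul, hv, smul_zero]
  obtain ⟨t', ht', htw⟩ := (locVec_eq_zero_iff N B _).mp h1
  have hunit' : IsUnit (algebraMap S B t') := IsLocalization.map_units B ⟨t', ht'⟩
  have h2 : t' • w ∈ LinearMap.ker X.mulVecLin := by
    rw [LinearMap.mem_ker, Matrix.mulVecLin_apply, Matrix.mulVec_smul, htw]
  obtain ⟨z, hz⟩ := hg _ h2
  rw [Matrix.mulVecLin_apply] at hz
  have h4 : (algebraMap S B g * algebraMap S B t' * algebraMap S B t) • v ∈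
      LinearMap.range (Y.map (algebraMap S B)).mulVecLin := by
    refine ⟨locVec B z, ?_⟩
    rw [Matrix.mulVecLin_apply, ← locVec_mulVec, hz, locVec_smul, locVec_smul, ← hw, smul_smul,
      smul_smul]
  obtain ⟨c, hc⟩ := ((hu.mul hunit').mul hunit).exists_left_inv
  have h5 := Submodule.smul_mem _ c h4
  rwa [smul_smul, hc, one_smul] at h5

theorem exists_mul_mem_of_map_le (M : Submonoid S) (A : Type u) [CommRing A]
    [Algebra S A] [IsLocalization M A] (I D : Ideal S) (hI : I.FG)
    (h : I.map (algebraMap S A) ≤ D.map (algebraMap S A)) :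
    ∃ g ∈ M, ∀ x ∈ I, g * x ∈ D := by
  classical
  obtain ⟨T, hT⟩ := hI
  have h1 : ∀ k ∈ T, ∃ s ∈ M, s * k ∈ D := by
    intro k hk
    have hk' : k ∈ I := hT ▸ Submodule.subset_span hk
    have h2 : algebraMap S A k ∈ D.map (algebraMap S A) := h (Ideal.mem_map_of_mem _ hk')
    rw [IsLocalization.mem_map_algebraMap_iff M A] at h2
    obtain ⟨⟨d, m⟩, hdm⟩ := h2
    rw [← map_mul] at hdm
    obtain ⟨c, hc⟩ := (IsLocalization.eq_iff_exists M A).mp hdm
    refine ⟨c * m, M.mul_mem c.2 m.2, ?_⟩
    have : (c : S) * (m : S) * k = c * d := by rw [← hc]; ring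
    rw [this]
    exact D.mul_mem_left _ d.2
  choose! s hsM hs using h1
  refine ⟨∏ k ∈ T, s k, Submonoid.prod_mem _ (fun k hk => hsM k hk), ?_⟩
  intro k hk
  rw [← hT] at hk
  refine Submodule.span_induction ?_ ?_ ?_ ?_ hk
  · intro x hx
    have : (∏ k ∈ T, s k) * x = (∏ k ∈ T.erase x, s k) * (s x * x) := by
      rw [← Finset.mul_prod_erase T s hx]; ring
    rw [this]
    exact D.mul_mem_left _ (hs x hx)
  · rw [mul_zero]; exact D.zero_mem
  · intro x y _ _ hx hy
    rw [mul_add]; exact D.add_mem hx hy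
  · intro a x _ hx
    rw [smul_eq_mul, mul_left_comm]; exact D.mul_mem_left _ hx

theorem map_le_map_of_isUnit (I D : Ideal S) (g : S) (hg : ∀ x ∈ I, g * x ∈ D)
    (B : Type u) [CommRing B] [Algebra S B] (hu : IsUnit (algebraMap S B g)) :
    I.map (algebraMap S B) ≤ D.map (algebraMap S B) := by
  rw [Ideal.map_le_iff_le_comap]
  intro x hx
  rw [Ideal.mem_comap]
  have h1 : algebraMap S B (g * x) ∈ D.map (algebraMap S B) := Ideal.mem_map_of_mem _ (hg x hx)
  rw [map_mul] at h1
  exact (Ideal.unit_mul_mem_iff_mem _ hu).mp h1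

end general

theorem ker_row {R : Type u} [CommRing R] {n : ℕ} (m : Fin n → R) :
    LinearMap.ker (Matrix.of fun (_ : Fin 1) j => m j).mulVecLin =
      LinearMap.ker (Fintype.linearCombination R m) := by
  ext v
  simp only [LinearMap.mem_ker, Matrix.mulVecLin_apply, Fintype.linearCombination_apply]
  constructor
  · intro h
    have := congrFun h 0
    simpa [Matrix.mulVec, dotProduct, mul_comm] using this
  · intro h
    ext i
    simpa [Matrix.mulVec, dotProduct, mul_comm] using h

theorem minors_smul {R : Type u} [CommRing R] {r : ℕ} (u : R)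
    (φ : Matrix (Fin (r + 1)) (Fin r) R) (i : Fin (r + 1)) :
    minors (u • φ) i = u ^ r * minors φ i := by
  unfold minors
  have h : (u • φ).submatrix i.succAbove id = u • φ.submatrix i.succAbove id := rfl
  rw [h, Matrix.det_smul, Fintype.card_fin]
  ring

theorem spread_hb {S : Type u} [CommRing S] [IsNoetherianRing S] (P : Ideal S) [P.IsPrime]
    (I : Ideal S) (A : Type u) [CommRing A] [Algebra S A] [IsLocalization.AtPrime A P] (r : ℕ)
    (φ : Matrix (Fin (r + 1)) (Fin r) A)
    (hspan : Ideal.span (Set.range (minors φ)) = I.map (algebraMap S A))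
    (hinj : Function.Injective φ.mulVecLin)
    (hex : LinearMap.range φ.mulVecLin =
      LinearMap.ker (Fintype.linearCombination A (minors φ))) :
    ∃ g : S, g ∉ P ∧ ∃ φ₁ : Matrix (Fin (r + 1)) (Fin r) S,
      ∀ (B : Type u) [CommRing B] [Algebra S B] [IsLocalization.Away g B],
        Ideal.span (Set.range (minors (φ₁.map (algebraMap S B)))) = I.map (algebraMap S B) ∧
        Function.Injective (φ₁.map (algebraMap S B)).mulVecLin ∧
        LinearMap.range (φ₁.map (algebraMap S B)).mulVecLin =
          LinearMap.ker (Fintype.linearCombination B (minors (φ₁.map (algebraMap S B)))) := by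
  classical
  -- clear denominators
  obtain ⟨s, hs⟩ := IsLocalization.exist_integer_multiples_of_finite P.primeCompl
    (fun ij : Fin (r + 1) × Fin r => φ ij.1 ij.2)
  choose φ₀ hφ₀ using hs
  let φ₁ : Matrix (Fin (r + 1)) (Fin r) S := Matrix.of fun i j => φ₀ (i, j)
  set u : A := algebraMap S A (s : S) with hu
  have huu : IsUnit u := IsLocalization.map_units A s
  have hφA : φ₁.map (algebraMap S A) = u • φ := by
    ext i j
    simp only [Matrix.map_apply, φ₁, Matrix.of_apply, Matrix.smul_apply, smul_eq_mul]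
    rw [hφ₀ (i, j), Algebra.smul_def]
  have hminA : ∀ i, minors (φ₁.map (algebraMap S A)) i = u ^ r * minors φ i := by
    intro i; rw [hφA, minors_smul]
  have hur : IsUnit (u ^ r) := huu.pow r
  -- the ideal of minors
  set D : Ideal S := Ideal.span (Set.range (minors φ₁)) with hD
  have hDmap : ∀ (B : Type u) [CommRing B] [Algebra S B],
      D.map (algebraMap S B) = Ideal.span (Set.range (minors (φ₁.map (algebraMap S B)))) := by
    intro B _ _
    rw [hD, Ideal.map_span, ← Set.range_comp]
    congr 2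
    funext i
    exact minors_map (algebraMap S B) φ₁ i
  have hDA : D.map (algebraMap S A) = I.map (algebraMap S A) := by
    rw [hDmap A, ← hspan]
    apply le_antisymm
    · rw [Ideal.span_le]
      rintro _ ⟨i, rfl⟩
      show minors (φ₁.map (algebraMap S A)) i ∈ _
      rw [hminA i]
      exact Ideal.mul_mem_left _ _ (Ideal.subset_span ⟨i, rfl⟩)
    · rw [Ideal.span_le]
      rintro _ ⟨i, rfl⟩
      show minors φ i ∈ _
      have : u ^ r * minors φ i ∈ Ideal.span (Set.range (minors (φ₁.map (algebraMap S A)))) := by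
        rw [← hminA i]; exact Ideal.subset_span ⟨i, rfl⟩
      exact (Ideal.unit_mul_mem_iff_mem _ hur).mp this
  obtain ⟨g₁, hg₁P, hg₁⟩ := exists_mul_mem_of_map_le P.primeCompl A I D
    (IsNoetherian.noetherian I) hDA.ge
  obtain ⟨g₂, hg₂P, hg₂⟩ := exists_mul_mem_of_map_le P.primeCompl A D I
    (IsNoetherian.noetherian D) hDA.le
  -- injectivity
  let Y₀ : Matrix (Fin r) (Fin 0) S := 0
  have hinjA : LinearMap.ker (φ₁.map (algebraMap S A)).mulVecLin ≤
      LinearMap.range (Y₀.map (algebraMap S A)).mulVecLin := by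
    intro v hv
    rw [LinearMap.mem_ker, hφA, Matrix.mulVecLin_apply, Matrix.smul_mulVec] at hv
    have h1 : φ.mulVecLin v = 0 := by
      rw [Matrix.mulVecLin_apply]; exact (huu.smul_eq_zero).mp hv
    have h2 : v = 0 := hinj (h1.trans (map_zero _).symm)
    rw [h2]; exact Submodule.zero_mem _
  obtain ⟨g₃, hg₃P, hg₃⟩ := exists_smul_ker_le_range P.primeCompl A φ₁ Y₀ hinjA
  -- exactness
  let X₀ : Matrix (Fin 1) (Fin (r + 1)) S := Matrix.of fun _ j => minors φ₁ j
  have hX₀ : ∀ (B : Type u) [CommRing B] [Algebra S B],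
      X₀.map (algebraMap S B) = Matrix.of fun _ j => minors (φ₁.map (algebraMap S B)) j := by
    intro B _ _
    ext i j
    simp only [Matrix.map_apply, X₀, Matrix.of_apply]
    exact minors_map (algebraMap S B) φ₁ j
  have hexA : LinearMap.ker (X₀.map (algebraMap S A)).mulVecLin ≤
      LinearMap.range (φ₁.map (algebraMap S A)).mulVecLin := by
    rw [hX₀ A, ker_row]
    intro v hv
    rw [LinearMap.mem_ker, Fintype.linearCombination_apply] at hv
    have h1 : v ∈ LinearMap.ker (Fintype.linearCombination A (minors φ)) := by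
      rw [LinearMap.mem_ker, Fintype.linearCombination_apply]
      have h2 : u ^ r • ∑ i, v i • minors φ i = 0 := by
        rw [← hv, Finset.smul_sum]
        refine Finset.sum_congr rfl fun i _ => ?_
        rw [hminA i]
        simp only [smul_eq_mul]; ring
      exact (hur.smul_eq_zero).mp h2
    rw [← hex] at h1
    obtain ⟨w, rfl⟩ := h1
    obtain ⟨c, hc⟩ := huu.exists_left_inv
    refine ⟨c • w, ?_⟩
    rw [hφA, Matrix.mulVecLin_apply, Matrix.mulVecLin_apply, Matrix.mulVec_smul,
      Matrix.smul_mulVec, smul_smul]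
    rw [hc, one_smul]
  obtain ⟨g₄, hg₄P, hg₄⟩ := exists_smul_ker_le_range P.primeCompl A X₀ φ₁ hexA
  refine ⟨g₁ * g₂ * g₃ * g₄, ?_, φ₁, ?_⟩
  · exact (P.primeCompl.mul_mem (P.primeCompl.mul_mem (P.primeCompl.mul_mem hg₁P hg₂P) hg₃P)
      hg₄P)
  intro B _ _ _
  have hgu : IsUnit (algebraMap S B (g₁ * g₂ * g₃ * g₄)) :=
    IsLocalization.Away.algebraMap_isUnit _
  rw [map_mul, map_mul, map_mul] at hgu
  have hu4 := isUnit_of_mul_isUnit_right hgu
  have hu123 := isUnit_of_mul_isUnit_left hgu
  have hu3 := isUnit_of_mul_isUnit_right hu123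
  have hu12 := isUnit_of_mul_isUnit_left hu123
  have hu2 := isUnit_of_mul_isUnit_right hu12
  have hu1 := isUnit_of_mul_isUnit_left hu12
  refine ⟨?_, ?_, ?_⟩
  · rw [← hDmap B]
    exact le_antisymm (map_le_map_of_isUnit D I g₂ hg₂ B hu2)
      (map_le_map_of_isUnit I D g₁ hg₁ B hu1)
  · have h := ker_le_range_of_isUnit φ₁ Y₀ g₃ hg₃ (Submonoid.powers (g₁ * g₂ * g₃ * g₄)) B hu3
    rw [← LinearMap.ker_eq_bot, eq_bot_iff]
    intro v hv
    obtain ⟨z, hz⟩ := h hv
    rw [← hz, Subsingleton.elim z 0, map_zero]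
    exact Submodule.zero_mem _
  · apply le_antisymm
    · rintro _ ⟨x, rfl⟩
      exact linearCombination_minors_mulVec _ x
    · have h := ker_le_range_of_isUnit X₀ φ₁ g₄ hg₄ (Submonoid.powers (g₁ * g₂ * g₃ * g₄)) B hu4
      rw [hX₀ B, ker_row] at h
      exact h

end Groth.Agent.Lib.helper2.HBSpread
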