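import Mathlib
import Groth.Agent.Lib.Helper2.HB2
import Groth.Agent.Lib.Helper2.HBSpread1
import Groth.Agent.Lib.Helper17.RegNear
import Groth.Agent.Lib.Helper7.SurfCartierReg

/-!
# Local Hilbert–Burch presentations of codimension two Cohen–Macaulay subschemes (helper2)
-/

set_option autoImplicit false
universe u

open CategoryTheory AlgebraicGeometry

namespace Groth.Agent.Lib.helper2.HBSch

open Groth.Agent.S11457 IsLocalRing

/-- Cohen–Macaulayness of local rings is invariant under ring isomorphisms (as in helper19's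
`Link7`). -/
theorem isCM_of_ringEquiv {S T : Type u} [CommRing S] [CommRing T] (e : S ≃+* T)
    (h : LocCoh.IsCohenMacaulayLocalRing S) : LocCoh.IsCohenMacaulayLocalRing T := by
  haveI : IsNoetherianRing S := h.toIsNoetherian
  haveI : IsLocalRing S := h.toIsLocalRing
  haveI : IsNoetherianRing T := isNoetherianRing_of_ringEquiv S e
  haveI : IsLocalRing T := e.isLocalRing
  refine { supportDim_eq_depth := ?_ }
  have h1 := h.supportDim_eq_depth
  rw [Module.supportDim_self_eq_ringKrullDim] at h1 ⊢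
  have key : LocCoh.depth S S = LocCoh.depth T T := by
    let _ : Algebra S T := (e : S →+* T).toAlgebra
    have hloc : IsLocalHom (algebraMap S T) := by
      constructor
      intro a ha
      have : IsUnit (e a) := ha
      exact (isUnit_map_iff e a).mp this
    have hfin : Module.Finite S T :=
      Module.Finite.of_surjective (Algebra.linearMap S T) e.surjective
    have h2 := Groth.Agent.Lib.helper26.Depth.depth_eq_of_isLocalHom (A := S) (B := T) T
    rw [← h2]
    unfold LocCoh.depth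
    exact Groth.Agent.Lib.helper26.Depth.idealDepth_congr
      (LinearEquiv.ofBijective (Algebra.linearMap S T) e.bijective)
  rw [← ringKrullDim_eq_of_ringEquiv e, h1, key]

theorem exists_local_hb (k : Type u) [Field k]
    (X Y : Scheme.{u}) (f : X ⟶ Spec (CommRingCat.of k)) [Smooth f] (ι : Y ⟶ X)
    [IsClosedImmersion ι]
    (y : Y) (hCM : LocCoh.IsCohenMacaulayLocalRing (Y.presheaf.stalk y))
    (hcodim : ringKrullDim (Y.presheaf.stalk y) + 2 = ringKrullDim (X.presheaf.stalk (ι y))) :
    ∃ U : X.affineOpens, ι y ∈ (U : X.Opens) ∧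
      ∃ (r : ℕ) (φ : Matrix (Fin (r + 1)) (Fin r) Γ(X, U)),
      (Ideal.span (Set.range (minors φ)) = ι.ker.ideal U ∧
        Function.Injective (φ).mulVecLin ∧
        LinearMap.range (φ).mulVecLin =
          LinearMap.ker (Fintype.linearCombination Γ(X, U) (minors φ))) := by
  classical
  haveI : IsLocallyNoetherian X := LocallyOfFiniteType.isLocallyNoetherian f
  haveI hreg : IsRegularLocalRing (X.presheaf.stalk (ι y)) :=
    Groth.Agent.Lib.helper7.SurfCartier.isRegularLocalRing_stalk_of_smooth f (ι y)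
  have hsurj : Function.Surjective (ι.stalkMap y).hom := ι.stalkMap_surjective y
  let e : (X.presheaf.stalk (ι y)) ⧸ RingHom.ker (ι.stalkMap y).hom ≃+* Y.presheaf.stalk y :=
    RingHom.quotientKerEquivOfSurjective hsurj
  haveI : LocCoh.IsCohenMacaulayLocalRing
      ((X.presheaf.stalk (ι y)) ⧸ RingHom.ker (ι.stalkMap y).hom) :=
    isCM_of_ringEquiv e.symm hCM
  have hdim : ringKrullDim ((X.presheaf.stalk (ι y)) ⧸ RingHom.ker (ι.stalkMap y).hom) + 2 =
      ringKrullDim (X.presheaf.stalk (ι y)) := by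
    rw [ringKrullDim_eq_of_ringEquiv e]; exact hcodim
  obtain ⟨r, φ, hspan, -, hinj, hex⟩ :=
    Groth.Agent.Lib.helper2.HB.hilbert_burch_cm_codim_two (X.presheaf.stalk (ι y))
      (RingHom.ker (ι.stalkMap y).hom) hdim
  obtain ⟨W, hW, hzW, -⟩ :=
    exists_isAffineOpen_mem_and_subset (X := X) (x := ι y) (U := ⊤) trivial
  haveI : IsNoetherianRing Γ(X, W) := IsLocallyNoetherian.component_noetherian ⟨W, hW⟩
  have hk := Groth.Agent.Lib.helper17.RegNear.ker_stalkMap_eq_map ι y W hW hzW
  letI := X.presheaf.algebra_section_stalk (⟨ι y, hzW⟩ : W)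
  haveI ip : IsLocalization.AtPrime (X.presheaf.stalk (ι y))
      (hW.primeIdealOf ⟨ι y, hzW⟩).asIdeal := hW.isLocalization_stalk ⟨ι y, hzW⟩
  obtain ⟨g, hg, φ₁, hB⟩ := Groth.Agent.Lib.helper2.HBSpread.spread_hb
    (hW.primeIdealOf ⟨ι y, hzW⟩).asIdeal (RingHom.ker (ι.app W).hom)
    (X.presheaf.stalk (ι y)) r φ (hspan.trans hk.symm) hinj hex
  haveI := hW.isLocalization_basicOpen g
  obtain ⟨h1, h2, h3⟩ := hB Γ(X, X.basicOpen g)
  refine ⟨⟨X.basicOpen g, hW.basicOpen g⟩, ?_, r,
    φ₁.map (algebraMap Γ(X, W) Γ(X, X.basicOpen g)), ?_, h2, h3⟩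
  · show ι y ∈ X.basicOpen g
    rw [Scheme.mem_basicOpen _ _ _ hzW]
    exact (IsLocalization.AtPrime.isUnit_to_map_iff (X.presheaf.stalk (ι y))
      (hW.primeIdealOf ⟨ι y, hzW⟩).asIdeal g).mpr hg
  · have h4 := ι.ker.map_ideal_basicOpen ⟨W, hW⟩ g
    rw [Scheme.Hom.ker_apply] at h4
    rw [h1]
    exact h4

end Groth.Agent.Lib.helper2.HBSch
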