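import Mathlib
import Groth.Agent.Lib.Helper2.CechTr2
import Groth.Agent.Lib.Helper2.CechLow3
import Groth.Agent.Lib.Helper2.LocCohZ1

/-!
# helper2: cohomology with supports in `V(fs)` of a quasi-coherent module on an affine scheme
as a Koszul colimit
-/

set_option autoImplicit false
universe u

open CategoryTheory CategoryTheory.Limits HomologicalComplex Opposite TopologicalSpace
  AlgebraicGeometry

namespace Groth.Agent.Lib.helper2.HZAff

open Groth.Agent.Lib.helper27 Groth.Agent.Lib.helper7 Groth.Agent.Lib.helper8.CechQcqs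
  Groth.Agent.Lib.helper2.CechDS Groth.Agent.Lib.helper2.CechLow Groth.Agent.Lib.helper2.ModSec
  Groth.Agent.Lib.helper2.LCZ Groth.Agent.Lib.helper2.CechTr

variable {Y : Scheme.{u}} [IsAffine Y] (M : Y.Modules) [M.IsQuasicoherent] (fs : List Γ(Y, ⊤))

lemma hvan (k : ℕ) :
    Subsingleton (Abelian.Ext (ZZ (⊤ : Y.Opens)) (Coh.toAb M) (k + 1)) :=
  SerreVan.subsingleton_HU_of_isAffineOpen M ⊤ (isAffineOpen_top Y) k

lemma haff (i : Fin fs.length) : IsAffineOpen (Y.basicOpen (fs.get i)) :=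
  (isAffineOpen_top Y).basicOpen (fs.get i)

theorem HU_equiv_koszulHLim (q : ℕ) (hq : 1 ≤ q) :
    Nonempty (CohTop.HU (Coh.toAb M) q (UU fs) ≃+ CohIII.koszulHLim fs (M0 M) (q + 1)) := by
  obtain ⟨e⟩ := HHon_equiv_koszulHLim M fs (haff fs) q hq
  obtain ⟨e2⟩ := OpenRestr.HU_equiv_H_restr (UU fs) (Coh.toAb M) q
  exact ⟨e2.trans e⟩

theorem HZM_equiv_koszulHLim (i : ℕ) :
    Nonempty (LocCohZ.HZM Y M i (UU fs) ≃+ CohIII.koszulHLim fs (M0 M) i) := by
  match i with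
  | 0 =>
    obtain ⟨e⟩ := ker_equiv_koszulHLim M fs
    have e0 := LocCohZ.sect0Equiv (Coh.toAb M) (le_top : UU fs ≤ ⊤)
    exact ⟨e0.trans e⟩
  | 1 =>
    obtain ⟨e⟩ := coker_equiv_koszulHLim M fs
    have e0 := HZ_one_equiv (Coh.toAb M) (UU fs) (hvan M)
    exact ⟨e0.trans e⟩
  | (j + 2) =>
    obtain ⟨e1⟩ := HU_equiv_koszulHLim M fs (j + 1) (by omega)
    have e0 := deltaEquiv (Coh.toAb M) (UU fs) (hvan M) j
    exact ⟨e0.symm.trans e1⟩

end Groth.Agent.Lib.helper2.HZAff
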