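import Mathlib
import Groth.Agent.Lib.Helper27.HZshVanish

/-!
# helper2: vanishing of the local cohomology sheaves can be tested on a basis of opens
-/

set_option autoImplicit false
set_option linter.unusedSectionVars false
set_option linter.unusedVariables false

namespace Groth.Agent.Lib.helper2.HZshB

open CategoryTheory Limits Opposite Abelian TopologicalSpace
open Groth.Agent.Lib.helper27 Groth.Agent.Lib.helper27.HZshVanish

universe u

variable {X : TopCat.{u}} (U : Opens X) (P : Opens X → Prop)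

/-- vanishing of the local cohomology groups in degree `i` over the opens satisfying `P` -/
def BP (i : ℕ) (G : CohTop.Ab X) : Prop :=
  ∀ V : Opens X, P V → Subsingleton (LocCohZ.HZ G i (inf_le_left : V ⊓ U ≤ V))

variable (hP : Opens.IsBasis {V : Opens X | P V})

include hP in
lemma noSupp_of_BP_zero (G : CohTop.Ab X) (h : BP U P 0 G) : NoSupp U G := by
  intro V s hs
  let ι := {W : Opens X // P W ∧ W ≤ V}
  have hcov : V ≤ ⨆ W : ι, (W.1 : Opens X) := by
    intro x hx
    obtain ⟨W, hW, hxW, hWV⟩ := (Opens.isBasis_iff_nbhd.1 hP) hx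
    exact Opens.mem_iSup.2 ⟨⟨W, hW, hWV⟩, hxW⟩
  apply TopCat.Sheaf.eq_of_locally_eq' (F := (G : TopCat.Sheaf AddCommGrpCat X))
    (fun W : ι => W.1) V (fun W => homOfLE W.2.2) hcov
  intro W
  -- the restriction of `s` to `W` vanishes on `W ⊓ U`
  have hW := h W.1 W.2.1
  set t := (G.obj.map (homOfLE W.2.2).op).hom s with ht
  have ht0 : (G.obj.map (homOfLE (inf_le_left : W.1 ⊓ U ≤ W.1)).op).hom t = 0 := by
    have h1 := SectSupp.map_map_apply G W.2.2 (inf_le_left : W.1 ⊓ U ≤ W.1) s
    have h2 := SectSupp.map_map_apply G (inf_le_left : V ⊓ U ≤ V)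
      (inf_le_inf_right U W.2.2 : W.1 ⊓ U ≤ V ⊓ U) s
    rw [hs, map_zero] at h2
    exact h1.trans h2.symm
  have h1 : (LocCohZ.sect0Equiv G (inf_le_left : W.1 ⊓ U ≤ W.1)).symm ⟨t, ht0⟩ =
      (LocCohZ.sect0Equiv G (inf_le_left : W.1 ⊓ U ≤ W.1)).symm 0 := Subsingleton.elim _ _
  have h2 := (LocCohZ.sect0Equiv G (inf_le_left : W.1 ⊓ U ≤ W.1)).symm.injective h1
  have h3 : t = 0 := congrArg Subtype.val h2
  show (G.obj.map (homOfLE W.2.2).op).hom s = (G.obj.map (homOfLE W.2.2).op).hom 0
  rw [map_zero]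
  exact h3

section shift

variable (S : ShortComplex (CohTop.Ab X)) (hS : S.ShortExact)
  (hfl : TopCat.Sheaf.IsFlasque S.X₂) (h0 : NoSupp U S.X₂)

include hS hfl h0

lemma BP_shift (i : ℕ) (h : BP U P (i + 1) S.X₁) : BP U P i S.X₃ := by
  intro V hV
  refine subsingleton_of_forall_eq 0 (fun x₃ => ?_)
  have := h V hV
  have hz : x₃.comp hS.extClass rfl = 0 := Subsingleton.elim _ _
  obtain ⟨x₂, rfl⟩ := Ext.covariant_sequence_exact₃ _ hS x₃ rfl hz
  rw [(B_X₂ U S hS hfl h0 i V).elim x₂ 0, Ext.zero_comp]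

end shift

include hP in
theorem main_of_basis : ∀ (n : ℕ) (G : CohTop.Ab X),
    (∀ i : ℕ, i < n → BP U P i G) → (∀ i : ℕ, i < n → A U i G) := by
  intro n
  induction n with
  | zero => intro G _ i hi; exact absurd hi (Nat.not_lt_zero i)
  | succ n ih =>
    intro G h
    have hG : NoSupp U G := noSupp_of_BP_zero U P hP G (h 0 (Nat.succ_pos n))
    obtain ⟨J, m, hm, hJfl, hJ⟩ := exists_embedding U G hG
    have hS := cokerSES_shortExact m
    have h3 : ∀ i, i < n → A U i (cokerSES m).X₃ :=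
      ih (cokerSES m).X₃ (fun i hi =>
        BP_shift U P (cokerSES m) hS hJfl hJ i (h (i + 1) (Nat.succ_lt_succ hi)))
    intro i hi
    cases i with
    | zero => exact (A_zero_iff U G).2 hG
    | succ i =>
      exact (A_shift U (cokerSES m) hS hJfl hJ i).1 (h3 i (Nat.lt_of_succ_lt_succ hi))

include hP in
/-- the local cohomology sheaves `ℋ^i_Z(G)` vanish for `i < n` iff the groups `H^i_{Z ∩ V}(V, G)`
vanish for `i < n` and all `V` in a basis -/
theorem iff_basis (n : ℕ) (G : CohTop.Ab X) :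
    (∀ i : ℕ, i < n → IsZero ((LocCohZ.HZsh U i).obj G)) ↔
      ∀ (V : Opens X), P V → ∀ i : ℕ, i < n →
        Subsingleton (LocCohZ.HZ G i (inf_le_left : V ⊓ U ≤ V)) := by
  constructor
  · intro h V _ i hi
    exact (HZshVanish.main U n G).1 h i hi V
  · intro h
    exact main_of_basis U P hP n G (fun i hi V hV => h V hV i hi)

end Groth.Agent.Lib.helper2.HZshB
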