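import Mathlib
import Groth.Agent.S6026
import Groth.Agent.Lib.Helper2.HZshB
import Groth.Agent.Lib.Helper2.HZAff
import Groth.Agent.Lib.Helper2.DepthLC
import Groth.Agent.Lib.Helper2.Hartogs2

/-!
# helper2: vanishing of local cohomology sheaves and depth (S6034)
-/

set_option autoImplicit false
universe u

open CategoryTheory CategoryTheory.Limits Opposite TopologicalSpace AlgebraicGeometry

namespace Groth.Agent.Lib.helper2.HZDepth

open Groth.Agent.Lib.helper2.CechLow Groth.Agent.Lib.helper2.Hartogs
  Groth.Agent.Lib.helper16.CohStalk Groth.Agent.Lib.helper26.Depth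
  Groth.Agent.Lib.helper16.CohFinite

section general

variable {X : Scheme.{u}} (F : X.Modules) {V : X.Opens} (hV : IsAffineOpen V)

/-- depth of the stalk computed from the sections over an affine open -/
theorem depth_stalk_eq_sections [F.IsQuasicoherent] [IsNoetherianRing Γ(X, V)]
    (hfin : Module.Finite Γ(X, V) Γ(F, V)) (x : X) (hx : x ∈ V) :
    LocCoh.depth (X.presheaf.stalk x) (F.presheaf.stalk x) =
      LocCoh.depth (Localization.AtPrime (hV.primeIdealOf ⟨x, hx⟩).asIdeal)
        (LocalizedModule (hV.primeIdealOf ⟨x, hx⟩).asIdeal.primeCompl Γ(F, V)) := by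
  letI := TopCat.Presheaf.algebra_section_stalk X.presheaf (⟨x, hx⟩ : V)
  letI := modStalk F x hx
  haveI := isScalarTower_stalk F x hx
  haveI : IsLocalization.AtPrime (X.presheaf.stalk x) (hV.primeIdealOf ⟨x, hx⟩).asIdeal :=
    hV.isLocalization_stalk ⟨x, hx⟩
  haveI := isLocalizedModule_stalk F hV x hx
  exact depth_eq_of_isLocalizedModule (hV.primeIdealOf ⟨x, hx⟩).asIdeal Γ(F, V)
    (X.presheaf.stalk x) (F.presheaf.stalk x) (germLin F x hx)

/-- on an affine scheme, every quasi-compact open is a finite union of basic opens -/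
theorem exists_list_eq_UU {Y : Scheme.{u}} [IsAffine Y] (W : Y.Opens)
    (hW : IsCompact (W : Set Y)) : ∃ fs : List Γ(Y, ⊤), UU fs = W := by
  classical
  obtain ⟨Us, hUs, hfin, hsup⟩ :=
    (isBasis_basicOpen Y).exists_finite_of_isCompact hW
  let g : Y.Opens → Γ(Y, ⊤) := fun T =>
    if h : ∃ f : Γ(Y, ⊤), Y.basicOpen f = T then h.choose else 0
  have hg : ∀ T ∈ Us, Y.basicOpen (g T) = T := by
    intro T hT
    have h : ∃ f : Γ(Y, ⊤), Y.basicOpen f = T := hUs hT
    simp only [g, dif_pos h]
    exact h.choose_spec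
  refine ⟨hfin.toFinset.toList.map g, ?_⟩
  rw [hsup]
  apply le_antisymm
  · refine iSup_le fun i => ?_
    have hmem : (hfin.toFinset.toList.map g).get i ∈ hfin.toFinset.toList.map g :=
      List.get_mem _ i
    obtain ⟨T, hT, hTe⟩ := List.mem_map.1 hmem
    rw [Finset.mem_toList, Set.Finite.mem_toFinset] at hT
    rw [← hTe, hg T hT]
    exact le_sSup hT
  · refine sSup_le fun T hT => ?_
    have hmem : g T ∈ hfin.toFinset.toList.map g :=
      List.mem_map.2 ⟨T, by rw [Finset.mem_toList, Set.Finite.mem_toFinset]; exact hT, rfl⟩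
    obtain ⟨i, hi⟩ := List.mem_iff_get.1 hmem
    rw [← hg T hT, ← hi]
    exact le_iSup (fun i : Fin (hfin.toFinset.toList.map g).length =>
      Y.basicOpen ((hfin.toFinset.toList.map g).get i)) i

end general

end Groth.Agent.Lib.helper2.HZDepth
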