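import Mathlib
import Groth.Agent.S6026
import Groth.Agent.Lib.Helper2.HZshB
import Groth.Agent.Lib.Helper2.HZAff
import Groth.Agent.Lib.Helper2.DepthLC
import Groth.Agent.Lib.Helper2.Hartogs2
import Groth.Agent.Lib.Helper2.HZDepth

set_option autoImplicit false
universe u

open CategoryTheory CategoryTheory.Limits Opposite TopologicalSpace AlgebraicGeometry

namespace Groth.Agent.Lib.helper2.HZDepth

open Groth.Agent.Lib.helper2.CechLow Groth.Agent.Lib.helper2.Hartogs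
  Groth.Agent.Lib.helper16.CohStalk Groth.Agent.Lib.helper26.Depth
  Groth.Agent.Lib.helper16.CohFinite

section general

variable {X : Scheme.{u}} (F : X.Modules) {V : X.Opens} (hV : IsAffineOpen V)

/-- depth of the stalk computed from a module isomorphic to the sections over an affine open -/
theorem depth_stalk_eq_of_linearEquiv [F.IsQuasicoherent] [IsNoetherianRing Γ(X, V)]
    (hfin : Module.Finite Γ(X, V) Γ(F, V)) (P : Type u) [AddCommGroup P] [Module Γ(X, V) P]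
    (e : P ≃ₗ[Γ(X, V)] Γ(F, V)) (x : X) (hx : x ∈ V) :
    LocCoh.depth (X.presheaf.stalk x) (F.presheaf.stalk x) =
      LocCoh.depth (Localization.AtPrime (hV.primeIdealOf ⟨x, hx⟩).asIdeal)
        (LocalizedModule (hV.primeIdealOf ⟨x, hx⟩).asIdeal.primeCompl P) := by
  letI := TopCat.Presheaf.algebra_section_stalk X.presheaf (⟨x, hx⟩ : V)
  letI := modStalk F x hx
  haveI := isScalarTower_stalk F x hx
  haveI : IsLocalization.AtPrime (X.presheaf.stalk x) (hV.primeIdealOf ⟨x, hx⟩).asIdeal :=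
    hV.isLocalization_stalk ⟨x, hx⟩
  haveI := isLocalizedModule_stalk F hV x hx
  haveI : Module.Finite Γ(X, V) P := Module.Finite.equiv e.symm
  haveI : IsLocalizedModule (hV.primeIdealOf ⟨x, hx⟩).asIdeal.primeCompl
      ((germLin F x hx) ∘ₗ e.toLinearMap) :=
    IsLocalizedModule.of_linearEquiv_right _ _ _
  exact depth_eq_of_isLocalizedModule (hV.primeIdealOf ⟨x, hx⟩).asIdeal P
    (X.presheaf.stalk x) (F.presheaf.stalk x) ((germLin F x hx) ∘ₗ e.toLinearMap)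

lemma smul_restrict_eq (M : X.Modules) (V : X.Opens) (r : Γ((V : Scheme.{u}), ⊤))
    (m : Γ(M.restrict V.ι, ⊤)) :
    r • m = (show Γ(M, V.ι ''ᵁ ⊤) from
      (show Γ(X, V.ι ''ᵁ ⊤) from r) • (show Γ(M, V.ι ''ᵁ ⊤) from m)) := by
  have h := Scheme.Modules.smul_restrictAppIso_hom_apply V.ι M ⊤ r m
  simp only [Scheme.Opens.ι_appIso] at h
  exact h

end general

section main

variable {X : Scheme.{u}} [IsLocallyNoetherian X] (U : X.Opens) (M : X.Modules)
  (hM : Coh.IsCoh M)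

include hM in
theorem affine_case (V : X.Opens) (hV : IsAffineOpen V) (n : ℕ) :
    (∀ i : ℕ, i < n → Subsingleton (LocCohZ.HZ (Coh.toAb M) i (inf_le_left : V ⊓ U ≤ V))) ↔
      ∀ x : X, x ∈ V → x ∉ U →
        (n : ℕ∞) ≤ LocCoh.depth (X.presheaf.stalk x) (M.presheaf.stalk x) := by
  haveI : M.IsQuasicoherent := hM.1
  let Y : Scheme.{u} := V
  haveI : IsAffine Y := hV
  let N : Y.Modules := M.restrict V.ι
  haveI : N.IsQuasicoherent := by unfold N; infer_instance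
  let W₀ : Y.Opens := (Opens.map (CohCx.incl V)).obj (V ⊓ U)
  have hV' : IsAffineOpen (V.ι ''ᵁ ⊤) := by rw [V.ι_image_top]; exact hV
  haveI hN1 : IsNoetherianRing Γ(X, V) := IsLocallyNoetherian.component_noetherian ⟨_, hV⟩
  haveI hN2 : IsNoetherianRing Γ(X, V.ι ''ᵁ ⊤) :=
    IsLocallyNoetherian.component_noetherian ⟨_, hV'⟩
  haveI hN3 : IsNoetherianRing Γ(Y, ⊤) := hN2
  have hcompact : IsCompact (W₀ : Set Y) := by
    haveI : NoetherianSpace Y := noetherianSpace_of_isAffineOpen V hV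
    exact NoetherianSpace.isCompact _
  obtain ⟨fs, hfs⟩ := exists_list_eq_UU W₀ hcompact
  have h1 : ∀ i, Nonempty (LocCohZ.HZ (Coh.toAb M) i (inf_le_left : V ⊓ U ≤ V) ≃+
      CohIII.koszulHLim fs (M0 N) i) := by
    intro i
    obtain ⟨e, -⟩ := Groth.Agent.S6026.result (inf_le_left : V ⊓ U ≤ V) i
    obtain ⟨e2⟩ := HZAff.HZM_equiv_koszulHLim N fs i
    rw [hfs] at e2
    exact ⟨(e (Coh.toAb M)).trans e2⟩
  have hfin' : Module.Finite Γ(X, V.ι ''ᵁ ⊤) Γ(M, V.ι ''ᵁ ⊤) :=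
    finite_sections_of_isCoh M hM hV'
  -- the sections of `N` as a module over `Γ(X, V')`
  letI instP : Module Γ(X, V.ι ''ᵁ ⊤) Γ(N, ⊤) := inferInstanceAs (Module Γ(Y, ⊤) Γ(N, ⊤))
  let e0 : Γ(N, ⊤) ≃ₗ[Γ(X, V.ι ''ᵁ ⊤)] Γ(M, V.ι ''ᵁ ⊤) :=
    { toFun := fun m => m
      invFun := fun m => m
      map_add' := fun _ _ => rfl
      map_smul' := fun r m => smul_restrict_eq M V r m
      left_inv := fun _ => rfl
      right_inv := fun _ => rfl }
  have hfinP : Module.Finite Γ(X, V.ι ''ᵁ ⊤) Γ(N, ⊤) := Module.Finite.equiv e0.symm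
  haveI hfinN : Module.Finite Γ(Y, ⊤) (M0 N) := hfinP
  have h2 := DepthLC.koszul_vanish_iff_depth_localization (A := Γ(Y, ⊤)) (M0 N) fs n
  have h3 : (∀ i : ℕ, i < n →
      Subsingleton (LocCohZ.HZ (Coh.toAb M) i (inf_le_left : V ⊓ U ≤ V))) ↔
      (∀ i : ℕ, i < n → Subsingleton (CohIII.koszulHLim fs (M0 N) i)) := by
    refine forall_congr' fun i => forall_congr' fun _ => ?_
    obtain ⟨e⟩ := h1 i
    exact ⟨fun h => e.symm.toEquiv.subsingleton, fun h => e.toEquiv.subsingleton⟩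
  rw [h3]
  refine h2.trans ?_
  -- membership in `W₀`
  have hmemW : ∀ (x : X) (hxV : x ∈ V), (⟨x, hxV⟩ : Y) ∈ W₀ ↔ x ∈ U := by
    intro x hxV
    show x ∈ V ⊓ U ↔ x ∈ U
    exact ⟨fun h => h.2, fun h => ⟨hxV, h⟩⟩
  -- basic opens
  have hbasic : ∀ (a : Γ(Y, ⊤)) (x : X) (hxV : x ∈ V),
      (⟨x, hxV⟩ : Y) ∈ Y.basicOpen a ↔ x ∈ X.basicOpen (show Γ(X, V.ι ''ᵁ ⊤) from a) := by
    intro a x hxV
    exact Scheme.Opens.mem_basicOpen_toScheme
  -- points outside `U` and primes containing `fs`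
  have hkey : ∀ (x : X) (hxV : x ∈ V) (hx' : x ∈ V.ι ''ᵁ ⊤),
      x ∉ U ↔ ∀ a ∈ fs, a ∈ (hV'.primeIdealOf ⟨x, hx'⟩).asIdeal := by
    intro x hxV hx'
    have hb : ∀ a : Γ(X, V.ι ''ᵁ ⊤), x ∈ X.basicOpen a ↔
        a ∉ (hV'.primeIdealOf ⟨x, hx'⟩).asIdeal := by
      intro a
      have h := hV'.fromSpec_preimage_basicOpen a
      have hx0 : hV'.fromSpec (hV'.primeIdealOf ⟨x, hx'⟩) = x :=
        hV'.fromSpec_primeIdealOf ⟨x, hx'⟩
      constructor
      · intro hxa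
        have : hV'.primeIdealOf ⟨x, hx'⟩ ∈ hV'.fromSpec ⁻¹ᵁ X.basicOpen a := by
          show hV'.fromSpec (hV'.primeIdealOf ⟨x, hx'⟩) ∈ X.basicOpen a
          rw [hx0]; exact hxa
        rw [h] at this
        exact this
      · intro hxa
        have : hV'.primeIdealOf ⟨x, hx'⟩ ∈ hV'.fromSpec ⁻¹ᵁ X.basicOpen a := by
          rw [h]; exact hxa
        have h2 : hV'.fromSpec (hV'.primeIdealOf ⟨x, hx'⟩) ∈ X.basicOpen a := this
        rw [hx0] at h2
        exact h2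
    rw [← hmemW x hxV, ← hfs]
    constructor
    · intro hx a ha
      by_contra hna
      apply hx
      obtain ⟨i, hi⟩ := List.mem_iff_get.1 ha
      have h4 : (⟨x, hxV⟩ : Y) ∈ Y.basicOpen (fs.get i) := by
        rw [hi]
        exact (hbasic a x hxV).2 ((hb a).2 hna)
      exact (le_iSup (fun i : Fin fs.length => Y.basicOpen (fs.get i)) i) h4
    · intro h hx
      obtain ⟨i, hi⟩ := Opens.mem_iSup.1 hx
      exact (hb _).1 ((hbasic _ x hxV).1 hi) (h _ (List.get_mem fs i))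
  have hdepth : ∀ (x : X) (hx' : x ∈ V.ι ''ᵁ ⊤),
      LocCoh.depth (X.presheaf.stalk x) (M.presheaf.stalk x) =
        LocCoh.depth (Localization.AtPrime (hV'.primeIdealOf ⟨x, hx'⟩).asIdeal)
          (LocalizedModule (hV'.primeIdealOf ⟨x, hx'⟩).asIdeal.primeCompl Γ(N, ⊤)) :=
    fun x hx' => depth_stalk_eq_of_linearEquiv M hV' hfin' Γ(N, ⊤) e0 x hx'
  constructor
  · intro h x hxV hxU
    have hx' : x ∈ V.ι ''ᵁ ⊤ := by rw [V.ι_image_top]; exact hxV
    rw [hdepth x hx']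
    exact h (hV'.primeIdealOf ⟨x, hx'⟩) ((hkey x hxV hx').1 hxU)
  · intro h p hp
    have hx' : hV'.fromSpec p ∈ V.ι ''ᵁ ⊤ := mem_range_fromSpec hV' p
    have hxV : hV'.fromSpec p ∈ V := by
      have hle : V.ι ''ᵁ ⊤ ≤ V := le_of_eq V.ι_image_top
      exact hle hx'
    have hp' := primeIdealOf_fromSpec hV' p
    have h5 := h _ hxV ((hkey _ hxV hx').2 (by rw [hp']; exact hp))
    rw [hdepth _ hx', hp'] at h5
    exact h5

include hM in
/-- **S6034** -/
theorem HZsh_isZero_below_iff_depth (n : ℕ) :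
    (∀ i : ℕ, i < n → IsZero ((LocCohZ.HZsh (X := X.carrier) U i).obj (Coh.toAb M))) ↔
      ∀ x : X, x ∉ (U : Set X) →
        (n : ℕ∞) ≤ LocCoh.depth (X.presheaf.stalk x) (M.presheaf.stalk x) := by
  rw [HZshB.iff_basis U (fun V : X.Opens => IsAffineOpen V) X.isBasis_affineOpens n (Coh.toAb M)]
  constructor
  · intro h x hxU
    obtain ⟨V, hV, hxV, -⟩ := exists_isAffineOpen_mem_and_subset (U := ⊤) (x := x) (by simp)
    exact (affine_case U M hM V hV n).1 (h V hV) x hxV hxU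
  · intro h V hV
    exact (affine_case U M hM V hV n).2 (fun x _ hxU => h x hxU)

end main

end Groth.Agent.Lib.helper2.HZDepth
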