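import Mathlib
import Groth.Agent.Lib.Helper2.HZshB
import Groth.Agent.Lib.Helper27.Horseshoe7
import Groth.Agent.Lib.Helper7.AbSheafExact

/-!
# helper2: vanishing of a single local cohomology sheaf `ℋ^i_Z(G)` (`i ≥ 1`) can be tested on a
basis of opens
-/

set_option autoImplicit false
set_option linter.unusedSectionVars false
set_option linter.unusedVariables false

namespace Groth.Agent.Lib.helper2.HZshB

open CategoryTheory Limits Opposite Abelian TopologicalSpace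
open Groth.Agent.Lib.helper27 Groth.Agent.Lib.helper27.HZshVanish

universe u

variable {X : TopCat.{u}} (U : Opens X) (P : Opens X → Prop)

/-- naturality of `sect0Equiv` in the sheaf -/
lemma sect0Equiv_comp {F G : CohTop.Ab X} (φ : F ⟶ G) {W V : Opens X} (h : W ≤ V)
    (x : LocCohZ.HZ F 0 h) :
    ((LocCohZ.sect0Equiv G h) (x.comp (Ext.mk₀ φ) (add_zero 0))).1 =
      (φ.hom.app (op V)).hom ((LocCohZ.sect0Equiv F h) x).1 := by
  obtain ⟨ψ, rfl⟩ := (Ext.mk₀_bijective _ _).2 x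
  rw [Ext.mk₀_comp_mk₀]
  show CohFree.evalGen (Opens.grothendieckTopology X) V G
      (cokernel.π _ ≫ Ext.addEquiv₀ (Ext.mk₀ (ψ ≫ φ))) =
    (φ.hom.app (op V)).hom (CohFree.evalGen (Opens.grothendieckTopology X) V F
      (cokernel.π _ ≫ Ext.addEquiv₀ (Ext.mk₀ ψ)))
  have h1 : Ext.addEquiv₀ (Ext.mk₀ (ψ ≫ φ)) = ψ ≫ φ := Ext.addEquiv₀.apply_symm_apply _
  have h2 : Ext.addEquiv₀ (Ext.mk₀ ψ) = ψ := Ext.addEquiv₀.apply_symm_apply _
  rw [h1, h2, ← Category.assoc]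
  exact SectSupp.evalGen_comp _ φ

section base

variable (hP : Opens.IsBasis {V : Opens X | P V})
  (S : ShortComplex (CohTop.Ab X)) (hS : S.ShortExact) (hfl : TopCat.Sheaf.IsFlasque S.X₂)

include hP hS in
lemma epi_sectSupp_map_g (h : BP U P 1 S.X₁) : Epi ((LocCohZ.sectSuppF U).map S.g) := by
  apply Groth.Agent.Lib.helper7.AbSheafExact.epi_of_locally_surjective
  intro W s x hx
  obtain ⟨V, hV, hxV, hVW⟩ := (Opens.isBasis_iff_nbhd.1 hP) hx
  refine ⟨V, hVW, hxV, ?_⟩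
  set sV := (((LocCohZ.sectSuppF U).obj S.X₃).obj.map (homOfLE hVW).op).hom s with hsV
  set q := ((SectSupp.ιZ U S.X₃).hom.app (op V)).hom sV with hq
  have hq0 : (S.X₃.obj.map (homOfLE (inf_le_left : V ⊓ U ≤ V)).op).hom q = 0 :=
    (res_jj_eq_zero_iff U S.X₃ V q).1 ((SectSupp.exists_ιZ_app_eq_iff U S.X₃ V q).1 ⟨sV, rfl⟩)
  let x₃ : LocCohZ.HZ S.X₃ 0 (inf_le_left : V ⊓ U ≤ V) :=
    (LocCohZ.sect0Equiv S.X₃ (inf_le_left : V ⊓ U ≤ V)).symm ⟨q, hq0⟩
  have := h V hV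
  have hz : x₃.comp hS.extClass rfl = 0 := Subsingleton.elim _ _
  obtain ⟨x₂, hx₂⟩ := Ext.covariant_sequence_exact₃ _ hS x₃ rfl hz
  set j := ((LocCohZ.sect0Equiv S.X₂ (inf_le_left : V ⊓ U ≤ V)) x₂) with hj
  have hgj : (S.g.hom.app (op V)).hom j.1 = q := by
    have h1 := sect0Equiv_comp S.g (inf_le_left : V ⊓ U ≤ V) x₂
    rw [hx₂] at h1
    rw [← h1]
    show ((LocCohZ.sect0Equiv S.X₃ _) ((LocCohZ.sect0Equiv S.X₃ _).symm ⟨q, hq0⟩)).1 = q
    rw [AddEquiv.apply_symm_apply]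
  obtain ⟨t, ht⟩ := (SectSupp.exists_ιZ_app_eq_iff U S.X₂ V j.1).2
    ((res_jj_eq_zero_iff U S.X₂ V j.1).2 j.2)
  refine ⟨t, ?_⟩
  apply SectSupp.ιZ_app_injective U S.X₃ V
  have hnat := SectSupp.map_ι U S.g
  have h3 := congrArg (fun k => (k.hom.app (op V)).hom t) hnat

  show ((SectSupp.ιZ U S.X₃).hom.app (op V)).hom
    ((((LocCohZ.sectSuppF U).map S.g).hom.app (op V)).hom t) = q
  rw [← hgj, ← ht]
  exact h3

include hP hS hfl in
lemma A_one_of_BP_one (h : BP U P 1 S.X₁) : A U 1 S.X₁ := by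
  have hepi := epi_sectSupp_map_g U P hP S hS h
  let Δ := Horseshoe.derivedLES (LocCohZ.sectSuppF U)
  have e3 := Δ.exact₃ S hS 0 1 rfl
  have e1 := Δ.exact₁ S hS 0 1 rfl
  have hX₂ : IsZero ((LocCohZ.HZsh U 1).obj S.X₂) := SectSupp.isZero_HZsh_succ U S.X₂ 0
  have hδepi : Epi (Δ.δ S hS 0 1 rfl) := e1.epi_f (hX₂.eq_of_tgt _ _)
  have hg' : Epi (((LocCohZ.sectSuppF U).rightDerived 0).map S.g) :=
    (Horseshoe.epi_map_iff (LocCohZ.sectSuppF U) S.g).1 hepi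
  have hδ0 : Δ.δ S hS 0 1 rfl = 0 := by
    rw [← cancel_epi (((LocCohZ.sectSuppF U).rightDerived 0).map S.g), comp_zero]
    exact Δ.comp_δ S hS 0 1 rfl
  show IsZero ((LocCohZ.HZsh U 1).obj S.X₁)
  rw [IsZero.iff_id_eq_zero, ← cancel_epi (Δ.δ S hS 0 1 rfl), hδ0, zero_comp, zero_comp]

end base

section shift

variable (S : ShortComplex (CohTop.Ab X)) (hS : S.ShortExact)
  (hfl : TopCat.Sheaf.IsFlasque S.X₂)

include hS hfl

lemma A_shift' (i : ℕ) : A U (i + 1) S.X₃ ↔ A U (i + 2) S.X₁ := by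
  let Δ := Horseshoe.derivedLES (LocCohZ.sectSuppF U)
  have e3 := Δ.exact₃ S hS (i + 1) (i + 2) rfl
  have e1 := Δ.exact₁ S hS (i + 1) (i + 2) rfl
  have h1 : IsZero ((LocCohZ.HZsh U (i + 1)).obj S.X₂) := SectSupp.isZero_HZsh_succ U S.X₂ i
  have h2 : IsZero ((LocCohZ.HZsh U (i + 2)).obj S.X₂) :=
    SectSupp.isZero_HZsh_succ U S.X₂ (i + 1)
  have hm : Mono (Δ.δ S hS (i + 1) (i + 2) rfl) := e3.mono_g (h1.eq_of_src _ _)
  have he : Epi (Δ.δ S hS (i + 1) (i + 2) rfl) := e1.epi_f (h2.eq_of_tgt _ _)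
  have : IsIso (Δ.δ S hS (i + 1) (i + 2) rfl) := isIso_of_mono_of_epi _
  exact Iso.isZero_iff (asIso (Δ.δ S hS (i + 1) (i + 2) rfl))

lemma BP_shift' (i : ℕ) (h : BP U P (i + 2) S.X₁) : BP U P (i + 1) S.X₃ := by
  intro V hV
  refine subsingleton_of_forall_eq 0 (fun x₃ => ?_)
  have := h V hV
  have hz : x₃.comp hS.extClass rfl = 0 := Subsingleton.elim _ _
  obtain ⟨x₂, rfl⟩ := Ext.covariant_sequence_exact₃ _ hS x₃ rfl hz
  have := LocCohLES.subsingleton_HZ_succ S.X₂ (inf_le_left : V ⊓ U ≤ V) i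
  rw [Subsingleton.elim x₂ 0, Ext.zero_comp]

end shift

variable (hP : Opens.IsBasis {V : Opens X | P V})

include hP in
/-- for `i ≥ 1`: `ℋ^i_Z(G) = 0` as soon as `H^i_{Z ∩ V}(V, G) = 0` for all `V` in a basis -/
theorem isZero_HZsh_of_basis : ∀ (i : ℕ) (G : CohTop.Ab X),
    (∀ V : Opens X, P V → Subsingleton (LocCohZ.HZ G (i + 1) (inf_le_left : V ⊓ U ≤ V))) →
      IsZero ((LocCohZ.HZsh U (i + 1)).obj G) := by
  intro i
  induction i with
  | zero =>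
    intro G h
    let I := Injective.under G
    have hIfl : TopCat.Sheaf.IsFlasque I := Groth.Agent.S0454.result I
    have hS := cokerSES_shortExact (Injective.ι G)
    exact A_one_of_BP_one U P hP (cokerSES (Injective.ι G)) hS hIfl h
  | succ i ih =>
    intro G h
    let I := Injective.under G
    have hIfl : TopCat.Sheaf.IsFlasque I := Groth.Agent.S0454.result I
    have hS := cokerSES_shortExact (Injective.ι G)
    have h3 := ih (cokerSES (Injective.ι G)).X₃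
      (BP_shift' U P (cokerSES (Injective.ι G)) hS hIfl i h)
    exact (A_shift' U (cokerSES (Injective.ι G)) hS hIfl i).1 h3

end Groth.Agent.Lib.helper2.HZshB
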