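import Mathlib
import Groth.Agent.Lib.Helper2.HZDepth2
import Groth.Agent.Lib.Helper2.HZshB2
import Groth.Agent.Lib.Helper2.LCNat10
import Groth.Agent.Lib.Helper19.LCGroth

/-!
# helper2: vanishing of the local cohomology sheaf `ℋ^i_Y(G)` above the dimensions of the local
rings at the points of `Y` (S6038)
-/

set_option autoImplicit false
universe u

open CategoryTheory CategoryTheory.Limits Opposite TopologicalSpace AlgebraicGeometry

namespace Groth.Agent.Lib.helper2.HZDepth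

open Groth.Agent.Lib.helper2.CechLow Groth.Agent.Lib.helper2.Hartogs
  Groth.Agent.Lib.helper16.CohStalk Groth.Agent.Lib.helper26.Depth
  Groth.Agent.Lib.helper16.CohFinite

section main

variable {X : Scheme.{u}} [IsLocallyNoetherian X] (U : X.Opens) (M : X.Modules)

theorem isAffineOpen_image_top {V : X.Opens} (hV : IsAffineOpen V) :
    IsAffineOpen (V.ι ''ᵁ ⊤) := by rw [V.ι_image_top]; exact hV

/-- for an affine open `V`: the groups `H^i_{V ∖ U}(V, M)` are Koszul colimits over `Γ(V, O)` -/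
theorem exists_affine_data [M.IsQuasicoherent] (V : X.Opens) (hV : IsAffineOpen V) :
    ∃ fs : List Γ((V : Scheme.{u}), ⊤),
      (∀ i, Nonempty (LocCohZ.HZ (Coh.toAb M) i (inf_le_left : V ⊓ U ≤ V) ≃+
        CohIII.koszulHLim fs (M0 (Y := (V : Scheme.{u})) (M.restrict V.ι)) i)) ∧
      ∀ (x : X) (hxV : x ∈ V) (hx' : x ∈ V.ι ''ᵁ ⊤),
        x ∉ U ↔ ∀ a ∈ fs, a ∈ ((isAffineOpen_image_top hV).primeIdealOf ⟨x, hx'⟩).asIdeal := by
  let Y : Scheme.{u} := V
  haveI : IsAffine Y := hV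
  let N : Y.Modules := M.restrict V.ι
  haveI : N.IsQuasicoherent := by unfold N; infer_instance
  let W₀ : Y.Opens := (Opens.map (CohCx.incl V)).obj (V ⊓ U)
  have hV' : IsAffineOpen (V.ι ''ᵁ ⊤) := isAffineOpen_image_top hV
  haveI hN1 : IsNoetherianRing Γ(X, V) := IsLocallyNoetherian.component_noetherian ⟨_, hV⟩
  have hcompact : IsCompact (W₀ : Set Y) := by
    haveI : NoetherianSpace Y := noetherianSpace_of_isAffineOpen V hV
    exact NoetherianSpace.isCompact _
  obtain ⟨fs, hfs⟩ := exists_list_eq_UU W₀ hcompact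
  refine ⟨fs, ?_, ?_⟩
  · intro i
    obtain ⟨e, -⟩ := Groth.Agent.S6026.result (inf_le_left : V ⊓ U ≤ V) i
    obtain ⟨e2⟩ := HZAff.HZM_equiv_koszulHLim N fs i
    rw [hfs] at e2
    exact ⟨(e (Coh.toAb M)).trans e2⟩
  -- membership in `W₀`
  have hmemW : ∀ (x : X) (hxV : x ∈ V), (⟨x, hxV⟩ : Y) ∈ W₀ ↔ x ∈ U := by
    intro x hxV
    show x ∈ V ⊓ U ↔ x ∈ U
    exact ⟨fun h => h.2, fun h => ⟨hxV, h⟩⟩
  -- basic opens
  have hbasic : ∀ (a : Γ(Y, ⊤)) (x : X) (hxV : x ∈ V),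
      (⟨x, hxV⟩ : Y) ∈ Y.basicOpen a ↔ x ∈ X.basicOpen (show Γ(X, V.ι ''ᵁ ⊤) from a) := by
    intro a x hxV
    exact Scheme.Opens.mem_basicOpen_toScheme
  intro x hxV hx'
  have hb : ∀ a : Γ(X, V.ι ''ᵁ ⊤), x ∈ X.basicOpen a ↔
      a ∉ (hV'.primeIdealOf ⟨x, hx'⟩).asIdeal := by
    intro a
    have h := hV'.fromSpec_preimage_basicOpen a
    have hx0 : hV'.fromSpec (hV'.primeIdealOf ⟨x, hx'⟩) = x :=
      hV'.fromSpec_primeIdealOf ⟨x, hx'⟩
    constructor
    · intro hxa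
      have : hV'.primeIdealOf ⟨x, hx'⟩ ∈ hV'.fromSpec ⁻¹ᵁ X.basicOpen a := by
        show hV'.fromSpec (hV'.primeIdealOf ⟨x, hx'⟩) ∈ X.basicOpen a
        rw [hx0]; exact hxa
      rw [h] at this
      exact this
    · intro hxa
      have : hV'.primeIdealOf ⟨x, hx'⟩ ∈ hV'.fromSpec ⁻¹ᵁ X.basicOpen a := by
        rw [h]; exact hxa
      have h2 : hV'.fromSpec (hV'.primeIdealOf ⟨x, hx'⟩) ∈ X.basicOpen a := this
      rw [hx0] at h2
      exact h2
  rw [← hmemW x hxV, ← hfs]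
  constructor
  · intro hx a ha
    by_contra hna
    apply hx
    obtain ⟨i, hi⟩ := List.mem_iff_get.1 ha
    have h4 : (⟨x, hxV⟩ : Y) ∈ Y.basicOpen (fs.get i) := by
      rw [hi]
      exact (hbasic a x hxV).2 ((hb a).2 hna)
    exact (le_iSup (fun i : Fin fs.length => Y.basicOpen (fs.get i)) i) h4
  · intro h hx
    obtain ⟨i, hi⟩ := Opens.mem_iSup.1 hx
    exact (hb _).1 ((hbasic _ x hxV).1 hi) (h _ (List.get_mem fs i))

/-- Krull dimension of the stalk from the coordinate ring of an affine open -/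
theorem ringKrullDim_stalk_eq {V : X.Opens} (hV : IsAffineOpen V) (x : X) (hx : x ∈ V) :
    ringKrullDim (X.presheaf.stalk x) =
      ringKrullDim (Localization.AtPrime (hV.primeIdealOf ⟨x, hx⟩).asIdeal) := by
  letI := TopCat.Presheaf.algebra_section_stalk X.presheaf (⟨x, hx⟩ : V)
  haveI : IsLocalization.AtPrime (X.presheaf.stalk x) (hV.primeIdealOf ⟨x, hx⟩).asIdeal :=
    hV.isLocalization_stalk ⟨x, hx⟩
  exact ringKrullDim_eq_of_ringEquiv
    (IsLocalization.algEquiv (hV.primeIdealOf ⟨x, hx⟩).asIdeal.primeCompl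
      (X.presheaf.stalk x) (Localization.AtPrime (hV.primeIdealOf ⟨x, hx⟩).asIdeal)).toRingEquiv

/-- `H^i_{V ∖ U}(V, M) = 0` for `V` affine when `i` exceeds the dimensions of the local rings at
the points of `V ∖ U` -/
theorem subsingleton_HZ_of_dim_lt [M.IsQuasicoherent] (V : X.Opens) (hV : IsAffineOpen V) (i : ℕ)
    (hi : ∀ x : X, x ∈ V → x ∉ U → ringKrullDim (X.presheaf.stalk x) < (i : WithBot ℕ∞)) :
    Subsingleton (LocCohZ.HZ (Coh.toAb M) i (inf_le_left : V ⊓ U ≤ V)) := by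
  obtain ⟨fs, h1, hkey⟩ := exists_affine_data U M V hV
  have hV' : IsAffineOpen (V.ι ''ᵁ ⊤) := isAffineOpen_image_top hV
  haveI hN2 : IsNoetherianRing Γ(X, V.ι ''ᵁ ⊤) :=
    IsLocallyNoetherian.component_noetherian ⟨_, hV'⟩
  haveI hN3 : IsNoetherianRing Γ((V : Scheme.{u}), ⊤) := hN2
  obtain ⟨e⟩ := h1 i
  suffices h : Subsingleton (CohIII.koszulHLim fs
      (M0 (Y := (V : Scheme.{u})) (M.restrict V.ι)) i) from e.toEquiv.subsingleton
  obtain ⟨e2⟩ := Groth.Agent.Lib.helper2.KC.localCohomology_equiv_koszulHLim fs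
    (M0 (Y := (V : Scheme.{u})) (M.restrict V.ι)) i
  suffices h : Subsingleton (LocCoh.H (Ideal.span {a | a ∈ fs}) i
      (M0 (Y := (V : Scheme.{u})) (M.restrict V.ι))) from e2.symm.toEquiv.subsingleton
  apply Groth.Agent.Lib.helper2.LCNat.H_subsingleton_of_local
  intro p hp
  apply Groth.Agent.Lib.helper19.LCGroth.vanish
  refine lt_of_le_of_lt (Module.supportDim_le_ringKrullDim _ _) ?_
  have hx' : hV'.fromSpec p ∈ V.ι ''ᵁ ⊤ := mem_range_fromSpec hV' p
  have hxV : hV'.fromSpec p ∈ V := (le_of_eq V.ι_image_top) hx'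
  have hp' := primeIdealOf_fromSpec hV' p
  have hxU : hV'.fromSpec p ∉ U := by
    rw [hkey _ hxV hx', hp']
    intro a ha
    exact hp (Ideal.subset_span ha)
  have h5 := hi _ hxV hxU
  rw [ringKrullDim_stalk_eq hV' _ hx', hp'] at h5
  exact h5

/-- **S6038** (regularity of the local rings is not needed) -/
theorem isZero_HZsh_of_dim_lt (hM : Coh.IsCoh M) (i : ℕ)
    (hi : ∀ x : X, x ∉ (U : Set X) → ringKrullDim (X.presheaf.stalk x) < (i : WithBot ℕ∞)) :
    IsZero ((LocCohZ.HZsh (X := X.carrier) U i).obj (Coh.toAb M)) := by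
  haveI : M.IsQuasicoherent := hM.1
  cases i with
  | zero =>
    -- then `U = ⊤` … every point is in `U`
    have hU : ∀ x : X, x ∈ U := by
      intro x
      by_contra hx
      have h := hi x hx
      have h0 : (0 : WithBot ℕ∞) ≤ ringKrullDim (X.presheaf.stalk x) := ringKrullDim_nonneg_of_nontrivial
      exact absurd (lt_of_le_of_lt h0 h) (lt_irrefl _)
    have hn := (HZsh_isZero_below_iff_depth U M hM 1).2 (fun x hx => absurd (hU x) hx)
    exact hn 0 Nat.one_pos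
  | succ i =>
    apply HZshB.isZero_HZsh_of_basis U (fun V : X.Opens => IsAffineOpen V) X.isBasis_affineOpens i
    intro V hV
    exact subsingleton_HZ_of_dim_lt U M V hV (i + 1) (fun x _ hxU => hi x hxU)

end main

end Groth.Agent.Lib.helper2.HZDepth
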