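import Mathlib
import Groth.Agent.Lib.Helper2.HZDepth2
import Groth.Agent.Lib.Helper16.FLF3
import Groth.Agent.Lib.Helper16.FLF7

/-!
# helper2: global sections of the first non-vanishing local cohomology sheaf (S14116)
-/

set_option autoImplicit false
set_option linter.unusedSectionVars false
set_option linter.unusedVariables false
universe u

open CategoryTheory CategoryTheory.Limits Opposite TopologicalSpace AlgebraicGeometry Abelian

namespace Groth.Agent.Lib.helper2.HZSec

open Groth.Agent.Lib.helper27 Groth.Agent.Lib.helper27.HZshVanish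

section depth

open RingTheory.Sequence Groth.Agent.Lib.helper26.Depth TensorProduct

variable {R : Type u} [CommRing R] (I : Ideal R) (M : Type u) [AddCommGroup M] [Module R M]

theorem idealDepth_le_of_flat [Module.Flat R M] :
    LocCoh.idealDepth I R ≤ LocCoh.idealDepth I M := by
  by_cases hM : I • (⊤ : Submodule R M) = ⊤
  · rw [idealDepth_eq_top_of_smul_top_eq_top I M hM]
    exact le_top
  · have hR : I • (⊤ : Submodule R R) ≠ ⊤ := by
      intro h
      apply hM
      have hI : I = ⊤ := by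
        rw [← h]
        simp
      rw [hI]
      simp
    rw [idealDepth_eq_iSup I R hR]
    refine iSup₂_le fun rs hrs => ?_
    have h1 : IsWeaklyRegular (M ⊗[R] R) rs := hrs.1.isWeaklyRegular_lTensor
    have h2 : IsWeaklyRegular M rs :=
      ((TensorProduct.rid R M).isWeaklyRegular_congr rs).1 h1
    exact length_le_idealDepth h2 hrs.2

end depth

section top

variable {X : TopCat.{u}} (U : Opens X)

/-- global sections -/
noncomputable abbrev secTop (G : CohTop.Ab X) : Type u := G.obj.obj (op ⊤)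

/-- an isomorphism of sheaves gives an isomorphism on global sections -/
noncomputable def secIso {G H : CohTop.Ab X} (i0 : G ≅ H) : secTop G ≃+ secTop H :=
  { toFun := fun s => (i0.hom.hom.app (op ⊤)).hom s
    invFun := fun s => (i0.inv.hom.app (op ⊤)).hom s
    left_inv := fun s => by
      have h := congrArg (fun k : G ⟶ G => (k.hom.app (op ⊤)).hom s) i0.hom_inv_id
      exact h
    right_inv := fun s => by
      have h := congrArg (fun k : H ⟶ H => (k.hom.app (op ⊤)).hom s) i0.inv_hom_id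
      exact h
    map_add' := fun a b => map_add _ a b }

lemma res_U_eq_zero_iff (G : CohTop.Ab X) (s : G.obj.obj (op ⊤)) :
    (G.obj.map (homOfLE (SectSupp.jj_le U ⊤)).op).hom s = 0 ↔
      (G.obj.map (homOfLE (le_top : U ≤ ⊤)).op).hom s = 0 := by
  constructor
  · intro h
    have := SectSupp.map_map_apply G (SectSupp.jj_le U ⊤) (SectSupp.top_cond1 U) s
    rw [h, map_zero] at this
    exact this.symm
  · intro h
    have := SectSupp.map_map_apply G (le_top : U ≤ ⊤) (SectSupp.top_cond2 U) s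
    rw [h, map_zero] at this
    exact this.symm

/-- global sections of `Γ_Z G` are the global sections of `G` vanishing on `U` -/
noncomputable def secSuppEquiv (G : CohTop.Ab X) :
    secTop ((LocCohZ.sectSuppF U).obj G) ≃+ LocCohZ.sectZ G (le_top : U ≤ ⊤) :=
  AddEquiv.ofBijective
    ({ toFun := fun t => ⟨((SectSupp.ιZ U G).hom.app (op ⊤)).hom t, by
          rw [AddMonoidHom.mem_ker]
          exact (res_U_eq_zero_iff U G _).1
            ((SectSupp.exists_ιZ_app_eq_iff U G ⊤ _).1 ⟨t, rfl⟩)⟩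
       map_zero' := by apply Subtype.ext; exact map_zero _
       map_add' := fun a b => by apply Subtype.ext; exact map_add _ a b } :
      secTop ((LocCohZ.sectSuppF U).obj G) →+ LocCohZ.sectZ G (le_top : U ≤ ⊤))
    ⟨fun a b h => SectSupp.ιZ_app_injective U G ⊤ (congrArg Subtype.val h), fun s => by
      obtain ⟨t, ht⟩ := (SectSupp.exists_ιZ_app_eq_iff U G ⊤ s.1).2
        ((res_U_eq_zero_iff U G s.1).2 s.2)
      exact ⟨t, Subtype.ext ht⟩⟩

/-- degree zero: `Γ(X, ℋ^0_Z G) ≃ H^0_Z(X, G)` -/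
theorem base (G : CohTop.Ab X) :
    Nonempty (secTop ((LocCohZ.HZsh U 0).obj G) ≃+ LocCohZ.HZc G 0 U) :=
  ⟨(secIso ((LocCohZ.sectSuppF U).rightDerivedZeroIsoSelf.app G)).trans
    ((secSuppEquiv U G).trans (LocCohZ.sect0Equiv G (le_top : U ≤ ⊤)).symm)⟩

section shift

variable (S : ShortComplex (CohTop.Ab X)) (hS : S.ShortExact)
  (hfl : TopCat.Sheaf.IsFlasque S.X₂) (h0 : NoSupp U S.X₂)

include hS hfl h0

/-- the connecting isomorphism of sheaves -/
theorem nonempty_HZsh_iso (i : ℕ) :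
    Nonempty ((LocCohZ.HZsh U i).obj S.X₃ ≅ (LocCohZ.HZsh U (i + 1)).obj S.X₁) := by
  let Δ := Horseshoe.derivedLES (LocCohZ.sectSuppF U)
  have e3 := Δ.exact₃ S hS i (i + 1) rfl
  have e1 := Δ.exact₁ S hS i (i + 1) rfl
  have hm : Mono (Δ.δ S hS i (i + 1) rfl) := e3.mono_g ((A_X₂ U S hS hfl h0 i).eq_of_src _ _)
  have he : Epi (Δ.δ S hS i (i + 1) rfl) := e1.epi_f ((A_X₂ U S hS hfl h0 (i + 1)).eq_of_tgt _ _)
  have : IsIso (Δ.δ S hS i (i + 1) rfl) := isIso_of_mono_of_epi _
  exact ⟨asIso (Δ.δ S hS i (i + 1) rfl)⟩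

lemma subsingleton_HZc_X₂ (k : ℕ) : Subsingleton (LocCohZ.HZc S.X₂ k U) := by
  cases k with
  | zero =>
    refine ⟨fun a b => ?_⟩
    apply (LocCohZ.sect0Equiv S.X₂ (le_top : U ≤ ⊤)).injective
    apply Subtype.ext
    have key : ∀ s : LocCohZ.sectZ S.X₂ (le_top : U ≤ ⊤), s.1 = 0 := by
      intro s
      apply h0 ⊤ s.1
      have := SectSupp.map_map_apply S.X₂ (le_top : U ≤ ⊤) (inf_le_right : ⊤ ⊓ U ≤ U) s.1
      have hs : (S.X₂.obj.map (homOfLE (le_top : U ≤ ⊤)).op).hom s.1 = 0 := s.2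
      rw [hs, map_zero] at this
      exact this.symm
    rw [key, key]
  | succ k => exact LocCohLES.subsingleton_HZ_succ S.X₂ (le_top : U ≤ ⊤) k

/-- the connecting isomorphism of groups -/
theorem nonempty_HZc_equiv (i : ℕ) :
    Nonempty (LocCohZ.HZc S.X₃ i U ≃+ LocCohZ.HZc S.X₁ (i + 1) U) := by
  have hi := subsingleton_HZc_X₂ U S hS hfl h0 i
  have hi1 := subsingleton_HZc_X₂ U S hS hfl h0 (i + 1)
  let φ : LocCohZ.HZc S.X₃ i U →+ LocCohZ.HZc S.X₁ (i + 1) U :=
    hS.extClass.postcomp (LocCohZ.zq (le_top : U ≤ ⊤)) rfl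
  refine ⟨AddEquiv.ofBijective φ ⟨?_, ?_⟩⟩
  · rw [injective_iff_map_eq_zero]
    intro x₃ hx₃
    have hz : x₃.comp hS.extClass rfl = 0 := hx₃
    obtain ⟨x₂, rfl⟩ := Ext.covariant_sequence_exact₃ _ hS x₃ rfl hz
    rw [Subsingleton.elim x₂ 0, Ext.zero_comp]
  · intro x₁
    have hz : x₁.comp (Ext.mk₀ S.f) (add_zero (i + 1)) = 0 := Subsingleton.elim _ _
    obtain ⟨x₃, hx₃⟩ := Ext.covariant_sequence_exact₁ _ hS x₁ hz rfl
    exact ⟨x₃, hx₃⟩

end shift

/-- if `ℋ^i_Z(G) = 0` for all `i < d` then `Γ(X, ℋ^d_Z(G)) ≃ H^d_Z(X, G)` -/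
theorem main : ∀ (d : ℕ) (G : CohTop.Ab X),
    (∀ i : ℕ, i < d → IsZero ((LocCohZ.HZsh U i).obj G)) →
      Nonempty (secTop ((LocCohZ.HZsh U d).obj G) ≃+ LocCohZ.HZc G d U) := by
  intro d
  induction d with
  | zero => intro G _; exact base U G
  | succ d ih =>
    intro G h
    have hG : NoSupp U G := (A_zero_iff U G).1 (h 0 (Nat.succ_pos d))
    obtain ⟨J, m, hm, hJfl, hJ⟩ := exists_embedding U G hG
    have hS := cokerSES_shortExact m
    have h3 : ∀ i, i < d → IsZero ((LocCohZ.HZsh U i).obj (cokerSES m).X₃) := fun i hi =>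
      (A_shift U (cokerSES m) hS hJfl hJ i).2 (h (i + 1) (Nat.succ_lt_succ hi))
    obtain ⟨e⟩ := ih (cokerSES m).X₃ h3
    obtain ⟨i1⟩ := nonempty_HZsh_iso U (cokerSES m) hS hJfl hJ d
    obtain ⟨e2⟩ := nonempty_HZc_equiv U (cokerSES m) hS hJfl hJ d
    exact ⟨(secIso i1).symm.trans (e.trans e2)⟩

end top

section scheme

open Groth.Agent.Lib.helper16.FLF

/-- **S14116** -/
theorem sections_HZsh_equiv_HZM (X : Scheme.{u}) [IsLocallyNoetherian X]
    (U : X.Opens) (d : ℕ)
    (hdepth : ∀ x : X, x ∉ (U : Set X) →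
      (d : ℕ∞) ≤ LocCoh.depth (X.presheaf.stalk x) (X.presheaf.stalk x))
    (M : X.Modules) (hM : FlatMod.IsFinLocFree M) :
    Nonempty (((LocCohZ.HZsh (X := X.carrier) U d).obj (Coh.toAb M)).obj.obj (op ⊤) ≃+
      LocCohZ.HZM X M d U) := by
  have hcoh : Coh.IsCoh M := ⟨isQuasicoherent_of_isFinLocFree M hM,
    isFiniteType_of_isFinLocFree M hM⟩
  have hvan := (Groth.Agent.Lib.helper2.HZDepth.HZsh_isZero_below_iff_depth U M hcoh d).2
    (fun x hx => by
      haveI := (free_stalk_of_isFinLocFree M hM x).1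
      exact le_trans (hdepth x hx)
        (idealDepth_le_of_flat (IsLocalRing.maximalIdeal (X.presheaf.stalk x))
          (M.presheaf.stalk x)))
  exact main U d (Coh.toAb M) hvan

end scheme

end Groth.Agent.Lib.helper2.HZSec
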