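import Mathlib
import Groth.Agent.Lib.Helper2.Hartogs3
import Groth.Agent.Lib.Helper8.DevInd
import Groth.Agent.Lib.Helper26.CM7

/-!
# Hartogs for the structure sheaf and extension of morphisms to affine targets (helper2)
-/

set_option autoImplicit false
universe u

open AlgebraicGeometry TopologicalSpace CategoryTheory Opposite ZClos
open Groth.Agent.Lib.helper16.CohFinite Groth.Agent.Lib.helper26.Depth

namespace Groth.Agent.Lib.helper2.Hartogs

variable {X : Scheme.{u}}

noncomputable def unitSecEquiv (V : X.Opens) :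
    Γ(X, V) ≃ₗ[Γ(X, V)] Γ(Coh.structureModule X, V) := LinearEquiv.refl _ _

theorem depth_gam_unit {V : X.Opens} (hV : IsAffineOpen V) [IsNoetherianRing Γ(X, V)]
    (q : PrimeSpectrum Γ(X, V)) :
    LocCoh.depth (Localization.AtPrime q.asIdeal)
        (LocalizedModule q.asIdeal.primeCompl (gam (GG (Coh.structureModule X) hV))) =
      LocCoh.depth (X.presheaf.stalk (hV.fromSpec q)) (X.presheaf.stalk (hV.fromSpec q)) := by
  let e : Γ(X, V) ≃ₗ[Γ(X, V)] gam (GG (Coh.structureModule X) hV) :=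
    (unitSecEquiv V).trans (secEquiv (Coh.structureModule X) hV)
  have h1 : LocCoh.depth (Localization.AtPrime q.asIdeal)
        (LocalizedModule q.asIdeal.primeCompl (gam (GG (Coh.structureModule X) hV))) =
      LocCoh.depth (Localization.AtPrime q.asIdeal) (Localization.AtPrime q.asIdeal) := by
    rw [← depth_localizedModule_self]
    unfold LocCoh.depth
    exact (idealDepth_congr (localizedEquiv q.asIdeal e)).symm
  rw [h1]
  have hx : hV.fromSpec q ∈ V := mem_range_fromSpec hV q
  letI := TopCat.Presheaf.algebra_section_stalk X.presheaf (⟨hV.fromSpec q, hx⟩ : V)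
  haveI hloc : IsLocalization.AtPrime (X.presheaf.stalk (hV.fromSpec q))
      (hV.primeIdealOf ⟨hV.fromSpec q, hx⟩).asIdeal := hV.isLocalization_stalk ⟨_, hx⟩
  rw [primeIdealOf_fromSpec hV q] at hloc
  haveI : IsLocalizedModule q.asIdeal.primeCompl
      (Algebra.linearMap Γ(X, V) (X.presheaf.stalk (hV.fromSpec q))) :=
    (isLocalizedModule_iff_isLocalization' _ _).mpr hloc
  have h2 := depth_eq_of_isLocalizedModule q.asIdeal Γ(X, V) (X.presheaf.stalk (hV.fromSpec q))
    (X.presheaf.stalk (hV.fromSpec q))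
    (Algebra.linearMap Γ(X, V) (X.presheaf.stalk (hV.fromSpec q)))
  rw [h2, depth_localizedModule_self]

end Groth.Agent.Lib.helper2.Hartogs

namespace Groth.Agent.Lib.helper2.Hartogs

variable {X : Scheme.{u}} [IsLocallyNoetherian X]

theorem isIso_resPushUnit_structure (U : X.Opens)
    (hdepth : ∀ x : X, x ∉ U →
      (2 : ℕ∞) ≤ LocCoh.depth (X.presheaf.stalk x) (X.presheaf.stalk x)) :
    IsIso ((resPushUnit U).app (Coh.structureModule X)) := by
  have hF := Groth.Agent.Lib.helper8.Dev.isCoh_structureModule X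
  haveI : (Coh.structureModule X).IsQuasicoherent := hF.1
  apply ModSec.isIso_of_bijective_affine
  intro V
  rw [resPushUnit_app_app]
  haveI : IsNoetherianRing Γ(X, V.1) := IsLocallyNoetherian.component_noetherian V
  have hfin : Module.Finite Γ(X, V.1) Γ(Coh.structureModule X, V.1) :=
    finite_sections_of_isCoh _ hF V.2
  refine bijective_res_of_depth' (Coh.structureModule X) V.2 hfin _
    (U.ι.image_preimage_le V.1) ?_
  intro q hq
  rw [depth_gam_unit V.2 q]
  apply hdepth
  intro hxU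
  exact hq ((ZClosLib.mem_im_iff U V.1 _).mpr ⟨hxU, mem_range_fromSpec V.2 q⟩)

theorem bijective_res_structure (U : X.Opens)
    (hdepth : ∀ x : X, x ∉ U →
      (2 : ℕ∞) ≤ LocCoh.depth (X.presheaf.stalk x) (X.presheaf.stalk x)) :
    Function.Bijective (X.presheaf.map (homOfLE (le_top : U ≤ ⊤)).op) := by
  haveI := isIso_resPushUnit_structure U hdepth
  have h := (ModSec.isIso_iff_bijective_app
    ((resPushUnit U).app (Coh.structureModule X))).mp inferInstance ⊤
  rw [resPushUnit_app_app] at h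
  have e : U.ι ''ᵁ U.ι ⁻¹ᵁ ⊤ = U := by
    rw [ZClosLib.image_preimage_eq']; exact top_inf_eq U
  exact (ZClosLib.res_bij_iff_of_eq (Coh.structureModule X) e _ (homOfLE le_top)).mp h

end Groth.Agent.Lib.helper2.Hartogs

namespace Groth.Agent.Lib.helper2.Hartogs

/-- morphisms to an affine scheme from ring maps -/
theorem exists_hom_appTop {X Y : Scheme.{u}} [IsAffine Y] (φ : Γ(Y, ⊤) ⟶ Γ(X, ⊤)) :
    ∃ g : X ⟶ Y, g.appTop = φ := by
  refine ⟨(ΓSpec.adjunction.homEquiv X (op Γ(Y, ⊤)) φ.op) ≫ Y.isoSpec.inv, ?_⟩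
  rw [Scheme.Hom.comp_appTop, ΓSpec_adjunction_homEquiv_eq]
  have : Y.isoSpec.inv.appTop = (Scheme.ΓSpecIso Γ(Y, ⊤)).inv := by
    have h := Scheme.toSpecΓ_appTop Y
    have h2 : Y.isoSpec.inv.appTop ≫ Y.toSpecΓ.appTop = 𝟙 _ := by
      rw [← Scheme.Hom.comp_appTop]
      have : Y.toSpecΓ ≫ Y.isoSpec.inv = 𝟙 _ := Y.isoSpec.hom_inv_id
      rw [this]; rfl
    rw [h] at h2
    exact (Iso.comp_hom_eq_id _).mp h2
  rw [this, Iso.inv_hom_id_assoc]

end Groth.Agent.Lib.helper2.Hartogs

namespace Groth.Agent.Lib.helper2.Hartogs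

/-- extension of morphisms to an affine target across an open over which functions extend uniquely -/
theorem existsUnique_extension {X Y : Scheme.{u}} [IsAffine Y] (U : X.Opens)
    (hbij : Function.Bijective U.ι.appTop) (f : (U : Scheme.{u}) ⟶ Y) :
    ∃! g : X ⟶ Y, U.ι ≫ g = f := by
  haveI : IsIso U.ι.appTop := (ConcreteCategory.isIso_iff_bijective _).mpr hbij
  obtain ⟨g, hg⟩ := exists_hom_appTop (X := X) (Y := Y) (f.appTop ≫ inv U.ι.appTop)
  refine ⟨g, ?_, ?_⟩
  · apply ext_of_isAffine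
    rw [Scheme.Hom.comp_appTop, hg, Category.assoc, IsIso.inv_hom_id, Category.comp_id]
  · intro g' hg'
    apply ext_of_isAffine
    rw [hg]
    have := congrArg (fun k => k.appTop) hg'
    simp only [Scheme.Hom.comp_appTop] at this
    rw [← this, Category.assoc, IsIso.hom_inv_id, Category.comp_id]

end Groth.Agent.Lib.helper2.Hartogs

namespace Groth.Agent.Lib.helper2.Hartogs

/-- **Hartogs extension to an affine target** (EGA IV 5.10-type). -/
theorem hartogs_affine_target (X Y : Scheme.{u}) [IsLocallyNoetherian X] [IsAffine Y] (U : X.Opens)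
    (hU : ∀ x : ↥X, x ∉ U → (2 : ℕ∞) ≤ LocCoh.depth (X.presheaf.stalk x) (X.presheaf.stalk x))
    (f : (U : Scheme.{u}) ⟶ Y) : ∃! g : X ⟶ Y, U.ι ≫ g = f := by
  apply existsUnique_extension U _ f
  have h := bijective_res_structure (U.ι ''ᵁ ⊤) (fun x hx => hU x (fun hxU => hx (by
    rw [Scheme.Opens.ι_image_top]; exact hxU)))
  exact h

end Groth.Agent.Lib.helper2.Hartogs
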