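import Mathlib
import Groth.Agent.Lib.Helper2.Hartogs4
import Groth.Agent.Lib.Helper26.CM7
import Groth.Prelude.Def_FEt

set_option autoImplicit false
universe u

open AlgebraicGeometry TopologicalSpace CategoryTheory Opposite
open Groth.Agent.Lib.helper26.Depth

namespace Groth.Agent.Lib.helper2.Hartogs

/-- a point of `Spec B` from a prime -/
abbrev spt (B : Type u) [CommRing B] (x : PrimeSpectrum B) : ↥(Spec (CommRingCat.of B)) := x

/-- depth of the stalk of `Spec B` at `x` computed as depth of `B_x` -/
theorem depth_stalk_Spec (B : Type u) [CommRing B] [IsNoetherianRing B]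
    (x : PrimeSpectrum B) :
    LocCoh.depth ((Spec (CommRingCat.of B)).presheaf.stalk (spt B x))
        ((Spec (CommRingCat.of B)).presheaf.stalk (spt B x)) =
      LocCoh.depth (Localization.AtPrime x.asIdeal) (Localization.AtPrime x.asIdeal) := by
  letI k : Algebra B ↑((Spec (CommRingCat.of B)).presheaf.stalk (spt B x)) :=
    StructureSheaf.stalkAlgebra B x
  haveI : IsLocalization.AtPrime (↑((Spec (CommRingCat.of B)).presheaf.stalk (spt B x))) x.asIdeal :=
    StructureSheaf.IsLocalization.to_stalk B x
  haveI : IsLocalizedModule x.asIdeal.primeCompl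
      (Algebra.linearMap B ↑((Spec (CommRingCat.of B)).presheaf.stalk (spt B x))) :=
    (isLocalizedModule_iff_isLocalization).mpr inferInstance
  rw [depth_eq_of_isLocalizedModule x.asIdeal B _ _
    (Algebra.linearMap B ↑((Spec (CommRingCat.of B)).presheaf.stalk (spt B x)))]

/-- S0291 -/
theorem isIso_res_punctured_of_finite (A B : Type u) [CommRing A] [IsNoetherianRing A] [IsLocalRing A]
    [CommRing B] [Algebra A B] [Module.Finite A B]
    (h : ∀ (m : Ideal B) (_ : m.IsMaximal),
      (2 : ℕ∞) ≤ LocCoh.depth (Localization.AtPrime m) (Localization.AtPrime m)) :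
    IsIso ((Spec (CommRingCat.of B)).presheaf.map (homOfLE (le_top :
      Spec.map (CommRingCat.ofHom (algebraMap A B)) ⁻¹ᵁ FEt.puncturedSpec A ≤ ⊤)).op) := by
  haveI : IsNoetherianRing B := IsNoetherianRing.of_finite A B
  apply (ConcreteCategory.isIso_iff_bijective _).mpr
  apply bijective_res_structure
  intro x hx
  let x' : PrimeSpectrum B := x
  have hx1 : (Spec.map (CommRingCat.ofHom (algebraMap A B))) x = IsLocalRing.closedPoint A := by
    by_contra hne
    exact hx hne
  have hcomap : x'.asIdeal.comap (algebraMap A B) = IsLocalRing.maximalIdeal A := by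
    have := congrArg PrimeSpectrum.asIdeal hx1
    exact this
  haveI : Algebra.IsIntegral A B := Algebra.IsIntegral.of_finite A B
  have hmax : x'.asIdeal.IsMaximal := by
    apply Ideal.isMaximal_of_isIntegral_of_isMaximal_comap (R := A) x'.asIdeal
    rw [hcomap]
    exact IsLocalRing.maximalIdeal.isMaximal A
  have := h x'.asIdeal hmax
  rw [← depth_stalk_Spec B x'] at this
  exact this

end Groth.Agent.Lib.helper2.Hartogs
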