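import Groth.Agent.Lib.Helper2.ZClosLib5
import Groth.Agent.Lib.Helper2.ModSec

universe u
open CategoryTheory CategoryTheory.Limits AlgebraicGeometry TopologicalSpace Opposite

namespace Groth.Agent.Lib.helper2.ZClosLib

open ZClos

variable {X : Scheme.{u}}

theorem res_inj_iff_of_eq (F : X.Modules) {V W W' : X.Opens} (e : W = W') (i : W ⟶ V)
    (i' : W' ⟶ V) :
    Function.Injective (F.presheaf.map i.op) ↔ Function.Injective (F.presheaf.map i'.op) := by
  subst e; rw [Subsingleton.elim i i']

theorem res_bij_iff_of_eq (F : X.Modules) {V W W' : X.Opens} (e : W = W') (i : W ⟶ V)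
    (i' : W' ⟶ V) :
    Function.Bijective (F.presheaf.map i.op) ↔ Function.Bijective (F.presheaf.map i'.op) := by
  subst e; rw [Subsingleton.elim i i']

theorem image_preimage_eq' (U V : X.Opens) : U.ι ''ᵁ U.ι ⁻¹ᵁ V = V ⊓ U := by
  rw [ι_image_preimage, inf_comm]

theorem isZPure_iff_sections (Z : Set X) (F : X.Modules) :
    IsZPure Z F ↔ ∀ (T : Cl Z) (V : X.Opens), IsCompact (V : Set X) →
      Function.Injective (F.presheaf.map (homOfLE (inf_le_left : V ⊓ T.U ≤ V)).op) := by
  rw [isZPure_iff]
  constructor
  · intro h T V _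
    have := (ModSec.mono_iff_injective_app _).mp (h T) V
    rw [show (toDiagram Z F T).app V = _ from resPushUnit_app_app T.U F V] at this
    exact (res_inj_iff_of_eq F (image_preimage_eq' T.U V) _ _).mp this
  · intro h T
    apply ModSec.mono_of_injective_affine
    intro W
    rw [show (toDiagram Z F T).app W.1 = _ from resPushUnit_app_app T.U F W.1]
    exact (res_inj_iff_of_eq F (image_preimage_eq' T.U W.1) _ _).mpr (h T W.1 W.2.isCompact)

theorem isZClosed_iff_sections (Z : Set X) (F : X.Modules) :
    IsZClosed Z F ↔ ∀ (T : Cl Z) (V : X.Opens), IsCompact (V : Set X) →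
      Function.Bijective (F.presheaf.map (homOfLE (inf_le_left : V ⊓ T.U ≤ V)).op) := by
  rw [isZClosed_iff]
  constructor
  · intro h T V _
    have := (ModSec.isIso_iff_bijective_app _).mp (h T) V
    rw [show (toDiagram Z F T).app V = _ from resPushUnit_app_app T.U F V] at this
    exact (res_bij_iff_of_eq F (image_preimage_eq' T.U V) _ _).mp this
  · intro h T
    apply ModSec.isIso_of_bijective_affine
    intro W
    rw [show (toDiagram Z F T).app W.1 = _ from resPushUnit_app_app T.U F W.1]
    exact (res_bij_iff_of_eq F (image_preimage_eq' T.U W.1) _ _).mpr (h T W.1 W.2.isCompact)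

end Groth.Agent.Lib.helper2.ZClosLib
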