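import Mathlib
import Groth.Agent.Lib.Helper2.Hartogs3
import Groth.Agent.Lib.Helper2.ZPt6
import Groth.Agent.Lib.Helper2.ZClosLib6

/-!
# helper2: depth ≥ 2 along a closed subset iff sections extend uniquely (S6039)
-/

set_option autoImplicit false
universe u

open AlgebraicGeometry TopologicalSpace CategoryTheory Opposite ZClos

namespace Groth.Agent.Lib.helper2.Hartogs

open Groth.Agent.Lib.helper2.ZClosLib Groth.Agent.Lib.helper2.ZPt

variable {X : Scheme.{u}} [IsLocallyNoetherian X]

theorem depth_ge_two_of_bijective_res (F : X.Modules) (hF : Coh.IsCoh F) (U : X.Opens)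
    (h : ∀ V : X.Opens,
      Function.Bijective (F.presheaf.map (homOfLE (inf_le_left : V ⊓ U ≤ V)).op))
    (x : X) (hx : x ∉ (U : Set X)) :
    (2 : ℕ∞) ≤ LocCoh.depth (X.presheaf.stalk x) (F.presheaf.stalk x) := by
  set Z : Set X := (U : Set X)ᶜ with hZdef
  have hZ : StableUnderSpecialization Z := U.2.isClosed_compl.stableUnderSpecialization
  have hcl : IsZClosed Z F := by
    rw [isZClosed_iff_sections]
    intro T V _
    have hUT : U ≤ T.U := by
      intro y hy hyT
      exact (T.2 hyT) hy
    -- Γ(V) → Γ(V ⊓ T.U) → Γ(V ⊓ U)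
    have e : (V ⊓ T.U) ⊓ U = V ⊓ U := by
      apply le_antisymm
      · exact inf_le_inf_right _ inf_le_left
      · exact le_inf (le_inf inf_le_left (inf_le_right.trans hUT)) inf_le_right
    have h1 := h V
    have h2 := h (V ⊓ T.U)
    have h2' : Function.Bijective (F.presheaf.map (homOfLE
        (le_inf inf_le_left (inf_le_right.trans hUT) : V ⊓ U ≤ V ⊓ T.U)).op) :=
      (res_bij_iff_of_eq F e _ _).mp h2
    have hcomp : (F.presheaf.map (homOfLE (inf_le_left : V ⊓ U ≤ V)).op : _ → _) =
        (F.presheaf.map (homOfLE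
          (le_inf inf_le_left (inf_le_right.trans hUT) : V ⊓ U ≤ V ⊓ T.U)).op) ∘
        (F.presheaf.map (homOfLE (inf_le_left : V ⊓ T.U ≤ V)).op) := by
      funext s
      exact (ModSec.res_comp F _ _ _ s).symm
    rw [hcomp] at h1
    exact (Function.Bijective.of_comp_iff' h2' _).mp h1
  exact depth_ge_two_of_isZClosedAt F Z hZ hF x (isZClosedAt_of_isZClosed Z F hcl x) x
    specializes_rfl hx

end Groth.Agent.Lib.helper2.Hartogs
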