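import Mathlib
import Groth.Agent.Lib.Helper24.QuasiFiniteLocal
import Groth.Agent.Lib.Helper24.HenselSplitting

set_option autoImplicit false

namespace Groth.Agent.Lib.helper2.HensFinLoc

open Polynomial IsLocalRing
open Groth.Agent.Lib.Helper24.HenselSplitting

universe u

theorem henselian_of_finite_localization (R : Type u) [CommRing R] [IsLocalRing R]
    (H : ∀ (S : Type u) [CommRing S] [Algebra R S] [Algebra.FiniteType R S] (q : Ideal S)
        [q.IsPrime], q.LiesOver (IsLocalRing.maximalIdeal R) → Algebra.QuasiFiniteAt R q →
          Module.Finite R (Localization.AtPrime q)) : HenselianLocalRing R := by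
  refine ⟨fun f hf a₀ h0 h1 => ?_⟩
  obtain ⟨hdiv, hGa⟩ := div_X_sub_C R f a₀
  set G : R[X] := f /ₘ (X - C a₀) with hG
  let P : StandardEtalePair R :=
    { f := f
      monic_f := hf
      g := derivative f * G
      cond := ⟨G, 0, 1, by ring⟩ }
  have hP : P.HasMap (residue R a₀) := by
    constructor
    · show aeval (residue R a₀) f = 0
      rw [← IsLocalRing.ResidueField.algebraMap_eq, Polynomial.aeval_algebraMap_apply,
        Polynomial.coe_aeval_eq_eval, IsLocalRing.ResidueField.algebraMap_eq,
        residue_eq_zero_iff]
      exact h0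
    · show IsUnit (aeval (residue R a₀) (derivative f * G))
      rw [← IsLocalRing.ResidueField.algebraMap_eq, Polynomial.aeval_algebraMap_apply,
        Polynomial.coe_aeval_eq_eval, eval_mul, hGa]
      exact (h1.mul h1).map _
  let χ : P.Ring →ₐ[R] ResidueField R := P.lift _ hP
  have hχX : χ P.X = residue R a₀ := P.lift_X _ hP
  have hGu : IsUnit (aeval P.X G) := by
    have : IsUnit (aeval P.X (derivative f * G)) := (StandardEtalePair.hasMap_X (P := P)).2
    rw [map_mul] at this
    exact isUnit_of_mul_isUnit_right this
  have hfX : aeval P.X f = 0 := (StandardEtalePair.hasMap_X (P := P)).1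
  have key : ∀ (M : Ideal P.Ring) [M.IsPrime],
      maximalIdeal R ≤ M.comap (algebraMap R P.Ring) → P.X - algebraMap R P.Ring a₀ ∈ M := by
    intro M _ hM
    have h2 := congrArg (fun p => aeval P.X p) hdiv
    simp only [map_add, map_mul, map_sub, aeval_X, aeval_C] at h2
    rw [hfX] at h2
    have h3 : (P.X - algebraMap R P.Ring a₀) * aeval P.X G =
        -algebraMap R P.Ring (f.eval a₀) := by
      linear_combination -h2
    have h4 : (P.X - algebraMap R P.Ring a₀) * aeval P.X G ∈ M := by
      rw [h3]
      exact neg_mem (hM h0)
    rcases Ideal.IsPrime.mem_or_mem inferInstance h4 with h5 | h5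
    · exact h5
    · exact absurd (Ideal.eq_top_of_isUnit_mem _ h5 hGu) (Ideal.IsPrime.ne_top inferInstance)
  have hχsurj : Function.Surjective χ := by
    intro z
    obtain ⟨r, rfl⟩ := residue_surjective z
    exact ⟨algebraMap R P.Ring r, χ.commutes r⟩
  set q : Ideal P.Ring := RingHom.ker χ.toRingHom with hq
  haveI hkmax : q.IsMaximal := RingHom.ker_isMaximal_of_surjective _ hχsurj
  haveI hqprime : q.IsPrime := hkmax.isPrime
  have hkover : q.comap (algebraMap R P.Ring) = maximalIdeal R := by
    ext r
    rw [Ideal.mem_comap, RingHom.mem_ker]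
    show χ (algebraMap R P.Ring r) = 0 ↔ _
    rw [χ.commutes, IsLocalRing.ResidueField.algebraMap_eq, residue_eq_zero_iff]
  haveI hlies : q.LiesOver (maximalIdeal R) := ⟨hkover.symm⟩
  haveI : Algebra.QuasiFiniteAt R q := inferInstance
  haveI hfin : Module.Finite R (Localization.AtPrime q) := H P.Ring q hlies inferInstance
  haveI : Algebra.FormallyUnramified R (Localization.AtPrime q) := by
    haveI : Algebra.FormallyUnramified P.Ring (Localization.AtPrime q) :=
      Algebra.FormallyUnramified.of_isLocalization q.primeCompl
    exact Algebra.FormallyUnramified.comp R P.Ring (Localization.AtPrime q)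
  haveI : Module.Flat R (Localization.AtPrime q) := Module.Flat.trans R P.Ring _
  -- the character on the localization
  have hunits : ∀ y : q.primeCompl, IsUnit (χ.toRingHom y) := by
    intro y
    rw [isUnit_iff_ne_zero]
    intro h
    exact y.2 (RingHom.mem_ker.2 h)
  let χL : Localization.AtPrime q →+* ResidueField R := IsLocalization.lift hunits
  have hχL : ∀ r : R, χL (algebraMap R (Localization.AtPrime q) r) = residue R r := by
    intro r
    rw [IsScalarTower.algebraMap_apply R P.Ring (Localization.AtPrime q)]
    have : χL (algebraMap P.Ring (Localization.AtPrime q) (algebraMap R P.Ring r)) =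
        χ.toRingHom (algebraMap R P.Ring r) := IsLocalization.lift_eq hunits _
    rw [this]
    exact χ.commutes r
  have hnonunit : ∀ l : Localization.AtPrime q, χL l = 0 →
      l ∈ maximalIdeal (Localization.AtPrime q) := by
    intro l hl
    rw [IsLocalRing.mem_maximalIdeal, mem_nonunits_iff]
    intro hu
    have := hu.map χL
    rw [hl] at this
    exact not_isUnit_zero this
  haveI hlh : IsLocalHom (algebraMap R (Localization.AtPrime q)) := by
    constructor
    intro r hu
    have h2 := hu.map χL
    rw [hχL, isUnit_iff_ne_zero, residue_ne_zero_iff_isUnit] at h2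
    exact h2
  have hres : Function.Surjective (algebraMap R (ResidueField (Localization.AtPrime q))) := by
    intro z
    obtain ⟨l, rfl⟩ := residue_surjective z
    obtain ⟨r, hr⟩ := residue_surjective (χL l)
    refine ⟨r, ?_⟩
    have h0' : χL (l - algebraMap R _ r) = 0 := by
      rw [map_sub, hχL, hr, sub_self]
    have h1' : residue (Localization.AtPrime q) (l - algebraMap R _ r) = 0 :=
      (IsLocalRing.residue_eq_zero_iff _).mpr (hnonunit _ h0')
    rw [map_sub, sub_eq_zero] at h1'
    rw [h1']
    rfl
  have hsurj := surjective_algebraMap_of_finite_unramified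
    (R := R) (A := Localization.AtPrime q) hres
  haveI hff : Module.FaithfullyFlat R (Localization.AtPrime q) :=
    Module.FaithfullyFlat.of_flat_of_isLocalHom
  have hbij : Function.Bijective (algebraMap R (Localization.AtPrime q)) :=
    ⟨FaithfulSMul.algebraMap_injective R _, hsurj⟩
  let σ : (Localization.AtPrime q) ≃ₐ[R] R :=
    (AlgEquiv.ofBijective (Algebra.ofId R _) hbij).symm
  let φ : P.Ring →ₐ[R] R := σ.toAlgHom.comp (IsScalarTower.toAlgHom R P.Ring _)
  have hroot : P.HasMap (φ P.X) := StandardEtalePair.hasMap_X.map φ
  refine ⟨φ P.X, ?_, ?_⟩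
  · have := hroot.1
    rw [Polynomial.IsRoot.def, ← Polynomial.coe_aeval_eq_eval]
    exact this
  · have hMp : ((maximalIdeal R).comap φ.toRingHom).IsPrime := Ideal.comap_isPrime _ _
    have hM3 : maximalIdeal R ≤ ((maximalIdeal R).comap φ.toRingHom).comap
        (algebraMap R P.Ring) := by
      intro r hr
      rw [Ideal.mem_comap, Ideal.mem_comap]
      show φ (algebraMap R P.Ring r) ∈ maximalIdeal R
      rw [φ.commutes]
      exact hr
    have h5 := key _ hM3
    rw [Ideal.mem_comap] at h5
    have h6 : φ (P.X - algebraMap R P.Ring a₀) ∈ maximalIdeal R := h5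
    rw [map_sub, φ.commutes] at h6
    exact h6

theorem henselian_iff_finite_localization (R : Type u) [CommRing R] [IsLocalRing R] :
    HenselianLocalRing R ↔
      ∀ (S : Type u) [CommRing S] [Algebra R S] [Algebra.FiniteType R S] (q : Ideal S) [q.IsPrime],
        q.LiesOver (IsLocalRing.maximalIdeal R) → Algebra.QuasiFiniteAt R q →
          Module.Finite R (Localization.AtPrime q) := by
  constructor
  · intro hR S _ _ _ q _ hq hqf
    exact (Groth.Agent.Lib.Helper24.QuasiFiniteLocal.finite_atPrime_of_quasiFiniteAt R S q).1
  · exact henselian_of_finite_localization R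

end Groth.Agent.Lib.helper2.HensFinLoc
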