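import Mathlib
import Groth.Agent.Lib.Helper24.QuasiFiniteLocal
import Groth.Agent.Lib.Helper24.HenselSplitting

set_option autoImplicit false

namespace Groth.Agent.Lib.helper2.HensStr

open IsLocalRing

universe u

section Algebra

variable (R : Type u) [CommRing R] [HenselianLocalRing R] (A : Type u) [CommRing A] [Algebra R A]
  [Algebra.FiniteType R A]

/-- For a finite type algebra `A` over a henselian local ring, quasi-finite at a prime `Q` over the
maximal ideal, there is an idempotent `e ∉ Q` divisible by every element outside `Q`. -/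
theorem exists_idempotent_dvd (Q : Ideal A) [Q.IsPrime]
    [hQm : Q.LiesOver (maximalIdeal R)] [Algebra.QuasiFiniteAt R Q] :
    ∃ e : A, IsIdempotentElem e ∧ e ∉ Q ∧ ∀ s : A, s ∉ Q → ∃ d : A, s * d = e := by
  obtain ⟨e, he, heQ, hfin⟩ :=
    Groth.Agent.Lib.Helper24.QuasiFiniteSplit.exists_idempotent_of_quasiFiniteAt (R := R) Q
  set I : Ideal A := Ideal.span ({1 - e} : Set A) with hI
  have h1e : (1 - e) ∈ Q := by
    have h0 : e * (1 - e) = 0 := by rw [mul_sub, mul_one, he.eq, sub_self]
    have h1 : e * (1 - e) ∈ Q := by rw [h0]; exact Q.zero_mem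
    exact (Ideal.IsPrime.mem_or_mem inferInstance h1).resolve_left heQ
  have hIQ : I ≤ Q := (Ideal.span_singleton_le_iff_mem Q).2 h1e
  have hker : RingHom.ker (Ideal.Quotient.mk I) ≤ Q := by rw [Ideal.mk_ker]; exact hIQ
  haveI hnprime : (Q.map (Ideal.Quotient.mk I)).IsPrime :=
    Ideal.map_isPrime_of_surjective Ideal.Quotient.mk_surjective hker
  have hcomap : (Q.map (Ideal.Quotient.mk I)).comap (Ideal.Quotient.mk I) = Q := by
    rw [Ideal.comap_map_of_surjective _ Ideal.Quotient.mk_surjective, ← RingHom.ker_eq_comap_bot,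
      sup_eq_left]
    exact hker
  haveI hint : Algebra.IsIntegral R (A ⧸ I) := Algebra.IsIntegral.of_finite R _
  haveI hnmax : (Q.map (Ideal.Quotient.mk I)).IsMaximal := by
    apply Ideal.isMaximal_of_isIntegral_of_isMaximal_comap (R := R)
    have : (Q.map (Ideal.Quotient.mk I)).comap (algebraMap R (A ⧸ I)) = maximalIdeal R := by
      rw [IsScalarTower.algebraMap_eq R A (A ⧸ I), ← Ideal.comap_comap,
        Ideal.Quotient.algebraMap_eq, hcomap]
      exact (hQm.over).symm
    rw [this]
    exact maximalIdeal.isMaximal R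
  obtain ⟨ε₁, hε₁, hε₁n, hdiv⟩ :=
    Groth.Agent.Lib.Helper24.QuasiFiniteLocal.exists_idempotent_local R (A ⧸ I)
      (Q.map (Ideal.Quotient.mk I))
  obtain ⟨ε, rfl⟩ := Ideal.Quotient.mk_surjective ε₁
  have hεQ : ε ∉ Q := fun h => hε₁n (Ideal.mem_map_of_mem _ h)
  have hkill : ∀ y ∈ I, e * y = 0 := by
    intro y hy
    obtain ⟨c, rfl⟩ := Ideal.mem_span_singleton'.1 hy
    have h0 : e * (1 - e) = 0 := by rw [mul_sub, mul_one, he.eq, sub_self]
    calc e * (c * (1 - e)) = c * (e * (1 - e)) := by ring
      _ = 0 := by rw [h0, mul_zero]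
  refine ⟨e * ε, ?_, ?_, ?_⟩
  · have h2 : ε * ε - ε ∈ I := by
      rw [← Ideal.Quotient.eq_zero_iff_mem, map_sub, map_mul, hε₁.eq, sub_self]
    have h3 := hkill _ h2
    change e * ε * (e * ε) = e * ε
    calc e * ε * (e * ε) = (e * e) * (ε * ε) := by ring
      _ = e * (ε * ε) := by rw [he.eq]
      _ = e * (ε * ε - ε) + e * ε := by ring
      _ = e * ε := by rw [h3, zero_add]
  · intro h
    rcases Ideal.IsPrime.mem_or_mem inferInstance h with h | h
    · exact heQ h
    · exact hεQ h
  · intro s hs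
    have hs' : Ideal.Quotient.mk I s ∉ Q.map (Ideal.Quotient.mk I) := by
      intro h
      have : s ∈ (Q.map (Ideal.Quotient.mk I)).comap (Ideal.Quotient.mk I) := h
      rw [hcomap] at this
      exact hs this
    obtain ⟨d₁, hd₁⟩ := hdiv _ hs'
    obtain ⟨d, rfl⟩ := Ideal.Quotient.mk_surjective d₁
    have h4 : s * d - ε ∈ I := by
      rw [← Ideal.Quotient.eq_zero_iff_mem, map_sub, map_mul, hd₁, sub_self]
    have h5 := hkill _ h4
    refine ⟨e * d, ?_⟩
    calc s * (e * d) = e * (s * d - ε) + e * ε := by ring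
      _ = e * ε := by rw [h5, zero_add]

/-- The localisation of a finite type algebra over a henselian local ring at a prime over the
maximal ideal at which it is quasi-finite: it is finite, and a localisation away from an
idempotent. -/
theorem exists_away_of_quasiFiniteAt (Q : Ideal A) [Q.IsPrime]
    [hQm : Q.LiesOver (maximalIdeal R)] [Algebra.QuasiFiniteAt R Q]
    (L : Type u) [CommRing L] [Algebra A L] [Algebra R L] [IsScalarTower R A L]
    [IsLocalization.AtPrime L Q] :
    Module.Finite R L ∧ ∃ e : A, IsIdempotentElem e ∧ e ∉ Q ∧ IsLocalization.Away e L := by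
  constructor
  · haveI : Module.Finite R (Localization.AtPrime Q) :=
      (Groth.Agent.Lib.Helper24.QuasiFiniteLocal.finite_atPrime_of_quasiFiniteAt R A Q).1
    let E : Localization.AtPrime Q ≃ₐ[A] L :=
      IsLocalization.algEquiv Q.primeCompl (Localization.AtPrime Q) L
    exact Module.Finite.equiv (E.restrictScalars R).toLinearEquiv
  · obtain ⟨e, he, heQ, hdiv⟩ := exists_idempotent_dvd R A Q
    refine ⟨e, he, heQ, ?_⟩
    refine (IsLocalization.iff_of_le_of_exists_dvd (Submonoid.powers e) Q.primeCompl ?_ ?_).mpr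
      inferInstance
    · rw [Submonoid.powers_le]
      exact heQ
    · intro n hn
      obtain ⟨d, hd⟩ := hdiv n hn
      exact ⟨e, Submonoid.mem_powers e, ⟨d, hd.symm⟩⟩

end Algebra

end Groth.Agent.Lib.helper2.HensStr
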