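import Mathlib
import Groth.Agent.Lib.Helper24.QuasiFiniteLocal
import Groth.Agent.Lib.Helper24.HenselSplitting
import Groth.Agent.Lib.Helper2.HensStrAlg

set_option autoImplicit false

namespace Groth.Agent.Lib.helper2.HensStr

open IsLocalRing CategoryTheory AlgebraicGeometry

universe u

section Sch

variable {R : Type u} [CommRing R] [HenselianLocalRing R]

theorem fromSpecStalk_of_etale {X : Scheme.{u}} (f : X ⟶ Spec (CommRingCat.of R)) [Etale f]
    (x : X) (hx : f.base x = IsLocalRing.closedPoint R) :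
    IsOpenImmersion (X.fromSpecStalk x) ∧ IsFinite (X.fromSpecStalk x ≫ f) := by
  obtain ⟨U, hU, hxU⟩ : ∃ U : X.Opens, IsAffineOpen U ∧ x ∈ U := by
    obtain ⟨_, ⟨U, hU, rfl⟩, hxU, -⟩ :=
      X.isBasis_affineOpens.exists_subset_of_mem_open (Set.mem_univ x) isOpen_univ
    exact ⟨U, hU, hxU⟩
  let g : Spec Γ(X, U) ⟶ Spec (CommRingCat.of R) := hU.fromSpec ≫ f
  let φ : CommRingCat.of R ⟶ Γ(X, U) := Spec.preimage g
  have hφ : Spec.map φ = g := Spec.map_preimage g
  haveI : Etale (Spec.map φ) := by rw [hφ]; infer_instance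
  have hφet : φ.hom.Etale := (HasRingHomProperty.Spec_iff (P := @Etale)).mp inferInstance
  letI : Algebra R Γ(X, U) := φ.hom.toAlgebra
  haveI : Algebra.Etale R Γ(X, U) := hφet
  set q := hU.primeIdealOf ⟨x, hxU⟩ with hq
  have hqx : hU.fromSpec.base q = x := hU.fromSpec_primeIdealOf ⟨x, hxU⟩
  haveI : q.asIdeal.LiesOver (maximalIdeal R) := by
    constructor
    have h1 : (Spec.map φ).base q = IsLocalRing.closedPoint R := by
      rw [hφ]
      change f.base (hU.fromSpec.base q) = _
      rw [hqx, hx]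
    have h2 := congrArg PrimeSpectrum.asIdeal h1
    exact h2.symm
  haveI : Algebra.QuasiFiniteAt R q.asIdeal := inferInstance
  letI : Algebra Γ(X, U) (X.presheaf.stalk x) :=
    TopCat.Presheaf.algebra_section_stalk X.presheaf ⟨x, hxU⟩
  letI : Algebra R (X.presheaf.stalk x) := (φ ≫ X.presheaf.germ U x hxU).hom.toAlgebra
  haveI : IsScalarTower R Γ(X, U) (X.presheaf.stalk x) := IsScalarTower.of_algebraMap_eq fun _ => rfl
  haveI : IsLocalization.AtPrime (X.presheaf.stalk x) q.asIdeal := hU.isLocalization_stalk ⟨x, hxU⟩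
  obtain ⟨hfin, e, -, -, haway⟩ := exists_away_of_quasiFiniteAt R Γ(X, U) q.asIdeal (X.presheaf.stalk x)
  have hj : X.fromSpecStalk x = Spec.map (X.presheaf.germ U x hxU) ≫ hU.fromSpec := by
    rw [← hU.fromSpecStalk_eq_fromSpecStalk hxU]; rfl
  haveI : IsOpenImmersion (Spec.map (X.presheaf.germ U x hxU)) :=
    IsOpenImmersion.of_isLocalization (R := Γ(X, U)) (S := X.presheaf.stalk x) e
  constructor
  · rw [hj]; infer_instance
  · have : X.fromSpecStalk x ≫ f = Spec.map (φ ≫ X.presheaf.germ U x hxU) := by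
      rw [hj, Category.assoc, Spec.map_comp, hφ]
    rw [this, IsFinite.SpecMap_iff]
    exact hfin

end Sch

end Groth.Agent.Lib.helper2.HensStr
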