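import Mathlib
import Groth.Prelude.Def_CAlg2

/-! Geometrically unibranch local rings: an étale algebra over a geometrically unibranch local
ring has a unique minimal prime below every prime lying over the maximal ideal (helper2). -/

set_option autoImplicit false

namespace Groth.Agent.Lib.helper2.UniBr

open TensorProduct

universe u

section Step3

variable {D A' E : Type*} [CommRing D] [CommRing A'] [CommRing E] [Algebra D A'] [Algebra D E]

/-- Frobenius-power argument: modulo `m'`, every element of `E ⊗ A'` has a `p`-power coming from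
`E`. -/
theorem exists_pow_sub_mem (m' : Ideal A') [m'.IsMaximal] (p : ℕ) [ExpChar (A' ⧸ m') p]
    (hpi : ∀ x : A' ⧸ m', ∃ n : ℕ,
      x ^ p ^ n ∈ ((Ideal.Quotient.mk m').comp (algebraMap D A')).range)
    (hne : m'.map (Algebra.TensorProduct.includeRight : A' →ₐ[D] E ⊗[D] A') ≠ ⊤)
    (b : E ⊗[D] A') : ∃ (N : ℕ) (c : E), b ^ p ^ N - c ⊗ₜ[D] (1 : A') ∈
      m'.map (Algebra.TensorProduct.includeRight : A' →ₐ[D] E ⊗[D] A') := by
  set J := m'.map (Algebra.TensorProduct.includeRight : A' →ₐ[D] E ⊗[D] A') with hJ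
  haveI : Nontrivial ((E ⊗[D] A') ⧸ J) := Ideal.Quotient.nontrivial_iff.mpr hne
  -- the residue field maps to the quotient
  let φ : A' ⧸ m' →+* (E ⊗[D] A') ⧸ J :=
    Ideal.quotientMap J (Algebra.TensorProduct.includeRight : A' →ₐ[D] E ⊗[D] A').toRingHom
      Ideal.le_comap_map
  letI : Field (A' ⧸ m') := Ideal.Quotient.field m'
  haveI : ExpChar ((E ⊗[D] A') ⧸ J) p := expChar_of_injective_ringHom (RingHom.injective φ) p
  suffices h : ∃ (N : ℕ) (c : E), (Ideal.Quotient.mk J b) ^ p ^ N =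
      Ideal.Quotient.mk J (c ⊗ₜ[D] (1 : A')) by
    obtain ⟨N, c, h⟩ := h
    refine ⟨N, c, ?_⟩
    rw [← Ideal.Quotient.eq, map_pow]
    exact h
  induction b with
  | zero => exact ⟨0, 0, by simp⟩
  | tmul e a =>
    obtain ⟨N, d, hd⟩ := hpi (Ideal.Quotient.mk m' a)
    refine ⟨N, d • e ^ p ^ N, ?_⟩
    have h1 : (Ideal.Quotient.mk m') (a ^ p ^ N - algebraMap D A' d) = 0 := by
      rw [map_sub, map_pow]
      simp only [RingHom.coe_comp, Function.comp_apply] at hd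
      rw [hd, sub_self]
    have h2 : a ^ p ^ N - algebraMap D A' d ∈ m' := Ideal.Quotient.eq_zero_iff_mem.mp h1
    rw [← map_pow, Ideal.Quotient.eq, Algebra.TensorProduct.tmul_pow]
    have h3 : (e ^ p ^ N) ⊗ₜ[D] (a ^ p ^ N) - (d • e ^ p ^ N) ⊗ₜ[D] (1 : A') =
        ((e ^ p ^ N) ⊗ₜ[D] (1 : A')) *
          (Algebra.TensorProduct.includeRight : A' →ₐ[D] E ⊗[D] A')
            (a ^ p ^ N - algebraMap D A' d) := by
      rw [Algebra.TensorProduct.includeRight_apply, Algebra.TensorProduct.tmul_mul_tmul, mul_one,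
        one_mul, TensorProduct.tmul_sub, TensorProduct.smul_tmul, Algebra.smul_def, mul_one]
    rw [h3]
    exact Ideal.mul_mem_left _ _ (Ideal.mem_map_of_mem _ h2)
  | add x y hx hy =>
    obtain ⟨Nx, cx, hx⟩ := hx
    obtain ⟨Ny, cy, hy⟩ := hy
    refine ⟨Nx + Ny, cx ^ p ^ Ny + cy ^ p ^ Nx, ?_⟩
    have ex : (Ideal.Quotient.mk J x) ^ p ^ (Nx + Ny) =
        Ideal.Quotient.mk J ((cx ^ p ^ Ny) ⊗ₜ[D] (1 : A')) := by
      rw [pow_add, pow_mul, hx, ← map_pow, Algebra.TensorProduct.tmul_pow, one_pow]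
    have ey : (Ideal.Quotient.mk J y) ^ p ^ (Nx + Ny) =
        Ideal.Quotient.mk J ((cy ^ p ^ Nx) ⊗ₜ[D] (1 : A')) := by
      rw [pow_add, mul_comm, pow_mul, hy, ← map_pow, Algebra.TensorProduct.tmul_pow, one_pow]
    rw [map_add, add_pow_expChar_pow, ex, ey, ← map_add, ← TensorProduct.add_tmul]

theorem prime_le_of_comap_le (m' : Ideal A') [m'.IsMaximal] (p : ℕ) [ExpChar (A' ⧸ m') p]
    (hpi : ∀ x : A' ⧸ m', ∃ n : ℕ,
      x ^ p ^ n ∈ ((Ideal.Quotient.mk m').comp (algebraMap D A')).range)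
    (n₁ n₂ : Ideal (E ⊗[D] A')) [n₁.IsPrime] [n₂.IsPrime]
    (h₁ : m'.map (Algebra.TensorProduct.includeRight : A' →ₐ[D] E ⊗[D] A') ≤ n₁)
    (h₂ : m'.map (Algebra.TensorProduct.includeRight : A' →ₐ[D] E ⊗[D] A') ≤ n₂)
    (h : n₁.comap (algebraMap E (E ⊗[D] A')) ≤ n₂.comap (algebraMap E (E ⊗[D] A'))) :
    n₁ ≤ n₂ := by
  intro b hb
  have hne : m'.map (Algebra.TensorProduct.includeRight : A' →ₐ[D] E ⊗[D] A') ≠ ⊤ := by
    intro htop
    rw [htop] at h₁
    exact (inferInstance : n₁.IsPrime).ne_top (top_unique h₁)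
  obtain ⟨N, c, hc⟩ := exists_pow_sub_mem (E := E) m' p hpi hne b
  have hc1 : c ⊗ₜ[D] (1 : A') ∈ n₁ := by
    have := n₁.sub_mem (n₁.pow_mem_of_mem hb (p ^ N) (pow_pos (expChar_pos (A' ⧸ m') p) N)) (h₁ hc)
    simpa using this
  have hc2 : c ∈ n₁.comap (algebraMap E (E ⊗[D] A')) := hc1
  have hc3 : c ⊗ₜ[D] (1 : A') ∈ n₂ := h hc2
  have : b ^ p ^ N ∈ n₂ := by
    have := n₂.add_mem (h₂ hc) hc3
    simpa using this
  exact (inferInstance : n₂.IsPrime).mem_of_pow_mem _ this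

end Step3


section LemmaX

variable {D : Type u} [CommRing D] [IsDomain D] [IsLocalRing D]
variable {E : Type u} [CommRing E] [Algebra D E] [Algebra.Etale D E]

theorem minimalPrimes_unique_le_of_domain
    (hloc : IsLocalRing ↥(integralClosure D (FractionRing D)))
    (hpi : ∀ (m' : Ideal ↥(integralClosure D (FractionRing D))) [m'.IsMaximal]
      (x : ↥(integralClosure D (FractionRing D)) ⧸ m'), ∃ n : ℕ,
      x ^ (ringExpChar (↥(integralClosure D (FractionRing D)) ⧸ m')) ^ n ∈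
        ((Ideal.Quotient.mk m').comp
          (algebraMap D ↥(integralClosure D (FractionRing D)))).range)
    (q : Ideal E) [q.IsPrime] (hq : q.comap (algebraMap D E) = IsLocalRing.maximalIdeal D)
    (𝔭₁ 𝔭₂ : Ideal E) (h₁ : 𝔭₁ ∈ minimalPrimes E) (h₂ : 𝔭₂ ∈ minimalPrimes E)
    (hle₁ : 𝔭₁ ≤ q) (hle₂ : 𝔭₂ ≤ q) : 𝔭₁ = 𝔭₂ := by
  classical
  haveI := hloc
  have hbij := TensorProduct.toIntegralClosure_bijective_of_smooth (R := D) (S := E)
    (B := FractionRing D)
  let ι : E ⊗[D] ↥(integralClosure D (FractionRing D)) →ₐ[E] E ⊗[D] FractionRing D :=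
    (integralClosure E (E ⊗[D] FractionRing D)).val.comp
      (TensorProduct.toIntegralClosure D E (FractionRing D))
  have hιsurj : ∀ y : E ⊗[D] FractionRing D, IsIntegral E y → ∃ b, ι b = y := by
    intro y hy
    obtain ⟨b, hb⟩ := hbij.2 ⟨y, hy⟩
    exact ⟨b, congrArg Subtype.val hb⟩
  -- localization
  haveI : IsLocalization (Algebra.algebraMapSubmonoid E (nonZeroDivisors D))
      (E ⊗[D] FractionRing D) := IsLocalization.tensor (FractionRing D) (nonZeroDivisors D)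
  have hM : Algebra.algebraMapSubmonoid E (nonZeroDivisors D) ≤ nonZeroDivisors E := by
    rintro _ ⟨d, hd, rfl⟩
    have hreg : IsSMulRegular D d := by
      intro a b hab
      exact mul_left_cancel₀ (nonZeroDivisors.ne_zero hd) hab
    have hreg' : IsSMulRegular E (algebraMap D E d) := hreg.of_flat
    rw [mem_nonZeroDivisors_iff_right]
    intro x hx
    apply hreg'
    change (algebraMap D E) d • x = (algebraMap D E) d • 0
    rw [smul_zero, smul_eq_mul, mul_comm]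
    exact hx
  have hdisj : ∀ 𝔭 ∈ minimalPrimes E,
      Disjoint ((Algebra.algebraMapSubmonoid E (nonZeroDivisors D) : Submonoid E) : Set E)
        (𝔭 : Set E) := fun 𝔭 h𝔭 =>
    (Set.disjoint_of_subset_right (show ((Algebra.algebraMapSubmonoid E (nonZeroDivisors D) :
      Submonoid E) : Set E) ⊆ ((nonZeroDivisors E : Submonoid E) : Set E) from hM)
      (Ideal.disjoint_nonZeroDivisors_of_mem_minimalPrimes h𝔭)).symm
  have hpr₁ : 𝔭₁.IsPrime := h₁.1.1
  have hpr₂ : 𝔭₂.IsPrime := h₂.1.1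
  have hP₁ := IsLocalization.isPrime_of_isPrime_disjoint
    (Algebra.algebraMapSubmonoid E (nonZeroDivisors D)) (E ⊗[D] FractionRing D) 𝔭₁ hpr₁
    (hdisj 𝔭₁ h₁)
  have hP₂ := IsLocalization.isPrime_of_isPrime_disjoint
    (Algebra.algebraMapSubmonoid E (nonZeroDivisors D)) (E ⊗[D] FractionRing D) 𝔭₂ hpr₂
    (hdisj 𝔭₂ h₂)
  have hc₁ := IsLocalization.under_map_of_isPrime_disjoint
    (Algebra.algebraMapSubmonoid E (nonZeroDivisors D)) (E ⊗[D] FractionRing D) hpr₁
    (hdisj 𝔭₁ h₁)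
  have hc₂ := IsLocalization.under_map_of_isPrime_disjoint
    (Algebra.algebraMapSubmonoid E (nonZeroDivisors D)) (E ⊗[D] FractionRing D) hpr₂
    (hdisj 𝔭₂ h₂)
  by_contra hne
  have hPne : 𝔭₁.map (algebraMap E (E ⊗[D] FractionRing D)) ≠
      𝔭₂.map (algebraMap E (E ⊗[D] FractionRing D)) := by
    intro h
    apply hne
    rw [← hc₁, ← hc₂, h]
  -- the generic fibre is artinian
  haveI : Module.Finite (FractionRing D) (FractionRing D ⊗[D] E) :=
    Algebra.FormallyUnramified.finite_of_free (FractionRing D) (FractionRing D ⊗[D] E)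
  haveI : IsArtinianRing (FractionRing D ⊗[D] E) :=
    IsArtinianRing.of_finite (FractionRing D) _
  haveI : IsArtinianRing (E ⊗[D] FractionRing D) :=
    (Algebra.TensorProduct.comm D (FractionRing D) E).toRingEquiv.isArtinianRing
  let x₁ : PrimeSpectrum (E ⊗[D] FractionRing D) := ⟨_, hP₁⟩
  let x₂ : PrimeSpectrum (E ⊗[D] FractionRing D) := ⟨_, hP₂⟩
  obtain ⟨e, f, hef, hef1, hs⟩ := PrimeSpectrum.isClopen_iff_mul_add.mp
    (isClopen_discrete ({x₁} : Set (PrimeSpectrum (E ⊗[D] FractionRing D))))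
  have he₁ : e ∉ 𝔭₁.map (algebraMap E (E ⊗[D] FractionRing D)) := by
    have : x₁ ∈ (PrimeSpectrum.basicOpen e : Set (PrimeSpectrum (E ⊗[D] FractionRing D))) := by
      rw [← hs]; rfl
    exact this
  have he₂ : e ∈ 𝔭₂.map (algebraMap E (E ⊗[D] FractionRing D)) := by
    by_contra hcon
    have : x₂ ∈ (PrimeSpectrum.basicOpen e : Set (PrimeSpectrum (E ⊗[D] FractionRing D))) := hcon
    rw [← hs] at this
    exact hPne (congrArg PrimeSpectrum.asIdeal (Set.mem_singleton_iff.mp this)).symm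
  have hf₁ : f ∈ 𝔭₁.map (algebraMap E (E ⊗[D] FractionRing D)) :=
    (hP₁.mem_or_mem (by rw [hef]; exact Ideal.zero_mem _)).resolve_left he₁
  have hfe : f = 1 - e := by rw [← hef1]; ring
  have hidem : e * e = e := by
    have : e * e = e * (e + f) - e * f := by ring
    rw [this, hef1, hef, mul_one, sub_zero]
  have heint : IsIntegral E e := by
    refine ⟨Polynomial.X * (Polynomial.X - Polynomial.C 1),
      Polynomial.monic_X.mul (Polynomial.monic_X_sub_C 1), ?_⟩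
    simp [mul_sub, hidem]
  obtain ⟨b, hb⟩ := hιsurj e heint
  let N₁ : Ideal (E ⊗[D] ↥(integralClosure D (FractionRing D))) :=
    (𝔭₁.map (algebraMap E (E ⊗[D] FractionRing D))).comap ι.toRingHom
  let N₂ : Ideal (E ⊗[D] ↥(integralClosure D (FractionRing D))) :=
    (𝔭₂.map (algebraMap E (E ⊗[D] FractionRing D))).comap ι.toRingHom
  haveI hN₁pr : N₁.IsPrime := Ideal.comap_isPrime _ _
  haveI hN₂pr : N₂.IsPrime := Ideal.comap_isPrime _ _
  have hιalg : ι.toRingHom.comp (algebraMap E (E ⊗[D] ↥(integralClosure D (FractionRing D)))) =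
      algebraMap E (E ⊗[D] FractionRing D) := ι.comp_algebraMap
  have hN₁ : N₁.comap (algebraMap E (E ⊗[D] ↥(integralClosure D (FractionRing D)))) = 𝔭₁ := by
    rw [Ideal.comap_comap, hιalg]; exact hc₁
  have hN₂ : N₂.comap (algebraMap E (E ⊗[D] ↥(integralClosure D (FractionRing D)))) = 𝔭₂ := by
    rw [Ideal.comap_comap, hιalg]; exact hc₂
  haveI : Algebra.IsIntegral D ↥(integralClosure D (FractionRing D)) := inferInstance
  haveI : Algebra.IsIntegral E (E ⊗[D] ↥(integralClosure D (FractionRing D))) := inferInstance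
  obtain ⟨n₁, hn₁N, hn₁p, hn₁q⟩ := Ideal.exists_ideal_over_prime_of_isIntegral_of_isPrime q N₁
    (by rw [hN₁]; exact hle₁)
  obtain ⟨n₂, hn₂N, hn₂p, hn₂q⟩ := Ideal.exists_ideal_over_prime_of_isIntegral_of_isPrime q N₂
    (by rw [hN₂]; exact hle₂)
  set m' := IsLocalRing.maximalIdeal ↥(integralClosure D (FractionRing D)) with hm'def
  have hm' : ∀ n : Ideal (E ⊗[D] ↥(integralClosure D (FractionRing D))), n.IsPrime →
      n.comap (algebraMap E (E ⊗[D] ↥(integralClosure D (FractionRing D)))) = q →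
      m'.map (Algebra.TensorProduct.includeRight :
        ↥(integralClosure D (FractionRing D)) →ₐ[D]
          E ⊗[D] ↥(integralClosure D (FractionRing D))) ≤ n := by
    intro n hn hnq
    rw [Ideal.map_le_iff_le_comap]
    haveI hpr : (n.comap (Algebra.TensorProduct.includeRight :
        ↥(integralClosure D (FractionRing D)) →ₐ[D]
          E ⊗[D] ↥(integralClosure D (FractionRing D)))).IsPrime := Ideal.comap_isPrime _ _
    have hcomap : (n.comap (Algebra.TensorProduct.includeRight :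
        ↥(integralClosure D (FractionRing D)) →ₐ[D]
          E ⊗[D] ↥(integralClosure D (FractionRing D)))).comap
        (algebraMap D ↥(integralClosure D (FractionRing D))) = IsLocalRing.maximalIdeal D := by
      rw [← hq, ← hnq]
      ext d
      simp only [Ideal.mem_comap]
      rw [Algebra.TensorProduct.includeRight_apply, Algebra.TensorProduct.algebraMap_apply,
        Algebra.algebraMap_self, RingHom.id_apply, Algebra.algebraMap_eq_smul_one,
        Algebra.algebraMap_eq_smul_one (A := E), TensorProduct.tmul_smul, TensorProduct.smul_tmul']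
    have hmax : (n.comap (Algebra.TensorProduct.includeRight :
        ↥(integralClosure D (FractionRing D)) →ₐ[D]
          E ⊗[D] ↥(integralClosure D (FractionRing D)))).IsMaximal :=
      Ideal.isMaximal_of_isIntegral_of_isMaximal_comap _ (by
        rw [hcomap]; exact IsLocalRing.maximalIdeal.isMaximal D)
    exact (IsLocalRing.eq_maximalIdeal hmax).ge
  haveI : m'.IsMaximal := IsLocalRing.maximalIdeal.isMaximal _
  have hle12 := prime_le_of_comap_le (E := E) m'
    (ringExpChar (↥(integralClosure D (FractionRing D)) ⧸ m')) (hpi m') n₁ n₂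
    (hm' n₁ hn₁p hn₁q) (hm' n₂ hn₂p hn₂q) (by rw [hn₁q, hn₂q])
  have hle21 := prime_le_of_comap_le (E := E) m'
    (ringExpChar (↥(integralClosure D (FractionRing D)) ⧸ m')) (hpi m') n₂ n₁
    (hm' n₂ hn₂p hn₂q) (hm' n₁ hn₁p hn₁q) (by rw [hn₁q, hn₂q])
  have hn : n₁ = n₂ := le_antisymm hle12 hle21
  have hb₂ : b ∈ N₂ := by
    change ι b ∈ 𝔭₂.map (algebraMap E (E ⊗[D] FractionRing D))
    rw [hb]; exact he₂
  have hb₁ : 1 - b ∈ N₁ := by
    change ι (1 - b) ∈ 𝔭₁.map (algebraMap E (E ⊗[D] FractionRing D))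
    rw [map_sub, map_one, hb, ← hfe]; exact hf₁
  have h1 : (1 : E ⊗[D] ↥(integralClosure D (FractionRing D))) ∈ n₁ := by
    have hb₂' : b ∈ n₁ := by rw [hn]; exact hn₂N hb₂
    have := n₁.add_mem (hn₁N hb₁) hb₂'
    simpa using this
  exact hn₁p.ne_top ((Ideal.eq_top_iff_one _).mpr h1)

end LemmaX


section LemmaY

variable {A : Type u} [CommRing A] [IsLocalRing A]
variable {C : Type u} [CommRing C] [Algebra A C] [Algebra.Etale A C]

theorem minimalPrimes_unique_le_of_geomUnibranch (hA : CAlg2.IsGeomUnibranch A)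
    (q : Ideal C) [q.IsPrime] (hq : q.comap (algebraMap A C) = IsLocalRing.maximalIdeal A)
    (𝔭₁ 𝔭₂ : Ideal C) (h₁ : 𝔭₁ ∈ minimalPrimes C) (h₂ : 𝔭₂ ∈ minimalPrimes C)
    (hle₁ : 𝔭₁ ≤ q) (hle₂ : 𝔭₂ ≤ q) : 𝔭₁ = 𝔭₂ := by
  haveI : IsDomain (CAlg2.red A) := hA.1.1
  haveI : IsLocalRing (CAlg2.red A) :=
    IsLocalRing.of_surjective' (Ideal.Quotient.mk (nilradical A)) Ideal.Quotient.mk_surjective
  let π : C →+* (CAlg2.red A) ⊗[A] C :=
    (Algebra.TensorProduct.includeRight : C →ₐ[A] (CAlg2.red A) ⊗[A] C).toRingHom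
  have hπ : ∀ c, π c = (1 : CAlg2.red A) ⊗ₜ[A] c := fun c => rfl
  have hπe : ∀ c, π c = Algebra.TensorProduct.quotIdealMapEquivQuotTensor C (nilradical A)
      (Ideal.Quotient.mk _ c) := fun c => rfl
  have hsurj : Function.Surjective π := by
    intro e
    obtain ⟨y, rfl⟩ :=
      (Algebra.TensorProduct.quotIdealMapEquivQuotTensor C (nilradical A)).surjective e
    obtain ⟨c, rfl⟩ := Ideal.Quotient.mk_surjective y
    exact ⟨c, hπe c⟩
  have hker : RingHom.ker π ≤ nilradical C := by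
    intro c hc
    rw [RingHom.mem_ker, hπe, map_eq_zero_iff _
      (Algebra.TensorProduct.quotIdealMapEquivQuotTensor C (nilradical A)).injective,
      Ideal.Quotient.eq_zero_iff_mem] at hc
    revert c
    change Ideal.map (algebraMap A C) (nilradical A) ≤ nilradical C
    rw [Ideal.map_le_iff_le_comap]
    intro a ha
    exact (mem_nilradical.mp ha).map (algebraMap A C)
  have hkerle : ∀ 𝔭 : Ideal C, 𝔭.IsPrime → RingHom.ker π ≤ 𝔭 := fun 𝔭 h𝔭 =>
    hker.trans (nilradical_le_prime 𝔭)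
  have hcm : ∀ 𝔭 : Ideal C, 𝔭.IsPrime → (𝔭.map π).comap π = 𝔭 := by
    intro 𝔭 h𝔭
    rw [Ideal.comap_map_of_surjective π hsurj, ← RingHom.ker_eq_comap_bot]
    exact sup_eq_left.mpr (hkerle 𝔭 h𝔭)
  have hmin : ∀ 𝔭 : Ideal C, 𝔭 ∈ minimalPrimes C → 𝔭.map π ∈ minimalPrimes ((CAlg2.red A) ⊗[A] C) := by
    intro 𝔭 h𝔭
    have hpr : 𝔭.IsPrime := h𝔭.1.1
    refine ⟨⟨Ideal.map_isPrime_of_surjective hsurj (hkerle 𝔭 hpr), bot_le⟩, ?_⟩
    rintro P' ⟨hP', -⟩ hle
    have h1 : P'.comap π ≤ 𝔭 := by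
      rw [← hcm 𝔭 hpr]; exact Ideal.comap_mono hle
    have h2 : 𝔭 ≤ P'.comap π := h𝔭.2 ⟨Ideal.comap_isPrime π P', bot_le⟩ h1
    exact (Ideal.map_mono h2).trans Ideal.map_comap_le
  haveI hqpr : (q.map π).IsPrime := Ideal.map_isPrime_of_surjective hsurj (hkerle q inferInstance)
  have hq' : (q.map π).comap (algebraMap (CAlg2.red A) ((CAlg2.red A) ⊗[A] C)) =
      IsLocalRing.maximalIdeal (CAlg2.red A) := by
    have hprime : ((q.map π).comap (algebraMap (CAlg2.red A) ((CAlg2.red A) ⊗[A] C))).IsPrime :=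
      Ideal.comap_isPrime _ _
    apply le_antisymm (IsLocalRing.le_maximalIdeal hprime.ne_top)
    intro d hd
    obtain ⟨a, rfl⟩ := Ideal.Quotient.mk_surjective d
    have ha : a ∈ IsLocalRing.maximalIdeal A := by
      rw [IsLocalRing.mem_maximalIdeal, mem_nonunits_iff] at hd ⊢
      intro hu
      exact hd (hu.map (Ideal.Quotient.mk (nilradical A)))
    rw [← hq] at ha
    rw [Ideal.mem_comap]
    have : algebraMap (CAlg2.red A) ((CAlg2.red A) ⊗[A] C) (Ideal.Quotient.mk (nilradical A) a) =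
        π (algebraMap A C a) := by
      rw [hπ, Algebra.TensorProduct.algebraMap_apply, Algebra.algebraMap_self, RingHom.id_apply,
        Algebra.algebraMap_eq_smul_one (A := C), TensorProduct.tmul_smul,
        TensorProduct.smul_tmul', Algebra.smul_def, mul_one, Ideal.Quotient.algebraMap_eq]
    rw [this]
    exact Ideal.mem_map_of_mem π ha
  have hpi : ∀ (m' : Ideal ↥(integralClosure (CAlg2.red A) (FractionRing (CAlg2.red A))))
      [m'.IsMaximal]
      (x : ↥(integralClosure (CAlg2.red A) (FractionRing (CAlg2.red A))) ⧸ m'), ∃ n : ℕ,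
      x ^ (ringExpChar (↥(integralClosure (CAlg2.red A) (FractionRing (CAlg2.red A))) ⧸ m')) ^ n ∈
        ((Ideal.Quotient.mk m').comp
          (algebraMap (CAlg2.red A)
            ↥(integralClosure (CAlg2.red A) (FractionRing (CAlg2.red A))))).range := by
    intro m' hm' x
    obtain ⟨n, a, ha⟩ := hA.2 m' x
    exact ⟨n, Ideal.Quotient.mk (nilradical A) a, ha⟩
  have key := minimalPrimes_unique_le_of_domain (D := CAlg2.red A) (E := (CAlg2.red A) ⊗[A] C)
    hA.1.2 hpi (q.map π) hq' (𝔭₁.map π) (𝔭₂.map π) (hmin 𝔭₁ h₁) (hmin 𝔭₂ h₂)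
    (Ideal.map_mono hle₁) (Ideal.map_mono hle₂)
  rw [← hcm 𝔭₁ h₁.1.1, ← hcm 𝔭₂ h₂.1.1, key]

end LemmaY

section LemmaZ

variable {R : Type u} [CommRing R] (p : Ideal R) [p.IsPrime]
variable {A : Type u} [CommRing A] [Algebra R A] [IsLocalization.AtPrime A p] [IsLocalRing A]
variable {C₀ : Type u} [CommRing C₀] [Algebra R C₀] [Algebra.Etale R C₀]

attribute [local instance] Algebra.TensorProduct.rightAlgebra in
theorem minimalPrimes_unique_le_of_atPrime (hA : CAlg2.IsGeomUnibranch A)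
    (q₀ : Ideal C₀) [q₀.IsPrime] (hq : q₀.comap (algebraMap R C₀) = p)
    (𝔭₁ 𝔭₂ : Ideal C₀) (h₁ : 𝔭₁ ∈ minimalPrimes C₀) (h₂ : 𝔭₂ ∈ minimalPrimes C₀)
    (hle₁ : 𝔭₁ ≤ q₀) (hle₂ : 𝔭₂ ≤ q₀) : 𝔭₁ = 𝔭₂ := by
  classical
  haveI hloc : IsLocalization (Algebra.algebraMapSubmonoid C₀ p.primeCompl) (A ⊗[R] C₀) :=
    IsLocalization.tensorRight A p.primeCompl
  have hdisjq : Disjoint ((Algebra.algebraMapSubmonoid C₀ p.primeCompl : Submonoid C₀) : Set C₀)
      (q₀ : Set C₀) := by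
    rw [Set.disjoint_left]
    rintro _ ⟨r, hr, rfl⟩ hrq
    exact hr (by rw [← hq]; exact hrq)
  have hdisj : ∀ 𝔭 : Ideal C₀, 𝔭 ≤ q₀ →
      Disjoint ((Algebra.algebraMapSubmonoid C₀ p.primeCompl : Submonoid C₀) : Set C₀)
        (𝔭 : Set C₀) := fun 𝔭 h => Set.disjoint_of_subset_right h hdisjq
  have hpr₁ : 𝔭₁.IsPrime := h₁.1.1
  have hpr₂ : 𝔭₂.IsPrime := h₂.1.1
  have hc₁ := IsLocalization.under_map_of_isPrime_disjoint
    (Algebra.algebraMapSubmonoid C₀ p.primeCompl) (A ⊗[R] C₀) hpr₁ (hdisj 𝔭₁ hle₁)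
  have hc₂ := IsLocalization.under_map_of_isPrime_disjoint
    (Algebra.algebraMapSubmonoid C₀ p.primeCompl) (A ⊗[R] C₀) hpr₂ (hdisj 𝔭₂ hle₂)
  have hcq := IsLocalization.under_map_of_isPrime_disjoint
    (Algebra.algebraMapSubmonoid C₀ p.primeCompl) (A ⊗[R] C₀) (inferInstance : q₀.IsPrime)
    hdisjq
  haveI hQ : (q₀.map (algebraMap C₀ (A ⊗[R] C₀))).IsPrime :=
    IsLocalization.isPrime_of_isPrime_disjoint
      (Algebra.algebraMapSubmonoid C₀ p.primeCompl) (A ⊗[R] C₀) q₀ inferInstance hdisjq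
  have hmin : ∀ 𝔭 : Ideal C₀, 𝔭 ∈ minimalPrimes C₀ → 𝔭 ≤ q₀ →
      𝔭.map (algebraMap C₀ (A ⊗[R] C₀)) ∈ minimalPrimes (A ⊗[R] C₀) := by
    intro 𝔭 h𝔭 hle
    have h := IsLocalization.minimalPrimes_map
      (Algebra.algebraMapSubmonoid C₀ p.primeCompl) (A ⊗[R] C₀) (⊥ : Ideal C₀)
    rw [Ideal.map_bot] at h
    change _ ∈ (⊥ : Ideal (A ⊗[R] C₀)).minimalPrimes
    rw [h, Set.mem_preimage,
      IsLocalization.under_map_of_isPrime_disjoint
        (Algebra.algebraMapSubmonoid C₀ p.primeCompl) (A ⊗[R] C₀) h𝔭.1.1 (hdisj 𝔭 hle)]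
    exact h𝔭
  have hsq : ∀ r : R, algebraMap A (A ⊗[R] C₀) (algebraMap R A r) =
      algebraMap C₀ (A ⊗[R] C₀) (algebraMap R C₀ r) := by
    intro r
    rw [← IsScalarTower.algebraMap_apply, ← IsScalarTower.algebraMap_apply]
  have hQ' : (q₀.map (algebraMap C₀ (A ⊗[R] C₀))).comap (algebraMap A (A ⊗[R] C₀)) =
      IsLocalRing.maximalIdeal A := by
    have hcomap : ((q₀.map (algebraMap C₀ (A ⊗[R] C₀))).comap
        (algebraMap A (A ⊗[R] C₀))).comap (algebraMap R A) = p := by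
      ext r
      rw [Ideal.mem_comap, Ideal.mem_comap, hsq, ← Ideal.mem_comap]
      change algebraMap R C₀ r ∈ (q₀.map (algebraMap C₀ (A ⊗[R] C₀))).under C₀ ↔ _
      rw [hcq, ← hq, Ideal.mem_comap]
    rw [← IsLocalization.map_under p.primeCompl A
      ((q₀.map (algebraMap C₀ (A ⊗[R] C₀))).comap (algebraMap A (A ⊗[R] C₀))), Ideal.under,
      hcomap, IsLocalization.AtPrime.map_eq_maximalIdeal p A]
  have key := minimalPrimes_unique_le_of_geomUnibranch (A := A) (C := A ⊗[R] C₀) hA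
    (q₀.map (algebraMap C₀ (A ⊗[R] C₀))) hQ' (𝔭₁.map (algebraMap C₀ (A ⊗[R] C₀)))
    (𝔭₂.map (algebraMap C₀ (A ⊗[R] C₀))) (hmin 𝔭₁ h₁ hle₁) (hmin 𝔭₂ h₂ hle₂)
    (Ideal.map_mono hle₁) (Ideal.map_mono hle₂)
  rw [← hc₁, ← hc₂, key]

end LemmaZ

end Groth.Agent.Lib.helper2.UniBr
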