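import Mathlib
import Groth.Prelude.Def_TwC
import Groth.Prelude.Def_CAlg2
import Groth.Agent.Lib.Helper2.ConstFin3
import Groth.Agent.Lib.Helper2.UniBrAlg

/-! Étale twisted constant schemes over a locally Noetherian geometrically unibranch base:
connected components are open, irreducible and finite over the base (helper2). -/

set_option autoImplicit false

namespace Groth.Agent.Lib.helper2.UniBr

open CategoryTheory AlgebraicGeometry Limits TopologicalSpace
open Groth.Agent.Lib.helper2.ConstPts Groth.Agent.Lib.Helper4.FpqcCoverDescent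
open Groth.Agent.Lib.helper2.ConstFin

universe u

section Topology

/-- in a quasi-sober T0 space every point has a generization which is maximal for
generization -/
theorem exists_generic_specializes {α : Type*} [TopologicalSpace α] [QuasiSober α] [T0Space α]
    (c : α) : ∃ ξ : α, ξ ⤳ c ∧ ∀ y, y ⤳ ξ → y = ξ := by
  have hirr : IsIrreducible (irreducibleComponent c) := isIrreducible_irreducibleComponent
  have hcl : IsClosed (irreducibleComponent c) := isClosed_irreducibleComponent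
  obtain ⟨ξ, hξ⟩ := QuasiSober.sober hirr hcl
  refine ⟨ξ, ?_, ?_⟩
  · rw [specializes_iff_mem_closure, hξ.def]
    exact mem_irreducibleComponent
  · intro y hy
    have h1 : irreducibleComponent c ⊆ closure {y} := by
      rw [← hξ.def]
      exact closure_minimal (Set.singleton_subset_iff.mpr (specializes_iff_mem_closure.mp hy))
        isClosed_closure
    have h2 : closure {y} = irreducibleComponent c :=
      eq_irreducibleComponent (isIrreducible_singleton.closure).2 h1
    have h3 : IsGenericPoint y (irreducibleComponent c) := h2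
    exact h3.eq hξ

end Topology

section SchemeTop

variable {X : Scheme.{u}}

theorem isOpen_of_isClosed_of_stableUnderGeneralization [IsLocallyNoetherian X]
    {Z : Set X} (hc : IsClosed Z) (hg : StableUnderGeneralization Z) : IsOpen Z := by
  rw [isOpen_iff_forall_mem_open]
  intro c hcZ
  obtain ⟨_, ⟨(W : X.Opens), hW, rfl⟩, hcW, -⟩ :=
    X.isBasis_affineOpens.exists_subset_of_mem_open (Set.mem_univ c) isOpen_univ
  haveI : IsNoetherianRing Γ(X, W) := IsLocallyNoetherian.component_noetherian ⟨W, hW⟩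
  let Z' : Set (PrimeSpectrum Γ(X, W)) := hW.fromSpec.base ⁻¹' Z
  have hZ'c : IsClosed Z' := hc.preimage hW.fromSpec.continuous
  have hZ'g : StableUnderGeneralization Z' := hg.preimage hW.fromSpec.continuous
  have hZ'k : Topology.IsConstructible Z' := by
    have h1 : Topology.IsConstructible Z'ᶜ :=
      (TopologicalSpace.NoetherianSpace.isCompact Z'ᶜ).isConstructible hZ'c.isOpen_compl
    simpa using h1.compl
  have hZ'o : IsOpen Z' := PrimeSpectrum.isOpen_of_stableUnderGeneralization_of_isConstructible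
    hZ'g hZ'k
  refine ⟨hW.fromSpec.base '' Z', ?_, hW.fromSpec.isOpenEmbedding.isOpenMap _ hZ'o, ?_⟩
  · rintro _ ⟨y, hy, rfl⟩
    exact hy
  · refine ⟨hW.primeIdealOf ⟨c, hcW⟩, ?_, hW.fromSpec_primeIdealOf ⟨c, hcW⟩⟩
    change hW.fromSpec.base (hW.primeIdealOf ⟨c, hcW⟩) ∈ Z
    rw [show hW.fromSpec.base (hW.primeIdealOf ⟨c, hcW⟩) = c from
      hW.fromSpec_primeIdealOf ⟨c, hcW⟩]
    exact hcZ

/-- the "unique generic generization" property -/
def UniqueGeneric (X : Scheme.{u}) : Prop :=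
  ∀ c ξ₁ ξ₂ : X, ξ₁ ⤳ c → ξ₂ ⤳ c → (∀ y, y ⤳ ξ₁ → y = ξ₁) → (∀ y, y ⤳ ξ₂ → y = ξ₂) → ξ₁ = ξ₂

theorem connectedComponent_eq_closure [IsLocallyNoetherian X] (hU : UniqueGeneric X) (x : X) :
    ∃ ξ : X, ξ ⤳ x ∧ (∀ y, y ⤳ ξ → y = ξ) ∧ connectedComponent x = closure {ξ} ∧
      IsOpen (closure ({ξ} : Set X)) := by
  obtain ⟨ξ, hξx, hξ⟩ := exists_generic_specializes x
  have hgen : StableUnderGeneralization (closure ({ξ} : Set X)) := by
    intro c y hyc hc
    obtain ⟨ζ, hζy, hζ⟩ := exists_generic_specializes y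
    have h1 : ξ ⤳ c := specializes_iff_mem_closure.mpr hc
    have h2 : ζ = ξ := hU c ζ ξ (hζy.trans hyc) h1 hζ hξ
    rw [h2] at hζy
    exact specializes_iff_mem_closure.mp hζy
  have hopen : IsOpen (closure ({ξ} : Set X)) :=
    isOpen_of_isClosed_of_stableUnderGeneralization isClosed_closure hgen
  refine ⟨ξ, hξx, hξ, ?_, hopen⟩
  have hx : x ∈ closure ({ξ} : Set X) := specializes_iff_mem_closure.mp hξx
  apply Set.Subset.antisymm
  · exact IsClopen.connectedComponent_subset ⟨isClosed_closure, hopen⟩ hx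
  · exact (isPreconnected_singleton.closure).subset_connectedComponent hx

end SchemeTop


section LemmaG

theorem uniqueGeneric_of_etale {P S : Scheme.{u}} (f : P ⟶ S) [Etale f]
    (hS : ∀ s : S, CAlg2.IsGeomUnibranch (S.presheaf.stalk s)) : UniqueGeneric P := by
  intro c ξ₁ ξ₂ h₁ h₂ g₁ g₂
  obtain ⟨_, ⟨(V : S.Opens), hV, rfl⟩, hcV, -⟩ :=
    S.isBasis_affineOpens.exists_subset_of_mem_open (Set.mem_univ (f.base c)) isOpen_univ
  obtain ⟨_, ⟨(W : P.Opens), hW, rfl⟩, hcW, hWV⟩ :=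
    P.isBasis_affineOpens.exists_subset_of_mem_open (show c ∈ ((f ⁻¹ᵁ V : P.Opens) : Set P) from hcV)
      (f ⁻¹ᵁ V).isOpen
  have e : W ≤ f ⁻¹ᵁ V := hWV
  have hξ₁W : ξ₁ ∈ W := h₁.mem_open W.isOpen hcW
  have hξ₂W : ξ₂ ∈ W := h₂.mem_open W.isOpen hcW
  have het := f.etale_appLE hV hW e
  algebraize [(f.appLE V W e).hom]
  have het' : Algebra.Etale Γ(S, V) Γ(P, W) := het
  letI : Algebra Γ(S, V) (S.presheaf.stalk (f.base c)) :=
    TopCat.Presheaf.algebra_section_stalk S.presheaf ⟨f.base c, hcV⟩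
  haveI hloc : IsLocalization.AtPrime (S.presheaf.stalk (f.base c))
      (hV.primeIdealOf ⟨f.base c, hcV⟩).asIdeal := hV.isLocalization_stalk ⟨f.base c, hcV⟩
  -- the primes
  have hq : (hW.primeIdealOf ⟨c, hcW⟩).asIdeal.comap (algebraMap Γ(S, V) Γ(P, W)) =
      (hV.primeIdealOf ⟨f.base c, hcV⟩).asIdeal :=
    congrArg PrimeSpectrum.asIdeal (IsAffineOpen.comap_primeIdealOf_appLE V hV W hW e hcW)
  have hinj : Function.Injective hW.fromSpec.base := hW.fromSpec.isOpenEmbedding.injective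
  have hmin : ∀ (ξ : P) (hξ : ξ ∈ W), (∀ y, y ⤳ ξ → y = ξ) →
      (hW.primeIdealOf ⟨ξ, hξ⟩).asIdeal ∈ minimalPrimes Γ(P, W) := by
    intro ξ hξ g
    rw [← PrimeSpectrum.stableUnderGeneralization_singleton]
    intro a b hba ha
    rw [Set.mem_singleton_iff] at ha ⊢
    subst ha
    apply hinj
    have h1 : hW.fromSpec.base b ⤳ hW.fromSpec.base (hW.primeIdealOf ⟨ξ, hξ⟩) :=
      hba.map hW.fromSpec.continuous
    have h2 : hW.fromSpec.base (hW.primeIdealOf ⟨ξ, hξ⟩) = ξ := hW.fromSpec_primeIdealOf ⟨ξ, hξ⟩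
    rw [h2] at h1 ⊢
    exact g _ h1
  have hle : ∀ (ξ : P) (hξ : ξ ∈ W), ξ ⤳ c →
      (hW.primeIdealOf ⟨ξ, hξ⟩).asIdeal ≤ (hW.primeIdealOf ⟨c, hcW⟩).asIdeal := by
    intro ξ hξ h
    change hW.primeIdealOf ⟨ξ, hξ⟩ ≤ hW.primeIdealOf ⟨c, hcW⟩
    rw [PrimeSpectrum.le_iff_specializes]
    refine (hW.fromSpec.isOpenEmbedding.isInducing.specializes_iff).mp ?_
    have h2 : hW.fromSpec.base (hW.primeIdealOf ⟨ξ, hξ⟩) = ξ := hW.fromSpec_primeIdealOf ⟨ξ, hξ⟩
    have h3 : hW.fromSpec.base (hW.primeIdealOf ⟨c, hcW⟩) = c := hW.fromSpec_primeIdealOf ⟨c, hcW⟩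
    change hW.fromSpec.base (hW.primeIdealOf ⟨ξ, hξ⟩) ⤳ hW.fromSpec.base (hW.primeIdealOf ⟨c, hcW⟩)
    rw [h2, h3]
    exact h
  have key := minimalPrimes_unique_le_of_atPrime (R := Γ(S, V))
    (hV.primeIdealOf ⟨f.base c, hcV⟩).asIdeal (A := S.presheaf.stalk (f.base c))
    (C₀ := Γ(P, W)) (hS (f.base c)) (hW.primeIdealOf ⟨c, hcW⟩).asIdeal hq
    (hW.primeIdealOf ⟨ξ₁, hξ₁W⟩).asIdeal (hW.primeIdealOf ⟨ξ₂, hξ₂W⟩).asIdeal
    (hmin ξ₁ hξ₁W g₁) (hmin ξ₂ hξ₂W g₂) (hle ξ₁ hξ₁W h₁) (hle ξ₂ hξ₂W h₂)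
  have key' : hW.primeIdealOf ⟨ξ₁, hξ₁W⟩ = hW.primeIdealOf ⟨ξ₂, hξ₂W⟩ := PrimeSpectrum.ext key
  have := congrArg hW.fromSpec.base key'
  rw [show hW.fromSpec.base (hW.primeIdealOf ⟨ξ₁, hξ₁W⟩) = ξ₁ from
      hW.fromSpec_primeIdealOf ⟨ξ₁, hξ₁W⟩,
    show hW.fromSpec.base (hW.primeIdealOf ⟨ξ₂, hξ₂W⟩) = ξ₂ from
      hW.fromSpec_primeIdealOf ⟨ξ₂, hξ₂W⟩] at this
  exact this

end LemmaG


section Etale

theorem etale_const_hom (U : Scheme.{u}) (I : Type u) : Etale (TwC.const U I).hom := by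
  rw [IsZariskiLocalAtSource.iff_of_openCover (P := @Etale) (sigmaOpenCover (fun _ : I => U))]
  intro i
  have : (sigmaOpenCover (fun _ : I => U)).f i ≫ (TwC.const U I).hom = 𝟙 U := inc_hom i
  rw [this]
  exact MorphismProperty.id_mem _ _

theorem etale_of_isTwConst {S : Scheme.{u}} (P : Over S)
    (hP : TwC.IsTwConst TwC.Topology.etale P) : Etale P.hom := by
  choose S' g hg hx I φ using hP
  haveI := hg
  let 𝒰 : Scheme.Cover.{u} (Scheme.precoverage @Flat) S :=
    Scheme.Cover.mkOfCovers S S' g (fun x => ⟨x, hx x⟩) (fun x => inferInstance)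
  haveI : QuasiCompactCover 𝒰.toPreZeroHypercover :=
    QuasiCompactCover.of_isOpenMap (fun x => (g x).isOpenMap)
  apply of_fpqc_cover @Etale P.hom 𝒰
  intro x
  obtain ⟨e⟩ := φ x
  have h1 : e.hom.left ≫ (TwC.const (S' x) (I x)).hom = pullback.snd P.hom (g x) := Over.w e.hom
  change Etale (pullback.snd P.hom (g x))
  rw [← h1]
  haveI := etale_const_hom (S' x) (I x)
  infer_instance

end Etale

section Finite

theorem isFinite_of_clopen_of_preconnected {S : Scheme.{u}} [IsLocallyNoetherian S]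
    (P : Over S) (hP : TwC.IsTwConst TwC.Topology.etale P) {Z : Scheme.{u}}
    (z : Z ⟶ P.left) [IsOpenImmersion z] [IsClosedImmersion z] [PreconnectedSpace Z] (ξ : Z)
    (hξ : Set.Finite ((z ≫ P.hom).base ⁻¹' {(z ≫ P.hom).base ξ})) : IsFinite (z ≫ P.hom) := by
  classical
  set f := z ≫ P.hom with hf
  have hCL := exists_nhd_finite_or_infinite P hP z
  choose B hxB hB using hCL
  let F : Set S := {t | (f.base ⁻¹' {t}).Finite}
  have hfib : ∀ x, IsFinite (pullback.snd f (B x).ι) → ((B x : S.Opens) : Set S) ⊆ F := by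
    intro x hfin t ht
    haveI := hfin
    have h1 := (pullback.snd f (B x).ι).finite_preimage_singleton (⟨t, ht⟩ : (B x : S.Opens))
    refine (h1.image (pullback.fst f (B x).ι).base).subset ?_
    intro y hy
    obtain ⟨p, hp1, hp2⟩ := Scheme.Pullback.exists_preimage_pullback (f := f) (g := (B x).ι) y
      ⟨t, ht⟩ (by
        have : f.base y = t := hy
        rw [this]; rfl)
    exact ⟨p, hp2, hp1⟩
  have hA : ∀ x, x ∈ F → IsFinite (pullback.snd f (B x).ι) := by
    intro x hx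
    rcases hB x with h | h
    · exact h
    · exact absurd hx (h x (hxB x))
  have hopen : IsOpen F := by
    rw [isOpen_iff_forall_mem_open]
    intro x hx
    exact ⟨B x, hfib x (hA x hx), (B x).isOpen, hxB x⟩
  have hclosed : IsClosed F := by
    rw [← isOpen_compl_iff, isOpen_iff_forall_mem_open]
    intro x hx
    refine ⟨B x, ?_, (B x).isOpen, hxB x⟩
    intro t ht htF
    rcases hB x with h | h
    · exact hx (hfib x h (hxB x))
    · exact h t ht htF
  have hpre : f.base ⁻¹' F = Set.univ := by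
    haveI : Nonempty Z := ⟨ξ⟩
    exact IsClopen.eq_univ ⟨hclosed.preimage f.continuous, hopen.preimage f.continuous⟩ ⟨ξ, hξ⟩
  have hF : ∀ t, t ∈ F := by
    intro t
    by_cases ht : ∃ y, f.base y = t
    · obtain ⟨y, rfl⟩ := ht
      have : y ∈ f.base ⁻¹' F := by rw [hpre]; trivial
      exact this
    · have : f.base ⁻¹' {t} = ∅ := by
        ext y
        simp only [Set.mem_preimage, Set.mem_singleton_iff, Set.mem_empty_iff_false, iff_false]
        exact fun h => ht ⟨y, h⟩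
      change (f.base ⁻¹' {t}).Finite
      rw [this]
      exact Set.finite_empty
  have hall : ∀ x, IsFinite (pullback.snd f (B x).ι) := fun x => hA x (hF x)
  rw [IsZariskiLocalAtTarget.iff_of_openCover (P := @IsFinite)
    (S.openCoverOfIsOpenCover B (by
      apply top_unique
      intro x _
      rw [TopologicalSpace.Opens.mem_iSup]
      exact ⟨x, hxB x⟩))]
  intro x
  exact hall x

end Finite


section Main

theorem connectedComponent_isFinite {S : Scheme.{u}} [IsLocallyNoetherian S]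
    (hS : ∀ s : S, CAlg2.IsGeomUnibranch (S.presheaf.stalk s))
    (P : Over S) (hP : TwC.IsTwConst TwC.Topology.etale P) (x : P.left) :
    ∃ U : P.left.Opens, (U : Set P.left) = connectedComponent x ∧ IsFinite (U.ι ≫ P.hom) := by
  haveI : Etale P.hom := etale_of_isTwConst P hP
  haveI : IsLocallyNoetherian P.left := LocallyOfFiniteType.isLocallyNoetherian P.hom
  have hU : UniqueGeneric P.left := uniqueGeneric_of_etale P.hom hS
  obtain ⟨ξ, hξx, hξ, hcc, hopen⟩ := connectedComponent_eq_closure hU x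
  let U : P.left.Opens := ⟨closure {ξ}, hopen⟩
  refine ⟨U, hcc.symm, ?_⟩
  haveI : IsClosedImmersion U.ι := IsClosedImmersion.of_isPreimmersion _ (by
    rw [Scheme.Opens.range_ι]; exact isClosed_closure)
  haveI : PreconnectedSpace U :=
    isPreconnected_iff_preconnectedSpace.mp (isPreconnected_singleton.closure)
  have hξU : ξ ∈ U := subset_closure rfl
  apply isFinite_of_clopen_of_preconnected P hP U.ι ⟨ξ, hξU⟩
  haveI : LocallyQuasiFinite P.hom := locallyQuasiFinite_of_etale P.hom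
  have hdisc := P.hom.isDiscrete_preimage_singleton (P.hom.base ξ)
  rw [isDiscrete_iff_forall_mem_exists_isOpen] at hdisc
  apply Set.Finite.subset (Set.finite_singleton (⟨ξ, hξU⟩ : U))
  intro c hc
  rw [Set.mem_singleton_iff]
  apply Subtype.ext
  have hc1 : P.hom.base c.1 = P.hom.base ξ := hc
  have hc2 : ξ ⤳ c.1 := specializes_iff_mem_closure.mpr c.2
  obtain ⟨u, huo, hu⟩ := hdisc c.1 hc1
  have hcu : c.1 ∈ u := by
    have : c.1 ∈ u ∩ P.hom.base ⁻¹' {P.hom.base ξ} := by rw [hu]; rfl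
    exact this.1
  have hξu : ξ ∈ u := hc2.mem_open huo hcu
  have : ξ ∈ u ∩ P.hom.base ⁻¹' {P.hom.base ξ} := ⟨hξu, rfl⟩
  rw [hu] at this
  exact this.symm

end Main

end Groth.Agent.Lib.helper2.UniBr
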