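import Mathlib
import Groth.Prelude.Def_TwC
import Groth.Prelude.Def_CAlg2
import Groth.Agent.Lib.Helper2.ConstFin5
import Groth.Agent.Lib.Helper2.UniBrSch
import Groth.Agent.Lib.Helper9.UnramGURedGeom

/-! Twisted constant schemes over an irreducible geometrically unibranch base: structure theorem (helper2). -/

set_option autoImplicit false

namespace Groth.Agent.Lib.helper2.UniBrIrr

open CategoryTheory AlgebraicGeometry Limits TopologicalSpace
open Groth.Agent.Lib.helper2.ConstPts Groth.Agent.Lib.Helper4.FpqcCoverDescent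
open Groth.Agent.Lib.helper2.ConstFin Groth.Agent.Lib.helper2.UniBr

universe u

section Structure

variable {X Y : Scheme.{u}} (f : X ⟶ Y) [Etale f] [IrreducibleSpace Y]

theorem closure_eq_of_mem_irreducibleComponents
    (hY : ∀ y : Y, CAlg2.IsGeomUnibranch (Y.presheaf.stalk y))
    (Z : Set X) (hZ : Z ∈ irreducibleComponents X) (l : X) (hlZ : l ∈ Z)
    (hl : f.base l = genericPoint Y) : closure {l} = Z := by
  have hmain := Groth.Agent.Lib.helper9.UnramGeom.irreducibleComponents_of_etale f hY
  obtain ⟨-, l', -, huniq⟩ := hmain.2 Z hZ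
  obtain ⟨g, hg⟩ := QuasiSober.sober hZ.1 (isClosed_of_mem_irreducibleComponents Z hZ)
  have hgZ : g ∈ Z := by rw [← hg.def]; exact subset_closure rfl
  have hgl : g ⤳ l := by rw [specializes_iff_mem_closure, hg.def]; exact hlZ
  have hfg : f.base g = genericPoint Y := by
    have h1 : f.base g ⤳ genericPoint Y := by rw [← hl]; exact hgl.map f.continuous
    exact (h1.antisymm (genericPoint_specializes _)).eq
  have h1 : g = l' := huniq g ⟨hgZ, hfg⟩
  have h2 : l = l' := huniq l ⟨hlZ, hl⟩
  rw [h2, ← h1]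
  exact hg.def

theorem closure_mem_irreducibleComponents
    (hY : ∀ y : Y, CAlg2.IsGeomUnibranch (Y.presheaf.stalk y))
    (l : X) (hl : f.base l = genericPoint Y) :
    closure {l} ∈ irreducibleComponents X ∧ IsOpen (closure ({l} : Set X)) := by
  have hmain := Groth.Agent.Lib.helper9.UnramGeom.irreducibleComponents_of_etale f hY
  have hZ := irreducibleComponent_mem_irreducibleComponents l
  have h1 := closure_eq_of_mem_irreducibleComponents f hY _ hZ l mem_irreducibleComponent hl
  rw [h1]
  exact ⟨hZ, (hmain.2 _ hZ).1⟩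

theorem eq_of_mem_closure (hY : ∀ y : Y, CAlg2.IsGeomUnibranch (Y.presheaf.stalk y))
    (l : X) (hl : f.base l = genericPoint Y) (c : X) (hc : c ∈ closure ({l} : Set X))
    (hfc : f.base c = genericPoint Y) : c = l := by
  have hmain := Groth.Agent.Lib.helper9.UnramGeom.irreducibleComponents_of_etale f hY
  have hZ := (closure_mem_irreducibleComponents f hY l hl).1
  obtain ⟨-, l', -, huniq⟩ := hmain.2 _ hZ
  rw [huniq c ⟨hc, hfc⟩, huniq l ⟨subset_closure rfl, hl⟩]

theorem existsUnique_generic (hY : ∀ y : Y, CAlg2.IsGeomUnibranch (Y.presheaf.stalk y))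
    (x : X) : ∃! l : X, f.base l = genericPoint Y ∧ x ∈ closure ({l} : Set X) := by
  have hmain := Groth.Agent.Lib.helper9.UnramGeom.irreducibleComponents_of_etale f hY
  obtain ⟨Z, ⟨hZ, hxZ⟩, hZuniq⟩ := hmain.1 x
  obtain ⟨-, l, ⟨hlZ, hl⟩, -⟩ := hmain.2 Z hZ
  have hcl := closure_eq_of_mem_irreducibleComponents f hY Z hZ l hlZ hl
  refine ⟨l, ⟨hl, by rw [hcl]; exact hxZ⟩, ?_⟩
  rintro l' ⟨hl', hxl'⟩
  have h1 := closure_mem_irreducibleComponents f hY l' hl'
  have h2 : closure ({l'} : Set X) = Z := hZuniq _ ⟨h1.1, hxl'⟩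
  have h3 : l' ∈ closure ({l} : Set X) := by rw [hcl, ← h2]; exact subset_closure rfl
  exact eq_of_mem_closure f hY l hl l' h3 hl'

theorem exists_open_preconnected (hY : ∀ y : Y, CAlg2.IsGeomUnibranch (Y.presheaf.stalk y))
    (x : X) : ∃ V : X.Opens, x ∈ V ∧ _root_.IsPreconnected (V : Set X) ∧
      ∃ v ∈ V, f.base v = genericPoint Y := by
  have hmain := Groth.Agent.Lib.helper9.UnramGeom.irreducibleComponents_of_etale f hY
  have hZ := irreducibleComponent_mem_irreducibleComponents x
  obtain ⟨hopen, l, ⟨hlZ, hl⟩, -⟩ := hmain.2 _ hZ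
  exact ⟨⟨irreducibleComponent x, hopen⟩, mem_irreducibleComponent,
    (isIrreducible_irreducibleComponent (x := x)).2.isPreconnected, l, hlZ, hl⟩

end Structure

section Part2

variable {S : Scheme.{u}} [IrreducibleSpace S]

theorem isFinite_closure (hS : ∀ s : S, CAlg2.IsGeomUnibranch (S.presheaf.stalk s))
    (X : Over S) (hX : TwC.IsTwConst TwC.Topology.etale X) (l : X.left)
    (hl : X.hom.base l = genericPoint S) (U : X.left.Opens)
    (hU : (U : Set X.left) = closure {l}) : IsFinite (U.ι ≫ X.hom) := by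
  haveI : Etale X.hom := etale_of_isTwConst X hX
  haveI : IsClosedImmersion U.ι := IsClosedImmersion.of_isPreimmersion _ (by
    rw [Scheme.Opens.range_ι, hU]; exact isClosed_closure)
  have hlU : l ∈ U := by
    change l ∈ (U : Set X.left)
    rw [hU]; exact subset_closure rfl
  have hfib : ((U.ι ≫ X.hom).base ⁻¹' {genericPoint S}).Finite := by
    apply Set.Finite.subset (Set.finite_singleton (⟨l, hlU⟩ : U))
    intro c hc
    rw [Set.mem_singleton_iff]
    apply Subtype.ext
    have hc1 : X.hom.base c.1 = genericPoint S := hc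
    have hc2 : c.1 ∈ closure ({l} : Set X.left) := by rw [← hU]; exact c.2
    exact eq_of_mem_closure X.hom hS l hl c.1 hc2 hc1
  have hloc : ∀ s : S, ∃ B : S.Opens, s ∈ B ∧ IsFinite (pullback.snd (U.ι ≫ X.hom) B.ι) := by
    intro s
    obtain ⟨S', g, hg, ⟨x', rfl⟩, I, ⟨φ⟩⟩ := hX s
    haveI := hg
    obtain ⟨V, hx'V, hVpre, v, hvV, hv⟩ := exists_open_preconnected g hS x'
    exact exists_nhd_finite_of_preconnected X U.ι g I φ V hVpre x' hx'V v hvV (by
      rw [hv]; exact hfib)
  choose B hsB hB using hloc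
  rw [IsZariskiLocalAtTarget.iff_of_openCover (P := @IsFinite)
    (S.openCoverOfIsOpenCover B (by
      apply top_unique
      intro x _
      rw [TopologicalSpace.Opens.mem_iSup]
      exact ⟨x, hsB x⟩))]
  intro x
  exact hB x

theorem surjective_of_isFinite_of_generic {U : Scheme.{u}} (p : U ⟶ S) [IsFinite p] (l : U)
    (hl : p.base l = genericPoint S) : Surjective p := by
  constructor
  intro s
  have hclosed : IsClosed (Set.range p.base) := p.isClosedMap.isClosed_range
  have h1 : genericPoint S ∈ Set.range p.base := ⟨l, hl⟩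
  have h2 : closure ({genericPoint S} : Set S) ⊆ Set.range p.base :=
    closure_minimal (Set.singleton_subset_iff.mpr h1) hclosed
  rw [(genericPoint_spec S).def] at h2
  exact h2 (Set.mem_univ s)

end Part2

section Part3

theorem isIso_of_section {U S : Scheme.{u}} (p : U ⟶ S) [Etale p] [IsSeparated p]
    [PreconnectedSpace U] [Nonempty S] (τ : S ⟶ U) (hτ : τ ≫ p = 𝟙 S) : IsIso τ := by
  haveI : Etale (τ ≫ p) := by rw [hτ]; exact MorphismProperty.id_mem _ _
  haveI : Etale τ := Etale.of_comp τ p
  haveI : Mono τ := mono_of_mono_fac hτ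
  haveI : IsOpenImmersion τ := IsOpenImmersion.of_flat_of_mono τ
  haveI : IsClosedImmersion τ :=
    MorphismProperty.of_postcomp (W := @IsClosedImmersion) (W' := @IsSeparated) τ p inferInstance
      (by rw [hτ]; infer_instance)
  rw [isIso_iff_isOpenImmersion_and_surjective]
  refine ⟨inferInstance, ⟨?_⟩⟩
  have h : Set.range τ.base = Set.univ :=
    IsClopen.eq_univ ⟨τ.isClosedEmbedding.isClosed_range, τ.isOpenEmbedding.isOpen_range⟩
      (Set.range_nonempty _)
  intro u
  have : u ∈ Set.range τ.base := by rw [h]; trivial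
  exact this

variable {S : Scheme.{u}} [IrreducibleSpace S]

theorem section_unique (hS : ∀ s : S, CAlg2.IsGeomUnibranch (S.presheaf.stalk s))
    (X : Over S) (hX : TwC.IsTwConst TwC.Topology.etale X) (σ₁ σ₂ : S ⟶ X.left)
    (h₁ : σ₁ ≫ X.hom = 𝟙 S) (h₂ : σ₂ ≫ X.hom = 𝟙 S)
    (h : σ₁.base (genericPoint S) = σ₂.base (genericPoint S)) : σ₁ = σ₂ := by
  haveI : Etale X.hom := etale_of_isTwConst X hX
  set l := σ₁.base (genericPoint S) with hldef
  have hl : X.hom.base l = genericPoint S := by
    rw [hldef, ← Scheme.Hom.comp_apply, h₁]; rfl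
  obtain ⟨-, hopen⟩ := closure_mem_irreducibleComponents X.hom hS l hl
  let U : X.left.Opens := ⟨closure {l}, hopen⟩
  haveI : IsFinite (U.ι ≫ X.hom) := isFinite_closure hS X hX l hl U rfl
  haveI : PreconnectedSpace U :=
    isPreconnected_iff_preconnectedSpace.mp (isPreconnected_singleton.closure)
  have hrange : ∀ σ : S ⟶ X.left, σ.base (genericPoint S) = l →
      Set.range σ.base ⊆ Set.range U.ι.base := by
    intro σ hσ
    rw [Scheme.Opens.range_ι]
    have hclopen : IsClopen (σ.base ⁻¹' (closure ({l} : Set X.left))) :=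
      ⟨isClosed_closure.preimage σ.continuous, hopen.preimage σ.continuous⟩
    have huniv := IsClopen.eq_univ hclopen ⟨genericPoint S, by
      change σ.base (genericPoint S) ∈ closure ({l} : Set X.left)
      rw [hσ]; exact subset_closure rfl⟩
    rintro _ ⟨s, rfl⟩
    have : s ∈ σ.base ⁻¹' (closure ({l} : Set X.left)) := by rw [huniv]; trivial
    exact this
  let τ₁ : S ⟶ (U : Scheme.{u}) := IsOpenImmersion.lift U.ι σ₁ (hrange σ₁ rfl)
  let τ₂ : S ⟶ (U : Scheme.{u}) := IsOpenImmersion.lift U.ι σ₂ (hrange σ₂ h.symm)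
  have hτ₁ : τ₁ ≫ U.ι = σ₁ := IsOpenImmersion.lift_fac _ _ _
  have hτ₂ : τ₂ ≫ U.ι = σ₂ := IsOpenImmersion.lift_fac _ _ _
  have hp₁ : τ₁ ≫ (U.ι ≫ X.hom) = 𝟙 S := by rw [← Category.assoc, hτ₁, h₁]
  have hp₂ : τ₂ ≫ (U.ι ≫ X.hom) = 𝟙 S := by rw [← Category.assoc, hτ₂, h₂]
  haveI : IsIso τ₂ := isIso_of_section (U.ι ≫ X.hom) τ₂ hp₂
  have hp₂' : (U.ι ≫ X.hom) ≫ τ₂ = 𝟙 _ := by
    rw [← cancel_epi τ₂, ← Category.assoc, hp₂, Category.id_comp, Category.comp_id]
  have : τ₁ = τ₂ := by
    calc τ₁ = τ₁ ≫ ((U.ι ≫ X.hom) ≫ τ₂) := by rw [hp₂', Category.comp_id]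
      _ = (τ₁ ≫ (U.ι ≫ X.hom)) ≫ τ₂ := by simp only [Category.assoc]
      _ = τ₂ := by rw [hp₁, Category.id_comp]
  rw [← hτ₁, ← hτ₂, this]

end Part3

section Part4

/-- an étale separated morphism to an irreducible scheme whose generic fibre is a single point
with a rational section is a monomorphism -/
theorem mono_of_generic_section {U S : Scheme.{u}} [IrreducibleSpace S] (p : U ⟶ S) [Etale p]
    [IsSeparated p] (hfib : ∀ c c' : U, p.base c = genericPoint S → p.base c' = genericPoint S →
      c = c')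
    (τ : Spec (S.residueField (genericPoint S)) ⟶ U)
    (hτ : τ ≫ p = S.fromSpecResidueField (genericPoint S)) : Mono p := by
  set ι := S.fromSpecResidueField (genericPoint S) with hι
  -- the generic fibre
  have hsub : Subsingleton ↥(pullback p ι) := by
    refine ⟨fun a b => ?_⟩
    apply (pullback.fst p ι).injective
    apply hfib
    · rw [← Scheme.Hom.comp_apply, pullback.condition, Scheme.Hom.comp_apply]
      exact S.fromSpecResidueField_apply _ _
    · rw [← Scheme.Hom.comp_apply, pullback.condition, Scheme.Hom.comp_apply]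
      exact S.fromSpecResidueField_apply _ _
  haveI : PreconnectedSpace ↥(pullback p ι) := inferInstance
  let s : Spec (S.residueField (genericPoint S)) ⟶ pullback p ι :=
    pullback.lift τ (𝟙 _) (by rw [hτ, Category.id_comp])
  have hs : s ≫ pullback.snd p ι = 𝟙 _ := pullback.lift_snd _ _ _
  haveI : IsIso s := isIso_of_section (pullback.snd p ι) s hs
  haveI : IsIso (pullback.snd p ι) := by
    have : pullback.snd p ι = inv s := by
      rw [← cancel_epi s, hs, IsIso.hom_inv_id]
    rw [this]; infer_instance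
  -- points over the generic point lie on the diagonal
  have hgen : ∀ z : ↥(pullback p p), (pullback.fst p p ≫ p).base z = genericPoint S →
      z ∈ Set.range (pullback.diagonal p).base := by
    intro z hz
    set q := pullback.fst p p ≫ p with hq
    obtain ⟨w, hw1, -⟩ := Scheme.Pullback.exists_preimage_pullback (f := q) (g := ι) z
      (IsLocalRing.closedPoint _) (by
        rw [hz]; exact (S.fromSpecResidueField_apply _ _).symm)
    let m₁ : pullback q ι ⟶ pullback p ι :=
      pullback.lift (pullback.fst q ι ≫ pullback.fst p p) (pullback.snd q ι) (by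
        rw [Category.assoc, ← hq, pullback.condition])
    let m₂ : pullback q ι ⟶ pullback p ι :=
      pullback.lift (pullback.fst q ι ≫ pullback.snd p p) (pullback.snd q ι) (by
        rw [Category.assoc, ← pullback.condition (f := p) (g := p), ← hq, pullback.condition])
    have hm : m₁ = m₂ := by
      rw [← cancel_mono (pullback.snd p ι)]
      rw [pullback.lift_snd, pullback.lift_snd]
    have hab : pullback.fst q ι ≫ pullback.fst p p = pullback.fst q ι ≫ pullback.snd p p := by
      have h1 : m₁ ≫ pullback.fst p ι = pullback.fst q ι ≫ pullback.fst p p :=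
        pullback.lift_fst _ _ _
      have h2 : m₂ ≫ pullback.fst p ι = pullback.fst q ι ≫ pullback.snd p p :=
        pullback.lift_fst _ _ _
      rw [← h1, ← h2, hm]
    have hfac : pullback.fst q ι = (pullback.fst q ι ≫ pullback.fst p p) ≫ pullback.diagonal p := by
      apply pullback.hom_ext
      · rw [Category.assoc, pullback.diagonal_fst, Category.comp_id]
      · rw [Category.assoc, pullback.diagonal_snd, Category.comp_id, hab]
    refine ⟨(pullback.fst q ι ≫ pullback.fst p p).base w, ?_⟩
    rw [← Scheme.Hom.comp_apply, ← hfac, hw1]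
  -- the diagonal is surjective
  haveI : IsOpenImmersion (pullback.diagonal p) := inferInstance
  haveI : IsClosedImmersion (pullback.diagonal p) := inferInstance
  have hsurj : Surjective (pullback.diagonal p) := by
    constructor
    intro z
    by_contra hz
    have hopen : IsOpen (Set.range (pullback.diagonal p).base)ᶜ :=
      (pullback.diagonal p).isClosedEmbedding.isClosed_range.isOpen_compl
    have hflat : GeneralizingMap (pullback.fst p p ≫ p).base := Flat.generalizingMap _
    obtain ⟨z', hz'z, hz'⟩ := hflat (genericPoint_specializes ((pullback.fst p p ≫ p).base z))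
    have hz'R : z' ∈ (Set.range (pullback.diagonal p).base)ᶜ := hz'z.mem_open hopen hz
    exact hz'R (hgen z' hz')
  haveI : IsIso (pullback.diagonal p) :=
    (isIso_iff_isOpenImmersion_and_surjective _).mpr ⟨inferInstance, hsurj⟩
  exact (pullback.isIso_diagonal_iff p).mp inferInstance

variable {S : Scheme.{u}} [IrreducibleSpace S]

theorem exists_section (hS : ∀ s : S, CAlg2.IsGeomUnibranch (S.presheaf.stalk s))
    (X : Over S) (hX : TwC.IsTwConst TwC.Topology.etale X)
    (τ : Spec (S.residueField (genericPoint S)) ⟶ X.left)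
    (hτ : τ ≫ X.hom = S.fromSpecResidueField (genericPoint S)) :
    ∃ σ : S ⟶ X.left, σ ≫ X.hom = 𝟙 S ∧ S.fromSpecResidueField (genericPoint S) ≫ σ = τ := by
  haveI : Etale X.hom := etale_of_isTwConst X hX
  set pt : Spec (S.residueField (genericPoint S)) := IsLocalRing.closedPoint _ with hpt
  set l := τ.base pt with hldef
  have hl : X.hom.base l = genericPoint S := by
    rw [hldef, ← Scheme.Hom.comp_apply, hτ]
    exact S.fromSpecResidueField_apply _ _
  obtain ⟨-, hopen⟩ := closure_mem_irreducibleComponents X.hom hS l hl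
  let U : X.left.Opens := ⟨closure {l}, hopen⟩
  haveI : IsFinite (U.ι ≫ X.hom) := isFinite_closure hS X hX l hl U rfl
  have hrange : Set.range τ.base ⊆ Set.range U.ι.base := by
    rw [Scheme.Opens.range_ι]
    rintro _ ⟨a, rfl⟩
    have : a = pt := Subsingleton.elim _ _
    rw [this]
    exact subset_closure rfl
  let τ' : Spec (S.residueField (genericPoint S)) ⟶ (U : Scheme.{u}) :=
    IsOpenImmersion.lift U.ι τ hrange
  have hτ' : τ' ≫ U.ι = τ := IsOpenImmersion.lift_fac _ _ _
  have hτ'p : τ' ≫ (U.ι ≫ X.hom) = S.fromSpecResidueField (genericPoint S) := by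
    rw [← Category.assoc, hτ', hτ]
  have hfib : ∀ c c' : U, (U.ι ≫ X.hom).base c = genericPoint S →
      (U.ι ≫ X.hom).base c' = genericPoint S → c = c' := by
    intro c c' hc hc'
    apply Subtype.ext
    rw [eq_of_mem_closure X.hom hS l hl c.1 c.2 hc, eq_of_mem_closure X.hom hS l hl c'.1 c'.2 hc']
  haveI : Mono (U.ι ≫ X.hom) := mono_of_generic_section (U.ι ≫ X.hom) hfib τ' hτ'p
  haveI : IsOpenImmersion (U.ι ≫ X.hom) := IsOpenImmersion.of_flat_of_mono _
  haveI : Surjective (U.ι ≫ X.hom) :=
    surjective_of_isFinite_of_generic (U.ι ≫ X.hom) (τ'.base pt) (by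
      rw [← Scheme.Hom.comp_apply, hτ'p]
      exact S.fromSpecResidueField_apply _ _)
  haveI : IsIso (U.ι ≫ X.hom) :=
    (isIso_iff_isOpenImmersion_and_surjective _).mpr ⟨inferInstance, inferInstance⟩
  refine ⟨inv (U.ι ≫ X.hom) ≫ U.ι, ?_, ?_⟩
  · rw [Category.assoc, IsIso.inv_hom_id]
  · rw [← hτ', ← Category.assoc]
    congr 1
    rw [← hτ'p, Category.assoc, IsIso.hom_inv_id, Category.comp_id]

end Part4

section Main

variable {S : Scheme.{u}} [IrreducibleSpace S]

theorem structure_of_irreducible_geomUnibranch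
    (hS : ∀ s : S, CAlg2.IsGeomUnibranch (S.presheaf.stalk s))
    (X : Over S) (hX : TwC.IsTwConst TwC.Topology.etale X) :
    (∀ x : X.left, ∃! l : X.left, X.hom.base l = genericPoint S ∧
      x ∈ closure ({l} : Set X.left)) ∧
    (∀ l : X.left, X.hom.base l = genericPoint S →
      ∃ U : X.left.Opens, (U : Set X.left) = closure ({l} : Set X.left) ∧
        IsClosed (U : Set X.left) ∧
        IsFinite (U.ι ≫ X.hom) ∧ Etale (U.ι ≫ X.hom) ∧ Surjective (U.ι ≫ X.hom)) ∧
    (∀ σ₁ σ₂ : S ⟶ X.left, σ₁ ≫ X.hom = 𝟙 S → σ₂ ≫ X.hom = 𝟙 S →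
      S.fromSpecResidueField (genericPoint S) ≫ σ₁ =
        S.fromSpecResidueField (genericPoint S) ≫ σ₂ → σ₁ = σ₂) ∧
    (∀ τ : Spec (S.residueField (genericPoint S)) ⟶ X.left,
      τ ≫ X.hom = S.fromSpecResidueField (genericPoint S) →
      ∃ σ : S ⟶ X.left, σ ≫ X.hom = 𝟙 S ∧
        S.fromSpecResidueField (genericPoint S) ≫ σ = τ) := by
  haveI : Etale X.hom := etale_of_isTwConst X hX
  refine ⟨fun x => existsUnique_generic X.hom hS x, ?_, ?_, fun τ hτ => exists_section hS X hX τ hτ⟩
  · intro l hl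
    obtain ⟨-, hopen⟩ := closure_mem_irreducibleComponents X.hom hS l hl
    let U : X.left.Opens := ⟨closure {l}, hopen⟩
    haveI hfin : IsFinite (U.ι ≫ X.hom) := isFinite_closure hS X hX l hl U rfl
    refine ⟨U, rfl, isClosed_closure, hfin, inferInstance, ?_⟩
    exact surjective_of_isFinite_of_generic (U.ι ≫ X.hom) (⟨l, subset_closure rfl⟩ : U) hl
  · intro σ₁ σ₂ h₁ h₂ h
    apply section_unique hS X hX σ₁ σ₂ h₁ h₂
    have h' := congrArg (fun φ : Spec (S.residueField (genericPoint S)) ⟶ X.left =>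
      φ.base (IsLocalRing.closedPoint _)) h
    simp only [Scheme.Hom.comp_apply] at h'
    rw [S.fromSpecResidueField_apply] at h'
    exact h'

end Main

end Groth.Agent.Lib.helper2.UniBrIrr
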