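import Mathlib
import Groth.Prelude.Def_TwC
import Groth.Prelude.Def_CAlg2
import Groth.Agent.Lib.Helper2.UniBrIrr
import Groth.Agent.Lib.Helper4.AffineDescent
import Groth.Agent.S9812

set_option autoImplicit false

namespace Groth.Agent.Lib.helper2.TwVal

open CategoryTheory AlgebraicGeometry Limits TopologicalSpace
open Groth.Agent.Lib.helper2.ConstPts Groth.Agent.Lib.Helper4.FpqcCoverDescent
open Groth.Agent.Lib.helper2.ConstFin Groth.Agent.Lib.helper2.UniBr
open Groth.Agent.Lib.helper2.UniBrIrr

universe u

section Separated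

theorem isSeparated_const_hom (U : Scheme.{u}) (I : Type u) :
    IsSeparated (TwC.const U I).hom := by
  haveI : Etale (TwC.const U I).hom := etale_const_hom U I
  set h := (TwC.const U I).hom with hh
  haveI : IsOpenImmersion (pullback.diagonal h) := inferInstance
  have hex : ∀ p : (TwC.const U I).left, ∃ i : I, p ∈ Set.range (inc U I i).base := by
    intro p
    obtain ⟨m, y, hy⟩ := (sigmaOpenCover (fun _ : I => U)).exists_eq p
    exact ⟨m, y, hy⟩
  have hclosed : IsClosed (Set.range (pullback.diagonal h).base) := by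
    rw [← isOpen_compl_iff, isOpen_iff_forall_mem_open]
    intro z hz
    obtain ⟨i, hi⟩ := hex ((pullback.fst h h).base z)
    obtain ⟨j, hj⟩ := hex ((pullback.snd h h).base z)
    let W : (pullback h h).Opens :=
      (pullback.fst h h) ⁻¹ᵁ (inc U I i).opensRange ⊓ (pullback.snd h h) ⁻¹ᵁ (inc U I j).opensRange
    have hzW : z ∈ W := ⟨hi, hj⟩
    refine ⟨W, ?_, W.isOpen, hzW⟩
    by_cases hij : i = j
    · subst hij
      exfalso
      apply hz
      set a := W.ι ≫ pullback.fst h h with ha
      set b := W.ι ≫ pullback.snd h h with hb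
      have hra : Set.range a.base ⊆ Set.range (inc U I i).base := by
        rintro _ ⟨w, rfl⟩
        exact w.2.1
      have hrb : Set.range b.base ⊆ Set.range (inc U I i).base := by
        rintro _ ⟨w, rfl⟩
        exact w.2.2
      have hinc : inc U I i ≫ h = 𝟙 U := inc_hom i
      have ha' : IsOpenImmersion.lift (inc U I i) a hra = a ≫ h := by
        have hfac := IsOpenImmersion.lift_fac (inc U I i) a hra
        calc IsOpenImmersion.lift (inc U I i) a hra
            = IsOpenImmersion.lift (inc U I i) a hra ≫ (inc U I i ≫ h) := by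
              rw [hinc, Category.comp_id]
          _ = (IsOpenImmersion.lift (inc U I i) a hra ≫ inc U I i) ≫ h := by
              rw [Category.assoc]
          _ = a ≫ h := by rw [hfac]
      have hb' : IsOpenImmersion.lift (inc U I i) b hrb = b ≫ h := by
        have hfac := IsOpenImmersion.lift_fac (inc U I i) b hrb
        calc IsOpenImmersion.lift (inc U I i) b hrb
            = IsOpenImmersion.lift (inc U I i) b hrb ≫ (inc U I i ≫ h) := by
              rw [hinc, Category.comp_id]
          _ = (IsOpenImmersion.lift (inc U I i) b hrb ≫ inc U I i) ≫ h := by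
              rw [Category.assoc]
          _ = b ≫ h := by rw [hfac]
      have hcond : a ≫ h = b ≫ h := by
        rw [ha, hb, Category.assoc, Category.assoc, pullback.condition]
      have hab : a = b := by
        rw [← IsOpenImmersion.lift_fac (inc U I i) a hra,
          ← IsOpenImmersion.lift_fac (inc U I i) b hrb, ha', hb', hcond]
      have hfac : W.ι = a ≫ pullback.diagonal h := by
        apply pullback.hom_ext
        · rw [Category.assoc, pullback.diagonal_fst, Category.comp_id]
        · rw [Category.assoc, pullback.diagonal_snd, Category.comp_id, hab]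
      refine ⟨a.base ⟨z, hzW⟩, ?_⟩
      rw [← Scheme.Hom.comp_apply, ← hfac]
      rfl
    · intro y hy hyΔ
      obtain ⟨c, rfl⟩ := hyΔ
      have h1 : c ∈ Set.range (inc U I i).base := by
        have h1' : (pullback.fst h h).base ((pullback.diagonal h).base c) ∈
            Set.range (inc U I i).base := hy.1
        rwa [← Scheme.Hom.comp_apply, pullback.diagonal_fst] at h1'
      have h2 : c ∈ Set.range (inc U I j).base := by
        have h2' : (pullback.snd h h).base ((pullback.diagonal h).base c) ∈
            Set.range (inc U I j).base := hy.2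
        rwa [← Scheme.Hom.comp_apply, pullback.diagonal_snd] at h2'
      have hd := disjoint_opensRange_sigmaι (fun _ : I => U) i j hij
      rw [← TopologicalSpace.Opens.coe_disjoint] at hd
      exact Set.disjoint_left.1 hd h1 h2
  haveI : IsClosedImmersion (pullback.diagonal h) :=
    IsClosedImmersion.of_isPreimmersion _ hclosed
  exact ⟨inferInstance⟩

instance isSeparated_descendsAlong_fpqc :
    MorphismProperty.DescendsAlong @IsSeparated
      (@Surjective ⊓ @Flat ⊓ @QuasiCompact : MorphismProperty Scheme.{u}) := by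
  rw [IsSeparated.isSeparated_eq_diagonal_isClosedImmersion]
  infer_instance

theorem isSeparated_of_isTwConst {S : Scheme.{u}} (P : Over S)
    (hP : TwC.IsTwConst TwC.Topology.etale P) : IsSeparated P.hom := by
  choose S' g hg hx I φ using hP
  haveI := hg
  let 𝒰 : Scheme.Cover.{u} (Scheme.precoverage @Flat) S :=
    Scheme.Cover.mkOfCovers S S' g (fun x => ⟨x, hx x⟩) (fun x => inferInstance)
  haveI : QuasiCompactCover 𝒰.toPreZeroHypercover :=
    QuasiCompactCover.of_isOpenMap (fun x => (g x).isOpenMap)
  apply of_fpqc_cover @IsSeparated P.hom 𝒰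
  intro x
  obtain ⟨e⟩ := φ x
  have h1 : e.hom.left ≫ (TwC.const (S' x) (I x)).hom = pullback.snd P.hom (g x) := Over.w e.hom
  change IsSeparated (pullback.snd P.hom (g x))
  rw [← h1]
  haveI := isSeparated_const_hom (S' x) (I x)
  infer_instance

end Separated

section BaseChange

variable {U T : Scheme.{u}} (h : T ⟶ U) (I : Type u)

/-- the `i`-th section of the base change of a constant scheme -/
noncomputable def bcSec (i : I) : T ⟶ pullback (TwC.const U I).hom h :=
  pullback.lift (h ≫ inc U I i) (𝟙 T) (by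
    rw [Category.assoc, inc_hom, Category.comp_id, Category.id_comp])

lemma bcSec_fst (i : I) : bcSec h I i ≫ pullback.fst _ _ = h ≫ inc U I i :=
  pullback.lift_fst _ _ _

lemma bcSec_snd (i : I) : bcSec h I i ≫ pullback.snd _ _ = 𝟙 T :=
  pullback.lift_snd _ _ _

lemma isPullback_bcSec (i : I) :
    IsPullback (bcSec h I i) h (pullback.fst (TwC.const U I).hom h) (inc U I i) := by
  refine IsPullback.of_right ?_ (bcSec_fst h I i)
    (IsPullback.of_hasPullback (TwC.const U I).hom h).flip
  rw [bcSec_snd, inc_hom]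
  exact IsPullback.of_id_fst

instance (i : I) : IsOpenImmersion (bcSec h I i) :=
  MorphismProperty.of_isPullback (P := @IsOpenImmersion) (isPullback_bcSec h I i).flip
    inferInstance

theorem isIso_sigmaDesc_bcSec : IsIso (Limits.Sigma.desc (bcSec h I)) := by
  have hcov : ⨆ i, (bcSec h I i).opensRange = ⊤ := by
    apply top_unique
    intro p _
    rw [TopologicalSpace.Opens.mem_iSup]
    obtain ⟨i, u, hu⟩ := (sigmaOpenCover (fun _ : I => U)).exists_eq
      ((pullback.fst (TwC.const U I).hom h).base p)
    obtain ⟨t, ht, -⟩ := exists_preimage_of_isPullback (isPullback_bcSec h I i) p u hu.symm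
    exact ⟨i, t, ht⟩
  have hdisj : Pairwise (Function.onFun Disjoint fun i : I => (bcSec h I i).opensRange) := by
    intro i j hij
    change Disjoint (bcSec h I i).opensRange (bcSec h I j).opensRange
    rw [← TopologicalSpace.Opens.coe_disjoint, Set.disjoint_left]
    rintro _ ⟨t, rfl⟩ ⟨t', ht'⟩
    have h1 := congrArg (pullback.fst (TwC.const U I).hom h).base ht'
    rw [← Scheme.Hom.comp_apply, ← Scheme.Hom.comp_apply, bcSec_fst, bcSec_fst,
      Scheme.Hom.comp_apply, Scheme.Hom.comp_apply] at h1
    have hd := disjoint_opensRange_sigmaι (fun _ : I => U) i j hij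
    rw [← TopologicalSpace.Opens.coe_disjoint] at hd
    exact Set.disjoint_left.1 hd ⟨_, rfl⟩ ⟨_, h1⟩
  have hcol := nonempty_isColimit_cofanMk_of (bcSec h I) hcov hdisj
  rw [Cofan.nonempty_isColimit_iff_isIso_sigmaDesc] at hcol
  exact hcol

/-- the base change of a constant scheme is constant -/
noncomputable def bcConstIso : Red.bc h (TwC.const U I) ≅ TwC.const T I := by
  haveI := isIso_sigmaDesc_bcSec h I
  refine (Over.isoMk (asIso (Limits.Sigma.desc (bcSec h I))) ?_).symm
  apply Limits.Sigma.hom_ext
  intro i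
  have h1 : (Red.bc h (TwC.const U I)).hom = pullback.snd (TwC.const U I).hom h := rfl
  have h2 : Limits.Sigma.ι (fun _ : I => T) i ≫ (TwC.const T I).hom = 𝟙 T := inc_hom i
  rw [asIso_hom, Limits.Sigma.ι_desc_assoc, h1, bcSec_snd, h2]

/-- the base change of an étale twisted constant scheme is étale twisted constant -/
theorem isTwConst_bc {S T : Scheme.{u}} (X : Over S) (hX : TwC.IsTwConst TwC.Topology.etale X)
    (j : T ⟶ S) : TwC.IsTwConst TwC.Topology.etale (Red.bc j X) := by
  intro t
  obtain ⟨S', g, hg, ⟨x', hx'⟩, I, ⟨φ⟩⟩ := hX (j.base t)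
  haveI := hg
  obtain ⟨t', -, ht'⟩ := Scheme.Pullback.exists_preimage_pullback (f := g) (g := j) x' t hx'
  refine ⟨pullback g j, pullback.snd g j, inferInstance, ⟨t', ht'⟩, I, ?_⟩
  have e1 : Red.bc (pullback.snd g j) (Red.bc j X) ≅
      (Over.pullback (pullback.snd g j ≫ j)).obj X :=
    ((Over.pullbackComp (pullback.snd g j) j).app X).symm
  rw [← pullback.condition] at e1
  have e2 : (Over.pullback (pullback.fst g j ≫ g)).obj X ≅
      Red.bc (pullback.fst g j) (Red.bc g X) :=
    (Over.pullbackComp (pullback.fst g j) g).app X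
  have e3 : Red.bc (pullback.fst g j) (Red.bc g X) ≅
      Red.bc (pullback.fst g j) (TwC.const S' I) :=
    (Over.pullback (pullback.fst g j)).mapIso φ
  exact ⟨e1 ≪≫ e2 ≪≫ e3 ≪≫ bcConstIso (pullback.fst g j) I⟩

end BaseChange

section GenericPt

/-- version of `mono_of_generic_section` for an arbitrary one-point scheme mapping
monomorphically onto the generic point -/
theorem mono_of_generic_section' {U S : Scheme.{u}} [IrreducibleSpace S] (p : U ⟶ S) [Etale p]
    [IsSeparated p] (hfib : ∀ c c' : U, p.base c = genericPoint S → p.base c' = genericPoint S →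
      c = c')
    {L : Scheme.{u}} [Nonempty L] (ι : L ⟶ S) [Mono ι]
    (hι : ∀ a : L, ι.base a = genericPoint S)
    (τ : L ⟶ U) (hτ : τ ≫ p = ι) : Mono p := by
  have hsub : Subsingleton ↥(pullback p ι) := by
    refine ⟨fun a b => ?_⟩
    apply (pullback.fst p ι).injective
    apply hfib
    · rw [← Scheme.Hom.comp_apply, pullback.condition, Scheme.Hom.comp_apply]
      exact hι _
    · rw [← Scheme.Hom.comp_apply, pullback.condition, Scheme.Hom.comp_apply]
      exact hι _
  haveI : PreconnectedSpace ↥(pullback p ι) := inferInstance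
  let s : L ⟶ pullback p ι := pullback.lift τ (𝟙 _) (by rw [hτ, Category.id_comp])
  have hs : s ≫ pullback.snd p ι = 𝟙 _ := pullback.lift_snd _ _ _
  haveI : IsIso s := isIso_of_section (pullback.snd p ι) s hs
  haveI : IsIso (pullback.snd p ι) := by
    have : pullback.snd p ι = inv s := by
      rw [← cancel_epi s, hs, IsIso.hom_inv_id]
    rw [this]; infer_instance
  have hgen : ∀ z : ↥(pullback p p), (pullback.fst p p ≫ p).base z = genericPoint S →
      z ∈ Set.range (pullback.diagonal p).base := by
    intro z hz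
    set q := pullback.fst p p ≫ p with hq
    obtain ⟨a₀⟩ := (inferInstance : Nonempty L)
    obtain ⟨w, hw1, -⟩ := Scheme.Pullback.exists_preimage_pullback (f := q) (g := ι) z a₀ (by
        rw [hz]; exact (hι _).symm)
    let m₁ : pullback q ι ⟶ pullback p ι :=
      pullback.lift (pullback.fst q ι ≫ pullback.fst p p) (pullback.snd q ι) (by
        rw [Category.assoc, ← hq, pullback.condition])
    let m₂ : pullback q ι ⟶ pullback p ι :=
      pullback.lift (pullback.fst q ι ≫ pullback.snd p p) (pullback.snd q ι) (by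
        rw [Category.assoc, ← pullback.condition (f := p) (g := p), ← hq, pullback.condition])
    have hm : m₁ = m₂ := by
      rw [← cancel_mono (pullback.snd p ι)]
      rw [pullback.lift_snd, pullback.lift_snd]
    have hab : pullback.fst q ι ≫ pullback.fst p p = pullback.fst q ι ≫ pullback.snd p p := by
      have h1 : m₁ ≫ pullback.fst p ι = pullback.fst q ι ≫ pullback.fst p p :=
        pullback.lift_fst _ _ _
      have h2 : m₂ ≫ pullback.fst p ι = pullback.fst q ι ≫ pullback.snd p p :=
        pullback.lift_fst _ _ _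
      rw [← h1, ← h2, hm]
    have hfac : pullback.fst q ι = (pullback.fst q ι ≫ pullback.fst p p) ≫ pullback.diagonal p := by
      apply pullback.hom_ext
      · rw [Category.assoc, pullback.diagonal_fst, Category.comp_id]
      · rw [Category.assoc, pullback.diagonal_snd, Category.comp_id, hab]
    refine ⟨(pullback.fst q ι ≫ pullback.fst p p).base w, ?_⟩
    rw [← Scheme.Hom.comp_apply, ← hfac, hw1]
  haveI : IsOpenImmersion (pullback.diagonal p) := inferInstance
  haveI : IsClosedImmersion (pullback.diagonal p) := inferInstance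
  have hsurj : Surjective (pullback.diagonal p) := by
    constructor
    intro z
    by_contra hz
    have hopen : IsOpen (Set.range (pullback.diagonal p).base)ᶜ :=
      (pullback.diagonal p).isClosedEmbedding.isClosed_range.isOpen_compl
    have hflat : GeneralizingMap (pullback.fst p p ≫ p).base := Flat.generalizingMap _
    obtain ⟨z', hz'z, hz'⟩ := hflat (genericPoint_specializes ((pullback.fst p p ≫ p).base z))
    have hz'R : z' ∈ (Set.range (pullback.diagonal p).base)ᶜ := hz'z.mem_open hopen hz
    exact hz'R (hgen z' hz')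
  haveI : IsIso (pullback.diagonal p) :=
    (isIso_iff_isOpenImmersion_and_surjective _).mpr ⟨inferInstance, hsurj⟩
  exact (pullback.isIso_diagonal_iff p).mp inferInstance

variable {S : Scheme.{u}} [IrreducibleSpace S]

theorem exists_section' (hS : ∀ s : S, CAlg2.IsGeomUnibranch (S.presheaf.stalk s))
    (X : Over S) (hX : TwC.IsTwConst TwC.Topology.etale X)
    {L : Scheme.{u}} [Nonempty L] [Subsingleton L] (ι : L ⟶ S) [Mono ι]
    (hι : ∀ a : L, ι.base a = genericPoint S)
    (τ : L ⟶ X.left) (hτ : τ ≫ X.hom = ι) :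
    ∃ σ : S ⟶ X.left, σ ≫ X.hom = 𝟙 S ∧ ι ≫ σ = τ := by
  haveI : Etale X.hom := etale_of_isTwConst X hX
  obtain ⟨pt⟩ := (inferInstance : Nonempty L)
  set l := τ.base pt with hldef
  have hl : X.hom.base l = genericPoint S := by
    rw [hldef, ← Scheme.Hom.comp_apply, hτ]
    exact hι _
  obtain ⟨-, hopen⟩ := closure_mem_irreducibleComponents X.hom hS l hl
  let U : X.left.Opens := ⟨closure {l}, hopen⟩
  haveI : IsFinite (U.ι ≫ X.hom) := isFinite_closure hS X hX l hl U rfl
  have hrange : Set.range τ.base ⊆ Set.range U.ι.base := by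
    rw [Scheme.Opens.range_ι]
    rintro _ ⟨a, rfl⟩
    have : a = pt := Subsingleton.elim _ _
    rw [this]
    exact subset_closure rfl
  let τ' : L ⟶ (U : Scheme.{u}) := IsOpenImmersion.lift U.ι τ hrange
  have hτ' : τ' ≫ U.ι = τ := IsOpenImmersion.lift_fac _ _ _
  have hτ'p : τ' ≫ (U.ι ≫ X.hom) = ι := by
    rw [← Category.assoc, hτ', hτ]
  have hfib : ∀ c c' : U, (U.ι ≫ X.hom).base c = genericPoint S →
      (U.ι ≫ X.hom).base c' = genericPoint S → c = c' := by
    intro c c' hc hc'
    apply Subtype.ext
    rw [eq_of_mem_closure X.hom hS l hl c.1 c.2 hc, eq_of_mem_closure X.hom hS l hl c'.1 c'.2 hc']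
  haveI : Mono (U.ι ≫ X.hom) := mono_of_generic_section' (U.ι ≫ X.hom) hfib ι hι τ' hτ'p
  haveI : IsOpenImmersion (U.ι ≫ X.hom) := IsOpenImmersion.of_flat_of_mono _
  haveI : Surjective (U.ι ≫ X.hom) :=
    surjective_of_isFinite_of_generic (U.ι ≫ X.hom) (τ'.base pt) (by
      rw [← Scheme.Hom.comp_apply, hτ'p]
      exact hι _)
  haveI : IsIso (U.ι ≫ X.hom) :=
    (isIso_iff_isOpenImmersion_and_surjective _).mpr ⟨inferInstance, inferInstance⟩
  refine ⟨inv (U.ι ≫ X.hom) ≫ U.ι, ?_, ?_⟩
  · rw [Category.assoc, IsIso.inv_hom_id]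
  · rw [← hτ', ← Category.assoc]
    congr 1
    rw [← hτ'p, Category.assoc, IsIso.hom_inv_id, Category.comp_id]

end GenericPt

section ValRing

theorem isGeomUnibranch_stalk_of_valuationRing (R : Type u) [CommRing R] [IsDomain R]
    [ValuationRing R] (x : Spec (CommRingCat.of R)) :
    CAlg2.IsGeomUnibranch ((Spec (CommRingCat.of R)).presheaf.stalk x) := by
  haveI : IsIntegrallyClosed R := inferInstance
  letI : Algebra R ((Spec (CommRingCat.of R)).presheaf.stalk x) :=
    StructureSheaf.stalkAlgebra R x
  haveI hloc : IsLocalization.AtPrime ((Spec (CommRingCat.of R)).presheaf.stalk x) x.asIdeal :=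
    StructureSheaf.IsLocalization.to_stalk R x
  haveI : IsIntegrallyClosed ((Spec (CommRingCat.of R)).presheaf.stalk x) :=
    isIntegrallyClosed_of_isLocalization (R := R) _ x.asIdeal.primeCompl
      x.asIdeal.primeCompl_le_nonZeroDivisors
  haveI : IsDomain ((Spec (CommRingCat.of R)).presheaf.stalk x) := inferInstance
  exact Groth.Agent.S9812.result _

end ValRing


section Valuative

theorem valuativeCriterion_of_isTwConst {S : Scheme.{u}} (X : Over S)
    (hX : TwC.IsTwConst TwC.Topology.etale X) : ValuativeCriterion X.hom := by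
  intro Sq
  let ιK : Spec (CommRingCat.of Sq.K) ⟶ Spec (CommRingCat.of Sq.R) :=
    Spec.map (CommRingCat.ofHom (algebraMap Sq.R Sq.K))
  haveI : IrreducibleSpace ↥(Spec (CommRingCat.of Sq.R)) := inferInstance
  have hT : ∀ t : Spec (CommRingCat.of Sq.R),
      CAlg2.IsGeomUnibranch ((Spec (CommRingCat.of Sq.R)).presheaf.stalk t) :=
    isGeomUnibranch_stalk_of_valuationRing Sq.R
  have hXR := isTwConst_bc X hX Sq.i₂
  haveI : Mono ιK := by
    haveI : IsPreimmersion ιK := IsPreimmersion.of_isLocalization (nonZeroDivisors Sq.R)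
    infer_instance
  have hιK : ∀ a, ιK.base a = genericPoint ↥(Spec (CommRingCat.of Sq.R)) := by
    intro a
    rw [genericPoint_eq_bot_of_affine]
    apply PrimeSpectrum.ext
    change Ideal.comap (algebraMap Sq.R Sq.K) a.asIdeal = ⊥
    have ha : a.asIdeal = ⊥ := (Ideal.eq_bot_or_top a.asIdeal).resolve_right a.isPrime.ne_top
    rw [ha, ← RingHom.ker_eq_comap_bot]
    exact (RingHom.injective_iff_ker_eq_bot _).mp (IsFractionRing.injective Sq.R Sq.K)
  let τ : Spec (CommRingCat.of Sq.K) ⟶ (Red.bc Sq.i₂ X).left :=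
    pullback.lift Sq.i₁ ιK Sq.commSq.w
  have hτ : τ ≫ (Red.bc Sq.i₂ X).hom = ιK := pullback.lift_snd _ _ _
  have hτ1 : τ ≫ pullback.fst X.hom Sq.i₂ = Sq.i₁ := pullback.lift_fst _ _ _
  obtain ⟨σ, hσ1, hσ2⟩ := exists_section' hT (Red.bc Sq.i₂ X) hXR ιK hιK τ hτ
  have hσ1' : σ ≫ pullback.snd X.hom Sq.i₂ = 𝟙 _ := hσ1
  refine ⟨{ default := ⟨σ ≫ pullback.fst X.hom Sq.i₂, ?_, ?_⟩, uniq := ?_ }⟩
  · rw [← Category.assoc]
    change (ιK ≫ σ) ≫ _ = _
    rw [hσ2, hτ1]
  · rw [Category.assoc, pullback.condition, ← Category.assoc, hσ1', Category.id_comp]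
  · intro ls
    apply CommSq.LiftStruct.ext
    change ls.l = σ ≫ pullback.fst X.hom Sq.i₂
    let σ' : Spec (CommRingCat.of Sq.R) ⟶ (Red.bc Sq.i₂ X).left :=
      pullback.lift ls.l (𝟙 _) (by rw [ls.fac_right, Category.id_comp])
    have hσ'1 : σ' ≫ (Red.bc Sq.i₂ X).hom = 𝟙 _ := pullback.lift_snd _ _ _
    have hσ'f : σ' ≫ pullback.fst X.hom Sq.i₂ = ls.l := pullback.lift_fst _ _ _
    have hcomp : ιK ≫ σ' = ιK ≫ σ := by
      rw [hσ2]
      apply pullback.hom_ext
      · rw [Category.assoc, hσ'f, hτ1]
        exact ls.fac_left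
      · rw [Category.assoc]
        change ιK ≫ σ' ≫ (Red.bc Sq.i₂ X).hom = τ ≫ (Red.bc Sq.i₂ X).hom
        rw [hσ'1, hτ, Category.comp_id]
    obtain ⟨pt⟩ : Nonempty ↥(Spec (CommRingCat.of Sq.K)) := inferInstance
    have hpts : σ'.base (genericPoint _) = σ.base (genericPoint _) := by
      rw [← hιK pt, ← Scheme.Hom.comp_apply, ← Scheme.Hom.comp_apply, hcomp]
    rw [← hσ'f, section_unique hT (Red.bc Sq.i₂ X) hXR σ' σ hσ'1 hσ1 hpts]

end Valuative

end Groth.Agent.Lib.helper2.TwVal
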