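import Mathlib
import Groth.Agent.Lib.Helper2.HensStrSch
import Groth.Agent.Lib.Helper2.TwVal

set_option autoImplicit false

namespace Groth.Agent.Lib.helper2.HensStr

open IsLocalRing CategoryTheory AlgebraicGeometry

universe u

section Sch2

variable {R : Type u} [CommRing R] [HenselianLocalRing R]

theorem preconnectedSpace_of_isLocalRing (L : Type u) [CommRing L] [IsLocalRing L] :
    PreconnectedSpace (PrimeSpectrum L) := by
  refine ⟨isPreconnected_of_forall (closedPoint L) fun y _ => ?_⟩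
  refine ⟨closure {y}, Set.subset_univ _, ?_, subset_closure rfl, isPreconnected_singleton.closure⟩
  exact (IsLocalRing.specializes_closedPoint y).mem_closed isClosed_closure (subset_closure rfl)

theorem isClosedImmersion_fromSpecStalk {X : Scheme.{u}} (f : X ⟶ Spec (CommRingCat.of R))
    [Etale f] [IsSeparated f] (x : X) (hx : f.base x = IsLocalRing.closedPoint R) :
    IsClosedImmersion (X.fromSpecStalk x) := by
  obtain ⟨hoi, hfin⟩ := fromSpecStalk_of_etale f x hx
  haveI := hoi
  haveI := hfin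
  haveI : UniversallyClosed (X.fromSpecStalk x ≫ f) := inferInstance
  haveI : UniversallyClosed (X.fromSpecStalk x) :=
    UniversallyClosed.of_comp_of_isSeparated (X.fromSpecStalk x) f
  exact IsClosedImmersion.of_isPreimmersion _ (X.fromSpecStalk x).isClosedMap.isClosed_range

theorem surjective_fromSpecStalk_comp {X : Scheme.{u}} (f : X ⟶ Spec (CommRingCat.of R))
    [Etale f] (x : X) (hx : f.base x = IsLocalRing.closedPoint R) :
    Surjective (X.fromSpecStalk x ≫ f) := by
  obtain ⟨hoi, hfin⟩ := fromSpecStalk_of_etale f x hx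
  haveI := hoi
  haveI : Flat (X.fromSpecStalk x ≫ f) := inferInstance
  have hgen := Flat.generalizingMap (f := X.fromSpecStalk x ≫ f)
  refine ⟨fun p => ?_⟩
  have hp : p ⤳ (X.fromSpecStalk x ≫ f).base (closedPoint (X.presheaf.stalk x)) := by
    rw [Scheme.Hom.comp_apply, Scheme.fromSpecStalk_closedPoint, hx]
    exact IsLocalRing.specializes_closedPoint (R := R) p
  obtain ⟨a, -, ha⟩ := hgen hp
  exact ⟨a, ha⟩

theorem section_ext_of_etale {X : Scheme.{u}} (f : X ⟶ Spec (CommRingCat.of R)) [Etale f]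
    (σ₁ σ₂ : Spec (CommRingCat.of R) ⟶ X) (h₁ : σ₁ ≫ f = 𝟙 _) (h₂ : σ₂ ≫ f = 𝟙 _)
    (h : Spec.map (CommRingCat.ofHom (IsLocalRing.residue R)) ≫ σ₁ =
      Spec.map (CommRingCat.ofHom (IsLocalRing.residue R)) ≫ σ₂) : σ₁ = σ₂ := by
  set x := σ₁.base (closedPoint R) with hxdef
  have hx : f.base x = closedPoint R := by
    rw [hxdef, ← Scheme.Hom.comp_apply, h₁]; rfl
  have hx₂ : σ₂.base (closedPoint R) = x := by
    have hpt : (Spec.map (CommRingCat.ofHom (IsLocalRing.residue R))).base
        (closedPoint (ResidueField R)) = closedPoint R :=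
      PrimeSpectrum.comap_residue R _
    have := congrArg (fun m => m.base (closedPoint (ResidueField R))) h
    simp only [Scheme.Hom.comp_apply] at this
    rw [hpt] at this
    exact this.symm
  obtain ⟨hoi, hfin⟩ := fromSpecStalk_of_etale f x hx
  haveI := hoi
  haveI := hfin
  set j := X.fromSpecStalk x with hj
  have hrange : ∀ σ : Spec (CommRingCat.of R) ⟶ X, σ.base (closedPoint R) = x →
      Set.range σ.base ⊆ Set.range j.base := by
    intro σ hσ
    rw [hj, Scheme.range_fromSpecStalk]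
    rintro _ ⟨p, rfl⟩
    have := (IsLocalRing.specializes_closedPoint (R := R) p).map σ.continuous
    rw [hσ] at this
    exact this
  let τ₁ : Spec (CommRingCat.of R) ⟶ Spec (X.presheaf.stalk x) :=
    IsOpenImmersion.lift j σ₁ (hrange σ₁ rfl)
  let τ₂ : Spec (CommRingCat.of R) ⟶ Spec (X.presheaf.stalk x) :=
    IsOpenImmersion.lift j σ₂ (hrange σ₂ hx₂)
  have hτ₁ : τ₁ ≫ j = σ₁ := IsOpenImmersion.lift_fac _ _ _
  have hτ₂ : τ₂ ≫ j = σ₂ := IsOpenImmersion.lift_fac _ _ _
  have hp₁ : τ₁ ≫ (j ≫ f) = 𝟙 _ := by rw [← Category.assoc, hτ₁, h₁]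
  have hp₂ : τ₂ ≫ (j ≫ f) = 𝟙 _ := by rw [← Category.assoc, hτ₂, h₂]
  haveI : PreconnectedSpace (Spec (X.presheaf.stalk x)) :=
    preconnectedSpace_of_isLocalRing (X.presheaf.stalk x)
  haveI : Nonempty (Spec (CommRingCat.of R)) := ⟨closedPoint R⟩
  haveI : IsIso τ₂ := Groth.Agent.Lib.helper2.UniBrIrr.isIso_of_section (j ≫ f) τ₂ hp₂
  have hp₂' : (j ≫ f) ≫ τ₂ = 𝟙 _ := by
    rw [← cancel_epi τ₂, ← Category.assoc, hp₂, Category.id_comp, Category.comp_id]
  have : τ₁ = τ₂ := by
    calc τ₁ = τ₁ ≫ ((j ≫ f) ≫ τ₂) := by rw [hp₂', Category.comp_id]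
      _ = (τ₁ ≫ (j ≫ f)) ≫ τ₂ := by simp only [Category.assoc]
      _ = τ₂ := by rw [hp₁, Category.id_comp]
  rw [← hτ₁, ← hτ₂, this]

theorem exists_section_of_etale {X : Scheme.{u}} (f : X ⟶ Spec (CommRingCat.of R)) [Etale f]
    (τ : Spec (CommRingCat.of (IsLocalRing.ResidueField R)) ⟶ X)
    (hτ : τ ≫ f = Spec.map (CommRingCat.ofHom (IsLocalRing.residue R))) :
    ∃ σ : Spec (CommRingCat.of R) ⟶ X, σ ≫ f = 𝟙 _ ∧
      Spec.map (CommRingCat.ofHom (IsLocalRing.residue R)) ≫ σ = τ := by
  set x := τ.base (closedPoint (ResidueField R)) with hxdef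
  have hx : f.base x = closedPoint R := by
    rw [hxdef, ← Scheme.Hom.comp_apply, hτ]
    exact PrimeSpectrum.comap_residue R _
  obtain ⟨hoi, hfin⟩ := fromSpecStalk_of_etale f x hx
  haveI := hoi
  haveI := hfin
  set j := X.fromSpecStalk x with hj
  let ψ : CommRingCat.of R ⟶ X.presheaf.stalk x := Spec.preimage (j ≫ f)
  have hψ : Spec.map ψ = j ≫ f := Spec.map_preimage _
  let φτ : X.presheaf.stalk x ⟶ CommRingCat.of (ResidueField R) := Scheme.stalkClosedPointTo τ
  haveI hloc : IsLocalHom φτ.hom := Scheme.isLocalHom_stalkClosedPointTo' τ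
  have hφτ : Spec.map φτ ≫ j = τ := Scheme.Spec_stalkClosedPointTo_fromSpecStalk τ
  have hcomp : ψ ≫ φτ = CommRingCat.ofHom (residue R) := by
    apply Spec.map_injective
    rw [Spec.map_comp, hψ, ← Category.assoc, hφτ, hτ]
  have hcomp' : ∀ r : R, φτ.hom (ψ.hom r) = residue R r := by
    intro r
    have := congrArg (fun m => m.hom r) hcomp
    exact this
  have hbij : Function.Bijective ψ.hom := by
    letI : Algebra R (X.presheaf.stalk x) := ψ.hom.toAlgebra
    haveI : Module.Finite R (X.presheaf.stalk x) := by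
      have : IsFinite (Spec.map ψ) := by rw [hψ]; infer_instance
      exact (IsFinite.SpecMap_iff ψ).mp this
    haveI : Algebra.Etale R (X.presheaf.stalk x) := by
      have : Etale (Spec.map ψ) := by rw [hψ]; infer_instance
      exact (HasRingHomProperty.Spec_iff (P := @Etale)).mp this
    haveI : IsLocalHom (algebraMap R (X.presheaf.stalk x)) := by
      haveI : IsLocalHom (φτ.hom.comp ψ.hom) := by
        have : φτ.hom.comp ψ.hom = residue R := RingHom.ext hcomp'
        rw [this]; infer_instance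
      exact isLocalHom_of_comp ψ.hom φτ.hom
    apply Groth.Agent.Lib.Helper24.HenselSplitting.bijective_algebraMap_of_finite_etale
    intro z
    obtain ⟨b, rfl⟩ := IsLocalRing.residue_surjective z
    obtain ⟨r, hr⟩ := IsLocalRing.residue_surjective (φτ.hom b)
    refine ⟨r, ?_⟩
    have h0 : φτ.hom (b - ψ.hom r) = 0 := by
      rw [map_sub, hcomp', hr, sub_self]
    have hmem : b - ψ.hom r ∈ maximalIdeal (X.presheaf.stalk x) := by
      rw [IsLocalRing.mem_maximalIdeal, mem_nonunits_iff]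
      intro hu
      have := hu.map φτ.hom
      rw [h0] at this
      exact not_isUnit_zero this
    have h1 : residue (X.presheaf.stalk x) (b - ψ.hom r) = 0 :=
      (IsLocalRing.residue_eq_zero_iff _).mpr hmem
    rw [map_sub, sub_eq_zero] at h1
    rw [h1]
    rfl
  haveI : IsIso ψ := (ConcreteCategory.isIso_iff_bijective ψ).mpr hbij
  haveI : IsIso (Spec.map ψ) := inferInstance
  refine ⟨inv (Spec.map ψ) ≫ j, ?_, ?_⟩
  · rw [Category.assoc, ← hψ, IsIso.inv_hom_id]
  · rw [← hcomp, Spec.map_comp, Category.assoc, IsIso.hom_inv_id_assoc, hφτ]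

end Sch2

end Groth.Agent.Lib.helper2.HensStr
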