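import Mathlib
import Groth.Agent.Lib.Helper2.HensStrSch2

set_option autoImplicit false

namespace Groth.Agent.Lib.helper2.HensSec

open Polynomial IsLocalRing CategoryTheory AlgebraicGeometry
open Groth.Agent.Lib.helper2.HensStr

universe u

section Fwd

variable {A : Type u} [CommRing A] [HenselianLocalRing A] [IsSepClosed (ResidueField A)]

theorem exists_section_through {X : Scheme.{u}} (f : X ⟶ Spec (CommRingCat.of A)) [Etale f]
    (x : X) (hx : f.base x = IsLocalRing.closedPoint A) :
    ∃ u : Spec (CommRingCat.of A) ⟶ X, u ≫ f = 𝟙 _ ∧ u.base (IsLocalRing.closedPoint A) = x := by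
  obtain ⟨hoi, hfin⟩ := fromSpecStalk_of_etale f x hx
  haveI := hoi
  haveI := hfin
  set j := X.fromSpecStalk x with hj
  let ψ : CommRingCat.of A ⟶ X.presheaf.stalk x := Spec.preimage (j ≫ f)
  have hψ : Spec.map ψ = j ≫ f := Spec.map_preimage _
  have hcl : (Spec.map ψ).base (closedPoint (X.presheaf.stalk x)) = closedPoint A := by
    rw [hψ, Scheme.Hom.comp_apply, hj, Scheme.fromSpecStalk_closedPoint, hx]
  have hbij : Function.Bijective ψ.hom := by
    letI : Algebra A (X.presheaf.stalk x) := ψ.hom.toAlgebra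
    haveI : Module.Finite A (X.presheaf.stalk x) := by
      have : IsFinite (Spec.map ψ) := by rw [hψ]; infer_instance
      exact (IsFinite.SpecMap_iff ψ).mp this
    haveI : Algebra.Etale A (X.presheaf.stalk x) := by
      have : Etale (Spec.map ψ) := by rw [hψ]; infer_instance
      exact (HasRingHomProperty.Spec_iff (P := @Etale)).mp this
    haveI : IsLocalHom (algebraMap A (X.presheaf.stalk x)) :=
      (isLocalHom_iff_comap_closedPoint ψ.hom).mpr hcl
    apply Groth.Agent.Lib.Helper24.HenselSplitting.bijective_algebraMap_of_finite_etale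
    intro z
    obtain ⟨y, rfl⟩ := IsSepClosed.algebraMap_surjective (ResidueField A)
      (ResidueField (X.presheaf.stalk x)) z
    obtain ⟨a, rfl⟩ := IsLocalRing.residue_surjective y
    exact ⟨a, rfl⟩
  haveI : IsIso ψ := (ConcreteCategory.isIso_iff_bijective ψ).mpr hbij
  haveI : IsIso (Spec.map ψ) := inferInstance
  refine ⟨inv (Spec.map ψ) ≫ j, ?_, ?_⟩
  · rw [Category.assoc, ← hψ, IsIso.inv_hom_id]
  · rw [Scheme.Hom.comp_apply]
    have : (inv (Spec.map ψ)).base (closedPoint A) = closedPoint (X.presheaf.stalk x) := by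
      rw [← hcl, ← Scheme.Hom.comp_apply, IsIso.hom_inv_id]
      rfl
    rw [this, hj, Scheme.fromSpecStalk_closedPoint]

end Fwd

section Bwd

variable (A : Type u) [CommRing A] [IsLocalRing A]

/-- the section property of the statement -/
def SecProp : Prop :=
  ∀ (X : Scheme.{u}) (f : X ⟶ Spec (CommRingCat.of A)), Etale f →
    ∀ x : X, f.base x = IsLocalRing.closedPoint A →
      ∃ u : Spec (CommRingCat.of A) ⟶ X, u ≫ f = 𝟙 _ ∧ u.base (IsLocalRing.closedPoint A) = x

variable {A}

/-- algebraic form of the section property -/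
theorem exists_algHom_of_secProp (H : SecProp A) (B : Type u) [CommRing B] [Algebra A B]
    [Algebra.Etale A B] (q : Ideal B) [q.IsPrime] (hq : q.comap (algebraMap A B) = maximalIdeal A) :
    ∃ σ : B →ₐ[A] A, (maximalIdeal A).comap σ.toRingHom = q := by
  let f : Spec (CommRingCat.of B) ⟶ Spec (CommRingCat.of A) :=
    Spec.map (CommRingCat.ofHom (algebraMap A B))
  have hf : Etale f := by
    rw [HasRingHomProperty.Spec_iff (P := @Etale)]
    show (algebraMap A B).Etale
    rw [RingHom.etale_algebraMap]
    infer_instance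
  let x : Spec (CommRingCat.of B) := ⟨q, inferInstance⟩
  have hx : f.base x = closedPoint A := by
    apply PrimeSpectrum.ext
    exact hq
  obtain ⟨u, hu1, hu2⟩ := H _ f hf x hx
  let σ' : CommRingCat.of B ⟶ CommRingCat.of A := Spec.preimage u
  have hσ' : Spec.map σ' = u := Spec.map_preimage u
  have hcomp : CommRingCat.ofHom (algebraMap A B) ≫ σ' = 𝟙 _ := by
    apply Spec.map_injective
    rw [Spec.map_comp, hσ', Spec.map_id]
    exact hu1
  have hcomp' : ∀ a : A, σ'.hom (algebraMap A B a) = a := by
    intro a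
    have := congrArg (fun m => m.hom a) hcomp
    exact this
  let σ : B →ₐ[A] A := { σ'.hom with commutes' := hcomp' }
  refine ⟨σ, ?_⟩
  have h2 : (Spec.map σ').base (closedPoint A) = x := by rw [hσ']; exact hu2
  have h3 := congrArg PrimeSpectrum.asIdeal h2
  exact h3

theorem henselian_of_secProp (H : SecProp A) : HenselianLocalRing A := by
  refine ⟨fun f hf a₀ h0 h1 => ?_⟩
  obtain ⟨hdiv, hGa⟩ := Groth.Agent.Lib.Helper24.HenselSplitting.div_X_sub_C A f a₀
  set G : A[X] := f /ₘ (X - C a₀) with hG
  let P : StandardEtalePair A :=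
    { f := f
      monic_f := hf
      g := derivative f * G
      cond := ⟨G, 0, 1, by ring⟩ }
  have hP : P.HasMap (residue A a₀) := by
    constructor
    · show aeval (residue A a₀) f = 0
      rw [← IsLocalRing.ResidueField.algebraMap_eq, Polynomial.aeval_algebraMap_apply,
        Polynomial.coe_aeval_eq_eval, IsLocalRing.ResidueField.algebraMap_eq,
        residue_eq_zero_iff]
      exact h0
    · show IsUnit (aeval (residue A a₀) (derivative f * G))
      rw [← IsLocalRing.ResidueField.algebraMap_eq, Polynomial.aeval_algebraMap_apply,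
        Polynomial.coe_aeval_eq_eval, eval_mul, hGa]
      exact (h1.mul h1).map _
  let χ : P.Ring →ₐ[A] ResidueField A := P.lift _ hP
  have hχX : χ P.X = residue A a₀ := P.lift_X _ hP
  have hχsurj : Function.Surjective χ := by
    intro z
    obtain ⟨r, rfl⟩ := residue_surjective z
    exact ⟨algebraMap A P.Ring r, χ.commutes r⟩
  set q : Ideal P.Ring := RingHom.ker χ.toRingHom with hq
  haveI hkmax : q.IsMaximal := RingHom.ker_isMaximal_of_surjective _ hχsurj
  haveI hqprime : q.IsPrime := hkmax.isPrime
  have hkover : q.comap (algebraMap A P.Ring) = maximalIdeal A := by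
    ext r
    rw [Ideal.mem_comap, RingHom.mem_ker]
    show χ (algebraMap A P.Ring r) = 0 ↔ _
    rw [χ.commutes, IsLocalRing.ResidueField.algebraMap_eq, residue_eq_zero_iff]
  obtain ⟨σ, hσ⟩ := exists_algHom_of_secProp H P.Ring q hkover
  have hroot : P.HasMap (σ P.X) := StandardEtalePair.hasMap_X.map σ
  refine ⟨σ P.X, ?_, ?_⟩
  · have := hroot.1
    rw [Polynomial.IsRoot.def, ← Polynomial.coe_aeval_eq_eval]
    exact this
  · have hmem : P.X - algebraMap A P.Ring a₀ ∈ q := by
      rw [hq, RingHom.mem_ker]
      show χ (P.X - algebraMap A P.Ring a₀) = 0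
      rw [map_sub, hχX, χ.commutes]
      exact sub_self _
    rw [← hσ, Ideal.mem_comap] at hmem
    have h6 : σ (P.X - algebraMap A P.Ring a₀) ∈ maximalIdeal A := hmem
    rw [map_sub, σ.commutes] at h6
    exact h6

theorem isSepClosed_of_secProp (H : SecProp A) : IsSepClosed (ResidueField A) := by
  apply IsSepClosed.of_exists_root
  intro p hpm hpirr hpsep
  obtain ⟨g, hgp, -, hgm⟩ := Polynomial.lifts_and_degree_eq_and_monic
    (f := residue A) (p := p) (by
      rw [Polynomial.mem_lifts]
      exact Polynomial.map_surjective _ IsLocalRing.residue_surjective p) hpm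
  let P : StandardEtalePair A :=
    { f := g
      monic_f := hgm
      g := derivative g
      cond := ⟨1, 0, 1, by ring⟩ }
  haveI : Fact (Irreducible p) := ⟨hpirr⟩
  let K := AdjoinRoot p
  have haeval : ∀ h : A[X], aeval (AdjoinRoot.root p) h =
      aeval (AdjoinRoot.root p) (h.map (residue A)) := by
    intro h
    have := Polynomial.aeval_map_algebraMap (ResidueField A) (AdjoinRoot.root p) h
    rw [← this]
    rfl
  have hP : P.HasMap (AdjoinRoot.root p) := by
    constructor
    · show aeval (AdjoinRoot.root p) g = 0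
      rw [haeval, hgp, AdjoinRoot.aeval_eq, AdjoinRoot.mk_self]
    · show IsUnit (aeval (AdjoinRoot.root p) (derivative g))
      rw [haeval, ← Polynomial.derivative_map, hgp, AdjoinRoot.aeval_eq, isUnit_iff_ne_zero]
      intro h0
      rw [AdjoinRoot.mk_eq_zero] at h0
      have hcop : IsCoprime p (derivative p) := hpsep
      have hu : IsUnit p := hcop.isUnit_of_dvd' dvd_rfl h0
      exact hpirr.not_isUnit hu
  let χ : P.Ring →ₐ[A] K := P.lift _ hP
  set q : Ideal P.Ring := RingHom.ker χ.toRingHom with hq
  haveI hqprime : q.IsPrime := RingHom.ker_isPrime χ.toRingHom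
  have hkover : q.comap (algebraMap A P.Ring) = maximalIdeal A := by
    ext r
    rw [Ideal.mem_comap, RingHom.mem_ker]
    show χ (algebraMap A P.Ring r) = 0 ↔ _
    rw [χ.commutes]
    rw [IsScalarTower.algebraMap_apply A (ResidueField A) K, map_eq_zero,
      IsLocalRing.ResidueField.algebraMap_eq, residue_eq_zero_iff]
  obtain ⟨σ, hσ⟩ := exists_algHom_of_secProp H P.Ring q hkover
  have hroot : P.HasMap (σ P.X) := StandardEtalePair.hasMap_X.map σ
  refine ⟨residue A (σ P.X), ?_⟩
  have h1 : aeval (σ P.X) g = 0 := hroot.1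
  rw [← hgp, Polynomial.eval_map, Polynomial.eval₂_hom]
  have h2 : eval (σ P.X) g = 0 := by
    rw [← Polynomial.coe_aeval_eq_eval]; exact h1
  rw [h2, map_zero]

end Bwd

end Groth.Agent.Lib.helper2.HensSec
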