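import Mathlib
import Groth.Agent.Lib.Helper2.HensStrSch2

set_option autoImplicit false

namespace Groth.Agent.Lib.helper2.HensStr

open IsLocalRing CategoryTheory AlgebraicGeometry
open Groth.Agent.Lib.helper2.TwVal Groth.Agent.Lib.helper2.UniBr

universe u

theorem structure_of_henselian (R : Type u) [CommRing R] [HenselianLocalRing R]
    (X : Over (Spec (CommRingCat.of R))) (hX : TwC.IsTwConst TwC.Topology.etale X) :
    (∀ x : X.left, X.hom.base x = IsLocalRing.closedPoint R →
      IsOpenImmersion (X.left.fromSpecStalk x) ∧ IsClosedImmersion (X.left.fromSpecStalk x) ∧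
        IsFinite (X.left.fromSpecStalk x ≫ X.hom) ∧ Etale (X.left.fromSpecStalk x ≫ X.hom) ∧
        Surjective (X.left.fromSpecStalk x ≫ X.hom)) ∧
    (∀ y : X.left, ∃! x : X.left, X.hom.base x = IsLocalRing.closedPoint R ∧
      y ∈ Set.range (X.left.fromSpecStalk x).base) ∧
    (∀ σ₁ σ₂ : Spec (CommRingCat.of R) ⟶ X.left, σ₁ ≫ X.hom = 𝟙 _ → σ₂ ≫ X.hom = 𝟙 _ →
      Spec.map (CommRingCat.ofHom (IsLocalRing.residue R)) ≫ σ₁ =
        Spec.map (CommRingCat.ofHom (IsLocalRing.residue R)) ≫ σ₂ → σ₁ = σ₂) ∧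
    (∀ τ : Spec (CommRingCat.of (IsLocalRing.ResidueField R)) ⟶ X.left,
      τ ≫ X.hom = Spec.map (CommRingCat.ofHom (IsLocalRing.residue R)) →
      ∃ σ : Spec (CommRingCat.of R) ⟶ X.left, σ ≫ X.hom = 𝟙 _ ∧
        Spec.map (CommRingCat.ofHom (IsLocalRing.residue R)) ≫ σ = τ) := by
  haveI : Etale X.hom := etale_of_isTwConst X hX
  haveI : IsSeparated X.hom := isSeparated_of_isTwConst X hX
  have hval : ValuativeCriterion X.hom := valuativeCriterion_of_isTwConst X hX
  have hspec : SpecializingMap X.hom.base := hval.existence.specializingMap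
  refine ⟨?_, ?_, ?_, ?_⟩
  · intro x hx
    obtain ⟨hoi, hfin⟩ := fromSpecStalk_of_etale X.hom x hx
    haveI := hoi
    exact ⟨hoi, isClosedImmersion_fromSpecStalk X.hom x hx, hfin, inferInstance,
      surjective_fromSpecStalk_comp X.hom x hx⟩
  · intro y
    have h1 : X.hom.base y ⤳ closedPoint R := IsLocalRing.specializes_closedPoint (R := R) _
    obtain ⟨x, hyx, hx⟩ := hspec h1
    refine ⟨x, ⟨hx, ?_⟩, ?_⟩
    · rw [Scheme.range_fromSpecStalk]; exact hyx
    · rintro x' ⟨hx', hy'⟩
      rw [Scheme.range_fromSpecStalk] at hy'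
      have hyx' : y ⤳ x' := hy'
      have key : ∀ a b : X.left, X.hom.base a = closedPoint R → y ⤳ a → y ⤳ b → b ⤳ a := by
        intro a b ha hya hyb
        haveI := isClosedImmersion_fromSpecStalk X.hom a ha
        have hcl : IsClosed (Set.range (X.left.fromSpecStalk a).base) :=
          (X.left.fromSpecStalk a).isClosedEmbedding.isClosed_range
        have hymem : y ∈ Set.range (X.left.fromSpecStalk a).base := by
          rw [Scheme.range_fromSpecStalk]; exact hya
        have hb := hyb.mem_closed hcl hymem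
        rw [Scheme.range_fromSpecStalk] at hb
        exact hb
      exact ((key x x' hx hyx hyx').antisymm (key x' x hx' hyx' hyx)).eq
  · intro σ₁ σ₂ h₁ h₂ h
    exact section_ext_of_etale X.hom σ₁ σ₂ h₁ h₂ h
  · intro τ hτ
    exact exists_section_of_etale X.hom τ hτ

end Groth.Agent.Lib.helper2.HensStr
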