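import Groth.Agent.Lib.Helper2.Henselian
import Mathlib.Algebra.Polynomial.Eval.Degree
import Mathlib.Algebra.Polynomial.Derivative
import Mathlib.Algebra.Group.Pi.Units

/-!
# Henselian property for products of rings
-/

set_option autoImplicit false

namespace Groth.Agent.Lib.helper2

open Polynomial

universe u v

variable {J : Type u} {A : J → Type v} [∀ j, CommRing (A j)]

lemma mem_iInf_comap_eval (I : ∀ j, Ideal (A j)) (x : ∀ j, A j) :
    x ∈ (⨅ j, Ideal.comap (Pi.evalRingHom A j) (I j)) ↔ ∀ j, x j ∈ I j := by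
  simp [Ideal.mem_comap]

lemma eval_map_evalRingHom (F : (∀ j, A j)[X]) (a : ∀ j, A j) (k : J) :
    (F.map (Pi.evalRingHom A k)).eval (a k) = (F.eval a) k := by
  rw [Polynomial.eval_map]
  exact Polynomial.eval₂_at_apply (Pi.evalRingHom A k) a

/-- A product of Henselian pairs is a Henselian pair. -/
lemma henselianRing_pi (I : ∀ j, Ideal (A j)) (h : ∀ j, HenselianRing (A j) (I j)) :
    HenselianRing (∀ j, A j) (⨅ j, Ideal.comap (Pi.evalRingHom A j) (I j)) := by
  have h' := fun j => (henselianRing_iff (I j)).mp (h j)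
  rw [henselianRing_iff]
  refine ⟨?_, fun f hf a₀ h0 hu => ?_⟩
  · intro x hx
    rw [mem_iInf_comap_eval] at hx
    rw [Ideal.mem_jacobson_bot]
    intro y
    rw [Pi.isUnit_iff]
    intro j
    exact Ideal.mem_jacobson_bot.mp ((h' j).1 (hx j)) (y j)
  · rw [mem_iInf_comap_eval] at h0
    rw [Pi.isUnit_iff] at hu
    have key : ∀ j, ∃ a : A j, (f.map (Pi.evalRingHom A j)).IsRoot a ∧ a - a₀ j ∈ I j := by
      intro j
      refine (h' j).2 _ (hf.map _) (a₀ j) ?_ ?_
      · rw [eval_map_evalRingHom]; exact h0 j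
      · rw [Polynomial.derivative_map, eval_map_evalRingHom]; exact hu j
    choose a ha haI using key
    refine ⟨a, ?_, ?_⟩
    · rw [Polynomial.IsRoot.def]
      funext j
      rw [← eval_map_evalRingHom]
      exact ha j
    · rw [mem_iInf_comap_eval]
      intro j
      exact haI j

/-- The auxiliary polynomial `X^n - X^(n-1)` with simple root `1`. -/
lemma aux_poly_monic {B : Type*} [CommRing B] {n : ℕ} (hn : 0 < n) :
    ((X : B[X]) ^ n - X ^ (n - 1)).Monic := by
  rcases subsingleton_or_nontrivial B with hB | hB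
  · exact Subsingleton.elim _ _
  apply (monic_X_pow n).sub_of_left
  rw [degree_X_pow, degree_X_pow]
  exact_mod_cast Nat.sub_lt hn Nat.one_pos

lemma aux_poly_natDegree_le {B : Type*} [CommRing B] {n : ℕ} :
    ((X : B[X]) ^ n - X ^ (n - 1)).natDegree ≤ n := by
  refine (natDegree_sub_le _ _).trans ?_
  refine max_le (natDegree_X_pow_le n) ((natDegree_X_pow_le (n - 1)).trans (Nat.sub_le n 1))

lemma aux_poly_eval_one {B : Type*} [CommRing B] {n : ℕ} :
    ((X : B[X]) ^ n - X ^ (n - 1)).eval 1 = 0 := by
  simp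

lemma aux_poly_derivative_eval_one {B : Type*} [CommRing B] {n : ℕ} (hn : 0 < n) :
    ((X : B[X]) ^ n - X ^ (n - 1)).derivative.eval 1 = 1 := by
  obtain ⟨m, rfl⟩ : ∃ m, n = m + 1 := ⟨n - 1, by omega⟩
  simp only [derivative_sub, derivative_X_pow, eval_sub, eval_mul, eval_pow, eval_X,
    one_pow, mul_one, Nat.add_sub_cancel, Nat.cast_add, Nat.cast_one, map_add, map_natCast,
    map_one, eval_add, eval_natCast, eval_one]
  ring

/-- If a product of pairs is Henselian then so is each factor. -/
lemma henselianRing_of_pi (I : ∀ j, Ideal (A j))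
    (h : HenselianRing (∀ j, A j) (⨅ j, Ideal.comap (Pi.evalRingHom A j) (I j))) (j : J) :
    HenselianRing (A j) (I j) := by
  classical
  rw [henselianRing_iff] at h ⊢
  have hjac : I j ≤ Ideal.jacobson ⊥ := by
    intro x hx
    rw [Ideal.mem_jacobson_bot]
    intro y
    have hX : (Pi.single j x : ∀ k, A k) ∈ (⨅ k, Ideal.comap (Pi.evalRingHom A k) (I k)) := by
      rw [mem_iInf_comap_eval]
      intro k
      by_cases hk : k = j
      · subst hk; simpa using hx
      · rw [Pi.single_eq_of_ne hk]; exact zero_mem _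
    have := Ideal.mem_jacobson_bot.mp (h.1 hX) (Pi.single j y)
    rw [Pi.isUnit_iff] at this
    simpa using this j
  refine ⟨hjac, fun f hf a₀ h0 hu => ?_⟩
  rcases Nat.eq_zero_or_pos f.natDegree with hdeg | hdeg
  · have hf1 : f = 1 := hf.natDegree_eq_zero.mp hdeg
    rw [hf1, Polynomial.eval_one] at h0
    have := subsingleton_of_one_mem_jacobson (hjac h0)
    exact ⟨a₀, Subsingleton.elim _ _, by rw [sub_self]; exact zero_mem _⟩
  set n := f.natDegree with hn
  -- the family of polynomials
  let fam : ∀ k, (A k)[X] := Function.update (fun k => (X : (A k)[X]) ^ n - X ^ (n - 1)) j f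
  have fam_j : fam j = f := Function.update_self ..
  have fam_ne : ∀ k, k ≠ j → fam k = (X : (A k)[X]) ^ n - X ^ (n - 1) := fun k hk =>
    Function.update_of_ne hk ..
  have fam_deg : ∀ k, (fam k).natDegree ≤ n := by
    intro k
    by_cases hk : k = j
    · subst hk; rw [fam_j]
    · rw [fam_ne k hk]; exact aux_poly_natDegree_le
  have fam_monic : ∀ k, (fam k).Monic := by
    intro k
    by_cases hk : k = j
    · subst hk; rw [fam_j]; exact hf
    · rw [fam_ne k hk]; exact aux_poly_monic hdeg
  have fam_coeff_n : ∀ k, (fam k).coeff n = 1 := by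
    intro k
    by_cases hk : k = j
    · subst hk; rw [fam_j]; exact hf.coeff_natDegree
    · have hm := fam_monic k
      rcases subsingleton_or_nontrivial (A k) with hB | hB
      · exact Subsingleton.elim _ _
      have hdk : (fam k).natDegree = n := by
        rw [fam_ne k hk]
        have h1 : ((X : (A k)[X]) ^ n - X ^ (n - 1)).natDegree = ((X : (A k)[X]) ^ n).natDegree := by
          apply natDegree_sub_eq_left_of_natDegree_lt
          rw [natDegree_X_pow, natDegree_X_pow]
          exact Nat.sub_lt hdeg Nat.one_pos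
        rw [h1, natDegree_X_pow]
      rw [← hdk]; exact hm.coeff_natDegree
  let F : (∀ k, A k)[X] := ∑ i ∈ Finset.range (n + 1), monomial i (fun k => (fam k).coeff i)
  have F_map : ∀ k, F.map (Pi.evalRingHom A k) = fam k := by
    intro k
    simp only [F, Polynomial.map_sum, Polynomial.map_monomial, Pi.evalRingHom_apply]
    exact (Polynomial.as_sum_range' (fam k) (n + 1) (Nat.lt_succ_of_le (fam_deg k))).symm
  have F_deg : F.natDegree ≤ n := by
    apply natDegree_sum_le_of_forall_le
    intro i hi
    exact (natDegree_monomial_le _).trans (Nat.lt_succ_iff.mp (Finset.mem_range.mp hi))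
  have F_coeff : F.coeff n = 1 := by
    funext k
    have : (F.map (Pi.evalRingHom A k)).coeff n = 1 := by rw [F_map]; exact fam_coeff_n k
    rw [Polynomial.coeff_map] at this
    exact this
  have F_monic : F.Monic := monic_of_natDegree_le_of_coeff_eq_one n F_deg F_coeff
  let b₀ : ∀ k, A k := Function.update (fun _ => 1) j a₀
  have b₀_j : b₀ j = a₀ := Function.update_self ..
  have b₀_ne : ∀ k, k ≠ j → b₀ k = 1 := fun k hk => Function.update_of_ne hk ..
  have hF0 : F.eval b₀ ∈ (⨅ k, Ideal.comap (Pi.evalRingHom A k) (I k)) := by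
    rw [mem_iInf_comap_eval]
    intro k
    rw [← eval_map_evalRingHom, F_map]
    by_cases hk : k = j
    · subst hk; rw [fam_j, b₀_j]; exact h0
    · rw [fam_ne k hk, b₀_ne k hk, aux_poly_eval_one]; exact zero_mem _
  have hFu : IsUnit (F.derivative.eval b₀) := by
    rw [Pi.isUnit_iff]
    intro k
    rw [← eval_map_evalRingHom, ← Polynomial.derivative_map, F_map]
    by_cases hk : k = j
    · subst hk; rw [fam_j, b₀_j]; exact hu
    · rw [fam_ne k hk, b₀_ne k hk, aux_poly_derivative_eval_one hdeg]; exact isUnit_one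
  obtain ⟨a, ha, haK⟩ := h.2 F F_monic b₀ hF0 hFu
  refine ⟨a j, ?_, ?_⟩
  · rw [Polynomial.IsRoot.def, ← fam_j, ← F_map, eval_map_evalRingHom, ha.eq_zero]; rfl
  · rw [mem_iInf_comap_eval] at haK
    have := haK j
    rwa [Pi.sub_apply, b₀_j] at this

end Groth.Agent.Lib.helper2
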