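import Mathlib
import Groth.Agent.S2119

/-!
# `R[1/s] ≅ R_(s)[T, T⁻¹]` for `s` homogeneous of degree one in a graded domain (helper2)

and: a Noetherian graded domain `R` with a prime element `s` of degree one whose homogeneous
localization `R_(s)` is a UFD is itself a UFD (Nagata).
-/

set_option autoImplicit false
universe u v

namespace Groth.Agent.Lib.helper2.HomLocLaurent

open Polynomial HomogeneousLocalization

variable {R : Type u} [CommRing R] [IsDomain R] {σ : Type v} [SetLike σ R] [AddSubgroupClass σ R]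
  (𝒜 : ℕ → σ) [GradedRing 𝒜] {s : R} (hs : s ∈ 𝒜 1)

/-- graded independence -/
lemma eq_zero_of_sum_eq_zero (F : Finset ℕ) (x : ℕ → R) (f : ℕ → ℕ)
    (hf : Set.InjOn f F) (hx : ∀ d ∈ F, x d ∈ 𝒜 (f d)) (hsum : ∑ d ∈ F, x d = 0) :
    ∀ d ∈ F, x d = 0 := by
  classical
  intro d₀ hd₀
  have h1 := congrArg (GradedRing.proj 𝒜 (f d₀)) hsum
  rw [map_sum, map_zero] at h1
  rw [Finset.sum_eq_single_of_mem d₀ hd₀] at h1
  · rwa [GradedRing.proj_apply, DirectSum.decompose_of_mem_same 𝒜 (hx d₀ hd₀)] at h1
  · intro d hd hne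
    rw [GradedRing.proj_apply, DirectSum.decompose_of_mem_ne 𝒜 (hx d hd)]
    intro h
    exact hne (hf hd hd₀ h)

/-- the evaluation map `R_(s)[X] → R[1/s]`, `X ↦ s`. -/
noncomputable def ev : (Away 𝒜 s)[X] →+* Localization.Away s :=
  Polynomial.eval₂RingHom (algebraMap (Away 𝒜 s) (Localization.Away s))
    (algebraMap R (Localization.Away s) s)

lemma val_mul_pow {k : ℕ} (r : R) (hr : r ∈ 𝒜 (k • 1)) :
    (Away.mk 𝒜 hs k r hr).val * (algebraMap R (Localization.Away s) s) ^ k =
      algebraMap R (Localization.Away s) r := by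
  rw [Away.val_mk, Localization.mk_eq_mk', ← map_pow]
  exact IsLocalization.mk'_spec _ r (⟨s ^ k, k, rfl⟩ : Submonoid.powers s)

include hs in
lemma ev_injective (hs0 : s ≠ 0) (p : (Away 𝒜 s)[X]) (hp : ev 𝒜 p = 0) : p = 0 := by
  classical
  choose k r hr hkr using fun a : Away 𝒜 s => Away.mk_surjective 𝒜 hs a
  set M := p.support.sup (fun d => k (p.coeff d)) with hM
  have hkM : ∀ d ∈ p.support, k (p.coeff d) ≤ M := fun d hd =>
    Finset.le_sup (f := fun d => k (p.coeff d)) hd
  set S := algebraMap R (Localization.Away s) s with hS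
  let x : ℕ → R := fun d => r (p.coeff d) * s ^ (M - k (p.coeff d) + d)
  have hxmem : ∀ d ∈ p.support, x d ∈ 𝒜 (M + d) := by
    intro d hd
    have h1 : s ^ (M - k (p.coeff d) + d) ∈ 𝒜 ((M - k (p.coeff d) + d) • 1) :=
      SetLike.pow_mem_graded _ hs
    have h2 := SetLike.mul_mem_graded (hr (p.coeff d)) h1
    have h3 : k (p.coeff d) • 1 + (M - k (p.coeff d) + d) • 1 = M + d := by
      have := hkM d hd
      simp only [smul_eq_mul, mul_one]
      omega
    rw [h3] at h2
    exact h2
  have hxmap : ∀ d ∈ p.support, algebraMap R (Localization.Away s) (x d) =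
      S ^ M * ((p.coeff d).val * S ^ d) := by
    intro d hd
    have h1 := val_mul_pow 𝒜 hs (r (p.coeff d)) (hr (p.coeff d))
    rw [hkr] at h1
    have h2 : S ^ M = S ^ (M - k (p.coeff d)) * S ^ (k (p.coeff d)) := by
      rw [← pow_add, Nat.sub_add_cancel (hkM d hd)]
    simp only [x]
    rw [map_mul, map_pow, ← h1, h2, pow_add]
    ring
  have hsum : ∑ d ∈ p.support, x d = 0 := by
    have hinj : Function.Injective (algebraMap R (Localization.Away s)) :=
      IsLocalization.injective _ (powers_le_nonZeroDivisors_of_noZeroDivisors hs0)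
    apply hinj
    rw [map_sum, map_zero, Finset.sum_congr rfl hxmap, ← Finset.mul_sum]
    have h3 : ∑ d ∈ p.support, (p.coeff d).val * S ^ d = ev 𝒜 p := by
      simp only [ev, Polynomial.coe_eval₂RingHom, Polynomial.eval₂_eq_sum, Polynomial.sum_def,
        HomogeneousLocalization.algebraMap_apply, hS]
    rw [h3, hp, mul_zero]
  have hx0 := eq_zero_of_sum_eq_zero 𝒜 p.support x (fun d => M + d)
    (fun a _ b _ h => by simpa using h) hxmem hsum
  ext d
  by_cases hd : d ∈ p.support
  · have h1 := hx0 d hd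
    simp only [x] at h1
    have h2 : r (p.coeff d) = 0 := by
      rcases mul_eq_zero.1 h1 with h | h
      · exact h
      · exact absurd (eq_zero_of_pow_eq_zero h) hs0
    rw [Polynomial.coeff_zero, ← hkr (p.coeff d)]
    rw [Away.val_mk, HomogeneousLocalization.val_zero]
    simp only [h2]
    exact Localization.mk_zero _
  · rw [Polynomial.notMem_support_iff.1 hd, Polynomial.coeff_zero]

lemma isUnit_ev_X : IsUnit (ev 𝒜 (X : (Away 𝒜 s)[X])) := by
  simp only [ev, Polynomial.coe_eval₂RingHom, Polynomial.eval₂_X]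
  exact IsLocalization.map_units (Localization.Away s) (⟨s, 1, pow_one s⟩ : Submonoid.powers s)

/-- the map `R_(s)[X, X⁻¹] → R[1/s]`. -/
noncomputable def psi : Localization.Away (X : (Away 𝒜 s)[X]) →+* Localization.Away s :=
  IsLocalization.Away.lift (X : (Away 𝒜 s)[X]) (isUnit_ev_X 𝒜)

lemma psi_algebraMap (p : (Away 𝒜 s)[X]) :
    psi 𝒜 (algebraMap _ (Localization.Away (X : (Away 𝒜 s)[X])) p) = ev 𝒜 p :=
  IsLocalization.Away.lift_eq _ _ _

include hs in
lemma psi_injective (hs0 : s ≠ 0) : Function.Injective (psi 𝒜 (s := s)) := by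
  rw [injective_iff_map_eq_zero]
  intro z hz
  obtain ⟨p, m, rfl⟩ := IsLocalization.exists_mk'_eq (Submonoid.powers (X : (Away 𝒜 s)[X])) z
  have h1 : psi 𝒜 (IsLocalization.mk' (Localization.Away (X : (Away 𝒜 s)[X])) p m) *
      psi 𝒜 (algebraMap (Away 𝒜 s)[X] (Localization.Away (X : (Away 𝒜 s)[X])) m) = ev 𝒜 p := by
    rw [← map_mul, ← psi_algebraMap]
    congr 1
    exact IsLocalization.mk'_spec _ p m
  rw [hz, zero_mul] at h1
  have hp := ev_injective 𝒜 hs hs0 p h1.symm
  rw [hp, IsLocalization.mk'_zero]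

include hs in
lemma psi_surjective : Function.Surjective (psi 𝒜 (s := s)) := by
  classical
  rw [← RingHom.range_eq_top, eq_top_iff]
  intro z _
  set S := algebraMap R (Localization.Away s) s with hS
  have hS_mem : S ∈ (psi 𝒜 (s := s)).range := by
    refine ⟨algebraMap (Away 𝒜 s)[X] (Localization.Away (X : (Away 𝒜 s)[X])) X, ?_⟩
    rw [psi_algebraMap]
    simp [ev, hS]
  have hSinv : ∀ n : ℕ, IsLocalization.mk' (Localization.Away s) (1 : R)
      (⟨s ^ n, n, rfl⟩ : Submonoid.powers s) ∈ (psi 𝒜 (s := s)).range := by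
    intro n
    refine ⟨IsLocalization.mk' _ (1 : (Away 𝒜 s)[X])
      (⟨X ^ n, n, rfl⟩ : Submonoid.powers (X : (Away 𝒜 s)[X])), ?_⟩
    have hu : IsUnit (S ^ n) := by
      rw [hS, ← map_pow]
      exact IsLocalization.map_units (Localization.Away s) (⟨s ^ n, n, rfl⟩ : Submonoid.powers s)
    apply hu.mul_left_injective
    have h1 : psi 𝒜 (IsLocalization.mk' (Localization.Away (X : (Away 𝒜 s)[X])) (1 : (Away 𝒜 s)[X])
        (⟨X ^ n, n, rfl⟩ : Submonoid.powers (X : (Away 𝒜 s)[X]))) * S ^ n = 1 := by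
      have h2 : S ^ n = psi 𝒜 (algebraMap (Away 𝒜 s)[X] (Localization.Away (X : (Away 𝒜 s)[X])) (X ^ n)) := by
        rw [psi_algebraMap]; simp [ev, hS]
      rw [h2, ← map_mul]
      have := IsLocalization.mk'_spec (Localization.Away (X : (Away 𝒜 s)[X])) (1 : (Away 𝒜 s)[X])
        (⟨X ^ n, n, rfl⟩ : Submonoid.powers (X : (Away 𝒜 s)[X]))
      rw [this, map_one, map_one]
    have h3 : IsLocalization.mk' (Localization.Away s) (1 : R)
        (⟨s ^ n, n, rfl⟩ : Submonoid.powers s) * S ^ n = 1 := by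
      have := IsLocalization.mk'_spec (Localization.Away s) (1 : R)
        (⟨s ^ n, n, rfl⟩ : Submonoid.powers s)
      rw [hS, ← map_pow]
      rw [this, map_one]
    simp only
    rw [h1, h3]
  have hR : ∀ r : R, algebraMap R (Localization.Away s) r ∈ (psi 𝒜 (s := s)).range := by
    intro r
    induction r using DirectSum.Decomposition.inductionOn 𝒜 with
    | zero => rw [map_zero]; exact Subring.zero_mem _
    | @homogeneous i m =>
      have hm : (m : R) ∈ 𝒜 (i • 1) := by simp
      rw [← val_mul_pow 𝒜 hs (m : R) hm]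
      refine Subring.mul_mem _ ?_ (Subring.pow_mem _ hS_mem _)
      refine ⟨algebraMap (Away 𝒜 s)[X] (Localization.Away (X : (Away 𝒜 s)[X]))
        (C (Away.mk 𝒜 hs i (m : R) hm)), ?_⟩
      rw [psi_algebraMap]
      simp [ev]
    | add a b ha hb => rw [map_add]; exact Subring.add_mem _ ha hb
  obtain ⟨r, m, rfl⟩ := IsLocalization.exists_mk'_eq (Submonoid.powers s) z
  obtain ⟨n, hn⟩ := m.2
  have hm : m = (⟨s ^ n, n, rfl⟩ : Submonoid.powers s) := Subtype.ext hn.symm
  rw [IsLocalization.mk'_eq_mul_mk'_one, hm]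
  exact Subring.mul_mem _ (hR r) (hSinv n)

include hs in
/-- `R[1/s]` is a UFD if `R_(s)` is. -/
theorem ufd_away (hs0 : s ≠ 0) [UniqueFactorizationMonoid (Away 𝒜 s)] :
    UniqueFactorizationMonoid (Localization.Away s) := by
  haveI : IsDomain (Localization.Away s) :=
    IsLocalization.isDomain_localization (powers_le_nonZeroDivisors_of_noZeroDivisors hs0)
  haveI : IsDomain (Away 𝒜 s) := by
    refine Function.Injective.isDomain (algebraMap (Away 𝒜 s) (Localization.Away s)) ?_
    intro a b h
    exact HomogeneousLocalization.val_injective _ (by simpa using h)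
  let e : Localization.Away (X : (Away 𝒜 s)[X]) ≃+* Localization.Away s :=
    RingEquiv.ofBijective (psi 𝒜) ⟨psi_injective 𝒜 hs hs0, psi_surjective 𝒜 hs⟩
  exact e.toMulEquiv.uniqueFactorizationMonoid inferInstance

include hs in
/-- Nagata: a Noetherian graded domain with a prime element `s` of degree one such that `R_(s)` is a
UFD is a UFD. -/
theorem ufd_of_away [IsNoetherianRing R] (hp : Prime s)
    (h : UniqueFactorizationMonoid (Away 𝒜 s)) : UniqueFactorizationMonoid R := by
  have hs0 : s ≠ 0 := hp.ne_zero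
  have hL := ufd_away 𝒜 hs hs0
  have hcl : Submonoid.closure ({s} : Set R) = Submonoid.powers s :=
    (Submonoid.powers_eq_closure s).symm
  haveI : IsDomain (Localization (Submonoid.closure ({s} : Set R))) := by
    rw [hcl]
    exact IsLocalization.isDomain_localization (powers_le_nonZeroDivisors_of_noZeroDivisors hs0)
  refine Groth.Agent.S2119.result (fun a ha _ => WfDvdMonoid.exists_factors a ha) {s}
    (by rintro _ rfl; exact hp) ?_
  have key : ∀ (T : Submonoid R), T = Submonoid.powers s →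
      UniqueFactorizationMonoid (Localization T) := by
    rintro T rfl
    exact hL
  exact key _ hcl

end Groth.Agent.Lib.helper2.HomLocLaurent
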