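import Mathlib
import Groth.Agent.Lib.Helper2.Hartogs7
import Groth.Agent.Lib.Helper2.Hartogs5
import Groth.Agent.Lib.Helper2.ModSec3
import Groth.Agent.Lib.Helper24.SerreNormal4

/-!
# Restriction of homomorphisms into the structure sheaf (helper2, S17476)
-/

set_option autoImplicit false
universe u

open AlgebraicGeometry TopologicalSpace CategoryTheory Opposite ZClos
open Groth.Agent.Lib.helper26.Depth

namespace Groth.Agent.Lib.helper2.HomRes

theorem res_res {X : Scheme.{u}} {U V W : X.Opens} (i : V ⟶ U) (j : W ⟶ V) (k : W ⟶ U)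
    (x : Γ(X, U)) :
    X.presheaf.map j.op (X.presheaf.map i.op x) = X.presheaf.map k.op x := by
  rw [← CommRingCat.comp_apply, ← Functor.map_comp, ← op_comp]
  rfl

theorem eq_zero_of_res_eq_zero {X : Scheme.{u}} [IsAffine X] (U : X.Opens) (hUc : IsCompact U.1)
    (hinj : Function.Injective (X.presheaf.map (homOfLE (le_top : U ≤ ⊤)).op))
    (f : Γ(X, ⊤)) (W : X.Opens) (hWV : W ≤ X.basicOpen f) (hW : X.basicOpen f ⊓ U ≤ W)
    (a : Γ(X, X.basicOpen f)) (ha : X.presheaf.map (homOfLE hWV).op a = 0) : a = 0 := by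
  haveI := (isAffineOpen_top X).isLocalization_basicOpen f
  obtain ⟨⟨b, ⟨_, n, rfl⟩⟩, hb⟩ := IsLocalization.surj (Submonoid.powers f) a
  dsimp only at hb
  set g := X.presheaf.map (homOfLE (le_top : U ≤ ⊤)).op f with hg
  set s := X.presheaf.map (homOfLE (le_top : U ≤ ⊤)).op b with hs
  have hgo : X.basicOpen g = U ⊓ X.basicOpen f := Scheme.basicOpen_res _ _ _
  have hle : X.basicOpen g ≤ W := by rw [hgo, inf_comm]; exact hW
  have h1 : X.presheaf.map (homOfLE (X.basicOpen_le g)).op s = 0 := by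
    have e1 : X.presheaf.map (homOfLE (X.basicOpen_le g)).op s =
        X.presheaf.map (homOfLE hle).op (X.presheaf.map (homOfLE hWV).op
          (algebraMap Γ(X, ⊤) Γ(X, X.basicOpen f) b)) := by
      rw [hs, res_res _ _ (homOfLE (le_top : X.basicOpen g ≤ ⊤))]
      show _ = X.presheaf.map (homOfLE hle).op (X.presheaf.map (homOfLE hWV).op
          (X.presheaf.map (homOfLE (le_top : X.basicOpen f ≤ ⊤)).op b))
      rw [res_res _ _ (homOfLE (le_top : W ≤ ⊤)), res_res _ _ (homOfLE (le_top : X.basicOpen g ≤ ⊤))]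
    rw [e1, ← hb, map_mul, ha, zero_mul, map_zero]
  obtain ⟨k, hk⟩ := exists_pow_mul_eq_zero_of_res_basicOpen_eq_zero_of_isCompact X hUc s g h1
  have h2 : f ^ k * b = 0 := by
    apply hinj
    rw [map_mul, map_pow, map_zero]; exact hk
  have h3 : algebraMap Γ(X, ⊤) Γ(X, X.basicOpen f) b = 0 := by
    have hu : IsUnit (algebraMap Γ(X, ⊤) Γ(X, X.basicOpen f) (f ^ k)) :=
      IsLocalization.map_units _ (⟨f ^ k, k, rfl⟩ : Submonoid.powers f)
    have := congrArg (algebraMap Γ(X, ⊤) Γ(X, X.basicOpen f)) h2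
    rw [map_mul, map_zero] at this
    exact (hu.mul_right_eq_zero).mp this
  rw [h3] at hb
  have hu : IsUnit (algebraMap Γ(X, ⊤) Γ(X, X.basicOpen f) (f ^ n)) :=
    IsLocalization.map_units _ (⟨f ^ n, n, rfl⟩ : Submonoid.powers f)
  exact (hu.mul_left_eq_zero).mp hb

theorem mono_resPushUnit_structure {X : Scheme.{u}} [IsAffine X] (U : X.Opens)
    (hUc : IsCompact U.1)
    (hinj : Function.Injective (X.presheaf.map (homOfLE (le_top : U ≤ ⊤)).op)) :
    Mono ((resPushUnit U).app (Coh.structureModule X)) := by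
  apply ModSec.mono_of_injective_basis _ (Set.range (X.basicOpen : Γ(X, ⊤) → X.Opens))
    (isBasis_basicOpen X)
  rintro _ ⟨f, rfl⟩
  rw [resPushUnit_app_app]
  rw [injective_iff_map_eq_zero]
  intro a ha
  exact eq_zero_of_res_eq_zero U hUc hinj f _ (U.ι.image_preimage_le (X.basicOpen f))
    (by rw [ZClosLib.image_preimage_eq' U (X.basicOpen f)]) a ha

/-- if the unit of an adjunction at `E` is a monomorphism, the left adjoint is injective on
morphisms into `E` -/
theorem injective_map_of_mono_unit {C D : Type*} [Category C] [Category D] {L : C ⥤ D} {R : D ⥤ C}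
    (adj : L ⊣ R) (F E : C) [Mono (adj.unit.app E)] :
    Function.Injective (fun φ : F ⟶ E => L.map φ) := by
  intro φ ψ h
  have h1 : φ ≫ adj.unit.app E = ψ ≫ adj.unit.app E := by
    have e : ∀ χ : F ⟶ E, χ ≫ adj.unit.app E = adj.homEquiv F (L.obj E) (L.map χ) := by
      intro χ
      simp [Adjunction.homEquiv_unit]
    rw [e φ, e ψ]
    exact congrArg _ h
  exact (cancel_mono (adj.unit.app E)).1 h1

end Groth.Agent.Lib.helper2.HomRes
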