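import Groth.Agent.Lib.Helper22.IntegralRing

/-!
# Invariant covers for a coaction with a total integral (helper2)

Ring-level input for the categorical quotient `Spec B → Spec B^A` (S12924):
* `reyAux_mem_of_mem_map`: the Reynolds functional maps `b (B ⊗ A)` into `b`.
* `iSup_comap_eq_top`: if ideals `b i` of `B` generate the unit ideal and are set-theoretically
  invariant (`ρ (b i) ⊆ rad (b i ⊗ A)`), then the ideals `b i ∩ B^A` generate the unit ideal of `B^A`.
* `mem_range_of_coact_eq`: invariants commute with localisation at an invariant element.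
* `exists_factor`: factoring a ring hom through an injective one.
* `comap_surjective_of_away`: surjectivity on spectra passes to localisations away from an element.
-/

set_option autoImplicit false
universe u v w
open TensorProduct

namespace Groth.Agent.Lib.helper2.HopfQuot

open Groth.Agent.Lib.helper22.Integral

section Ring

variable {k : Type u} [CommRing k] {A : Type v} [CommRing A] [HopfAlgebra k A]
variable {B : Type w} [CommRing B] [Algebra k B] [HopfRep.Comod k A B] [GLin.IsCoactAlg k A B]

local notation "ρ" => HopfRep.Comod.coact (k := k) (A := A)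

omit [HopfRep.Comod k A B] [GLin.IsCoactAlg k A B] in
/-- `reyAux α` maps the extension of an ideal `b` of `B` to `B ⊗ A` into `b`. -/
theorem reyAux_mem_of_mem_map (α : A →ₗ[k] B) (b : Ideal B) (y : B ⊗[k] A)
    (hy : y ∈ b.map (Algebra.TensorProduct.includeLeftRingHom : B →+* B ⊗[k] A)) :
    reyAux α y ∈ b := by
  have key : ∀ y ∈ b.map (Algebra.TensorProduct.includeLeftRingHom : B →+* B ⊗[k] A),
      ∀ z : B ⊗[k] A, reyAux α (z * y) ∈ b := by
    intro y hy
    induction hy using Submodule.span_induction with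
    | mem y hy =>
      obtain ⟨x, hx, rfl⟩ := hy
      intro z
      induction z using TensorProduct.induction_on with
      | zero => simp
      | tmul b' a' =>
        simp only [Algebra.TensorProduct.includeLeftRingHom_apply,
          Algebra.TensorProduct.tmul_mul_tmul, mul_one, reyAux_tmul]
        exact b.mul_mem_left _ (b.mul_mem_left _ hx)
      | add z₁ z₂ h₁ h₂ => rw [add_mul, map_add]; exact b.add_mem h₁ h₂
    | zero => intro z; simp
    | add y z _ _ hy hz => intro w; rw [mul_add, map_add]; exact b.add_mem (hy w) (hz w)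
    | smul a y _ hy => intro w; rw [smul_eq_mul, ← mul_assoc]; exact hy (w * a)
  simpa using key y hy 1

/-- Ideals `b i` of `B` generating the unit ideal, each set-theoretically invariant under the
coaction, have contractions to the invariants generating the unit ideal. -/
theorem iSup_comap_eq_top (α : A →ₗ[k] B) (hα : Hoch.IsComodHom A α) (hα1 : α 1 = 1)
    {ι : Type*} (b : ι → Ideal B) (htop : ⨆ i, b i = ⊤)
    (hinv : ∀ i, ∀ x ∈ b i, (ρ : B →ₗ[k] B ⊗[k] A) x ∈
      ((b i).map (Algebra.TensorProduct.includeLeftRingHom : B →+* B ⊗[k] A)).radical) :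
    ⨆ i, (b i).comap (algebraMap (GLin.invariants k A B) B) = ⊤ := by
  let ρa : B →+* B ⊗[k] A := (GLin.coactAlgHom k A B).toRingHom
  let b' : ι → Ideal B := fun i =>
    ((b i).map (Algebra.TensorProduct.includeLeftRingHom : B →+* B ⊗[k] A)).comap ρa
  have h1 : ∀ i, b i ≤ (b' i).radical := by
    intro i x hx
    obtain ⟨n, hn⟩ := hinv i x hx
    refine ⟨n, ?_⟩
    show ρa (x ^ n) ∈ (b i).map (Algebra.TensorProduct.includeLeftRingHom : B →+* B ⊗[k] A)
    rw [map_pow]
    exact hn
  have h2 : ⨆ i, b' i = ⊤ := by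
    by_contra hne
    obtain ⟨m, hm, hle⟩ := Ideal.exists_le_maximal _ hne
    have hm' : (⊤ : Ideal B) ≤ m := by
      rw [← htop]
      refine iSup_le fun i => ?_
      refine (h1 i).trans ?_
      have hb : b' i ≤ m := (le_iSup b' i).trans hle
      calc (b' i).radical ≤ m.radical := Ideal.radical_mono hb
        _ = m := hm.isPrime.radical
    exact hm.ne_top (top_le_iff.mp hm')
  have h3 : (1 : B) ∈ ⨆ i, b' i := by rw [h2]; trivial
  rw [Submodule.mem_iSup_iff_exists_finsupp] at h3
  obtain ⟨x, hx, hsum⟩ := h3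
  have hone : rey α (1 : B) = 1 :=
    rey_of_mem α hα1 1 (GLin.invariants k A B).one_mem
  rw [Ideal.eq_top_iff_one]
  have hmem : ∀ i, (⟨rey α (x i), rey_mem α hα (x i)⟩ : GLin.invariants k A B) ∈
      (b i).comap (algebraMap (GLin.invariants k A B) B) := by
    intro i
    rw [Ideal.mem_comap]
    show rey α (x i) ∈ b i
    rw [rey_apply]
    exact reyAux_mem_of_mem_map α (b i) _ (hx i)
  have hsum' : (1 : GLin.invariants k A B) =
      ∑ i ∈ x.support, (⟨rey α (x i), rey_mem α hα (x i)⟩ : GLin.invariants k A B) := by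
    apply Subtype.ext
    rw [← Subalgebra.val_apply, ← Subalgebra.val_apply (GLin.invariants k A B) (∑ i ∈ x.support, _),
      map_sum]
    simp only [Subalgebra.val_apply]
    show (1 : B) = _
    rw [← hone, ← hsum, Finsupp.sum, map_sum]
  rw [hsum']
  exact Ideal.sum_mem _ fun i _ => Ideal.mem_iSup_of_mem i (hmem i)

/-- Invariants commute with localisation at an invariant element `f`: an element of `B_f` on which
the two localised maps `B_f → (B ⊗ A)_{f ⊗ 1}` agree comes from `(B^A)_f`. -/
theorem mem_range_of_coact_eq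
    (f : GLin.invariants k A B)
    {Bf : Type*} [CommRing Bf] [Algebra B Bf] [IsLocalization.Away (f : B) Bf]
    {Cf : Type*} [CommRing Cf] [Algebra (GLin.invariants k A B) Cf] [IsLocalization.Away f Cf]
    {L : Type*} [CommRing L] [Algebra (B ⊗[k] A) L]
    [IsLocalization.Away ((f : B) ⊗ₜ[k] (1 : A) : B ⊗[k] A) L]
    (ιf : Cf →+* Bf)
    (hι : ιf.comp (algebraMap _ Cf) = (algebraMap B Bf).comp (algebraMap (GLin.invariants k A B) B))
    (ρf inclf : Bf →+* L)
    (hρf : ρf.comp (algebraMap B Bf) =
      (algebraMap (B ⊗[k] A) L).comp (GLin.coactAlgHom k A B).toRingHom)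
    (hinclf : inclf.comp (algebraMap B Bf) =
      (algebraMap (B ⊗[k] A) L).comp Algebra.TensorProduct.includeLeftRingHom)
    (t : Bf) (ht : ρf t = inclf t) : t ∈ ιf.range := by
  have hf : (ρ : B →ₗ[k] B ⊗[k] A) (f : B) = (f : B) ⊗ₜ[k] (1 : A) := f.2
  obtain ⟨n, b, hb⟩ := IsLocalization.Away.surj (f : B) t
  have e1 : ρf t * algebraMap (B ⊗[k] A) L ((f : B) ⊗ₜ[k] (1 : A)) ^ n =
      algebraMap (B ⊗[k] A) L ((ρ : B →ₗ[k] B ⊗[k] A) b) := by
    have := congrArg ρf hb
    rw [map_mul, map_pow] at this
    have h1 : ρf (algebraMap B Bf (f : B)) = algebraMap (B ⊗[k] A) L ((f : B) ⊗ₜ[k] (1 : A)) := by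
      have := RingHom.congr_fun hρf (f : B)
      simp only [RingHom.comp_apply] at this
      rw [this]
      show algebraMap (B ⊗[k] A) L ((ρ : B →ₗ[k] B ⊗[k] A) (f : B)) = _
      rw [hf]
    have h2 : ρf (algebraMap B Bf b) = algebraMap (B ⊗[k] A) L ((ρ : B →ₗ[k] B ⊗[k] A) b) := by
      have := RingHom.congr_fun hρf b
      simp only [RingHom.comp_apply] at this
      exact this
    rw [h1, h2] at this
    exact this
  have e2 : inclf t * algebraMap (B ⊗[k] A) L ((f : B) ⊗ₜ[k] (1 : A)) ^ n =
      algebraMap (B ⊗[k] A) L (b ⊗ₜ[k] (1 : A)) := by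
    have := congrArg inclf hb
    rw [map_mul, map_pow] at this
    have h1 : inclf (algebraMap B Bf (f : B)) =
        algebraMap (B ⊗[k] A) L ((f : B) ⊗ₜ[k] (1 : A)) := by
      have := RingHom.congr_fun hinclf (f : B)
      simp only [RingHom.comp_apply] at this
      exact this
    have h2 : inclf (algebraMap B Bf b) = algebraMap (B ⊗[k] A) L (b ⊗ₜ[k] (1 : A)) := by
      have := RingHom.congr_fun hinclf b
      simp only [RingHom.comp_apply] at this
      exact this
    rw [h1, h2] at this
    exact this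
  have e3 : algebraMap (B ⊗[k] A) L ((ρ : B →ₗ[k] B ⊗[k] A) b) =
      algebraMap (B ⊗[k] A) L (b ⊗ₜ[k] (1 : A)) := by
    rw [← e1, ← e2, ht]
  obtain ⟨⟨c, m, rfl⟩, hc⟩ :=
    (IsLocalization.eq_iff_exists (Submonoid.powers ((f : B) ⊗ₜ[k] (1 : A) : B ⊗[k] A)) L).mp e3
  simp only at hc
  -- `f ^ m * b` is invariant
  have hinvt : (f : B) ^ m * b ∈ GLin.invariants k A B := by
    rw [GLin.mem_invariants_iff, GLin.IsCoactAlg.coact_mul (k := k) (A := A)]
    have hpow : (ρ : B →ₗ[k] B ⊗[k] A) ((f : B) ^ m) = ((f : B) ⊗ₜ[k] (1 : A)) ^ m := by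
      have := map_pow (GLin.coactAlgHom k A B) (f : B) m
      simp only [GLin.coactAlgHom_apply] at this
      rw [this, hf]
    rw [hpow, hc, Algebra.TensorProduct.tmul_pow, one_pow, Algebra.TensorProduct.tmul_mul_tmul,
      one_mul]
  -- the preimage
  have hunit : IsUnit (algebraMap B Bf (f : B)) := IsLocalization.Away.algebraMap_isUnit (f : B)
  have hunitC : IsUnit (algebraMap (GLin.invariants k A B) Cf f) :=
    IsLocalization.Away.algebraMap_isUnit f
  obtain ⟨uC, huC⟩ := hunitC
  refine ⟨algebraMap (GLin.invariants k A B) Cf ⟨_, hinvt⟩ * ((uC⁻¹ : Cfˣ) : Cf) ^ (n + m), ?_⟩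
  have hιf : ιf (algebraMap _ Cf f) = algebraMap B Bf (f : B) := by
    have := RingHom.congr_fun hι f
    simp only [RingHom.comp_apply] at this
    exact this
  have hιc : ιf (algebraMap (GLin.invariants k A B) Cf ⟨_, hinvt⟩) =
      algebraMap B Bf ((f : B) ^ m * b) := by
    have := RingHom.congr_fun hι ⟨_, hinvt⟩
    simp only [RingHom.comp_apply] at this
    exact this
  have hcancel : ∀ z z' : Bf, z * algebraMap B Bf (f : B) ^ (n + m) =
      z' * algebraMap B Bf (f : B) ^ (n + m) → z = z' := by
    intro z z' h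
    exact (hunit.pow (n + m)).mul_left_injective h
  have hu : ιf (((uC⁻¹ : Cfˣ) : Cf) ^ (n + m)) * algebraMap B Bf (f : B) ^ (n + m) = 1 := by
    rw [← hιf, ← map_pow, ← map_mul, ← mul_pow, ← huC, Units.inv_mul, one_pow, map_one]
  apply hcancel
  rw [map_mul, mul_assoc, hu, mul_one, hιc, pow_add, ← mul_assoc, hb, map_mul, map_pow]
  ring

omit [HopfRep.Comod k A B] [GLin.IsCoactAlg k A B] in
/-- Factoring a ring hom through an injective ring hom containing its image. -/
theorem exists_factor {R S T : Type*} [CommRing R] [CommRing S] [CommRing T]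
    (j : S →+* T) (hj : Function.Injective j) (θ : R →+* T) (h : ∀ r, θ r ∈ j.range) :
    ∃ θ' : R →+* S, j.comp θ' = θ := by
  have hinj : Function.Injective j.rangeRestrict := by
    intro a b hab
    exact hj (congrArg Subtype.val hab)
  let e : S ≃+* j.range := RingEquiv.ofBijective j.rangeRestrict
    ⟨hinj, j.rangeRestrict_surjective⟩
  refine ⟨e.symm.toRingHom.comp (θ.codRestrict j.range h), ?_⟩
  ext r
  simp only [RingHom.comp_apply, RingEquiv.toRingHom_eq_coe, RingHom.coe_coe]
  have : e (e.symm (θ.codRestrict j.range h r)) = θ.codRestrict j.range h r :=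
    e.apply_symm_apply _
  have h2 := congrArg Subtype.val this
  exact h2

end Ring

end Groth.Agent.Lib.helper2.HopfQuot
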