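import Mathlib

/-!
# Morphisms out of affine schemes: factorisation through affine opens, an epimorphism criterion,
and gluing along a multiplicatively saturated family of basic opens (helper2)
-/

set_option autoImplicit false
universe u
open CategoryTheory AlgebraicGeometry

namespace Groth.Agent.Lib.helper2.HopfQuot

/-- A morphism from an affine scheme into an affine open `V` of `Z` is `Spec.map α ≫ hV.fromSpec`. -/
theorem exists_SpecMap_fromSpec {Z : Scheme.{u}} {V : Z.Opens} (hV : IsAffineOpen V)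
    {R : CommRingCat.{u}} (h : Spec R ⟶ Z) (hh : ∀ x, h x ∈ V) :
    ∃ α : Γ(Z, V) ⟶ R, h = Spec.map α ≫ hV.fromSpec := by
  have hr : Set.range h ⊆ Set.range hV.fromSpec := by
    rw [hV.range_fromSpec]
    rintro _ ⟨x, rfl⟩
    exact hh x
  refine ⟨Spec.preimage (IsOpenImmersion.lift hV.fromSpec h hr), ?_⟩
  rw [Spec.map_preimage, IsOpenImmersion.lift_fac]

theorem range_SpecMap_away {R : CommRingCat.{u}} (g : R) :
    Set.range (Spec.map (CommRingCat.ofHom (algebraMap R (Localization.Away g)))) =
      (PrimeSpectrum.basicOpen g : Set (PrimeSpectrum R)) :=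
  PrimeSpectrum.localization_away_comap_range (Localization.Away g) g

/-- The open cover of `Spec R` by the `Spec R_g`, `g ∈ S`, for a set `S` generating the unit
ideal. -/
noncomputable def awayCover {R : CommRingCat.{u}} (S : Set R) (hS : Ideal.span S = ⊤) :
    (Spec R).OpenCover :=
  (Scheme.affineOpenCoverOfSpanRangeEqTop (R := R) (fun s : S => (s : R))
    (by rw [Subtype.range_coe]; exact hS)).openCover

/-- Two morphisms out of `Spec R` which agree on `Spec R_g` for `g` in a set generating the unit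
ideal agree. -/
theorem hom_ext_away {R : CommRingCat.{u}} {Z : Scheme.{u}} (S : Set R) (hS : Ideal.span S = ⊤)
    (a b : Spec R ⟶ Z)
    (h : ∀ g ∈ S, Spec.map (CommRingCat.ofHom (algebraMap R (Localization.Away g))) ≫ a =
      Spec.map (CommRingCat.ofHom (algebraMap R (Localization.Away g))) ≫ b) : a = b := by
  apply (awayCover S hS).hom_ext
  intro i
  exact h i.1 i.2

/-- `Spec` of an injective ring map which is surjective on spectra is an epimorphism of schemes. -/
theorem epi_SpecMap_of_injective {R S : CommRingCat.{u}} (φ : R ⟶ S)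
    (hinj : Function.Injective φ.hom)
    (hsurj : Function.Surjective (PrimeSpectrum.comap φ.hom)) : Epi (Spec.map φ) := by
  constructor
  intro Z a b hab
  -- equality on points
  have hpt : ∀ y : Spec R, a y = b y := by
    intro y
    obtain ⟨x, rfl⟩ := hsurj y
    have h1 : (Spec.map φ ≫ a) x = (Spec.map φ ≫ b) x := by rw [hab]
    exact h1
  -- local equality
  have hloc : ∀ y : Spec R, ∃ g : R, g ∉ y.asIdeal ∧
      Spec.map (CommRingCat.ofHom (algebraMap R (Localization.Away g))) ≫ a =
        Spec.map (CommRingCat.ofHom (algebraMap R (Localization.Away g))) ≫ b := by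
    intro y
    obtain ⟨V, hV, hyV⟩ : ∃ V : Z.Opens, IsAffineOpen V ∧ a y ∈ V := by
      obtain ⟨_, ⟨V, hV, rfl⟩, hyV, -⟩ :=
        Z.isBasis_affineOpens.exists_subset_of_mem_open (Set.mem_univ (a y)) isOpen_univ
      exact ⟨V, hV, hyV⟩
    have hopen : IsOpen ((a ⁻¹ᵁ V : (Spec R).Opens) ⊓ (b ⁻¹ᵁ V) : (Spec R).Opens).1 :=
      ((a ⁻¹ᵁ V : (Spec R).Opens) ⊓ (b ⁻¹ᵁ V)).2
    have hy : y ∈ ((a ⁻¹ᵁ V : (Spec R).Opens) ⊓ (b ⁻¹ᵁ V) : (Spec R).Opens).1 :=
      ⟨hyV, by show b y ∈ V; rw [← hpt y]; exact hyV⟩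
    obtain ⟨_, ⟨g, rfl⟩, hyg, hgU⟩ :=
      PrimeSpectrum.isTopologicalBasis_basic_opens.exists_subset_of_mem_open hy hopen
    refine ⟨g, hyg, ?_⟩
    set j := Spec.map (CommRingCat.ofHom (algebraMap R (Localization.Away g))) with hj
    have hrange : ∀ x, j x ∈ (PrimeSpectrum.basicOpen g : Set (PrimeSpectrum R)) := by
      intro x
      rw [← range_SpecMap_away g]
      exact ⟨x, rfl⟩
    obtain ⟨α, hα⟩ := exists_SpecMap_fromSpec hV (j ≫ a) (fun x => (hgU (hrange x)).1)
    obtain ⟨β, hβ⟩ := exists_SpecMap_fromSpec hV (j ≫ b) (fun x => (hgU (hrange x)).2)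
    -- the localized map
    let φg : Localization.Away g →+* Localization.Away (φ.hom g) := Localization.awayMap φ.hom g
    have hφg : Function.Injective φg := by
      rw [Localization.awayMap_injective_iff]
      intro x hx
      refine ⟨0, ?_⟩
      rw [pow_zero, one_mul]
      exact hinj (by rw [hx, map_zero])
    let i := Spec.map (CommRingCat.ofHom (algebraMap S (Localization.Away (φ.hom g))))
    have hsq : Spec.map (CommRingCat.ofHom φg) ≫ j = i ≫ Spec.map φ := by
      rw [hj, ← Spec.map_comp, ← Spec.map_comp]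
      congr 1
      ext x
      simp [φg, IsLocalization.Away.map]
    have h1 : Spec.map (CommRingCat.ofHom φg) ≫ (j ≫ a) =
        Spec.map (CommRingCat.ofHom φg) ≫ (j ≫ b) := by
      rw [← Category.assoc, ← Category.assoc, hsq, Category.assoc, Category.assoc, hab]
    rw [hα, hβ, ← Category.assoc, ← Category.assoc, cancel_mono, ← Spec.map_comp,
      ← Spec.map_comp] at h1
    have h2 := Spec.map_injective h1
    have h3 : α = β := by
      ext r
      apply hφg
      have := congrArg (fun m => m.hom r) h2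
      simpa using this
    rw [hα, hβ, h3]
  choose g hg1 hg2 using hloc
  apply hom_ext_away (Set.range g) _ a b
  · rintro _ ⟨y, rfl⟩
    exact hg2 y
  · by_contra hne
    obtain ⟨m, hm, hle⟩ := Ideal.exists_le_maximal _ hne
    exact hg1 ⟨m, hm.isPrime⟩ (hle (Ideal.subset_span ⟨_, rfl⟩))

/-- Gluing morphisms out of `Spec R` along the basic opens `D(s)`, `s ∈ S`, where `S` generates
the unit ideal and is stable under multiplication by arbitrary elements: compatibility is only
required for inclusions `D(s) ⊆ D(s')`. -/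
theorem exists_glue {R : CommRingCat.{u}} {Z : Scheme.{u}} (S : Set R) (hS : Ideal.span S = ⊤)
    (hmul : ∀ s ∈ S, ∀ g : R, g * s ∈ S)
    (χ : ∀ s : S, Spec (.of (Localization.Away (s : R))) ⟶ Z)
    (hχ : ∀ (s s' : S)
      (t : Spec (.of (Localization.Away (s : R))) ⟶ Spec (.of (Localization.Away (s' : R)))),
      t ≫ Spec.map (CommRingCat.ofHom (algebraMap R (Localization.Away (s' : R)))) =
        Spec.map (CommRingCat.ofHom (algebraMap R (Localization.Away (s : R)))) →
      t ≫ χ s' = χ s) :
    ∃ χ' : Spec R ⟶ Z, ∀ s : S,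
      Spec.map (CommRingCat.ofHom (algebraMap R (Localization.Away (s : R)))) ≫ χ' = χ s := by
  let 𝒰 : (Spec R).OpenCover := awayCover S hS
  letI : Preorder 𝒰.I₀ := Preorder.lift (fun i => (𝒰.f i).opensRange)
  have H : TopologicalSpace.Opens.IsBasis (Set.range fun i => (𝒰.f i).opensRange) := by
    rw [TopologicalSpace.Opens.isBasis_iff_nbhd]
    intro U x hx
    obtain ⟨_, ⟨g, rfl⟩, hxg, hgU⟩ :=
      PrimeSpectrum.isTopologicalBasis_basic_opens.exists_subset_of_mem_open hx U.2
    obtain ⟨s, hs, hsx⟩ : ∃ s ∈ S, s ∉ x.asIdeal := by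
      by_contra hne
      push_neg at hne
      have : Ideal.span S ≤ x.asIdeal := Ideal.span_le.mpr hne
      rw [hS] at this
      exact x.2.ne_top (top_le_iff.mp this)
    have hrange : ((𝒰.f ⟨g * s, hmul s hs g⟩).opensRange : Set (Spec R)) =
        (PrimeSpectrum.basicOpen (g * s) : Set (PrimeSpectrum R)) :=
      range_SpecMap_away (g * s)
    refine ⟨_, ⟨⟨g * s, hmul s hs g⟩, rfl⟩, ?_, ?_⟩
    · show x ∈ ((𝒰.f ⟨g * s, hmul s hs g⟩).opensRange : Set (Spec R))
      rw [hrange]
      exact fun h => (x.2.mem_or_mem h).elim hxg hsx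
    · intro y hy
      have hy' : y ∈ ((𝒰.f ⟨g * s, hmul s hs g⟩).opensRange : Set (Spec R)) := hy
      rw [hrange] at hy'
      apply hgU
      intro hgy
      exact hy' (Ideal.mul_mem_right _ _ hgy)
  haveI : 𝒰.LocallyDirected := Scheme.Cover.LocallyDirected.ofIsBasisOpensRange Iff.rfl H
  refine ⟨𝒰.glueMorphismsOfLocallyDirected χ
    (fun {i j} hij => hχ i j (𝒰.trans hij) (𝒰.trans_map hij)), fun s => ?_⟩
  exact 𝒰.map_glueMorphismsOfLocallyDirected χ
    (fun {i j} hij => hχ i j (𝒰.trans hij) (𝒰.trans_map hij)) s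

end Groth.Agent.Lib.helper2.HopfQuot
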