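import Groth.Agent.Lib.Helper2.HopfQuot1
import Groth.Agent.Lib.Helper2.HopfQuot2

/-!
# The categorical quotient `Spec B → Spec B^A` for a coaction with a total integral (helper2)
-/

set_option autoImplicit false
universe u
open CategoryTheory AlgebraicGeometry TensorProduct

namespace Groth.Agent.Lib.helper2.HopfQuot

section Generic

variable {R S : Type u} [CommRing R] [CommRing S]

theorem awayMap_injective (φ : R →+* S) (hinj : Function.Injective φ) (g : R) :
    Function.Injective (Localization.awayMap φ g) := by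
  rw [Localization.awayMap_injective_iff]
  intro x hx
  refine ⟨0, ?_⟩
  rw [pow_zero, one_mul]
  exact hinj (by rw [hx, map_zero])

theorem awayMap_comp (φ : R →+* S) (g : R) :
    (Localization.awayMap φ g).comp (algebraMap R (Localization.Away g)) =
      (algebraMap S (Localization.Away (φ g))).comp φ := by
  ext x
  simp [Localization.awayMap, IsLocalization.Away.map]

theorem SpecMap_awayMap_comm (φ : R →+* S) (g : R) :
    Spec.map (CommRingCat.ofHom (Localization.awayMap φ g)) ≫
        Spec.map (CommRingCat.ofHom (algebraMap R (Localization.Away g))) =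
      Spec.map (CommRingCat.ofHom (algebraMap S (Localization.Away (φ g)))) ≫
        Spec.map (CommRingCat.ofHom φ) := by
  rw [← Spec.map_comp, ← Spec.map_comp, ← CommRingCat.ofHom_comp, ← CommRingCat.ofHom_comp,
    awayMap_comp]

theorem comap_awayMap_surjective (φ : R →+* S)
    (hs : Function.Surjective (PrimeSpectrum.comap φ)) (g : R) :
    Function.Surjective (PrimeSpectrum.comap (Localization.awayMap φ g)) := by
  intro q'
  obtain ⟨p, hp⟩ := hs (PrimeSpectrum.comap (algebraMap R (Localization.Away g)) q')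
  have hg : g ∉ (PrimeSpectrum.comap (algebraMap R (Localization.Away g)) q').asIdeal := by
    intro h
    have h1 : algebraMap R (Localization.Away g) g ∈ q'.asIdeal := h
    exact q'.2.ne_top (Ideal.eq_top_of_isUnit_mem _ h1 (IsLocalization.Away.algebraMap_isUnit g))
  have hφg : p ∈ (PrimeSpectrum.basicOpen (φ g) : Set (PrimeSpectrum S)) := by
    intro h
    apply hg
    rw [← hp]
    exact h
  rw [← PrimeSpectrum.localization_away_comap_range (Localization.Away (φ g)) (φ g)] at hφg
  obtain ⟨p', hp'⟩ := hφg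
  refine ⟨p', ?_⟩
  apply PrimeSpectrum.localization_comap_injective (Localization.Away g) (Submonoid.powers g)
  rw [← hp, ← hp']
  rw [← PrimeSpectrum.comap_comp_apply, ← PrimeSpectrum.comap_comp_apply, awayMap_comp]

theorem epi_SpecMap_awayMap (φ : R →+* S) (hinj : Function.Injective φ)
    (hs : Function.Surjective (PrimeSpectrum.comap φ)) (g : R) :
    Epi (Spec.map (CommRingCat.ofHom (Localization.awayMap φ g))) :=
  epi_SpecMap_of_injective _ (awayMap_injective φ hinj g) (comap_awayMap_surjective φ hs g)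

end Generic

section Main

variable (k : Type u) [CommRing k] (A : Type u) [CommRing A] [HopfAlgebra k A]
variable (B : Type u) [CommRing B] [Algebra k B] [HopfRep.Comod k A B] [GLin.IsCoactAlg k A B]

local notation "ρ" => HopfRep.Comod.coact (k := k) (A := A)
local notation "C" => GLin.invariants k A B
local notation "φ" => algebraMap (GLin.invariants k A B) B

/-- The closed complement of the preimage of an open, as an ideal. -/
noncomputable def bV {Z : Scheme.{u}} (ψ : Spec (CommRingCat.of B) ⟶ Z) (V : Z.Opens) : Ideal B :=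
  PrimeSpectrum.vanishingIdeal {p : PrimeSpectrum B | ψ p ∉ V}

theorem mem_zeroLocus_bV {Z : Scheme.{u}} (ψ : Spec (CommRingCat.of B) ⟶ Z) (V : Z.Opens)
    (p : PrimeSpectrum B) :
    p ∈ PrimeSpectrum.zeroLocus (bV B ψ V : Set B) ↔ ψ p ∉ V := by
  rw [bV, PrimeSpectrum.zeroLocus_vanishingIdeal_eq_closure, IsClosed.closure_eq]
  · rfl
  · exact (ψ ⁻¹ᵁ V : (Spec (CommRingCat.of B)).Opens).2.isClosed_compl

/-- Existence of the descended morphism on a chart. -/
theorem exists_chart {Z : Scheme.{u}} (ψ : Spec (CommRingCat.of B) ⟶ Z)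
    (hψ : Spec.map (CommRingCat.ofHom (GLin.coactAlgHom k A B).toRingHom) ≫ ψ =
      Spec.map (CommRingCat.ofHom
        (Algebra.TensorProduct.includeLeftRingHom : B →+* TensorProduct k B A)) ≫ ψ)
    (V : Z.Opens) (hV : IsAffineOpen V) (f : C) (hf : φ f ∈ bV B ψ V) :
    ∃ χf : Spec (CommRingCat.of (Localization.Away f)) ⟶ Z,
      Spec.map (CommRingCat.ofHom (Localization.awayMap φ f)) ≫ χf =
        Spec.map (CommRingCat.ofHom (algebraMap B (Localization.Away (φ f)))) ≫ ψ := by
  set i_f := Spec.map (CommRingCat.ofHom (algebraMap B (Localization.Away (φ f)))) with hi_f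
  have hrange : ∀ x, (i_f ≫ ψ) x ∈ V := by
    intro x
    by_contra hn
    have hp : i_f x ∈ (PrimeSpectrum.basicOpen (φ f) : Set (PrimeSpectrum B)) := by
      rw [← range_SpecMap_away (R := CommRingCat.of B) (φ f)]
      exact ⟨x, rfl⟩
    have h2 : i_f x ∈ PrimeSpectrum.zeroLocus (bV B ψ V : Set B) :=
      (mem_zeroLocus_bV B ψ V (i_f x)).mpr hn
    exact hp (h2 hf)
  obtain ⟨θ, hθ⟩ := exists_SpecMap_fromSpec hV (i_f ≫ ψ) hrange
  -- the two localised maps `B_f → (B ⊗ A)_{f ⊗ 1}`
  let L := Localization.Away ((f : B) ⊗ₜ[k] (1 : A) : B ⊗[k] A)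
  let ρa : B →+* B ⊗[k] A := (GLin.coactAlgHom k A B).toRingHom
  let incl : B →+* B ⊗[k] A := Algebra.TensorProduct.includeLeftRingHom
  have hfρ : ρa (φ f) = (f : B) ⊗ₜ[k] (1 : A) := f.2
  have hu1 : IsUnit (((algebraMap (B ⊗[k] A) L).comp ρa) (φ f)) := by
    rw [RingHom.comp_apply, hfρ]
    exact IsLocalization.Away.algebraMap_isUnit _
  have hu2 : IsUnit (((algebraMap (B ⊗[k] A) L).comp incl) (φ f)) := by
    rw [RingHom.comp_apply]
    exact IsLocalization.Away.algebraMap_isUnit ((f : B) ⊗ₜ[k] (1 : A) : B ⊗[k] A)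
  let ρf : Localization.Away (φ f) →+* L := IsLocalization.Away.lift (φ f) hu1
  let inclf : Localization.Away (φ f) →+* L := IsLocalization.Away.lift (φ f) hu2
  have hρf : ρf.comp (algebraMap B (Localization.Away (φ f))) =
      (algebraMap (B ⊗[k] A) L).comp ρa := IsLocalization.Away.lift_comp _ hu1
  have hinclf : inclf.comp (algebraMap B (Localization.Away (φ f))) =
      (algebraMap (B ⊗[k] A) L).comp incl := IsLocalization.Away.lift_comp _ hu2
  have e1 : Spec.map (CommRingCat.ofHom ρf) ≫ i_f =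
      Spec.map (CommRingCat.ofHom (algebraMap (B ⊗[k] A) L)) ≫
        Spec.map (CommRingCat.ofHom ρa) := by
    rw [hi_f, ← Spec.map_comp, ← Spec.map_comp, ← CommRingCat.ofHom_comp,
      ← CommRingCat.ofHom_comp, hρf]
  have e2 : Spec.map (CommRingCat.ofHom inclf) ≫ i_f =
      Spec.map (CommRingCat.ofHom (algebraMap (B ⊗[k] A) L)) ≫
        Spec.map (CommRingCat.ofHom incl) := by
    rw [hi_f, ← Spec.map_comp, ← Spec.map_comp, ← CommRingCat.ofHom_comp,
      ← CommRingCat.ofHom_comp, hinclf]
  have e3 : Spec.map (CommRingCat.ofHom ρf) ≫ (i_f ≫ ψ) =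
      Spec.map (CommRingCat.ofHom inclf) ≫ (i_f ≫ ψ) := by
    rw [← Category.assoc, ← Category.assoc, e1, e2, Category.assoc, Category.assoc, hψ]
  rw [hθ, ← Category.assoc, ← Category.assoc, cancel_mono, ← Spec.map_comp,
    ← Spec.map_comp] at e3
  have e4 := Spec.map_injective e3
  have e5 : ∀ r, ρf (θ.hom r) = inclf (θ.hom r) := by
    intro r
    have := congrArg (fun m => m.hom r) e4
    exact this
  -- factor through `C_f`
  haveI : IsLocalization.Away (f : B) (Localization.Away (φ f)) :=
    (inferInstance : IsLocalization.Away (φ f) (Localization.Away (φ f)))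
  have e6 : ∀ r, θ.hom r ∈ (Localization.awayMap φ f).range := by
    intro r
    exact mem_range_of_coact_eq (k := k) (A := A) (B := B) f (Bf := Localization.Away (φ f))
      (Cf := Localization.Away f) (L := L) (Localization.awayMap φ f) (awayMap_comp φ f)
      ρf inclf hρf hinclf (θ.hom r) (e5 r)
  obtain ⟨θ', hθ'⟩ := exists_factor (Localization.awayMap φ f)
    (awayMap_injective φ Subtype.val_injective f) θ.hom e6
  refine ⟨Spec.map (CommRingCat.ofHom θ') ≫ hV.fromSpec, ?_⟩
  rw [← Category.assoc, ← Spec.map_comp, ← CommRingCat.ofHom_comp, hθ', hθ]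
  rfl

/-- Set-theoretic invariance of the ideals `bV`. -/
theorem coact_mem_radical {Z : Scheme.{u}} (ψ : Spec (CommRingCat.of B) ⟶ Z)
    (hψ : Spec.map (CommRingCat.ofHom (GLin.coactAlgHom k A B).toRingHom) ≫ ψ =
      Spec.map (CommRingCat.ofHom
        (Algebra.TensorProduct.includeLeftRingHom : B →+* TensorProduct k B A)) ≫ ψ)
    (V : Z.Opens) (x : B) (hx : x ∈ bV B ψ V) :
    (ρ : B →ₗ[k] B ⊗[k] A) x ∈ ((bV B ψ V).map
      (Algebra.TensorProduct.includeLeftRingHom : B →+* B ⊗[k] A)).radical := by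
  rw [Ideal.radical_eq_sInf, Ideal.mem_sInf]
  rintro P ⟨hP, hPprime⟩
  let Pt : PrimeSpectrum (B ⊗[k] A) := ⟨P, hPprime⟩
  let σ := Spec.map (CommRingCat.ofHom (GLin.coactAlgHom k A B).toRingHom)
  let pr := Spec.map (CommRingCat.ofHom
    (Algebra.TensorProduct.includeLeftRingHom : B →+* TensorProduct k B A))
  have h1 : pr Pt ∈ PrimeSpectrum.zeroLocus (bV B ψ V : Set B) := by
    intro y hy
    exact hP (Ideal.mem_map_of_mem _ hy)
  have h2 : ψ (pr Pt) ∉ V := (mem_zeroLocus_bV B ψ V _).mp h1
  have h3 : ψ (σ Pt) = ψ (pr Pt) := by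
    have : (σ ≫ ψ) Pt = (pr ≫ ψ) Pt := by rw [hψ]
    exact this
  have h4 : σ Pt ∈ PrimeSpectrum.zeroLocus (bV B ψ V : Set B) := by
    apply (mem_zeroLocus_bV B ψ V (σ Pt)).mpr
    rw [h3]
    exact h2
  exact h4 hx

theorem iSup_bV_eq_top {Z : Scheme.{u}} (ψ : Spec (CommRingCat.of B) ⟶ Z) :
    ⨆ V : Z.affineOpens, bV B ψ V.1 = ⊤ := by
  by_contra hne
  obtain ⟨m, hm, hle⟩ := Ideal.exists_le_maximal _ hne
  let p : PrimeSpectrum B := ⟨m, hm.isPrime⟩
  obtain ⟨_, ⟨V, hV, rfl⟩, hpV, -⟩ :=
    Z.isBasis_affineOpens.exists_subset_of_mem_open (Set.mem_univ (ψ p)) isOpen_univ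
  have h1 : p ∈ PrimeSpectrum.zeroLocus (bV B ψ V : Set B) := by
    intro y hy
    exact hle ((le_iSup (fun V : Z.affineOpens => bV B ψ V.1) ⟨V, hV⟩) hy)
  exact (mem_zeroLocus_bV B ψ V p).mp h1 hpV

open Groth.Agent.Lib.helper22.Integral in
/-- `Spec B → Spec B^A` is a categorical quotient in the category of schemes. -/
theorem existsUnique_desc (α : A →ₗ[k] B) (hα : Hoch.IsComodHom A α) (hα1 : α 1 = 1)
    (hsurj : Function.Surjective (PrimeSpectrum.comap φ))
    (Z : Scheme.{u}) (ψ : Spec (CommRingCat.of B) ⟶ Z)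
    (hψ : Spec.map (CommRingCat.ofHom (GLin.coactAlgHom k A B).toRingHom) ≫ ψ =
      Spec.map (CommRingCat.ofHom
        (Algebra.TensorProduct.includeLeftRingHom : B →+* TensorProduct k B A)) ≫ ψ) :
    ∃! χ : Spec (CommRingCat.of C) ⟶ Z, Spec.map (CommRingCat.ofHom φ) ≫ χ = ψ := by
  have hinj : Function.Injective φ := Subtype.val_injective
  haveI hepi : Epi (Spec.map (CommRingCat.ofHom φ)) :=
    epi_SpecMap_of_injective (CommRingCat.ofHom φ) hinj hsurj
  -- the index set
  let S : Set (CommRingCat.of C) := {f | ∃ V : Z.affineOpens, φ f ∈ bV B ψ V.1}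
  have hK := iSup_comap_eq_top (k := k) (A := A) (B := B) α hα hα1
    (fun V : Z.affineOpens => bV B ψ V.1) (iSup_bV_eq_top B ψ)
    (fun V x hx => coact_mem_radical k A B ψ hψ V.1 x hx)
  have hS : Ideal.span S = ⊤ := by
    rw [eq_top_iff, ← hK]
    refine iSup_le fun V => ?_
    intro f hf
    exact Ideal.subset_span ⟨V, hf⟩
  have hmul : ∀ s ∈ S, ∀ g : (CommRingCat.of C), g * s ∈ S := by
    rintro s ⟨V, hs⟩ g
    refine ⟨V, ?_⟩
    rw [map_mul]
    exact Ideal.mul_mem_left _ _ hs
  -- charts
  have hchart : ∀ s : S, ∃ χf : Spec (CommRingCat.of (Localization.Away (s : C))) ⟶ Z,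
      Spec.map (CommRingCat.ofHom (Localization.awayMap φ (s : C))) ≫ χf =
        Spec.map (CommRingCat.ofHom (algebraMap B (Localization.Away (φ (s : C))))) ≫ ψ := by
    rintro ⟨s, V, hs⟩
    exact exists_chart k A B ψ hψ V.1 V.2 s hs
  choose χc hχc using hchart
  have hepis : ∀ s : C, Epi (Spec.map (CommRingCat.ofHom (Localization.awayMap φ s))) :=
    fun s => epi_SpecMap_awayMap φ hinj hsurj s
  -- compatibility
  have hcompat : ∀ (s s' : S)
      (t : Spec (.of (Localization.Away (s : CommRingCat.of C))) ⟶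
        Spec (.of (Localization.Away (s' : CommRingCat.of C)))),
      t ≫ Spec.map (CommRingCat.ofHom (algebraMap (CommRingCat.of C)
          (Localization.Away (s' : CommRingCat.of C)))) =
        Spec.map (CommRingCat.ofHom (algebraMap (CommRingCat.of C)
          (Localization.Away (s : CommRingCat.of C)))) →
      t ≫ χc s' = χc s := by
    intro s s' t ht
    haveI := hepis (s : C)
    rw [← cancel_epi (Spec.map (CommRingCat.ofHom (Localization.awayMap φ (s : C)))), hχc s]
    set i_s := Spec.map (CommRingCat.ofHom (algebraMap B (Localization.Away (φ (s : C)))))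
      with hi_s
    set i_s' := Spec.map (CommRingCat.ofHom (algebraMap B (Localization.Away (φ (s' : C)))))
      with hi_s'
    set j_s := Spec.map (CommRingCat.ofHom (algebraMap (CommRingCat.of C)
          (Localization.Away (s : CommRingCat.of C)))) with hj_s
    set j_s' := Spec.map (CommRingCat.ofHom (algebraMap (CommRingCat.of C)
          (Localization.Away (s' : CommRingCat.of C)))) with hj_s'
    have hsub : (PrimeSpectrum.basicOpen (s : C) : Set (PrimeSpectrum C)) ⊆
        PrimeSpectrum.basicOpen (s' : C) := by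
      rw [← range_SpecMap_away (R := CommRingCat.of C) (s : C),
        ← range_SpecMap_away (R := CommRingCat.of C) (s' : C)]
      rintro _ ⟨x, rfl⟩
      refine ⟨t x, ?_⟩
      have : (t ≫ j_s') x = j_s x := by rw [ht]
      exact this
    have hr : Set.range i_s ⊆ Set.range i_s' := by
      rw [hi_s, hi_s', range_SpecMap_away (R := CommRingCat.of B) (φ (s : C)),
        range_SpecMap_away (R := CommRingCat.of B) (φ (s' : C))]
      intro p hp hmem
      have h1 : PrimeSpectrum.comap φ p ∈ (PrimeSpectrum.basicOpen (s : C) :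
          Set (PrimeSpectrum C)) := fun h => hp h
      exact hsub h1 hmem
    let tB := IsOpenImmersion.lift i_s' i_s hr
    have htB : tB ≫ i_s' = i_s := IsOpenImmersion.lift_fac _ _ _
    have h1 : Spec.map (CommRingCat.ofHom (Localization.awayMap φ (s : C))) ≫ t =
        tB ≫ Spec.map (CommRingCat.ofHom (Localization.awayMap φ (s' : C))) := by
      rw [← cancel_mono j_s', Category.assoc, ht, Category.assoc]
      have e1 := SpecMap_awayMap_comm φ (s : C)
      have e2 := SpecMap_awayMap_comm φ (s' : C)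
      rw [hj_s, hj_s']
      erw [e1, e2]
      rw [← Category.assoc, htB]
    rw [← Category.assoc, h1, Category.assoc, hχc s', ← Category.assoc, htB]
  obtain ⟨χ, hχ⟩ := exists_glue (R := CommRingCat.of C) S hS hmul χc hcompat
  have hfac : Spec.map (CommRingCat.ofHom φ) ≫ χ = ψ := by
    have hspan : Ideal.span ((φ : C →+* B) '' S) = ⊤ := by
      rw [← Ideal.map_span, hS, Ideal.map_top]
    apply hom_ext_away (R := CommRingCat.of B) ((φ : C →+* B) '' S) hspan
    rintro _ ⟨s, hs, rfl⟩
    have e1 := SpecMap_awayMap_comm φ (s : C)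
    have e2 := hχ ⟨s, hs⟩
    have e3 := hχc ⟨s, hs⟩
    rw [← Category.assoc]
    erw [← e1]
    rw [Category.assoc]
    erw [e2, e3]
  refine ⟨χ, hfac, fun χ' hχ' => ?_⟩
  rw [← cancel_epi (Spec.map (CommRingCat.ofHom φ)), hχ', hfac]

end Main

end Groth.Agent.Lib.helper2.HopfQuot
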