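import Groth.Agent.Lib.Helper7.TorAPI
import Groth.Prelude.Def_IntMult
import Mathlib

/-!
# helper2: the Tor Euler characteristic against `A ⧸ (g)` for a regular element `g`
-/

universe u

open CategoryTheory Category Limits MonoidalCategory TensorProduct

namespace Groth.Agent.Lib.helper2.IM

open Groth.Agent.Lib.helper7.TorAPI

variable {A : Type u} [CommRing A]

/-- the short complex `0 → A --g--> A → A/(g) → 0`. -/
noncomputable def sc (g : A) : ShortComplex (ModuleCat.{u} A) :=
  ModuleCat.shortComplexOfCompEqZero (LinearMap.lsmul A A g) (Ideal.span {g}).mkQ (by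
    ext
    simp only [LinearMap.coe_comp, Function.comp_apply, LinearMap.lsmul_apply, smul_eq_mul,
      mul_one, Submodule.mkQ_apply, LinearMap.zero_apply]
    exact (Submodule.Quotient.mk_eq_zero _).2 (Ideal.mem_span_singleton_self g))

lemma sc_shortExact (g : A) (hg : IsSMulRegular A g) : (sc g).ShortExact := by
  apply ModuleCat.shortComplex_shortExact
  · intro x
    constructor
    · intro hx
      have hx' : (Ideal.span {g}).mkQ x = 0 := hx
      rw [Submodule.mkQ_apply, Submodule.Quotient.mk_eq_zero, Ideal.mem_span_singleton'] at hx'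
      obtain ⟨a, rfl⟩ := hx'
      exact ⟨a, mul_comm g a⟩
    · rintro ⟨a, rfl⟩
      obtain ⟨a', rfl⟩ : ∃ a' : A, a' = a := ⟨a, rfl⟩
      change (Ideal.span {g}).mkQ (g * a') = 0
      rw [Submodule.mkQ_apply, Submodule.Quotient.mk_eq_zero]
      exact Ideal.mul_mem_right _ _ (Ideal.mem_span_singleton_self g)
  · exact hg
  · exact Submodule.mkQ_surjective _

/-- `Tor_{n+2}(M, A/(g)) = 0`. -/
lemma isZero_T_add_two (M : ModuleCat.{u} A) (g : A) (hg : IsSMulRegular A g) (n : ℕ) :
    IsZero ((T (n + 2) M).obj (ModuleCat.of A (A ⧸ Ideal.span {g}))) := by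
  have hP : Projective (sc g).X₂ := by
    change Projective (ModuleCat.of A A)
    infer_instance
  have hP1 : Projective (sc g).X₁ := by
    change Projective (ModuleCat.of A A)
    infer_instance
  exact (isZero_succ_iff M (sc_shortExact g hg) (n + 1) (isZero_T_projective M _ (n + 1))
    (isZero_T_projective M _ n)).2 (isZero_T_projective M _ n)

/-- `Tor_1(M, A/(g)) = 0` when `g` is `M`-regular. -/
lemma isZero_T_one (M : Type u) [AddCommGroup M] [Module A M] (g : A) (hg : IsSMulRegular A g)
    (hgM : IsSMulRegular M g) :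
    IsZero ((T 1 (ModuleCat.of A M)).obj (ModuleCat.of A (A ⧸ Ideal.span {g}))) := by
  have hP : Projective (sc g).X₂ := by
    change Projective (ModuleCat.of A A)
    infer_instance
  refine (isZero_one_iff (ModuleCat.of A M) (sc_shortExact g hg)
    (isZero_T_projective _ _ 0)).2 ?_
  rw [ModuleCat.mono_iff_injective]
  change Function.Injective (LinearMap.lTensor M (LinearMap.lsmul A A g))
  have : LinearMap.lTensor M (LinearMap.lsmul A A g) = g • LinearMap.id := by
    ext m
    simp only [TensorProduct.AlgebraTensorModule.curry_apply, LinearMap.restrictScalars_self,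
      TensorProduct.curry_apply, LinearMap.lTensor_tmul, LinearMap.lsmul_apply, smul_eq_mul,
      mul_one, LinearMap.smul_apply, LinearMap.id_coe, id_eq]
    rw [TensorProduct.smul_tmul', TensorProduct.smul_tmul, smul_eq_mul, mul_one]
  rw [this]
  intro x y hxy
  have h1 : g • x = g • y := hxy
  have hreg : IsSMulRegular (M ⊗[A] A) g :=
    (LinearEquiv.isSMulRegular_congr (TensorProduct.rid A M) g).2 hgM
  exact hreg h1

end Groth.Agent.Lib.helper2.IM
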