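import Mathlib

/-!
# helper2: minimal generating subsets of the maximal ideal of a Noetherian local ring
-/

universe u

open IsLocalRing

namespace Groth.Agent.Lib.helper2.IM

variable {R : Type u} [CommRing R] [IsLocalRing R] [IsNoetherianRing R]

/-- every finite generating set of the maximal ideal contains a generating set with `μ(m)`
elements. -/
theorem exists_subset_card_eq_spanFinrank (S : Finset R)
    (hS : Ideal.span (S : Set R) = maximalIdeal R) :
    ∃ S' : Finset R, S' ⊆ S ∧ S'.card = (maximalIdeal R).spanFinrank ∧
      Ideal.span (S' : Set R) = maximalIdeal R := by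
  classical
  have hSm : ∀ x ∈ S, x ∈ maximalIdeal R := fun x hx => hS ▸ Ideal.subset_span hx
  set s : Set (maximalIdeal R) := {x | (x : R) ∈ S} with hs
  have hsfin : s.Finite := by
    apply Set.Finite.of_injOn (f := Subtype.val) (t := (S : Set R))
    · intro x hx; exact hx
    · exact Subtype.val_injective.injOn
    · exact S.finite_toSet
  have hval : Subtype.val '' s = (S : Set R) := by
    ext x
    constructor
    · rintro ⟨y, hy, rfl⟩; exact hy
    · intro hx; exact ⟨⟨x, hSm x hx⟩, hx, rfl⟩
  have key : ∀ t : Set (maximalIdeal R), Submodule.span R t = ⊤ ↔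
      Ideal.span (Subtype.val '' t) = maximalIdeal R := by
    intro t
    have h1 : (Submodule.span R t).map (maximalIdeal R).subtype = Ideal.span (Subtype.val '' t) := by
      rw [Submodule.map_span]; rfl
    constructor
    · intro h
      rw [← h1, h, Submodule.map_top, Submodule.range_subtype]
    · intro h
      apply Submodule.map_injective_of_injective (maximalIdeal R).injective_subtype
      rw [h1, h, Submodule.map_top, Submodule.range_subtype]
  have hstop : Submodule.span R s = ⊤ := (key s).2 (by rw [hval, hS])
  have h2 := CotangentSpace.span_image_eq_top_iff.2 hstop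
  obtain ⟨b, hbsub, hbspan, hbli⟩ := exists_linearIndependent (ResidueField R)
    ((maximalIdeal R).toCotangent '' s)
  rw [h2] at hbspan
  obtain ⟨t, hts, htb⟩ := Set.SurjOn.exists_bijOn_subset (f := (maximalIdeal R).toCotangent)
    (s := s) (t := b) (fun y hy => hbsub hy)
  have htfin : t.Finite := hsfin.subset hts
  have himg : (maximalIdeal R).toCotangent '' t = b := htb.image_eq
  have httop : Submodule.span R t = ⊤ := by
    rw [← CotangentSpace.span_image_eq_top_iff, himg, hbspan]
  have hcard : t.ncard = (maximalIdeal R).spanFinrank := by
    rw [spanFinrank_maximalIdeal_eq_finrank_cotangentSpace]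
    have hbfin : b.Finite := himg ▸ htfin.image _
    haveI := hbfin.fintype
    have h3 := finrank_span_set_eq_card (R := ResidueField R) hbli
    rw [hbspan, finrank_top] at h3
    rw [h3, ← Set.ncard_eq_toFinset_card', ← himg]
    exact htb.injOn.ncard_image.symm
  refine ⟨(htfin.image Subtype.val).toFinset, ?_, ?_, ?_⟩
  · intro x hx
    rw [Set.Finite.mem_toFinset] at hx
    obtain ⟨y, hy, rfl⟩ := hx
    exact hts hy
  · rw [← Set.ncard_eq_toFinset_card _ (htfin.image Subtype.val),
      Set.ncard_image_of_injective _ Subtype.val_injective, hcard]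
  · rw [Set.Finite.coe_toFinset]
    exact (key t).1 httop

end Groth.Agent.Lib.helper2.IM
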