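import Groth.Agent.Lib.Helper2.IM3

/-!
# helper2: a Cartier divisor meeting an integral subscheme properly is regular on it
-/

universe u

open CategoryTheory AlgebraicGeometry

namespace Groth.Agent.Lib.helper2.IM

variable {X : Scheme.{u}}

/-- If `IV_ξ ≤ IW_ξ` then the generic point of `W` lies in `V`. -/
theorem generic_mem_support_of_le (IV IW : X.IdealSheafData) [IsIntegral IW.subscheme] (ξ : X)
    (hξW : ξ ∈ IW.support)
    (hle : IntMult.stalkIdeal IV ξ ≤ IntMult.stalkIdeal IW ξ) :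
    IW.subschemeι (genericPoint IW.subscheme) ∈ IV.support := by
  rw [← SetLike.mem_coe, ← IW.range_subschemeι] at hξW
  obtain ⟨y, rfl⟩ := hξW
  obtain ⟨_, ⟨U, hU, rfl⟩, hyU, -⟩ := X.isBasis_affineOpens.exists_subset_of_mem_open
    (Set.mem_univ (IW.subschemeι y)) isOpen_univ
  set a := genericPoint IW.subscheme with ha
  have hay : a ⤳ y := genericPoint_specializes y
  have hay' : IW.subschemeι a ⤳ IW.subschemeι y := hay.map IW.subschemeι.continuous
  have haU : IW.subschemeι a ∈ U := hay'.mem_open U.2 hyU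
  rw [Scheme.IdealSheafData.mem_support_iff_of_mem (U := ⟨U, hU⟩) haU, Scheme.mem_zeroLocus_iff]
  intro f hf hfa
  have h1 : (X.presheaf.germ U _ hyU).hom f ∈ IntMult.stalkIdeal IV (IW.subschemeι y) := by
    rw [stalkIdeal_eq_map IV _ ⟨U, hU⟩ hyU]
    exact Ideal.mem_map_of_mem _ hf
  have h2 := hle h1
  rw [stalkIdeal_eq_ker, RingHom.mem_ker] at h2
  have h3 : IW.subscheme.presheaf.germ (IW.subschemeι ⁻¹ᵁ U) y hyU (IW.subschemeι.app U f) = 0 := by
    rw [← Scheme.Hom.germ_stalkMap_apply]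
    exact h2
  have h4 : IW.subschemeι.app U f = 0 := by
    apply germ_injective_of_isIntegral IW.subscheme y hyU
    rw [h3, map_zero]
  have h5 : a ∈ IW.subschemeι ⁻¹ᵁ X.basicOpen f := hfa
  rw [Scheme.preimage_basicOpen, h4, Scheme.basicOpen_zero] at h5
  exact h5

end Groth.Agent.Lib.helper2.IM

namespace Groth.Agent.Lib.helper2.IM

variable {X : Scheme.{u}}

theorem eq_bot_of_le_of_proper [IsIntegral X] (IV IW : X.IdealSheafData)
    [IsIntegral IW.subscheme]
    (n r s : ℕ) (hn : topologicalKrullDim X = n) (hr : topologicalKrullDim IV.support = r)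
    (hs : topologicalKrullDim IW.support = s)
    (hprop : IntMult.ProperInt (IV.support : Set X) (IW.support : Set X) n r s) (ξ : X)
    (hξV : ξ ∈ IV.support) (hξW : ξ ∈ IW.support)
    (hmax : ∀ ξ' : X, ξ' ∈ IV.support → ξ' ∈ IW.support → ξ' ⤳ ξ → ξ' = ξ)
    (hle : IntMult.stalkIdeal IV ξ ≤ IntMult.stalkIdeal IW ξ) : IV = ⊥ := by
  have hwV := generic_mem_support_of_le IV IW ξ hξW hle
  set a := genericPoint IW.subscheme with ha
  have hwW : IW.subschemeι a ∈ IW.support := by
    rw [← SetLike.mem_coe, ← IW.range_subschemeι]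
    exact ⟨a, rfl⟩
  have hwξ : IW.subschemeι a ⤳ ξ := by
    have h := hξW
    rw [← SetLike.mem_coe, ← IW.range_subschemeι] at h
    obtain ⟨y, rfl⟩ := h
    exact (genericPoint_specializes y).map IW.subschemeι.continuous
  have hw : IW.subschemeι a = ξ := hmax _ hwV hwW hwξ
  have hsub : (IW.support : Set X) ⊆ (IV.support : Set X) := by
    intro z hz
    rw [← IW.range_subschemeι] at hz
    obtain ⟨y, rfl⟩ := hz
    have h1 : IW.subschemeι a ⤳ IW.subschemeι y :=
      (genericPoint_specializes y).map IW.subschemeι.continuous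
    rw [hw] at h1
    exact h1.mem_closed IV.support.isClosed hξV
  obtain ⟨h1, h2⟩ := hprop ⟨ξ, hξV, hξW⟩
  rw [Set.inter_eq_right.2 hsub] at h2
  have h3 : ((s : ℕ) : WithBot ℕ∞) ≤ ((r + s - n : ℕ) : WithBot ℕ∞) := by
    rw [← hs]
    exact h2
  have h4 : s ≤ r + s - n := by exact_mod_cast h3
  have hnr : n ≤ r := by omega
  rw [← Scheme.IdealSheafData.support_eq_top_iff]
  by_contra hne
  have hne' : (IV.support : Set X) ≠ Set.univ := by
    intro h
    apply hne
    ext x
    simp [h]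
  have h5 := Groth.Agent.Lib.helper8.DimLt.topologicalKrullDim_add_one_le
    (Set.subset_univ (IV.support : Set X)) IV.support.isClosed
    (IrreducibleSpace.isIrreducible_univ X) hne'
  have h6 : topologicalKrullDim ↥(Set.univ : Set X) = topologicalKrullDim X :=
    (Homeomorph.Set.univ X).isHomeomorph.topologicalKrullDim_eq
  rw [h6, hn] at h5
  have h7 : ((r : ℕ) : WithBot ℕ∞) + 1 ≤ ((n : ℕ) : WithBot ℕ∞) := by
    rw [← hr]
    exact h5
  have h8 : r + 1 ≤ n := by exact_mod_cast h7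
  omega

theorem stalkIdeal_bot (x : X) : IntMult.stalkIdeal (⊥ : X.IdealSheafData) x = ⊥ := by
  obtain ⟨_, ⟨U, hU, rfl⟩, hxU, -⟩ := X.isBasis_affineOpens.exists_subset_of_mem_open
    (Set.mem_univ x) isOpen_univ
  rw [stalkIdeal_eq_map _ x ⟨U, hU⟩ hxU, Scheme.IdealSheafData.ideal_bot]
  exact Ideal.map_bot

end Groth.Agent.Lib.helper2.IM
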