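import Groth.Agent.Lib.Helper2.IM4
import Groth.Agent.Lib.Helper3.FTFieldClosureDim
import Groth.Agent.Lib.Helper3.FTFieldLocalDim
import Groth.Agent.Lib.Helper3.DimIneqSch2
import Groth.Agent.Lib.Helper3.SubStalk
import Groth.Agent.Lib.Helper3.TopDim

/-!
# helper2: dimensions of the local rings `O_{X,ξ}/I_ξ` for integral closed subschemes of a variety

The three dimension lemmas at the beginning are copies of helper21's
`CodimDepth.le_ringKrullDim_stalk_add_dim_closure`, `OmegaLocal.ringKrullDim_stalk_add_dim_closure_le`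
and `OmegaLocal.dim_closure_image_eq` (built on helper3's dimension theory), restated here to keep the
import closure small.
-/

universe u

open CategoryTheory AlgebraicGeometry

namespace Groth.Agent.Lib.helper2.IM

open Groth.Agent.Lib.helper3.FTField Groth.Agent.Lib.helper3.DimIneq

theorem exists_nat_of_add_eq {x y : WithBot ℕ∞} {n : ℕ} (h : x + y = (n : WithBot ℕ∞)) :
    ∃ a b : ℕ, x = (a : WithBot ℕ∞) ∧ y = (b : WithBot ℕ∞) ∧ a + b = n := by
  induction x using WithBot.recBotCoe with
  | bot => simp at h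
  | coe x =>
    induction y using WithBot.recBotCoe with
    | bot => simp at h
    | coe y =>
      have h' : x + y = (n : ℕ∞) := by exact_mod_cast h
      induction x using ENat.recTopCoe with
      | top => simp at h'
      | coe a =>
        induction y using ENat.recTopCoe with
        | top => simp at h'
        | coe b =>
          refine ⟨a, b, rfl, rfl, ?_⟩
          exact_mod_cast h'

/-- `n ≤ dim O_{P,y} + dim cl{y}` on an equidimensional scheme locally of finite type over a
field (helper21). -/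
theorem le_ringKrullDim_stalk_add_dim_closure (k : Type u) [Field k] (P : Scheme.{u})
    [P.Over (Spec (CommRingCat.of k))] [LocallyOfFiniteType (P ↘ Spec (CommRingCat.of k))] (n : ℕ)
    (hP : ∀ Z : Set ↥P, Z ∈ irreducibleComponents ↥P → topologicalKrullDim ↥Z = (n : WithBot ℕ∞))
    (y : P) :
    (n : WithBot ℕ∞) ≤ ringKrullDim (P.presheaf.stalk y) +
      topologicalKrullDim ↥(closure ({y} : Set P)) := by
  obtain ⟨W, hW, hyW, -⟩ := exists_isAffineOpen_mem_and_subset (x := y) (U := ⊤) trivial
  haveI : IsNoetherianRing Γ(P, W) := isNoetherianRing_of_isAffineOpen k P hW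
  set p := (hW.primeIdealOf ⟨y, hyW⟩).asIdeal with hp
  obtain ⟨q, hq, hqle⟩ := Ideal.exists_minimalPrimes_le (I := ⊥) (J := p) bot_le
  haveI : q.IsPrime := hq.1.1
  obtain ⟨ξ, hξW, hξq⟩ := exists_point_of_prime hW q
  have hcomp : closure ({ξ} : Set P) ∈ irreducibleComponents P :=
    closure_mem_irreducibleComponents hW ξ hξW (by rw [hξq]; exact hq)
  obtain ⟨e, he⟩ := exists_nat_trdeg_residueField k P ξ
  have h1 := dim_closure_eq_trdeg k P ξ e he
  rw [hP _ hcomp] at h1
  have hen : e = n := by exact_mod_cast h1.symm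
  obtain ⟨m, hm⟩ := exists_nat_trdeg_residueField k P y
  have h1' := dim_closure_eq_trdeg k P y m hm
  have hle : (hW.primeIdealOf ⟨ξ, hξW⟩).asIdeal ≤ (hW.primeIdealOf ⟨y, hyW⟩).asIdeal := by
    rw [hξq]; exact hqle
  have h2 := height_map_add_trdeg_residueField k P hW ξ y hξW hyW hle
  rw [hm, he] at h2
  have h3 : ((hW.primeIdealOf ⟨y, hyW⟩).asIdeal.map
      (Ideal.Quotient.mk (hW.primeIdealOf ⟨ξ, hξW⟩).asIdeal)).height + (m : ℕ∞) = (e : ℕ∞) := by
    exact_mod_cast h2
  haveI : (hW.primeIdealOf ⟨ξ, hξW⟩).asIdeal.IsPrime := (hW.primeIdealOf ⟨ξ, hξW⟩).isPrime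
  have h4 := Groth.Agent.Lib.helper3.FTField.height_map_le (hW.primeIdealOf ⟨ξ, hξW⟩).asIdeal (hW.primeIdealOf ⟨y, hyW⟩).asIdeal hle
  rw [ringKrullDim_stalk_eq_height hW y hyW, h1', ← hen]
  have h5 : (e : ℕ∞) ≤ (hW.primeIdealOf ⟨y, hyW⟩).asIdeal.height + (m : ℕ∞) := by
    rw [← h3]
    exact add_le_add_left h4 _
  exact_mod_cast h5

/-- `dim O_{P,y} + dim cl{y} ≤ dim P` (helper21). -/
theorem ringKrullDim_stalk_add_dim_closure_le (k : Type u) [Field k] (P : Scheme.{u})
    [P.Over (Spec (CommRingCat.of k))] [LocallyOfFiniteType (P ↘ Spec (CommRingCat.of k))] (n : ℕ)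
    (hPdim : topologicalKrullDim P ≤ (n : WithBot ℕ∞)) (y : P) :
    ringKrullDim (P.presheaf.stalk y) + topologicalKrullDim ↥(closure ({y} : Set P)) ≤
      (n : WithBot ℕ∞) := by
  obtain ⟨a, ha⟩ := exists_nat_trdeg_residueField k P y
  rw [dim_closure_eq_trdeg k P y a ha]
  have h1 : ringKrullDim (P.presheaf.stalk y) ≤ (n : WithBot ℕ∞) :=
    (stalk_le_dim y).trans hPdim
  have h0 : (0 : WithBot ℕ∞) ≤ ringKrullDim (P.presheaf.stalk y) := ringKrullDim_nonneg_of_nontrivial
  obtain ⟨b, hb⟩ : ∃ b : ℕ, ringKrullDim (P.presheaf.stalk y) = (b : WithBot ℕ∞) := by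
    generalize ringKrullDim (P.presheaf.stalk y) = D at h0 h1
    cases D with
    | bot => exact absurd h0 (by simp)
    | coe d =>
      induction d using ENat.recTopCoe with
      | top =>
        exfalso
        have : ((⊤ : ℕ∞) : WithBot ℕ∞) ≤ ((n : ℕ∞) : WithBot ℕ∞) := h1
        have h2 : (⊤ : ℕ∞) ≤ (n : ℕ∞) := by exact_mod_cast this
        simp at h2
      | coe e => exact ⟨e, rfl⟩
  have h2 := localDim_eq k P y a b ha hb
  have h3 := (Groth.Agent.Lib.helper3.TopDim.localDim_le_dim y).trans hPdim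
  rw [h2] at h3
  rw [hb]
  have h4 : a + b ≤ n := by exact_mod_cast h3
  have h5 : b + a ≤ n := by omega
  exact_mod_cast h5

/-- closed immersions preserve the dimension of the closure of a point (helper21). -/
theorem dim_closure_image_eq {P X : Scheme.{u}} (ι : X ⟶ P) [IsClosedImmersion ι] (x : X) :
    topologicalKrullDim ↥(closure ({ι x} : Set P)) =
      topologicalKrullDim ↥(closure ({x} : Set X)) := by
  refine le_antisymm ?_ ?_
  · refine Groth.Agent.Lib.helper3.TopDim.dim_le_of_range_subset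
      (f := (Subtype.val : ↥(closure ({ι x} : Set P)) → P))
      (g := fun z : ↥(closure ({x} : Set X)) => ι z.1)
      Topology.IsInducing.subtypeVal
      (ι.isClosedEmbedding.isInducing.comp Topology.IsInducing.subtypeVal) ?_
    rintro _ ⟨⟨z, hz⟩, rfl⟩
    have h1 : closure ({ι x} : Set P) = ι '' closure ({x} : Set X) := by
      rw [← ι.isClosedEmbedding.closure_image_eq, Set.image_singleton]
    rw [h1] at hz
    obtain ⟨w, hw, rfl⟩ := hz
    exact ⟨⟨w, hw⟩, rfl⟩
  · refine Groth.Agent.Lib.helper3.TopDim.dim_le_of_range_subset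
      (f := fun z : ↥(closure ({x} : Set X)) => ι z.1)
      (g := (Subtype.val : ↥(closure ({ι x} : Set P)) → P))
      (ι.isClosedEmbedding.isInducing.comp Topology.IsInducing.subtypeVal)
      Topology.IsInducing.subtypeVal ?_
    rintro _ ⟨⟨z, hz⟩, rfl⟩
    have h1 : ι z ∈ closure ({ι x} : Set P) := by
      have := image_closure_subset_closure_image (f := ι) (s := ({x} : Set X)) ι.continuous
        ⟨z, hz, rfl⟩
      rwa [Set.image_singleton] at this
    exact ⟨⟨ι z, h1⟩, rfl⟩

theorem ringKrullDim_stalk_add_dim_closure_of_irreducible (k : Type u) [Field k] (P : Scheme.{u})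
    (g : P ⟶ Spec (CommRingCat.of k)) [LocallyOfFiniteType g] [IrreducibleSpace P] (n : ℕ)
    (hn : topologicalKrullDim P = n) (y : P) :
    ringKrullDim (P.presheaf.stalk y) + topologicalKrullDim ↥(closure ({y} : Set P)) = n := by
  letI : P.Over (Spec (CommRingCat.of k)) := ⟨g⟩
  haveI : LocallyOfFiniteType (P ↘ Spec (CommRingCat.of k)) := ‹LocallyOfFiniteType g›
  apply le_antisymm
  · exact ringKrullDim_stalk_add_dim_closure_le k P n hn.le y
  · apply le_ringKrullDim_stalk_add_dim_closure k P n _ y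
    intro Z hZ
    rw [irreducibleComponents_eq_singleton, Set.mem_singleton_iff] at hZ
    rw [hZ, ← hn]
    exact (Homeomorph.Set.univ P).isHomeomorph.topologicalKrullDim_eq

variable {X : Scheme.{u}}

theorem topologicalKrullDim_subscheme (I : X.IdealSheafData) :
    topologicalKrullDim I.subscheme = topologicalKrullDim I.support := by
  have e : I.subscheme ≃ₜ (I.support : Set X) :=
    I.subschemeι.isEmbedding.toHomeomorph.trans (Homeomorph.setCongr I.range_subschemeι)
  exact e.isHomeomorph.topologicalKrullDim_eq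

theorem ringKrullDim_quot_stalkIdeal_add (k : Type u) [Field k]
    (f : X ⟶ Spec (CommRingCat.of k)) [LocallyOfFiniteType f] (I : X.IdealSheafData)
    [IsIntegral I.subscheme] (r : ℕ) (hr : topologicalKrullDim I.support = r) (ξ : X)
    (hξ : ξ ∈ I.support) :
    ringKrullDim (X.presheaf.stalk ξ ⧸ IntMult.stalkIdeal I ξ) +
      topologicalKrullDim ↥(closure ({ξ} : Set X)) = r := by
  rw [← SetLike.mem_coe, ← I.range_subschemeι] at hξ
  obtain ⟨y, rfl⟩ := hξ
  rw [stalkIdeal_eq_ker, dim_closure_image_eq I.subschemeι y,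
    ringKrullDim_eq_of_ringEquiv (RingHom.quotientKerEquivOfSurjective
      (I.subschemeι.stalkMap_surjective y))]
  exact ringKrullDim_stalk_add_dim_closure_of_irreducible k I.subscheme (I.subschemeι ≫ f) r
    ((topologicalKrullDim_subscheme I).trans hr) y

theorem mem_support_of_stalkIdeal_le (I : X.IdealSheafData) (ξ : X) (hξ : ξ ∈ I.support)
    (b : Spec (X.presheaf.stalk ξ)) (hb : IntMult.stalkIdeal I ξ ≤ b.asIdeal) :
    X.fromSpecStalk ξ b ∈ I.support := by
  rw [← SetLike.mem_coe, ← I.range_subschemeι] at hξ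
  obtain ⟨y, rfl⟩ := hξ
  rw [stalkIdeal_eq_ker] at hb
  have h := (Groth.Agent.Lib.helper3.SubStalk.mem_zeroLocus_ker_stalkMap_iff I.subschemeι y b).1 hb
  rw [I.range_subschemeι] at h
  exact h

end Groth.Agent.Lib.helper2.IM
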