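import Groth.Agent.Lib.Helper2.IM7

/-!
# helper2: the local ring of a proper intersection at a generic point of a component
-/

universe u

open CategoryTheory AlgebraicGeometry

namespace Groth.Agent.Lib.helper2.IM

variable {X : Scheme.{u}}

theorem eq_closedPoint_of_le (IV IW : X.IdealSheafData) (ξ : X)
    (hξV : ξ ∈ IV.support) (hξW : ξ ∈ IW.support)
    (hmax : ∀ ξ' : X, ξ' ∈ IV.support → ξ' ∈ IW.support → ξ' ⤳ ξ → ξ' = ξ)
    (b : Spec (X.presheaf.stalk ξ)) (hbV : IntMult.stalkIdeal IV ξ ≤ b.asIdeal)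
    (hbW : IntMult.stalkIdeal IW ξ ≤ b.asIdeal) :
    b = IsLocalRing.closedPoint (X.presheaf.stalk ξ) := by
  have hV := mem_support_of_stalkIdeal_le IV ξ hξV b hbV
  have hW := mem_support_of_stalkIdeal_le IW ξ hξW b hbW
  have hsp : X.fromSpecStalk ξ b ⤳ ξ := by
    have : X.fromSpecStalk ξ b ∈ Set.range (X.fromSpecStalk ξ) := ⟨_, rfl⟩
    rw [Scheme.range_fromSpecStalk] at this
    exact this
  have h := hmax _ hV hW hsp
  apply (X.fromSpecStalk ξ).isEmbedding.injective
  rw [h]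
  exact Scheme.fromSpecStalk_closedPoint.symm

theorem ringKrullDim_quot_sup_eq_zero (IV IW : X.IdealSheafData) (ξ : X)
    [IsIntegral IV.subscheme] [IsIntegral IW.subscheme]
    (hξV : ξ ∈ IV.support) (hξW : ξ ∈ IW.support)
    (hmax : ∀ ξ' : X, ξ' ∈ IV.support → ξ' ∈ IW.support → ξ' ⤳ ξ → ξ' = ξ) :
    ringKrullDim (X.presheaf.stalk ξ ⧸ (IntMult.stalkIdeal IW ξ ⊔ IntMult.stalkIdeal IV ξ)) = 0 := by
  set A := X.presheaf.stalk ξ
  set J := IntMult.stalkIdeal IW ξ ⊔ IntMult.stalkIdeal IV ξ with hJ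
  have hPV := isPrime_stalkIdeal IV ξ hξV
  have hPW := isPrime_stalkIdeal IW ξ hξW
  have hJle : J ≤ IsLocalRing.maximalIdeal A :=
    sup_le (IsLocalRing.le_maximalIdeal hPW.ne_top) (IsLocalRing.le_maximalIdeal hPV.ne_top)
  haveI : Nontrivial (A ⧸ J) := by
    apply Ideal.Quotient.nontrivial_iff.2
    intro h
    rw [h] at hJle
    exact (IsLocalRing.maximalIdeal.isMaximal A).ne_top (top_le_iff.1 hJle)
  haveI : Subsingleton (PrimeSpectrum (A ⧸ J)) := by
    constructor
    intro p q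
    have key : ∀ p : PrimeSpectrum (A ⧸ J),
        p.asIdeal.comap (Ideal.Quotient.mk J) = IsLocalRing.maximalIdeal A := by
      intro p
      have hle : J ≤ p.asIdeal.comap (Ideal.Quotient.mk J) := by
        intro a ha
        rw [Ideal.mem_comap, Ideal.Quotient.eq_zero_iff_mem.2 ha]
        exact zero_mem _
      have := eq_closedPoint_of_le IV IW ξ hξV hξW hmax
        ⟨p.asIdeal.comap (Ideal.Quotient.mk J), inferInstance⟩
        (le_sup_right.trans hle) (le_sup_left.trans hle)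
      exact congrArg PrimeSpectrum.asIdeal this
    ext1
    apply Ideal.comap_injective_of_surjective (Ideal.Quotient.mk J) Ideal.Quotient.mk_surjective
    rw [key p, key q]
  exact Order.krullDim_eq_zero

end Groth.Agent.Lib.helper2.IM

namespace Groth.Agent.Lib.helper2.IM

variable {X : Scheme.{u}}

theorem dim_package (K : Type u) [Field K] (f : X ⟶ Spec (CommRingCat.of K))
    [LocallyOfFiniteType f] [IsIntegral X]
    (IV IW : X.IdealSheafData) [IsIntegral IV.subscheme] [IsIntegral IW.subscheme] (n r s : ℕ)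
    (hn : topologicalKrullDim X = n) (hr : topologicalKrullDim IV.support = r)
    (hs : topologicalKrullDim IW.support = s)
    (hprop : IntMult.ProperInt (IV.support : Set X) (IW.support : Set X) n r s) (ξ : X)
    (hξV : ξ ∈ IV.support) (hξW : ξ ∈ IW.support) :
    ∃ D a v w : ℕ, ringKrullDim (X.presheaf.stalk ξ) = a ∧
      ringKrullDim (X.presheaf.stalk ξ ⧸ IntMult.stalkIdeal IV ξ) = v ∧
      ringKrullDim (X.presheaf.stalk ξ ⧸ IntMult.stalkIdeal IW ξ) = w ∧
      a + D = n ∧ v + D = r ∧ w + D = s ∧ D ≤ r + s - n ∧ n ≤ r + s := by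
  obtain ⟨a, D, ha, hD, h1⟩ := exists_nat_of_add_eq
    (ringKrullDim_stalk_add_dim_closure_of_irreducible K X f n hn ξ)
  obtain ⟨v, D', hv, hD', h2⟩ := exists_nat_of_add_eq
    (ringKrullDim_quot_stalkIdeal_add K f IV r hr ξ hξV)
  obtain ⟨w, D'', hw, hD'', h3⟩ := exists_nat_of_add_eq
    (ringKrullDim_quot_stalkIdeal_add K f IW s hs ξ hξW)
  have e1 : D' = D := by
    have : ((D' : ℕ) : WithBot ℕ∞) = ((D : ℕ) : WithBot ℕ∞) := by rw [← hD', ← hD]
    exact_mod_cast this
  have e2 : D'' = D := by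
    have : ((D'' : ℕ) : WithBot ℕ∞) = ((D : ℕ) : WithBot ℕ∞) := by rw [← hD'', ← hD]
    exact_mod_cast this
  rw [e1] at h2
  rw [e2] at h3
  obtain ⟨h4, h5⟩ := hprop ⟨ξ, hξV, hξW⟩
  have hsub : closure ({ξ} : Set X) ⊆ (IV.support : Set X) ∩ (IW.support : Set X) :=
    closure_minimal (Set.singleton_subset_iff.2 ⟨hξV, hξW⟩)
      (IV.support.isClosed.inter IW.support.isClosed)
  have h6 := (Groth.Agent.Lib.helper8.DimLt.topologicalKrullDim_le_of_subset hsub).trans h5
  rw [hD] at h6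
  have h7 : D ≤ r + s - n := by exact_mod_cast h6
  exact ⟨D, a, v, w, ha, hv, hw, h1, h2, h3, h7, h4⟩

end Groth.Agent.Lib.helper2.IM
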