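import Groth.Agent.Lib.Helper2.IM8
import Groth.Agent.Lib.Helper2.IM6

/-!
# helper2: intersection multiplicity when one subvariety is a local complete intersection and the
other is Cohen–Macaulay
-/

universe u

open CategoryTheory AlgebraicGeometry RingTheory.Sequence IsLocalRing

namespace Groth.Agent.Lib.helper2.IM

open Groth.Agent.Lib.helper26.Depth

variable {X : Scheme.{u}}

theorem setOf_mem_ofFn {A : Type u} {d : ℕ} (x : Fin d → A) :
    {a | a ∈ List.ofFn x} = Set.range x := by
  ext a
  simp [List.mem_ofFn]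

/-- the dimension of `O_{W,ξ}` is the number of equations of `V` at `ξ`. -/
theorem ringKrullDim_quot_eq_length (K : Type u) [Field K] (f : X ⟶ Spec (CommRingCat.of K))
    [LocallyOfFiniteType f] [IsIntegral X]
    (IV IW : X.IdealSheafData) [IsIntegral IV.subscheme] [IsIntegral IW.subscheme] (n r s : ℕ)
    (hn : topologicalKrullDim X = n) (hr : topologicalKrullDim IV.support = r)
    (hs : topologicalKrullDim IW.support = s)
    (hprop : IntMult.ProperInt (IV.support : Set X) (IW.support : Set X) n r s) (ξ : X)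
    (hξV : ξ ∈ IV.support) (hξW : ξ ∈ IW.support)
    (hmax : ∀ ξ' : X, ξ' ∈ IV.support → ξ' ∈ IW.support → ξ' ⤳ ξ → ξ' = ξ)
    (l : List (X.presheaf.stalk ξ))
    (hg : IntMult.stalkIdeal IV ξ = Ideal.ofList l)
    (hreg : RingTheory.Sequence.IsRegular (↑(X.presheaf.stalk ξ)) l) :
    ringKrullDim (X.presheaf.stalk ξ ⧸ IntMult.stalkIdeal IW ξ) = (l.length : WithBot ℕ∞) := by
  haveI : IsLocallyNoetherian X := LocallyOfFiniteType.isLocallyNoetherian f
  obtain ⟨D, a, v, w, ha, hv, hw, h1, h2, h3, h4, h5⟩ :=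
    dim_package K f IV IW n r s hn hr hs hprop ξ hξV hξW
  have hPV := isPrime_stalkIdeal IV ξ hξV
  have hmem : ∀ x ∈ l, x ∈ maximalIdeal (X.presheaf.stalk ξ) := by
    intro x hx
    apply IsLocalRing.le_maximalIdeal hPV.ne_top
    rw [hg]
    exact Ideal.subset_span hx
  have h6 := ringKrullDim_add_length_eq_ringKrullDim_of_isRegular l hreg
  rw [← hg, hv, ha] at h6
  have h6' : v + l.length = a := by exact_mod_cast h6
  have h7 := supportDim_le_supportDim_quot_ofList_add_length l
    (X.presheaf.stalk ξ ⧸ IntMult.stalkIdeal IW ξ) hmem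
  rw [supportDim_quot_ofList_smul_top, Module.supportDim_quotient_eq_ringKrullDim, ← hg,
    ringKrullDim_quot_sup_eq_zero IV IW ξ hξV hξW hmax, hw, zero_add] at h7
  have h7' : w ≤ l.length := by exact_mod_cast h7
  rw [hw]
  have : w = l.length := by omega
  rw [this]

end Groth.Agent.Lib.helper2.IM
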