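import Mathlib

/-! Invariants of finite group actions: decomposition-group completion lemma (SGA1 V 2.2), abstract part. -/

namespace Groth.Agent.Lib.helper2.InvComp

open Pointwise


section Trace

variable {G : Type*} [Group G] [Finite G] {C : Type*} [CommRing C] [MulSemiringAction G C]

/-- coset trace of an `H`-invariant element -/
noncomputable def ctr (H : Subgroup G) (b : C) : C :=
  letI := Fintype.ofFinite (G ⧸ H)
  ∑ c : G ⧸ H, c.out • b

theorem out_smul (H : Subgroup G) {b : C} (hb : ∀ h ∈ H, h • b = b) (g : G) :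
    ((QuotientGroup.mk g : G ⧸ H).out) • b = g • b := by
  obtain ⟨i, hi⟩ := QuotientGroup.mk_out_eq_mul H g
  rw [hi, mul_smul, hb _ i.2]

theorem smul_ctr (H : Subgroup G) {b : C} (hb : ∀ h ∈ H, h • b = b) (g : G) :
    g • ctr H b = ctr H b := by
  letI := Fintype.ofFinite (G ⧸ H)
  rw [ctr, Finset.smul_sum]
  refine Fintype.sum_equiv (MulAction.toPerm g) _ _ (fun c => ?_)
  obtain ⟨x, rfl⟩ := QuotientGroup.mk_surjective c
  have h1 : (MulAction.toPerm g) (QuotientGroup.mk x : G ⧸ H) = QuotientGroup.mk (g * x) := rfl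
  rw [h1, out_smul H hb, out_smul H hb, mul_smul]

theorem ctr_sub_mem (H : Subgroup G) {b : C} (hb : ∀ h ∈ H, h • b = b) (I : Ideal C)
    (hI : ∀ g : G, g ∉ H → g • b ∈ I) : ctr H b - b ∈ I := by
  classical
  letI := Fintype.ofFinite (G ⧸ H)
  rw [ctr, ← Finset.add_sum_erase _ _ (Finset.mem_univ (QuotientGroup.mk 1 : G ⧸ H)),
    out_smul H hb, one_smul, add_sub_cancel_left]
  refine Ideal.sum_mem _ (fun c hc => ?_)
  apply hI
  intro hmem
  apply (Finset.mem_erase.mp hc).1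
  rw [← QuotientGroup.out_eq' c]
  exact QuotientGroup.eq.mpr (by simpa using hmem)

end Trace



section AR

variable {K : Type*} [Group K] [Finite K] {A₀ C : Type*} [CommRing A₀] [CommRing C] [Algebra A₀ C]
  [MulSemiringAction K C] [SMulCommClass K A₀ C] [Algebra.IsInvariant A₀ C K]

theorem smul_isMaximal (k : K) (𝔫 : Ideal C) [h𝔫 : 𝔫.IsMaximal] : (k • 𝔫).IsMaximal := by
  rw [Ideal.pointwise_smul_eq_comap]
  exact Ideal.comap_isMaximal_of_equiv _

variable (K) in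
include K in
theorem exists_pow_of_mem_pow [IsNoetherianRing A₀] [Module.Finite A₀ C]
    (hinj : Function.Injective (algebraMap A₀ C)) (𝔫 : Ideal C) [𝔫.IsMaximal] (n : ℕ) :
    ∃ N, ∀ a : A₀, algebraMap A₀ C a ∈ 𝔫 ^ N → a ∈ (𝔫.under A₀) ^ n := by
  classical
  cases nonempty_fintype K
  set 𝔪 := 𝔫.under A₀ with h𝔪
  let S : Finset (Ideal C) := Finset.univ.image (fun k : K => k • 𝔫)
  let P : Ideal C := ∏ I ∈ S, I
  have hCnoeth : IsNoetherianRing C := IsNoetherianRing.of_finite A₀ C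
  have hint : Algebra.IsIntegral A₀ C := inferInstance
  have hmax : 𝔪.IsMaximal := Ideal.isMaximal_comap_of_isIntegral_of_isMaximal 𝔫
  have hP : P ≤ (𝔪.map (algebraMap A₀ C)).radical := by
    rw [Ideal.radical_eq_sInf]
    refine le_sInf ?_
    rintro Q ⟨hQ1, hQ2⟩
    haveI := hQ2
    have h1 : 𝔪 ≤ Q.under A₀ := Ideal.map_le_iff_le_comap.mp hQ1
    have h2 : 𝔪 = Q.under A₀ := hmax.eq_of_le (Ideal.IsPrime.ne_top (Ideal.IsPrime.under A₀ Q)) h1
    obtain ⟨k, hk⟩ := Algebra.IsInvariant.exists_smul_of_under_eq A₀ C K 𝔫 Q h2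
    have hQS : Q ∈ S := by rw [hk]; exact Finset.mem_image_of_mem _ (Finset.mem_univ k)
    exact Ideal.prod_le_inf.trans (Finset.inf_le hQS)
  obtain ⟨e, he⟩ := Ideal.exists_pow_le_of_le_radical_of_fg hP (IsNoetherian.noetherian _)
  obtain ⟨k₀, hk₀⟩ := Ideal.exists_pow_inf_eq_pow_smul 𝔪 (LinearMap.range (Algebra.linearMap A₀ C))
  refine ⟨e * (k₀ + n), fun a ha => ?_⟩
  have h1 : algebraMap A₀ C a ∈ ⨅ I ∈ S, I ^ (e * (k₀ + n)) := by
    simp only [Ideal.mem_iInf]
    intro I hI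
    obtain ⟨k, -, rfl⟩ := Finset.mem_image.mp hI
    rw [← smul_pow', ← smul_algebraMap k a]
    exact Ideal.smul_mem_pointwise_smul_iff.mpr ha
  have hcop : (S : Set (Ideal C)).Pairwise (Function.onFun IsCoprime fun I => I ^ (e * (k₀ + n))) := by
    intro I hI J hJ hIJ
    obtain ⟨k, -, rfl⟩ := Finset.mem_image.mp hI
    obtain ⟨k', -, rfl⟩ := Finset.mem_image.mp hJ
    haveI := smul_isMaximal k 𝔫
    haveI := smul_isMaximal k' 𝔫
    exact IsCoprime.pow ((Ideal.isCoprime_iff_sup_eq).mpr (Ideal.IsMaximal.coprime_of_ne ‹_› ‹_› hIJ))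
  rw [← Ideal.prod_eq_iInf_of_pairwise_isCoprime hcop, Finset.prod_pow, pow_mul] at h1
  have h2 : algebraMap A₀ C a ∈ (𝔪.map (algebraMap A₀ C)) ^ (k₀ + n) :=
    Ideal.pow_right_mono he _ h1
  rw [← Ideal.map_pow] at h2
  have h3 : algebraMap A₀ C a ∈ (𝔪 ^ (k₀ + n) • (⊤ : Submodule A₀ C)) ⊓
      LinearMap.range (Algebra.linearMap A₀ C) := by
    refine ⟨?_, ⟨a, rfl⟩⟩
    rw [Ideal.smul_top_eq_map]
    exact h2
  rw [hk₀ (k₀ + n) (Nat.le_add_right _ _), Nat.add_sub_cancel_left] at h3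
  have h4 : 𝔪 ^ n • (𝔪 ^ k₀ • (⊤ : Submodule A₀ C) ⊓ LinearMap.range (Algebra.linearMap A₀ C)) ≤
      Submodule.map (Algebra.linearMap A₀ C) (𝔪 ^ n) := by
    refine (Submodule.smul_mono le_rfl inf_le_right).trans ?_
    rw [LinearMap.range_eq_map, ← Submodule.map_smul'']
    simp
  obtain ⟨c, hc, hca⟩ := h4 h3
  rw [← hinj hca]
  exact hc

end AR

section LemmaA

variable {G : Type*} [Group G] [Finite G] {C : Type*} [CommRing C] [MulSemiringAction G C]
  {A A' : Type*} [CommRing A] [CommRing A'] [Algebra A A'] [Algebra A' C] [Algebra A C]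
  [IsScalarTower A A' C] [SMulCommClass G A C] [Algebra.IsInvariant A C G]
  (H : Subgroup G) [SMulCommClass H A' C] [Algebra.IsInvariant A' C H]

theorem exists_approx [IsNoetherianRing A] [Module.Finite A C]
    (hinj' : Function.Injective (algebraMap A' C)) (𝔫 : Ideal C) [𝔫.IsMaximal]
    (hD : MulAction.stabilizer G 𝔫 ≤ H) (n : ℕ) (x : A') :
    ∃ a : A, algebraMap A A' a - x ∈ (𝔫.under A') ^ n := by
  classical
  cases nonempty_fintype G
  haveI : Module.Finite A' C := Module.Finite.of_restrictScalars_finite A A' C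
  haveI : IsNoetherianRing A' := by
    have h1 : IsNoetherian A C := isNoetherian_of_isNoetherianRing_of_finite A C
    have : IsNoetherian A A' :=
      isNoetherian_of_injective (IsScalarTower.toAlgHom A A' C).toLinearMap hinj'
    exact isNoetherian_of_tower A this
  haveI hint : Algebra.IsIntegral A' C := inferInstance
  obtain ⟨N, hN⟩ := exists_pow_of_mem_pow H hinj' 𝔫 n
  set 𝔫' := 𝔫.under A' with h𝔫'def
  haveI h𝔫' : 𝔫'.IsMaximal := Ideal.isMaximal_comap_of_isIntegral_of_isMaximal 𝔫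
  let T : Finset G := Finset.univ.filter (fun σ => σ ∉ H)
  let J : Ideal A' := ∏ σ ∈ T, (σ • 𝔫).under A'
  have hne : ∀ σ ∈ T, (σ • 𝔫).under A' ≠ 𝔫' := by
    intro σ hσ heq
    haveI := (smul_isMaximal σ 𝔫).isPrime
    obtain ⟨h, hh⟩ := Algebra.IsInvariant.exists_smul_of_under_eq A' C H 𝔫 (σ • 𝔫) heq.symm
    have h1 : (h • 𝔫 : Ideal C) = (h : G) • 𝔫 := rfl
    have hh' : σ • 𝔫 = (h : G) • 𝔫 := hh.trans h1
    have h2 : ((h : G)⁻¹ * σ) • 𝔫 = 𝔫 := by rw [mul_smul, hh', inv_smul_smul]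
    have h3 : (h : G)⁻¹ * σ ∈ H := hD h2
    have h4 : σ ∈ H := by simpa using H.mul_mem h.2 h3
    exact (Finset.mem_filter.mp hσ).2 h4
  have hcop : IsCoprime (J ^ N) (𝔫' ^ n) := by
    apply IsCoprime.pow
    apply IsCoprime.prod_left
    intro σ hσ
    haveI := smul_isMaximal σ 𝔫
    haveI : ((σ • 𝔫).under A').IsMaximal := Ideal.isMaximal_comap_of_isIntegral_of_isMaximal _
    exact (Ideal.isCoprime_iff_sup_eq).mpr (Ideal.IsMaximal.coprime_of_ne ‹_› h𝔫' (hne σ hσ))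
  obtain ⟨j, hj, k, hk, hjk⟩ := Ideal.isCoprime_iff_exists.mp hcop
  -- x' = j * x
  have hinv : ∀ h ∈ H, h • algebraMap A' C (j * x) = algebraMap A' C (j * x) := by
    intro h hh
    exact smul_algebraMap (⟨h, hh⟩ : H) (j * x)
  have hmem : ∀ τ : G, τ ∉ H → τ • algebraMap A' C (j * x) ∈ 𝔫 ^ N := by
    intro τ hτ
    have hτ' : τ⁻¹ ∈ T := Finset.mem_filter.mpr ⟨Finset.mem_univ _, fun h => hτ (by simpa using H.inv_mem h)⟩
    have h1 : J ≤ (τ⁻¹ • 𝔫).under A' := Ideal.prod_le_inf.trans (Finset.inf_le hτ')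
    have h2 : j ∈ ((τ⁻¹ • 𝔫).under A') ^ N := Ideal.pow_right_mono h1 N hj
    have h3 : algebraMap A' C j ∈ (τ⁻¹ • 𝔫) ^ N := by
      have := Ideal.mem_map_of_mem (algebraMap A' C) h2
      rw [Ideal.map_pow] at this
      exact Ideal.pow_right_mono Ideal.map_comap_le N this
    have h4 : algebraMap A' C (j * x) ∈ (τ⁻¹ • 𝔫) ^ N := by
      rw [map_mul]; exact Ideal.mul_mem_right _ _ h3
    have h5 : τ • algebraMap A' C (j * x) ∈ τ • ((τ⁻¹ • 𝔫) ^ N) :=
      Ideal.smul_mem_pointwise_smul_iff.mpr h4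
    rwa [smul_pow', smul_inv_smul] at h5
  obtain ⟨a, ha⟩ := Algebra.IsInvariant.isInvariant (A := A) (ctr H (algebraMap A' C (j * x)))
    (fun g => smul_ctr H hinv g)
  refine ⟨a, ?_⟩
  have h6 : algebraMap A' C (algebraMap A A' a - j * x) ∈ 𝔫 ^ N := by
    rw [map_sub, ← IsScalarTower.algebraMap_apply, ha]
    exact ctr_sub_mem H hinv _ hmem
  have h7 := hN _ h6
  have h8 : j * x - x ∈ 𝔫' ^ n := by
    have : j * x - x = - (k * x) := by
      have : j = 1 - k := by rw [← hjk]; ring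
      rw [this]; ring
    rw [this]
    exact Ideal.neg_mem_iff _ |>.mpr (Ideal.mul_mem_right _ _ hk)
  have : algebraMap A A' a - x = (algebraMap A A' a - j * x) + (j * x - x) := by ring
  rw [this]
  exact Ideal.add_mem _ h7 h8

end LemmaA



section Local

variable {A A' : Type*} [CommRing A] [CommRing A'] (φ : A →+* A') (I' : Ideal A')

/-- elements of `A'` congruent mod `I'` to the image of an element of `I` -/
def approxIdeal (h1 : ∀ z : A', ∃ w, φ w - z ∈ I') (I : Ideal A) : Ideal A' where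
  carrier := {z | ∃ c ∈ I, z - φ c ∈ I'}
  zero_mem' := ⟨0, I.zero_mem, by simp⟩
  add_mem' := by
    rintro a b ⟨c, hc, hac⟩ ⟨d, hd, hbd⟩
    refine ⟨c + d, I.add_mem hc hd, ?_⟩
    have : a + b - φ (c + d) = (a - φ c) + (b - φ d) := by rw [map_add]; ring
    rw [this]; exact I'.add_mem hac hbd
  smul_mem' := by
    rintro z s ⟨c, hc, hsc⟩
    obtain ⟨w, hw⟩ := h1 z
    refine ⟨w * c, I.mul_mem_left _ hc, ?_⟩
    have : z • s - φ (w * c) = z * (s - φ c) - (φ w - z) * φ c := by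
      rw [map_mul, smul_eq_mul]; ring
    rw [this]
    exact I'.sub_mem (I'.mul_mem_left _ hsc) (I'.mul_mem_right _ hw)

theorem approxIdeal_mul_le (h1 : ∀ z : A', ∃ w, φ w - z ∈ I') (I J : Ideal A) :
    approxIdeal φ I' h1 I * approxIdeal φ I' h1 J ≤ approxIdeal φ I' h1 (I * J) := by
  rw [Ideal.mul_le]
  rintro t ⟨c, hc, htc⟩ s ⟨d, hd, hsd⟩
  refine ⟨c * d, Ideal.mul_mem_mul hc hd, ?_⟩
  have : t * s - φ (c * d) = t * (s - φ d) + (t - φ c) * φ d := by rw [map_mul]; ring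
  rw [this]
  exact I'.add_mem (I'.mul_mem_left _ hsd) (I'.mul_mem_right _ htc)

theorem approxIdeal_pow_le (h1 : ∀ z : A', ∃ w, φ w - z ∈ I') (I : Ideal A) (n : ℕ) :
    approxIdeal φ I' h1 I ^ n ≤ approxIdeal φ I' h1 (I ^ n) := by
  induction n with
  | zero =>
    intro z _
    obtain ⟨w, hw⟩ := h1 z
    refine ⟨w, by simp, ?_⟩
    rw [← neg_sub]; exact I'.neg_mem hw
  | succ n ih =>
    rw [pow_succ, pow_succ]
    exact (Ideal.mul_mono_left ih).trans (approxIdeal_mul_le φ I' h1 _ _)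

variable [IsLocalRing A] [IsLocalRing A'] [IsLocalHom φ]

theorem comap_pow_eq_of_approx
    (h1 : ∀ n (z : A'), ∃ w, φ w - z ∈ IsLocalRing.maximalIdeal A' ^ n)
    (h2 : ∀ n, ∃ N, ∀ w, φ w ∈ IsLocalRing.maximalIdeal A' ^ N → w ∈ IsLocalRing.maximalIdeal A ^ n)
    (n : ℕ) :
    Ideal.comap φ (IsLocalRing.maximalIdeal A' ^ n) = IsLocalRing.maximalIdeal A ^ n := by
  apply le_antisymm
  · intro a ha
    obtain ⟨N₀, hN₀⟩ := h2 n
    set N := max N₀ 1 with hNdef
    have hN1 : 1 ≤ N := le_max_right _ _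
    have hle : IsLocalRing.maximalIdeal A' ^ N ≤ IsLocalRing.maximalIdeal A' ^ N₀ :=
      Ideal.pow_le_pow_right (le_max_left _ _)
    have hm : IsLocalRing.maximalIdeal A' ≤
        approxIdeal φ _ (h1 N) (IsLocalRing.maximalIdeal A) := by
      intro z hz
      obtain ⟨w, hw⟩ := h1 N z
      have hw' : φ w - z ∈ IsLocalRing.maximalIdeal A' :=
        (Ideal.pow_le_self (by omega)) hw
      have hφw : φ w ∈ IsLocalRing.maximalIdeal A' := by
        have := Ideal.add_mem _ hw' hz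
        simpa using this
      refine ⟨w, ?_, ?_⟩
      · rw [IsLocalRing.mem_maximalIdeal, mem_nonunits_iff] at hφw ⊢
        exact fun hu => hφw (hu.map φ)
      · rw [← neg_sub]; exact neg_mem hw
    have hmn := (Ideal.pow_right_mono hm n).trans (approxIdeal_pow_le φ _ (h1 N) _ n)
    obtain ⟨c, hc, hac⟩ := hmn ha
    rw [← map_sub] at hac
    have := hN₀ _ (hle hac)
    have h3 := Ideal.add_mem _ this hc
    simpa using h3
  · refine (Ideal.pow_right_mono ?_ n).trans (Ideal.le_comap_pow φ n)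
    intro a ha
    rw [Ideal.mem_comap]
    rw [IsLocalRing.mem_maximalIdeal, mem_nonunits_iff] at ha ⊢
    exact fun hu => ha (isUnit_of_map_unit φ a hu)

end Local

end Groth.Agent.Lib.helper2.InvComp
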