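import Groth.Agent.Lib.Helper2.InvComp1

/-! Localization layer for SGA1 V 2.2 (S6017). -/

namespace Groth.Agent.Lib.helper2.InvComp

open Pointwise


section LocAction

variable (G : Type*) [Group G] {R : Type*} [CommRing R] [MulSemiringAction G R]

/-- every element of the submonoid is fixed by the group -/
class FixesSubmonoid (M₀ : Submonoid R) : Prop where
  fixes : ∀ m ∈ M₀, ∀ g : G, g • m = m

variable {G} (M₀ : Submonoid R) [hM : FixesSubmonoid G M₀]

theorem le_comap_toRingHom (g : G) : M₀ ≤ M₀.comap (MulSemiringAction.toRingHom G R g) := by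
  intro m hm
  rw [Submonoid.mem_comap]
  show g • m ∈ M₀
  rw [hM.fixes m hm g]; exact hm

/-- the induced ring endomorphism on the localization -/
noncomputable def locHom (g : G) : Localization M₀ →+* Localization M₀ :=
  IsLocalization.map (Localization M₀) (MulSemiringAction.toRingHom G R g) (le_comap_toRingHom M₀ g)

theorem locHom_algebraMap (g : G) (r : R) :
    locHom M₀ g (algebraMap R (Localization M₀) r) = algebraMap R (Localization M₀) (g • r) := by
  rw [locHom, IsLocalization.map_eq]; rfl

noncomputable instance locAction : MulSemiringAction G (Localization M₀) where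
  smul g z := locHom M₀ g z
  one_smul z := by
    show locHom M₀ 1 z = z
    have : locHom M₀ (1 : G) = RingHom.id _ := by
      apply IsLocalization.ringHom_ext M₀
      ext r
      simp [locHom_algebraMap]
    rw [this]; rfl
  mul_smul g h z := by
    show locHom M₀ (g * h) z = locHom M₀ g (locHom M₀ h z)
    have : locHom M₀ (g * h) = (locHom M₀ g).comp (locHom M₀ h) := by
      apply IsLocalization.ringHom_ext M₀
      ext r
      simp [locHom_algebraMap, mul_smul]
    rw [this]; rfl
  smul_zero g := map_zero (locHom M₀ g)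
  smul_add g := map_add (locHom M₀ g)
  smul_one g := map_one (locHom M₀ g)
  smul_mul g := map_mul (locHom M₀ g)

theorem smul_algebraMap_loc (g : G) (r : R) :
    g • (algebraMap R (Localization M₀) r) = algebraMap R (Localization M₀) (g • r) :=
  locHom_algebraMap M₀ g r

theorem smul_algebraMap_of_mem (g : G) {m : R} (hm : m ∈ M₀) :
    g • (algebraMap R (Localization M₀) m) = algebraMap R (Localization M₀) m := by
  rw [smul_algebraMap_loc, hM.fixes m hm g]

/-- invariant elements of the localization have invariant numerators -/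
theorem exists_invariant_num [Finite G] (H : Subgroup G) (z : Localization M₀)
    (hz : ∀ h ∈ H, h • z = z) :
    ∃ (r : R) (m : M₀), (∀ h ∈ H, h • r = r) ∧ z = IsLocalization.mk' (Localization M₀) r m := by
  classical
  obtain ⟨r, m, rfl⟩ := IsLocalization.exists_mk'_eq M₀ z
  have h1 : ∀ h : H, ∃ t : M₀, (t : R) * ((h : G) • r) = t * r := by
    intro h
    have h2 := hz h h.2
    have h3 : (h : G) • (IsLocalization.mk' (Localization M₀) r m * algebraMap R _ (m : R)) =
        IsLocalization.mk' (Localization M₀) r m * algebraMap R _ (m : R) := by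
      rw [smul_mul', h2, smul_algebraMap_of_mem M₀ _ m.2]
    rw [IsLocalization.mk'_spec, smul_algebraMap_loc] at h3
    obtain ⟨t, ht⟩ := (IsLocalization.eq_iff_exists M₀ _).mp h3
    exact ⟨t, ht⟩
  choose t ht using h1
  cases nonempty_fintype H
  let T : M₀ := ∏ h : H, t h
  have hT : ∀ h : H, (T : R) * ((h : G) • r) = T * r := by
    intro h
    have : T = (∏ h' ∈ Finset.univ.erase h, t h') * t h := by
      rw [Finset.prod_erase_mul _ _ (Finset.mem_univ h)]
    rw [this, Submonoid.coe_mul, mul_assoc, ht h, mul_assoc]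
  refine ⟨T * r, T * m, ?_, ?_⟩
  · intro h hh
    rw [smul_mul', hM.fixes _ T.2 h]
    exact hT ⟨h, hh⟩
  · rw [mul_comm (T : R) r, mul_comm T m]
    exact (IsLocalization.mk'_cancel _ _ _).symm

end LocAction

section MapInj

theorem map_injective_of_lift {R₁ R₂ : Type*} [CommRing R₁] [CommRing R₂] (f : R₁ →+* R₂)
    (hf : Function.Injective f) (M₁ : Submonoid R₁) (T : Submonoid R₂) (hle : M₁ ≤ T.comap f)
    (hT : ∀ t ∈ T, ∃ t' ∈ M₁, f t' = t) :
    Function.Injective (IsLocalization.map (Localization T) f hle :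
      Localization M₁ →+* Localization T) := by
  rw [injective_iff_map_eq_zero]
  intro z hz
  obtain ⟨r, m, rfl⟩ := IsLocalization.exists_mk'_eq M₁ z
  rw [IsLocalization.map_mk', IsLocalization.mk'_eq_zero_iff] at hz
  obtain ⟨t, ht⟩ := hz
  obtain ⟨t', ht', htt'⟩ := hT t t.2
  rw [IsLocalization.mk'_eq_zero_iff]
  refine ⟨⟨t', ht'⟩, hf ?_⟩
  rw [map_mul, map_zero, htt']; exact ht

end MapInj

section Setup

variable {G R : Type*} [Group G] [Finite G] [CommRing R] [MulSemiringAction G R]
  (H : Subgroup G) (hle : FixedPoints.subring R G ≤ FixedPoints.subring R H)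
  (p : Ideal (FixedPoints.subring R G)) [p.IsPrime]

/-- image of the complement of `p` in `R` -/
abbrev M₀ : Submonoid R := Algebra.algebraMapSubmonoid R p.primeCompl

/-- image of the complement of `p` in `R^H` -/
abbrev M₁ : Submonoid (FixedPoints.subring R H) := p.primeCompl.map (Subring.inclusion hle)

instance fixesM₀ : FixesSubmonoid G (M₀ p) where
  fixes := by
    rintro m ⟨b, -, rfl⟩ g
    exact b.2 g

/-- `R` localized at `p` -/
abbrev Rp := Localization (M₀ p)

/-- `R^H` localized at `p` -/
abbrev R'p := Localization (M₁ H hle p)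

theorem le1 : p.primeCompl ≤ (M₁ H hle p).comap (Subring.inclusion hle) :=
  Submonoid.le_comap_map _

theorem le2 : M₁ H hle p ≤ (M₀ p).comap (FixedPoints.subring R H).subtype := by
  rintro _ ⟨b, hb, rfl⟩
  exact ⟨b, hb, rfl⟩

/-- `B_p → R'_p` -/
noncomputable def ιA : Localization.AtPrime p →+* R'p H hle p :=
  IsLocalization.map _ (Subring.inclusion hle) (le1 H hle p)

/-- `R'_p → R_p` -/
noncomputable def ιC' : R'p H hle p →+* Rp p :=
  IsLocalization.map _ (FixedPoints.subring R H).subtype (le2 H hle p)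

theorem ιC'_injective : Function.Injective (ιC' H hle p) := by
  apply map_injective_of_lift _ Subtype.val_injective
  rintro _ ⟨b, hb, rfl⟩
  exact ⟨Subring.inclusion hle b, ⟨b, hb, rfl⟩, rfl⟩

theorem ιA_injective : Function.Injective (ιA H hle p) := by
  apply map_injective_of_lift _ (Subring.inclusion_injective hle)
  rintro _ ⟨b, hb, rfl⟩
  exact ⟨b, hb, rfl⟩


/-- `B_p → R_p` -/
noncomputable def ιC : Localization.AtPrime p →+* Rp p :=
  IsLocalization.map (M := p.primeCompl) (T := M₀ p) (Rp p)
    (algebraMap (FixedPoints.subring R G) R) (Submonoid.le_comap_map _)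

theorem ιC_eq : ιC p = (ιC' H hle p).comp (ιA H hle p) := by
  apply IsLocalization.ringHom_ext p.primeCompl
  ext b
  simp only [RingHom.comp_apply, ιC, ιA, ιC', IsLocalization.map_eq]
  rfl

@[instance_reducible] noncomputable def algA : Algebra (Localization.AtPrime p) (R'p H hle p) := (ιA H hle p).toAlgebra
@[instance_reducible] noncomputable def algC' : Algebra (R'p H hle p) (Rp p) := (ιC' H hle p).toAlgebra
@[instance_reducible] noncomputable def algC : Algebra (Localization.AtPrime p) (Rp p) := (ιC p).toAlgebra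

attribute [local instance] algA algC' algC

instance towerAC : IsScalarTower (Localization.AtPrime p) (R'p H hle p) (Rp p) :=
  IsScalarTower.of_algebraMap_eq (fun x => by
    show ιC p x = ιC' H hle p (ιA H hle p x)
    rw [ιC_eq H hle p]; rfl)

instance towerBC : IsScalarTower (FixedPoints.subring R G) (Localization.AtPrime p) (Rp p) :=
  IsScalarTower.of_algebraMap_eq (fun x => by
    show _ = ιC p (algebraMap _ _ x)
    rw [ιC, IsLocalization.map_eq, IsScalarTower.algebraMap_apply (FixedPoints.subring R G) R (Rp p)])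

theorem finite_Rp [Module.Finite (FixedPoints.subring R G) R] :
    Module.Finite (Localization.AtPrime p) (Rp p) :=
  Module.Finite.of_isLocalization (FixedPoints.subring R G) R p.primeCompl

theorem ιC_mk' (b : FixedPoints.subring R G) (m : p.primeCompl) :
    ιC p (IsLocalization.mk' _ b m) =
      IsLocalization.mk' (Rp p) (b : R) (⟨(m : FixedPoints.subring R G), ⟨m, m.2, rfl⟩⟩ : M₀ p) := by
  rw [ιC, IsLocalization.map_mk']; rfl

theorem smul_ιC (g : G) (a : Localization.AtPrime p) : g • ιC p a = ιC p a := by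
  obtain ⟨b, m, rfl⟩ := IsLocalization.exists_mk'_eq p.primeCompl a
  rw [ιC_mk']
  have h1 : IsLocalization.mk' (Rp p) (b : R) (⟨(m : FixedPoints.subring R G), ⟨m, m.2, rfl⟩⟩ : M₀ p) *
      algebraMap R (Rp p) ((m : FixedPoints.subring R G) : R) = algebraMap R (Rp p) (b : R) :=
    IsLocalization.mk'_spec _ _ _
  have hu : IsUnit (algebraMap R (Rp p) ((m : FixedPoints.subring R G) : R)) :=
    IsLocalization.map_units (Rp p) (⟨(m : FixedPoints.subring R G), ⟨m, m.2, rfl⟩⟩ : M₀ p)
  apply hu.mul_right_cancel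
  have h2 : g • algebraMap R (Rp p) ((m : FixedPoints.subring R G) : R) =
      algebraMap R (Rp p) ((m : FixedPoints.subring R G) : R) := by
    rw [smul_algebraMap_loc, (m : FixedPoints.subring R G).2 g]
  conv_lhs => rw [← h2, ← smul_mul', h1, smul_algebraMap_loc, b.2 g]
  exact h1.symm

instance commG : SMulCommClass G (Localization.AtPrime p) (Rp p) where
  smul_comm g a c := by
    show g • (ιC p a * c) = ιC p a * g • c
    rw [smul_mul', smul_ιC]

instance invG : Algebra.IsInvariant (Localization.AtPrime p) (Rp p) G where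
  isInvariant z hz := by
    obtain ⟨r, m, hr, rfl⟩ := exists_invariant_num (M₀ p) (⊤ : Subgroup G) z (fun h _ => hz h)
    obtain ⟨m', hm', hmm'⟩ := m.2
    refine ⟨IsLocalization.mk' _ (⟨r, fun g => hr g trivial⟩ : FixedPoints.subring R G) ⟨m', hm'⟩, ?_⟩
    show ιC p _ = _
    rw [ιC_mk']
    congr 1
    exact Subtype.ext hmm'


theorem ιC'_mk' (b : FixedPoints.subring R H) (m : M₁ H hle p) :
    ιC' H hle p (IsLocalization.mk' _ b m) =
      IsLocalization.mk' (Rp p) (b : R) (⟨(m : FixedPoints.subring R H), le2 H hle p m.2⟩ : M₀ p) := by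
  rw [ιC', IsLocalization.map_mk']; rfl

theorem smul_ιC' (h : H) (a : R'p H hle p) : h • ιC' H hle p a = ιC' H hle p a := by
  obtain ⟨b, m, rfl⟩ := IsLocalization.exists_mk'_eq (M₁ H hle p) a
  rw [ιC'_mk']
  set m₀ : M₀ p := ⟨(m : FixedPoints.subring R H), le2 H hle p m.2⟩ with hm₀
  have h1 : IsLocalization.mk' (Rp p) (b : R) m₀ * algebraMap R (Rp p) (m₀ : R) =
      algebraMap R (Rp p) (b : R) := IsLocalization.mk'_spec _ _ _
  have hu : IsUnit (algebraMap R (Rp p) (m₀ : R)) := IsLocalization.map_units (Rp p) m₀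
  apply hu.mul_right_cancel
  have h2 : (h : G) • algebraMap R (Rp p) (m₀ : R) = algebraMap R (Rp p) (m₀ : R) :=
    smul_algebraMap_of_mem (M₀ p) _ m₀.2
  show (h : G) • IsLocalization.mk' (Rp p) (b : R) m₀ * algebraMap R (Rp p) (m₀ : R) = _
  conv_lhs => rw [← h2, ← smul_mul', h1, smul_algebraMap_loc]
  rw [h1]
  congr 1
  exact b.2 h

instance commH : SMulCommClass H (R'p H hle p) (Rp p) where
  smul_comm h a c := by
    show h • (ιC' H hle p a * c) = ιC' H hle p a * h • c
    rw [smul_mul', smul_ιC']

instance invH : Algebra.IsInvariant (R'p H hle p) (Rp p) H where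
  isInvariant z hz := by
    obtain ⟨r, m, hr, rfl⟩ := exists_invariant_num (M₀ p) H z (fun h hh => hz ⟨h, hh⟩)
    obtain ⟨m', hm', hmm'⟩ := m.2
    refine ⟨IsLocalization.mk' _ (⟨r, fun h => hr h h.2⟩ : FixedPoints.subring R H)
      (⟨Subring.inclusion hle m', ⟨m', hm', rfl⟩⟩ : M₁ H hle p), ?_⟩
    show ιC' H hle p _ = _
    rw [ιC'_mk']
    congr 1
    exact Subtype.ext hmm'


section Prime

variable (q : Ideal R) [hq : q.IsPrime] (hp : ∀ b : FixedPoints.subring R G, b ∈ p ↔ (b : R) ∈ q)

/-- the extension of `q` to `R_p` -/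
abbrev nn : Ideal (Rp p) := Ideal.map (algebraMap R (Rp p)) q

include hp in
theorem disj : Disjoint (M₀ p : Set R) (q : Set R) := by
  rw [Set.disjoint_left]
  rintro _ ⟨b, hb, rfl⟩ hbq
  exact hb ((hp b).mpr hbq)

include hp in
theorem nn_isPrime : (nn p q).IsPrime :=
  IsLocalization.isPrime_of_isPrime_disjoint (M₀ p) (Rp p) q hq (disj p q hp)

include hp in
theorem nn_comap : (nn p q).comap (algebraMap R (Rp p)) = q :=
  IsLocalization.under_map_of_isPrime_disjoint (M₀ p) (Rp p) hq (disj p q hp)

include hp in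
theorem mem_nn_iff (x : R) : algebraMap R (Rp p) x ∈ nn p q ↔ x ∈ q := by
  conv_rhs => rw [← nn_comap p q hp]
  rfl

include hp in
theorem nn_under : (nn p q).comap (ιC p) = IsLocalRing.maximalIdeal (Localization.AtPrime p) := by
  haveI := nn_isPrime p q hp
  have h1 : ((nn p q).comap (ιC p)).comap (algebraMap (FixedPoints.subring R G) (Localization.AtPrime p)) = p := by
    ext b
    rw [Ideal.mem_comap, Ideal.mem_comap, hp b, ← mem_nn_iff p q hp]
    have : ιC p (algebraMap _ _ b) = algebraMap R (Rp p) (b : R) := by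
      rw [ιC, IsLocalization.map_eq]; rfl
    rw [this]
  have h2 := IsLocalization.map_under p.primeCompl (Localization.AtPrime p) ((nn p q).comap (ιC p))
  rw [Ideal.under_def, h1, Localization.AtPrime.map_eq_maximalIdeal] at h2
  exact h2.symm

include hp in
theorem nn_isMaximal [Module.Finite (FixedPoints.subring R G) R] : (nn p q).IsMaximal := by
  haveI := nn_isPrime p q hp
  haveI := finite_Rp p
  haveI : Algebra.IsIntegral (Localization.AtPrime p) (Rp p) := inferInstance
  apply Ideal.isMaximal_of_isIntegral_of_isMaximal_comap (R := Localization.AtPrime p) (nn p q)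
  show ((nn p q).comap (ιC p)).IsMaximal
  rw [nn_under p q hp]
  infer_instance

include hp in
theorem stab_nn_le : MulAction.stabilizer G (nn p q) ≤ MulAction.stabilizer G q := by
  intro g hg
  rw [MulAction.mem_stabilizer_iff] at hg ⊢
  ext x
  rw [Ideal.mem_pointwise_smul_iff_inv_smul_mem, ← mem_nn_iff p q hp, ← smul_algebraMap_loc,
    ← Ideal.mem_pointwise_smul_iff_inv_smul_mem, hg, mem_nn_iff p q hp]

end Prime


section Main

variable (q : Ideal R) [hq : q.IsPrime]

/-- `q ∩ R^H` -/
abbrev q' : Ideal (FixedPoints.subring R H) := q.comap (FixedPoints.subring R H).subtype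

/-- `q ∩ R^G` -/
abbrev pp : Ideal (FixedPoints.subring R G) := (q' H q).comap (Subring.inclusion hle)

theorem hpp : ∀ b : FixedPoints.subring R G, b ∈ pp H hle q ↔ (b : R) ∈ q := fun _ => Iff.rfl

theorem le3 : M₁ H hle (pp H hle q) ≤ (q' H q).primeCompl.comap (RingHom.id _) := by
  rintro _ ⟨b, hb, rfl⟩
  exact hb

/-- `R'_p → R'_{q'}` -/
noncomputable def ψ : R'p H hle (pp H hle q) →+* Localization.AtPrime (q' H q) :=
  IsLocalization.map _ (RingHom.id _) (le3 H hle q)

/-- the local homomorphism of the statement -/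
noncomputable abbrev φ : Localization.AtPrime (pp H hle q) →+* Localization.AtPrime (q' H q) :=
  Localization.localRingHom (pp H hle q) (q' H q) (Subring.inclusion hle) rfl

theorem φ_eq : φ H hle q = (ψ H hle q).comp (ιA H hle (pp H hle q)) := by
  apply IsLocalization.ringHom_ext (pp H hle q).primeCompl
  ext b
  simp only [RingHom.comp_apply, Localization.localRingHom_to_map, ψ, ιA, IsLocalization.map_eq]
  rfl

theorem ψ_mem (z : R'p H hle (pp H hle q)) (hz : ιC' H hle _ z ∈ nn (pp H hle q) q) :
    ψ H hle q z ∈ IsLocalRing.maximalIdeal (Localization.AtPrime (q' H q)) := by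
  obtain ⟨b, m, rfl⟩ := IsLocalization.exists_mk'_eq (M₁ H hle (pp H hle q)) z
  rw [ιC'_mk', IsLocalization.mk'_mem_iff, mem_nn_iff _ q (hpp H hle q)] at hz
  rw [ψ, IsLocalization.map_mk']
  exact (IsLocalization.AtPrime.mk'_mem_maximal_iff (Localization.AtPrime (q' H q)) (q' H q) _ _).mpr hz

variable [IsNoetherianRing (FixedPoints.subring R G)] [Module.Finite (FixedPoints.subring R G) R]
  (hD : MulAction.stabilizer G q ≤ H)

include hD in
theorem approx_alg (n : ℕ) (x : R'p H hle (pp H hle q)) :
    ∃ a : Localization.AtPrime (pp H hle q),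
      φ H hle q a - ψ H hle q x ∈ IsLocalRing.maximalIdeal (Localization.AtPrime (q' H q)) ^ n := by
  haveI := finite_Rp (pp H hle q)
  haveI := nn_isMaximal (pp H hle q) q (hpp H hle q)
  haveI : IsNoetherianRing (Localization.AtPrime (pp H hle q)) :=
    IsLocalization.isNoetherianRing (pp H hle q).primeCompl _ inferInstance
  obtain ⟨a, ha⟩ := exists_approx (A := Localization.AtPrime (pp H hle q)) H
    (ιC'_injective H hle (pp H hle q)) (nn (pp H hle q) q)
    ((stab_nn_le (pp H hle q) q (hpp H hle q)).trans hD) n x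
  refine ⟨a, ?_⟩
  have h1 : (nn (pp H hle q) q).under (R'p H hle (pp H hle q)) ≤
      (IsLocalRing.maximalIdeal (Localization.AtPrime (q' H q))).comap (ψ H hle q) :=
    fun z hz => ψ_mem H hle q z hz
  have h2 := (Ideal.pow_right_mono h1 n).trans (Ideal.le_comap_pow _ n) ha
  rw [Ideal.mem_comap, map_sub] at h2
  rw [φ_eq]
  exact h2


include hD in
theorem approx_i (n : ℕ) (z : Localization.AtPrime (q' H q)) :
    ∃ w, φ H hle q w - z ∈ IsLocalRing.maximalIdeal (Localization.AtPrime (q' H q)) ^ n := by
  rcases Nat.eq_zero_or_pos n with rfl | hn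
  · exact ⟨0, by simp⟩
  obtain ⟨x, s, rfl⟩ := IsLocalization.exists_mk'_eq (q' H q).primeCompl z
  have hψ : ∀ y : FixedPoints.subring R H,
      ψ H hle q (algebraMap _ _ y) = algebraMap _ (Localization.AtPrime (q' H q)) y := by
    intro y; rw [ψ, IsLocalization.map_eq]; rfl
  obtain ⟨ax, hax⟩ := approx_alg H hle q hD n (algebraMap _ _ x)
  obtain ⟨as, has⟩ := approx_alg H hle q hD n (algebraMap _ _ (s : FixedPoints.subring R H))
  rw [hψ] at hax has
  set m := IsLocalRing.maximalIdeal (Localization.AtPrime (q' H q)) with hm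
  have hsu : IsUnit (algebraMap _ (Localization.AtPrime (q' H q)) (s : FixedPoints.subring R H)) :=
    IsLocalization.map_units _ s
  have hφas : IsUnit (φ H hle q as) := by
    by_contra hnu
    have h1 : φ H hle q as ∈ m := hnu
    have h2 : φ H hle q as - algebraMap _ _ (s : FixedPoints.subring R H) ∈ m :=
      Ideal.pow_le_self (by omega) has
    have h3 : algebraMap _ (Localization.AtPrime (q' H q)) (s : FixedPoints.subring R H) ∈ m := by
      have := Ideal.sub_mem _ h1 h2
      simpa using this
    exact h3 hsu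
  have hasu : IsUnit as := isUnit_of_map_unit (φ H hle q) as hφas
  obtain ⟨u, rfl⟩ := hasu
  refine ⟨ax * ↑u⁻¹, ?_⟩
  rw [← Ideal.mul_unit_mem_iff_mem _ (hφas.mul hsu)]
  have hz : IsLocalization.mk' (Localization.AtPrime (q' H q)) x s *
      algebraMap _ _ (s : FixedPoints.subring R H) = algebraMap _ _ x := IsLocalization.mk'_spec _ _ _
  have hu : φ H hle q (↑u⁻¹) * φ H hle q ↑u = 1 := by rw [← map_mul]; simp
  have key : (φ H hle q (ax * ↑u⁻¹) - IsLocalization.mk' (Localization.AtPrime (q' H q)) x s) *
      (φ H hle q ↑u * algebraMap _ _ (s : FixedPoints.subring R H)) =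
      (φ H hle q ax - algebraMap _ _ x) * algebraMap _ _ (s : FixedPoints.subring R H) -
        algebraMap _ _ x * (φ H hle q ↑u - algebraMap _ _ (s : FixedPoints.subring R H)) := by
    rw [map_mul]
    calc _ = φ H hle q ax * (φ H hle q (↑u⁻¹) * φ H hle q ↑u) * algebraMap _ _ (s : FixedPoints.subring R H)
          - (IsLocalization.mk' (Localization.AtPrime (q' H q)) x s *
            algebraMap _ _ (s : FixedPoints.subring R H)) * φ H hle q ↑u := by ring
      _ = _ := by rw [hu, hz]; ring
  rw [key]
  exact Ideal.sub_mem _ (Ideal.mul_mem_right _ _ hax) (Ideal.mul_mem_left _ _ has)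


theorem approx_ii (n : ℕ) : ∃ N, ∀ w, φ H hle q w ∈
      IsLocalRing.maximalIdeal (Localization.AtPrime (q' H q)) ^ N →
      w ∈ IsLocalRing.maximalIdeal (Localization.AtPrime (pp H hle q)) ^ n := by
  haveI := finite_Rp (pp H hle q)
  haveI := nn_isMaximal (pp H hle q) q (hpp H hle q)
  haveI : IsNoetherianRing (Localization.AtPrime (pp H hle q)) :=
    IsLocalization.isNoetherianRing (pp H hle q).primeCompl _ inferInstance
  have hinj : Function.Injective (algebraMap (Localization.AtPrime (pp H hle q)) (Rp (pp H hle q))) := by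
    show Function.Injective (ιC (pp H hle q))
    rw [ιC_eq H hle]
    exact (ιC'_injective H hle _).comp (ιA_injective H hle _)
  obtain ⟨N, hN⟩ := exists_pow_of_mem_pow G hinj (nn (pp H hle q) q) n
  refine ⟨N, fun w hw => ?_⟩
  have hu : (nn (pp H hle q) q).under (Localization.AtPrime (pp H hle q)) =
      IsLocalRing.maximalIdeal (Localization.AtPrime (pp H hle q)) := nn_under (pp H hle q) q (hpp H hle q)
  rw [← hu]
  apply hN
  show ιC (pp H hle q) w ∈ _
  rcases Nat.eq_zero_or_pos N with rfl | hNpos
  · simp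
  obtain ⟨b, t, rfl⟩ := IsLocalization.exists_mk'_eq (pp H hle q).primeCompl w
  rw [Localization.localRingHom_mk', ← Localization.AtPrime.map_eq_maximalIdeal, ← Ideal.map_pow,
    IsLocalization.mk'_mem_map_algebraMap_iff] at hw
  obtain ⟨s', hs', hmem⟩ := hw
  have h1 : ((s' : R) * (b : R)) ∈ q ^ N := by
    have := Ideal.mem_map_of_mem (FixedPoints.subring R H).subtype hmem
    rw [Ideal.map_pow] at this
    exact Ideal.pow_right_mono Ideal.map_comap_le N this
  have h2 : algebraMap R (Rp (pp H hle q)) (s' : R) * algebraMap R (Rp (pp H hle q)) (b : R) ∈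
      (nn (pp H hle q) q) ^ N := by
    rw [← map_mul, ← Ideal.map_pow]
    exact Ideal.mem_map_of_mem _ h1
  have hrad : ((nn (pp H hle q) q) ^ N).radical = nn (pp H hle q) q :=
    (Ideal.radical_pow (I := nn (pp H hle q) q) (n := N) (by omega)).trans
      (Ideal.IsPrime.radical (Ideal.IsMaximal.isPrime ‹_›))
  have hprim : ((nn (pp H hle q) q) ^ N).IsPrimary := by
    apply Ideal.isPrimary_of_isMaximal_radical
    rw [hrad]
    infer_instance
  rw [ιC_mk', IsLocalization.mk'_mem_iff]
  rw [mul_comm] at h2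
  rcases (Ideal.isPrimary_iff.mp hprim).2 h2 with h3 | h3
  · exact h3
  · exfalso
    rw [hrad, mem_nn_iff _ q (hpp H hle q)] at h3
    exact hs' h3

include hD in
theorem main (n : ℕ) :
    Function.Surjective ((Ideal.Quotient.mk
        (IsLocalRing.maximalIdeal (Localization.AtPrime (q' H q)) ^ n)).comp (φ H hle q)) ∧
      Ideal.comap (φ H hle q) (IsLocalRing.maximalIdeal (Localization.AtPrime (q' H q)) ^ n) =
        IsLocalRing.maximalIdeal (Localization.AtPrime (pp H hle q)) ^ n := by
  refine ⟨fun zb => ?_, ?_⟩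
  · obtain ⟨z, rfl⟩ := Ideal.Quotient.mk_surjective zb
    obtain ⟨w, hw⟩ := approx_i H hle q hD n z
    exact ⟨w, (Ideal.Quotient.eq).mpr hw⟩
  · exact comap_pow_eq_of_approx (φ H hle q) (fun n z => approx_i H hle q hD n z)
      (fun n => approx_ii H hle q n) n

end Main

end Setup

end Groth.Agent.Lib.helper2.InvComp
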