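import Mathlib

set_option autoImplicit false
universe u v w
open scoped nonZeroDivisors
open Polynomial IntermediateField

namespace Groth.Agent.Lib.helper2.Kum

section
variable {A : Type u} {K : Type v} {L : Type w} [CommRing A] [IsDedekindDomain A]
    [Field K] [Algebra A K] [IsFractionRing A K]
    [Field L] [Algebra K L] [Algebra A L] [IsScalarTower A K L]

omit [IsDedekindDomain A] in
theorem fi_pow_mem_pow {I : FractionalIdeal A⁰ K} {a : K} (ha : a ∈ I) (n : ℕ) : a ^ n ∈ I ^ n := by
  induction n with
  | zero => rw [pow_zero, pow_zero]; exact FractionalIdeal.one_mem_one _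
  | succ k ih => rw [pow_succ, pow_succ]; exact FractionalIdeal.mul_mem_mul ih ha

/-- local generator of an invertible fractional ideal away from a prime -/
theorem exists_local_generator (p : Ideal A) [p.IsPrime] (n : ℕ) (f : K) (hf : f ≠ 0)
    (I : FractionalIdeal A⁰ K) (hI : FractionalIdeal.spanSingleton A⁰ f = I ^ n) (hn : n ≠ 0) :
    ∃ (g : K) (r : A), g ≠ 0 ∧ r ∉ p ∧ g ^ n = algebraMap A K r * f := by
  have hI0 : I ≠ 0 := by
    rintro rfl
    rw [zero_pow hn] at hI
    exact hf (FractionalIdeal.spanSingleton_eq_zero_iff.mp hI)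
  have hmul : I * I⁻¹ = 1 := mul_inv_cancel₀ hI0
  -- find a ∈ I, b ∈ I⁻¹ with a b ∉ p
  have hex : ∃ a ∈ I, ∃ b ∈ I⁻¹, a * b ∉ (p : FractionalIdeal A⁰ K) := by
    by_contra hcon
    push_neg at hcon
    have hle : I * I⁻¹ ≤ (p : FractionalIdeal A⁰ K) :=
      FractionalIdeal.mul_le.mpr fun a ha b hb => hcon a ha b hb
    rw [hmul] at hle
    have h1 : (1 : K) ∈ (p : FractionalIdeal A⁰ K) := hle (FractionalIdeal.one_mem_one _)
    rw [FractionalIdeal.mem_coeIdeal] at h1
    obtain ⟨c, hc, hc1⟩ := h1
    have : c = 1 := IsFractionRing.injective A K (by rw [hc1, map_one])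
    rw [this] at hc
    exact (Ideal.ne_top_iff_one p).mp (Ideal.IsPrime.ne_top inferInstance) hc
  obtain ⟨a, ha, b, hb, hab⟩ := hex
  have hab1 : a * b ∈ (1 : FractionalIdeal A⁰ K) := by
    rw [← hmul]; exact FractionalIdeal.mul_mem_mul ha hb
  rw [FractionalIdeal.mem_one_iff] at hab1
  obtain ⟨c, hc⟩ := hab1
  have hcp : c ∉ p := by
    intro hcp
    apply hab
    rw [FractionalIdeal.mem_coeIdeal]
    exact ⟨c, hcp, hc⟩
  -- powers
  have han : a ^ n ∈ FractionalIdeal.spanSingleton A⁰ f := by
    rw [hI]; exact fi_pow_mem_pow ha n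
  have hbn : b ^ n ∈ FractionalIdeal.spanSingleton A⁰ f⁻¹ := by
    rw [← FractionalIdeal.spanSingleton_inv, hI, ← inv_pow]
    exact fi_pow_mem_pow hb n
  rw [FractionalIdeal.mem_spanSingleton] at han hbn
  obtain ⟨r, hr⟩ := han
  obtain ⟨r', hr'⟩ := hbn
  have hrr : r * r' = c ^ n := by
    apply IsFractionRing.injective A K
    rw [map_mul, map_pow, hc, mul_pow, ← hr, ← hr', Algebra.smul_def, Algebra.smul_def]
    field_simp
  have hrp : r ∉ p := by
    intro hrp
    exact hcp (Ideal.IsPrime.mem_of_pow_mem inferInstance n (hrr ▸ Ideal.mul_mem_right _ _ hrp))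
  refine ⟨a, r, ?_, hrp, ?_⟩
  · rintro rfl
    rw [zero_mul] at hc
    have : c = 0 := IsFractionRing.injective A K (by rw [hc, map_zero])
    exact hcp (this ▸ p.zero_mem)
  · rw [← hr, Algebra.smul_def]

attribute [local instance] FractionRing.liftAlgebra FractionRing.isScalarTower_liftAlgebra in
/-- **S14177.** Kummer covers of a Dedekind domain along `n`-divisible divisors are finite étale. -/
theorem etale_integralClosure (n : ℕ) (hn : IsUnit (n : A)) (f : K) (hf : f ≠ 0)
    (I : FractionalIdeal A⁰ K) (hI : FractionalIdeal.spanSingleton A⁰ f = I ^ n)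
    (α : L) (hα : α ^ n = algebraMap K L f) (hgen : IntermediateField.adjoin K {α} = ⊤) :
    Algebra.Etale A (integralClosure A L) ∧ Module.Finite A (integralClosure A L) := by
  have hn0 : n ≠ 0 := by
    rintro rfl
    simp at hn
  have hnK : (n : K) ≠ 0 := by
    have := (hn.map (algebraMap A K)).ne_zero
    simpa using this
  have hroot : aeval α (X ^ n - C f : K[X]) = 0 := by simp [hα]
  have hαint : IsIntegral K α := ⟨X ^ n - C f, monic_X_pow_sub_C f hn0, hroot⟩
  have hαsep : IsSeparable K α :=
    (separable_X_pow_sub_C f hnK hf).of_dvd (minpoly.dvd K α hroot)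
  haveI : FiniteDimensional K K⟮α⟯ := IntermediateField.adjoin.finiteDimensional hαint
  haveI : Algebra.IsSeparable K K⟮α⟯ :=
    (IntermediateField.isSeparable_adjoin_simple_iff_isSeparable K L).mpr hαsep
  let eTop : K⟮α⟯ ≃ₐ[K] L := (IntermediateField.equivOfEq hgen).trans IntermediateField.topEquiv
  haveI : FiniteDimensional K L := eTop.toLinearEquiv.finiteDimensional
  haveI : Algebra.IsSeparable K L := AlgEquiv.Algebra.isSeparable eTop
  set B := integralClosure A L with hB
  haveI : IsDedekindDomain B := IsIntegralClosure.isDedekindDomain A K L B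
  haveI hfin : Module.Finite A B := IsIntegralClosure.finite A K L B
  haveI : IsFractionRing B L := IsIntegralClosure.isFractionRing_of_finite_extension A K L B
  have hinjAL : Function.Injective (algebraMap A L) := by
    rw [IsScalarTower.algebraMap_eq A K L]
    exact (algebraMap K L).injective.comp (IsFractionRing.injective A K)
  haveI : Module.IsTorsionFree A B := by
    apply Module.IsTorsionFree.of_smul_eq_zero
    intro r m hrm
    have h1 : algebraMap A L r * (m : L) = 0 := by
      have := congrArg (Subtype.val : B → L) hrm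
      simpa [Algebra.smul_def] using this
    rcases mul_eq_zero.mp h1 with h | h
    · left; exact hinjAL (by rw [h, map_zero])
    · right; exact Subtype.ext h
  haveI : Module.Flat A B := inferInstance
  haveI : Algebra.FinitePresentation A B :=
    Algebra.FinitePresentation.of_finiteType.mp inferInstance
  refine ⟨?_, hfin⟩
  -- separability of the canonical fraction fields
  have H : RingHom.comp (algebraMap (FractionRing A) (FractionRing B))
      ↑(FractionRing.algEquiv A K).symm.toRingEquiv =
        RingHom.comp ↑(FractionRing.algEquiv B L).symm.toRingEquiv (algebraMap K L) := by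
    apply IsLocalization.ringHom_ext A⁰
    ext
    simp only [RingHom.coe_comp, RingHom.coe_coe,
      AlgEquiv.coe_ringEquiv, Function.comp_apply, AlgEquiv.commutes,
      ← IsScalarTower.algebraMap_apply]
    rw [IsScalarTower.algebraMap_apply A B L, AlgEquiv.commutes, ← IsScalarTower.algebraMap_apply]
  haveI : Algebra.IsSeparable (FractionRing A) (FractionRing B) :=
    Algebra.IsSeparable.of_equiv_equiv _ _ H
  haveI : Algebra.FormallyUnramified A B := by
    rw [Algebra.formallyUnramified_iff_forall]
    intro P
    rw [← not_dvd_differentIdeal_iff, Ideal.dvd_iff_le]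
    intro hle
    set p : Ideal A := P.asIdeal.comap (algebraMap A B) with hp
    haveI : p.IsPrime := Ideal.comap_isPrime _ _
    obtain ⟨g, r, hg, hrp, hgn⟩ := exists_local_generator p n f hf I hI hn0
    have hr0 : r ≠ 0 := fun h => hrp (h ▸ p.zero_mem)
    have hrK : algebraMap A K r ≠ 0 := fun h =>
      hr0 (IsFractionRing.injective A K (by rw [h, map_zero]))
    set k : K := algebraMap A K r / g with hk
    have hk0 : k ≠ 0 := div_ne_zero hrK hg
    set x : L := algebraMap K L k * α with hx
    set w : A := r ^ (n - 1) with hw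
    have hkn : k ^ n * f = algebraMap A K w := by
      rw [hk, div_pow, hgn, hw, map_pow]
      have : n = (n - 1) + 1 := by omega
      conv_lhs => rw [this, pow_succ]
      field_simp
    have hxn : x ^ n = algebraMap A L w := by
      rw [hx, mul_pow, hα, ← map_pow, ← map_mul, hkn, ← IsScalarTower.algebraMap_apply]
    have hxint : IsIntegral A x :=
      ⟨X ^ n - C w, monic_X_pow_sub_C w hn0, by simp [hxn]⟩
    let xB : B := ⟨x, hxint⟩
    have hxBn : xB ^ n = algebraMap A B w := Subtype.ext (by
      simp only [SubmonoidClass.coe_pow, xB]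
      rw [hxn]; rfl)
    -- `x` generates `L`
    have hadjF : K⟮x⟯ = ⊤ := by
      rw [eq_top_iff, ← hgen, IntermediateField.adjoin_simple_le_iff]
      have h1 : α = algebraMap K L k⁻¹ * x := by
        rw [hx, ← mul_assoc, ← map_mul, inv_mul_cancel₀ hk0, map_one, one_mul]
      rw [h1]
      exact mul_mem (IntermediateField.algebraMap_mem _ _) (IntermediateField.mem_adjoin_simple_self K x)
    have hxalg : IsAlgebraic K x := (hxint.tower_top (A := K)).isAlgebraic
    have hadj : Algebra.adjoin K {algebraMap B L xB} = ⊤ := by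
      have h2 : algebraMap B L xB = x := rfl
      rw [h2, ← IntermediateField.adjoin_simple_toSubalgebra_of_isAlgebraic hxalg, hadjF,
        IntermediateField.top_toSubalgebra]
    have hmem := aeval_derivative_mem_differentIdeal A K L xB hadj
    have hmemP : aeval xB (derivative (minpoly A xB)) ∈ P.asIdeal := hle hmem
    -- the minimal polynomial divides `X^n - w`
    have hxBint : IsIntegral A xB := IsIntegralClosure.isIntegral A L xB
    have hq0 : aeval xB (X ^ n - C w : A[X]) = 0 := by
      simp only [map_sub, map_pow, aeval_X, aeval_C, hxBn, sub_self]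
    obtain ⟨h₂, hh₂⟩ := minpoly.isIntegrallyClosed_dvd hxBint hq0
    have hder : aeval xB (derivative (X ^ n - C w : A[X])) ∈ P.asIdeal := by
      rw [hh₂, derivative_mul, map_add, map_mul, map_mul, minpoly.aeval, zero_mul, add_zero]
      exact Ideal.mul_mem_right _ _ hmemP
    have hder2 : aeval xB (derivative (X ^ n - C w : A[X])) = algebraMap A B (n : A) * xB ^ (n - 1) := by
      simp [derivative_X_pow]
    rw [hder2] at hder
    have hunit : IsUnit (algebraMap A B (n : A)) := hn.map _
    have hpow : xB ^ (n - 1) ∈ P.asIdeal := by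
      rcases P.2.mem_or_mem hder with h | h
      · exact absurd (Ideal.eq_top_of_isUnit_mem _ h hunit) P.2.ne_top
      · exact h
    have hxBnP : xB ^ n ∈ P.asIdeal := by
      have : n = (n - 1) + 1 := by omega
      rw [this, pow_succ]
      exact Ideal.mul_mem_right _ _ hpow
    rw [hxBn] at hxBnP
    have hwp : w ∈ p := hxBnP
    exact hrp (Ideal.IsPrime.mem_of_pow_mem inferInstance _ hwp)
  exact Algebra.Etale.of_formallyUnramified_of_flat

end

end Groth.Agent.Lib.helper2.Kum
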