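import Mathlib
import Groth.Agent.Lib.Helper2.AusBuch2

set_option autoImplicit false
universe u

namespace Groth.Agent.Lib.helper2.LenAdd

/-- additivity of `length A/(f·h, g)` in a UFD when `f` is prime to `g` -/
theorem length_mul {A : Type u} [CommRing A] [IsDomain A] [UniqueFactorizationMonoid A]
    (f g h : A) (hfg : IsRelPrime f g) :
    Module.length A (A ⧸ Ideal.span ({f * h, g} : Set A)) =
      Module.length A (A ⧸ Ideal.span ({f, g} : Set A)) +
        Module.length A (A ⧸ Ideal.span ({h, g} : Set A)) := by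
  have h1 : Ideal.span ({h, g} : Set A) ≤
      Submodule.comap (LinearMap.mulLeft A f) (Ideal.span ({f * h, g} : Set A)) := by
    rw [Ideal.span_le]
    rintro x (rfl | rfl)
    · exact Ideal.subset_span (by simp)
    · change f * x ∈ Ideal.span ({f * h, x} : Set A)
      exact Ideal.mul_mem_left _ _ (Ideal.subset_span (by simp))
  have h2 : Ideal.span ({f * h, g} : Set A) ≤
      Submodule.comap (LinearMap.id : A →ₗ[A] A) (Ideal.span ({f, g} : Set A)) := by
    rw [Ideal.span_le]
    rintro x (rfl | rfl)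
    · change f * h ∈ Ideal.span ({f, g} : Set A)
      exact Ideal.mul_mem_right _ _ (Ideal.subset_span (by simp))
    · exact Ideal.subset_span (by simp)
  set φ : (A ⧸ Ideal.span ({h, g} : Set A)) →ₗ[A] (A ⧸ Ideal.span ({f * h, g} : Set A)) :=
    Submodule.mapQ _ _ (LinearMap.mulLeft A f) h1 with hφ
  set ψ : (A ⧸ Ideal.span ({f * h, g} : Set A)) →ₗ[A] (A ⧸ Ideal.span ({f, g} : Set A)) :=
    Submodule.mapQ _ _ LinearMap.id h2 with hψ
  have hφinj : Function.Injective φ := by
    rw [← LinearMap.ker_eq_bot, LinearMap.ker_eq_bot']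
    intro x hx
    obtain ⟨a, rfl⟩ := Submodule.Quotient.mk_surjective _ x
    rw [hφ, Submodule.mapQ_apply, Submodule.Quotient.mk_eq_zero] at hx
    change f * a ∈ _ at hx
    rw [Ideal.mem_span_pair] at hx
    obtain ⟨c, d, hcd⟩ := hx
    have hdiv : g ∣ f * (a - c * h) := ⟨d, by linear_combination -hcd⟩
    have hdiv2 : g ∣ a - c * h := hfg.symm.dvd_of_dvd_mul_left hdiv
    obtain ⟨e, he⟩ := hdiv2
    rw [Submodule.Quotient.mk_eq_zero, Ideal.mem_span_pair]
    exact ⟨c, e, by linear_combination -he⟩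
  have hψsurj : Function.Surjective ψ := by
    intro y
    obtain ⟨a, rfl⟩ := Submodule.Quotient.mk_surjective _ y
    exact ⟨Submodule.Quotient.mk a, by rw [hψ, Submodule.mapQ_apply]; rfl⟩
  have hex : Function.Exact φ ψ := by
    intro y
    constructor
    · intro hy
      obtain ⟨a, rfl⟩ := Submodule.Quotient.mk_surjective _ y
      rw [hψ, Submodule.mapQ_apply, Submodule.Quotient.mk_eq_zero] at hy
      change a ∈ _ at hy
      rw [Ideal.mem_span_pair] at hy
      obtain ⟨c, d, hcd⟩ := hy
      refine ⟨Submodule.Quotient.mk c, ?_⟩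
      rw [hφ, Submodule.mapQ_apply, ← sub_eq_zero, ← Submodule.Quotient.mk_sub,
        Submodule.Quotient.mk_eq_zero]
      change f * c - a ∈ _
      rw [Ideal.mem_span_pair]
      exact ⟨0, -d, by linear_combination -hcd⟩
    · rintro ⟨x, rfl⟩
      obtain ⟨a, rfl⟩ := Submodule.Quotient.mk_surjective _ x
      rw [hφ, hψ, Submodule.mapQ_apply, Submodule.mapQ_apply, Submodule.Quotient.mk_eq_zero]
      change f * a ∈ _
      exact Ideal.mul_mem_right _ _ (Ideal.subset_span (by simp))
  rw [Module.length_eq_add_of_exact φ ψ hφinj hψsurj hex, add_comm]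

end Groth.Agent.Lib.helper2.LenAdd
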