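import Mathlib
import Groth.Agent.Lib.Helper26.CM1
import Groth.Agent.S0341

/-!
# Liaison, part 1 (helper2): associated primes of Cohen–Macaulay / Gorenstein quotients are minimal
-/

set_option autoImplicit false
universe u

open LocCoh IsLocalRing

namespace Groth.Agent.Lib.helper2.Liaison

/-- In a CM local ring whose maximal ideal is associated, the dimension is `0`. -/
lemma ringKrullDim_eq_zero_of_maximalIdeal_mem_ass (A : Type u) [CommRing A]
    [hA : IsCohenMacaulayLocalRing A] (h : maximalIdeal A ∈ associatedPrimes A A) :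
    ringKrullDim A = 0 := by
  have hCM : IsCohenMacaulayModule A A := hA.supportDim_eq_depth
  have h1 := Groth.Agent.Lib.helper26.Depth.ringKrullDim_quotient_eq_supportDim_of_isCohenMacaulayModule
    (A := A) A hCM (maximalIdeal A) h
  rw [Module.supportDim_self_eq_ringKrullDim] at h1
  rw [← h1]
  exact ringKrullDim_eq_zero_of_isField
    ((Ideal.Quotient.maximal_ideal_iff_isField_quotient _).mp inferInstance)

/-- Associated primes of a ring that is locally CM are minimal. -/
lemma mem_minimalPrimes_of_mem_associatedPrimes {B : Type u} [CommRing B] [IsNoetherianRing B]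
    (hCM : ∀ (p : Ideal B) [p.IsPrime], IsCohenMacaulayLocalRing (Localization.AtPrime p))
    (P : Ideal B) (hP : P ∈ associatedPrimes B B) : P ∈ minimalPrimes B := by
  haveI : P.IsPrime := hP.isPrime
  haveI := hCM P
  have h1 : maximalIdeal (Localization.AtPrime P) ∈
      associatedPrimes (Localization.AtPrime P) (Localization.AtPrime P) := by
    apply Module.associatedPrimes.mem_associatedPrimes_of_comap_mem_associatedPrimes_of_isLocalizedModule
      P.primeCompl (Algebra.linearMap B (Localization.AtPrime P))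
    have := Localization.AtPrime.under_maximalIdeal (I := P)
    rw [Ideal.under] at this
    rw [this]
    exact hP
  have h2 := ringKrullDim_eq_zero_of_maximalIdeal_mem_ass _ h1
  rw [IsLocalization.AtPrime.ringKrullDim_eq_height P] at h2
  have h3 : P.height = 0 := by exact_mod_cast h2
  exact Ideal.height_eq_zero_iff.mp h3

/-- Transfer of associated primes along a quotient: an associated prime of `R/𝔠` over `R` maps
to an associated prime of `R/𝔠` over itself. -/
lemma map_mem_associatedPrimes_quotient {R : Type u} [CommRing R] [IsNoetherianRing R]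
    (𝔠 : Ideal R) (P : Ideal R) (hP : P ∈ associatedPrimes R (R ⧸ 𝔠)) :
    𝔠 ≤ P ∧ P.map (Ideal.Quotient.mk 𝔠) ∈ associatedPrimes (R ⧸ 𝔠) (R ⧸ 𝔠) := by
  obtain ⟨hprime, x, hx⟩ := (isAssociatedPrime_iff).mp hP
  have hle : 𝔠 ≤ P := by
    intro c hc
    rw [hx, Submodule.mem_colon_singleton]
    obtain ⟨y, rfl⟩ := Ideal.Quotient.mk_surjective x
    rw [Submodule.mem_bot]
    change Ideal.Quotient.mk 𝔠 (c * y) = 0
    exact Ideal.Quotient.eq_zero_iff_mem.mpr (𝔠.mul_mem_right _ hc)
  refine ⟨hle, ?_⟩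
  have hker : RingHom.ker (Ideal.Quotient.mk 𝔠) ≤ P := by rwa [Ideal.mk_ker]
  haveI := hprime
  have hprime' : (P.map (Ideal.Quotient.mk 𝔠)).IsPrime :=
    Ideal.map_isPrime_of_surjective Ideal.Quotient.mk_surjective hker
  refine (isAssociatedPrime_iff).mpr ⟨hprime', x, ?_⟩
  ext b
  obtain ⟨r, rfl⟩ := Ideal.Quotient.mk_surjective b
  rw [Ideal.mem_map_iff_of_surjective _ Ideal.Quotient.mk_surjective, Submodule.mem_colon_singleton,
    Submodule.mem_bot]
  constructor
  · rintro ⟨r', hr', hrr'⟩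
    rw [hx, Submodule.mem_colon_singleton, Submodule.mem_bot] at hr'
    rw [← hrr']
    exact hr'
  · intro h
    refine ⟨r, ?_, rfl⟩
    rw [hx, Submodule.mem_colon_singleton, Submodule.mem_bot]
    exact h

/-- If `R/𝔠` is locally Cohen–Macaulay then the associated primes of `R/𝔠` are minimal over
`𝔠`. -/
lemma mem_minimalPrimes_of_mem_associatedPrimes_quotient {R : Type u} [CommRing R]
    [IsNoetherianRing R] (𝔠 : Ideal R)
    (hCM : ∀ (p : Ideal (R ⧸ 𝔠)) [p.IsPrime], IsCohenMacaulayLocalRing (Localization.AtPrime p))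
    (P : Ideal R) (hP : P ∈ associatedPrimes R (R ⧸ 𝔠)) : P ∈ 𝔠.minimalPrimes := by
  obtain ⟨hle, hmap⟩ := map_mem_associatedPrimes_quotient 𝔠 P hP
  have h1 := mem_minimalPrimes_of_mem_associatedPrimes hCM _ hmap
  rw [Ideal.minimalPrimes_eq_comap]
  refine ⟨_, h1, ?_⟩
  rw [Ideal.comap_map_of_surjective _ Ideal.Quotient.mk_surjective, ← RingHom.ker_eq_comap_bot,
    Ideal.mk_ker]
  exact sup_eq_left.mpr hle

/-- Gorenstein version. -/
lemma mem_minimalPrimes_of_mem_associatedPrimes_of_isGorensteinRing {R : Type u} [CommRing R]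
    [IsNoetherianRing R] (𝔠 : Ideal R) [hG : IsGorensteinRing (R ⧸ 𝔠)]
    (P : Ideal R) (hP : P ∈ associatedPrimes R (R ⧸ 𝔠)) : P ∈ 𝔠.minimalPrimes := by
  refine mem_minimalPrimes_of_mem_associatedPrimes_quotient 𝔠 ?_ P hP
  intro p _
  haveI := hG.isGorensteinLocalRing_localization p
  exact Groth.Agent.S0341.result _

end Groth.Agent.Lib.helper2.Liaison

namespace Groth.Agent.Lib.helper2.Liaison

/-- Direct link + no common associated prime ⇒ geometric link. -/
theorem inf_eq_of_disjoint_associatedPrimes {R : Type u} [CommRing R] [IsNoetherianRing R]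
    (𝔠 I J : Ideal R) [IsGorensteinRing (R ⧸ 𝔠)]
    (hIJ : 𝔠.colon (I : Set R) = J) (hJI : 𝔠.colon (J : Set R) = I)
    (hdisj : Disjoint (associatedPrimes R (R ⧸ I)) (associatedPrimes R (R ⧸ J))) :
    I ⊓ J = 𝔠 := by
  have h𝔠I : 𝔠 ≤ I := by
    intro c hc
    rw [← hJI, Submodule.mem_colon]
    intro j _
    exact 𝔠.mul_mem_right _ hc
  have h𝔠J : 𝔠 ≤ J := by
    intro c hc
    rw [← hIJ, Submodule.mem_colon]
    intro j _
    exact 𝔠.mul_mem_right _ hc
  refine le_antisymm ?_ (le_inf h𝔠I h𝔠J)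
  intro x hx
  by_contra hx𝔠
  have hne : (Ideal.Quotient.mk 𝔠 x : R ⧸ 𝔠) ≠ 0 := by
    rwa [Ne, Ideal.Quotient.eq_zero_iff_mem]
  obtain ⟨P, hP, hle⟩ := exists_le_isAssociatedPrime_of_isNoetherianRing R _ hne
  have hPmin := mem_minimalPrimes_of_mem_associatedPrimes_of_isGorensteinRing 𝔠 P hP
  have hIP : I ≤ P := by
    intro i hi
    apply hle
    rw [Submodule.mem_colon_singleton, Submodule.mem_bot]
    change Ideal.Quotient.mk 𝔠 (i * x) = 0
    rw [Ideal.Quotient.eq_zero_iff_mem]
    have hxJ : x ∈ 𝔠.colon (I : Set R) := hIJ ▸ hx.2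
    rw [Submodule.mem_colon] at hxJ
    have := hxJ i hi
    rwa [smul_eq_mul, mul_comm] at this
  have hJP : J ≤ P := by
    intro j hj
    apply hle
    rw [Submodule.mem_colon_singleton, Submodule.mem_bot]
    change Ideal.Quotient.mk 𝔠 (j * x) = 0
    rw [Ideal.Quotient.eq_zero_iff_mem]
    have hxI : x ∈ 𝔠.colon (J : Set R) := hJI ▸ hx.1
    rw [Submodule.mem_colon] at hxI
    have := hxI j hj
    rwa [smul_eq_mul, mul_comm] at this
  have hminI : P ∈ I.minimalPrimes :=
    ⟨⟨hPmin.1.1, hIP⟩, fun Q hQ hQP => hPmin.2 ⟨hQ.1, h𝔠I.trans hQ.2⟩ hQP⟩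
  have hminJ : P ∈ J.minimalPrimes :=
    ⟨⟨hPmin.1.1, hJP⟩, fun Q hQ hQP => hPmin.2 ⟨hQ.1, h𝔠J.trans hQ.2⟩ hQP⟩
  have hassI : P ∈ associatedPrimes R (R ⧸ I) := by
    apply Module.associatedPrimes.minimalPrimes_annihilator_subset_associatedPrimes R (R ⧸ I)
    rwa [Ideal.annihilator_quotient]
  have hassJ : P ∈ associatedPrimes R (R ⧸ J) := by
    apply Module.associatedPrimes.minimalPrimes_annihilator_subset_associatedPrimes R (R ⧸ J)
    rwa [Ideal.annihilator_quotient]
  exact (Set.disjoint_left.mp hdisj hassI) hassJ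

end Groth.Agent.Lib.helper2.Liaison
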