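import Mathlib
import Groth.Prelude.Def_GrSyz
import Groth.Agent.Lib.Helper2.Liaison1
import Groth.Agent.Lib.Helper26.Seg28
import Groth.Agent.Lib.Helper26.Seg10
import Groth.Agent.Lib.Helper26.GrCM14
import Groth.Agent.Lib.Helper26.AffDomChain
import Groth.Agent.Lib.Helper26.DimFormula4

/-!
# Liaison, part 2 (helper2): the ideal quotient `𝔠 : I` by a homogeneous Gorenstein (CM) ideal
is unmixed
-/

set_option autoImplicit false
universe u

open LocCoh IsLocalRing

namespace Groth.Agent.Lib.helper2.Liaison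

section Colon

variable {R : Type u} [CommRing R] [IsNoetherianRing R]

/-- `Ass (R / (𝔠 : I)) ⊆ Ass (R / 𝔠)`. -/
theorem associatedPrimes_colon_subset (𝔠 I : Ideal R) :
    associatedPrimes R (R ⧸ 𝔠.colon (I : Set R)) ⊆ associatedPrimes R (R ⧸ 𝔠) := by
  classical
  intro P hP
  obtain ⟨hprime, x, hx⟩ := (isAssociatedPrime_iff).mp hP
  obtain ⟨y, rfl⟩ := Ideal.Quotient.mk_surjective x
  obtain ⟨s, hs⟩ := (isNoetherianRing_iff_ideal_fg R).mp inferInstance I
  -- `P = ⋂_{i ∈ s} (𝔠 : y i)`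
  have hmem : ∀ r : R, r ∈ P ↔ ∀ i ∈ s, r * (y * i) ∈ 𝔠 := by
    intro r
    rw [hx, Submodule.mem_colon_singleton, Submodule.mem_bot]
    change Ideal.Quotient.mk _ (r * y) = 0 ↔ _
    rw [Ideal.Quotient.eq_zero_iff_mem, Submodule.mem_colon]
    constructor
    · intro h i hi
      have := h i (hs ▸ Ideal.subset_span hi)
      rw [smul_eq_mul] at this
      rw [← mul_assoc]; exact this
    · intro h
      have hle : I ≤ 𝔠.colon {r * y} := by
        rw [← hs, Ideal.span_le]
        intro i hi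
        rw [SetLike.mem_coe, Submodule.mem_colon_singleton, smul_eq_mul, mul_comm, mul_assoc]
        exact h i hi
      intro i hi
      have := hle hi
      rw [Submodule.mem_colon_singleton, smul_eq_mul, mul_comm] at this
      rw [smul_eq_mul]; exact this
  let f : R → Ideal R := fun i => (⊥ : Submodule R (R ⧸ 𝔠)).colon {Ideal.Quotient.mk 𝔠 (y * i)}
  have hf : ∀ (i : R) (r : R), r ∈ f i ↔ r * (y * i) ∈ 𝔠 := by
    intro i r
    change r ∈ (⊥ : Submodule R (R ⧸ 𝔠)).colon {Ideal.Quotient.mk 𝔠 (y * i)} ↔ _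
    rw [Submodule.mem_colon_singleton, Submodule.mem_bot]
    change Ideal.Quotient.mk _ (r * (y * i)) = 0 ↔ _
    rw [Ideal.Quotient.eq_zero_iff_mem]
  have hinf : s.inf f ≤ P := by
    intro r hr
    rw [hmem]
    intro i hi
    have : r ∈ f i := (Finset.inf_le hi : s.inf f ≤ f i) hr
    exact (hf i r).mp this
  obtain ⟨i, hi, hle⟩ := (Ideal.IsPrime.inf_le' hprime).mp hinf
  refine (isAssociatedPrime_iff).mpr ⟨hprime, Ideal.Quotient.mk 𝔠 (y * i), ?_⟩
  refine le_antisymm ?_ hle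
  intro r hr
  exact (hf i r).mpr ((hmem r).mp hr i hi)

end Colon

section Graded

variable (k : Type u) [Field k] (n : ℕ)

local notation "R" => MvPolynomial (Fin n) k
local notation "𝒜" => GrSyz.stdGr k (Fin n)

/-- the irrelevant ideal of the polynomial ring -/
noncomputable abbrev mI : Ideal (MvPolynomial (Fin n) k) :=
  Groth.Agent.Lib.helper26.Seg.irr (GrSyz.stdGr k (Fin n))

lemma hpos : ∀ m : ℤ, m < 0 → GrSyz.stdGr k (Fin n) m = ⊥ :=
  fun m hm => Groth.Agent.Lib.helper26.GrCM.stdGr_eq_bot m hm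

lemma h0 : GrSyz.stdGr k (Fin n) 0 = Submodule.span k {(1 : MvPolynomial (Fin n) k)} :=
  Groth.Agent.Lib.helper26.GrCM.stdGr_zero

lemma mI_isMaximal : (mI k n).IsMaximal :=
  Groth.Agent.Lib.helper26.Seg.irr_isMaximal _ (hpos k n) (h0 k n)

/-- Minimal primes over a homogeneous ideal are homogeneous. -/
theorem isHomogeneous_of_mem_minimalPrimes {J p : Ideal (MvPolynomial (Fin n) k)}
    (hJ : J.IsHomogeneous (GrSyz.stdGr k (Fin n))) (hp : p ∈ J.minimalPrimes) :
    p.IsHomogeneous (GrSyz.stdGr k (Fin n)) := by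
  have hprime : p.IsPrime := hp.1.1
  have hcore : (p.homogeneousCore (GrSyz.stdGr k (Fin n))).toIdeal.IsPrime :=
    hprime.homogeneousCore
  have hle : J ≤ (p.homogeneousCore (GrSyz.stdGr k (Fin n))).toIdeal := by
    rw [← hJ.toIdeal_homogeneousCore_eq_self]
    exact Ideal.homogeneousCore_mono _ hp.1.2
  have h1 : p ≤ (p.homogeneousCore (GrSyz.stdGr k (Fin n))).toIdeal :=
    hp.2 ⟨hcore, hle⟩ (Ideal.toIdeal_homogeneousCore_le _ p)
  have heq : (p.homogeneousCore (GrSyz.stdGr k (Fin n))).toIdeal = p :=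
    le_antisymm (Ideal.toIdeal_homogeneousCore_le _ p) h1
  rw [← heq]
  exact (p.homogeneousCore (GrSyz.stdGr k (Fin n))).isHomogeneous

lemma le_mI_of_mem_minimalPrimes {J p : Ideal (MvPolynomial (Fin n) k)}
    (hJ : J.IsHomogeneous (GrSyz.stdGr k (Fin n))) (hp : p ∈ J.minimalPrimes) :
    p ≤ mI k n :=
  Groth.Agent.Lib.helper26.Seg.le_irr_of_isHomogeneous _ (hpos k n) (h0 k n) p
    (isHomogeneous_of_mem_minimalPrimes k n hJ hp) hp.1.1.ne_top

open Groth.Agent.Lib.helper26.AffDomChain Groth.Agent.Lib.helper26.CMCat in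
/-- In a CM quotient of the polynomial ring by a homogeneous ideal, every minimal prime `P` of `𝔠`
satisfies `ht P + ht (𝔪/𝔠) = n`. -/
theorem height_add_eq_of_mem_minimalPrimes {𝔠 P : Ideal (MvPolynomial (Fin n) k)}
    (h𝔠 : 𝔠.IsHomogeneous (GrSyz.stdGr k (Fin n)))
    [hCM : IsCohenMacaulayRing (MvPolynomial (Fin n) k ⧸ 𝔠)] (hP : P ∈ 𝔠.minimalPrimes) :
    P.height + ((mI k n).map (Ideal.Quotient.mk 𝔠)).height = n := by
  have hPprime : P.IsPrime := hP.1.1
  have hPle : P ≤ mI k n := le_mI_of_mem_minimalPrimes k n h𝔠 hP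
  have hmax := mI_isMaximal k n
  have h𝔠P : 𝔠 ≤ P := hP.1.2
  set φ : MvPolynomial (Fin n) k →+* (MvPolynomial (Fin n) k ⧸ 𝔠) := Ideal.Quotient.mk 𝔠 with hφdef
  have hφ : Function.Surjective φ := Ideal.Quotient.mk_surjective
  have hker : RingHom.ker φ = 𝔠 := Ideal.mk_ker
  have hcm : ∀ J : Ideal (MvPolynomial (Fin n) k), 𝔠 ≤ J → (J.map φ).comap φ = J := by
    intro J hJ
    rw [Ideal.comap_map_of_surjective _ hφ, ← RingHom.ker_eq_comap_bot, hker, sup_eq_left.mpr hJ]
  let e := specEmb φ hφ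
  have hOC := ordConnected_range_specEmb φ hφ
  -- the points `q`, `𝔪_B`
  have hqprime : (P.map φ).IsPrime :=
    Ideal.map_isPrime_of_surjective hφ (by rw [hker]; exact h𝔠P)
  have hmprime : ((mI k n).map φ).IsPrime :=
    Ideal.map_isPrime_of_surjective hφ (by rw [hker]; exact h𝔠P.trans hPle)
  let q : PrimeSpectrum (MvPolynomial (Fin n) k ⧸ 𝔠) := ⟨P.map φ, hqprime⟩
  let mB : PrimeSpectrum (MvPolynomial (Fin n) k ⧸ 𝔠) := ⟨(mI k n).map φ, hmprime⟩
  have heq : (e q).asIdeal = P := hcm P h𝔠P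
  have hem : (e mB).asIdeal = mI k n := hcm _ (h𝔠P.trans hPle)
  have hqm : q ≤ mB := by
    change P.map φ ≤ (mI k n).map φ
    exact Ideal.map_mono hPle
  have hqmin : q.asIdeal ∈ minimalPrimes (MvPolynomial (Fin n) k ⧸ 𝔠) := by
    refine ⟨⟨hqprime, bot_le⟩, ?_⟩
    intro Q hQ hQq
    haveI := hQ.1
    have h1 : 𝔠 ≤ Q.comap φ := by
      have : RingHom.ker φ ≤ Q.comap φ := Ideal.comap_mono bot_le
      rwa [hker] at this
    have h2 : Q.comap φ ≤ P := by
      rw [← hcm P h𝔠P]; exact Ideal.comap_mono hQq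
    have h3 : P ≤ Q.comap φ := hP.2 ⟨Ideal.comap_isPrime _ _, h1⟩ h2
    have := Ideal.map_mono (f := φ) h3
    rwa [Ideal.map_comap_of_surjective _ hφ] at this
  have hq0 : q.asIdeal.height = 0 := Ideal.height_eq_zero_iff.mpr hqmin
  -- a saturated chain in `Set.Ici q` from `q` to `𝔪_B`
  let x : Set.Ici q := ⟨mB, hqm⟩
  have hfin : Order.height x ≠ ⊤ := by
    have h1 := Order.height_le_height_apply_of_strictMono (Subtype.val : Set.Ici q → _)
      (fun a b hab => hab) x
    have h2 : Order.height mB ≠ ⊤ := by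
      rw [← PrimeSpectrum.height_eq_orderHeight]
      exact Ideal.height_ne_top_of_isPrime
    exact ne_top_of_le_ne_top h2 h1
  obtain ⟨m, hm⟩ := ENat.ne_top_iff_exists.mp hfin
  obtain ⟨f, hf0, hfl, hfs⟩ :=
    Groth.Agent.Lib.helper26.DimFormula.exists_sat_chain_of_height m x hm.symm
  have hf0' : f 0 = ⟨q, Set.mem_Ici.mpr le_rfl⟩ := by
    have hle : (⟨q, Set.mem_Ici.mpr le_rfl⟩ : Set.Ici q) ≤ f 0 := (f 0).2
    exact le_antisymm (hf0 hle) hle
  have hcov : ∀ i : Fin m, (f i.castSucc).1 ⋖ (f i.succ).1 := by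
    intro i
    refine ⟨(hfs i).1, ?_⟩
    intro z hz1 hz2
    have hzq : q ≤ z := (f i.castSucc).2.trans hz1.le
    exact (hfs i).2 (c := ⟨z, hzq⟩) hz1 hz2
  let s : LTSeries (PrimeSpectrum (MvPolynomial (Fin n) k ⧸ 𝔠)) :=
    { length := m, toFun := fun i => (f i).1, step := fun i => (hcov i).lt }
  have hs : ∀ i : Fin s.length, s (Fin.castSucc i) ⋖ s (Fin.succ i) := hcov
  have hshead : s.head = q := by
    change (f 0).1 = q
    rw [hf0']
  have hslast : s (Fin.last _) = mB := by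
    change (f (Fin.last m)).1 = mB
    rw [hfl]
  have H1 := height_chain_of_cm s hs (Fin.last _)
  rw [hshead, hslast, hq0, add_zero] at H1
  -- transport to the polynomial ring
  haveI := isCohenMacaulayRing_field k
  haveI : IsCohenMacaulayRing (MvPolynomial (Fin n) k) :=
    Groth.Agent.Lib.helper26.CMPoly.isCohenMacaulayRing_mvPolynomial k n
  let s' : LTSeries (PrimeSpectrum (MvPolynomial (Fin n) k)) := s.map e e.strictMono
  have hs' : ∀ i : Fin s'.length, s' i.castSucc ⋖ s' i.succ := fun i => (hs i).image e hOC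
  have H2 := height_chain_of_cm s' hs' (Fin.last _)
  have hs'head : s'.head = e q := by
    change e s.head = e q
    rw [hshead]
  have hs'last : s' (Fin.last _) = e mB := by
    change e (s (Fin.last _)) = e mB
    rw [hslast]
  rw [hs'head, hs'last, heq, hem,
    Groth.Agent.Lib.helper26.PolyMax.height_eq_of_isMaximal k n _ hmax] at H2
  rw [← H2, ← H1]
  change P.height + ((Fin.last s.length : Fin (s.length + 1)) : ℕ) =
    ((Fin.last s'.length : Fin (s'.length + 1)) : ℕ) + P.height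
  rw [add_comm]
  rfl

/-- Gorenstein rings are Cohen–Macaulay rings. -/
theorem isCohenMacaulayRing_of_isGorensteinRing (B : Type u) [CommRing B]
    [hG : IsGorensteinRing B] : IsCohenMacaulayRing B :=
  haveI : IsNoetherian B B := hG.toIsNoetherian
  ⟨fun p _ => by
      haveI := hG.isGorensteinLocalRing_localization p
      exact Groth.Agent.S0341.result _⟩

/-- the height of an ideal all of whose minimal primes have height `c` -/
lemma height_eq_of_forall_minimalPrimes {A : Type*} [CommRing A] (J : Ideal A) (hJ : J ≠ ⊤)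
    (c : ℕ∞) (h : ∀ P ∈ J.minimalPrimes, P.height = c) : J.height = c := by
  rw [Ideal.height_eq_inf_minimalPrimes]
  obtain ⟨P₀, hP₀⟩ := Ideal.nonempty_minimalPrimes hJ
  apply le_antisymm
  · exact (iInf₂_le P₀ hP₀).trans (h P₀ hP₀).le
  · exact le_iInf₂ fun P hP => (h P hP).ge

/-- all minimal primes of a homogeneous CM ideal have the same height. -/
theorem height_eq_of_mem_minimalPrimes {𝔠 P : Ideal (MvPolynomial (Fin n) k)}
    (h𝔠 : 𝔠.IsHomogeneous (GrSyz.stdGr k (Fin n)))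
    [hCM : IsCohenMacaulayRing (MvPolynomial (Fin n) k ⧸ 𝔠)] (hP : P ∈ 𝔠.minimalPrimes) :
    P.height = 𝔠.height := by
  have hne : 𝔠 ≠ ⊤ := fun h => hP.1.1.ne_top (top_le_iff.mp (h ▸ hP.1.2))
  symm
  apply height_eq_of_forall_minimalPrimes 𝔠 hne
  intro P' hP'
  have h1 := height_add_eq_of_mem_minimalPrimes k n h𝔠 hP
  have h2 := height_add_eq_of_mem_minimalPrimes k n h𝔠 hP'
  have hfin : ((mI k n).map (Ideal.Quotient.mk 𝔠)).height ≠ ⊤ := by
    intro htop
    rw [htop, add_top] at h1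
    exact ENat.top_ne_natCast n h1
  exact (ENat.add_left_injective_of_ne_top hfin) (h2.trans h1.symm)

/-- **`𝔠 : I` is unmixed of height `ht 𝔠`** for a homogeneous ideal `𝔠` with Gorenstein
quotient (only Cohen–Macaulayness is used) and `I ⊄ 𝔠`. -/
theorem colon_height_and_unmixed (c : ℕ) (𝔠 I : Ideal (MvPolynomial (Fin n) k))
    (h𝔠 : 𝔠.IsHomogeneous (GrSyz.stdGr k (Fin n)))
    [hG : IsGorensteinRing (MvPolynomial (Fin n) k ⧸ 𝔠)] (h𝔠c : 𝔠.height = c) (hI𝔠 : ¬ I ≤ 𝔠) :
    (𝔠.colon (I : Set (MvPolynomial (Fin n) k))).height = c ∧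
      ∀ p ∈ associatedPrimes (MvPolynomial (Fin n) k)
        (MvPolynomial (Fin n) k ⧸ 𝔠.colon (I : Set (MvPolynomial (Fin n) k))), p.height = c := by
  haveI := isCohenMacaulayRing_of_isGorensteinRing (MvPolynomial (Fin n) k ⧸ 𝔠)
  have hass : ∀ p ∈ associatedPrimes (MvPolynomial (Fin n) k)
      (MvPolynomial (Fin n) k ⧸ 𝔠.colon (I : Set (MvPolynomial (Fin n) k))), p.height = c := by
    intro p hp
    have h1 := associatedPrimes_colon_subset 𝔠 I hp
    have h2 := mem_minimalPrimes_of_mem_associatedPrimes_of_isGorensteinRing 𝔠 p h1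
    rw [height_eq_of_mem_minimalPrimes k n h𝔠 h2, h𝔠c]
  refine ⟨?_, hass⟩
  apply height_eq_of_forall_minimalPrimes
  · intro htop
    apply hI𝔠
    have h1 : (1 : MvPolynomial (Fin n) k) ∈ 𝔠.colon (I : Set (MvPolynomial (Fin n) k)) := by
      rw [htop]; trivial
    rw [Submodule.mem_colon] at h1
    intro i hi
    have := h1 i hi
    rwa [one_smul] at this
  · intro P hP
    apply hass
    apply Module.associatedPrimes.minimalPrimes_annihilator_subset_associatedPrimes
    rwa [Ideal.annihilator_quotient]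

end Graded

end Groth.Agent.Lib.helper2.Liaison
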