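import Mathlib
import Groth.Agent.Lib.Helper17.ArtGor

/-!
# Liaison, part 3 (helper2): double annihilators in Artinian Gorenstein local rings and
`𝔠 : (𝔠 : I) = I` for unmixed `I` of the same height as the Gorenstein ideal `𝔠`
-/

set_option autoImplicit false
universe u

open LocCoh IsLocalRing

namespace Groth.Agent.Lib.helper2.Liaison

section Art

variable (A : Type u) [CommRing A] [IsLocalRing A] [IsArtinianRing A]

set_option linter.overlappingInstances false

/-- a nonzero socle element -/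
lemma exists_socle_ne_zero : ∃ u : A, u ≠ 0 ∧ ∀ a ∈ maximalIdeal A, a * u = 0 := by
  obtain ⟨n, hn⟩ := IsArtinianRing.isNilpotent_jacobson_bot (R := A)
  rw [IsLocalRing.jacobson_eq_maximalIdeal (⊥ : Ideal A) bot_ne_top] at hn
  -- the least `n` with `𝔪^n = 0`
  classical
  have hex : ∃ n, maximalIdeal A ^ n = ⊥ := ⟨n, hn⟩
  set N := Nat.find hex with hN
  have hNspec : maximalIdeal A ^ N = ⊥ := Nat.find_spec hex
  have hN0 : N ≠ 0 := by
    intro h0
    rw [h0, pow_zero, Ideal.one_eq_top] at hNspec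
    exact top_ne_bot hNspec
  obtain ⟨m, hm⟩ := Nat.exists_eq_succ_of_ne_zero hN0
  have hm' : maximalIdeal A ^ m ≠ ⊥ := Nat.find_min hex (by omega)
  obtain ⟨u, hu, hu0⟩ := Submodule.exists_mem_ne_zero_of_ne_bot hm'
  refine ⟨u, hu0, fun a ha => ?_⟩
  have : a * u ∈ maximalIdeal A ^ N := by
    rw [hm, pow_succ']
    exact Ideal.mul_mem_mul ha hu
  rwa [hNspec, Ideal.mem_bot] at this

/-- **double annihilator property** in a self-injective Artinian local ring. -/
theorem mem_of_forall_mul_eq_zero [Module.Injective A A] (J : Ideal A) (x : A)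
    (h : ∀ y : A, (∀ j ∈ J, y * j = 0) → x * y = 0) : x ∈ J := by
  by_contra hx
  obtain ⟨u, hu0, hu⟩ := exists_socle_ne_zero A
  -- the annihilator of `x̄ ∈ A/J`
  let K : Ideal A := LinearMap.ker (LinearMap.toSpanSingleton A (A ⧸ J) (Ideal.Quotient.mk J x))
  have hKne : K ≠ ⊤ := by
    intro htop
    have h1 : (1 : A) ∈ K := by rw [htop]; trivial
    rw [LinearMap.mem_ker, LinearMap.toSpanSingleton_apply, one_smul,
      Ideal.Quotient.eq_zero_iff_mem] at h1
    exact hx h1
  have hKle : K ≤ maximalIdeal A := IsLocalRing.le_maximalIdeal hKne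
  -- `f : A/K → A/J` injective, `g : A/K → A`, `1 ↦ u`
  let f : (A ⧸ K) →ₗ[A] (A ⧸ J) :=
    Submodule.liftQ K (LinearMap.toSpanSingleton A (A ⧸ J) (Ideal.Quotient.mk J x)) le_rfl
  have hf : Function.Injective f := by
    rw [← LinearMap.ker_eq_bot]
    exact Submodule.ker_liftQ_eq_bot _ _ _ le_rfl
  let g : (A ⧸ K) →ₗ[A] A :=
    Submodule.liftQ K (LinearMap.toSpanSingleton A A u) (by
      intro a ha
      rw [LinearMap.mem_ker, LinearMap.toSpanSingleton_apply, smul_eq_mul]
      exact hu a (hKle ha))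
  obtain ⟨hh, hhf⟩ := Module.Injective.out (R := A) (Q := A) f hf g
  have h1 : hh (Ideal.Quotient.mk J x) = u := by
    have := hhf (Submodule.Quotient.mk 1)
    have hf1 : f (Submodule.Quotient.mk 1) = Ideal.Quotient.mk J x := by
      change LinearMap.toSpanSingleton A (A ⧸ J) (Ideal.Quotient.mk J x) 1 = _
      rw [LinearMap.toSpanSingleton_apply, one_smul]
    have hg1 : g (Submodule.Quotient.mk 1) = u := by
      change LinearMap.toSpanSingleton A A u 1 = _
      rw [LinearMap.toSpanSingleton_apply, one_smul]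
    rw [hf1, hg1] at this
    exact this
  set y : A := hh (Ideal.Quotient.mk J 1) with hy
  have hyJ : ∀ j ∈ J, y * j = 0 := by
    intro j hj
    have : j • hh (Ideal.Quotient.mk J 1) = hh (Ideal.Quotient.mk J j) := by
      rw [← map_smul]
      congr 1
      change Ideal.Quotient.mk J (j * 1) = _
      rw [mul_one]
    rw [hy, mul_comm, ← smul_eq_mul, this, Ideal.Quotient.eq_zero_iff_mem.mpr hj, map_zero]
  have hxy : x * y = u := by
    have : x • hh (Ideal.Quotient.mk J 1) = hh (Ideal.Quotient.mk J x) := by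
      rw [← map_smul]
      congr 1
      change Ideal.Quotient.mk J (x * 1) = _
      rw [mul_one]
    rw [hy, ← smul_eq_mul, this, h1]
  exact hu0 (hxy ▸ h y hyJ)

/-- an Artinian Gorenstein local ring is self-injective (helper17). -/
theorem injective_of_isGorensteinLocalRing [hG : IsGorensteinLocalRing A] : Module.Injective A A := by
  have h1 := Groth.Agent.Lib.helper17.GorCM.injective_of_no_regular
    hG.exists_hasInjectiveDimensionLT (Groth.Agent.Lib.helper17.ArtGor.not_exists_regular A)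
  haveI : CategoryTheory.Injective (ModuleCat.of A A) :=
    CategoryTheory.injective_iff_hasInjectiveDimensionLT_one.mpr h1
  exact Module.injective_module_of_injective_object A A

end Art

section Link

variable {R : Type u} [CommRing R] [IsNoetherianRing R]

/-- `I ⊆ 𝔠 : (𝔠 : I)`. -/
lemma le_colon_colon (𝔠 I : Ideal R) :
    I ≤ 𝔠.colon ((𝔠.colon (I : Set R) : Ideal R) : Set R) := by
  intro i hi
  rw [Submodule.mem_colon]
  intro y hy
  rw [SetLike.mem_coe, Submodule.mem_colon] at hy
  have := hy i hi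
  rw [smul_eq_mul] at this ⊢
  rwa [mul_comm]

/-- **`𝔠 : (𝔠 : I) = I`** for `I ⊇ 𝔠` unmixed of height `ht 𝔠`, `R/𝔠` Gorenstein. -/
theorem colon_colon_eq (c : ℕ) (𝔠 I : Ideal R) [hG : IsGorensteinRing (R ⧸ 𝔠)]
    (h𝔠c : 𝔠.height = c) (hIu : ∀ p ∈ associatedPrimes R (R ⧸ I), p.height = c)
    (hle : 𝔠 ≤ I) :
    𝔠.colon ((𝔠.colon (I : Set R) : Ideal R) : Set R) = I := by
  classical
  refine le_antisymm ?_ (le_colon_colon 𝔠 I)
  intro x hx
  by_contra hxI
  have hne : (Ideal.Quotient.mk I x : R ⧸ I) ≠ 0 := by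
    rwa [Ne, Ideal.Quotient.eq_zero_iff_mem]
  obtain ⟨P, hP, hPle⟩ := exists_le_isAssociatedPrime_of_isNoetherianRing R _ hne
  haveI hPprime : P.IsPrime := hP.isPrime
  have hPc : P.height = c := hIu P hP
  have hcolon : ∀ r : R, r * x ∈ I → r ∈ P := by
    intro r hr
    apply hPle
    rw [Submodule.mem_colon_singleton, Submodule.mem_bot]
    change Ideal.Quotient.mk I (r * x) = 0
    rwa [Ideal.Quotient.eq_zero_iff_mem]
  have hIP : I ≤ P := fun i hi => hcolon i (I.mul_mem_right _ hi)
  have h𝔠P : 𝔠 ≤ P := hle.trans hIP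
  have hPmin : P ∈ 𝔠.minimalPrimes :=
    Ideal.mem_minimalPrimes_of_height_le h𝔠P (by rw [hPc, h𝔠c])
  rw [Ideal.minimalPrimes_eq_comap] at hPmin
  obtain ⟨q, hq, hqP⟩ := hPmin
  haveI hqprime : q.IsPrime := hq.1.1
  set φ : R →+* R ⧸ 𝔠 := Ideal.Quotient.mk 𝔠 with hφdef
  have hφ : Function.Surjective φ := Ideal.Quotient.mk_surjective
  -- the Artinian Gorenstein local ring `A₀ = (R/𝔠)_q`
  haveI : IsNoetherianRing (R ⧸ 𝔠) := hG.toIsNoetherian
  haveI hGl := hG.isGorensteinLocalRing_localization q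
  haveI : IsNoetherianRing (Localization.AtPrime q) := hGl.toIsNoetherian
  haveI : IsArtinianRing (Localization.AtPrime q) := by
    rw [isArtinianRing_iff_krullDimLE_zero, Ring.krullDimLE_iff,
      IsLocalization.AtPrime.ringKrullDim_eq_height q, Ideal.height_eq_zero_iff.mpr hq]
    rfl
  haveI : Module.Injective (Localization.AtPrime q) (Localization.AtPrime q) :=
    injective_of_isGorensteinLocalRing _
  set ι : (R ⧸ 𝔠) →+* Localization.AtPrime q := algebraMap _ _ with hιdef
  obtain ⟨S, hS⟩ := (isNoetherianRing_iff_ideal_fg R).mp inferInstance I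
  -- key claim
  have key : ι (φ x) ∈ (I.map φ).map ι := by
    apply mem_of_forall_mul_eq_zero
    intro z hz
    obtain ⟨⟨b, s⟩, hbs⟩ := IsLocalization.surj q.primeCompl z
    simp only at hbs
    have h1 : ∀ i : R, ∃ t : q.primeCompl, i ∈ S → (t : R ⧸ 𝔠) * (b * φ i) = 0 := by
      intro i
      by_cases hi : i ∈ S
      · have h2 : ι (b * φ i) = 0 := by
          rw [map_mul, ← hbs, mul_assoc, mul_comm (ι s), ← mul_assoc,
            hz _ (Ideal.mem_map_of_mem _ (Ideal.mem_map_of_mem _ (hS ▸ Ideal.subset_span hi))),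
            zero_mul]
        obtain ⟨t, ht⟩ := (IsLocalization.map_eq_zero_iff q.primeCompl _ _).mp h2
        exact ⟨t, fun _ => ht⟩
      · exact ⟨1, fun h => absurd h hi⟩
    choose t ht using h1
    set T : q.primeCompl := ∏ i ∈ S, t i with hT
    have hTi : ∀ i ∈ S, (T : R ⧸ 𝔠) * (b * φ i) = 0 := by
      intro i hi
      obtain ⟨v, hv⟩ := Finset.dvd_prod_of_mem t hi
      rw [hT, hv, Submonoid.coe_mul, mul_comm (t i : R ⧸ 𝔠), mul_assoc, ht i hi, mul_zero]
    obtain ⟨w, hw⟩ := hφ ((T : R ⧸ 𝔠) * b)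
    have hwcol : w ∈ 𝔠.colon (I : Set R) := by
      have hle' : I ≤ 𝔠.colon {w} := by
        rw [← hS, Ideal.span_le]
        intro i hi
        rw [SetLike.mem_coe, Submodule.mem_colon_singleton, smul_eq_mul,
          ← Ideal.Quotient.eq_zero_iff_mem]
        change φ (i * w) = 0
        rw [map_mul, hw, mul_comm, mul_assoc]
        exact hTi i hi
      rw [Submodule.mem_colon]
      intro i hi
      have := hle' hi
      rw [Submodule.mem_colon_singleton, smul_eq_mul, mul_comm] at this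
      rwa [smul_eq_mul]
    have hxw : x * w ∈ 𝔠 := by
      rw [Submodule.mem_colon] at hx
      exact hx w hwcol
    have h3 : φ x * ((T : R ⧸ 𝔠) * b) = 0 := by
      rw [← hw, ← map_mul]
      exact Ideal.Quotient.eq_zero_iff_mem.mpr hxw
    have h4 : ι (φ x) * z * (ι (T : R ⧸ 𝔠) * ι s) = 0 := by
      have := congrArg ι h3
      rw [map_mul, map_mul, map_zero, ← hbs] at this
      rw [← this]; ring
    have hu : IsUnit (ι (T : R ⧸ 𝔠) * ι s) :=
      (IsLocalization.map_units _ T).mul (IsLocalization.map_units _ s)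
    exact (hu.mul_left_eq_zero).mp h4
  rw [IsLocalization.mem_map_algebraMap_iff q.primeCompl] at key
  obtain ⟨⟨i', s⟩, his⟩ := key
  simp only at his
  have h5 : ι (φ x * s - i') = 0 := by
    rw [map_sub, map_mul, his, sub_self]
  obtain ⟨t, ht⟩ := (IsLocalization.map_eq_zero_iff q.primeCompl _ _).mp h5
  obtain ⟨s', hs'⟩ := hφ ((t : R ⧸ 𝔠) * s)
  have hs'P : s' ∉ P := by
    intro hmem
    rw [← hqP, Ideal.mem_comap] at hmem
    change φ s' ∈ q at hmem
    rw [hs'] at hmem
    exact (t * s).2 hmem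
  apply hs'P
  apply hcolon
  have h6 : φ (s' * x) ∈ I.map φ := by
    rw [map_mul, hs']
    have : (t : R ⧸ 𝔠) * s * φ x = t * (i' : R ⧸ 𝔠) := by
      have h8 : (t : R ⧸ 𝔠) * (φ x * s) - t * (i' : R ⧸ 𝔠) = 0 := by
        rw [← ht]; ring
      rw [← sub_eq_zero.mp h8]; ring
    rw [this]
    exact Ideal.mul_mem_left _ _ i'.2
  have h7 : s' * x ∈ (I.map φ).comap φ := h6
  rw [Ideal.comap_map_of_surjective _ hφ, ← RingHom.ker_eq_comap_bot, Ideal.mk_ker,
    sup_eq_left.mpr hle] at h7
  exact h7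

end Link

end Groth.Agent.Lib.helper2.Liaison
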