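import Mathlib
import Groth.Agent.S0341
import Groth.Agent.Lib.Helper17.GorFlat
import Groth.Agent.Lib.Helper17.ArtGor
import Groth.Agent.Lib.Helper17.PrincGor
import Groth.Agent.Lib.Helper19.Link8
import Groth.Agent.Lib.Helper24.HypersurfaceCM
import Groth.Agent.Lib.Helper26.CM6
import Groth.Agent.Lib.Helper2.Liaison1

/-!
# Liaison, part 8 (helper2): quotients of Gorenstein local rings by annihilators of elements

`A` Gorenstein local, `f ≠ 0`, `A/fA` Cohen–Macaulay with `dim A/fA = dim A`; then `A/(0 : f)` is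
a Gorenstein local ring.
-/

set_option autoImplicit false
set_option linter.unusedSectionVars false
universe u

open LocCoh IsLocalRing

namespace Groth.Agent.Lib.helper2.Liaison

section Ann

variable {A : Type u} [CommRing A]

lemma mem_ann_span_singleton (f a : A) :
    a ∈ Submodule.annihilator (Ideal.span {f} : Ideal A) ↔ a * f = 0 := by
  rw [Ideal.span, Submodule.mem_annihilator_span_singleton, smul_eq_mul]

lemma ann_span_singleton_ne_top {f : A} (hf : f ≠ 0) :
    Submodule.annihilator (Ideal.span {f} : Ideal A) ≠ ⊤ := by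
  intro h
  have : (1 : A) ∈ Submodule.annihilator (Ideal.span {f} : Ideal A) := by rw [h]; trivial
  rw [mem_ann_span_singleton, one_mul] at this
  exact hf this

/-- `A/(0 : f) → A`, `a ↦ a f`. -/
noncomputable def quotAnnToSelf (f : A) :
    (A ⧸ Submodule.annihilator (Ideal.span {f} : Ideal A)) →ₗ[A] A :=
  Submodule.liftQ _ (LinearMap.toSpanSingleton A A f) (by
    intro a ha
    rw [mem_ann_span_singleton] at ha
    rw [LinearMap.mem_ker, LinearMap.toSpanSingleton_apply, smul_eq_mul, ha])

lemma quotAnnToSelf_mk (f a : A) :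
    quotAnnToSelf f (Ideal.Quotient.mk _ a) = a * f := rfl

lemma quotAnnToSelf_injective (f : A) : Function.Injective (quotAnnToSelf f) := by
  rw [← LinearMap.ker_eq_bot, quotAnnToSelf, Submodule.ker_liftQ_eq_bot']
  ext a
  rw [LinearMap.mem_ker, LinearMap.toSpanSingleton_apply, smul_eq_mul, mem_ann_span_singleton]

lemma isSMulRegular_quot_ann (f x : A) (hx : IsSMulRegular A x) :
    IsSMulRegular (A ⧸ Submodule.annihilator (Ideal.span {f} : Ideal A)) x := by
  intro a b hab
  apply quotAnnToSelf_injective f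
  apply hx
  change x • quotAnnToSelf f a = x • quotAnnToSelf f b
  rw [← map_smul, ← map_smul]
  exact congrArg _ hab

/-- the annihilator of `f` modulo an element `x` regular on `A/fA`. -/
lemma ann_quot_eq (f x : A) (hx2 : IsSMulRegular (A ⧸ Ideal.span {f}) x) :
    Submodule.annihilator (Ideal.span {Ideal.Quotient.mk (Ideal.span {x}) f} :
      Ideal (A ⧸ Ideal.span {x})) =
      (Submodule.annihilator (Ideal.span {f} : Ideal A)).map (Ideal.Quotient.mk (Ideal.span {x})) := by
  apply le_antisymm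
  · intro a ha
    obtain ⟨a, rfl⟩ := Ideal.Quotient.mk_surjective a
    rw [mem_ann_span_singleton, ← map_mul, Ideal.Quotient.eq_zero_iff_mem,
      Ideal.mem_span_singleton'] at ha
    obtain ⟨b, hb⟩ := ha
    -- `b x = a f`, so `x b̄ = 0` in `A/fA`
    have h1 : x • (Ideal.Quotient.mk (Ideal.span {f}) b) = x • 0 := by
      rw [smul_zero, Algebra.smul_def, Ideal.Quotient.algebraMap_eq, ← map_mul,
        Ideal.Quotient.eq_zero_iff_mem, Ideal.mem_span_singleton']
      exact ⟨a, by rw [← hb]; ring⟩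
    have h2 := hx2 h1
    rw [Ideal.Quotient.eq_zero_iff_mem, Ideal.mem_span_singleton'] at h2
    obtain ⟨b', rfl⟩ := h2
    have h3 : a - x * b' ∈ Submodule.annihilator (Ideal.span {f} : Ideal A) := by
      rw [mem_ann_span_singleton, sub_mul, ← hb]
      ring
    have h4 : Ideal.Quotient.mk (Ideal.span {x}) a =
        Ideal.Quotient.mk (Ideal.span {x}) (a - x * b') := by
      rw [map_sub, map_mul]
      have : Ideal.Quotient.mk (Ideal.span {x}) x = 0 :=
        Ideal.Quotient.eq_zero_iff_mem.mpr (Ideal.mem_span_singleton_self x)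
      rw [this, zero_mul, sub_zero]
    rw [h4]
    exact Ideal.mem_map_of_mem _ h3
  · rw [Ideal.map_le_iff_le_comap]
    intro a ha
    rw [mem_ann_span_singleton] at ha
    rw [Ideal.mem_comap, mem_ann_span_singleton, ← map_mul, ha, map_zero]

end Ann

section Base

open Groth.Agent.Lib.helper17.ArtGor Groth.Agent.Lib.helper17.SocleFlat

variable (A : Type u) [CommRing A] [IsLocalRing A] [IsArtinianRing A]

/-- the Artinian case: `A/(0 : f)` has a simple socle. -/
theorem gor_quot_ann_artinian (hA : LocCoh.IsGorensteinLocalRing A) (f : A) (hf : f ≠ 0) :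
    LocCoh.IsGorensteinLocalRing (A ⧸ Submodule.annihilator (Ideal.span {f} : Ideal A)) := by
  set J := Submodule.annihilator (Ideal.span {f} : Ideal A) with hJ
  haveI : Nontrivial (A ⧸ J) := Ideal.Quotient.nontrivial_iff.mpr (ann_span_singleton_ne_top hf)
  haveI : IsLocalRing (A ⧸ J) :=
    IsLocalRing.of_surjective' (Ideal.Quotient.mk J) Ideal.Quotient.mk_surjective
  apply Groth.Agent.Lib.helper17.PrincGor.gor_of_typ_le_one
  have h1 : typ A = 1 := (isGorensteinLocalRing_iff_typ A).mp hA
  unfold typ at h1 ⊢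
  rw [← length_hom_residue_quot A J (A ⧸ J), ← h1]
  refine Module.length_le_of_injective (LinearMap.compRight A (quotAnnToSelf f)) ?_
  intro g h hgh
  apply LinearMap.ext
  intro z
  apply quotAnnToSelf_injective f
  exact LinearMap.congr_fun hgh z

end Base

section Step

open Groth.Agent.Lib.helper17.GorFlat Groth.Agent.Lib.helper17.GorQuot
  Groth.Agent.Lib.helper17.GorIso

lemma isSMulRegular_mk_iff {A : Type u} [CommRing A] (I : Ideal A) (x : A) :
    IsSMulRegular (A ⧸ I) (Ideal.Quotient.mk I x) ↔ IsSMulRegular (A ⧸ I) x := by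
  have : ∀ y : A ⧸ I, (Ideal.Quotient.mk I x) • y = x • y := by
    intro y
    obtain ⟨y, rfl⟩ := Ideal.Quotient.mk_surjective y
    rfl
  constructor
  · intro h a b hab
    apply h
    change (Ideal.Quotient.mk I x) • a = (Ideal.Quotient.mk I x) • b
    rw [this, this]
    exact hab
  · intro h a b hab
    apply h
    change x • a = x • b
    rw [← this, ← this]
    exact hab

lemma dim_cancel {a : WithBot ℕ∞} {d : ℕ} (h : a + 1 = ((d + 1 : ℕ) : WithBot ℕ∞)) :
    a = (d : WithBot ℕ∞) := by
  induction a using WithBot.recBotCoe with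
  | bot =>
    rw [WithBot.bot_add] at h
    exact absurd h WithBot.bot_ne_coe
  | coe a =>
    induction a using ENat.recTopCoe with
    | top =>
      exfalso
      have h' : ((⊤ : ℕ∞) : WithBot ℕ∞) + 1 = ((⊤ : ℕ∞) : WithBot ℕ∞) := by
        rw [← WithBot.coe_one, ← WithBot.coe_add]; simp
      rw [h'] at h
      have h4 : (⊤ : ℕ∞) = ((d + 1 : ℕ) : ℕ∞) := by exact_mod_cast h
      exact ENat.top_ne_natCast _ h4
    | coe a =>
      have : a + 1 = d + 1 := by exact_mod_cast h
      have : a = d := by omega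
      rw [this]
      rfl

variable (A : Type u) [CommRing A] [hG : LocCoh.IsGorensteinLocalRing A]

/-- a common regular element for `A` and a maximal Cohen–Macaulay quotient. -/
theorem exists_regular_common (I : Ideal A) (hI : ringKrullDim (A ⧸ I) = ringKrullDim A)
    [LocCoh.IsCohenMacaulayLocalRing (A ⧸ I)] (hpos : ringKrullDim A ≠ 0) :
    ∃ x ∈ maximalIdeal A, IsSMulRegular A x ∧ IsSMulRegular (A ⧸ I) x := by
  haveI hCM : LocCoh.IsCohenMacaulayLocalRing A := Groth.Agent.S0341.result A
  have hfield : ringKrullDim (A ⧸ maximalIdeal A) = 0 :=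
    ringKrullDim_eq_zero_of_isField
      ((Ideal.Quotient.maximal_ideal_iff_isField_quotient _).mp inferInstance)
  have h1 : maximalIdeal A ∉ associatedPrimes A A := fun h =>
    hpos (ringKrullDim_eq_zero_of_maximalIdeal_mem_ass A h)
  have h2 : maximalIdeal A ∉ associatedPrimes A (A ⧸ I) := by
    intro h
    have hM := Groth.Agent.Lib.helper19.Link.isCohenMacaulayModule_quot A I hI
    have := Groth.Agent.Lib.helper26.Depth.ringKrullDim_quotient_eq_supportDim_of_isCohenMacaulayModule
      (A := A) (A ⧸ I) hM (maximalIdeal A) h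
    rw [Module.supportDim_quotient_eq_ringKrullDim, hI, hfield] at this
    exact hpos this.symm
  have h3 : maximalIdeal A ∉ associatedPrimes A (A × (A ⧸ I)) := by
    rw [associatedPrimes.prod]
    rintro (h | h)
    · exact h1 h
    · exact h2 h
  obtain ⟨x, hxm, hx⟩ :=
    Groth.Agent.Lib.helper26.Depth.exists_isSMulRegular_mem_maximalIdeal (A × (A ⧸ I)) h3
  refine ⟨x, hxm, ?_, ?_⟩
  · intro a b hab
    have : x • ((a, 0) : A × (A ⧸ I)) = x • ((b, 0) : A × (A ⧸ I)) := by
      have hab' : x • a = x • b := hab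
      rw [Prod.smul_mk, Prod.smul_mk, smul_zero, hab']
    exact congrArg Prod.fst (hx this)
  · intro a b hab
    have : x • ((0, a) : A × (A ⧸ I)) = x • ((0, b) : A × (A ⧸ I)) := by
      have hab' : x • a = x • b := hab
      rw [Prod.smul_mk, Prod.smul_mk, smul_zero, hab']
    exact congrArg Prod.snd (hx this)

end Step

section Main

open Groth.Agent.Lib.helper17.GorFlat Groth.Agent.Lib.helper17.GorQuot
  Groth.Agent.Lib.helper17.GorIso

/-- `f ∉ xA` if `f ≠ 0` and `x ∈ 𝔪` is regular on `A/fA`. -/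
lemma mk_ne_zero_of_regular {A : Type u} [CommRing A] [IsLocalRing A] (f x : A) (hf : f ≠ 0)
    (hxm : x ∈ maximalIdeal A) (hx2 : IsSMulRegular (A ⧸ Ideal.span {f}) x) :
    Ideal.Quotient.mk (Ideal.span {x}) f ≠ 0 := by
  intro h
  rw [Ideal.Quotient.eq_zero_iff_mem, Ideal.mem_span_singleton'] at h
  obtain ⟨g, hg⟩ := h
  have h1 : x • (Ideal.Quotient.mk (Ideal.span {f}) g) = x • 0 := by
    rw [smul_zero, Algebra.smul_def, Ideal.Quotient.algebraMap_eq, ← map_mul,
      Ideal.Quotient.eq_zero_iff_mem, mul_comm, hg]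
    exact Ideal.mem_span_singleton_self f
  have h2 := hx2 h1
  rw [Ideal.Quotient.eq_zero_iff_mem, Ideal.mem_span_singleton'] at h2
  obtain ⟨h', rfl⟩ := h2
  have h3 : f * (1 - h' * x) = 0 := by
    have : f * (1 - h' * x) = f - h' * f * x := by ring
    rw [this, hg, sub_self]
  have hu : IsUnit (1 - h' * x) := by
    have hmem : h' * x ∈ maximalIdeal A := Ideal.mul_mem_left _ _ hxm
    by_contra hnu
    have h4 : 1 - h' * x ∈ maximalIdeal A := (mem_maximalIdeal _).mpr hnu
    have h5 : (1 : A) ∈ maximalIdeal A := by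
      have := Ideal.add_mem _ h4 hmem
      rwa [sub_add_cancel] at this
    exact (Ideal.ne_top_iff_one _).mp (maximalIdeal.isMaximal A).ne_top h5
  exact hf (hu.mul_left_eq_zero.mp h3)

theorem gor_quot_ann_aux (d : ℕ) : ∀ (A : Type u) [CommRing A]
    [LocCoh.IsGorensteinLocalRing A] (f : A), f ≠ 0 → ringKrullDim A = d →
    ringKrullDim (A ⧸ Ideal.span {f}) = ringKrullDim A →
    LocCoh.IsCohenMacaulayLocalRing (A ⧸ Ideal.span {f}) →
    LocCoh.IsGorensteinLocalRing (A ⧸ Submodule.annihilator (Ideal.span {f} : Ideal A)) := by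
  induction d with
  | zero =>
    intro A _ hG f hf hd _ _
    haveI := isArtinianRing_of_dim_zero A hd
    exact gor_quot_ann_artinian A hG f hf
  | succ d ih =>
    intro A _ hG f hf hd hdim hCM
    have hpos : ringKrullDim A ≠ 0 := by
      rw [hd]
      intro h
      have : (d + 1 : ℕ) = 0 := by exact_mod_cast h
      omega
    obtain ⟨x, hxm, hx1, hx2⟩ := exists_regular_common A (Ideal.span {f}) hdim hpos
    haveI hloc1 : IsLocalRing (A ⧸ Ideal.span {x}) := isLocalRing_quot x hxm
    have hG1 : LocCoh.IsGorensteinLocalRing (A ⧸ Ideal.span {x}) :=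
      (gor_quot_iff A x hxm hx1).mp hG
    have hd1 : ringKrullDim (A ⧸ Ideal.span {x}) = d := by
      have := ringKrullDim_quotient_span_singleton_succ_eq_ringKrullDim hx1 hxm
      rw [hd] at this
      exact dim_cancel this
    set f₁ := Ideal.Quotient.mk (Ideal.span {x}) f with hf₁
    have hf1 : f₁ ≠ 0 := mk_ne_zero_of_regular f x hf hxm hx2
    -- the Cohen–Macaulay quotient
    set x₂ := Ideal.Quotient.mk (Ideal.span {f}) x with hx₂
    haveI : IsLocalRing (A ⧸ Ideal.span {f}) := hCM.toIsLocalRing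
    have hx2m : x₂ ∈ maximalIdeal (A ⧸ Ideal.span {f}) := by
      haveI : IsLocalHom (Ideal.Quotient.mk (Ideal.span {f})) :=
        IsLocalHom.of_surjective _ Ideal.Quotient.mk_surjective
      rw [mem_maximalIdeal, mem_nonunits_iff, isUnit_map_iff]
      exact (mem_maximalIdeal _).mp hxm
    have hx2r : IsSMulRegular (A ⧸ Ideal.span {f}) x₂ := (isSMulRegular_mk_iff _ x).mpr hx2
    have hCM2 := Groth.Agent.Lib.Helper24.HypersurfaceCM.cm_quotient_regular
      (A ⧸ Ideal.span {f}) x₂ hx2m hx2r
    have hdim2 := ringKrullDim_quotient_span_singleton_succ_eq_ringKrullDim hx2r hx2m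
    rw [hdim, hd] at hdim2
    have hdim2' := dim_cancel hdim2
    have e1 : ((A ⧸ Ideal.span {x}) ⧸ Ideal.span {f₁}) ≃+*
        ((A ⧸ Ideal.span {f}) ⧸ Ideal.span {x₂}) := by
      have h1 : (Ideal.span {f} : Ideal A).map (Ideal.Quotient.mk (Ideal.span {x})) =
          Ideal.span {f₁} := by rw [Ideal.map_span, Set.image_singleton]
      have h2 : (Ideal.span {x} : Ideal A).map (Ideal.Quotient.mk (Ideal.span {f})) =
          Ideal.span {x₂} := by rw [Ideal.map_span, Set.image_singleton]
      exact ((Ideal.quotEquivOfEq h1.symm).trans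
        (DoubleQuot.quotQuotEquivComm (Ideal.span {x}) (Ideal.span {f}))).trans
        (Ideal.quotEquivOfEq h2)
    have hCM1 : LocCoh.IsCohenMacaulayLocalRing ((A ⧸ Ideal.span {x}) ⧸ Ideal.span {f₁}) :=
      Groth.Agent.Lib.helper19.Link.isCM_of_ringEquiv e1.symm hCM2
    have hdim1 : ringKrullDim ((A ⧸ Ideal.span {x}) ⧸ Ideal.span {f₁}) =
        ringKrullDim (A ⧸ Ideal.span {x}) := by
      rw [ringKrullDim_eq_of_ringEquiv e1, hdim2', hd1]
    have ih1 := @ih (A ⧸ Ideal.span {x}) _ hG1 f₁ hf1 hd1 hdim1 hCM1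
    -- back to `B = A/(0 : f)`
    set J := Submodule.annihilator (Ideal.span {f} : Ideal A) with hJ
    have hJne : J ≠ ⊤ := ann_span_singleton_ne_top hf
    haveI : Nontrivial (A ⧸ J) := Ideal.Quotient.nontrivial_iff.mpr hJne
    haveI : IsLocalRing (A ⧸ J) :=
      IsLocalRing.of_surjective' (Ideal.Quotient.mk J) Ideal.Quotient.mk_surjective
    set x₃ := Ideal.Quotient.mk J x with hx₃
    have hx3m : x₃ ∈ maximalIdeal (A ⧸ J) := by
      haveI : IsLocalHom (Ideal.Quotient.mk J) :=
        IsLocalHom.of_surjective _ Ideal.Quotient.mk_surjective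
      rw [mem_maximalIdeal, mem_nonunits_iff, isUnit_map_iff]
      exact (mem_maximalIdeal _).mp hxm
    have hx3r : IsSMulRegular (A ⧸ J) x₃ :=
      (isSMulRegular_mk_iff _ x).mpr (isSMulRegular_quot_ann f x hx1)
    have e2 : ((A ⧸ J) ⧸ Ideal.span {x₃}) ≃+*
        ((A ⧸ Ideal.span {x}) ⧸ Submodule.annihilator (Ideal.span {f₁} :
          Ideal (A ⧸ Ideal.span {x}))) := by
      have h1 : (Ideal.span {x} : Ideal A).map (Ideal.Quotient.mk J) = Ideal.span {x₃} := by
        rw [Ideal.map_span, Set.image_singleton]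
      have h2 := ann_quot_eq f x hx2
      exact ((Ideal.quotEquivOfEq h1.symm).trans
        (DoubleQuot.quotQuotEquivComm J (Ideal.span {x}))).trans (Ideal.quotEquivOfEq h2.symm)
    haveI : IsNoetherianRing (A ⧸ J) := inferInstance
    have hGB : LocCoh.IsGorensteinLocalRing ((A ⧸ J) ⧸ Ideal.span {x₃}) :=
      isGorensteinLocalRing_of_ringEquiv e2 ih1
    exact (gor_quot_iff (A ⧸ J) x₃ hx3m hx3r).mpr hGB

/-- **Core lemma.** `A` Gorenstein local, `f ≠ 0`, `A/fA` Cohen–Macaulay of dimension `dim A`: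
then `A/(0 : f)` is Gorenstein. -/
theorem isGorensteinLocalRing_quot_ann_span (A : Type u) [CommRing A]
    [LocCoh.IsGorensteinLocalRing A] (f : A) (hf : f ≠ 0)
    (hdim : ringKrullDim (A ⧸ Ideal.span {f}) = ringKrullDim A)
    [hCM : LocCoh.IsCohenMacaulayLocalRing (A ⧸ Ideal.span {f})] :
    LocCoh.IsGorensteinLocalRing (A ⧸ Submodule.annihilator (Ideal.span {f} : Ideal A)) := by
  obtain ⟨d, hd⟩ := exists_natCast_eq A
  exact gor_quot_ann_aux d A f hf hd hdim hCM

end Main

end Groth.Agent.Lib.helper2.Liaison
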