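import Mathlib
import Groth.Agent.Lib.Helper2.Liaison8
import Groth.Agent.Lib.Helper2.Liaison3
import Groth.Agent.Lib.Helper2.Liaison2
import Groth.Agent.Lib.Helper17.LciGor
import Groth.Agent.Lib.Helper17.GorRing
import Groth.Agent.Lib.Helper26.Unmixed

/-!
# Liaison, part 9 (helper2): linkage by an almost complete intersection gives a Gorenstein ideal
-/

set_option autoImplicit false
set_option linter.unusedSectionVars false
universe u

open LocCoh IsLocalRing

namespace Groth.Agent.Lib.helper2.Liaison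

open Groth.Agent.Lib.helper19.Link Groth.Agent.Lib.helper17.GorIso

section CI

variable {R : Type u} [CommRing R] [hR : IsGorensteinRing R]

/-- the quotient of a Gorenstein ring by an ideal of height `c` generated by `c` elements is a
Gorenstein ring. -/
theorem isGorensteinRing_quot_span_range_of_height (c : ℕ) (g : Fin c → R)
    (hht : (Ideal.span (Set.range g)).height = c) :
    IsGorensteinRing (R ⧸ Ideal.span (Set.range g)) := by
  haveI : IsNoetherianRing R := hR.toIsNoetherian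
  set 𝔠 := Ideal.span (Set.range g) with h𝔠
  refine { isGorensteinLocalRing_localization := ?_ }
  intro 𝔮 h𝔮
  set Q : Ideal R := 𝔮.comap (Ideal.Quotient.mk 𝔠) with hQ
  haveI hQp : Q.IsPrime := Ideal.comap_isPrime _ _
  have h𝔠Q : 𝔠 ≤ Q := by
    intro x hx
    rw [hQ, Ideal.mem_comap, Ideal.Quotient.eq_zero_iff_mem.mpr hx]
    exact 𝔮.zero_mem
  haveI hGL : IsGorensteinLocalRing (Localization.AtPrime Q) :=
    hR.isGorensteinLocalRing_localization Q
  haveI hCML : IsCohenMacaulayLocalRing (Localization.AtPrime Q) := Groth.Agent.S0341.result _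
  set xs : List (Localization.AtPrime Q) :=
    List.ofFn (fun i => algebraMap R (Localization.AtPrime Q) (g i)) with hxs
  have hofList : Ideal.ofList xs = 𝔠.map (algebraMap R (Localization.AtPrime Q)) := by
    rw [h𝔠, Ideal.map_span]
    unfold Ideal.ofList
    congr 1
    ext z
    simp only [hxs, List.mem_ofFn, Set.mem_image, Set.mem_range]
    constructor
    · rintro ⟨i, rfl⟩
      exact ⟨g i, ⟨i, rfl⟩, rfl⟩
    · rintro ⟨_, ⟨i, rfl⟩, rfl⟩
      exact ⟨i, rfl⟩
  have hmem : ∀ x ∈ xs, x ∈ maximalIdeal (Localization.AtPrime Q) := by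
    intro x hx
    have h1 : x ∈ Ideal.ofList xs := Ideal.subset_span hx
    rw [hofList] at h1
    rw [← Localization.AtPrime.map_eq_maximalIdeal]
    exact Ideal.map_mono h𝔠Q h1
  have hlen : xs.length = c := by rw [hxs, List.length_ofFn]
  have hheight : (xs.length : ℕ∞) ≤ (Ideal.ofList xs).height := by
    rw [hlen, hofList, ← hht, ← IsLocalization.height_under Q.primeCompl
      (𝔠.map (algebraMap R (Localization.AtPrime Q)))]
    exact Ideal.height_mono Ideal.le_comap_map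
  have hreg := Groth.Agent.Lib.helper26.Unmixed.isWeaklyRegular_of_le_height
    (Localization.AtPrime Q) xs hmem hheight
  have h5 := Groth.Agent.Lib.helper17.LciGor.gor_quot_ofList (Localization.AtPrime Q) xs hmem hreg hGL
  exact isGorensteinLocalRing_of_ringEquiv
    ((locQuotEquiv' 𝔠 𝔮 Q rfl).trans (Ideal.quotEquivOfEq hofList.symm)) h5

end CI

section Linked

/-- **Linkage by an almost complete intersection.** `R` Noetherian, `R/𝔠` Gorenstein,
`I = 𝔠 + fR` with `R/I` Cohen–Macaulay and `𝔠 : (𝔠 : I) = I`; then `R/(𝔠 : I)` is Gorenstein. -/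
theorem isGorensteinRing_quot_colon_principal (R : Type u) [CommRing R] [IsNoetherianRing R]
    (𝔠 I J : Ideal R) (f : R) [hG : IsGorensteinRing (R ⧸ 𝔠)] (hIf : I = 𝔠 ⊔ Ideal.span {f})
    (hIJ : 𝔠.colon (I : Set R) = J) (hJI : 𝔠.colon (J : Set R) = I)
    [hCM : IsCohenMacaulayRing (R ⧸ I)] : IsGorensteinRing (R ⧸ J) := by
  refine { isGorensteinLocalRing_localization := ?_ }
  intro 𝔮 h𝔮
  set Q : Ideal R := 𝔮.comap (Ideal.Quotient.mk J) with hQ
  haveI hQp : Q.IsPrime := Ideal.comap_isPrime _ _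
  have h𝔠J : 𝔠 ≤ J := by rw [← hIJ]; exact Ideal.le_colon
  have h𝔠I : 𝔠 ≤ I := by rw [← hJI]; exact Ideal.le_colon
  set 𝔠L : Ideal (Localization.AtPrime Q) := 𝔠.map (algebraMap R (Localization.AtPrime Q)) with h𝔠L
  set IL : Ideal (Localization.AtPrime Q) := I.map (algebraMap R (Localization.AtPrime Q)) with hIL
  set JL : Ideal (Localization.AtPrime Q) := J.map (algebraMap R (Localization.AtPrime Q)) with hJL
  have h𝔠JL : 𝔠L ≤ JL := Ideal.map_mono h𝔠J
  have h𝔠IL : 𝔠L ≤ IL := Ideal.map_mono h𝔠I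
  let 𝔭 : Ideal (R ⧸ 𝔠) := 𝔮.comap (Ideal.Quotient.factor h𝔠J)
  haveI : 𝔭.IsPrime := Ideal.comap_isPrime _ _
  have h𝔭 : 𝔭.comap (Ideal.Quotient.mk 𝔠) = Q := by
    rw [Ideal.comap_comap, Ideal.Quotient.factor_comp_mk]
  haveI hGA : IsGorensteinLocalRing (Localization.AtPrime Q ⧸ 𝔠L) :=
    isGorensteinLocalRing_of_ringEquiv
      (locQuotEquiv' 𝔠 𝔭 Q h𝔭).symm (hG.isGorensteinLocalRing_localization 𝔭)
  haveI hCMA : IsCohenMacaulayLocalRing (Localization.AtPrime Q ⧸ 𝔠L) :=
    Groth.Agent.S0341.result _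
  have hannI : Submodule.annihilator (IL.map (Ideal.Quotient.mk 𝔠L)) =
      JL.map (Ideal.Quotient.mk 𝔠L) := by
    rw [annihilator_map_mk, hIL, h𝔠L, colon_map_localization Q 𝔠 I, hIJ]
  have hannJ : Submodule.annihilator (JL.map (Ideal.Quotient.mk 𝔠L)) =
      IL.map (Ideal.Quotient.mk 𝔠L) := by
    rw [annihilator_map_mk, hJL, h𝔠L, colon_map_localization Q 𝔠 J, hJI]
  let e𝔮 : Localization.AtPrime 𝔮 ≃+* (Localization.AtPrime Q ⧸ JL) := locQuotEquiv' J 𝔮 Q rfl
  let eJ : ((Localization.AtPrime Q ⧸ 𝔠L) ⧸ JL.map (Ideal.Quotient.mk 𝔠L)) ≃+*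
      (Localization.AtPrime Q ⧸ JL) := DoubleQuot.quotQuotEquivQuotOfLE h𝔠JL
  let eI : ((Localization.AtPrime Q ⧸ 𝔠L) ⧸ IL.map (Ideal.Quotient.mk 𝔠L)) ≃+*
      (Localization.AtPrime Q ⧸ IL) := DoubleQuot.quotQuotEquivQuotOfLE h𝔠IL
  have hJne : JL.map (Ideal.Quotient.mk 𝔠L) ≠ ⊤ := by
    intro htop
    haveI : Subsingleton ((Localization.AtPrime Q ⧸ 𝔠L) ⧸ JL.map (Ideal.Quotient.mk 𝔠L)) :=
      Ideal.Quotient.subsingleton_iff.mpr htop
    haveI : Subsingleton (Localization.AtPrime 𝔮) := (e𝔮.trans eJ.symm).toEquiv.subsingleton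
    exact not_subsingleton (Localization.AtPrime 𝔮) inferInstance
  suffices hsuff : IsGorensteinLocalRing
      ((Localization.AtPrime Q ⧸ 𝔠L) ⧸ JL.map (Ideal.Quotient.mk 𝔠L)) from
    isGorensteinLocalRing_of_ringEquiv (e𝔮.trans eJ.symm) hsuff
  -- the image of `I` is principal
  set fb : Localization.AtPrime Q ⧸ 𝔠L :=
    Ideal.Quotient.mk 𝔠L (algebraMap R (Localization.AtPrime Q) f) with hfb
  have hIprinc : IL.map (Ideal.Quotient.mk 𝔠L) = Ideal.span {fb} := by
    rw [hIL, hIf, Ideal.map_sup, Ideal.map_sup, ← h𝔠L, Ideal.map_quotient_self, bot_sup_eq,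
      Ideal.map_span, Ideal.map_span, Set.image_singleton, Set.image_singleton]
  by_cases hIQ : I ≤ Q
  · haveI : (Q.map (Ideal.Quotient.mk I)).IsPrime :=
      Ideal.map_isPrime_of_surjective Ideal.Quotient.mk_surjective (by rwa [Ideal.mk_ker])
    have h𝔯 : (Q.map (Ideal.Quotient.mk I)).comap (Ideal.Quotient.mk I) = Q := by
      rw [Ideal.comap_map_of_surjective _ Ideal.Quotient.mk_surjective, ← RingHom.ker_eq_comap_bot,
        Ideal.mk_ker, sup_eq_left]
      exact hIQ
    have h1 : IsCohenMacaulayLocalRing (Localization.AtPrime (Q.map (Ideal.Quotient.mk I))) :=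
      hCM.isCohenMacaulayLocalRing_localization _
    have h2 : IsCohenMacaulayLocalRing
        ((Localization.AtPrime Q ⧸ 𝔠L) ⧸ IL.map (Ideal.Quotient.mk 𝔠L)) :=
      isCM_of_ringEquiv ((locQuotEquiv' I _ Q h𝔯).trans eI.symm) h1
    have hIne : IL.map (Ideal.Quotient.mk 𝔠L) ≠ ⊤ := by
      intro htop
      haveI : Subsingleton ((Localization.AtPrime Q ⧸ 𝔠L) ⧸ IL.map (Ideal.Quotient.mk 𝔠L)) :=
        Ideal.Quotient.subsingleton_iff.mpr htop
      haveI := h2.toIsLocalRing
      exact not_subsingleton ((Localization.AtPrime Q ⧸ 𝔠L) ⧸ IL.map (Ideal.Quotient.mk 𝔠L))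
        inferInstance
    have hdim : ringKrullDim ((Localization.AtPrime Q ⧸ 𝔠L) ⧸ IL.map (Ideal.Quotient.mk 𝔠L)) =
        ringKrullDim (Localization.AtPrime Q ⧸ 𝔠L) := by
      have := ringKrullDim_quot_ann (Localization.AtPrime Q ⧸ 𝔠L) (JL.map (Ideal.Quotient.mk 𝔠L))
        (by rw [hannJ]; exact hIne)
      rw [← this]
      exact ringKrullDim_eq_of_ringEquiv (Ideal.quotEquivOfEq hannJ.symm)
    -- transport to the principal form
    have h2' : IsCohenMacaulayLocalRing ((Localization.AtPrime Q ⧸ 𝔠L) ⧸ Ideal.span {fb}) :=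
      isCM_of_ringEquiv (Ideal.quotEquivOfEq hIprinc) h2
    have hdim' : ringKrullDim ((Localization.AtPrime Q ⧸ 𝔠L) ⧸ Ideal.span {fb}) =
        ringKrullDim (Localization.AtPrime Q ⧸ 𝔠L) := by
      rw [← hdim]
      exact (ringKrullDim_eq_of_ringEquiv (Ideal.quotEquivOfEq hIprinc)).symm
    have hf0 : fb ≠ 0 := by
      intro h0
      apply hJne
      rw [← hannI, hIprinc, h0]
      rw [eq_top_iff]
      intro x _
      rw [mem_ann_span_singleton, mul_zero]
    have h3 := @isGorensteinLocalRing_quot_ann_span (Localization.AtPrime Q ⧸ 𝔠L) _ hGA fb hf0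
      hdim' h2'
    have hann' : Submodule.annihilator (Ideal.span {fb} : Ideal (Localization.AtPrime Q ⧸ 𝔠L)) =
        JL.map (Ideal.Quotient.mk 𝔠L) := by rw [← hIprinc, hannI]
    exact isGorensteinLocalRing_of_ringEquiv (Ideal.quotEquivOfEq hann'.symm) h3
  · have hILtop : IL = ⊤ := by
      obtain ⟨i, hiI, hiQ⟩ := Set.not_subset.mp hIQ
      refine Ideal.eq_top_of_isUnit_mem _ (Ideal.mem_map_of_mem _ hiI) ?_
      exact IsLocalization.map_units (Localization.AtPrime Q) (⟨i, hiQ⟩ : Q.primeCompl)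
    have hJbot : JL.map (Ideal.Quotient.mk 𝔠L) = ⊥ := by
      rw [← hannI, hILtop, Ideal.map_top]
      rw [eq_bot_iff]
      intro x hx
      have := (mem_ann_iff x).mp hx 1 Submodule.mem_top
      rw [mul_one] at this
      rw [this]
      exact Submodule.zero_mem _
    exact isGorensteinLocalRing_of_ringEquiv
      ((Ideal.quotEquivOfEq hJbot).trans (RingEquiv.quotientBot _)) hGA

end Linked

section Poly

variable (K : Type u) [Field K] (n : ℕ)

/-- the statement of S18868. -/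
theorem almostCI_linked (c : ℕ) (g : Fin c → MvPolynomial (Fin n) K) (f : MvPolynomial (Fin n) K)
    (𝔠 I : Ideal (MvPolynomial (Fin n) K)) (h𝔠g : Ideal.span (Set.range g) = 𝔠)
    (h𝔠 : 𝔠.IsHomogeneous (GrSyz.stdGr K (Fin n))) (hI : I.IsHomogeneous (GrSyz.stdGr K (Fin n)))
    (h𝔠c : 𝔠.height = c) (hIc : I.height = c)
    [hCM : IsCohenMacaulayRing (MvPolynomial (Fin n) K ⧸ I)]
    (hlt : 𝔠 < I) (hIf : I = 𝔠 ⊔ Ideal.span {f}) :
    (𝔠.colon (I : Set (MvPolynomial (Fin n) K))).height = c ∧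
      IsGorensteinRing (MvPolynomial (Fin n) K ⧸ 𝔠.colon (I : Set (MvPolynomial (Fin n) K))) := by
  haveI : IsGorensteinRing K := Groth.Agent.Lib.helper17.GorRing.isGorensteinRing_of_field K
  haveI : IsGorensteinRing (MvPolynomial (Fin n) K) :=
    Groth.Agent.Lib.helper17.GorRing.isGorensteinRing_mvPolynomial_fin K n
  haveI hG𝔠 : IsGorensteinRing (MvPolynomial (Fin n) K ⧸ 𝔠) := by
    rw [← h𝔠g]
    exact isGorensteinRing_quot_span_range_of_height c g (by rw [h𝔠g]; exact h𝔠c)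
  have hI𝔠 : ¬ I ≤ 𝔠 := not_le_of_gt hlt
  obtain ⟨hJht, -⟩ := colon_height_and_unmixed K n c 𝔠 I h𝔠 h𝔠c hI𝔠
  refine ⟨hJht, ?_⟩
  have hIu : ∀ p ∈ associatedPrimes (MvPolynomial (Fin n) K) (MvPolynomial (Fin n) K ⧸ I),
      p.height = c := by
    intro p hp
    have h1 := mem_minimalPrimes_of_mem_associatedPrimes_quotient I
      (fun q _ => hCM.isCohenMacaulayLocalRing_localization q) p hp
    rw [height_eq_of_mem_minimalPrimes K n hI h1, hIc]
  have hJI := colon_colon_eq c 𝔠 I h𝔠c hIu hlt.le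
  exact isGorensteinRing_quot_colon_principal (MvPolynomial (Fin n) K) 𝔠 I _ f hIf rfl hJI

end Poly

end Groth.Agent.Lib.helper2.Liaison
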