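import Mathlib
import Groth.Agent.Lib.Helper2.Liaison9
import Groth.Agent.Lib.Helper26.Depth2

/-!
# Liaison, part 10 (helper2): the sum of two geometrically linked ideals (local theory)

`A` Gorenstein local, `a₁ = (0 : a₂)`, `a₂ = (0 : a₁)`, `a₁ ∩ a₂ = 0`, `A/a₁`, `A/a₂`
Cohen–Macaulay. Then `A/(a₁ + a₂)` is Gorenstein of dimension `dim A - 1`.
-/

set_option autoImplicit false
set_option linter.unusedSectionVars false
universe u

open LocCoh IsLocalRing

namespace Groth.Agent.Lib.helper2.Liaison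

open Groth.Agent.Lib.helper19.Link Groth.Agent.Lib.helper17.GorIso

section Elementary

variable {A : Type u} [CommRing A] (a₁ a₂ : Ideal A)

/-- a regular element of `A` is regular on `A/(0 : 𝔟)`. -/
lemma isSMulRegular_quot_annihilator (𝔟 : Ideal A) (x : A) (hx : IsSMulRegular A x) :
    IsSMulRegular (A ⧸ Submodule.annihilator 𝔟) x := by
  rw [isSMulRegular_iff_right_eq_zero_of_smul]
  intro y hy
  obtain ⟨y, rfl⟩ := Ideal.Quotient.mk_surjective y
  change x • (Submodule.Quotient.mk y : A ⧸ Submodule.annihilator 𝔟) = 0 at hy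
  rw [← Submodule.Quotient.mk_smul, Submodule.Quotient.mk_eq_zero, mem_ann_iff] at hy
  rw [Ideal.Quotient.eq_zero_iff_mem, mem_ann_iff]
  intro b hb
  have h1 := hy b hb
  rw [smul_eq_mul, mul_assoc] at h1
  have h2 : x • (y * b) = x • 0 := by rw [smul_zero, smul_eq_mul, h1]
  exact hx h2

variable (h12 : Submodule.annihilator a₁ = a₂) (h21 : Submodule.annihilator a₂ = a₁)
  (hinf : a₁ ⊓ a₂ = ⊥)

include h12 h21 hinf in
/-- `a₁ + a₂` is not contained in an associated prime of `A`. -/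
lemma not_sup_le_of_mem_associatedPrimes [IsNoetherianRing A] (P : Ideal A) (hP : P ∈ associatedPrimes A A) :
    ¬ a₁ ⊔ a₂ ≤ P := by
  intro hle
  obtain ⟨hprime, z, hz⟩ := isAssociatedPrime_iff.mp hP
  have hkill : ∀ a ∈ P, z * a = 0 := by
    intro a ha
    rw [hz, Submodule.mem_colon_singleton, Submodule.mem_bot, smul_eq_mul] at ha
    rw [mul_comm]; exact ha
  have hz2 : z ∈ a₂ := by
    rw [← h12, mem_ann_iff]
    intro a ha
    exact hkill a (hle (Ideal.mem_sup_left ha))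
  have hz1 : z ∈ a₁ := by
    rw [← h21, mem_ann_iff]
    intro a ha
    exact hkill a (hle (Ideal.mem_sup_right ha))
  have hz0 : z = 0 := by
    have : z ∈ a₁ ⊓ a₂ := ⟨hz1, hz2⟩
    rw [hinf] at this
    exact this
  apply hprime.ne_top
  rw [hz, hz0, eq_top_iff]
  intro a _
  rw [Submodule.mem_colon_singleton, smul_zero]
  exact Submodule.zero_mem _

include h12 h21 hinf in
/-- there is an `A`-regular element in `a₁ + a₂`. -/
lemma exists_regular_mem_sup [IsNoetherianRing A] : ∃ x ∈ a₁ ⊔ a₂, IsSMulRegular A x := by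
  by_contra hcon
  push Not at hcon
  have hfin := associatedPrimes.finite A A
  have hsub : ((a₁ ⊔ a₂ : Ideal A) : Set A) ⊆
      ⋃ p ∈ (↑hfin.toFinset : Set (Ideal A)), (p : Set A) := by
    intro x hx
    have hx' := hcon x hx
    have hmem : x ∈ ⋃ p ∈ associatedPrimes A A, (p : Set A) := by
      rw [biUnion_associatedPrimes_eq_compl_regular A A]
      exact hx'
    simp only [Set.mem_iUnion, SetLike.mem_coe, exists_prop] at hmem ⊢
    obtain ⟨p, hp, hxp⟩ := hmem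
    exact ⟨p, hfin.mem_toFinset.mpr hp, hxp⟩
  obtain ⟨p, hp, hle⟩ := (Ideal.subset_union_prime (f := fun p : Ideal A => p) ⊤ ⊤
    (fun p hp _ _ => (hfin.mem_toFinset.mp hp).isPrime)).mp hsub
  exact not_sup_le_of_mem_associatedPrimes a₁ a₂ h12 h21 hinf p (hfin.mem_toFinset.mp hp) hle

include h12 h21 hinf in
/-- `(0 : v) = a₁` for `u ∈ a₁`, `v ∈ a₂` with `u + v` regular. -/
lemma ann_span_eq_left (u v : A) (hu : u ∈ a₁) (hv : v ∈ a₂)
    (hx : IsSMulRegular A (u + v)) :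
    Submodule.annihilator (Ideal.span {v} : Ideal A) = a₁ := by
  ext z
  rw [mem_ann_span_singleton]
  constructor
  · intro hz
    -- `z (u + v) = z u ∈ a₁`
    have h1 : (u + v) • (Ideal.Quotient.mk (Submodule.annihilator a₂) z) = (u + v) • 0 := by
      rw [smul_zero, Algebra.smul_def, Ideal.Quotient.algebraMap_eq, ← map_mul,
        Ideal.Quotient.eq_zero_iff_mem, h21]
      have : (u + v) * z = z * u := by rw [add_mul, mul_comm v z, hz, add_zero, mul_comm]
      rw [this]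
      exact Ideal.mul_mem_left _ _ hu
    have h2 := isSMulRegular_quot_annihilator a₂ (u + v) hx h1
    rwa [Ideal.Quotient.eq_zero_iff_mem, h21] at h2
  · intro hz
    have : v ∈ Submodule.annihilator a₁ := by rw [h12]; exact hv
    rw [mem_ann_iff] at this
    rw [mul_comm]
    exact this z hz

end Elementary

section Colon

variable {A : Type u} [CommRing A] (a₁ a₂ : Ideal A)
  (h12 : Submodule.annihilator a₁ = a₂) (h21 : Submodule.annihilator a₂ = a₁)
  (hinf : a₁ ⊓ a₂ = ⊥) (u v : A) (hu : u ∈ a₁) (hv : v ∈ a₂)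

include h12 h21 hu hv in
lemma mul_eq_zero_of_mem (a b : A) (ha : a ∈ a₁) (hb : b ∈ a₂) : a * b = 0 := by
  have : a ∈ Submodule.annihilator a₂ := by rw [h21]; exact ha
  exact (mem_ann_iff a).mp this b hb

include h12 h21 hinf hu hv in
/-- `(x) : (a₁ + a₂) = (v, x)` for `x = u + v`, given the colons `(x) : aᵢ`. -/
lemma colon_span_sup_eq
    (hp1 : a₂ ⊔ Ideal.span {u + v} = (Ideal.span {u + v} : Ideal A).colon (a₁ : Set A))
    (hp2 : a₁ ⊔ Ideal.span {u + v} = (Ideal.span {u + v} : Ideal A).colon (a₂ : Set A)) :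
    (Ideal.span {u + v} : Ideal A).colon ((a₁ ⊔ a₂ : Ideal A) : Set A) =
      Ideal.span {v} ⊔ Ideal.span {u + v} := by
  have hz := mul_eq_zero_of_mem a₁ a₂ h12 h21 u v hu hv
  apply le_antisymm
  · intro y hy
    rw [Submodule.mem_colon] at hy
    have hy1 : y ∈ a₂ ⊔ Ideal.span {u + v} := by
      rw [hp1, Submodule.mem_colon]
      intro a ha
      exact hy a (Ideal.mem_sup_left ha)
    have hy2 : y ∈ a₁ ⊔ Ideal.span {u + v} := by
      rw [hp2, Submodule.mem_colon]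
      intro a ha
      exact hy a (Ideal.mem_sup_right ha)
    obtain ⟨α₂, hα₂, s₂, hs₂, rfl⟩ := Submodule.mem_sup.mp hy1
    obtain ⟨α₁, hα₁, s₁, hs₁, heq⟩ := Submodule.mem_sup.mp hy2
    obtain ⟨s, rfl⟩ := Ideal.mem_span_singleton'.mp hs₂
    obtain ⟨s', rfl⟩ := Ideal.mem_span_singleton'.mp hs₁
    -- `α₂ - (s' - s) v = α₁ + (s' - s) u ∈ a₁ ∩ a₂`
    have h1 : α₂ - (s' - s) * v = α₁ + (s' - s) * u := by
      have : α₂ = α₁ + s' * (u + v) - s * (u + v) := by rw [heq]; ring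
      rw [this]; ring
    have h2 : α₂ - (s' - s) * v ∈ a₁ ⊓ a₂ := by
      refine ⟨?_, ?_⟩
      · rw [h1]
        exact a₁.add_mem hα₁ (a₁.mul_mem_left _ hu)
      · exact a₂.sub_mem hα₂ (a₂.mul_mem_left _ hv)
    rw [hinf, Submodule.mem_bot, sub_eq_zero] at h2
    rw [h2]
    exact Submodule.add_mem_sup (Ideal.mem_span_singleton'.mpr ⟨_, rfl⟩)
      (Ideal.mem_span_singleton'.mpr ⟨_, rfl⟩)
  · refine sup_le ?_ ?_
    · rw [Ideal.span_singleton_le_iff_mem, Submodule.mem_colon]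
      intro z hzmem
      obtain ⟨α₁, hα₁, α₂, hα₂, rfl⟩ := Submodule.mem_sup.mp hzmem
      rw [smul_eq_mul, mul_add, mul_comm v α₁, mul_eq_zero_of_mem a₁ a₂ h12 h21 u v hu hv α₁ v hα₁ hv,
        zero_add]
      have : v * α₂ = α₂ * (u + v) := by
        rw [mul_add, mul_comm α₂ u, mul_eq_zero_of_mem a₁ a₂ h12 h21 u v hu hv u α₂ hu hα₂, zero_add,
          mul_comm]
      rw [this]
      exact Ideal.mem_span_singleton'.mpr ⟨_, rfl⟩
    · rw [Ideal.span_singleton_le_iff_mem, Submodule.mem_colon]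
      intro z _
      rw [smul_eq_mul]
      exact Ideal.mul_mem_right _ _ (Ideal.mem_span_singleton_self _)

include h12 h21 hinf hu hv in
/-- `(x) : v = a₁ + a₂` for `x = u + v` regular. -/
lemma colon_span_span_eq [IsNoetherianRing A] (hx : IsSMulRegular A (u + v)) :
    (Ideal.span {u + v} : Ideal A).colon ((Ideal.span {v} : Ideal A) : Set A) = a₁ ⊔ a₂ := by
  have hannv := ann_span_eq_left a₁ a₂ h12 h21 hinf u v hu hv hx
  have hannu := ann_span_eq_left a₂ a₁ h21 h12 (by rwa [inf_comm]) v u hv hu (by rwa [add_comm])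
  apply le_antisymm
  · intro z hz
    rw [Submodule.mem_colon] at hz
    have h1 := hz v (Ideal.mem_span_singleton_self v)
    rw [smul_eq_mul] at h1
    obtain ⟨t, ht⟩ := Ideal.mem_span_singleton'.mp h1
    -- `(z - t) v = t u ∈ a₁ ∩ a₂`
    have h2 : (z - t) * v = t * u := by
      have : t * u = t * (u + v) - t * v := by ring
      rw [this, ht]; ring
    have h3 : t * u ∈ a₁ ⊓ a₂ := by
      refine ⟨a₁.mul_mem_left _ hu, ?_⟩
      rw [← h2]
      exact a₂.mul_mem_left _ hv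
    rw [hinf, Submodule.mem_bot] at h3
    have h4 : z - t ∈ a₁ := by
      rw [← hannv, mem_ann_span_singleton, h2, h3]
    have h5 : t ∈ a₂ := by
      rw [← hannu, mem_ann_span_singleton, h3]
    have : z = (z - t) + t := by ring
    rw [this]
    exact Submodule.add_mem_sup h4 h5
  · intro z hzmem
    obtain ⟨α₁, hα₁, α₂, hα₂, rfl⟩ := Submodule.mem_sup.mp hzmem
    rw [Submodule.mem_colon]
    intro w hw
    obtain ⟨r, rfl⟩ := Ideal.mem_span_singleton'.mp hw
    rw [smul_eq_mul]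
    have h1 : α₁ * v = 0 := mul_eq_zero_of_mem a₁ a₂ h12 h21 u v hu hv α₁ v hα₁ hv
    have h2 : u * α₂ = 0 := mul_eq_zero_of_mem a₁ a₂ h12 h21 u v hu hv u α₂ hu hα₂
    have : (α₁ + α₂) * (r * v) = (r * α₂) * (u + v) := by
      have e1 : (α₁ + α₂) * (r * v) = r * (α₁ * v) + r * α₂ * v := by ring
      have e2 : (r * α₂) * (u + v) = r * (u * α₂) + r * α₂ * v := by ring
      rw [e1, e2, h1, h2]
    rw [this]
    exact Ideal.mem_span_singleton'.mpr ⟨_, rfl⟩

end Colon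

section DepthT

open Groth.Agent.Lib.helper26.Depth

variable {A : Type u} [CommRing A] [IsNoetherianRing A] (a₁ a₂ : Ideal A) (hinf : a₁ ⊓ a₂ = ⊥)

/-- `a₁ → A/a₂`. -/
noncomputable def toQuotRight : a₁ →ₗ[A] (A ⧸ a₂) := a₂.mkQ.comp a₁.subtype

include hinf in
lemma toQuotRight_injective : Function.Injective (toQuotRight a₁ a₂) := by
  rw [← LinearMap.ker_eq_bot, eq_bot_iff]
  intro x hx
  rw [LinearMap.mem_ker] at hx
  change Submodule.Quotient.mk (x : A) = (0 : A ⧸ a₂) at hx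
  rw [Submodule.Quotient.mk_eq_zero] at hx
  have : (x : A) ∈ a₁ ⊓ a₂ := ⟨x.2, hx⟩
  rw [hinf, Submodule.mem_bot] at this
  rw [Submodule.mem_bot]
  exact Subtype.ext this

lemma exact_toQuotRight_factor :
    Function.Exact (toQuotRight a₁ a₂) (Submodule.factor (le_sup_right : a₂ ≤ a₁ ⊔ a₂)) := by
  intro y
  obtain ⟨z, rfl⟩ := Submodule.Quotient.mk_surjective _ y
  constructor
  · intro hy
    change Submodule.factor (le_sup_right : a₂ ≤ a₁ ⊔ a₂) (Submodule.mkQ a₂ z) = 0 at hy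
    rw [Submodule.factor_mk] at hy
    have h2 : z ∈ a₁ ⊔ a₂ := (Submodule.Quotient.mk_eq_zero _).mp hy
    obtain ⟨α₁, hα₁, α₂, hα₂, rfl⟩ := Submodule.mem_sup.mp h2
    refine ⟨⟨α₁, hα₁⟩, ?_⟩
    change Submodule.Quotient.mk α₁ = (Submodule.Quotient.mk (α₁ + α₂) : A ⧸ a₂)
    refine (Submodule.Quotient.eq _).mpr ?_
    have : α₁ - (α₁ + α₂) = -α₂ := by ring
    rw [this]
    exact a₂.neg_mem hα₂
  · rintro ⟨x, hx⟩
    have hx' : (Submodule.Quotient.mk (x : A) : A ⧸ a₂) = Submodule.Quotient.mk z := hx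
    rw [← hx']
    change Submodule.factor (le_sup_right : a₂ ≤ a₁ ⊔ a₂) (Submodule.mkQ a₂ (x : A)) = 0
    rw [Submodule.factor_mk]
    exact (Submodule.Quotient.mk_eq_zero _).mpr (Ideal.mem_sup_left x.2)

include hinf in
/-- the depth of `A/(a₁ + a₂)`. -/
theorem le_idealDepth_quot_sup (I : Ideal A) (d : ℕ) (hA : ((d + 1 : ℕ) : ℕ∞) ≤ idealDepth I A)
    (h1 : ((d + 1 : ℕ) : ℕ∞) ≤ idealDepth I (A ⧸ a₁))
    (h2 : ((d + 1 : ℕ) : ℕ∞) ≤ idealDepth I (A ⧸ a₂)) :
    (d : ℕ∞) ≤ idealDepth I (A ⧸ (a₁ ⊔ a₂)) := by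
  have ha1 : ((d + 1 : ℕ) : ℕ∞) ≤ idealDepth I a₁ := by
    refine le_trans (le_min hA ?_) (min_le_idealDepth_X₁ I a₁.subtype a₁.mkQ
      (Submodule.injective_subtype a₁) (Submodule.mkQ_surjective a₁)
      (LinearMap.exact_subtype_mkQ a₁))
    exact h1.trans le_self_add
  refine le_trans (le_min ?_ ?_) (min_le_idealDepth_X₃ I (toQuotRight a₁ a₂)
    (Submodule.factor (le_sup_right : a₂ ≤ a₁ ⊔ a₂)) (toQuotRight_injective a₁ a₂ hinf)
    (Submodule.factor_surjective _) (exact_toQuotRight_factor a₁ a₂))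
  · refine le_trans ?_ h2
    exact_mod_cast Nat.le_succ d
  · generalize idealDepth I a₁ = e at ha1
    induction e with
    | top => simp
    | coe m =>
      have : d + 1 ≤ m := by exact_mod_cast ha1
      have h3 : d ≤ m - 1 := by omega
      exact_mod_cast h3

end DepthT

section CMQuot

open Groth.Agent.Lib.helper26.Depth

/-- a quotient of a Noetherian local ring with `dim ≤ e ≤ depth` is Cohen–Macaulay. -/
theorem isCohenMacaulayLocalRing_quot_of_le_depth (A : Type u) [CommRing A] [IsNoetherianRing A]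
    [IsLocalRing A] (I : Ideal A) (hI : I ≠ ⊤) (e : ℕ) (hdim : ringKrullDim (A ⧸ I) ≤ e)
    (hdepth : (e : ℕ∞) ≤ depth A (A ⧸ I)) :
    IsCohenMacaulayLocalRing (A ⧸ I) ∧ ringKrullDim (A ⧸ I) = e := by
  haveI : Nontrivial (A ⧸ I) := Ideal.Quotient.nontrivial_iff.mpr hI
  haveI : IsLocalRing (A ⧸ I) :=
    IsLocalRing.of_surjective' (Ideal.Quotient.mk I) Ideal.Quotient.mk_surjective
  haveI : IsLocalHom (algebraMap A (A ⧸ I)) :=
    IsLocalHom.of_surjective (Ideal.Quotient.mk I) Ideal.Quotient.mk_surjective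
  have h1 : depth A (A ⧸ I) = depth (A ⧸ I) (A ⧸ I) :=
    depth_eq_of_isLocalHom (A := A) (B := A ⧸ I) (A ⧸ I)
  have h2 := depth_le_supportDim (A := A ⧸ I) (A ⧸ I)
  rw [Module.supportDim_self_eq_ringKrullDim] at h2
  rw [h1] at hdepth
  have h3 : ((e : ℕ∞) : WithBot ℕ∞) ≤ ((depth (A ⧸ I) (A ⧸ I) : ℕ∞) : WithBot ℕ∞) :=
    WithBot.coe_le_coe.mpr hdepth
  have h4 : ((depth (A ⧸ I) (A ⧸ I) : ℕ∞) : WithBot ℕ∞) = ((e : ℕ∞) : WithBot ℕ∞) :=
    le_antisymm (h2.trans hdim) h3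
  have h5 : ringKrullDim (A ⧸ I) = e := le_antisymm hdim (h3.trans h2)
  refine ⟨{ supportDim_eq_depth := ?_ }, h5⟩
  rw [Module.supportDim_self_eq_ringKrullDim, h5, h4]
  rfl

end CMQuot

section LocalMain

open Groth.Agent.Lib.helper17.GorFlat Groth.Agent.Lib.helper17.GorQuot
  RingTheory.Sequence

variable (A : Type u) [CommRing A] [hG : IsGorensteinLocalRing A] (a₁ a₂ : Ideal A)
  (h12 : Submodule.annihilator a₁ = a₂) (h21 : Submodule.annihilator a₂ = a₁)
  (hinf : a₁ ⊓ a₂ = ⊥) [hCM1 : IsCohenMacaulayLocalRing (A ⧸ a₁)]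
  [hCM2 : IsCohenMacaulayLocalRing (A ⧸ a₂)] (hne : a₁ ⊔ a₂ ≠ ⊤)

include h12 h21 hinf hne in
/-- **The sum of two geometrically linked ideals in a Gorenstein local ring.** -/
theorem gor_quot_sup_of_linked :
    IsGorensteinLocalRing (A ⧸ (a₁ ⊔ a₂)) ∧
      ringKrullDim (A ⧸ (a₁ ⊔ a₂)) + 1 = ringKrullDim A := by
  haveI : IsNoetherianRing A := hG.toIsNoetherian
  haveI : IsLocalRing A := hG.toIsLocalRing
  haveI hCMA : IsCohenMacaulayLocalRing A := Groth.Agent.S0341.result A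
  have ha1ne : a₁ ≠ ⊤ := fun h => hne (by rw [h, top_sup_eq])
  have ha2ne : a₂ ≠ ⊤ := fun h => hne (by rw [h, sup_top_eq])
  have hd1 : ringKrullDim (A ⧸ a₁) = ringKrullDim A := by
    have := ringKrullDim_quot_ann A a₂ (by rw [h21]; exact ha1ne)
    rw [← this]
    exact ringKrullDim_eq_of_ringEquiv (Ideal.quotEquivOfEq h21.symm)
  have hd2 : ringKrullDim (A ⧸ a₂) = ringKrullDim A := by
    have := ringKrullDim_quot_ann A a₁ (by rw [h12]; exact ha2ne)
    rw [← this]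
    exact ringKrullDim_eq_of_ringEquiv (Ideal.quotEquivOfEq h12.symm)
  obtain ⟨x, hxmem, hxreg⟩ := exists_regular_mem_sup a₁ a₂ h12 h21 hinf
  obtain ⟨u, hu, v, hv, rfl⟩ := Submodule.mem_sup.mp hxmem
  have hxm : u + v ∈ maximalIdeal A := (le_maximalIdeal hne) hxmem
  obtain ⟨d', hd'⟩ := exists_natCast_eq A
  have hdimA' := ringKrullDim_quotient_span_singleton_succ_eq_ringKrullDim hxreg hxm
  haveI hlocA' : IsLocalRing (A ⧸ Ideal.span {u + v}) := isLocalRing_quot (u + v) hxm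
  obtain ⟨d, rfl⟩ : ∃ d, d' = d + 1 := by
    obtain ⟨d0, hd0⟩ := exists_natCast_eq (A ⧸ Ideal.span {u + v})
    rw [hd0, hd'] at hdimA'
    refine ⟨d0, ?_⟩
    have : d0 + 1 = d' := by exact_mod_cast hdimA'
    omega
  have hdA' : ringKrullDim (A ⧸ Ideal.span {u + v}) = d := dim_cancel (hdimA'.trans hd')
  -- the colon ideals
  have hreg1 : IsWeaklyRegular A [u + v] := (isWeaklyRegular_singleton_iff A (u + v)).mpr hxreg
  have hp1 : a₂ ⊔ Ideal.span {u + v} = (Ideal.span {u + v} : Ideal A).colon (a₁ : Set A) := by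
    have := (good_ofList_gor A a₁ hd1 [u + v] hreg1).p2
    rwa [h12, Ideal.ofList_singleton] at this
  have hp2 : a₁ ⊔ Ideal.span {u + v} = (Ideal.span {u + v} : Ideal A).colon (a₂ : Set A) := by
    have := (good_ofList_gor A a₂ hd2 [u + v] hreg1).p2
    rwa [h21, Ideal.ofList_singleton] at this
  have hcolon1 := colon_span_sup_eq a₁ a₂ h12 h21 hinf u v hu hv hp1 hp2
  have hcolon2 := colon_span_span_eq a₁ a₂ h12 h21 hinf u v hu hv hxreg
  -- the Gorenstein local ring `A' = A/(x)`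
  have hGA' : IsGorensteinLocalRing (A ⧸ Ideal.span {u + v}) :=
    (gor_quot_iff A (u + v) hxm hxreg).mp hG
  set b : Ideal (A ⧸ Ideal.span {u + v}) :=
    (a₁ ⊔ a₂).map (Ideal.Quotient.mk (Ideal.span {u + v})) with hb
  set v' : A ⧸ Ideal.span {u + v} := Ideal.Quotient.mk (Ideal.span {u + v}) v with hv'
  have hannv' : Submodule.annihilator (Ideal.span {v'} : Ideal (A ⧸ Ideal.span {u + v})) = b := by
    have := annihilator_map_mk (Ideal.span {u + v}) (Ideal.span {v} : Ideal A)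
    rwa [Ideal.map_span, Set.image_singleton, hcolon2] at this
  have hannb : Submodule.annihilator b = Ideal.span {v'} := by
    have := annihilator_map_mk (Ideal.span {u + v}) (a₁ ⊔ a₂ : Ideal A)
    rw [hcolon1, Ideal.map_sup (Ideal.Quotient.mk (Ideal.span {u + v})) (Ideal.span {v}),
      Ideal.map_quotient_self, sup_bot_eq, Ideal.map_span, Set.image_singleton] at this
    exact this
  have hle : Ideal.span {u + v} ≤ a₁ ⊔ a₂ := (Ideal.span_singleton_le_iff_mem _).mpr hxmem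
  let e : ((A ⧸ Ideal.span {u + v}) ⧸ b) ≃+* (A ⧸ (a₁ ⊔ a₂)) :=
    DoubleQuot.quotQuotEquivQuotOfLE hle
  -- Cohen–Macaulayness of `T = A/(a₁ + a₂)`
  have hdepA : ((d + 1 : ℕ) : ℕ∞) ≤ idealDepth (maximalIdeal A) A := by
    have h1 := hCMA.supportDim_eq_depth
    rw [Module.supportDim_self_eq_ringKrullDim, hd'] at h1
    have : (((d + 1 : ℕ) : ℕ∞) : WithBot ℕ∞) = ((depth A A : ℕ∞) : WithBot ℕ∞) := h1
    exact le_of_eq (WithBot.coe_injective this)
  have hdep1 : ((d + 1 : ℕ) : ℕ∞) ≤ idealDepth (maximalIdeal A) (A ⧸ a₁) :=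
    le_of_eq (depth_quot A a₁ hd1 (d + 1) hd').symm
  have hdep2 : ((d + 1 : ℕ) : ℕ∞) ≤ idealDepth (maximalIdeal A) (A ⧸ a₂) :=
    le_of_eq (depth_quot A a₂ hd2 (d + 1) hd').symm
  have hdepT := le_idealDepth_quot_sup a₁ a₂ hinf (maximalIdeal A) d hdepA hdep1 hdep2
  have hdimT : ringKrullDim (A ⧸ (a₁ ⊔ a₂)) ≤ d := by
    rw [← ringKrullDim_eq_of_ringEquiv e, ← hdA']
    exact ringKrullDim_quotient_le b
  obtain ⟨hCMT, hdimT'⟩ :=
    isCohenMacaulayLocalRing_quot_of_le_depth A (a₁ ⊔ a₂) hne d hdimT hdepT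
  haveI hCMb : IsCohenMacaulayLocalRing ((A ⧸ Ideal.span {u + v}) ⧸ b) :=
    isCM_of_ringEquiv e.symm hCMT
  have hdimb : ringKrullDim ((A ⧸ Ideal.span {u + v}) ⧸ b) =
      ringKrullDim (A ⧸ Ideal.span {u + v}) := by
    rw [ringKrullDim_eq_of_ringEquiv e, hdimT', hdA']
  have hbne : b ≠ ⊤ := by
    intro htop
    haveI : Subsingleton ((A ⧸ Ideal.span {u + v}) ⧸ b) :=
      Ideal.Quotient.subsingleton_iff.mpr htop
    haveI := hCMb.toIsLocalRing
    exact not_subsingleton ((A ⧸ Ideal.span {u + v}) ⧸ b) inferInstance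
  have hv'0 : v' ≠ 0 := by
    intro h0
    apply hbne
    rw [← hannv', h0, eq_top_iff]
    intro z _
    rw [mem_ann_span_singleton, mul_zero]
  have hannbne : Submodule.annihilator b ≠ ⊤ := by
    rw [hannb, Ne, Ideal.span_singleton_eq_top]
    have hvm : v ∈ maximalIdeal A := (le_maximalIdeal ha2ne) hv
    intro hunit
    haveI : IsLocalHom (Ideal.Quotient.mk (Ideal.span {u + v})) :=
      IsLocalHom.of_surjective _ Ideal.Quotient.mk_surjective
    exact ((mem_maximalIdeal _).mp hvm) ((isUnit_map_iff _ v).mp hunit)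
  obtain ⟨hCMv, hdimv⟩ := @isCohenMacaulayLocalRing_quot_ann (A ⧸ Ideal.span {u + v}) _ hGA' b
    hdimb hCMb hannbne
  have hCMv' : IsCohenMacaulayLocalRing ((A ⧸ Ideal.span {u + v}) ⧸ Ideal.span {v'}) :=
    isCM_of_ringEquiv (Ideal.quotEquivOfEq hannb) hCMv
  have hdimv' : ringKrullDim ((A ⧸ Ideal.span {u + v}) ⧸ Ideal.span {v'}) =
      ringKrullDim (A ⧸ Ideal.span {u + v}) := by
    rw [← hdimv]
    exact (ringKrullDim_eq_of_ringEquiv (Ideal.quotEquivOfEq hannb)).symm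
  have h3 := @isGorensteinLocalRing_quot_ann_span (A ⧸ Ideal.span {u + v}) _ hGA' v' hv'0
    hdimv' hCMv'
  refine ⟨isGorensteinLocalRing_of_ringEquiv
    (e.symm.trans (Ideal.quotEquivOfEq hannv'.symm)) h3, ?_⟩
  rw [hdimT', hd']
  push_cast
  rfl

end LocalMain

end Groth.Agent.Lib.helper2.Liaison
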