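import Mathlib
import Groth.Agent.Lib.Helper2.Liaison10
import Groth.Agent.Lib.Helper26.CMLci

/-!
# Liaison, part 11 (helper2): the sum of two geometrically linked ideals of a polynomial ring
-/

set_option autoImplicit false
set_option linter.unusedSectionVars false
universe u

open LocCoh IsLocalRing

namespace Groth.Agent.Lib.helper2.Liaison

open Groth.Agent.Lib.helper19.Link Groth.Agent.Lib.helper17.GorIso

section GeomLink

variable (K : Type u) [Field K] (n : ℕ)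

/-- associated primes of a homogeneous Cohen–Macaulay ideal have the height of the ideal. -/
lemma height_eq_of_mem_associatedPrimes_of_cm (I : Ideal (MvPolynomial (Fin n) K))
    (hI : I.IsHomogeneous (GrSyz.stdGr K (Fin n)))
    [hCM : IsCohenMacaulayRing (MvPolynomial (Fin n) K ⧸ I)] (p : Ideal (MvPolynomial (Fin n) K))
    (hp : p ∈ associatedPrimes (MvPolynomial (Fin n) K) (MvPolynomial (Fin n) K ⧸ I)) :
    p ∈ I.minimalPrimes ∧ p.height = I.height := by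
  have h1 := mem_minimalPrimes_of_mem_associatedPrimes_quotient I
    (fun q _ => hCM.isCohenMacaulayLocalRing_localization q) p hp
  exact ⟨h1, height_eq_of_mem_minimalPrimes K n hI h1⟩

/-- geometric linkage: `(I₁ ∩ I₂) : I₁ = I₂`. -/
theorem colon_eq_of_disjoint (I₁ I₂ : Ideal (MvPolynomial (Fin n) K))
    (hI₁ : I₁.IsHomogeneous (GrSyz.stdGr K (Fin n))) (hI₂ : I₂.IsHomogeneous (GrSyz.stdGr K (Fin n)))
    [IsCohenMacaulayRing (MvPolynomial (Fin n) K ⧸ I₁)]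
    [IsCohenMacaulayRing (MvPolynomial (Fin n) K ⧸ I₂)]
    (hht : I₁.height = I₂.height) (hfin : I₂.height ≠ ⊤)
    (hdisj : Disjoint I₁.minimalPrimes I₂.minimalPrimes) :
    (I₁ ⊓ I₂).colon (I₁ : Set (MvPolynomial (Fin n) K)) = I₂ := by
  apply le_antisymm
  · intro x hx
    rw [Submodule.mem_colon] at hx
    by_contra hxI
    have hne : (Ideal.Quotient.mk I₂ x : MvPolynomial (Fin n) K ⧸ I₂) ≠ 0 := by
      rwa [Ne, Ideal.Quotient.eq_zero_iff_mem]
    obtain ⟨P, hP, hPle⟩ := exists_le_isAssociatedPrime_of_isNoetherianRing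
      (MvPolynomial (Fin n) K) _ hne
    haveI hPprime : P.IsPrime := hP.isPrime
    obtain ⟨hPmin, hPht⟩ := height_eq_of_mem_associatedPrimes_of_cm K n I₂ hI₂ P hP
    have hI₁P : I₁ ≤ P := by
      intro i hi
      apply hPle
      rw [Submodule.mem_colon_singleton, Submodule.mem_bot]
      change Ideal.Quotient.mk I₂ (i * x) = 0
      rw [Ideal.Quotient.eq_zero_iff_mem, mul_comm]
      exact (hx i hi).2
    obtain ⟨P₁, hP₁min, hP₁le⟩ := Ideal.exists_minimalPrimes_le hI₁P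
    haveI : P₁.IsPrime := hP₁min.1.1
    have hP₁ht : P₁.height = I₁.height := height_eq_of_mem_minimalPrimes K n hI₁ hP₁min
    have hfinP₁ : P₁.height ≠ ⊤ := by rw [hP₁ht, hht]; exact hfin
    haveI : P₁.FiniteHeight := ⟨Or.inr hfinP₁⟩
    have heq : P₁ = P := Ideal.eq_of_le_of_height_le P₁ hP₁le (by rw [hPht, hP₁ht, hht])
    have : P ∈ I₁.minimalPrimes ⊓ I₂.minimalPrimes := ⟨heq ▸ hP₁min, hPmin⟩
    rw [disjoint_iff.mp hdisj] at this
    exact this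
  · intro x hx
    rw [Submodule.mem_colon]
    intro i hi
    rw [smul_eq_mul]
    exact ⟨I₁.mul_mem_left _ hi, I₂.mul_mem_right _ hx⟩

end GeomLink

section LocalGlobal

/-- localizing geometrically linked ideals: at a prime `𝔮` of `R/(I₁ + I₂)` with contraction `Q`,
the local ring is Gorenstein of dimension `dim (R_Q / 𝔠 R_Q) - 1`, `𝔠 = I₁ ∩ I₂`. -/
theorem gor_localization_quot_sup (R : Type u) [CommRing R] [IsNoetherianRing R]
    (I₁ I₂ 𝔠 S : Ideal R) (h𝔠 : I₁ ⊓ I₂ = 𝔠) (hS : I₁ ⊔ I₂ = S) [hG : IsGorensteinRing (R ⧸ 𝔠)]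
    (h12 : 𝔠.colon (I₁ : Set R) = I₂) (h21 : 𝔠.colon (I₂ : Set R) = I₁)
    [hCM1 : IsCohenMacaulayRing (R ⧸ I₁)] [hCM2 : IsCohenMacaulayRing (R ⧸ I₂)]
    (𝔮 : Ideal (R ⧸ S)) [h𝔮 : 𝔮.IsPrime] :
    IsGorensteinLocalRing (Localization.AtPrime 𝔮) ∧
      ringKrullDim (Localization.AtPrime 𝔮) + 1 =
        ringKrullDim (Localization.AtPrime (𝔮.comap (Ideal.Quotient.mk S)) ⧸
          𝔠.map (algebraMap R (Localization.AtPrime (𝔮.comap (Ideal.Quotient.mk S))))) := by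
  set Q : Ideal R := 𝔮.comap (Ideal.Quotient.mk S) with hQ
  haveI hQp : Q.IsPrime := Ideal.comap_isPrime _ _
  have hSQ : S ≤ Q := by
    intro x hx
    rw [hQ, Ideal.mem_comap, Ideal.Quotient.eq_zero_iff_mem.mpr hx]
    exact 𝔮.zero_mem
  have h𝔠1 : 𝔠 ≤ I₁ := by rw [← h𝔠]; exact inf_le_left
  have h𝔠2 : 𝔠 ≤ I₂ := by rw [← h𝔠]; exact inf_le_right
  have h1S : I₁ ≤ S := by rw [← hS]; exact le_sup_left
  have h2S : I₂ ≤ S := by rw [← hS]; exact le_sup_right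
  have h𝔠S : 𝔠 ≤ S := h𝔠1.trans h1S
  set 𝔠L : Ideal (Localization.AtPrime Q) := 𝔠.map (algebraMap R (Localization.AtPrime Q)) with h𝔠L
  set L₁ : Ideal (Localization.AtPrime Q) := I₁.map (algebraMap R (Localization.AtPrime Q)) with hL₁
  set L₂ : Ideal (Localization.AtPrime Q) := I₂.map (algebraMap R (Localization.AtPrime Q)) with hL₂
  set SL : Ideal (Localization.AtPrime Q) := S.map (algebraMap R (Localization.AtPrime Q)) with hSL
  have h𝔠L1 : 𝔠L ≤ L₁ := Ideal.map_mono h𝔠1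
  have h𝔠L2 : 𝔠L ≤ L₂ := Ideal.map_mono h𝔠2
  have h𝔠LS : 𝔠L ≤ SL := Ideal.map_mono h𝔠S
  have hSLsup : SL = L₁ ⊔ L₂ := by rw [hSL, ← hS]; exact Ideal.map_sup _ _ _
  have hLinf : L₁ ⊓ L₂ = 𝔠L := by
    rw [h𝔠L, ← h𝔠]; exact (IsLocalization.map_inf Q.primeCompl _ I₁ I₂).symm
  -- the Gorenstein local ring `A`
  let 𝔭 : Ideal (R ⧸ 𝔠) := 𝔮.comap (Ideal.Quotient.factor h𝔠S)
  haveI : 𝔭.IsPrime := Ideal.comap_isPrime _ _
  have h𝔭 : 𝔭.comap (Ideal.Quotient.mk 𝔠) = Q := by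
    rw [Ideal.comap_comap, Ideal.Quotient.factor_comp_mk]
  haveI hGA : IsGorensteinLocalRing (Localization.AtPrime Q ⧸ 𝔠L) :=
    isGorensteinLocalRing_of_ringEquiv
      (locQuotEquiv' 𝔠 𝔭 Q h𝔭).symm (hG.isGorensteinLocalRing_localization 𝔭)
  have hann1 : Submodule.annihilator (L₁.map (Ideal.Quotient.mk 𝔠L)) =
      L₂.map (Ideal.Quotient.mk 𝔠L) := by
    rw [annihilator_map_mk, hL₁, hL₂, h𝔠L, colon_map_localization Q 𝔠 I₁, h12]
  have hann2 : Submodule.annihilator (L₂.map (Ideal.Quotient.mk 𝔠L)) =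
      L₁.map (Ideal.Quotient.mk 𝔠L) := by
    rw [annihilator_map_mk, hL₁, hL₂, h𝔠L, colon_map_localization Q 𝔠 I₂, h21]
  have hinf : L₁.map (Ideal.Quotient.mk 𝔠L) ⊓ L₂.map (Ideal.Quotient.mk 𝔠L) = ⊥ := by
    rw [eq_bot_iff]
    rintro z ⟨hz1, hz2⟩
    obtain ⟨y₁, hy₁, rfl⟩ :=
      (Ideal.mem_map_iff_of_surjective _ Ideal.Quotient.mk_surjective).mp hz1
    obtain ⟨y₂, hy₂, hyy⟩ :=
      (Ideal.mem_map_iff_of_surjective _ Ideal.Quotient.mk_surjective).mp hz2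
    have hdiff : y₁ - y₂ ∈ 𝔠L := by
      rw [← Ideal.Quotient.eq_zero_iff_mem, map_sub, hyy, sub_self]
    have hy₁2 : y₁ ∈ L₂ := by
      have : y₁ = (y₁ - y₂) + y₂ := by ring
      rw [this]
      exact L₂.add_mem (h𝔠L2 hdiff) hy₂
    have : y₁ ∈ 𝔠L := by rw [← hLinf]; exact ⟨hy₁, hy₁2⟩
    rw [Submodule.mem_bot]
    exact Ideal.Quotient.eq_zero_iff_mem.mpr this
  -- Cohen–Macaulayness of `A/aᵢ`
  have hcm : ∀ (I : Ideal R) [IsCohenMacaulayRing (R ⧸ I)] (hIQ : I ≤ Q) (h𝔠I : 𝔠 ≤ I),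
      IsCohenMacaulayLocalRing ((Localization.AtPrime Q ⧸ 𝔠L) ⧸
        (I.map (algebraMap R (Localization.AtPrime Q))).map (Ideal.Quotient.mk 𝔠L)) := by
    intro I hCM hIQ h𝔠I
    haveI : (Q.map (Ideal.Quotient.mk I)).IsPrime :=
      Ideal.map_isPrime_of_surjective Ideal.Quotient.mk_surjective (by rwa [Ideal.mk_ker])
    have h𝔯 : (Q.map (Ideal.Quotient.mk I)).comap (Ideal.Quotient.mk I) = Q := by
      rw [Ideal.comap_map_of_surjective _ Ideal.Quotient.mk_surjective, ← RingHom.ker_eq_comap_bot,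
        Ideal.mk_ker, sup_eq_left]
      exact hIQ
    have h1 : IsCohenMacaulayLocalRing (Localization.AtPrime (Q.map (Ideal.Quotient.mk I))) :=
      hCM.isCohenMacaulayLocalRing_localization _
    exact isCM_of_ringEquiv ((locQuotEquiv' I _ Q h𝔯).trans
      (DoubleQuot.quotQuotEquivQuotOfLE (Ideal.map_mono h𝔠I)).symm) h1
  haveI hcm1 : IsCohenMacaulayLocalRing ((Localization.AtPrime Q ⧸ 𝔠L) ⧸
      L₁.map (Ideal.Quotient.mk 𝔠L)) := hcm I₁ (h1S.trans hSQ) h𝔠1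
  haveI hcm2 : IsCohenMacaulayLocalRing ((Localization.AtPrime Q ⧸ 𝔠L) ⧸
      L₂.map (Ideal.Quotient.mk 𝔠L)) := hcm I₂ (h2S.trans hSQ) h𝔠2
  have hsup : L₁.map (Ideal.Quotient.mk 𝔠L) ⊔ L₂.map (Ideal.Quotient.mk 𝔠L) =
      SL.map (Ideal.Quotient.mk 𝔠L) := by
    rw [← Ideal.map_sup, hSLsup]
  let e𝔮 : Localization.AtPrime 𝔮 ≃+* (Localization.AtPrime Q ⧸ SL) := locQuotEquiv' S 𝔮 Q rfl
  let eS : ((Localization.AtPrime Q ⧸ 𝔠L) ⧸ SL.map (Ideal.Quotient.mk 𝔠L)) ≃+*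
      (Localization.AtPrime Q ⧸ SL) := DoubleQuot.quotQuotEquivQuotOfLE h𝔠LS
  have hne : L₁.map (Ideal.Quotient.mk 𝔠L) ⊔ L₂.map (Ideal.Quotient.mk 𝔠L) ≠ ⊤ := by
    rw [hsup]
    intro htop
    haveI : Subsingleton ((Localization.AtPrime Q ⧸ 𝔠L) ⧸ SL.map (Ideal.Quotient.mk 𝔠L)) :=
      Ideal.Quotient.subsingleton_iff.mpr htop
    haveI : Subsingleton (Localization.AtPrime 𝔮) := (e𝔮.trans eS.symm).toEquiv.subsingleton
    exact not_subsingleton (Localization.AtPrime 𝔮) inferInstance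
  obtain ⟨hgor, hdim⟩ := gor_quot_sup_of_linked (Localization.AtPrime Q ⧸ 𝔠L)
    (L₁.map (Ideal.Quotient.mk 𝔠L)) (L₂.map (Ideal.Quotient.mk 𝔠L)) hann1 hann2 hinf hne
  let e : Localization.AtPrime 𝔮 ≃+* ((Localization.AtPrime Q ⧸ 𝔠L) ⧸
      (L₁.map (Ideal.Quotient.mk 𝔠L) ⊔ L₂.map (Ideal.Quotient.mk 𝔠L))) :=
    (e𝔮.trans eS.symm).trans (Ideal.quotEquivOfEq hsup.symm)
  refine ⟨isGorensteinLocalRing_of_ringEquiv e hgor, ?_⟩
  have hk : ringKrullDim (Localization.AtPrime 𝔮) = ringKrullDim ((Localization.AtPrime Q ⧸ 𝔠L) ⧸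
      (L₁.map (Ideal.Quotient.mk 𝔠L) ⊔ L₂.map (Ideal.Quotient.mk 𝔠L))) :=
    le_antisymm (ringKrullDim_le_of_surjective e.symm.toRingHom e.symm.surjective)
      (ringKrullDim_le_of_surjective e.toRingHom e.surjective)
  rw [hk]
  exact hdim

end LocalGlobal

section Poly

variable (K : Type u) [Field K] (n : ℕ)

open Groth.Agent.Lib.helper26.CMCat in
/-- the statement of S18869. -/
theorem geomLinked_sup (c : ℕ) (I₁ I₂ : Ideal (MvPolynomial (Fin n) K))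
    (hI₁ : I₁.IsHomogeneous (GrSyz.stdGr K (Fin n))) (hI₂ : I₂.IsHomogeneous (GrSyz.stdGr K (Fin n)))
    [hCM1 : IsCohenMacaulayRing (MvPolynomial (Fin n) K ⧸ I₁)]
    [hCM2 : IsCohenMacaulayRing (MvPolynomial (Fin n) K ⧸ I₂)]
    (h₁ : I₁.height = c) (h₂ : I₂.height = c)
    (hdisj : Disjoint I₁.minimalPrimes I₂.minimalPrimes)
    [hG : IsGorensteinRing (MvPolynomial (Fin n) K ⧸ (I₁ ⊓ I₂))] :
    (I₁ ⊔ I₂).height = c + 1 ∧ IsGorensteinRing (MvPolynomial (Fin n) K ⧸ (I₁ ⊔ I₂)) := by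
  have h12 : (I₁ ⊓ I₂).colon (I₁ : Set (MvPolynomial (Fin n) K)) = I₂ :=
    colon_eq_of_disjoint K n I₁ I₂ hI₁ hI₂ (h₁.trans h₂.symm)
      (by rw [h₂]; exact ENat.natCast_ne_top c) hdisj
  have h21 : (I₁ ⊓ I₂).colon (I₂ : Set (MvPolynomial (Fin n) K)) = I₁ := by
    have := colon_eq_of_disjoint K n I₂ I₁ hI₂ hI₁ (h₂.trans h₁.symm)
      (by rw [h₁]; exact ENat.natCast_ne_top c) hdisj.symm
    rwa [inf_comm] at this
  have hloc := fun (𝔮 : Ideal (MvPolynomial (Fin n) K ⧸ (I₁ ⊔ I₂))) (h𝔮 : 𝔮.IsPrime) =>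
    @gor_localization_quot_sup (MvPolynomial (Fin n) K) _ _ I₁ I₂ (I₁ ⊓ I₂) (I₁ ⊔ I₂) rfl rfl hG
      h12 h21 hCM1 hCM2 𝔮 h𝔮
  refine ⟨?_, { isGorensteinLocalRing_localization := fun 𝔮 h𝔮 => (hloc 𝔮 h𝔮).1 }⟩
  -- the height
  have hne1 : I₁ ≠ ⊤ := by
    intro h; rw [h, Ideal.height_top] at h₁; exact ENat.top_ne_natCast c h₁
  have hne2 : I₂ ≠ ⊤ := by
    intro h; rw [h, Ideal.height_top] at h₂; exact ENat.top_ne_natCast c h₂
  have hle1 : I₁ ≤ mI K n :=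
    Groth.Agent.Lib.helper26.Seg.le_irr_of_isHomogeneous _ (hpos K n) (h0 K n) I₁ hI₁ hne1
  have hle2 : I₂ ≤ mI K n :=
    Groth.Agent.Lib.helper26.Seg.le_irr_of_isHomogeneous _ (hpos K n) (h0 K n) I₂ hI₂ hne2
  have hSne : I₁ ⊔ I₂ ≠ ⊤ := by
    intro h
    have : (⊤ : Ideal (MvPolynomial (Fin n) K)) ≤ mI K n := h ▸ sup_le hle1 hle2
    exact (mI_isMaximal K n).ne_top (top_le_iff.mp this)
  have hcast : ((c + 1 : ℕ) : ℕ∞) = (c : ℕ∞) + 1 := by push_cast; rfl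
  rw [← hcast]
  apply height_eq_of_forall_minimalPrimes _ hSne
  intro Q hQmin
  haveI hQprime : Q.IsPrime := hQmin.1.1
  have hSQ : I₁ ⊔ I₂ ≤ Q := hQmin.1.2
  -- the corresponding minimal prime of the quotient
  set φ := Ideal.Quotient.mk (I₁ ⊔ I₂) with hφ
  have hφs : Function.Surjective φ := Ideal.Quotient.mk_surjective
  haveI h𝔮prime : (Q.map φ).IsPrime :=
    Ideal.map_isPrime_of_surjective hφs (by rw [hφ, Ideal.mk_ker]; exact hSQ)
  have hcomap : (Q.map φ).comap φ = Q := by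
    rw [Ideal.comap_map_of_surjective _ hφs, ← RingHom.ker_eq_comap_bot, hφ, Ideal.mk_ker,
      sup_eq_left.mpr hSQ]
  have h𝔮min : Q.map φ ∈ minimalPrimes (MvPolynomial (Fin n) K ⧸ (I₁ ⊔ I₂)) := by
    refine ⟨⟨h𝔮prime, bot_le⟩, ?_⟩
    intro P hP hPq
    haveI := hP.1
    have h1 : I₁ ⊔ I₂ ≤ P.comap φ := by
      have : RingHom.ker φ ≤ P.comap φ := Ideal.comap_mono bot_le
      rwa [hφ, Ideal.mk_ker] at this
    have h2 : P.comap φ ≤ Q := by
      rw [← hcomap]; exact Ideal.comap_mono hPq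
    have h3 : Q ≤ P.comap φ := hQmin.2 ⟨Ideal.comap_isPrime _ _, h1⟩ h2
    have := Ideal.map_mono (f := φ) h3
    rwa [Ideal.map_comap_of_surjective _ hφs] at this
  have hdim0 : ringKrullDim (Localization.AtPrime (Q.map φ)) = 0 := by
    have h1 := IsLocalization.AtPrime.ringKrullDim_eq_height (Q.map φ)
      (Localization.AtPrime (Q.map φ))
    rw [Ideal.height_eq_zero_iff.mpr h𝔮min] at h1
    exact h1
  have hkey := (hloc (Q.map φ) h𝔮prime).2
  rw [hdim0, zero_add] at hkey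
  -- pass to `Q' = comap` (equal to `Q`)
  set Q' : Ideal (MvPolynomial (Fin n) K) := (Q.map φ).comap φ with hQ'
  haveI hQ'prime : Q'.IsPrime := Ideal.comap_isPrime _ _
  rw [← hcomap]
  have h𝔠Q' : I₁ ⊓ I₂ ≤ Q' := by rw [hcomap]; exact (inf_le_left.trans le_sup_left).trans hSQ
  -- `R_{Q'}` is Cohen–Macaulay
  haveI := isCohenMacaulayRing_field K
  haveI hCMR : IsCohenMacaulayRing (MvPolynomial (Fin n) K) :=
    Groth.Agent.Lib.helper26.CMPoly.isCohenMacaulayRing_mvPolynomial K n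
  haveI hCML : IsCohenMacaulayLocalRing (Localization.AtPrime Q') :=
    hCMR.isCohenMacaulayLocalRing_localization Q'
  set 𝔠L : Ideal (Localization.AtPrime Q') :=
    (I₁ ⊓ I₂).map (algebraMap (MvPolynomial (Fin n) K) (Localization.AtPrime Q')) with h𝔠L
  have h𝔠Lne : 𝔠L ≠ ⊤ := by
    intro htop
    have hle : 𝔠L ≤ maximalIdeal (Localization.AtPrime Q') := by
      rw [← Localization.AtPrime.map_eq_maximalIdeal]
      exact Ideal.map_mono h𝔠Q'
    rw [htop] at hle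
    exact (maximalIdeal.isMaximal _).ne_top (top_le_iff.mp hle)
  have hform := Groth.Agent.Lib.helper26.Unmixed.ringKrullDim_eq_quotient_add_height
    (Localization.AtPrime Q') 𝔠L h𝔠Lne
  rw [IsLocalization.AtPrime.ringKrullDim_eq_height Q' (Localization.AtPrime Q'), ← hkey] at hform
  -- the height of `𝔠 R_{Q'}` is `c`
  have h𝔠ht : (c : ℕ∞) ≤ (I₁ ⊓ I₂).height := by
    rw [Ideal.height_eq_inf_minimalPrimes]
    refine le_iInf₂ fun P hP => ?_
    haveI := hP.1.1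
    rcases (Ideal.IsPrime.inf_le hP.1.1).mp hP.1.2 with h | h
    · rw [← h₁]; exact Ideal.height_mono h
    · rw [← h₂]; exact Ideal.height_mono h
  have h𝔠Lht : 𝔠L.height = c := by
    apply le_antisymm
    · obtain ⟨P, hPmin, hPQ'⟩ := Ideal.exists_minimalPrimes_le h𝔠Q'
      haveI hPprime : P.IsPrime := hPmin.1.1
      have hPht : P.height = c := by
        rcases (Ideal.IsPrime.inf_le hPprime).mp hPmin.1.2 with h | h
        · obtain ⟨P', hP'min, hP'le⟩ := Ideal.exists_minimalPrimes_le h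
          have h4 : P ≤ P' := hPmin.2 ⟨hP'min.1.1, inf_le_left.trans hP'min.1.2⟩ hP'le
          have h5 : P = P' := le_antisymm h4 hP'le
          rw [h5, height_eq_of_mem_minimalPrimes K n hI₁ hP'min, h₁]
        · obtain ⟨P', hP'min, hP'le⟩ := Ideal.exists_minimalPrimes_le h
          have h4 : P ≤ P' := hPmin.2 ⟨hP'min.1.1, inf_le_right.trans hP'min.1.2⟩ hP'le
          have h5 : P = P' := le_antisymm h4 hP'le
          rw [h5, height_eq_of_mem_minimalPrimes K n hI₂ hP'min, h₂]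
      have hdisjP : Disjoint (Q'.primeCompl : Set (MvPolynomial (Fin n) K)) (P : Set _) := by
        rw [Set.disjoint_left]
        intro x hx hxP
        exact hx (hPQ' hxP)
      have := IsLocalization.height_map_of_disjoint (S := Localization.AtPrime Q') Q'.primeCompl P
        hdisjP
      rw [← hPht, ← this]
      exact Ideal.height_mono (Ideal.map_mono hPmin.1.2)
    · rw [← IsLocalization.height_under Q'.primeCompl 𝔠L]
      exact h𝔠ht.trans (Ideal.height_mono Ideal.le_comap_map)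
  rw [h𝔠Lht] at hform
  have : ((Q'.height : ℕ∞) : WithBot ℕ∞) = (((c + 1 : ℕ) : ℕ∞) : WithBot ℕ∞) := by
    rw [hform]
    push_cast
    rw [add_comm]
  exact WithBot.coe_injective this

end Poly

end Groth.Agent.Lib.helper2.Liaison
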