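import Mathlib
import Groth.Prelude.Def_GrSyz
import Groth.Agent.Lib.Helper2.Liaison2
import Groth.Agent.Lib.Helper26.Unmixed

/-!
# Liaison, part 4 (helper2): basic double links `Ĩ = J + f I` and unmixedness
-/

set_option autoImplicit false
universe u

open LocCoh IsLocalRing

namespace Groth.Agent.Lib.helper2.Liaison

section BDL

variable {R : Type u} [CommRing R] (J I : Ideal R) (f : R)

/-- the basic double link ideal -/
abbrev bdl : Ideal R := J ⊔ Ideal.span {f} * I

/-- multiplication by `f` as a map `R/I → R/(J + fI)` -/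
noncomputable def mulMap : (R ⧸ I) →ₗ[R] (R ⧸ bdl J I f) :=
  Submodule.mapQ I (bdl J I f) (LinearMap.mulLeft R f) (by
    intro i hi
    rw [Submodule.mem_comap, LinearMap.mulLeft_apply]
    exact Ideal.mem_sup_right (Ideal.mul_mem_mul (Ideal.mem_span_singleton_self f) hi))

/-- the projection `R/(J + fI) → R/(J + (f))` -/
noncomputable def projMap : (R ⧸ bdl J I f) →ₗ[R] (R ⧸ (J ⊔ Ideal.span {f})) :=
  Submodule.mapQ (bdl J I f) (J ⊔ Ideal.span {f}) LinearMap.id (by
    rw [Submodule.comap_id]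
    exact sup_le le_sup_left (Ideal.mul_le_left.trans le_sup_right))

lemma mulMap_mk (r : R) : mulMap J I f (Ideal.Quotient.mk I r) = Ideal.Quotient.mk _ (f * r) := rfl

lemma projMap_mk (r : R) : projMap J I f (Ideal.Quotient.mk _ r) = Ideal.Quotient.mk _ r := rfl

variable {J I f}

lemma mulMap_injective (hJI : J ≤ I) (hJf : J.colon {f} = J) :
    Function.Injective (mulMap J I f) := by
  rw [← LinearMap.ker_eq_bot, eq_bot_iff]
  intro x hx
  obtain ⟨r, rfl⟩ := Ideal.Quotient.mk_surjective x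
  rw [LinearMap.mem_ker, mulMap_mk, Ideal.Quotient.eq_zero_iff_mem] at hx
  rw [Submodule.mem_bot, Ideal.Quotient.eq_zero_iff_mem]
  obtain ⟨j, hj, y, hy, hjy⟩ := Submodule.mem_sup.mp hx
  obtain ⟨i, hi, rfl⟩ := Ideal.mem_span_singleton_mul.mp hy
  have h1 : r - i ∈ J.colon {f} := by
    rw [Submodule.mem_colon_singleton, smul_eq_mul]
    have : (r - i) * f = j := by rw [← sub_eq_zero]; linear_combination -hjy
    rw [this]; exact hj
  rw [hJf] at h1
  have := I.add_mem (hJI h1) hi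
  rwa [sub_add_cancel] at this

lemma exact_mulMap_projMap : Function.Exact (mulMap J I f) (projMap J I f) := by
  intro y
  obtain ⟨r, rfl⟩ := Ideal.Quotient.mk_surjective y
  rw [projMap_mk, Ideal.Quotient.eq_zero_iff_mem]
  constructor
  · intro hr
    obtain ⟨j, hj, y, hy, hjy⟩ := Submodule.mem_sup.mp hr
    obtain ⟨a, rfl⟩ := Ideal.mem_span_singleton'.mp hy
    refine ⟨Ideal.Quotient.mk I a, ?_⟩
    rw [mulMap_mk, Ideal.Quotient.eq, ← hjy]
    have : f * a - (j + a * f) = -j := by ring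
    rw [this]
    exact Ideal.mem_sup_left (J.neg_mem hj)
  · rintro ⟨x, hx⟩
    obtain ⟨a, rfl⟩ := Ideal.Quotient.mk_surjective x
    rw [mulMap_mk, Ideal.Quotient.eq] at hx
    have h1 : f * a - r ∈ J ⊔ Ideal.span {f} :=
      (sup_le le_sup_left (Ideal.mul_le_left.trans le_sup_right) :
        bdl J I f ≤ J ⊔ Ideal.span {f}) hx
    have h2 : f * a ∈ J ⊔ Ideal.span {f} :=
      Ideal.mem_sup_right (Ideal.mul_mem_right _ _ (Ideal.mem_span_singleton_self f))
    have := (J ⊔ Ideal.span {f}).sub_mem h2 h1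
    rwa [sub_sub_cancel] at this

/-- `Ass(R/I) ⊆ Ass(R/Ĩ)`. -/
lemma associatedPrimes_subset_bdl (hJI : J ≤ I) (hJf : J.colon {f} = J) :
    associatedPrimes R (R ⧸ I) ⊆ associatedPrimes R (R ⧸ bdl J I f) :=
  associatedPrimes.subset_of_injective (mulMap_injective hJI hJf)

/-- `Ass(R/Ĩ) ⊆ Ass(R/I) ∪ Ass(R/(J + (f)))`. -/
lemma associatedPrimes_bdl_subset (hJI : J ≤ I) (hJf : J.colon {f} = J) :
    associatedPrimes R (R ⧸ bdl J I f) ⊆
      associatedPrimes R (R ⧸ I) ∪ associatedPrimes R (R ⧸ (J ⊔ Ideal.span {f})) :=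
  associatedPrimes.subset_union_of_exact (mulMap_injective hJI hJf) exact_mulMap_projMap

end BDL

section Graded

variable (k : Type u) [Field k] (n : ℕ)

open Groth.Agent.Lib.helper26.AffDomChain Groth.Agent.Lib.helper26.CMCat in
/-- associated primes of `R/(J + (f))` have height `ht J + 1` for `J` homogeneous with CM quotient
and `f` a nonzerodivisor mod `J`. -/
theorem height_eq_of_mem_associatedPrimes_sup_span {J : Ideal (MvPolynomial (Fin n) k)}
    (hJ : J.IsHomogeneous (GrSyz.stdGr k (Fin n)))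
    [hCM : IsCohenMacaulayRing (MvPolynomial (Fin n) k ⧸ J)] (f : MvPolynomial (Fin n) k)
    (hJf : J.colon {f} = J) (P : Ideal (MvPolynomial (Fin n) k))
    (hP : P ∈ associatedPrimes (MvPolynomial (Fin n) k)
      (MvPolynomial (Fin n) k ⧸ (J ⊔ Ideal.span {f}))) :
    P.height = J.height + 1 := by
  haveI : IsNoetherianRing (MvPolynomial (Fin n) k ⧸ J) := hCM.toIsNoetherian
  obtain ⟨hprime, x, hx⟩ := (isAssociatedPrime_iff).mp hP
  obtain ⟨x, rfl⟩ := Ideal.Quotient.mk_surjective x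
  have hmem : ∀ r, r ∈ P ↔ r * x ∈ J ⊔ Ideal.span {f} := by
    intro r
    rw [hx, Submodule.mem_colon_singleton, Submodule.mem_bot]
    change Ideal.Quotient.mk _ (r * x) = 0 ↔ _
    rw [Ideal.Quotient.eq_zero_iff_mem]
  have hJP : J ≤ P := fun j hj => (hmem j).mpr (Ideal.mem_sup_left (J.mul_mem_right _ hj))
  set φ : MvPolynomial (Fin n) k →+* (MvPolynomial (Fin n) k ⧸ J) := Ideal.Quotient.mk J with hφdef
  have hφ : Function.Surjective φ := Ideal.Quotient.mk_surjective
  have hker : RingHom.ker φ = J := Ideal.mk_ker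
  have hcm : ∀ L : Ideal (MvPolynomial (Fin n) k), J ≤ L → (L.map φ).comap φ = L := by
    intro L hL
    rw [Ideal.comap_map_of_surjective _ hφ, ← RingHom.ker_eq_comap_bot, hker, sup_eq_left.mpr hL]
  have hQprime : (P.map φ).IsPrime :=
    Ideal.map_isPrime_of_surjective hφ (by rw [hker]; exact hJP)
  -- `Q = P/J` is associated to `B/(f̄)`
  have hspan : (J ⊔ Ideal.span {f}).map φ = Ideal.span {φ f} := by
    rw [Ideal.map_sup, Ideal.map_span, Set.image_singleton]
    have : J.map φ = ⊥ := Ideal.map_quotient_self J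
    rw [this, bot_sup_eq]
  have hcm2 : (Ideal.span {φ f}).comap φ = J ⊔ Ideal.span {f} := by
    rw [← hspan]; exact hcm _ le_sup_left
  have hQass : P.map φ ∈ associatedPrimes (MvPolynomial (Fin n) k ⧸ J)
      ((MvPolynomial (Fin n) k ⧸ J) ⧸ Ideal.ofList [φ f]) := by
    rw [Ideal.ofList_singleton]
    refine (isAssociatedPrime_iff).mpr ⟨hQprime, Ideal.Quotient.mk _ (φ x), ?_⟩
    ext b
    obtain ⟨r, rfl⟩ := hφ b
    rw [Submodule.mem_colon_singleton, Submodule.mem_bot]
    change _ ↔ Ideal.Quotient.mk _ (φ r * φ x) = 0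
    rw [Ideal.Quotient.eq_zero_iff_mem, ← map_mul]
    have e1 : φ r ∈ P.map φ ↔ r ∈ P := by
      rw [← Ideal.mem_comap, hcm P hJP]
    have e2 : φ (r * x) ∈ Ideal.span {φ f} ↔ r * x ∈ J ⊔ Ideal.span {f} := by
      rw [← Ideal.mem_comap, hcm2]
    rw [e1, e2, hmem]
  -- `f̄` is a nonzerodivisor
  have hreg : φ f ∈ nonZeroDivisors (MvPolynomial (Fin n) k ⧸ J) := by
    rw [mem_nonZeroDivisors_iff_right]
    intro b hb
    obtain ⟨r, rfl⟩ := hφ b
    rw [← map_mul, hφdef, Ideal.Quotient.eq_zero_iff_mem] at hb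
    rw [hφdef, Ideal.Quotient.eq_zero_iff_mem, ← hJf, Submodule.mem_colon_singleton, smul_eq_mul]
    exact hb
  have hht1 : (P.map φ).height = 1 := by
    have := Groth.Agent.Lib.helper26.Unmixed.height_eq_of_mem_associatedPrimes
      (MvPolynomial (Fin n) k ⧸ J) [φ f] (by
        rw [Ideal.ofList_singleton, List.length_singleton, Nat.cast_one]
        exact Ideal.one_le_height_span_singleton_of_mem_nonZeroDivisors hreg) _ hQass
    simpa using this
  -- a minimal prime `Q₀ ⋖ Q`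
  obtain ⟨Q₀, hQ₀, hQ₀le⟩ := Ideal.exists_minimalPrimes_le (I := ⊥) (J := P.map φ) bot_le
  haveI hQ₀prime : Q₀.IsPrime := hQ₀.1.1
  have hQ₀0 : Q₀.height = 0 := Ideal.height_eq_zero_iff.mpr hQ₀
  have hQ₀lt : Q₀ < P.map φ := by
    refine lt_of_le_of_ne hQ₀le ?_
    intro h
    rw [h, hht1] at hQ₀0
    exact one_ne_zero hQ₀0
  let q₀ : PrimeSpectrum (MvPolynomial (Fin n) k ⧸ J) := ⟨Q₀, hQ₀prime⟩
  let q : PrimeSpectrum (MvPolynomial (Fin n) k ⧸ J) := ⟨P.map φ, hQprime⟩
  have hcov : q₀ ⋖ q := by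
    refine ⟨hQ₀lt, ?_⟩
    intro z hz1 hz2
    have h1 : Q₀ < z.asIdeal := hz1
    have h2 : z.asIdeal < P.map φ := hz2
    have h3 := Ideal.height_add_one_le_of_lt_of_isPrime h1
    have h4 := Ideal.height_add_one_le_of_lt_of_isPrime h2
    rw [hht1] at h4
    rw [hQ₀0, zero_add] at h3
    have h5 : z.asIdeal.height ≠ ⊤ := Ideal.height_ne_top_of_isPrime
    obtain ⟨m, hm⟩ := ENat.ne_top_iff_exists.mp h5
    rw [← hm] at h3 h4
    have h3' : 1 ≤ m := by exact_mod_cast h3
    have h4' : m + 1 ≤ 1 := by exact_mod_cast h4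
    omega
  let e := specEmb φ hφ
  have hOC := ordConnected_range_specEmb φ hφ
  have hcov' : e q₀ ⋖ e q := hcov.image e hOC
  haveI := isCohenMacaulayRing_field k
  haveI : IsCohenMacaulayRing (MvPolynomial (Fin n) k) :=
    Groth.Agent.Lib.helper26.CMPoly.isCohenMacaulayRing_mvPolynomial k n
  have H := height_covBy_of_cm _ _ hcov'
  have heq : (e q).asIdeal = P := hcm P hJP
  have hP₀ : (e q₀).asIdeal ∈ J.minimalPrimes := by
    rw [Ideal.minimalPrimes_eq_comap]
    exact ⟨Q₀, hQ₀, rfl⟩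
  rw [heq, height_eq_of_mem_minimalPrimes k n hJ hP₀] at H
  exact H

/-- **basic double links preserve unmixedness** -/
theorem unmixed_iff_unmixed_bdl (h : ℕ) (J I : Ideal (MvPolynomial (Fin n) k))
    (hJ : J.IsHomogeneous (GrSyz.stdGr k (Fin n))) (hJI : J ≤ I) (hJh : J.height = h)
    [IsCohenMacaulayRing (MvPolynomial (Fin n) k ⧸ J)]
    (f : MvPolynomial (Fin n) k) (hJf : J.colon {f} = J) :
    (∀ p ∈ associatedPrimes (MvPolynomial (Fin n) k) (MvPolynomial (Fin n) k ⧸ I),
        p.height = h + 1) ↔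
      ∀ p ∈ associatedPrimes (MvPolynomial (Fin n) k)
        (MvPolynomial (Fin n) k ⧸ (J ⊔ Ideal.span {f} * I)), p.height = h + 1 := by
  constructor
  · intro hI p hp
    rcases associatedPrimes_bdl_subset hJI hJf hp with h1 | h1
    · exact hI p h1
    · rw [height_eq_of_mem_associatedPrimes_sup_span k n hJ f hJf p h1, hJh]
  · intro hI p hp
    exact hI p (associatedPrimes_subset_bdl hJI hJf hp)

end Graded

end Groth.Agent.Lib.helper2.Liaison
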