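import Mathlib
import Groth.Prelude.Def_GrSyz
import Groth.Prelude.Def_Wider
import Groth.Agent.Lib.Helper2.Liaison4
import Groth.Agent.Lib.Helper2.DepthLC
import Groth.Agent.Lib.Helper19.LCLes
import Groth.Agent.Lib.Helper19.LCGroth
import Groth.Agent.Lib.Helper26.DepthCR
import Groth.Agent.Lib.Helper26.Depth8
import Groth.Agent.Lib.Helper26.CM7

/-!
# Liaison, part 5 (helper2): local cohomology of basic double links
-/

set_option autoImplicit false
universe u

open LocCoh IsLocalRing CategoryTheory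

namespace Groth.Agent.Lib.helper2.Liaison

section Graded

variable (k : Type u) [Field k] (n : ℕ)

lemma irrel_toIdeal_eq : (GrSyz.irrel (GrSyz.stdGr k (Fin n))).toIdeal = mI k n := by
  change Ideal.span _ = Ideal.span _
  congr 1
  ext r
  simp only [Set.mem_ofPred_eq, Set.mem_iUnion, Set.mem_Ioi, SetLike.mem_coe, exists_prop]

open Groth.Agent.Lib.helper26.Depth in
/-- `ht J + depth_𝔪 (R/J) = n` for a homogeneous ideal `J` with CM quotient. -/
theorem height_add_idealDepth_eq {J : Ideal (MvPolynomial (Fin n) k)}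
    (hJ : J.IsHomogeneous (GrSyz.stdGr k (Fin n)))
    [hCM : IsCohenMacaulayRing (MvPolynomial (Fin n) k ⧸ J)] (hne : J ≠ ⊤) :
    J.height + idealDepth (mI k n) (MvPolynomial (Fin n) k ⧸ J) = n := by
  obtain ⟨P, hP⟩ := Ideal.nonempty_minimalPrimes hne
  have h1 := height_add_eq_of_mem_minimalPrimes k n hJ hP
  rw [height_eq_of_mem_minimalPrimes k n hJ hP] at h1
  have hPle : P ≤ mI k n := le_mI_of_mem_minimalPrimes k n hJ hP
  have hmprime : ((mI k n).map (Ideal.Quotient.mk J)).IsPrime := by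
    haveI := (mI_isMaximal k n).isPrime
    exact Ideal.map_isPrime_of_surjective Ideal.Quotient.mk_surjective
      (by rw [Ideal.mk_ker]; exact hP.1.2.trans hPle)
  haveI : IsNoetherianRing (MvPolynomial (Fin n) k ⧸ J) := hCM.toIsNoetherian
  have h2 := idealDepth_map_eq (A := MvPolynomial (Fin n) k) (B := MvPolynomial (Fin n) k ⧸ J)
    (mI k n) (MvPolynomial (Fin n) k ⧸ J)
  have h3 := (isCohenMacaulayRing_iff_idealDepth_eq_height
    (R := MvPolynomial (Fin n) k ⧸ J)).mp hCM _ hmprime.ne_top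
  rw [h2]
  change J.height + idealDepth ((mI k n).map (Ideal.Quotient.mk J)) _ = n
  rw [h3]
  exact h1

/-- `(R/J)/f(R/J) ≃ R/(J + (f))` as `R`-modules -/
noncomputable def quotSMulEquiv {R : Type u} [CommRing R] (J : Ideal R) (f : R) :
    ((R ⧸ J) ⧸ (Ideal.ofList [f] • ⊤ : Submodule R (R ⧸ J))) ≃ₗ[R] R ⧸ (J ⊔ Ideal.span {f}) :=
  Submodule.quotEquivOfEq _ _ (by
    rw [Ideal.ofList_singleton]
    have h1 : (⊤ : Submodule R (R ⧸ J)) = Submodule.map (Submodule.mkQ J) ⊤ := by
      rw [Submodule.map_top, Submodule.range_mkQ]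
    rw [h1, ← Submodule.map_smul'', smul_eq_mul, Ideal.mul_top]) ≪≫ₗ
    Submodule.quotientQuotientEquivQuotientSup J (Ideal.span {f})

open Groth.Agent.Lib.helper26.Depth RingTheory.Sequence in
/-- vanishing of `H^i_𝔪 (R/(J + (f)))` for `i + ht J < n - 1`... precisely `i + ht J + 1 < n`. -/
theorem H_sup_span_subsingleton {J : Ideal (MvPolynomial (Fin n) k)}
    (hJ : J.IsHomogeneous (GrSyz.stdGr k (Fin n)))
    [hCM : IsCohenMacaulayRing (MvPolynomial (Fin n) k ⧸ J)] (h : ℕ) (hJh : J.height = h)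
    (f : MvPolynomial (Fin n) k) (d : ℤ) (hf : f ∈ GrSyz.stdGr k (Fin n) d)
    (hJf : J.colon {f} = J) (i : ℕ) (hi : i + h + 1 < n) :
    Subsingleton (H (mI k n) i (MvPolynomial (Fin n) k ⧸ (J ⊔ Ideal.span {f}))) := by
  by_cases htop : J ⊔ Ideal.span {f} = ⊤
  · haveI : Subsingleton (MvPolynomial (Fin n) k ⧸ (J ⊔ Ideal.span {f})) := by
      rw [htop]; exact Ideal.Quotient.subsingleton_iff.mpr rfl
    exact Groth.Agent.Lib.helper19.LCGroth.H_subsingleton_of_subsingleton _ i _
  · have hJne : J ≠ ⊤ := fun hh => htop (by rw [hh, top_sup_eq])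
    -- `f ∈ 𝔪`
    have hhom : (J ⊔ Ideal.span {f}).IsHomogeneous (GrSyz.stdGr k (Fin n)) := by
      refine hJ.sup ?_
      apply Ideal.homogeneous_span
      rintro x rfl
      exact ⟨d, hf⟩
    have hle : J ⊔ Ideal.span {f} ≤ mI k n :=
      Groth.Agent.Lib.helper26.Seg.le_irr_of_isHomogeneous _ (hpos k n) (h0 k n) _ hhom htop
    have hfm : f ∈ mI k n := hle (Ideal.mem_sup_right (Ideal.mem_span_singleton_self f))
    -- `f` is regular on `R/J`
    have hreg : IsSMulRegular (MvPolynomial (Fin n) k ⧸ J) f := by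
      rw [isSMulRegular_iff_right_eq_zero_of_smul]
      intro x hx
      obtain ⟨r, rfl⟩ := Ideal.Quotient.mk_surjective x
      change Ideal.Quotient.mk J (f * r) = 0 at hx
      rw [Ideal.Quotient.eq_zero_iff_mem] at hx
      rw [Ideal.Quotient.eq_zero_iff_mem, ← hJf, Submodule.mem_colon_singleton, smul_eq_mul,
        mul_comm]
      exact hx
    haveI : IsNoetherianRing (MvPolynomial (Fin n) k ⧸ J) := hCM.toIsNoetherian
    have hdep := idealDepth_quot_ofList_add_length (mI k n) [f] (MvPolynomial (Fin n) k ⧸ J)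
      (by simpa using hfm) ((isWeaklyRegular_singleton_iff _ f).mpr hreg)
    rw [idealDepth_congr (quotSMulEquiv J f)] at hdep
    have h1 := height_add_idealDepth_eq k n hJ hJne
    rw [hJh, ← hdep, List.length_singleton, Nat.cast_one] at h1
    -- `h + (X + 1) = n` hence `i + 1 ≤ X`
    have hX : ((i + 1 : ℕ) : ℕ∞) ≤
        idealDepth (mI k n) (MvPolynomial (Fin n) k ⧸ (J ⊔ Ideal.span {f})) := by
      set X := idealDepth (mI k n) (MvPolynomial (Fin n) k ⧸ (J ⊔ Ideal.span {f})) with hXdef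
      have hXtop : X ≠ ⊤ := by
        intro hh
        rw [hh] at h1
        simp at h1
      obtain ⟨m, hm⟩ := ENat.ne_top_iff_exists.mp hXtop
      rw [← hm] at h1 ⊢
      have h1' : h + (m + 1) = n := by exact_mod_cast h1
      have : i + 1 ≤ m := by omega
      exact_mod_cast this
    exact (Groth.Agent.Lib.helper2.DepthLC.vanish_iff_le_idealDepth (mI k n)
      (MvPolynomial (Fin n) k ⧸ (J ⊔ Ideal.span {f})) (i + 1)).mpr hX i (Nat.lt_succ_self i)

end Graded

section SES

variable {R : Type u} [CommRing R] (J I : Ideal R) (f : R)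

lemma projMap_surjective : Function.Surjective (projMap J I f) := by
  intro y
  obtain ⟨r, rfl⟩ := Ideal.Quotient.mk_surjective y
  exact ⟨Ideal.Quotient.mk _ r, rfl⟩

/-- the short complex `R/I → R/(J + fI) → R/(J + (f))` -/
noncomputable def bdlComplex : ShortComplex (ModuleCat.{u} R) :=
  ShortComplex.moduleCatMk (mulMap J I f) (projMap J I f)
    (LinearMap.ext fun x => (exact_mulMap_projMap (J := J) (I := I) (f := f)).apply_apply_eq_zero x)

variable {J I f}

lemma bdlComplex_shortExact (hJI : J ≤ I) (hJf : J.colon {f} = J) :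
    (bdlComplex J I f).ShortExact :=
  ModuleCat.shortComplex_shortExact _ (exact_mulMap_projMap (J := J) (I := I) (f := f))
    (mulMap_injective hJI hJf) (projMap_surjective J I f)

end SES

section Main

variable (k : Type u) [Field k] (n : ℕ)

/-- **local cohomology of a basic double link** -/
theorem nonempty_H_equiv_bdl (h : ℕ) (J I : Ideal (MvPolynomial (Fin n) k))
    (hJ : J.IsHomogeneous (GrSyz.stdGr k (Fin n))) (hJI : J ≤ I) (hJh : J.height = h)
    [IsCohenMacaulayRing (MvPolynomial (Fin n) k ⧸ J)]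
    (f : MvPolynomial (Fin n) k) (d : ℤ) (hf : f ∈ GrSyz.stdGr k (Fin n) d)
    (hJf : J.colon {f} = J) (i : ℕ) (hi : i + h + 1 < n) :
    Nonempty (H (GrSyz.irrel (GrSyz.stdGr k (Fin n))).toIdeal i
        (MvPolynomial (Fin n) k ⧸ (J ⊔ Ideal.span {f} * I)) ≃ₗ[MvPolynomial (Fin n) k]
      H (GrSyz.irrel (GrSyz.stdGr k (Fin n))).toIdeal i (MvPolynomial (Fin n) k ⧸ I)) := by
  rw [irrel_toIdeal_eq]
  have hS := bdlComplex_shortExact (J := J) (I := I) (f := f) hJI hJf
  have hv : ∀ j, j ≤ i → Subsingleton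
      ((localCohomology (mI k n) j).obj (bdlComplex J I f).X₃ : ModuleCat.{u} _) := by
    intro j hj
    exact H_sup_span_subsingleton k n hJ h hJh f d hf hJf j (by omega)
  have hsurj : Function.Surjective ((localCohomology (mI k n) i).map (bdlComplex J I f).f) :=
    Groth.Agent.Lib.helper19.LCLes.H_f_surjective_of_vanish (mI k n) i hS (hv i le_rfl)
  have hinj : Function.Injective ((localCohomology (mI k n) i).map (bdlComplex J I f).f) := by
    cases i with
    | zero => exact Groth.Agent.Lib.helper19.LCLes.H_zero_injective (mI k n) hS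
    | succ j =>
      exact Groth.Agent.Lib.helper19.LCLes.H_f_injective_of_vanish (mI k n) j hS
        (hv j (Nat.le_succ j))
  exact ⟨(LinearEquiv.ofBijective
    ((localCohomology (mI k n) i).map (bdlComplex J I f).f).hom ⟨hinj, hsurj⟩).symm⟩

end Main

end Groth.Agent.Lib.helper2.Liaison
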