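import Mathlib
import Groth.Agent.Lib.Helper2.Liaison3
import Groth.Agent.Lib.Helper17.ArtGor
import Groth.Agent.Lib.Helper17.GorIso
import Groth.Agent.Lib.Helper26.QFinFlat1
import Groth.Agent.Lib.Helper26.Mult1

/-!
# Liaison, part 6 (helper2): lengths in Artinian Gorenstein local rings and additivity of
localized lengths under linkage
-/

set_option autoImplicit false
universe u

open LocCoh IsLocalRing

namespace Groth.Agent.Lib.helper2.Liaison

section Art

variable (A : Type u) [CommRing A] [IsLocalRing A] [IsArtinianRing A]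

/-- `Hom(A/I, A) ≃ ann I` -/
noncomputable def homQuotEquiv (I K : Ideal A) (hK : ∀ y : A, y ∈ K ↔ ∀ i ∈ I, y * i = 0) :
    ((A ⧸ I) →ₗ[A] A) ≃ₗ[A] K where
  toFun φ := ⟨φ (Ideal.Quotient.mk I 1), by
    rw [hK]
    intro i hi
    have h1 : i • φ (Ideal.Quotient.mk I 1) = φ (Ideal.Quotient.mk I i) := by
      rw [← map_smul]
      congr 1
      change Ideal.Quotient.mk I (i * 1) = _
      rw [mul_one]
    rw [mul_comm, ← smul_eq_mul, h1, Ideal.Quotient.eq_zero_iff_mem.mpr hi, map_zero]⟩
  map_add' φ ψ := by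
    ext
    simp
  map_smul' a φ := by
    ext
    simp
  invFun y := Submodule.liftQ I (LinearMap.toSpanSingleton A A (y : A)) (by
    intro i hi
    rw [LinearMap.mem_ker, LinearMap.toSpanSingleton_apply, smul_eq_mul, mul_comm]
    exact (hK y).mp y.2 i hi)
  left_inv φ := by
    apply LinearMap.ext
    intro x
    obtain ⟨r, rfl⟩ := Ideal.Quotient.mk_surjective x
    change LinearMap.toSpanSingleton A A (φ (Ideal.Quotient.mk I 1)) r = _
    rw [LinearMap.toSpanSingleton_apply, ← map_smul]
    congr 1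
    change Ideal.Quotient.mk I (r * 1) = _
    rw [mul_one]
  right_inv y := by
    ext
    change LinearMap.toSpanSingleton A A (y : A) 1 = _
    rw [LinearMap.toSpanSingleton_apply, one_smul]

/-- In a self-injective Artinian local ring: `ℓ(A/I) + ℓ(A/ann I) = ℓ(A)`. -/
theorem length_quot_add_length_quot_ann [Module.Injective A A] (I K : Ideal A)
    (hK : ∀ y : A, y ∈ K ↔ ∀ i ∈ I, y * i = 0) :
    Module.length A (A ⧸ I) + Module.length A (A ⧸ K) = Module.length A A := by
  have hfl : IsFiniteLength A (A ⧸ I) := by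
    rw [isFiniteLength_iff_isNoetherian_isArtinian]; exact ⟨inferInstance, inferInstance⟩
  have h1 := Groth.Agent.Lib.helper17.ArtGor.length_hom_eq (R := A) A (A ⧸ I) hfl
  have h2 : Module.length A (ResidueField A →ₗ[A] A) = 1 :=
    Groth.Agent.Lib.helper17.ArtGor.typ_eq_one_of_injective A
  rw [h2, one_mul, (homQuotEquiv A I K hK).length_eq] at h1
  rw [← h1]
  exact (Module.length_eq_add_of_exact K.subtype K.mkQ K.injective_subtype
    (Submodule.mkQ_surjective K) (LinearMap.exact_subtype_mkQ K)).symm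

end Art

section Loc

open Groth.Agent.Lib.helper26.HS

variable {R : Type u} [CommRing R] [IsNoetherianRing R] (q : Ideal R) [hq : q.IsPrime]

/-- `locLen (R/𝔞) q = ℓ_{R_q} (R_q / 𝔞 R_q)` -/
theorem locLen_quotient (𝔞 : Ideal R) :
    locLen (R ⧸ 𝔞) ⟨q, hq⟩ = Module.length (Localization.AtPrime q)
      (Localization.AtPrime q ⧸ 𝔞.map (algebraMap R (Localization.AtPrime q))) := by
  unfold locLen
  let φ := Submodule.toLocalizedQuotient' (Localization.AtPrime q) q.primeCompl
    (Algebra.linearMap R (Localization.AtPrime q)) 𝔞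
  let e₁ := IsLocalizedModule.iso q.primeCompl φ
  let e₂ := e₁.extendScalarsOfIsLocalization q.primeCompl (Localization.AtPrime q)
  rw [e₂.length_eq]
  exact (Submodule.quotEquivOfEq _ _ (Ideal.localized'_eq_map _ _ _)).length_eq

end Loc

/-- passing to a quotient ring does not change lengths -/
theorem length_quotient_eq {A : Type u} [CommRing A] (c a : Ideal A) (h : c ≤ a) :
    Module.length A (A ⧸ a) =
      Module.length (A ⧸ c) ((A ⧸ c) ⧸ a.map (Ideal.Quotient.mk c)) := by
  have e := (DoubleQuot.quotQuotEquivQuotOfLEₐ A h).toLinearEquiv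
  rw [← e.length_eq]
  exact Module.length_eq_of_surjective (S := A) (R := A ⧸ c)
    (M := (A ⧸ c) ⧸ a.map (Ideal.Quotient.mk c)) Ideal.Quotient.mk_surjective


section Linked

open Groth.Agent.Lib.helper26.HS

variable {R : Type u} [CommRing R] [IsNoetherianRing R]

/-- the annihilator of `I A_q/𝔠 A_q` in `A_q/𝔠 A_q` is `(𝔠 : I) A_q/𝔠 A_q`. -/
theorem mem_map_colon_iff (𝔠 I : Ideal R) (q : Ideal R) [hq : q.IsPrime]
    (A : Type u) [CommRing A] [Algebra R A] [IsLocalization.AtPrime A q]
    (y : A ⧸ 𝔠.map (algebraMap R A)) :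
    y ∈ ((𝔠.colon (I : Set R)).map (algebraMap R A)).map
        (Ideal.Quotient.mk (𝔠.map (algebraMap R A))) ↔
      ∀ i ∈ (I.map (algebraMap R A)).map
        (Ideal.Quotient.mk (𝔠.map (algebraMap R A))), y * i = 0 := by
  classical
  have hπs : Function.Surjective (Ideal.Quotient.mk (𝔠.map (algebraMap R A))) :=
    Ideal.Quotient.mk_surjective
  constructor
  · intro hy i hi
    obtain ⟨y', hy', rfl⟩ := (Ideal.mem_map_iff_of_surjective _ hπs).mp hy
    obtain ⟨i', hi', rfl⟩ := (Ideal.mem_map_iff_of_surjective _ hπs).mp hi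
    rw [← map_mul, Ideal.Quotient.eq_zero_iff_mem]
    have h1 : y' * i' ∈ ((𝔠.colon (I : Set R)) * I).map (algebraMap R A) := by
      rw [Ideal.map_mul]; exact Ideal.mul_mem_mul hy' hi'
    refine Ideal.map_mono ?_ h1
    rw [Ideal.mul_le]
    intro a ha b hb
    rw [Submodule.mem_colon] at ha
    exact ha b hb
  · intro hy
    obtain ⟨y', rfl⟩ := hπs y
    obtain ⟨⟨r, s⟩, hrs⟩ := IsLocalization.surj q.primeCompl y'
    simp only at hrs
    obtain ⟨S, hS⟩ := (isNoetherianRing_iff_ideal_fg R).mp inferInstance I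
    -- for each generator `g`, some `t ∉ q` with `t * r * g ∈ 𝔠`
    have h1 : ∀ g : R, ∃ t : q.primeCompl, g ∈ S → (t : R) * (r * g) ∈ 𝔠 := by
      intro g
      by_cases hg : g ∈ S
      · have hgI : g ∈ I := hS ▸ Ideal.subset_span hg
        have h2 := hy (Ideal.Quotient.mk _ (algebraMap R A g))
          (Ideal.mem_map_of_mem _ (Ideal.mem_map_of_mem _ hgI))
        rw [← map_mul, Ideal.Quotient.eq_zero_iff_mem] at h2
        have h3 : algebraMap R A (r * g) ∈ 𝔠.map (algebraMap R A) := by
          rw [map_mul, ← hrs]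
          have : y' * algebraMap R A s * algebraMap R A g =
              algebraMap R A s * (y' * algebraMap R A g) := by ring
          rw [this]
          exact Ideal.mul_mem_left _ _ h2
        rw [IsLocalization.mem_map_algebraMap_iff q.primeCompl] at h3
        obtain ⟨⟨a, m⟩, ham⟩ := h3
        simp only at ham
        rw [← map_mul, IsLocalization.eq_iff_exists q.primeCompl] at ham
        obtain ⟨t, ht⟩ := ham
        refine ⟨t * m, fun _ => ?_⟩
        have : ((t * m : q.primeCompl) : R) * (r * g) = t * (r * g * m) := by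
          rw [Submonoid.coe_mul]; ring
        rw [this, ht]
        exact 𝔠.mul_mem_left _ a.2
      · exact ⟨1, fun h => absurd h hg⟩
    choose t ht using h1
    set T : q.primeCompl := ∏ g ∈ S, t g with hT
    have hTg : ∀ g ∈ S, (T : R) * (r * g) ∈ 𝔠 := by
      intro g hg
      obtain ⟨v, hv⟩ := Finset.dvd_prod_of_mem t hg
      rw [hT, hv, Submonoid.coe_mul, mul_comm (t g : R), mul_assoc]
      exact 𝔠.mul_mem_left _ (ht g hg)
    have hTr : (T : R) * r ∈ 𝔠.colon (I : Set R) := by
      have hle' : I ≤ 𝔠.colon {(T : R) * r} := by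
        rw [← hS, Ideal.span_le]
        intro g hg
        rw [SetLike.mem_coe, Submodule.mem_colon_singleton, smul_eq_mul, mul_comm, mul_assoc]
        exact hTg g hg
      rw [Submodule.mem_colon]
      intro i hi
      have := hle' hi
      rw [Submodule.mem_colon_singleton, smul_eq_mul, mul_comm] at this
      rwa [smul_eq_mul]
    apply Ideal.mem_map_of_mem
    have hu : IsUnit (algebraMap R A ((T * s : q.primeCompl) : R)) :=
      IsLocalization.map_units _ (T * s)
    have h4 : y' * algebraMap R A ((T * s : q.primeCompl) : R) = algebraMap R A ((T : R) * r) := by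
      rw [Submonoid.coe_mul, map_mul, map_mul, ← hrs]; ring
    have h5 : y' = algebraMap R A ((T : R) * r) * ↑hu.unit⁻¹ := by
      rw [← h4, mul_assoc, IsUnit.mul_val_inv, mul_one]
    rw [h5]
    exact Ideal.mul_mem_right _ _ (Ideal.mem_map_of_mem _ hTr)

/-- **additivity of the localized lengths under linkage** at a minimal prime of the Gorenstein
ideal `𝔠`: `ℓ((R/𝔠)_q) = ℓ((R/I)_q) + ℓ((R/(𝔠:I))_q)`. -/
theorem locLen_linked (𝔠 I : Ideal R) [hG : IsGorensteinRing (R ⧸ 𝔠)] (h𝔠I : 𝔠 ≤ I)
    (q : Ideal R) [hq : q.IsPrime] (hqmin : q ∈ 𝔠.minimalPrimes) :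
    locLen (R ⧸ 𝔠) ⟨q, hq⟩ =
      locLen (R ⧸ I) ⟨q, hq⟩ + locLen (R ⧸ 𝔠.colon (I : Set R)) ⟨q, hq⟩ := by
  have h𝔠q : 𝔠 ≤ q := hqmin.1.2
  have h𝔠J : 𝔠 ≤ 𝔠.colon (I : Set R) := by
    intro x hx
    rw [Submodule.mem_colon]
    intro i _
    exact 𝔠.mul_mem_right _ hx
  -- the Artinian Gorenstein local ring `A₁ = R_q / 𝔠 R_q`
  haveI hqbar : (q.map (Ideal.Quotient.mk 𝔠)).IsPrime :=
    Ideal.map_isPrime_of_surjective Ideal.Quotient.mk_surjective (by rwa [Ideal.mk_ker])
  have hqbarmin : q.map (Ideal.Quotient.mk 𝔠) ∈ minimalPrimes (R ⧸ 𝔠) := by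
    rw [Ideal.minimalPrimes_eq_comap] at hqmin
    obtain ⟨q', hq', hq'q⟩ := hqmin
    rw [← hq'q, Ideal.map_comap_of_surjective _ Ideal.Quotient.mk_surjective]
    exact hq'
  obtain ⟨e⟩ := Groth.Agent.Lib.helper26.QFinFlat.nonempty_quotLocEquiv' 𝔠 q h𝔠q
  haveI : IsNoetherianRing (R ⧸ 𝔠) := hG.toIsNoetherian
  haveI hG₁ : IsGorensteinLocalRing
      (Localization.AtPrime q ⧸ 𝔠.map (algebraMap R (Localization.AtPrime q))) :=
    Groth.Agent.Lib.helper17.GorIso.isGorensteinLocalRing_of_ringEquiv e.symm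
      (hG.isGorensteinLocalRing_localization _)
  haveI : IsLocalRing (Localization.AtPrime q ⧸ 𝔠.map (algebraMap R (Localization.AtPrime q))) :=
    hG₁.toIsLocalRing
  haveI : IsArtinianRing
      (Localization.AtPrime q ⧸ 𝔠.map (algebraMap R (Localization.AtPrime q))) := by
    rw [isArtinianRing_iff_krullDimLE_zero, Ring.krullDimLE_iff, ← ringKrullDim_eq_of_ringEquiv e,
      IsLocalization.AtPrime.ringKrullDim_eq_height (q.map (Ideal.Quotient.mk 𝔠)),
      Ideal.height_eq_zero_iff.mpr hqbarmin]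
    rfl
  haveI : Module.Injective
      (Localization.AtPrime q ⧸ 𝔠.map (algebraMap R (Localization.AtPrime q)))
      (Localization.AtPrime q ⧸ 𝔠.map (algebraMap R (Localization.AtPrime q))) :=
    injective_of_isGorensteinLocalRing _
  have key := length_quot_add_length_quot_ann
    (Localization.AtPrime q ⧸ 𝔠.map (algebraMap R (Localization.AtPrime q)))
    ((I.map (algebraMap R (Localization.AtPrime q))).map (Ideal.Quotient.mk _))
    (((𝔠.colon (I : Set R)).map (algebraMap R (Localization.AtPrime q))).map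
      (Ideal.Quotient.mk _))
    (mem_map_colon_iff 𝔠 I q (Localization.AtPrime q))
  rw [locLen_quotient q 𝔠, locLen_quotient q I, locLen_quotient q (𝔠.colon (I : Set R)),
    length_quotient_eq _ _ (Ideal.map_mono (f := algebraMap R (Localization.AtPrime q)) h𝔠I),
    length_quotient_eq _ _ (Ideal.map_mono (f := algebraMap R (Localization.AtPrime q)) h𝔠J),
    key]
  rw [length_quotient_eq _ _ (le_refl (𝔠.map (algebraMap R (Localization.AtPrime q))))]
  have hbot : (𝔠.map (algebraMap R (Localization.AtPrime q))).map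
      (Ideal.Quotient.mk (𝔠.map (algebraMap R (Localization.AtPrime q)))) = ⊥ :=
    Ideal.map_quotient_self _
  exact (Submodule.quotEquivOfEqBot _ hbot).length_eq

end Linked

end Groth.Agent.Lib.helper2.Liaison
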