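import Mathlib
import Groth.Prelude.Def_GrSyz
import Groth.Agent.Lib.Helper2.Liaison6
import Groth.Agent.Lib.Helper26.GrHS4
import Groth.Agent.Lib.Helper26.AffEquidim
import Groth.Agent.Lib.Helper20.StdGr

/-!
# Liaison, part 7 (helper2): the degree of a linked ideal, `deg (𝔠 : I) = deg 𝔠 - deg I`
-/

set_option autoImplicit false
set_option linter.unusedSectionVars false
universe u

open LocCoh IsLocalRing

namespace Groth.Agent.Lib.helper2.Liaison

section Poly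

open Polynomial

/-- the coefficient of `X^d` in `H(X+1) - H(X)` for `deg H ≤ d + 1`. -/
lemma coeff_comp_sub (H : ℚ[X]) (d : ℕ) (hd : H.natDegree ≤ d + 1) :
    (H.comp (X + C 1) - H).coeff d = ((d : ℚ) + 1) * H.coeff (d + 1) := by
  rw [coeff_sub, ← taylor_apply, taylor_coeff]
  have h1 : (hasseDeriv d H).natDegree < 2 := by
    have := natDegree_hasseDeriv_le H d
    omega
  rw [eval_eq_sum_range' h1, Finset.sum_range_succ, Finset.sum_range_one, hasseDeriv_coeff,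
    hasseDeriv_coeff]
  simp only [zero_add, Nat.choose_self, Nat.cast_one, one_mul, pow_zero, mul_one, one_pow]
  rw [add_comm 1 d, Nat.choose_succ_self_right]
  push_cast
  ring

end Poly

section Conv

open MvPolynomial Module

attribute [local instance] MvPolynomial.gradedAlgebra

variable {k : Type u} [Field k] {σ : Type} [Finite σ]

/-- homogeneity for the `ℤ`-indexed standard grading implies homogeneity for the `ℕ`-grading -/
theorem isHomogeneous_nat_of_int {I : Ideal (MvPolynomial σ k)}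
    (hI : I.IsHomogeneous (GrSyz.stdGr k σ)) : I.IsHomogeneous (homogeneousSubmodule σ k) := by
  rw [← hI.toIdeal_homogeneousCore_eq_self]
  change (Ideal.span _).IsHomogeneous _
  apply Ideal.homogeneous_span
  rintro x ⟨⟨y, ⟨m, hm⟩⟩, -, rfl⟩
  change SetLike.IsHomogeneousElem (homogeneousSubmodule σ k) y
  rcases (Groth.Agent.Lib.helper20.StdGr.mem_stdGr_iff'.mp hm) with ⟨-, h⟩ | ⟨-, h⟩
  · exact ⟨_, h⟩
  · rw [h]; exact ⟨0, Submodule.zero_mem _⟩

lemma stdGr_natCast_eq (j : ℕ) : GrSyz.stdGr k σ (j : ℤ) = homogeneousSubmodule σ k j :=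
  Submodule.ext fun _ => Groth.Agent.Lib.helper20.StdGr.mem_stdGr_natCast_iff

open Groth.Agent.Lib.helper26.HilbHyper in
/-- the Hilbert function in the form of the statements vs. helper26's form -/
theorem finrank_map_stdGr (𝔞 : Ideal (MvPolynomial σ k)) (j : ℕ) :
    (finrank k ↥(Submodule.map (Ideal.Quotient.mkₐ k 𝔞).toLinearMap (GrSyz.stdGr k σ (j : ℤ))) : ℚ)
      = (finrank k (homogeneousSubmodule σ k j) : ℚ) - finrank k (part 𝔞 j) := by
  rw [stdGr_natCast_eq]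
  set V := homogeneousSubmodule σ k j with hV
  set f := (Ideal.Quotient.mkₐ k 𝔞).toLinearMap with hf
  have h1 := LinearMap.finrank_range_add_finrank_ker (f.domRestrict V)
  rw [LinearMap.range_domRestrict, LinearMap.ker_domRestrict] at h1
  have h2 : finrank k ↥(Submodule.comap V.subtype (LinearMap.ker f)) = finrank k (part 𝔞 j) := by
    have e : Submodule.comap V.subtype (LinearMap.ker f) ≃ₗ[k] part 𝔞 j :=
      { toFun := fun x => ⟨x.1.1, by
          have hx := x.2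
          rw [Submodule.mem_comap, LinearMap.mem_ker] at hx
          rw [mem_part]
          refine ⟨?_, (mem_homogeneousSubmodule _ _).mp x.1.2⟩
          exact Ideal.Quotient.eq_zero_iff_mem.mp hx⟩
        map_add' := fun _ _ => rfl
        map_smul' := fun _ _ => rfl
        invFun := fun y => ⟨⟨y.1, (mem_homogeneousSubmodule _ _).mpr (mem_part.mp y.2).2⟩, by
          rw [Submodule.mem_comap, LinearMap.mem_ker]
          exact Ideal.Quotient.eq_zero_iff_mem.mpr (mem_part.mp y.2).1⟩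
        left_inv := fun _ => rfl
        right_inv := fun _ => rfl }
    exact e.finrank_eq
  rw [h2] at h1
  rw [← h1]
  push_cast
  ring

/-- the ideal quotient of homogeneous ideals is homogeneous -/
theorem colon_isHomogeneous {𝔠 I : Ideal (MvPolynomial σ k)}
    (h𝔠 : 𝔠.IsHomogeneous (homogeneousSubmodule σ k))
    (hI : I.IsHomogeneous (homogeneousSubmodule σ k)) :
    (𝔠.colon (I : Set (MvPolynomial σ k))).IsHomogeneous (homogeneousSubmodule σ k) := by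
  classical
  intro i x hx
  rw [Submodule.mem_colon] at hx ⊢
  -- enough to test on homogeneous elements of `I`
  have key : ∀ (e : ℕ) (s : MvPolynomial σ k), s ∈ homogeneousSubmodule σ k e → s ∈ I →
      ((DirectSum.decompose (homogeneousSubmodule σ k) x i : MvPolynomial σ k)) * s ∈ 𝔠 := by
    intro e s hs hsI
    have h1 : x * s ∈ 𝔠 := by
      have := hx s hsI
      rwa [smul_eq_mul] at this
    have h2 := h𝔠 (i + e) h1
    rwa [DirectSum.coe_decompose_mul_add_of_right_mem (homogeneousSubmodule σ k) hs] at h2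
  intro s hs
  rw [smul_eq_mul]
  rw [← DirectSum.sum_support_decompose (homogeneousSubmodule σ k) s, Finset.mul_sum]
  refine Ideal.sum_mem _ fun e _ => ?_
  exact key e _ (DirectSum.decompose (homogeneousSubmodule σ k) s e).2 (hI e hs)

end Conv

section Main

open MvPolynomial Module
open Groth.Agent.Lib.helper26.HS Groth.Agent.Lib.helper26.GrHS Groth.Agent.Lib.helper26.HilbHyper

attribute [local instance] MvPolynomial.gradedAlgebra

variable {k : Type u} [Field k] {σ : Type} [Finite σ]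

/-- `ht p + dim R/p = N` for primes of the polynomial ring -/
theorem height_add_dim_eq (p : Ideal (MvPolynomial σ k)) [p.IsPrime] :
    (p.height : WithBot ℕ∞) + ringKrullDim (MvPolynomial σ k ⧸ p) = (Nat.card σ : WithBot ℕ∞) := by
  have h := Groth.Agent.Lib.helper26.DimFormula.height_add_dim_quotient_of_domain k
    (MvPolynomial σ k) p
  rw [h, MvPolynomial.ringKrullDim_of_isNoetherianRing, ringKrullDim_eq_zero_of_field, zero_add]

/-- (F1) `dim R/𝔞 ≤ d` if `ht 𝔞 ≥ c`, `c + d = N`. -/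
theorem ringKrullDim_quotient_le_of_le_height (𝔞 : Ideal (MvPolynomial σ k)) (c d : ℕ)
    (hcd : c + d = Nat.card σ) (h : (c : ℕ∞) ≤ 𝔞.height) :
    ringKrullDim (MvPolynomial σ k ⧸ 𝔞) ≤ d := by
  apply Groth.Agent.Lib.Helper24.CatEquidim.ringKrullDim_le_of_forall_minimalPrimes
  intro P hP
  haveI : P.IsPrime := hP.1.1
  set p := P.comap (Ideal.Quotient.mk 𝔞) with hp
  haveI : p.IsPrime := Ideal.comap_isPrime _ _
  have h𝔞p : 𝔞 ≤ p := by
    intro x hx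
    rw [hp, Ideal.mem_comap, Ideal.Quotient.eq_zero_iff_mem.mpr hx]
    exact P.zero_mem
  have hPmap : p.map (Ideal.Quotient.mk 𝔞) = P :=
    Ideal.map_comap_of_surjective _ Ideal.Quotient.mk_surjective P
  have e : ((MvPolynomial σ k ⧸ 𝔞) ⧸ P) ≃+* (MvPolynomial σ k ⧸ p) := by
    rw [← hPmap]
    exact DoubleQuot.quotQuotEquivQuotOfLE h𝔞p
  rw [ringKrullDim_eq_of_ringEquiv e]
  have h1 := height_add_dim_eq p
  have h2 : (c : ℕ∞) ≤ p.height := h.trans (Ideal.height_mono h𝔞p)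
  obtain ⟨hh, hhe⟩ := ENat.ne_top_iff_exists.mp (Ideal.height_ne_top_of_isPrime (I := p))
  rw [← hhe] at h1 h2
  have h3 : c ≤ hh := by exact_mod_cast h2
  have hnt : Nontrivial (MvPolynomial σ k ⧸ p) :=
    Ideal.Quotient.nontrivial_iff.2 (Ideal.IsPrime.ne_top inferInstance)
  induction hx : ringKrullDim (MvPolynomial σ k ⧸ p) using WithBot.recBotCoe with
  | bot => exact bot_le
  | coe a =>
    rw [hx] at h1
    induction a using ENat.recTopCoe with
    | top =>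
      exfalso
      have : ((hh : ℕ∞) : WithBot ℕ∞) + ((⊤ : ℕ∞) : WithBot ℕ∞) = ((⊤ : ℕ∞) : WithBot ℕ∞) := by
        rw [← WithBot.coe_add]; simp
      rw [this] at h1
      have h4 : (⊤ : ℕ∞) = ((Nat.card σ : ℕ) : ℕ∞) := by exact_mod_cast h1
      exact ENat.top_ne_natCast _ h4
    | coe a =>
      have h4 : hh + a = Nat.card σ := by exact_mod_cast h1
      have : a ≤ d := by omega
      exact_mod_cast this

/-- (F2) the local lengths at a prime of coheight `d`. -/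
theorem locLen_linked' (𝔠 I : Ideal (MvPolynomial σ k)) (c d : ℕ) (hcd : c + d = Nat.card σ)
    [IsGorensteinRing (MvPolynomial σ k ⧸ 𝔠)] (h𝔠c : 𝔠.height = c) (h𝔠I : 𝔠 ≤ I)
    (q : PrimeSpectrum (MvPolynomial σ k))
    (hqd : ringKrullDim (MvPolynomial σ k ⧸ q.asIdeal) = d) :
    locLen (MvPolynomial σ k ⧸ 𝔠) q =
      locLen (MvPolynomial σ k ⧸ I) q +
        locLen (MvPolynomial σ k ⧸ 𝔠.colon (I : Set (MvPolynomial σ k))) q := by
  have h𝔠J : 𝔠 ≤ 𝔠.colon (I : Set (MvPolynomial σ k)) := by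
    intro x hx
    rw [Submodule.mem_colon]
    intro i _
    exact 𝔠.mul_mem_right _ hx
  by_cases h𝔠q : 𝔠 ≤ q.asIdeal
  · have h1 := height_add_dim_eq q.asIdeal
    rw [hqd] at h1
    obtain ⟨hh, hhe⟩ := ENat.ne_top_iff_exists.mp (Ideal.height_ne_top_of_isPrime (I := q.asIdeal))
    rw [← hhe] at h1
    have h2 : hh + d = Nat.card σ := by exact_mod_cast h1
    have h3 : hh = c := by omega
    have hmin : q.asIdeal ∈ 𝔠.minimalPrimes := by
      refine Ideal.mem_minimalPrimes_of_height_le h𝔠q ?_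
      rw [h𝔠c, ← hhe, h3]
    exact locLen_linked 𝔠 I h𝔠I q.asIdeal hmin
  · have h0 : ∀ 𝔞 : Ideal (MvPolynomial σ k), 𝔠 ≤ 𝔞 → locLen (MvPolynomial σ k ⧸ 𝔞) q = 0 := by
      intro 𝔞 h𝔞
      rw [locLen_eq_zero_iff, Module.mem_support_iff_of_finite, Ideal.annihilator_quotient]
      intro h
      exact h𝔠q (h𝔞.trans h)
    rw [h0 𝔠 le_rfl, h0 I h𝔠I, h0 _ h𝔠J, add_zero]

/-- the top coefficients of the Hilbert–Samuel polynomials of linked ideals add up. -/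
theorem coeff_hsPoly_linked (𝔠 I : Ideal (MvPolynomial σ k)) (c d : ℕ) (hcd : c + d = Nat.card σ)
    [IsGorensteinRing (MvPolynomial σ k ⧸ 𝔠)] (h𝔠c : 𝔠.height = c) (h𝔠I : 𝔠 ≤ I)
    {H𝔠 HI HJ : Polynomial ℚ}
    (hH𝔠 : IsHSPoly (mI k σ) (MvPolynomial σ k ⧸ 𝔠) H𝔠)
    (hHI : IsHSPoly (mI k σ) (MvPolynomial σ k ⧸ I) HI)
    (hHJ : IsHSPoly (mI k σ) (MvPolynomial σ k ⧸ 𝔠.colon (I : Set (MvPolynomial σ k))) HJ) :
    (H𝔠.natDegree ≤ d ∧ HI.natDegree ≤ d ∧ HJ.natDegree ≤ d) ∧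
      H𝔠.coeff d = HI.coeff d + HJ.coeff d := by
  classical
  have h𝔠J : 𝔠 ≤ 𝔠.colon (I : Set (MvPolynomial σ k)) := by
    intro x hx
    rw [Submodule.mem_colon]
    intro i _
    exact 𝔠.mul_mem_right _ hx
  -- supports
  have hsd : ∀ 𝔞 : Ideal (MvPolynomial σ k), 𝔠 ≤ 𝔞 →
      Module.supportDim (MvPolynomial σ k) (MvPolynomial σ k ⧸ 𝔞) ≤ d := by
    intro 𝔞 h𝔞
    rw [Module.supportDim_quotient_eq_ringKrullDim]
    refine ringKrullDim_quotient_le_of_le_height 𝔞 c d hcd ?_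
    rw [← h𝔠c]
    exact Ideal.height_mono h𝔞
  have hdeg : ∀ (𝔞 : Ideal (MvPolynomial σ k)) (H : Polynomial ℚ), 𝔠 ≤ 𝔞 →
      IsHSPoly (mI k σ) (MvPolynomial σ k ⧸ 𝔞) H → H.natDegree ≤ d := fun 𝔞 H h𝔞 hH =>
    natDegree_le_of_supportDim_le (mI k σ) d _ (hone _) H hH (hsd 𝔞 h𝔞)
  refine ⟨⟨hdeg _ _ le_rfl hH𝔠, hdeg _ _ h𝔠I hHI, hdeg _ _ h𝔠J hHJ⟩, ?_⟩
  -- multiplicities of the primes
  let Hp : PrimeSpectrum (MvPolynomial σ k) → Polynomial ℚ := fun q =>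
    Classical.choose (exists_isHSPoly (mI k σ) (hone (MvPolynomial σ k ⧸ q.asIdeal)))
  have hHp : ∀ q, IsHSPoly (mI k σ) (MvPolynomial σ k ⧸ q.asIdeal) (Hp q) := fun q =>
    Classical.choose_spec (exists_isHSPoly (mI k σ) (hone (MvPolynomial σ k ⧸ q.asIdeal)))
  let e : PrimeSpectrum (MvPolynomial σ k) → ℝ := fun q =>
    (d.factorial : ℝ) * (((Hp q).coeff d : ℚ) : ℝ)
  have he : ∀ q : PrimeSpectrum (MvPolynomial σ k),
      ringKrullDim (MvPolynomial σ k ⧸ q.asIdeal) = d →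
      Filter.Tendsto (fun t : ℕ => (d.factorial : ℝ) *
        ((hs (mI k σ) (MvPolynomial σ k ⧸ q.asIdeal) t).toNat : ℝ) / (t : ℝ) ^ d) Filter.atTop
        (nhds (e q)) := by
    intro q hq
    refine tendsto_coeff (mI k σ) (hHp q) d ?_
    exact natDegree_le_of_supportDim_le (mI k σ) d _ (hone _) (Hp q) (hHp q)
      (by rw [Module.supportDim_quotient_eq_ringKrullDim, hq])
  have hkey : ∀ (𝔞 : Ideal (MvPolynomial σ k)) (H : Polynomial ℚ), 𝔠 ≤ 𝔞 →
      IsHSPoly (mI k σ) (MvPolynomial σ k ⧸ 𝔞) H →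
      (d.factorial : ℝ) * ((H.coeff d : ℚ) : ℝ) = rhs d e (MvPolynomial σ k ⧸ 𝔞) := by
    intro 𝔞 H h𝔞 hH
    exact tendsto_nhds_unique (tendsto_coeff (mI k σ) hH d (hdeg 𝔞 H h𝔞 hH))
      (tendsto_rhs (mI k σ) hone d e he (MvPolynomial σ k ⧸ 𝔞) (hsd 𝔞 h𝔞))
  have hrhs : rhs d e (MvPolynomial σ k ⧸ 𝔠) = rhs d e (MvPolynomial σ k ⧸ I) +
      rhs d e (MvPolynomial σ k ⧸ 𝔠.colon (I : Set (MvPolynomial σ k))) := by
    rw [rhs_eq, rhs_eq, rhs_eq, ← finsum_add_distrib (support_finite d e (hsd I h𝔠I))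
      (support_finite d e (hsd _ h𝔠J))]
    apply finsum_congr
    intro q
    by_cases hqd : ringKrullDim (MvPolynomial σ k ⧸ q.asIdeal) = d
    · simp only [if_pos hqd]
      rw [← add_mul, locLen_linked' 𝔠 I c d hcd h𝔠c h𝔠I q hqd,
        ENat.toNat_add (locLen_ne_top (hsd I h𝔠I) hqd) (locLen_ne_top (hsd _ h𝔠J) hqd)]
      push_cast
      rfl
    · simp only [if_neg hqd, add_zero]
  have h1 := hkey 𝔠 H𝔠 le_rfl hH𝔠
  have h2 := hkey I HI h𝔠I hHI
  have h3 := hkey _ HJ h𝔠J hHJ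
  rw [hrhs, ← h2, ← h3, ← mul_add] at h1
  have hfac : (d.factorial : ℝ) ≠ 0 := by exact_mod_cast d.factorial_ne_zero
  have h4 := mul_left_cancel₀ hfac h1
  exact_mod_cast h4

/-- **Degree of a linked ideal**: for Hilbert polynomials, in degree `d - 1` (`d = dim R/𝔠`). -/
theorem coeff_hilbPoly_linked (𝔠 I : Ideal (MvPolynomial σ k)) (c d : ℕ)
    (hcd : c + (d + 1) = Nat.card σ)
    (h𝔠 : 𝔠.IsHomogeneous (homogeneousSubmodule σ k))
    (hI : I.IsHomogeneous (homogeneousSubmodule σ k))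
    [IsGorensteinRing (MvPolynomial σ k ⧸ 𝔠)] (h𝔠c : 𝔠.height = c) (h𝔠I : 𝔠 ≤ I)
    {P𝔠 PI PJ : Polynomial ℚ} (hP𝔠 : IsHilbPoly 𝔠 P𝔠) (hPI : IsHilbPoly I PI)
    (hPJ : IsHilbPoly (𝔠.colon (I : Set (MvPolynomial σ k))) PJ) :
    PJ.coeff d = P𝔠.coeff d - PI.coeff d := by
  have hJ := colon_isHomogeneous h𝔠 hI
  obtain ⟨H𝔠, hH𝔠⟩ := exists_isHSPoly (mI k σ) (hs_one_ne_top 𝔠 h𝔠)
  obtain ⟨HI, hHI⟩ := exists_isHSPoly (mI k σ) (hs_one_ne_top I hI)
  obtain ⟨HJ, hHJ⟩ := exists_isHSPoly (mI k σ) (hs_one_ne_top _ hJ)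
  obtain ⟨⟨d1, d2, d3⟩, hsum⟩ := coeff_hsPoly_linked 𝔠 I c (d + 1) hcd h𝔠c h𝔠I hH𝔠 hHI hHJ
  rw [← hilbert_sub 𝔠 h𝔠 hH𝔠 hP𝔠, ← hilbert_sub I hI hHI hPI, ← hilbert_sub _ hJ hHJ hPJ,
    coeff_comp_sub _ d d1, coeff_comp_sub _ d d2, coeff_comp_sub _ d d3, hsum]
  ring

/-- the Hilbert polynomial hypothesis in the form of the statements -/
theorem isHilbPoly_of_stdGr (𝔞 : Ideal (MvPolynomial σ k)) (p : Polynomial ℚ)
    (h : ∃ j₀ : ℕ, ∀ j : ℕ, j₀ ≤ j →
      (finrank k ↥(Submodule.map (Ideal.Quotient.mkₐ k 𝔞).toLinearMap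
        (GrSyz.stdGr k σ (j : ℤ))) : ℚ) = p.eval (j : ℚ)) : IsHilbPoly 𝔞 p := by
  obtain ⟨j₀, h⟩ := h
  exact ⟨j₀, fun j hj => by rw [← h j hj, finrank_map_stdGr]⟩

/-- **Degree of a linked ideal**, in the form of the statement. -/
theorem coeff_linked_stdGr (𝔠 I : Ideal (MvPolynomial σ k)) (c d : ℕ)
    (hcd : c + (d + 1) = Nat.card σ)
    (h𝔠 : 𝔠.IsHomogeneous (GrSyz.stdGr k σ)) (hI : I.IsHomogeneous (GrSyz.stdGr k σ))
    [IsGorensteinRing (MvPolynomial σ k ⧸ 𝔠)] (h𝔠c : 𝔠.height = c) (h𝔠I : 𝔠 ≤ I)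
    (p𝔠 pI pJ : Polynomial ℚ)
    (hp𝔠 : ∃ j₀ : ℕ, ∀ j : ℕ, j₀ ≤ j →
      (finrank k ↥(Submodule.map (Ideal.Quotient.mkₐ k 𝔠).toLinearMap
        (GrSyz.stdGr k σ (j : ℤ))) : ℚ) = p𝔠.eval (j : ℚ))
    (hpI : ∃ j₀ : ℕ, ∀ j : ℕ, j₀ ≤ j →
      (finrank k ↥(Submodule.map (Ideal.Quotient.mkₐ k I).toLinearMap
        (GrSyz.stdGr k σ (j : ℤ))) : ℚ) = pI.eval (j : ℚ))
    (hpJ : ∃ j₀ : ℕ, ∀ j : ℕ, j₀ ≤ j →
      (finrank k ↥(Submodule.map (Ideal.Quotient.mkₐ k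
        (𝔠.colon (I : Set (MvPolynomial σ k)))).toLinearMap
        (GrSyz.stdGr k σ (j : ℤ))) : ℚ) = pJ.eval (j : ℚ)) :
    pJ.coeff d = p𝔠.coeff d - pI.coeff d :=
  coeff_hilbPoly_linked 𝔠 I c d hcd (isHomogeneous_nat_of_int h𝔠) (isHomogeneous_nat_of_int hI)
    h𝔠c h𝔠I (isHilbPoly_of_stdGr _ _ hp𝔠) (isHilbPoly_of_stdGr _ _ hpI)
    (isHilbPoly_of_stdGr _ _ hpJ)

end Main

end Groth.Agent.Lib.helper2.Liaison
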