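import Mathlib
import Groth.Agent.Lib.Helper13.UCA2
import Groth.Agent.Lib.Helper13.Normal6
import Groth.Agent.Lib.Helper13.KrAk4

/-!
# helper2: cofiltered limits of schemes with affine transition maps: sections, points and primes
-/

set_option autoImplicit false
universe u
open CategoryTheory CategoryTheory.Limits AlgebraicGeometry TopologicalSpace Opposite IsLocalRing

namespace Groth.Agent.Lib.helper2.LimCyc

open Groth.Agent.Lib.helper13.UCA Groth.Agent.Lib.helper13.Normal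

variable {J : Type u} [Category.{u} J] [IsCofiltered J] (D : J ⥤ Scheme.{u}) (c : Cone D)
  (hc : IsLimit c) [∀ {i j} (f : i ⟶ j), IsAffineHom (D.map f)]

set_option backward.defeqAttrib.useBackward true in
set_option backward.isDefEq.respectTransparency false in
open Scheme.Opens in
include hc in
/-- sections of the limit over the preimage of an affine open come from a finite stage -/
theorem exists_appLE_eq (i : J) (U : (D.obj i).Opens) (hU : IsAffineOpen U)
    (s : Γ(c.pt, c.π.app i ⁻¹ᵁ U)) :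
    ∃ (j : J) (f : j ⟶ i) (t : Γ(D.obj j, D.map f ⁻¹ᵁ U)),
      (c.π.app j).appLE (D.map f ⁻¹ᵁ U) (c.π.app i ⁻¹ᵁ U)
        (by rw [← Scheme.Hom.comp_preimage, c.w]) t = s := by
  have (j : _) : IsAffine ((opensDiagram D i U).op.obj j).unop := hU.preimage _
  have (j : _) : IsAffine ((opensDiagram D i U).obj j) := hU.preimage _
  obtain ⟨⟨j⟩, t, ht⟩ := (Types.jointly_surjective_of_isColimit (isColimitOfPreserves
    (Scheme.Γ ⋙ forget _) (isLimitOpensCone D c hc i U).op) ((c.π.app i ⁻¹ᵁ U).topIso.inv s))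
  obtain ⟨t, rfl⟩ := (D.map j.hom ⁻¹ᵁ U).topIso.symm.commRingCatIsoToRingEquiv.surjective t
  have h : c.π.app j.left ⁻¹ᵁ D.map j.hom ⁻¹ᵁ U = c.π.app i ⁻¹ᵁ U := congr($(c.w j.hom) ⁻¹ᵁ U)
  have : s = (c.π.app j.left).appLE (D.map j.hom ⁻¹ᵁ U) (c.π.app i ⁻¹ᵁ U) h.ge t := by
    convert!
      show s = ((topIso _).inv ≫ ((opensCone D c i U).π.app j).appTop ≫ (topIso _).hom) t from
        (c.π.app i ⁻¹ᵁ U).topIso.commRingCatIsoToRingEquiv.symm_apply_eq.mp ht.symm using 3
    simp [Scheme.Hom.app_eq_appLE, Scheme.Hom.resLE_appLE]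
  exact ⟨j.left, j.hom, t, this.symm⟩

theorem map_maximalIdeal_le_of_fac {X' Y Z : Scheme.{u}} (p : X' ⟶ Y) (g : Y ⟶ Z) (q : X' ⟶ Z)
    (h : p ≫ g = q) (x' : X') :
    Ideal.map (q.stalkMap x').hom (maximalIdeal (Z.presheaf.stalk (q x'))) ≤
      Ideal.map (p.stalkMap x').hom (maximalIdeal (Y.presheaf.stalk (p x'))) := by
  subst h
  rw [Scheme.Hom.stalkMap_comp]
  change Ideal.map ((p.stalkMap x').hom.comp (g.stalkMap (p x')).hom) _ ≤ _
  rw [← Ideal.map_map]
  apply Ideal.map_mono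
  exact ((IsLocalRing.local_hom_TFAE (g.stalkMap (p x')).hom).out 0 2 rfl rfl).mp inferInstance

theorem range_residueFieldMap_le_of_fac {X' Y Z : Scheme.{u}} (p : X' ⟶ Y) (g : Y ⟶ Z)
    (q : X' ⟶ Z) (h : p ≫ g = q) (x' : X') (φ : X'.residueField x')
    (hφ : φ ∈ Set.range (q.residueFieldMap x').hom) :
    φ ∈ Set.range (p.residueFieldMap x').hom := by
  subst h
  obtain ⟨ψ, rfl⟩ := hφ
  rw [Scheme.residueFieldMap_comp]
  exact ⟨(g.residueFieldMap (p x')).hom ψ, rfl⟩

include hc in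
/-- germs of the limit come from a finite stage -/
theorem exists_stalkMap_eq (x' : c.pt) (a : c.pt.presheaf.stalk x') :
    ∃ (j : J) (b : (D.obj j).presheaf.stalk (c.π.app j x')), (c.π.app j).stalkMap x' b = a := by
  obtain ⟨W, hxW, s, rfl⟩ := c.pt.presheaf.exists_germ_eq a
  obtain ⟨_, ⟨_, ⟨i, V, hV, rfl⟩, rfl⟩, hxV, hVW⟩ :=
    (isBasis_preimage_isAffineOpen D c hc).exists_subset_of_mem_open hxW W.isOpen
  obtain ⟨j, f, t, ht⟩ := exists_appLE_eq D c hc i V hV (c.pt.presheaf.map (homOfLE hVW).op s)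
  have hxj : c.π.app j x' ∈ D.map f ⁻¹ᵁ V := by
    show (D.map f) (c.π.app j x') ∈ V
    rw [← Scheme.Hom.comp_apply, c.w]
    exact hxV
  refine ⟨j, (D.obj j).presheaf.germ _ (c.π.app j x') hxj t, ?_⟩
  rw [Scheme.Hom.germ_stalkMap_apply]
  have h1 : c.pt.presheaf.germ W x' hxW s =
      c.pt.presheaf.germ (c.π.app i ⁻¹ᵁ V) x' hxV (c.pt.presheaf.map (homOfLE hVW).op s) :=
    (c.pt.presheaf.germ_res_apply (homOfLE hVW) x' hxV s).symm
  rw [h1, ← ht, Scheme.Hom.appLE, CommRingCat.comp_apply]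
  exact (c.pt.presheaf.germ_res_apply _ x' _ _).symm

include hc in
theorem apply_eq_of_apply_eq {k j : J} (h : k ⟶ j) (x' y' : c.pt)
    (hxy : c.π.app k y' = c.π.app k x') : c.π.app j y' = c.π.app j x' := by
  have e1 : c.π.app j y' = (D.map h) (c.π.app k y') := by
    rw [← Scheme.Hom.comp_apply, c.w]
  have e2 : c.π.app j x' = (D.map h) (c.π.app k x') := by
    rw [← Scheme.Hom.comp_apply, c.w]
  rw [e1, e2, hxy]

include hc in
/-- **points descend**: at every late enough stage `k`, a point `x'` of a locally Noetherian limit is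
the only generic point of its fibre over the stage, and the maximal ideal of its local ring is
generated by that of the local ring of its image -/
theorem exists_stage_point [IsLocallyNoetherian c.pt] (x' : c.pt) :
    ∃ j₀ : J, ∀ (k : J) (_ : k ⟶ j₀),
      Ideal.map ((c.π.app k).stalkMap x').hom
          (maximalIdeal ((D.obj k).presheaf.stalk (c.π.app k x'))) =
        maximalIdeal (c.pt.presheaf.stalk x') ∧
      ∀ y' : c.pt, c.π.app k y' = c.π.app k x' → x' ⤳ y' := by
  classical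
  obtain ⟨i₀⟩ := IsCofiltered.nonempty (C := J)
  obtain ⟨_, ⟨U, hU : IsAffineOpen U, rfl⟩, hxU, -⟩ :=
    (D.obj i₀).isBasis_affineOpens.exists_subset_of_mem_open
      (Set.mem_univ (c.π.app i₀ x')) isOpen_univ
  haveI := isAffineHom_π_app D c hc i₀
  let U' : c.pt.Opens := c.π.app i₀ ⁻¹ᵁ U
  have hU' : IsAffineOpen U' := hU.preimage (c.π.app i₀)
  have hx' : x' ∈ U' := hxU
  haveI : IsNoetherianRing Γ(c.pt, U') :=
    IsLocallyNoetherian.component_noetherian ⟨U', hU'⟩
  obtain ⟨S, hS⟩ := (isNoetherianRing_iff_ideal_fg _).1 inferInstance (primeAt U' x' hx')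
  choose js fs ts hts using fun s : Γ(c.pt, U') => exists_appLE_eq D c hc i₀ U hU s
  obtain ⟨j₀, hj₀⟩ := IsCofiltered.inf_objs_exists (insert i₀ (S.image js))
  have g₀ : j₀ ⟶ i₀ := (hj₀ (Finset.mem_insert_self _ _)).some
  have gs : ∀ s ∈ S, j₀ ⟶ js s := fun s hs =>
    (hj₀ (Finset.mem_insert_of_mem (Finset.mem_image_of_mem _ hs))).some
  -- the sections `ts s` vanish at the image of `x'`
  have hbo : ∀ s : Γ(c.pt, U'), c.pt.basicOpen s =
      U' ⊓ (c.π.app (js s)) ⁻¹ᵁ ((D.obj (js s)).basicOpen (ts s)) := by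
    intro s
    conv_lhs => rw [← hts s]
    exact Scheme.basicOpen_appLE _ _ _ _ _
  have hvan : ∀ s ∈ S, c.π.app (js s) x' ∉ (D.obj (js s)).basicOpen (ts s) := by
    intro s hs hmem
    have h1 : s ∈ primeAt U' x' hx' := by
      rw [← hS]; exact Ideal.subset_span hs
    rw [mem_primeAt, hbo s] at h1
    exact h1 ⟨hx', hmem⟩
  refine ⟨j₀, fun k g => ⟨?_, ?_⟩⟩
  · refine le_antisymm
      (((IsLocalRing.local_hom_TFAE ((c.π.app k).stalkMap x').hom).out 0 2 rfl rfl).mp
        inferInstance) ?_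
    letI : Algebra Γ(c.pt, U') (c.pt.presheaf.stalk x') :=
      TopCat.Presheaf.algebra_section_stalk c.pt.presheaf ⟨x', hx'⟩
    haveI : IsLocalization.AtPrime (c.pt.presheaf.stalk x')
        (hU'.primeIdealOf ⟨x', hx'⟩).asIdeal := hU'.isLocalization_stalk ⟨x', hx'⟩
    have hmax := IsLocalization.AtPrime.map_eq_maximalIdeal
      (hU'.primeIdealOf ⟨x', hx'⟩).asIdeal (c.pt.presheaf.stalk x')
    rw [← hmax, ← Groth.Agent.Lib.helper13.KrAk.primeAt_eq_primeIdealOf hU' x' hx', ← hS,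
      Ideal.map_span, Ideal.span_le]
    rintro _ ⟨s, hs, rfl⟩
    have hfac : c.π.app k ≫ D.map (g ≫ gs s hs) = c.π.app (js s) := c.w _
    apply map_maximalIdeal_le_of_fac _ _ _ hfac x'
    have hxj : c.π.app (js s) x' ∈ D.map (fs s) ⁻¹ᵁ U := by
      show (D.map (fs s)) (c.π.app (js s) x') ∈ U
      rw [← Scheme.Hom.comp_apply, c.w]
      exact hxU
    have h2 : c.pt.presheaf.germ U' x' hx' s =
        ((c.π.app (js s)).stalkMap x').hom
          ((D.obj (js s)).presheaf.germ _ (c.π.app (js s) x') hxj (ts s)) := by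
      rw [Scheme.Hom.germ_stalkMap_apply]
      conv_lhs => rw [← hts s]
      rw [Scheme.Hom.appLE, CommRingCat.comp_apply]
      exact (c.pt.presheaf.germ_res_apply _ x' _ _)
    show c.pt.presheaf.germ U' x' hx' s ∈ _
    rw [h2]
    apply Ideal.mem_map_of_mem
    rw [IsLocalRing.mem_maximalIdeal, mem_nonunits_iff,
      ← Scheme.mem_basicOpen _ _ _ hxj]
    exact hvan s hs
  · intro y' hy'
    have hy'U : y' ∈ U' := by
      show c.π.app i₀ y' ∈ U
      rw [apply_eq_of_apply_eq D c hc (g ≫ g₀) x' y' hy']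
      exact hxU
    refine specializes_of_primeAt_le hU' x' y' hx' hy'U ?_
    rw [← hS, Ideal.span_le]
    intro s hs
    rw [SetLike.mem_coe, mem_primeAt, hbo s]
    rintro ⟨-, hmem⟩
    apply hvan s hs
    have : c.π.app (js s) y' = c.π.app (js s) x' :=
      apply_eq_of_apply_eq D c hc (g ≫ gs s hs) x' y' hy'
    rw [← this]
    exact hmem

end Groth.Agent.Lib.helper2.LimCyc
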