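import Mathlib
import Groth.Agent.Lib.Helper2.LimCyc1

/-!
# helper2: cofiltered limits of schemes with affine transition maps: fibres over a point
-/

set_option autoImplicit false
universe u
open CategoryTheory CategoryTheory.Limits AlgebraicGeometry TopologicalSpace Opposite IsLocalRing

namespace Groth.Agent.Lib.helper2.LimCyc

variable {J : Type u} [Category.{u} J] [IsCofiltered J] (D : J ⥤ Scheme.{u}) (c : Cone D)
  (hc : IsLimit c) [∀ {i j} (f : i ⟶ j), IsAffineHom (D.map f)]

set_option backward.isDefEq.respectTransparency false in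
include hc in
/-- if all the fibres over `x` of the transition maps to `D.obj i` are nonempty, so is the fibre of
the limit -/
theorem exists_point_of_fibres_nonempty (i : J) (x : D.obj i)
    (h : ∀ (j : J) (f : j ⟶ i), ∃ y : D.obj j, D.map f y = x) :
    ∃ y' : c.pt, c.π.app i y' = x := by
  let ι : Spec ((D.obj i).residueField x) ⟶ D.obj i := (D.obj i).fromSpecResidueField x
  let F := Over.post D ⋙ Over.pullback ι ⋙ Over.forget _
  have hF (i' : Over i) : IsAffine (F.obj i') :=
    have : IsAffineHom (pullback.snd (D.map i'.hom) ι) :=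
      MorphismProperty.pullback_snd _ _ inferInstance
    isAffine_of_isAffineHom (pullback.snd (D.map i'.hom) ι)
  have (i' : _) : Nonempty (F.obj i') := by
    obtain ⟨y, hy⟩ := h i'.left i'.hom
    have hx : ι (IsLocalRing.closedPoint _) = x :=
      Scheme.fromSpecResidueField_apply x (IsLocalRing.closedPoint _)
    obtain ⟨z, -, -⟩ := Scheme.Pullback.exists_preimage_pullback (f := D.map i'.hom) (g := ι)
      y (IsLocalRing.closedPoint _) (hy.trans hx.symm)
    exact ⟨z⟩
  have {a b : Over i} (f : a ⟶ b) : IsAffineHom (F.map f) := isAffineHom_of_isAffine _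
  have (i' : Over i) : CompactSpace (F.obj i') := inferInstance
  let e : F ⟶ (F ⋙ Scheme.Γ.rightOp) ⋙ Scheme.Spec := Functor.whiskerLeft F ΓSpec.adjunction.unit
  have (i : _) : IsIso (e.app i) := IsAffine.affine
  have : IsIso e := NatIso.isIso_of_isIso_app e
  let c' : LimitCone F := ⟨_, (IsLimit.postcomposeInvEquiv (asIso e) _).symm
    (isLimitOfPreserves Scheme.Spec (limit.isLimit (F ⋙ Scheme.Γ.rightOp)))⟩
  have hne : Nonempty c'.1.pt := Scheme.nonempty_of_isLimit F c'.1 c'.2
  let α : F ⟶ Over.forget _ ⋙ D := Functor.whiskerRight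
    (Functor.whiskerLeft (Over.post D) (Over.mapPullbackAdj ι).counit) (Over.forget _)
  let hc' := (Functor.Initial.isLimitWhiskerEquiv (Over.forget i) c).symm hc
  let φ : c'.1.pt ⟶ c.pt := hc'.lift ((Cone.postcompose α).obj c'.1)
  obtain ⟨s⟩ := hne
  refine ⟨φ s, ?_⟩
  have hfac : φ ≫ c.π.app i = c'.1.π.app (Over.mk (𝟙 i)) ≫ α.app (Over.mk (𝟙 i)) :=
    hc'.fac ((Cone.postcompose α).obj c'.1) (Over.mk (𝟙 i))
  have hα : α.app (Over.mk (𝟙 i)) = pullback.fst (D.map (𝟙 i)) ι := by
    simp [α, Over.mapPullbackAdj]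
    rfl
  have h1 : c.π.app i (φ s) = (α.app (Over.mk (𝟙 i))) ((c'.1.π.app (Over.mk (𝟙 i))) s) := by
    have := congrArg (fun m : c'.1.pt ⟶ D.obj i => m s) hfac
    exact this
  rw [h1]
  have key : ∀ (g : D.obj i ⟶ D.obj i) (_ : g = 𝟙 _) (t : ↥(pullback g ι)),
      (pullback.fst g ι) t = x := by
    intro g hg t
    subst hg
    have hcond := pullback.condition (f := 𝟙 (D.obj i)) (g := ι)
    rw [Category.comp_id] at hcond
    rw [hcond, Scheme.Hom.comp_apply]
    exact Scheme.fromSpecResidueField_apply x _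
  have h2 := key (D.map (𝟙 i)) (D.map_id i) ((c'.1.π.app (Over.mk (𝟙 i))) s)
  rw [← hα] at h2
  exact h2

include hc in
/-- an empty fibre of the limit is already empty at a finite stage -/
theorem exists_stage_fibre_empty (i : J) (x : D.obj i) (h : ∀ y' : c.pt, c.π.app i y' ≠ x) :
    ∃ (j : J) (f : j ⟶ i), ∀ y : D.obj j, D.map f y ≠ x := by
  by_contra hcon
  push_neg at hcon
  obtain ⟨y', hy'⟩ := exists_point_of_fibres_nonempty D c hc i x hcon
  exact h y' hy'

include hc in
/-- elements of the residue field of a point of the limit come from a finite stage -/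
theorem exists_stage_residue (x' : c.pt) (φ : c.pt.residueField x') :
    ∃ j₀ : J, ∀ (k : J) (_ : k ⟶ j₀),
      φ ∈ Set.range ((c.π.app k).residueFieldMap x').hom := by
  obtain ⟨a, rfl⟩ := Scheme.residue_surjective c.pt x' φ
  obtain ⟨j, b, hb⟩ := exists_stalkMap_eq D c hc x' a
  refine ⟨j, fun k g => ?_⟩
  apply range_residueFieldMap_le_of_fac (c.π.app k) (D.map g) (c.π.app j) (c.w g) x'
  refine ⟨(D.obj j).residue _ b, ?_⟩
  rw [← hb]
  exact congrArg (fun m => m.hom b) (Scheme.residue_residueFieldMap (c.π.app j) x')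

end Groth.Agent.Lib.helper2.LimCyc
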