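import Mathlib
import Groth.Prelude.Def_Cyc
import Groth.Agent.Lib.Helper2.LimCyc2
import Groth.Agent.Lib.Helper16.ShiftPull
import Groth.Agent.Lib.Helper2.AffB3

/-!
# helper2: cycles on a cofiltered limit of schemes with affine transition maps: injectivity
-/

set_option autoImplicit false
universe u
open CategoryTheory CategoryTheory.Limits AlgebraicGeometry TopologicalSpace Opposite IsLocalRing

namespace Groth.Agent.Lib.helper2.LimCyc

open Groth.Agent.Lib.helper16.GenFib Groth.Agent.Lib.helper16.ShiftPull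
  Groth.Agent.Lib.helper17.FibreStalk Groth.Agent.Lib.helper2.AffB

theorem toNat_length_fibRing_ne_zero {X' X : Scheme.{u}} (p : X' ⟶ X) [IsLocallyNoetherian X']
    (w : X') (hw : IsGenFib p w) :
    (Module.length (X'.presheaf.stalk w) (FibRing p w)).toNat ≠ 0 := by
  have hfin := isFiniteLength_fibRing_of_generic p w hw
  have hne : Nontrivial (FibRing p w) := by
    apply Ideal.Quotient.nontrivial_iff.mpr
    intro htop
    have hle : Ideal.map (p.stalkMap w).hom (maximalIdeal _) ≤
        maximalIdeal (X'.presheaf.stalk w) :=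
      ((IsLocalRing.local_hom_TFAE (p.stalkMap w).hom).out 0 2 rfl rfl).mp inferInstance
    rw [htop] at hle
    exact (maximalIdeal.isMaximal _).ne_top (top_le_iff.mp hle)
  intro h0
  rw [ENat.toNat_eq_zero] at h0
  rcases h0 with h0 | h0
  · rw [Module.length_eq_zero_iff] at h0
    exact not_subsingleton _ h0
  · exact (Module.length_ne_top_iff.mpr hfin) h0

/-- if the flat pullback of `α` vanishes then `α` vanishes on the image -/
theorem apply_eq_zero_of_pullFun_eq_zero {X' X : Scheme.{u}} (p : X' ⟶ X)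
    [IsLocallyNoetherian X'] (δ' : X' → ℤ) (δ : X → ℤ) (r : ℤ)
    (hsh : HasShift p δ' δ r) (α : X → ℤ) (h0 : Cyc.pullFun p δ' δ r α = 0) (y' : X') :
    α (p y') = 0 := by
  obtain ⟨w, hw1, hw2, hw3⟩ := exists_generic_generization p y'
  have h := congrFun h0 w
  have hd := hsh w hw3
  change (if δ' w = δ (p w) + r then α (p w) *
    ((Module.length (X'.presheaf.stalk w) (FibRing p w)).toNat : ℤ) else 0) = 0 at h
  rw [if_pos hd] at h
  rcases mul_eq_zero.mp h with h | h
  · rw [← hw2]; exact h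
  · exact absurd (by exact_mod_cast h) (toNat_length_fibRing_ne_zero p w hw3)

variable {J : Type u} [Category.{u} J] [IsCofiltered J] [Quiver.IsThin J]
  (D : J ⥤ Scheme.{u}) (c : Cone D)
  (hc : IsLimit c) [∀ {i j} (f : i ⟶ j), IsAffineHom (D.map f)]

include hc in
/-- a cycle on a stage whose pullback to the limit vanishes has empty fibres over its support at a
later stage -/
theorem exists_stage_apply_eq_zero [IsLocallyNoetherian c.pt] (δ' : c.pt → ℤ) (i : J)
    [CompactSpace (D.obj i)] (δi : D.obj i → ℤ) (r : ℤ)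
    (hsh : HasShift (c.π.app i) δ' δi r) (α : AlgebraicCycle (D.obj i) ℤ)
    (h0 : Cyc.pullFun (c.π.app i) δ' δi r ⇑α = 0) :
    ∃ (j : J) (f : j ⟶ i), ∀ y : D.obj j, α (D.map f y) = 0 := by
  classical
  have hfin : {x | α x ≠ 0}.Finite := by
    have := finite_support_inter_compact α Set.univ isCompact_univ
    simpa using this
  have hempty : ∀ x : hfin.toFinset, ∀ y' : c.pt, c.π.app i y' ≠ x.1 := by
    intro x y' hy'
    have hx := x.2
    rw [Set.Finite.mem_toFinset] at hx
    apply hx
    rw [← hy']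
    exact apply_eq_zero_of_pullFun_eq_zero (X' := c.pt) (c.π.app i) δ' δi r hsh α h0 y'
  choose js fs hfs using fun x : hfin.toFinset =>
    exists_stage_fibre_empty D c hc i x.1 (hempty x)
  obtain ⟨j, hj⟩ := IsCofiltered.inf_objs_exists (insert i (Finset.univ.image js))
  have g₀ : j ⟶ i := (hj (Finset.mem_insert_self _ _)).some
  have gs : ∀ x : hfin.toFinset, j ⟶ js x := fun x =>
    (hj (Finset.mem_insert_of_mem (Finset.mem_image_of_mem _ (Finset.mem_univ x)))).some
  refine ⟨j, g₀, fun y => ?_⟩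
  by_contra hne
  have hx : D.map g₀ y ∈ hfin.toFinset := by
    rw [Set.Finite.mem_toFinset]; exact hne
  obtain ⟨x, hxeq⟩ : ∃ x : hfin.toFinset, x.1 = D.map g₀ y := ⟨⟨_, hx⟩, rfl⟩
  have heq : gs x ≫ fs x = g₀ := Subsingleton.elim _ _
  apply hfs x (D.map (gs x) y)
  rw [hxeq, ← heq, D.map_comp]
  rfl

theorem pullFun_eq_zero_of_forall {X' X : Scheme.{u}} (p : X' ⟶ X) (δ' : X' → ℤ) (δ : X → ℤ)
    (r : ℤ) (α : X → ℤ) (h : ∀ y, α (p y) = 0) : Cyc.pullFun p δ' δ r α = 0 := by
  funext y
  unfold Cyc.pullFun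
  rw [h y, zero_mul, ite_self]
  rfl

end Groth.Agent.Lib.helper2.LimCyc
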