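import Mathlib
import Groth.Prelude.Def_Cyc
import Groth.Agent.Lib.Helper2.LimCyc3

/-!
# helper2: cycles on a cofiltered limit of schemes with affine transition maps: surjectivity
-/

set_option autoImplicit false
universe u
open CategoryTheory CategoryTheory.Limits AlgebraicGeometry TopologicalSpace Opposite IsLocalRing

namespace Groth.Agent.Lib.helper2.LimCyc

open Groth.Agent.Lib.helper16.GenFib Groth.Agent.Lib.helper16.ShiftPull
  Groth.Agent.Lib.helper17.FibreStalk Groth.Agent.Lib.helper2.AffB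

theorem toNat_length_quot_eq_one {R : Type*} [CommRing R] [IsLocalRing R] (I : Ideal R)
    (h : I = maximalIdeal R) : (Module.length R (R ⧸ I)).toNat = 1 := by
  subst h
  have : IsSimpleModule R (R ⧸ maximalIdeal R) :=
    isSimpleModule_iff_isCoatom.mpr (Ideal.isMaximal_def.mp (maximalIdeal.isMaximal R))
  rw [Module.length_eq_one_iff.mpr this]
  rfl

/-- a function with finite support is a cycle -/
theorem exists_cycle_of_finite_support {X : Scheme.{u}} (a : X → ℤ)
    (h : (Function.support a).Finite) : ∃ α : AlgebraicCycle X ℤ, ⇑α = a :=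
  ⟨{ toFun := a
     supportWithinDomain' := Set.subset_univ _
     supportLocallyFiniteWithinDomain' := fun _ _ =>
      ⟨Set.univ, Filter.univ_mem, h.subset Set.inter_subset_right⟩ }, rfl⟩

variable {J : Type u} [Category.{u} J] [IsCofiltered J]
  (D : J ⥤ Scheme.{u}) (c : Cone D)
  (hc : IsLimit c) [∀ {i j} (f : i ⟶ j), IsAffineHom (D.map f)]

/-- the stage `k` sees the point `x'` of the limit -/
def SeesPoint (k : J) (x' : c.pt) : Prop :=
  Ideal.map ((c.π.app k).stalkMap x').hom
      (maximalIdeal ((D.obj k).presheaf.stalk (c.π.app k x'))) =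
    maximalIdeal (c.pt.presheaf.stalk x') ∧
  ∀ y' : c.pt, c.π.app k y' = c.π.app k x' → x' ⤳ y'

variable {D c}

theorem SeesPoint.isGenFib {k : J} {x' : c.pt} (h : SeesPoint D c k x') :
    IsGenFib (c.π.app k) x' := by
  intro z hz hzx
  exact (hzx.antisymm (h.2 z hz)).eq

theorem SeesPoint.eq_of_apply_eq {k : J} {x' y' : c.pt} (hx : SeesPoint D c k x')
    (hy : SeesPoint D c k y') (h : c.π.app k x' = c.π.app k y') : x' = y' :=
  ((hx.2 y' h.symm).antisymm (hy.2 x' h)).eq

theorem SeesPoint.toNat_length {k : J} {x' : c.pt} (h : SeesPoint D c k x') :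
    (Module.length (c.pt.presheaf.stalk x') (FibRing (c.π.app k) x')).toNat = 1 :=
  toNat_length_quot_eq_one _ h.1

variable (D c)

include hc in
/-- finitely many points of the limit are seen by a common stage -/
theorem exists_stage_seesPoint [IsLocallyNoetherian c.pt] (S : Finset c.pt) (i₀ : J) :
    ∃ (j : J) (_ : j ⟶ i₀), ∀ (k : J) (_ : k ⟶ j), ∀ x' ∈ S, SeesPoint D c k x' := by
  classical
  choose j₀ hj₀ using fun x' : c.pt => exists_stage_point D c hc x'
  obtain ⟨j, hj⟩ := IsCofiltered.inf_objs_exists (insert i₀ (S.image j₀))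
  have g₀ : j ⟶ i₀ := (hj (Finset.mem_insert_self _ _)).some
  refine ⟨j, g₀, fun k g x' hx' => ?_⟩
  have g₁ : j ⟶ j₀ x' :=
    (hj (Finset.mem_insert_of_mem (Finset.mem_image_of_mem _ hx'))).some
  exact hj₀ x' k (g ≫ g₁)

include hc in
/-- every cycle on the limit is the pullback of a cycle on a finite stage -/
theorem exists_stage_cycle [IsLocallyNoetherian c.pt] [∀ i, CompactSpace (D.obj i)]
    (δ : ∀ i, D.obj i → ℤ) (δ' : c.pt → ℤ) (hδ' : Cyc.IsDimFun c.pt δ')
    (hsh : ∀ i, HasShift (c.π.app i) δ' (δ i) 0)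
    (k : ℤ) (α' : AlgebraicCycle c.pt ℤ) (hα' : α' ∈ Cyc.Zk c.pt δ' k) (i₀ : J) :
    ∃ (j : J) (_ : j ⟶ i₀) (α : AlgebraicCycle (D.obj j) ℤ), α ∈ Cyc.Zk (D.obj j) (δ j) k ∧
      Cyc.pullFun (c.π.app j) δ' (δ j) 0 ⇑α = ⇑α' := by
  classical
  haveI : CompactSpace c.pt := Scheme.compactSpace_of_isLimit D c hc
  have hfin : {x | α' x ≠ 0}.Finite := by
    have := finite_support_inter_compact α' Set.univ isCompact_univ
    simpa using this
  obtain ⟨j, g₀, hj⟩ := exists_stage_seesPoint D c hc hfin.toFinset i₀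
  have hsee : ∀ x' : c.pt, α' x' ≠ 0 → SeesPoint D c j x' := fun x' hx' =>
    hj j (𝟙 j) x' (by rw [Set.Finite.mem_toFinset]; exact hx')
  have hδx : ∀ x' : c.pt, α' x' ≠ 0 → δ (j) (c.π.app j x') = k := by
    intro x' hx'
    have h1 := hsh j x' (hsee x' hx').isGenFib
    have h2 : δ' x' = k := by
      by_contra hne
      exact hx' (hα' x' hne)
    omega
  let a : D.obj j → ℤ := fun z => ∑ x' ∈ hfin.toFinset, if c.π.app j x' = z then α' x' else 0
  have ha_ne : ∀ z, a z ≠ 0 → ∃ x' : c.pt, α' x' ≠ 0 ∧ c.π.app j x' = z := by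
    intro z hz
    obtain ⟨x', hx'S, hx'⟩ := Finset.exists_ne_zero_of_sum_ne_zero hz
    rw [Set.Finite.mem_toFinset] at hx'S
    refine ⟨x', hx'S, ?_⟩
    by_contra hne
    rw [if_neg hne] at hx'
    exact hx' rfl
  have ha_eq : ∀ x' : c.pt, α' x' ≠ 0 → a (c.π.app j x') = α' x' := by
    intro x' hx'
    show (∑ y' ∈ hfin.toFinset, if c.π.app j y' = c.π.app j x' then α' y' else 0) = α' x'
    rw [Finset.sum_eq_single_of_mem x' (by rw [Set.Finite.mem_toFinset]; exact hx')]
    · rw [if_pos rfl]
    · intro y' hy'S hne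
      rw [Set.Finite.mem_toFinset] at hy'S
      rw [if_neg]
      intro heq
      exact hne ((hsee y' hy'S).eq_of_apply_eq (hsee x' hx') heq)
  have ha_fin : (Function.support a).Finite := by
    refine (hfin.image (fun x' => c.π.app j x')).subset ?_
    intro z hz
    obtain ⟨x', hx', rfl⟩ := ha_ne z hz
    exact ⟨x', hx', rfl⟩
  obtain ⟨α, hα⟩ := exists_cycle_of_finite_support a ha_fin
  refine ⟨j, g₀, α, ?_, ?_⟩
  · intro z hz
    by_contra hne
    rw [hα] at hne
    obtain ⟨x', hx', rfl⟩ := ha_ne z hne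
    exact hz (hδx x' hx')
  · rw [hα]
    funext y'
    show (if δ' y' = δ j (c.π.app j y') + 0 then a (c.π.app j y') *
      ((Module.length (c.pt.presheaf.stalk y') (FibRing (c.π.app j) y')).toNat : ℤ) else 0) = α' y'
    by_cases hy' : α' y' = 0
    · rw [hy']
      split_ifs with hd
      · by_cases haz : a (c.π.app j y') = 0
        · rw [haz, zero_mul]
        · exfalso
          obtain ⟨x', hx', hxy⟩ := ha_ne _ haz
          have hsp : x' ⤳ y' := (hsee x' hx').2 y' hxy.symm
          have h1 := hsh j x' (hsee x' hx').isGenFib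
          have hxy' : x' = y' := by
            by_contra hne
            have := (hδ' x' y' hsp hne).1
            rw [hxy] at h1
            omega
          rw [hxy'] at hx'
          exact hx' hy'
      · rfl
    · have h1 := hsh j y' (hsee y' hy').isGenFib
      rw [if_pos h1, ha_eq y' hy', (hsee y' hy').toNat_length]
      simp

end Groth.Agent.Lib.helper2.LimCyc
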