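import Mathlib
import Groth.Prelude.Def_Cyc
import Groth.Agent.Lib.Helper2.LimCyc4
import Groth.Agent.Lib.Helper16.DivSum9
import Groth.Agent.Lib.Helper16.C1Pull
import Groth.Agent.Lib.Helper16.CycClosed2
import Groth.Agent.Lib.Helper2.PushPt3

/-!
# helper2: Chow groups of a cofiltered limit of schemes with affine flat transition maps:
injectivity
-/

set_option autoImplicit false
universe u
open CategoryTheory CategoryTheory.Limits AlgebraicGeometry TopologicalSpace Opposite IsLocalRing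

namespace Groth.Agent.Lib.helper2.LimCyc

open Groth.Agent.Lib.helper16.GenFib Groth.Agent.Lib.helper16.ShiftPull
  Groth.Agent.Lib.helper17.FibreStalk Groth.Agent.Lib.helper2.AffB
  Groth.Agent.Lib.helper16.DivSum Groth.Agent.Lib.helper16.C1Pull
  Groth.Agent.Lib.helper16.CycClosed Groth.Agent.Lib.helper2.PushPt

theorem pullFun_sub {X' X : Scheme.{u}} (p : X' ⟶ X) (δ' : X' → ℤ) (δ : X → ℤ) (r : ℤ)
    (a b : X → ℤ) :
    Cyc.pullFun p δ' δ r (a - b) = Cyc.pullFun p δ' δ r a - Cyc.pullFun p δ' δ r b := by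
  funext x
  show (if δ' x = δ (p x) + r then (a - b) (p x) * _ else 0) =
    (if δ' x = δ (p x) + r then a (p x) * _ else 0) - (if δ' x = δ (p x) + r then b (p x) * _ else 0)
  split_ifs
  · rw [Pi.sub_apply, sub_mul]
  · rw [sub_zero]

theorem pullFun_congr_comp {X' X : Scheme.{u}} (p : X' ⟶ X) (δ' : X' → ℤ) (δ : X → ℤ) (r : ℤ)
    (a b : X → ℤ) (h : ∀ y, a (p y) = b (p y)) :
    Cyc.pullFun p δ' δ r a = Cyc.pullFun p δ' δ r b := by
  funext x
  unfold Cyc.pullFun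
  rw [h x]

theorem pullFun_congr_hom {X' X : Scheme.{u}} {p q : X' ⟶ X} (h : p = q) {r r' : ℤ} (hr : r = r')
    (δ' : X' → ℤ) (δ : X → ℤ) (a : X → ℤ) :
    Cyc.pullFun p δ' δ r a = Cyc.pullFun q δ' δ r' a := by
  subst h hr
  rfl

theorem pullFun_finsum {X' X : Scheme.{u}} (p : X' ⟶ X) (δ' : X' → ℤ) (δ : X → ℤ) (r : ℤ)
    {ι : Type*} (a : ι → X → ℤ) (x' : X') :
    Cyc.pullFun p δ' δ r (fun x => ∑ᶠ t, a t x) x' = ∑ᶠ t, Cyc.pullFun p δ' δ r (a t) x' := by
  unfold Cyc.pullFun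
  split_ifs with h
  · rw [finsum_mul]
  · simp

variable {J : Type u} [Category.{u} J] [IsCofiltered J]
  (D : J ⥤ Scheme.{u}) (c : Cone D)
  (hc : IsLimit c) [∀ {i j} (f : i ⟶ j), IsAffineHom (D.map f)]

include hc in
/-- a finite family of points of the limit with elements of their residue fields descends to a
finite stage -/
theorem exists_stage_family [IsLocallyNoetherian c.pt] {ι : Type*} [Finite ι] (ξ' : ι → c.pt)
    (φ' : ∀ t, c.pt.residueField (ξ' t)) (i₀ : J) :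
    ∃ (j : J) (_ : j ⟶ i₀), ∀ t, SeesPoint D c j (ξ' t) ∧
      φ' t ∈ Set.range ((c.π.app j).residueFieldMap (ξ' t)).hom := by
  classical
  haveI := Fintype.ofFinite ι
  obtain ⟨j₁, g₁, h₁⟩ := exists_stage_seesPoint D c hc (Finset.univ.image ξ') i₀
  choose j₂ h₂ using fun t => exists_stage_residue D c hc (ξ' t) (φ' t)
  obtain ⟨j, hj⟩ := IsCofiltered.inf_objs_exists (insert j₁ (Finset.univ.image j₂))
  have g : j ⟶ j₁ := (hj (Finset.mem_insert_self _ _)).some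
  refine ⟨j, g ≫ g₁, fun t =>
    ⟨h₁ j g (ξ' t) (Finset.mem_image_of_mem _ (Finset.mem_univ t)), ?_⟩⟩
  have g₂ : j ⟶ j₂ t :=
    (hj (Finset.mem_insert_of_mem (Finset.mem_image_of_mem _ (Finset.mem_univ t)))).some
  exact h₂ t j g₂

variable [Quiver.IsThin J]

include hc in
/-- a cycle on a stage whose pullback to the limit is rationally equivalent to zero is rationally
equivalent to zero at a later stage -/
theorem exists_stage_ratEquivZero [IsLocallyNoetherian c.pt]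
    [∀ i, IsLocallyNoetherian (D.obj i)] [∀ i, CompactSpace (D.obj i)]
    [∀ {i j} (f : i ⟶ j), Flat (D.map f)] [∀ i, Flat (c.π.app i)]
    (δ : ∀ i, D.obj i → ℤ) (δ' : c.pt → ℤ) (hδ : ∀ i, Cyc.IsDimFun (D.obj i) (δ i))
    (hδ' : Cyc.IsDimFun c.pt δ')
    (hshD : ∀ {i j} (f : i ⟶ j), HasShift (D.map f) (δ i) (δ j) 0)
    (hsh : ∀ i, HasShift (c.π.app i) δ' (δ i) 0)
    (k : ℤ) (i : J) (α : AlgebraicCycle (D.obj i) ℤ) (α' : AlgebraicCycle c.pt ℤ)
    (hα' : ⇑α' = Cyc.pullFun (c.π.app i) δ' (δ i) 0 ⇑α) (h0 : Cyc.RatEquivZero δ' k α') :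
    ∃ (j : J) (f : j ⟶ i) (αj : AlgebraicCycle (D.obj j) ℤ),
      ⇑αj = Cyc.pullFun (D.map f) (δ j) (δ i) 0 ⇑α ∧ Cyc.RatEquivZero (δ j) k αj := by
  classical
  haveI : CompactSpace c.pt := Scheme.compactSpace_of_isLimit D c hc
  obtain ⟨ι, ξ', φ', hδξ', hφ', hlf', hsum'⟩ := h0
  have hfinι : Finite ι := by
    have := finite_meets_compact ξ' hlf' Set.univ isCompact_univ
    have huniv : {t | (closure {ξ' t} ∩ Set.univ).Nonempty} = Set.univ := by
      ext t
      simp only [Set.inter_univ, Set.mem_univ, iff_true]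
      exact ⟨ξ' t, subset_closure rfl⟩
    rw [huniv] at this
    exact Set.finite_univ_iff.mp this
  obtain ⟨j, g₀, hj⟩ := exists_stage_family D c hc ξ' φ' i
  choose ψ hψ using fun t => (hj t).2
  have hsee := fun t => (hj t).1
  let ξ : ι → D.obj j := fun t => c.π.app j (ξ' t)
  have hδξ : ∀ t, δ j (ξ t) = k + 1 := fun t => by
    have := hsh j (ξ' t) (hsee t).isGenFib
    rw [← hδξ' t]
    show δ j (c.π.app j (ξ' t)) = _
    omega
  have hψ0 : ∀ t, ψ t ≠ 0 := fun t h => hφ' t (by rw [← hψ t, h, map_zero])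
  obtain ⟨Dv, hDv, hDvk, hDv0⟩ := exists_cycle_of_family (δ j) (hδ j) k ξ ψ hδξ hψ0
    (fun x => ⟨Set.univ, isOpen_univ, trivial, Set.toFinite _⟩)
  obtain ⟨αj, hαj⟩ := exists_cycle_pullFun (D.map g₀) (hδ j) (hshD g₀) α
  -- the pullback of `αj - Dv` to the limit vanishes
  have hpull : Cyc.pullFun (c.π.app j) δ' (δ j) 0 ⇑(αj - Dv) = 0 := by
    have e1 : ⇑(αj - Dv) = ⇑αj - ⇑Dv := rfl
    rw [e1, pullFun_sub]
    have e2 : Cyc.pullFun (c.π.app j) δ' (δ j) 0 ⇑αj = ⇑α' := by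
      rw [hαj, hα']
      have := pullFun_comp_shift (X'' := c.pt) (p := D.map g₀) (p' := c.π.app j) (hδ j) hδ' (hshD g₀)
        (hsh j) ⇑α
      rw [← this]
      exact pullFun_congr_hom (X' := c.pt) (c.w g₀) (add_zero 0) _ _ _
    have e3 : Cyc.pullFun (c.π.app j) δ' (δ j) 0 ⇑Dv = ⇑α' := by
      funext x'
      rw [hsum' x']
      have hDvf : ⇑Dv = fun x => ∑ᶠ t, Cyc.divFun (δ j) (ξ t) (ψ t) x := funext hDv
      rw [hDvf, pullFun_finsum]
      refine finsum_congr fun t => ?_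
      rw [pullFun_divFun_shift (X' := c.pt) (c.π.app j) (hδ j) hδ' (hsh j) (ξ t) (ψ t) (hψ0 t) x']
      letI : Unique {ξ'' : c.pt // c.π.app j ξ'' = ξ t ∧ IsGenFib (c.π.app j) ξ''} :=
        { default := ⟨ξ' t, rfl, (hsee t).isGenFib⟩
          uniq := fun w => Subtype.ext (by
            have h1 : ξ' t ⤳ w.1 := (hsee t).2 w.1 w.2.1
            exact (w.2.2 (ξ' t) w.2.1.symm h1).symm) }
      rw [finsum_unique]
      show ((Module.length (c.pt.presheaf.stalk (ξ' t)) (FibRing (c.π.app j) (ξ' t))).toNat : ℤ) *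
        Cyc.divFun δ' (ξ' t) ((c.π.app j).residueFieldMap (ξ' t)
          (((D.obj j).residueFieldCongr (rfl : c.π.app j (ξ' t) = ξ t).symm).hom (ψ t))) x' = _
      rw [(hsee t).toNat_length, Nat.cast_one, one_mul]
      congr 1
      rw [Scheme.residueFieldCongr_refl]
      exact hψ t
    rw [e2, e3, sub_self]
  obtain ⟨j', f', hf'⟩ := exists_stage_apply_eq_zero D c hc δ' j (δ j) 0 (hsh j) (αj - Dv) hpull
  obtain ⟨α2, hα2⟩ := exists_cycle_pullFun (D.map (f' ≫ g₀)) (hδ j') (hshD (f' ≫ g₀)) α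
  refine ⟨j', f' ≫ g₀, α2, hα2, ?_⟩
  have hfin := ratEquivZero_pullFun (D.map f') (hδ j) (hδ j') (hshD f') k Dv hDv0 α2 ?_
  · simpa using hfin
  · rw [hα2]
    have := pullFun_comp_shift (p := D.map g₀) (p' := D.map f') (hδ j) (hδ j') (hshD g₀)
      (hshD f') ⇑α
    rw [pullFun_congr_hom (D.map_comp f' g₀) (add_zero 0).symm, this, ← hαj]
    apply pullFun_congr_comp
    intro y
    have h1 : ⇑(αj - Dv) = ⇑αj - ⇑Dv := rfl
    have h2 := hf' y
    rw [h1, Pi.sub_apply] at h2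
    exact sub_eq_zero.mp h2

end Groth.Agent.Lib.helper2.LimCyc
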