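import Mathlib

import Groth.Agent.Lib.Lead.GenLocusInt
import Groth.Agent.Lib.Lead.ModTensor
import Groth.Agent.Lib.Helper18.HHZero
import Groth.Agent.Lib.Helper12.AmpleBasis
import Groth.Agent.Lib.Helper12.TensorInvLocal

set_option autoImplicit false
universe u
open CategoryTheory CategoryTheory.Limits AlgebraicGeometry TopologicalSpace Opposite

namespace Groth.Agent.Lib.helper2.NegPow

open Groth.Agent.Lib.helper12.TensorPowAdd Groth.Agent.Lib.helper12.TensorSec
  Groth.Agent.Lib.helper12.TensorInv Groth.Agent.Lib.helper11.IsoLocus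
  Groth.Agent.Lib.helper12.AmpleBasis Groth.Agent.Lib.Lead.GenLocusInt
  Groth.Agent.Lib.Lead.ModTensor Groth.Agent.Lib.helper12.TwistExtend
  Groth.Agent.Lib.helper12.TensorInvLocal

variable {X : Scheme.{u}}

/-- a nontrivial `H⁰` gives a nonzero morphism from the structure module -/
theorem exists_hom_ne_zero (N : X.Modules) (h : Nontrivial (Coh.HH X N 0)) :
    ∃ s : Coh.structureModule X ⟶ N, s ≠ 0 := by
  obtain ⟨x, hx⟩ := exists_ne (0 : Coh.HH X N 0)
  set σ := Groth.Agent.Lib.Helper18.HH.equiv₀ N x with hσ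
  have hσ0 : σ ≠ 0 := by
    intro h0
    apply hx
    apply (Groth.Agent.Lib.Helper18.HH.equiv₀ N).injective
    rw [map_zero]; exact h0
  refine ⟨homOfSec N σ, fun h0 => hσ0 ?_⟩
  have h1 := val_homOfSec N σ ⊤
  rw [h0, res_self'] at h1
  rw [← h1]
  rfl

/-- The main argument. -/
theorem main (k : Type u) [Field k]
    (X : Scheme.{u}) [X.Over (Spec (CommRingCat.of k))] [IsProper (X ↘ (Spec (CommRingCat.of k)))] [IsIntegral X]
    (L M : X.Modules) (hL : PicF.IsInvertible L) (hM : ClSub.IsInverseOf M L)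
    (hsec : ∀ j : ℕ, 4 ≤ j → Nontrivial (Coh.HH X (CohB1.tensorPow L j) 0))
    (hnt : ∀ j : ℕ, 1 ≤ j → IsEmpty (CohB1.tensorPow L j ≅ Coh.structureModule X))
    (i : ℕ) (hi : 1 ≤ i) :
    Subsingleton (Coh.HH X (CohB1.tensorPow M i) 0) := by
  by_contra hns
  rw [not_subsingleton_iff_nontrivial] at hns
  have hMi : PicF.IsInvertible M := isInvertible_of_tensor_iso M L hM.some
  obtain ⟨s₀, hs₀⟩ := exists_hom_ne_zero _ hns
  obtain ⟨t, ht⟩ := exists_hom_ne_zero _ (hsec (i * 4) (by omega))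
  have hs : CohB1.genLocus _ (powSec s₀ 4) = CohB1.genLocus _ s₀ := genLocus_powSec hMi s₀ 3
  have hs' : CohB1.genLocus _ (powSec s₀ 4) ≠ ⊥ := by
    rw [hs]; exact genLocus_ne_bot (isInvertible_tensorPow hMi i) s₀ hs₀
  have ht' : CohB1.genLocus _ t ≠ ⊥ := genLocus_ne_bot (isInvertible_tensorPow hL (i * 4)) t ht
  obtain ⟨e⟩ := isInverseOf_tensorPow hM (i * 4)
  set u : Coh.structureModule X ⟶ Coh.structureModule X :=
    SecTwist.tmulHom (powSec s₀ 4) t ≫ e.hom with hu
  have hgu : CohB1.genLocus _ u = CohB1.genLocus _ (powSec s₀ 4) ⊓ CohB1.genLocus _ t := by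
    rw [hu, genLocus_comp_iso, genLocus_tmulHom (isInvertible_tensorPow hMi (i * 4))
      (isInvertible_tensorPow hL (i * 4))]
  have hne : CohB1.genLocus _ u ≠ ⊥ := by
    rw [hgu]
    intro hbot
    have h1 : ((CohB1.genLocus _ (powSec s₀ 4) : Set X) ∩ (CohB1.genLocus _ t : Set X)).Nonempty := by
      apply nonempty_preirreducible_inter (CohB1.genLocus _ (powSec s₀ 4)).isOpen
        (CohB1.genLocus _ t).isOpen
      · rw [Set.nonempty_iff_ne_empty]
        intro h; apply hs'; ext x; simp [h]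
      · rw [Set.nonempty_iff_ne_empty]
        intro h; apply ht'; ext x; simp [h]
    obtain ⟨x, hx1, hx2⟩ := h1
    have : x ∈ (CohB1.genLocus _ (powSec s₀ 4) ⊓ CohB1.genLocus _ t : X.Opens) := ⟨hx1, hx2⟩
    rw [hbot] at this
    exact this
  have hfield : IsField (Γ(X, ⊤) : Type u) :=
    isField_of_universallyClosed k (X ↘ (Spec (CommRingCat.of k)))
  have htop := genLocus_eq_top_of_isField hfield u hne
  rw [hgu] at htop
  have htt : CohB1.genLocus _ t = ⊤ := by
    rw [eq_top_iff, ← htop]; exact inf_le_right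
  rw [genLocus_eq_top_iff] at htt
  exact (hnt (i * 4) (by omega)).false (asIso t).symm

end Groth.Agent.Lib.helper2.NegPow
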