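import Groth.Agent.Lib.Helper2.NormPush2
import Groth.Agent.Lib.Helper2.NormOrd3

/-!
# Orders of norms along a finite fibre of a dominant morphism of integral schemes (helper2)

`sum_ordAt_mul_residueDegree_eq`: for `p : X ⟶ Y` dominant between integral locally Noetherian
schemes, `y ∈ Y` with `dim O_{Y,y} = 1` having an affine neighbourhood `W` with `p ⁻¹ W` affine and
finite over `W`: `∑_{p x = y} ord_x(f) · [κ(x) : κ(y)] = ord_y(N f)`.
-/

set_option autoImplicit false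
universe u
open CategoryTheory CategoryTheory.Limits AlgebraicGeometry TopologicalSpace Opposite

namespace Groth.Agent.Lib.helper2.NormPush

open Groth.Agent.Lib.helper16.SecOrd Groth.Agent.Lib.helper16.CycOpen
  Groth.Agent.Lib.helper16.OrdGen Groth.Agent.Lib.helper2.NormOrd

variable {X Y : Scheme.{u}}

theorem evaluation_injective_of_eq_genericPoint [IsIntegral Y] (W : Y.Opens) {ξ : Y}
    (hξ : ξ = genericPoint Y) (hξW : ξ ∈ W) : Function.Injective (Y.evaluation W ξ hξW).hom := by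
  subst hξ
  intro a b hab
  have h1 : (Y.residue (genericPoint Y)).hom (Y.presheaf.germ W (genericPoint Y) hξW a) =
      (Y.residue (genericPoint Y)).hom (Y.presheaf.germ W (genericPoint Y) hξW b) := hab
  exact germ_injective_of_isIntegral Y (genericPoint Y) hξW (residue_genericPoint_injective h1)

theorem app_injective_of_dominant [IsIntegral X] [IsIntegral Y] (p : X ⟶ Y)
    (hdom : p (genericPoint X) = genericPoint Y) (W : Y.Opens)
    (hηW : p (genericPoint X) ∈ W) : Function.Injective (p.app W).hom := by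
  intro a b hab
  apply evaluation_injective_of_eq_genericPoint W hdom hηW
  apply (p.residueFieldMap (genericPoint X)).hom.injective
  have h1 := Scheme.evaluation_naturality_apply p (genericPoint X) hηW a
  have h2 := Scheme.evaluation_naturality_apply p (genericPoint X) hηW b
  rw [h1, h2, hab]

theorem primeIdealOf_fromSpec {U : X.Opens} (hU : IsAffineOpen U)
    (Q : PrimeSpectrum Γ(X, U)) (h : hU.fromSpec Q ∈ U) :
    hU.primeIdealOf ⟨hU.fromSpec Q, h⟩ = Q := by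
  have h1 : (⟨hU.fromSpec Q, h⟩ : U) = hU.isoSpec.inv Q := Subtype.ext rfl
  rw [IsAffineOpen.primeIdealOf, h1, ← Scheme.Hom.comp_apply, Iso.inv_hom_id]
  rfl

set_option maxHeartbeats 1600000 in
theorem sum_ordAt_mul_residueDegree_eq [IsIntegral X] [IsIntegral Y] [IsLocallyNoetherian X]
    [IsLocallyNoetherian Y] (p : X ⟶ Y) (hdom : p (genericPoint X) = genericPoint Y)
    (y : Y) (hfin : (p ⁻¹' {y}).Finite)
    (W : Y.Opens) (hW : IsAffineOpen W) (hyW : y ∈ W) (hU : IsAffineOpen (p ⁻¹ᵁ W))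
    (hfinite : (p.appLE W (p ⁻¹ᵁ W) le_rfl).hom.Finite)
    (hdim : ringKrullDim (Y.presheaf.stalk y) = 1)
    (hspec : p (genericPoint X) ⤳ y)
    (f : X.residueField (genericPoint X)) (hf : f ≠ 0) :
    ∑ᶠ x ∈ p ⁻¹' {y}, Cyc.ordAt x (genericPoint X) (genericPoint_specializes x) f *
        (p.residueDegree x : ℤ) =
      Cyc.ordAt y (p (genericPoint X)) hspec (Cyc.normGen p (genericPoint X) f) := by
  classical
  have hηW : p (genericPoint X) ∈ W := hspec.mem_open W.isOpen hyW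
  have hηU : genericPoint X ∈ p ⁻¹ᵁ W := hηW
  haveI : Nonempty (p ⁻¹ᵁ W) := ⟨⟨_, hηU⟩⟩
  -- algebra structures
  letI algRB : Algebra Γ(Y, W) Γ(X, p ⁻¹ᵁ W) := (p.app W).hom.toAlgebra
  haveI finRB : Module.Finite Γ(Y, W) Γ(X, p ⁻¹ᵁ W) := by
    have h := hfinite
    rw [← Scheme.Hom.app_eq_appLE] at h
    exact h
  have hinj : Function.Injective (algebraMap Γ(Y, W) Γ(X, p ⁻¹ᵁ W)) :=
    app_injective_of_dominant p hdom W hηW
  letI algRA : Algebra Γ(Y, W) (Y.presheaf.stalk y) :=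
    Y.presheaf.algebra_section_stalk ⟨y, hyW⟩
  haveI locA : IsLocalization.AtPrime (Y.presheaf.stalk y)
      (hW.primeIdealOf ⟨y, hyW⟩).asIdeal := hW.isLocalization_stalk ⟨y, hyW⟩
  letI algAK : Algebra (Y.presheaf.stalk y) (Y.residueField (p (genericPoint X))) :=
    (Cyc.specMap y _ hspec).toAlgebra
  have hkerY : RingHom.ker (Cyc.specMap y _ hspec) = ⊥ := ker_specMap_eq_bot hspec hdom
  haveI fracA : IsFractionRing (Y.presheaf.stalk y) (Y.residueField (p (genericPoint X))) :=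
    isFractionRing_stalk_residueField hspec hkerY
  letI algBL : Algebra Γ(X, p ⁻¹ᵁ W) (X.residueField (genericPoint X)) :=
    (X.evaluation (p ⁻¹ᵁ W) _ hηU).hom.toAlgebra
  haveI fracB : IsFractionRing Γ(X, p ⁻¹ᵁ W) (X.residueField (genericPoint X)) :=
    isFractionRing_sections_residueField (p ⁻¹ᵁ W) hU hηU
  letI algKL : Algebra (Y.residueField (p (genericPoint X))) (X.residueField (genericPoint X)) :=
    (p.residueFieldMap (genericPoint X)).hom.toAlgebra
  have hKL : ∀ r : Γ(Y, W), algebraMap (Y.residueField (p (genericPoint X)))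
      (X.residueField (genericPoint X)) (algebraMap (Y.presheaf.stalk y)
        (Y.residueField (p (genericPoint X))) (algebraMap Γ(Y, W) (Y.presheaf.stalk y) r)) =
      algebraMap Γ(X, p ⁻¹ᵁ W) (X.residueField (genericPoint X))
        (algebraMap Γ(Y, W) Γ(X, p ⁻¹ᵁ W) r) := by
    intro r
    have h1 : algebraMap (Y.presheaf.stalk y) (Y.residueField (p (genericPoint X)))
        (algebraMap Γ(Y, W) (Y.presheaf.stalk y) r) =
        Y.evaluation W (p (genericPoint X)) hηW r := by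
      show (Y.residue _).hom ((Y.presheaf.stalkSpecializes hspec).hom
        (Y.presheaf.germ W y hyW r)) = _
      rw [TopCat.Presheaf.germ_stalkSpecializes_apply]
      rfl
    rw [h1]
    exact Scheme.evaluation_naturality_apply p (genericPoint X) hηW r
  -- index type
  haveI : Fintype ↥(p ⁻¹' {y}) := hfin.fintype
  have hxy : ∀ x : ↥(p ⁻¹' {y}), p x.1 = y := fun x => x.2
  have hxU : ∀ x : ↥(p ⁻¹' {y}), x.1 ∈ p ⁻¹ᵁ W := fun x => by
    show p x.1 ∈ W
    rw [hxy x]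
    exact hyW
  let P : ↥(p ⁻¹' {y}) → Ideal Γ(X, p ⁻¹ᵁ W) := fun x =>
    (hU.primeIdealOf ⟨x.1, hxU x⟩).asIdeal
  haveI : ∀ x, (P x).IsPrime := fun x => (hU.primeIdealOf ⟨x.1, hxU x⟩).isPrime
  have hPover : ∀ x, (P x).comap (algebraMap Γ(Y, W) Γ(X, p ⁻¹ᵁ W)) =
      (hW.primeIdealOf ⟨y, hyW⟩).asIdeal := by
    intro x
    have h1 := IsAffineOpen.comap_primeIdealOf_appLE W hW (p ⁻¹ᵁ W) hU le_rfl (hxU x)
    have h2 : (⟨p x.1, (le_rfl : p ⁻¹ᵁ W ≤ p ⁻¹ᵁ W) (hxU x)⟩ : W) = ⟨y, hyW⟩ :=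
      Subtype.ext (hxy x)
    rw [h2, ← Scheme.Hom.app_eq_appLE] at h1
    exact congrArg PrimeSpectrum.asIdeal h1
  have hPinj : Function.Injective P := by
    intro x x' hxx'
    have h1 : hU.primeIdealOf ⟨x.1, hxU x⟩ = hU.primeIdealOf ⟨x'.1, hxU x'⟩ :=
      PrimeSpectrum.ext hxx'
    have h2 := hU.fromSpec_primeIdealOf ⟨x.1, hxU x⟩
    have h3 := hU.fromSpec_primeIdealOf ⟨x'.1, hxU x'⟩
    rw [h1] at h2
    exact Subtype.ext (h2.symm.trans h3)
  have hPsurj : ∀ Q : Ideal Γ(X, p ⁻¹ᵁ W), Q.IsPrime →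
      Q.comap (algebraMap Γ(Y, W) Γ(X, p ⁻¹ᵁ W)) = (hW.primeIdealOf ⟨y, hyW⟩).asIdeal →
      ∃ x, P x = Q := by
    intro Q hQ hQ𝔮
    let Q' : PrimeSpectrum Γ(X, p ⁻¹ᵁ W) := ⟨Q, hQ⟩
    have hmem : hU.fromSpec Q' ∈ p ⁻¹ᵁ W := by
      have : hU.fromSpec Q' ∈ Set.range hU.fromSpec := ⟨Q', rfl⟩
      rw [hU.range_fromSpec] at this
      exact this
    have hpx : p (hU.fromSpec Q') = y := by
      have h1 := IsAffineOpen.SpecMap_appLE_fromSpec p hW hU le_rfl
      have h2 : p (hU.fromSpec Q') = hW.fromSpec (Spec.map (p.appLE W (p ⁻¹ᵁ W) le_rfl) Q') := by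
        rw [← Scheme.Hom.comp_apply, ← Scheme.Hom.comp_apply, h1]
      rw [h2]
      have h3 : Spec.map (p.appLE W (p ⁻¹ᵁ W) le_rfl) Q' = hW.primeIdealOf ⟨y, hyW⟩ := by
        apply PrimeSpectrum.ext
        rw [← hQ𝔮, ← Scheme.Hom.app_eq_appLE]
        rfl
      rw [h3]
      exact hW.fromSpec_primeIdealOf ⟨y, hyW⟩
    refine ⟨⟨hU.fromSpec Q', hpx⟩, ?_⟩
    show (hU.primeIdealOf ⟨hU.fromSpec Q', _⟩).asIdeal = Q
    rw [primeIdealOf_fromSpec hU Q' hmem]
  -- the local rings upstairs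
  letI algBO : ∀ x : ↥(p ⁻¹' {y}), Algebra Γ(X, p ⁻¹ᵁ W) (X.presheaf.stalk x.1) := fun x =>
    X.presheaf.algebra_section_stalk ⟨x.1, hxU x⟩
  haveI locO : ∀ x : ↥(p ⁻¹' {y}), IsLocalization.AtPrime (X.presheaf.stalk x.1) (P x) :=
    fun x => hU.isLocalization_stalk ⟨x.1, hxU x⟩
  letI algAO : ∀ x : ↥(p ⁻¹' {y}), Algebra (Y.presheaf.stalk y) (X.presheaf.stalk x.1) :=
    fun x => stalkAlg p x.1 y (hxy x)
  have hAO : ∀ (x : ↥(p ⁻¹' {y})) (r : Γ(Y, W)),
      algebraMap (Y.presheaf.stalk y) (X.presheaf.stalk x.1)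
        (algebraMap Γ(Y, W) (Y.presheaf.stalk y) r) =
      algebraMap Γ(X, p ⁻¹ᵁ W) (X.presheaf.stalk x.1) (algebraMap Γ(Y, W) Γ(X, p ⁻¹ᵁ W) r) :=
    fun x r => stalkAlg_germ p x.1 y (hxy x) W hyW r
  haveI locAO : ∀ x : ↥(p ⁻¹' {y}),
      IsLocalHom (algebraMap (Y.presheaf.stalk y) (X.presheaf.stalk x.1)) :=
    fun x => isLocalHom_stalkAlg p x.1 y (hxy x)
  letI algOL : ∀ x : ↥(p ⁻¹' {y}), Algebra (X.presheaf.stalk x.1)
      (X.residueField (genericPoint X)) := fun x =>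
    (Cyc.specMap x.1 (genericPoint X) (genericPoint_specializes x.1)).toAlgebra
  haveI towBOL : ∀ x : ↥(p ⁻¹' {y}), IsScalarTower Γ(X, p ⁻¹ᵁ W) (X.presheaf.stalk x.1)
      (X.residueField (genericPoint X)) := fun x => IsScalarTower.of_algebraMap_eq fun b => by
    show (X.residue _).hom (X.presheaf.germ (p ⁻¹ᵁ W) _ hηU b) =
      (X.residue _).hom ((X.presheaf.stalkSpecializes (genericPoint_specializes x.1)).hom
        (X.presheaf.germ (p ⁻¹ᵁ W) x.1 (hxU x) b))
    rw [TopCat.Presheaf.germ_stalkSpecializes_apply]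
  have key := sum_ordFrac_eq_ordFrac_norm_global Γ(Y, W) Γ(X, p ⁻¹ᵁ W) hinj
    (hW.primeIdealOf ⟨y, hyW⟩).asIdeal (Y.presheaf.stalk y) hdim
    (Y.residueField (p (genericPoint X))) (X.residueField (genericPoint X)) hKL P hPover hPinj
    hPsurj (fun x : ↥(p ⁻¹' {y}) => X.presheaf.stalk x.1) hAO f hf
  rw [← finsum_set_coe_eq_finsum_mem, finsum_eq_sum_of_fintype]
  have hR : CycAlg.ordFrac (Y.presheaf.stalk y) (Y.residueField (p (genericPoint X)))
      (Algebra.norm (Y.residueField (p (genericPoint X))) f) =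
      Cyc.ordAt y (p (genericPoint X)) hspec (Cyc.normGen p (genericPoint X) f) :=
    ordFrac_stalk_eq_ordAt hspec hkerY _
  rw [← hR, ← key]
  refine Finset.sum_congr rfl fun x _ => ?_
  have h1 : CycAlg.ordFrac (X.presheaf.stalk x.1) (X.residueField (genericPoint X)) f =
      Cyc.ordAt x.1 (genericPoint X) (genericPoint_specializes x.1) f :=
    ordFrac_stalk_eq_ordAt (genericPoint_specializes x.1)
      (ker_specMap_genericPoint x.1 (genericPoint_specializes x.1)) f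
  have h2 := finrank_residueField_eq_residueDegree p x.1 y (hxy x)
  rw [h1, ← h2]

end Groth.Agent.Lib.helper2.NormPush
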