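import Mathlib
import Groth.Agent.Lib.Helper2.SNScheme
import Groth.Prelude.Def_Pi1

/-!
# Normal schemes are seminormal (helper2)
-/

set_option autoImplicit false
universe u

open AlgebraicGeometry CategoryTheory

namespace Groth.Agent.Lib.helper2.NormalSN

open Groth.Agent.Lib.helper2 Groth.Agent.Lib.helper2.AWNRing

section ring

variable {A : Type u} [CommRing A]

theorem mul_eq_of_reduced [IsReduced A] (x y : A) (hxy : x ^ 3 = y ^ 2) (s t b c : A)
    (hb2 : b ^ 2 = s ^ 2 * x) (hb3 : b ^ 3 = s ^ 3 * y)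
    (hc2 : c ^ 2 = t ^ 2 * x) (hc3 : c ^ 3 = t ^ 3 * y) : b * c = s * t * x := by
  apply eq_of_sq_cube_reduced
  · rw [mul_pow, hb2, hc2]; ring
  · rw [mul_pow, hb3, hc3]
    calc s ^ 3 * y * (t ^ 3 * y) = s ^ 3 * t ^ 3 * y ^ 2 := by ring
      _ = s ^ 3 * t ^ 3 * x ^ 3 := by rw [hxy]
      _ = (s * t * x) ^ 3 := by ring

theorem mul_eq_of_reduced' [IsReduced A] (x y : A) (hxy : x ^ 3 = y ^ 2) (t c : A)
    (hc2 : c ^ 2 = t ^ 2 * x) (hc3 : c ^ 3 = t ^ 3 * y) : x * c = t * y := by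
  apply eq_of_sq_cube_reduced
  · rw [mul_pow, hc2]
    calc x ^ 2 * (t ^ 2 * x) = t ^ 2 * x ^ 3 := by ring
      _ = t ^ 2 * y ^ 2 := by rw [hxy]
      _ = (t * y) ^ 2 := by ring
  · rw [mul_pow, hc3]
    calc x ^ 3 * (t ^ 3 * y) = t ^ 3 * y * x ^ 3 := by ring
      _ = t ^ 3 * y * y ^ 2 := by rw [hxy]
      _ = (t * y) ^ 3 := by ring

/-- the ideal of denominators of a square/cube root. -/
def denom [IsReduced A] (x y : A) (hxy : x ^ 3 = y ^ 2) : Ideal A where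
  carrier := {s | ∃ b : A, b ^ 2 = s ^ 2 * x ∧ b ^ 3 = s ^ 3 * y}
  zero_mem' := ⟨0, by ring, by ring⟩
  add_mem' := by
    rintro s t ⟨b, hb2, hb3⟩ ⟨c, hc2, hc3⟩
    have h1 := mul_eq_of_reduced x y hxy s t b c hb2 hb3 hc2 hc3
    have h2 := mul_eq_of_reduced' x y hxy t c hc2 hc3
    have h3 := mul_eq_of_reduced' x y hxy s b hb2 hb3
    refine ⟨b + c, ?_, ?_⟩
    · calc (b + c) ^ 2 = b ^ 2 + 2 * (b * c) + c ^ 2 := by ring
        _ = s ^ 2 * x + 2 * (s * t * x) + t ^ 2 * x := by rw [hb2, hc2, h1]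
        _ = (s + t) ^ 2 * x := by ring
    · calc (b + c) ^ 3 = b ^ 3 + 3 * (b ^ 2 * c) + 3 * (b * c ^ 2) + c ^ 3 := by ring
        _ = s ^ 3 * y + 3 * (s ^ 2 * (x * c)) + 3 * (t ^ 2 * (x * b)) + t ^ 3 * y := by
          rw [hb2, hc2, hb3, hc3]; ring
        _ = s ^ 3 * y + 3 * (s ^ 2 * (t * y)) + 3 * (t ^ 2 * (s * y)) + t ^ 3 * y := by
          rw [h2, h3]
        _ = (s + t) ^ 3 * y := by ring
  smul_mem' := by
    rintro r s ⟨b, hb2, hb3⟩
    refine ⟨r * b, ?_, ?_⟩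
    · rw [mul_pow, hb2, smul_eq_mul]; ring
    · rw [mul_pow, hb3, smul_eq_mul]; ring

theorem exists_sq_cube_of_local [IsReduced A] (x y : A) (hxy : x ^ 3 = y ^ 2)
    (h : ∀ p : Ideal A, p.IsPrime → ∃ s, s ∉ p ∧ ∃ b : A, b ^ 2 = s ^ 2 * x ∧ b ^ 3 = s ^ 3 * y) :
    ∃ a : A, x = a ^ 2 ∧ y = a ^ 3 := by
  have htop : denom x y hxy = ⊤ := by
    by_contra hne
    obtain ⟨m, hm, hle⟩ := Ideal.exists_le_maximal _ hne
    obtain ⟨s, hs, b, hb⟩ := h m hm.isPrime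
    exact hs (hle ⟨b, hb⟩)
  have h1 : (1 : A) ∈ denom x y hxy := by rw [htop]; trivial
  obtain ⟨a, ha2, ha3⟩ := h1
  exact ⟨a, by rw [ha2]; ring, by rw [ha3]; ring⟩

theorem exists_local_of_isIntegrallyClosed (p : Ideal A) [p.IsPrime] (Ap : Type u) [CommRing Ap]
    [Algebra A Ap] [IsLocalization.AtPrime Ap p] [IsDomain Ap] [IsIntegrallyClosed Ap]
    (x y : A) (hxy : x ^ 3 = y ^ 2) :
    ∃ s, s ∉ p ∧ ∃ b : A, b ^ 2 = s ^ 2 * x ∧ b ^ 3 = s ^ 3 * y := by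
  set x' := algebraMap A Ap x with hx'
  set y' := algebraMap A Ap y with hy'
  have hxy' : x' ^ 3 = y' ^ 2 := by rw [hx', hy', ← map_pow, ← map_pow, hxy]
  -- a root in Ap
  have hroot : ∃ a₀ : Ap, a₀ ^ 2 = x' ∧ a₀ ^ 3 = y' := by
    by_cases hx0 : x' = 0
    · refine ⟨0, by rw [hx0]; ring, ?_⟩
      rw [hx0] at hxy'
      have : y' = 0 := by
        have h0 : y' ^ 2 = 0 := by rw [← hxy']; ring
        exact pow_eq_zero_iff (two_ne_zero) |>.1 h0
      rw [this]; ring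
    · let K := FractionRing Ap
      have hxK : algebraMap Ap K x' ≠ 0 := by
        rw [Ne, map_eq_zero_iff _ (IsFractionRing.injective Ap K)]
        exact hx0
      set a : K := algebraMap Ap K y' / algebraMap Ap K x' with ha
      have hK : algebraMap Ap K y' ^ 2 = algebraMap Ap K x' ^ 3 :=
        calc algebraMap Ap K y' ^ 2 = algebraMap Ap K (y' ^ 2) := (map_pow _ _ _).symm
          _ = algebraMap Ap K (x' ^ 3) := by rw [hxy']
          _ = algebraMap Ap K x' ^ 3 := map_pow _ _ _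
      have ha2 : a ^ 2 = algebraMap Ap K x' := by
        rw [ha, div_pow, hK, div_eq_iff (pow_ne_zero 2 hxK)]
        ring
      have hint : IsIntegral Ap a := by
        refine ⟨Polynomial.X ^ 2 - Polynomial.C x', ?_, ?_⟩
        · exact Polynomial.monic_X_pow_sub_C x' two_ne_zero
        · simp [ha2]
      obtain ⟨a₀, ha₀⟩ := IsIntegrallyClosed.algebraMap_eq_of_integral hint
      refine ⟨a₀, ?_, ?_⟩
      · apply IsFractionRing.injective Ap K
        rw [map_pow, ha₀, ha2]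
      · apply IsFractionRing.injective Ap K
        rw [map_pow, ha₀]
        calc a ^ 3 = a ^ 2 * a := by ring
          _ = algebraMap Ap K x' * (algebraMap Ap K y' / algebraMap Ap K x') := by rw [ha2]
          _ = algebraMap Ap K y' := by
            rw [← mul_div_assoc]
            exact mul_div_cancel_left₀ _ hxK
  obtain ⟨a₀, h2, h3⟩ := hroot
  obtain ⟨⟨b₀, s₀⟩, hbs⟩ := IsLocalization.surj p.primeCompl a₀
  simp only at hbs
  -- hbs : a₀ * algebraMap s₀ = algebraMap b₀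
  have e2 : algebraMap A Ap (b₀ ^ 2) = algebraMap A Ap ((s₀ : A) ^ 2 * x) := by
    rw [map_pow, ← hbs, map_mul, map_pow, ← hx', ← h2]; ring
  have e3 : algebraMap A Ap (b₀ ^ 3) = algebraMap A Ap ((s₀ : A) ^ 3 * y) := by
    rw [map_pow, ← hbs, map_mul, map_pow, ← hy', ← h3]; ring
  obtain ⟨u, hu⟩ := (IsLocalization.eq_iff_exists p.primeCompl Ap).1 e2
  obtain ⟨v, hv⟩ := (IsLocalization.eq_iff_exists p.primeCompl Ap).1 e3
  refine ⟨(u : A) * v * s₀, ?_, (u : A) * v * b₀, ?_, ?_⟩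
  · exact (p.primeCompl.mul_mem (p.primeCompl.mul_mem u.2 v.2) s₀.2)
  · calc ((u : A) * v * b₀) ^ 2 = (u : A) * (v : A) ^ 2 * ((u : A) * b₀ ^ 2) := by ring
      _ = (u : A) * (v : A) ^ 2 * ((u : A) * ((s₀ : A) ^ 2 * x)) := by rw [hu]
      _ = ((u : A) * v * s₀) ^ 2 * x := by ring
  · calc ((u : A) * v * b₀) ^ 3 = (u : A) ^ 3 * (v : A) ^ 2 * ((v : A) * b₀ ^ 3) := by ring
      _ = (u : A) ^ 3 * (v : A) ^ 2 * ((v : A) * ((s₀ : A) ^ 3 * y)) := by rw [hv]
      _ = ((u : A) * v * s₀) ^ 3 * y := by ring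

theorem isSeminormalRing_of_forall_prime [IsReduced A]
    (h : ∀ (x y : A), x ^ 3 = y ^ 2 → ∀ p : Ideal A, p.IsPrime →
      ∃ s, s ∉ p ∧ ∃ b : A, b ^ 2 = s ^ 2 * x ∧ b ^ 3 = s ^ 3 * y) :
    HTop.IsSeminormalRing A := by
  intro x y hxy
  obtain ⟨a, ha2, ha3⟩ := exists_sq_cube_of_local x y hxy (h x y hxy)
  refine ⟨a, ⟨ha2, ha3⟩, ?_⟩
  rintro a' ⟨ha'2, ha'3⟩
  exact eq_of_sq_cube_reduced _ _ (by rw [← ha2, ← ha'2]) (by rw [← ha3, ← ha'3])

end ring

section scheme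

theorem isSeminormal_of_isNormalScheme {X : Scheme.{u}} (h : Pi1.IsNormalScheme X) :
    HTop.IsSeminormal X := by
  haveI : AlgebraicGeometry.IsReduced X := by
    haveI : ∀ x : X, _root_.IsReduced (X.presheaf.stalk x) := by
      intro x
      haveI := (h x).1
      infer_instance
    exact isReduced_of_isReduced_stalk X
  intro x
  obtain ⟨_, ⟨U, hU', rfl⟩, hxU, -⟩ :=
    X.isBasis_affineOpens.exists_subset_of_mem_open (Set.mem_univ x) isOpen_univ
  have hU : IsAffineOpen U := hU'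
  refine ⟨⟨U, hU⟩, hxU, ?_⟩
  apply isSeminormalRing_of_forall_prime
  intro a b hab p hp
  set y : PrimeSpectrum Γ(X, U) := ⟨p, hp⟩ with hy
  have hyU : hU.fromSpec y ∈ U := by
    have h1 : hU.fromSpec y ∈ Set.range hU.fromSpec := Set.mem_range_self y
    rw [hU.range_fromSpec] at h1
    exact h1
  letI := TopCat.Presheaf.algebra_section_stalk X.presheaf ⟨hU.fromSpec y, hyU⟩
  haveI : IsLocalization.AtPrime (X.presheaf.stalk (hU.fromSpec y)) p :=
    hU.isLocalization_stalk' y hyU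
  haveI := (h (hU.fromSpec y)).1
  haveI := (h (hU.fromSpec y)).2
  exact exists_local_of_isIntegrallyClosed p (X.presheaf.stalk (hU.fromSpec y)) a b hab

end scheme

end Groth.Agent.Lib.helper2.NormalSN
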