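import Mathlib

set_option autoImplicit false
universe u

namespace Groth.Agent.Lib.helper2.NrmTot

open scoped nonZeroDivisors

variable (A : Type u) [CommRing A]

theorem algebraMap_nrm_injective :
    Function.Injective (algebraMap A (integralClosure A (FractionRing A))) := by
  intro x y hxy
  have := congrArg (algebraMap (integralClosure A (FractionRing A)) (FractionRing A)) hxy
  rw [← IsScalarTower.algebraMap_apply, ← IsScalarTower.algebraMap_apply] at this
  exact IsFractionRing.injective A (FractionRing A) this

/-- the total ring of fractions of `A` is also that of its normalization. -/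
theorem isFractionRing_nrm :
    IsFractionRing (integralClosure A (FractionRing A)) (FractionRing A) := by
  have hinj : Function.Injective
      (algebraMap (integralClosure A (FractionRing A)) (FractionRing A)) := Subtype.val_injective
  have hAnzd : ∀ s : A, s ∈ A⁰ →
      algebraMap A (integralClosure A (FractionRing A)) s ∈ (integralClosure A (FractionRing A))⁰ := by
    intro s hs
    have hu : IsUnit (algebraMap A (FractionRing A) s) := IsLocalization.map_units _ ⟨s, hs⟩
    rw [mem_nonZeroDivisors_iff]
    have key : ∀ x : integralClosure A (FractionRing A),
        algebraMap A (integralClosure A (FractionRing A)) s * x = 0 → x = 0 := by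
      intro x hx
      have h1 := congrArg (algebraMap (integralClosure A (FractionRing A)) (FractionRing A)) hx
      rw [map_mul, map_zero, ← IsScalarTower.algebraMap_apply] at h1
      exact hinj (by rw [map_zero]; exact (hu.mul_right_eq_zero).mp h1)
    exact ⟨key, fun x hx => key x (by rw [mul_comm]; exact hx)⟩
  refine { map_units := ?_, surj := ?_, exists_of_eq := ?_ }
  · rintro ⟨s', hs'⟩
    obtain ⟨⟨c, t⟩, hct⟩ := IsLocalization.surj A⁰ (s' : FractionRing A)
    have hc : c ∈ A⁰ := by
      rw [mem_nonZeroDivisors_iff_right]
      intro x hx
      have h1 : s' * (algebraMap A (integralClosure A (FractionRing A)) (t * x)) = 0 := by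
        apply hinj
        rw [map_mul, map_zero, ← IsScalarTower.algebraMap_apply, map_mul, ← mul_assoc]
        have : (algebraMap (integralClosure A (FractionRing A)) (FractionRing A)) s' *
            (algebraMap A (FractionRing A)) t = algebraMap A (FractionRing A) c := hct
        rw [this, ← map_mul, mul_comm c x, hx, map_zero]
      have h2 := (mem_nonZeroDivisors_iff.mp hs').1 _ h1
      have h3 : t * x = 0 := algebraMap_nrm_injective A (by rw [h2, map_zero])
      exact (mem_nonZeroDivisors_iff.mp t.2).1 _ h3
    have hcu : IsUnit (algebraMap A (FractionRing A) c) := IsLocalization.map_units _ ⟨c, hc⟩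
    have hct' : (algebraMap (integralClosure A (FractionRing A)) (FractionRing A)) s' *
        (algebraMap A (FractionRing A)) t = algebraMap A (FractionRing A) c := hct
    rw [← hct'] at hcu
    exact isUnit_of_mul_isUnit_left hcu
  · intro z
    obtain ⟨⟨a, s⟩, has⟩ := IsLocalization.surj A⁰ z
    refine ⟨⟨algebraMap A _ a, ⟨algebraMap A _ s, hAnzd s s.2⟩⟩, ?_⟩
    show z * algebraMap (integralClosure A (FractionRing A)) (FractionRing A)
      (algebraMap A (integralClosure A (FractionRing A)) s) =
      algebraMap (integralClosure A (FractionRing A)) (FractionRing A)
        (algebraMap A (integralClosure A (FractionRing A)) a)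
    rw [← IsScalarTower.algebraMap_apply, ← IsScalarTower.algebraMap_apply]
    exact has
  · intro x y hxy
    exact ⟨1, by rw [hinj hxy]⟩

theorem isIntegrallyClosed_nrm : IsIntegrallyClosed (integralClosure A (FractionRing A)) := by
  haveI := isFractionRing_nrm A
  rw [isIntegrallyClosed_iff_isIntegrallyClosedIn (FractionRing A)]
  infer_instance

theorem isReduced_nrm [IsReduced A] : IsReduced (integralClosure A (FractionRing A)) := by
  haveI : IsReduced (FractionRing A) := inferInstanceAs (IsReduced (Localization A⁰))
  exact isReduced_of_injective (algebraMap (integralClosure A (FractionRing A)) (FractionRing A))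
    Subtype.val_injective

end Groth.Agent.Lib.helper2.NrmTot
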