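import Groth.Prelude.Def_Models
import Mathlib.Tactic.Linarith
import Mathlib.Tactic.Ring
import Mathlib.Tactic.FieldSimp

/-!
# Basic lemmas on numerical types (helper library of seat helper2)
-/

set_option autoImplicit false

namespace Groth.Agent.Lib.helper2.NumType

open Finset Models

variable {n : ℕ} (T : Models.NumericalType n)

lemma row_sum (i : Fin n) : ∑ j, T.a i j * T.m j = 0 := by
  have := congrFun T.mulVec_m i
  simpa [Matrix.mulVec, dotProduct] using this

lemma symm_apply (i j : Fin n) : T.a i j = T.a j i := T.symm.apply j i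

/-- A partial row sum containing the diagonal term is non-positive. -/
lemma row_sum_le (i : Fin n) (S : Finset (Fin n)) (hi : i ∈ S) :
    ∑ j ∈ S, T.a i j * T.m j ≤ 0 := by
  have h := row_sum T i
  rw [← Finset.sum_add_sum_compl S] at h
  have hc : 0 ≤ ∑ j ∈ Sᶜ, T.a i j * T.m j :=
    Finset.sum_nonneg fun j hj => mul_nonneg
      (T.offDiag_nonneg i j (by rintro rfl; exact (Finset.mem_compl.1 hj) hi)) (T.m_pos j).le
  linarith

lemma w_le_of_pos {i j : Fin n} (h : 0 < T.a i j) : T.w i ≤ T.a i j :=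
  Int.le_of_dvd h (T.w_dvd i j)

lemma w_le_of_pos' {i j : Fin n} (h : 0 < T.a i j) : T.w j ≤ T.a i j := by
  rw [symm_apply]
  exact Int.le_of_dvd (by rwa [← symm_apply]) (T.w_dvd j i)

lemma offDiag_pos_of_ne_zero {i j : Fin n} (hij : i ≠ j) (h : T.a i j ≠ 0) : 0 < T.a i j :=
  lt_of_le_of_ne (T.offDiag_nonneg i j hij) (Ne.symm h)

/-- Row inequality for a `(-2)`-index `i` and one neighbour `j`. -/
lemma minusTwo_pair {i j : Fin n} (hij : i ≠ j) (hi : T.IsMinusTwo i) :
    T.a i j * T.m j ≤ 2 * T.w i * T.m i := by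
  have h := row_sum_le T i {i, j} (by simp)
  rw [Finset.sum_pair hij, hi.2] at h
  linarith

/-- Row inequality for a `(-2)`-index `i` and two distinct neighbours `j`, `k`. -/
lemma minusTwo_triple {i j k : Fin n} (hij : i ≠ j) (hik : i ≠ k) (hjk : j ≠ k)
    (hi : T.IsMinusTwo i) :
    T.a i j * T.m j + T.a i k * T.m k ≤ 2 * T.w i * T.m i := by
  have h := row_sum_le T i {i, j, k} (by simp)
  rw [Finset.sum_insert (by simp [hij, hik]), Finset.sum_pair hjk, hi.2] at h
  linarith

/-- The intersection form is negative on nonzero vectors having a zero coordinate. -/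
theorem quadForm_neg (x : Fin n → ℤ) (hx : x ≠ 0) (i₀ : Fin n) (h0 : x i₀ = 0) :
    ∑ i, ∑ j, x i * T.a i j * x j < 0 := by
  classical
  set y : Fin n → ℚ := fun i => (x i : ℚ) / (T.m i : ℚ) with hy
  have hm : ∀ i, (0 : ℚ) < (T.m i : ℚ) := fun i => by exact_mod_cast T.m_pos i
  have hxy : ∀ i, (x i : ℚ) = (T.m i : ℚ) * y i := fun i => by
    simp only [hy]; field_simp [(hm i).ne']
  set B : Fin n → Fin n → ℚ := fun i j => (T.m i : ℚ) * (T.a i j : ℚ) * (T.m j : ℚ) with hB
  have hBs : ∀ i j, B i j = B j i := fun i j => by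
    simp only [hB]; rw [symm_apply T i j]; ring
  have hBnn : ∀ i j, i ≠ j → 0 ≤ B i j := fun i j hij => by
    simp only [hB]
    have : (0 : ℚ) ≤ (T.a i j : ℚ) := by exact_mod_cast T.offDiag_nonneg i j hij
    exact mul_nonneg (mul_nonneg (hm i).le this) (hm j).le
  have hrow : ∀ i, ∑ j, B i j = 0 := by
    intro i
    have h := row_sum T i
    have h' : ∑ j, (T.a i j : ℚ) * (T.m j : ℚ) = 0 := by exact_mod_cast h
    simp only [hB]
    calc ∑ j, (T.m i : ℚ) * (T.a i j : ℚ) * (T.m j : ℚ)
        = (T.m i : ℚ) * ∑ j, (T.a i j : ℚ) * (T.m j : ℚ) := by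
          rw [Finset.mul_sum]; exact Finset.sum_congr rfl fun j _ => by ring
      _ = 0 := by rw [h', mul_zero]
  have hS12 : ∑ i, ∑ j, B i j * y i ^ 2 = ∑ i, ∑ j, B i j * y j ^ 2 := by
    rw [Finset.sum_comm]
    refine Finset.sum_congr rfl fun a _ => Finset.sum_congr rfl fun b _ => ?_
    rw [hBs b a]
  have hS1 : ∑ i, ∑ j, B i j * y i ^ 2 = 0 := by
    refine Finset.sum_eq_zero fun i _ => ?_
    rw [← Finset.sum_mul, hrow i, zero_mul]
  have hT2 : ∑ i, ∑ j, B i j * (y i - y j) ^ 2 =
      ∑ i, ∑ j, B i j * y i ^ 2 - 2 * ∑ i, ∑ j, B i j * (y i * y j)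
        + ∑ i, ∑ j, B i j * y j ^ 2 := by
    simp only [Finset.mul_sum, ← Finset.sum_sub_distrib, ← Finset.sum_add_distrib]
    refine Finset.sum_congr rfl fun i _ => Finset.sum_congr rfl fun j _ => ?_
    ring
  have hform : ((∑ i, ∑ j, x i * T.a i j * x j : ℤ) : ℚ) = ∑ i, ∑ j, B i j * (y i * y j) := by
    push_cast
    refine Finset.sum_congr rfl fun i _ => Finset.sum_congr rfl fun j _ => ?_
    simp only [hB]; rw [hxy i, hxy j]; ring
  have hterm : ∀ i j, 0 ≤ B i j * (y i - y j) ^ 2 := fun i j => by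
    by_cases hij : i = j
    · subst hij; simp
    · exact mul_nonneg (hBnn i j hij) (sq_nonneg _)
  have hT2in : ∀ i ∈ (univ : Finset (Fin n)), 0 ≤ ∑ j, B i j * (y i - y j) ^ 2 := fun i _ =>
    Finset.sum_nonneg fun j _ => hterm i j
  have hT2nn : 0 ≤ ∑ i, ∑ j, B i j * (y i - y j) ^ 2 := Finset.sum_nonneg hT2in
  have hle : ((∑ i, ∑ j, x i * T.a i j * x j : ℤ) : ℚ) ≤ 0 := by
    rw [hform]
    rw [hT2, ← hS12, hS1] at hT2nn
    linarith
  rcases lt_or_eq_of_le hle with hlt | heq
  · exact_mod_cast hlt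
  · exfalso
    have hT2z : ∑ i, ∑ j, B i j * (y i - y j) ^ 2 = 0 := by
      rw [hT2, ← hS12, hS1, ← hform, heq]; ring
    have hb : ∀ i j, T.a i j ≠ 0 → y i = y j := by
      intro i j haij
      by_cases hij : i = j
      · rw [hij]
      have h1 := (Finset.sum_eq_zero_iff_of_nonneg hT2in).1 hT2z i (mem_univ i)
      have h2 := (Finset.sum_eq_zero_iff_of_nonneg (fun j _ => hterm i j)).1 h1 j (mem_univ j)
      rcases mul_eq_zero.1 h2 with h | h
      · simp only [hB] at h
        have haq : (T.a i j : ℚ) ≠ 0 := by exact_mod_cast haij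
        exact absurd h (mul_ne_zero (mul_ne_zero (hm i).ne' haq) (hm j).ne')
      · exact sub_eq_zero.1 (by simpa using h)
    -- connectivity
    have hI : (univ.filter fun i => y i = 0) = univ := by
      by_contra hne
      obtain ⟨i, hi, j, hj, hij⟩ := T.connected (univ.filter fun i => y i = 0)
        ⟨i₀, by simp [hy, h0]⟩ hne
      have := hb i j hij
      rw [(Finset.mem_filter.1 hi).2] at this
      exact hj (Finset.mem_filter.2 ⟨mem_univ j, this.symm⟩)
    apply hx
    funext i
    have hi : i ∈ (univ.filter fun i => y i = 0) := by rw [hI]; exact mem_univ i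
    have hyi := (Finset.mem_filter.1 hi).2
    have := hxy i
    rw [hyi, mul_zero] at this
    exact_mod_cast this

/-- Negative definiteness on a proper subset of indices, phrased with an embedding. -/
theorem quadForm_neg_emb {r : ℕ} (v : Fin r ↪ Fin n) (hr : r < n) (c : Fin r → ℤ) (hc : c ≠ 0) :
    ∑ p, ∑ q, c p * T.a (v p) (v q) * c q < 0 := by
  classical
  set x : Fin n → ℤ := Function.extend v c 0 with hx
  have hxv : ∀ p, x (v p) = c p := fun p => v.injective.extend_apply c 0 p
  have hx0 : ∀ u, u ∉ univ.map v → x u = 0 := by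
    intro u hu
    have : ¬ ∃ p, v p = u := fun ⟨p, hp⟩ => hu (by rw [← hp]; simp)
    simp only [hx, Function.extend_apply' _ _ _ this, Pi.zero_apply]
  have hne : x ≠ 0 := by
    intro h
    apply hc
    funext p
    rw [← hxv p, h]; rfl
  have hcard : (univ.map v) ≠ (univ : Finset (Fin n)) := by
    intro h
    have := congrArg Finset.card h
    rw [Finset.card_map, Finset.card_univ, Finset.card_univ, Fintype.card_fin,
      Fintype.card_fin] at this
    omega
  obtain ⟨i₀, hi₀⟩ : ∃ i₀, i₀ ∉ univ.map v := by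
    by_contra h
    push Not at h
    exact hcard (Finset.eq_univ_iff_forall.2 h)
  have h := quadForm_neg T x hne i₀ (hx0 i₀ hi₀)
  have hsum : ∑ i, ∑ j, x i * T.a i j * x j = ∑ p, ∑ q, c p * T.a (v p) (v q) * c q := by
    rw [← Finset.sum_subset (Finset.subset_univ (univ.map v))
      (fun u _ hu => by simp [hx0 u hu]), Finset.sum_map]
    refine Finset.sum_congr rfl fun p _ => ?_
    rw [← Finset.sum_subset (Finset.subset_univ (univ.map v))
      (fun u _ hu => by simp [hx0 u hu]), Finset.sum_map]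
    refine Finset.sum_congr rfl fun q _ => ?_
    rw [hxv p, hxv q]
  rw [hsum] at h
  exact h

/-- Explicit form of negative definiteness for two distinct indices. -/
theorem quadForm_neg_two {i j : Fin n} (hij : i ≠ j) (hn : 2 < n) (c0 c1 : ℤ)
    (hc : c0 ≠ 0 ∨ c1 ≠ 0) :
    c0 * c0 * T.a i i + c1 * c1 * T.a j j + 2 * (c0 * c1) * T.a i j < 0 := by
  classical
  have hinj : Function.Injective ![i, j] := by
    intro x y hxy
    fin_cases x <;> fin_cases y <;> simp_all [Ne.symm]
  have h := quadForm_neg_emb T ⟨![i, j], hinj⟩ hn ![c0, c1] (by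
    intro h0
    have e0 := congrFun h0 0
    have e1 := congrFun h0 1
    simp at e0 e1
    rcases hc with h | h
    · exact h e0
    · exact h e1)
  simp only [Fin.sum_univ_two] at h
  change (c0 * T.a i i * c0 + c0 * T.a i j * c1)
    + (c1 * T.a j i * c0 + c1 * T.a j j * c1) < 0 at h
  rw [symm_apply T j i] at h
  linarith

/-- Explicit form of negative definiteness for three distinct indices. -/
theorem quadForm_neg_three {i j k : Fin n} (hij : i ≠ j) (hik : i ≠ k) (hjk : j ≠ k)
    (hn : 3 < n) (c0 c1 c2 : ℤ) (hc : c0 ≠ 0 ∨ c1 ≠ 0 ∨ c2 ≠ 0) :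
    c0 * c0 * T.a i i + c1 * c1 * T.a j j + c2 * c2 * T.a k k + 2 * (c0 * c1) * T.a i j
      + 2 * (c0 * c2) * T.a i k + 2 * (c1 * c2) * T.a j k < 0 := by
  classical
  have hinj : Function.Injective ![i, j, k] := by
    intro x y hxy
    fin_cases x <;> fin_cases y <;> simp_all [Ne.symm]
  have h := quadForm_neg_emb T ⟨![i, j, k], hinj⟩ hn ![c0, c1, c2] (by
    intro h0
    have e0 := congrFun h0 0
    have e1 := congrFun h0 1
    have e2 := congrFun h0 2
    simp at e0 e1 e2
    rcases hc with h | h | h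
    · exact h e0
    · exact h e1
    · exact h e2)
  simp only [Fin.sum_univ_three] at h
  change (c0 * T.a i i * c0 + c0 * T.a i j * c1 + c0 * T.a i k * c2)
    + (c1 * T.a j i * c0 + c1 * T.a j j * c1 + c1 * T.a j k * c2)
    + (c2 * T.a k i * c0 + c2 * T.a k j * c1 + c2 * T.a k k * c2) < 0 at h
  rw [symm_apply T j i, symm_apply T k i, symm_apply T k j] at h
  linarith

/-- The exact quotient `a i j / w i` as an existential. -/
lemma exists_quot (i j : Fin n) : ∃ p : ℤ, T.a i j = T.w i * p := T.w_dvd i j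

lemma exists_quot' (i j : Fin n) : ∃ q : ℤ, T.a i j = T.w j * q := by
  rw [symm_apply]; exact T.w_dvd j i

end Groth.Agent.Lib.helper2.NumType
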