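import Mathlib
import Groth.Prelude.Def_Cyc
import Groth.Prelude.Def_ChowOps
import Groth.Agent.Lib.Helper2.PInsep1

/-!
# helper2: Chow groups under a finite purely inseparable base field extension: main theorem
-/

set_option autoImplicit false
universe u
open CategoryTheory CategoryTheory.Limits AlgebraicGeometry TopologicalSpace Opposite

namespace Groth.Agent.Lib.helper2.PInsep

open Function IsLocalRing Groth.Agent.Lib.helper17.FibreStalk Groth.Agent.Lib.helper3.DimIneq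
  Groth.Agent.Lib.helper3.RelDim Groth.Agent.Lib.helper3.QFinAffineSpace
  Groth.Agent.Lib.helper16.FinDeg Groth.Agent.Lib.helper16.ShiftPull
  Groth.Agent.Lib.helper16.C1Pull Groth.Agent.Lib.helper2.BivarPush

theorem cl_nsmul {X : Scheme.{u}} {δ : X → ℤ} {i : ℤ} (d : ℕ) (β : AlgebraicCycle X ℤ)
    (hβ : β ∈ Cyc.Zk X δ i) (h : d • β ∈ Cyc.Zk X δ i) :
    ChowOps.cl (d • β) h = d • ChowOps.cl β hβ := by
  show ChowOps.clHom X δ i ⟨d • β, h⟩ = d • ChowOps.clHom X δ i ⟨β, hβ⟩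
  rw [← map_nsmul]
  rfl

theorem main (k E : Type u) [Field k] [Field E] [Algebra k E] (p : ℕ) [Fact p.Prime] [CharP k p]
    [Module.Finite k E] [IsPurelyInseparable k E] (X X' : Scheme.{u})
    (g : X ⟶ Spec (CommRingCat.of k)) (f : X' ⟶ X) (g' : X' ⟶ Spec (CommRingCat.of E))
    (hsq : IsPullback f g' g (Spec.map (CommRingCat.ofHom (algebraMap k E))))
    (δ : X → ℤ) (δ' : X' → ℤ) (hX : Cyc.IsSetup X δ) (hX' : Cyc.IsSetup X' δ')
    (hδ : Cyc.DeltaCompat f δ' δ) (i : ℤ) :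
    (∀ (β : AlgebraicCycle X' ℤ) (hβ : β ∈ Cyc.Zk X' δ' i),
      ∃ (α : AlgebraicCycle X ℤ) (hα : α ∈ Cyc.Zk X δ i) (α' : AlgebraicCycle X' ℤ)
        (hα' : α' ∈ Cyc.Zk X' δ' i) (s : ℕ), ⇑α' = Cyc.pullFun f δ' δ 0 ⇑α ∧
          ChowOps.cl α' hα' = p ^ s • ChowOps.cl β hβ) ∧
    (∀ (α : AlgebraicCycle X ℤ) (hα : α ∈ Cyc.Zk X δ i) (α' : AlgebraicCycle X' ℤ)
      (hα' : α' ∈ Cyc.Zk X' δ' i), ⇑α' = Cyc.pullFun f δ' δ 0 ⇑α → ChowOps.cl α' hα' = 0 →
        ∃ s : ℕ, p ^ s • ChowOps.cl α hα = 0) := by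
  haveI : IsFinite (Spec.map (CommRingCat.ofHom (algebraMap k E))) := by
    rw [IsFinite.SpecMap_iff]
    simpa [RingHom.finite_algebraMap]
  haveI : Flat (Spec.map (CommRingCat.ofHom (algebraMap k E))) := by
    rw [Flat.SpecMap_iff]
    simpa [RingHom.flat_algebraMap_iff] using (inferInstance : Module.Flat k E)
  haveI := universallyInjective_specMap k E
  haveI : IsFinite f := MorphismProperty.of_isPullback hsq.flip inferInstance
  haveI : Flat f := MorphismProperty.of_isPullback hsq.flip inferInstance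
  haveI : UniversallyInjective f := MorphismProperty.of_isPullback hsq.flip inferInstance
  have hinj : Injective f := f.injective
  set d : ℕ := Module.finrank k E with hd_def
  have hd : ∀ y : X, f.finrank y = d := by
    intro y
    rw [Scheme.Hom.finrank_of_isPullback g' f _ g hsq.flip, Scheme.Hom.finrank_SpecMap_algebraMap,
      Module.rankAtStalk_eq_finrank_of_free]
    rfl
  haveI : ExpChar k p := ExpChar.prime Fact.out
  obtain ⟨s, hs⟩ := IsPurelyInseparable.finrank_eq_pow (F := k) E p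
  refine ⟨fun β hβ => ?_, fun α hα α' hα' hpull hcl => ?_⟩
  · have hα : AlgebraicCycle.map f δ' δ β ∈ Cyc.Zk X δ i := Bivar.cycMap_mem_Zk f δ' δ i hβ
    have hα' : d • β ∈ Cyc.Zk X' δ' i := (ChowOps.zk X' δ' i).nsmul_mem hβ d
    refine ⟨AlgebraicCycle.map f δ' δ β, hα, d • β, hα', s,
      (pullFun_map_of_finite_flat_injective f hinj δ' δ d hd hδ β).symm, ?_⟩
    rw [cl_nsmul d β hβ hα', ← hs]
  · refine ⟨s, ?_⟩
    have h1 := pushCH_cl δ' δ hX' hX f hδ i α' hα'
    rw [hcl, map_zero] at h1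
    have h2 : AlgebraicCycle.map f δ' δ α' = d • α :=
      map_pullFun_of_finite_flat f δ' δ d hd hδ α α' hpull
    have h3 : d • α ∈ Cyc.Zk X δ i := (ChowOps.zk X δ i).nsmul_mem hα d
    have h4 : ChowOps.cl (d • α) h3 = 0 := by
      rw [h1]
      congr 1
      exact h2.symm
    rw [cl_nsmul d α hα h3, hd_def, hs] at h4
    exact h4

end Groth.Agent.Lib.helper2.PInsep
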