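import Mathlib
import Groth.Agent.Lib.Helper2.PPush5
import Groth.Agent.Lib.Helper2.ExtRat1
import Groth.Agent.S1858

/-!
# `f_* ∘ c`: compatibility with flat pullback (helper2)
-/

set_option autoImplicit false
set_option linter.unusedSectionVars false

namespace Groth.Agent.Lib.helper2.PPush

universe u

open CategoryTheory CategoryTheory.Limits AlgebraicGeometry TopologicalSpace Function Opposite
open Groth.Agent.Lib.helper2.BivarPush Bivar

variable {X Y Z : Scheme.{u}} {δX : X → ℤ} {δY : Y → ℤ} {δZ : Z → ℤ}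
  (f : X ⟶ Y) (g : Y ⟶ Z) [LocallyOfFiniteType g]
  [IsProper f] (hX : Cyc.IsSetup X δX) (hY : Cyc.IsSetup Y δY)
  (hδf : Cyc.DeltaCompat f δX δY) {p : ℤ} (c : Cl p (f ≫ g) δX δZ)

theorem pullOK_pushOp (s t : Sq g δY δZ) (h : t.Y' ⟶ s.Y') [Flat h] (h' : t.X' ⟶ s.X')
    [Flat h'] (r : ℕ) (hr : Cyc.HasRelDim h r) (hr' : Cyc.HasRelDim h' r)
    (w1 : h ≫ s.g = t.g) (w2 : h' ≫ s.f' = t.f' ≫ h) (w3 : h' ≫ s.g' = t.g') (k : ℤ) :
    PullOK s.δY' s.δX' t.δY' t.δX' h h' (r : ℤ) (pushOp f g hX hY hδf c s k)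
      (pushOp f g hX hY hδf c t (k + r)) := by
  intro α hα
  set ds := chosen f g s δX with hds
  set dt := ds.baseChange h' w3 with hdt
  haveI := ds.isProper_f'
  haveI := dt.isProper_f'
  haveI : LocallyOfFiniteType t.g' := Sq.lft_g' t
  haveI : LocallyOfFiniteType h' := by
    haveI : LocallyOfFiniteType (h' ≫ s.g') := by rw [w3]; infer_instance
    exact locallyOfFiniteType_of_comp h' s.g'
  let h'' : dt.X' ⟶ ds.X' := pullback.fst ds.f' h'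
  haveI : Flat h'' := inferInstanceAs (Flat (pullback.fst ds.f' h'))
  have hcond : h'' ≫ ds.f' = dt.f' ≫ h' := pullback.condition
  have hr'' : Cyc.HasRelDim h'' r :=
    Groth.Agent.Lib.helper2.ExtRat.hasRelDim_of_isPullback h' ds.f' dt.f' h''
      (IsPullback.of_hasPullback ds.f' h').flip r hr'
  have w1' : h ≫ ds.sq.g = dt.sq.g := w1
  have w2' : h'' ≫ ds.sq.f' = dt.sq.f' ≫ h := by
    show h'' ≫ ds.f' ≫ s.f' = (dt.f' ≫ t.f') ≫ h
    rw [← Category.assoc, hcond, Category.assoc, w2, Category.assoc]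
  have w3' : h'' ≫ ds.sq.g' = dt.sq.g' := rfl
  obtain ⟨β, hβ, e₁, e₂⟩ := c.pull ds.sq dt.sq h h'' r hr hr'' w1' w2' w3' k α hα
  have hsds : Cyc.IsSetup ds.X' ds.δX' := ds.isSetup hX
  have hsdt : Cyc.IsSetup dt.X' dt.δX' := dt.isSetup hX
  have hssX : Cyc.IsSetup s.X' s.δX' := Sq.isSetup_X' hY s
  have hstX : Cyc.IsSetup t.X' t.δX' := Sq.isSetup_X' hY t
  have hδh' : Cyc.DeltaCompat h' t.δX' s.δX' := by
    refine deltaCompat_cancel h' s.g' t.δX' s.δX' δY ?_ s.compatX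
    rw [w3]
    exact t.compatX
  refine ⟨AlgebraicCycle.map ds.f' ds.δX' s.δX' β, cycMap_mem_Zk _ _ _ (k - p) hβ, ?_, ?_⟩
  · exact pushOp_cl f g hX hY hδf c s k α hα β hβ e₁
  · intro α₁ hα₁e hα₁
    obtain ⟨β₁, hβ₁, e₃, e₄⟩ := e₂ α₁ hα₁e hα₁
    refine ⟨AlgebraicCycle.map dt.f' dt.δX' t.δX' β₁, cycMap_mem_Zk _ _ _ _ hβ₁, ?_, ?_⟩
    · exact Groth.Agent.S1858.result ds.X' s.X' t.X' ds.f' h' ds.δX' s.δX' t.δX' dt.δX' r hr'
        hssX hsds hstX (ds.deltaCompat_f' hδf) hδh' (dt.deltaCompat_f' hδf) (k - p) β hβ β₁ e₃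
    · exact pushOp_eq f g hX hY hδf c t dt (k + r) α₁ hα₁ β₁ hβ₁ e₄

end Groth.Agent.Lib.helper2.PPush
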