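import Mathlib
import Groth.Agent.Lib.Helper2.PerfSchFamily

/-!
# Integral universally injective morphisms to perfect schemes are closed immersions (helper2)
-/

set_option autoImplicit false
universe u

open AlgebraicGeometry CategoryTheory Limits MorphismProperty

namespace Groth.Agent.Lib.helper2.PerfSchImm

open Groth.Agent.Lib.helper2 Groth.Agent.Lib.helper2.AWNScheme Groth.Agent.Lib.helper2.PerfSchLib
open Groth.Agent.Lib.helper2.PerfSchFamily Groth.Agent.Lib.helper2.AWNRing
open FrobSch

theorem univInj_of_comp {X Y Z : Scheme.{u}} (f : X ⟶ Y) (g : Y ⟶ Z)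
    (h : UniversallyInjective (f ≫ g)) : UniversallyInjective f := by
  refine ((tfae_universallyInjective f).out 0 1).2 ?_
  intro K _ a b hab
  have h01 : UniversallyInjective (f ≫ g) →
      ∀ (K : Type u) [Field K], Function.Injective
        (fun k : Spec (.of K) ⟶ X ↦ k ≫ f ≫ g) :=
    ((tfae_universallyInjective (f ≫ g)).out 0 1).1
  have h2 := h01 h K
  apply h2
  show a ≫ f ≫ g = b ≫ f ≫ g
  have hab' : a ≫ f = b ≫ f := hab
  rw [← Category.assoc, hab', Category.assoc]

theorem isIntegralHom_of_comp {X Y Z : Scheme.{u}} (f : X ⟶ Y) (g : Y ⟶ Z)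
    [IsIntegralHom (f ≫ g)] [IsSeparated g] : IsIntegralHom f := by
  rw [IsIntegralHom.iff_universallyClosed_and_isAffineHom]
  exact ⟨UniversallyClosed.of_comp_of_isSeparated f g, IsAffineHom.of_comp f g⟩

section ring

variable (p : ℕ) [Fact p.Prime]

theorem pow_injective_of_isReduced (S : Type u) [CommRing S] [IsReduced S] (h0 : (p : S) = 0) :
    Function.Injective fun s : S => s ^ p := by
  intro x y hxy
  have h1 : powHom p S h0 (x - y) = 0 := by
    rw [map_sub, powHom_apply, powHom_apply]
    exact sub_eq_zero.2 hxy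
  have h2 : IsNilpotent (x - y) := ⟨p, h1⟩
  exact sub_eq_zero.1 h2.eq_zero

/-- An integral ring map from a perfect ring to a reduced ring, whose field-valued points are
determined by their restrictions, is surjective. -/
theorem surjective_of_perfect {R S : Type u} [CommRing R] [CommRing S] (h0 : (p : R) = 0)
    (hR : Function.Bijective fun r : R => r ^ p) [IsReduced S] (φ : R →+* S)
    (hint : φ.IsIntegral)
    (hpts : ∀ (K : Type u) [Field K] (a b : S →+* K), a.comp φ = b.comp φ → a = b) :
    Function.Surjective φ := by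
  let R' : Subring S := φ.range
  let φ' : R →+* R' := φ.rangeRestrict
  let ι : R' →+* S := R'.subtype
  have hφ' : Function.Surjective φ' := φ.rangeRestrict_surjective
  have hι : Function.Injective ι := Subtype.val_injective
  have hcomp : ι.comp φ' = φ := rfl
  have h0' : (p : R') = 0 := by
    have : (p : R') = φ' (p : R) := by simp
    rw [this, h0, map_zero]
  haveI : IsReduced R' := isReduced_of_injective ι hι
  haveI : PerfectRing R' p := by
    refine ⟨⟨pow_injective_of_isReduced p R' h0', ?_⟩⟩
    intro y
    obtain ⟨r, rfl⟩ := hφ' y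
    obtain ⟨s, rfl⟩ := hR.2 r
    exact ⟨φ' s, (map_pow φ' s p).symm⟩
  have hR' : HTop.IsAWNRing R' := PerfAWN.isAWNRing_of_perfectRing p R' h0'
  have hιint : ι.IsIntegral := by
    refine RingHom.IsIntegral.tower_top φ' ι ?_
    rw [hcomp]
    exact hint
  have hUH : FlatMor.IsUnivHomeo (Spec.map (CommRingCat.ofHom ι)) := by
    refine SpecResidue.isUnivHomeo_Spec_of ι hιint ?_ ?_
    · intro q
      exact UnivHomeoElem.exists_prime_over ι hι hιint q
    · intro K _ a b hab
      apply hpts
      rw [← hcomp, ← RingHom.comp_assoc, ← RingHom.comp_assoc, hab]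
  have hbij := bijective_of_isAWNRing hR' ι hUH
  intro s
  obtain ⟨r', hr'⟩ := hbij.2 s
  obtain ⟨r, hr⟩ := hφ' r'
  exact ⟨r, by rw [← hr', ← hr]; rfl⟩

end ring

section scheme

variable (p : ℕ) [Fact p.Prime]

/-- field valued points of the ring of sections over an affine open are determined through a
universally injective morphism. -/
theorem points_of_universallyInjective {X' Y' : Scheme.{u}} (g : X' ⟶ Y')
    (hinj : UniversallyInjective g) {U : Y'.Opens} (hU : IsAffineOpen U)
    (hV : IsAffineOpen (g ⁻¹ᵁ U)) (K : Type u) [Field K] (a b : Γ(X', g ⁻¹ᵁ U) →+* K)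
    (hab : a.comp (g.app U).hom = b.comp (g.app U).hom) : a = b := by
  have h01 : UniversallyInjective g →
      ∀ (K : Type u) [Field K], Function.Injective
        (fun k : Spec (.of K) ⟶ X' ↦ k ≫ g) :=
    ((tfae_universallyInjective g).out 0 1).1
  have h2 := h01 hinj K
  have hnat : Spec.map (g.app U) ≫ hU.fromSpec = hV.fromSpec ≫ g := by
    rw [Scheme.Hom.app_eq_appLE]
    exact IsAffineOpen.SpecMap_appLE_fromSpec g hU hV le_rfl
  have e1 : Spec.map (CommRingCat.ofHom a) ≫ hV.fromSpec =
      Spec.map (CommRingCat.ofHom b) ≫ hV.fromSpec := by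
    apply h2
    show (Spec.map (CommRingCat.ofHom a) ≫ hV.fromSpec) ≫ g =
      (Spec.map (CommRingCat.ofHom b) ≫ hV.fromSpec) ≫ g
    rw [Category.assoc, Category.assoc, ← hnat, ← Category.assoc, ← Category.assoc,
      ← Spec.map_comp, ← Spec.map_comp]
    congr 2
    apply CommRingCat.hom_ext
    exact hab
  have e2 := (cancel_mono hV.fromSpec).1 e1
  have e3 := Spec.map_injective e2
  exact congrArg CommRingCat.Hom.hom e3

/-- An integral, universally injective morphism from a reduced scheme to a perfect scheme is a
closed immersion. -/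
theorem isClosedImmersion_of_integral_univInj {X' Y' : Scheme.{u}} [IsCharP Y' p]
    (hY : FrobSch.IsPerfect Y' p) (g : X' ⟶ Y') [IsIntegralHom g]
    (hinj : UniversallyInjective g) [AlgebraicGeometry.IsReduced X'] : IsClosedImmersion g := by
  rw [isClosedImmersion_iff_isAffineHom]
  refine ⟨inferInstance, fun U hU => ?_⟩
  have hV : IsAffineOpen (g ⁻¹ᵁ U) := hU.preimage g
  exact surjective_of_perfect p (natCast_eq_zero_app Y' p U)
    (bijective_pow_of_isPerfect p Y' hY U) (g.app U).hom (g.isIntegral_app U hU)
    (points_of_universallyInjective g hinj hU hV)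

end scheme

end Groth.Agent.Lib.helper2.PerfSchImm
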