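import Mathlib

set_option autoImplicit false
universe u

namespace Groth.Agent.Lib.helper2.Pi0

open Topology

/-- topological core -/
theorem bijective_connectedComponentsMap {X : Type u} [TopologicalSpace X] [LocallyConnectedSpace X]
    (U : Set X) (hU : IsOpen U)
    (hdense : ∀ W : Set X, IsOpen W → W.Nonempty → (W ∩ U).Nonempty)
    (hconn : ∀ V : Set X, IsOpen V → IsPreconnected V → IsPreconnected (V ∩ U)) :
    Function.Bijective (Continuous.connectedComponentsMap
      (continuous_subtype_val : Continuous (fun x : U => (x : X)))) := by
  constructor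
  · intro a b hab
    obtain ⟨u, rfl⟩ := ConnectedComponents.surjective_coe a
    obtain ⟨u', rfl⟩ := ConnectedComponents.surjective_coe b
    change ((u : X) : ConnectedComponents X) = ((u' : X) : ConnectedComponents X) at hab
    rw [ConnectedComponents.coe_eq_coe] at hab
    rw [ConnectedComponents.coe_eq_coe]
    set C := connectedComponent (u : X) with hC
    have hCo : IsOpen C := isOpen_connectedComponent
    have hCp : IsPreconnected C := isPreconnected_connectedComponent
    have hS := hconn C hCo hCp
    have hind : IsInducing (Subtype.val : U → X) := IsInducing.subtypeVal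
    have hS' : IsPreconnected ((Subtype.val : U → X) ⁻¹' (C ∩ U)) := by
      rw [← hind.isPreconnected_image]
      rw [Set.image_preimage_eq_inter_range, Subtype.range_coe]
      rwa [Set.inter_assoc, Set.inter_self]
    have hu : u ∈ (Subtype.val : U → X) ⁻¹' (C ∩ U) := ⟨mem_connectedComponent, u.2⟩
    have hu' : u' ∈ (Subtype.val : U → X) ⁻¹' (C ∩ U) := by
      refine ⟨?_, u'.2⟩
      show (u' : X) ∈ C
      rw [hab]; exact mem_connectedComponent
    have hsub := hS'.subset_connectedComponent hu
    exact connectedComponent_eq (hsub hu')
  · intro c
    obtain ⟨x, rfl⟩ := ConnectedComponents.surjective_coe c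
    obtain ⟨y, hyC, hyU⟩ := hdense (connectedComponent x) isOpen_connectedComponent
      ⟨x, mem_connectedComponent⟩
    refine ⟨((⟨y, hyU⟩ : U) : ConnectedComponents U), ?_⟩
    change ((y : X) : ConnectedComponents X) = _
    rw [ConnectedComponents.coe_eq_coe]
    exact (connectedComponent_eq hyC).symm

end Groth.Agent.Lib.helper2.Pi0
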