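import Mathlib
import Groth.Agent.Lib.Helper2.Hartogs4
import Groth.Agent.S2277

set_option autoImplicit false
universe u

open AlgebraicGeometry TopologicalSpace CategoryTheory Opposite ZClos

namespace Groth.Agent.Lib.helper2.Pi0

variable {X : Scheme.{u}}

/-- Lemma 1: restriction of functions `V → V ⊓ U` bijective under the depth hypothesis. -/
theorem bijective_res_structure' [IsLocallyNoetherian X] (U : X.Opens)
    (hdepth : ∀ x : X, x ∉ U →
      (2 : ℕ∞) ≤ LocCoh.depth (X.presheaf.stalk x) (X.presheaf.stalk x)) (V : X.Opens) :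
    Function.Bijective (X.presheaf.map (homOfLE (inf_le_left : V ⊓ U ≤ V)).op) := by
  haveI := Hartogs.isIso_resPushUnit_structure U hdepth
  have h := (ModSec.isIso_iff_bijective_app
    ((resPushUnit U).app (Coh.structureModule X))).mp inferInstance V
  rw [resPushUnit_app_app] at h
  exact (ZClosLib.res_bij_iff_of_eq (Coh.structureModule X) (ZClosLib.image_preimage_eq' U V) _
    (homOfLE inf_le_left)).mp h

/-- Lemma 2: idempotent attached to a decomposition. -/
theorem exists_idem (A B : X.Opens) (hAB : A ⊓ B = ⊥) :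
    ∃ e : Γ(X, A ⊔ B), X.presheaf.map (homOfLE (le_sup_left : A ≤ A ⊔ B)).op e = 1 ∧
      X.presheaf.map (homOfLE (le_sup_right : B ≤ A ⊔ B)).op e = 0 := by
  haveI : Subsingleton (X.sheaf.obj.obj (op (A ⊓ B))) := by
    rw [hAB]; exact (inferInstance : Subsingleton Γ(X, ⊥))
  refine ⟨(X.sheaf.objSupIsoProdEqLocus A B).inv ⟨(1, 0), Subsingleton.elim _ _⟩, ?_, ?_⟩
  · exact TopCat.Sheaf.objSupIsoProdEqLocus_inv_fst X.sheaf A B _
  · exact TopCat.Sheaf.objSupIsoProdEqLocus_inv_snd X.sheaf A B _

/-- Lemma 3 -/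
theorem le_basicOpen_or (V : X.Opens) (hV : _root_.IsPreconnected (V : Set X)) (e : Γ(X, V))
    (he : e * e = e) : V ≤ X.basicOpen e ∨ V ≤ X.basicOpen (1 - e) := by
  have hdisj : Disjoint (X.basicOpen e : Set X) (X.basicOpen (1 - e) : Set X) := by
    rw [Set.disjoint_iff_inter_eq_empty, ← Opens.coe_inf, ← Scheme.basicOpen_mul]
    have : e * (1 - e) = 0 := by rw [mul_sub, mul_one, he, sub_self]
    rw [this, Scheme.basicOpen_zero]; rfl
  have hcov : (V : Set X) ⊆ (X.basicOpen e : Set X) ∪ (X.basicOpen (1 - e) : Set X) := by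
    intro x hx
    have h1 : X.presheaf.germ V x hx e + X.presheaf.germ V x hx (1 - e) = 1 := by
      rw [← map_add, add_sub_cancel, map_one]
    rcases IsLocalRing.isUnit_or_isUnit_of_add_one h1 with h | h
    · exact Or.inl ((X.mem_basicOpen e x hx).mpr h)
    · exact Or.inr ((X.mem_basicOpen (1 - e) x hx).mpr h)
  exact hV.subset_or_subset (X.basicOpen e).2 (X.basicOpen (1 - e)).2 hdisj hcov

/-- a section restricting to `0` on `B` has basic open disjoint from `B`. -/
theorem notMem_basicOpen_of_res_eq_zero {V B : X.Opens} (i : B ⟶ V) (e : Γ(X, V))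
    (h : X.presheaf.map i.op e = 0) (x : X) (hx : x ∈ B) : x ∉ X.basicOpen e := by
  intro hxe
  have hxV : x ∈ V := i.le hx
  have hu := (X.mem_basicOpen e x hxV).mp hxe
  have : X.presheaf.germ V x hxV e = 0 := by
    rw [← TopCat.Presheaf.germ_res_apply X.presheaf i x hx e, h, map_zero]
  rw [this] at hu
  exact not_isUnit_zero hu

end Groth.Agent.Lib.helper2.Pi0
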