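import Mathlib
import Groth.Agent.Lib.Helper2.Pi0b
import Groth.Agent.Lib.Helper2.Pi0a

set_option autoImplicit false
universe u

open AlgebraicGeometry TopologicalSpace CategoryTheory Opposite ZClos

namespace Groth.Agent.Lib.helper2.Pi0

variable {X : Scheme.{u}}

/-- density -/
theorem inter_nonempty_of_res_bijective (U W : X.Opens)
    (hb : Function.Bijective (X.presheaf.map (homOfLE (inf_le_left : W ⊓ U ≤ W)).op))
    (hW : (W : Set X).Nonempty) : ((W : Set X) ∩ (U : Set X)).Nonempty := by
  by_contra hne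
  rw [Set.not_nonempty_iff_eq_empty] at hne
  have hbot : W ⊓ U = ⊥ := by
    ext x
    simp only [Opens.coe_inf, Opens.coe_bot]
    rw [hne]
  obtain ⟨x, hx⟩ := hW
  haveI : Subsingleton Γ(X, W ⊓ U) := by rw [hbot]; infer_instance
  have h10 : (1 : Γ(X, W)) = 0 := hb.1 (Subsingleton.elim _ _)
  have : (1 : X.presheaf.stalk x) = 0 := by
    rw [← map_one (X.presheaf.germ W x hx).hom, h10, map_zero]
  exact one_ne_zero this

/-- H -/
theorem isPreconnected_inter (U V : X.Opens)
    (hb : Function.Bijective (X.presheaf.map (homOfLE (inf_le_left : V ⊓ U ≤ V)).op))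
    (hV : _root_.IsPreconnected (V : Set X)) :
    _root_.IsPreconnected ((V : Set X) ∩ (U : Set X)) := by
  rw [isPreconnected_iff_subset_of_disjoint]
  intro u v hu hv hcov hdisj
  set W : X.Opens := V ⊓ U with hW
  set A : X.Opens := ⟨u, hu⟩ ⊓ W with hA
  set B : X.Opens := ⟨v, hv⟩ ⊓ W with hB
  have hAB : A ⊓ B = ⊥ := by
    ext x
    simp only [Opens.coe_inf, Opens.coe_bot, Set.mem_empty_iff_false, iff_false]
    rintro ⟨⟨hxu, hxW⟩, ⟨hxv, -⟩⟩
    have : x ∈ ((V : Set X) ∩ (U : Set X)) ∩ (u ∩ v) := ⟨hxW, hxu, hxv⟩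
    rw [hdisj] at this
    exact this
  have hsup : A ⊔ B = W := by
    apply le_antisymm
    · exact sup_le inf_le_right inf_le_right
    · intro x hxW
      rcases hcov hxW with h | h
      · exact Or.inl ⟨h, hxW⟩
      · exact Or.inr ⟨h, hxW⟩
  obtain ⟨e₀, he₀A, he₀B⟩ := exists_idem A B hAB
  -- transport to W
  have hAW : A ≤ W := inf_le_right
  have hBW : B ≤ W := inf_le_right
  obtain ⟨e, heA, heB⟩ : ∃ e : Γ(X, W), X.presheaf.map (homOfLE hAW).op e = 1 ∧
      X.presheaf.map (homOfLE hBW).op e = 0 := by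
    refine ⟨X.presheaf.map (eqToHom hsup.symm).op e₀, ?_, ?_⟩
    · rw [← CommRingCat.comp_apply, ← Functor.map_comp, ← op_comp]
      exact he₀A
    · rw [← CommRingCat.comp_apply, ← Functor.map_comp, ← op_comp]
      exact he₀B
  obtain ⟨e', he'⟩ := hb.2 e
  have hee : e' * e' = e' := by
    apply hb.1
    rw [map_mul, he']
    refine X.sheaf.eq_of_locally_eq₂ (homOfLE hAW) (homOfLE hBW) hsup.ge _ _ ?_ ?_
    · show X.presheaf.map (homOfLE hAW).op (e * e) = X.presheaf.map (homOfLE hAW).op e
      rw [map_mul, heA, mul_one]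
    · show X.presheaf.map (homOfLE hBW).op (e * e) = X.presheaf.map (homOfLE hBW).op e
      rw [map_mul, heB, mul_zero]
  have hWV : W ≤ V := inf_le_left
  rcases le_basicOpen_or V hV e' hee with h | h
  · -- B is empty
    left
    intro x hxW
    rcases hcov hxW with hxu | hxv
    · exact hxu
    · exfalso
      have hxB : x ∈ B := ⟨hxv, hxW⟩
      refine notMem_basicOpen_of_res_eq_zero (homOfLE (hBW.trans hWV)) e' ?_ x hxB (h hxW.1)
      have : homOfLE (hBW.trans hWV) = homOfLE hBW ≫ homOfLE hWV := rfl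
      rw [this, op_comp, Functor.map_comp, CommRingCat.comp_apply]
      show X.presheaf.map (homOfLE hBW).op (X.presheaf.map (homOfLE (inf_le_left : V ⊓ U ≤ V)).op e') = 0
      rw [he', heB]
  · right
    intro x hxW
    rcases hcov hxW with hxu | hxv
    · exfalso
      have hxA : x ∈ A := ⟨hxu, hxW⟩
      refine notMem_basicOpen_of_res_eq_zero (homOfLE (hAW.trans hWV)) (1 - e') ?_ x hxA (h hxW.1)
      have : homOfLE (hAW.trans hWV) = homOfLE hAW ≫ homOfLE hWV := rfl
      rw [this, op_comp, Functor.map_comp, CommRingCat.comp_apply]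
      show X.presheaf.map (homOfLE hAW).op (X.presheaf.map (homOfLE (inf_le_left : V ⊓ U ≤ V)).op (1 - e')) = 0
      rw [map_sub, map_one, he', map_sub, map_one, heA, sub_self]
    · exact hxv

theorem main (X : Scheme.{u}) [IsLocallyNoetherian X] (U : X.Opens)
    (h : ∀ x : X, x ∉ (U : Set X) →
      (2 : ℕ∞) ≤ LocCoh.depth (X.presheaf.stalk x) (X.presheaf.stalk x)) :
    Function.Bijective (Continuous.connectedComponentsMap
      (continuous_subtype_val : Continuous (fun x : U => (x : X)))) := by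
  haveI : LocallyConnectedSpace X := by
    apply Groth.Agent.S2277.result
    intro x
    obtain ⟨V, hV, hxV, -⟩ := exists_isAffineOpen_mem_and_subset (x := x) (U := ⊤) trivial
    haveI : IsNoetherianRing Γ(X, V) := IsLocallyNoetherian.component_noetherian ⟨V, hV⟩
    exact ⟨V, V.2.mem_nhds hxV, noetherianSpace_of_isAffineOpen V hV⟩
  have hb := bijective_res_structure' U h
  apply bijective_connectedComponentsMap (U : Set X) U.2
  · intro W hW hne
    exact inter_nonempty_of_res_bijective U ⟨W, hW⟩ (hb ⟨W, hW⟩) hne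
  · intro V hV hVp
    exact isPreconnected_inter U ⟨V, hV⟩ (hb ⟨V, hV⟩) hVp

end Groth.Agent.Lib.helper2.Pi0
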