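import Mathlib
import Groth.Prelude.Def_W4c1hilbchowincPtFun

set_option autoImplicit false
universe u

namespace Groth.Agent.Lib.helper2.PtFunDVR

open AlgebraicGeometry CategoryTheory W4c1hilbchowinc

variable (A : Type u) [CommRing A]

/-- evaluation at a point of `Spec A`. -/
noncomputable def ev (x : Spec (CommRingCat.of A)) :
    A →+* (Spec (CommRingCat.of A)).residueField x :=
  ((Spec (CommRingCat.of A)).Γevaluation x).hom.comp (Scheme.ΓSpecIso (CommRingCat.of A)).inv.hom

theorem ev_eq (x : Spec (CommRingCat.of A)) (a : A) :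
    ev A x a = (Scheme.Spec.residueFieldIso (CommRingCat.of A) x).inv.hom
      (algebraMap A x.asIdeal.ResidueField a) := by
  have := Scheme.Spec.algebraMap_residueFieldIso_inv (CommRingCat.of A) x
  have h2 := congrArg (fun φ => φ.hom a) this
  exact h2.symm

theorem ev_eq_zero_iff (x : Spec (CommRingCat.of A)) (a : A) :
    ev A x a = 0 ↔ a ∈ x.asIdeal := by
  rw [ev_eq]
  rw [map_eq_zero_iff _ (RingHom.injective _)]
  exact Ideal.algebraMap_residueField_eq_zero

theorem exists_ev_mul (x : Spec (CommRingCat.of A))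
    (z : (Spec (CommRingCat.of A)).residueField x) :
    ∃ b s : A, s ∉ x.asIdeal ∧ z * ev A x s = ev A x b := by
  set e := Scheme.Spec.residueFieldIso (CommRingCat.of A) x with he
  obtain ⟨w, hw⟩ := IsLocalRing.residue_surjective (e.hom.hom z)
  obtain ⟨⟨b, s⟩, hbs⟩ := IsLocalization.surj x.asIdeal.primeCompl w
  refine ⟨b, s.1, s.2, ?_⟩
  have hinv : ∀ t, e.inv.hom (e.hom.hom t) = t := by
    intro t
    have := congrArg (fun φ => φ.hom t) e.hom_inv_id
    exact this
  rw [ev_eq, ev_eq, ← hinv z, ← map_mul]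
  congr 1
  rw [← hw]
  show IsLocalRing.residue _ w * IsLocalRing.residue _ (algebraMap A _ s.1) =
    IsLocalRing.residue _ (algebraMap A _ b)
  rw [← map_mul]
  congr 1

theorem ofSection_apply (s : Γ(Spec (CommRingCat.of A), ⊤)) (x : Spec (CommRingCat.of A)) :
    PtFun.ofSection (Spec (CommRingCat.of A)) s x =
      ev A x ((Scheme.ΓSpecIso (CommRingCat.of A)).hom.hom s) := by
  show _ = ((Spec (CommRingCat.of A)).Γevaluation x).hom
    ((Scheme.ΓSpecIso (CommRingCat.of A)).inv.hom ((Scheme.ΓSpecIso (CommRingCat.of A)).hom.hom s))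
  have := congrArg (fun φ => φ.hom s) (Scheme.ΓSpecIso (CommRingCat.of A)).hom_inv_id
  rw [show (Scheme.ΓSpecIso (CommRingCat.of A)).inv.hom
    ((Scheme.ΓSpecIso (CommRingCat.of A)).hom.hom s) = s from this]
  rfl

variable {A}

theorem ev_naturality {O : Type u} [CommRing O] (ψ : A →+* O) (q : Spec (CommRingCat.of O))
    (a : A) :
    ((Spec.map (CommRingCat.ofHom ψ)).residueFieldMap q).hom
      (ev A ((Spec.map (CommRingCat.ofHom ψ)) q) a) = ev O q (ψ a) := by
  have h1 := Scheme.Γevaluation_naturality_apply (Spec.map (CommRingCat.ofHom ψ)) q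
    ((Scheme.ΓSpecIso (CommRingCat.of A)).inv.hom a)
  refine h1.trans ?_
  show _ = ((Spec (CommRingCat.of O)).Γevaluation q).hom
    ((Scheme.ΓSpecIso (CommRingCat.of O)).inv.hom (ψ a))
  congr 1
  have := Scheme.ΓSpecIso_inv_naturality (CommRingCat.ofHom ψ)
  exact (congrArg (fun φ => φ.hom a) this).symm

theorem map_asIdeal {O : Type u} [CommRing O] (ψ : A →+* O) (q : Spec (CommRingCat.of O)) :
    ((Spec.map (CommRingCat.ofHom ψ)) q).asIdeal = q.asIdeal.comap ψ := rfl

end Groth.Agent.Lib.helper2.PtFunDVR
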