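import Mathlib
import Groth.Agent.Lib.Helper2.PtFunDVRb
import Groth.Agent.Lib.Helper2.CplDVR

set_option autoImplicit false
universe u

namespace Groth.Agent.Lib.helper2.PtFunDVR

open AlgebraicGeometry CategoryTheory W4c1hilbchowinc IsLocalRing

/-- the primes of a DVR. -/
theorem prime_dvr {O : Type u} [CommRing O] [IsDomain O] [IsDiscreteValuationRing O]
    (q : Spec (CommRingCat.of O)) : q.asIdeal = ⊥ ∨ q.asIdeal = maximalIdeal O := by
  by_cases h : q.asIdeal = ⊥
  · exact Or.inl h
  · right
    haveI := q.isPrime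
    exact IsLocalRing.eq_maximalIdeal (Ideal.IsPrime.isMaximal inferInstance h)

/-- algebraicity along a DVR can be tested after an injective local extension to a local domain.-/
theorem isAlgebraic_of_extension {X : Scheme.{u}} (f : PtFun X) {O O' : Type u} [CommRing O]
    [IsDomain O] [IsDiscreteValuationRing O] [CommRing O'] [IsDomain O'] [IsLocalRing O']
    (ι : O →+* O') (hιinj : Function.Injective ι) [hloc : IsLocalHom ι]
    (g : Spec (CommRingCat.of O) ⟶ X)
    (h : (f.pullback (Spec.map (CommRingCat.ofHom ι) ≫ g)).IsAlgebraic) :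
    (f.pullback g).IsAlgebraic := by
  set j := Spec.map (CommRingCat.ofHom ι) with hj
  obtain ⟨s', hs'⟩ := h
  obtain ⟨r', hr'def⟩ : ∃ r' : O', r' = (Scheme.ΓSpecIso (CommRingCat.of O')).hom.hom s' :=
    ⟨_, rfl⟩
  have hr' : ∀ q' : Spec (CommRingCat.of O'), ev O' q' r' =
      (j.residueFieldMap q').hom ((g.residueFieldMap (j q')).hom (f (g (j q')))) := by
    intro q'
    rw [hr'def, ← ofSection_apply]
    have h1 := congrFun hs' q'
    rw [h1]
    show ((j ≫ g).residueFieldMap q').hom (f ((j ≫ g) q')) = _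
    rw [Scheme.residueFieldMap_comp]
    rfl
  -- generic points
  let q₀' : Spec (CommRingCat.of O') := ⟨⊥, Ideal.isPrime_bot⟩
  obtain ⟨b, s, hs, hbs⟩ := exists_ev_mul O (j q₀') ((g.residueFieldMap (j q₀')).hom (f (g (j q₀'))))
  have hs0 : s ≠ 0 := fun h0 => hs (h0 ▸ Ideal.zero_mem _)
  have h1 := congrArg (j.residueFieldMap q₀').hom hbs
  rw [map_mul, ev_naturality, ev_naturality, ← hr' q₀', ← map_mul, ← sub_eq_zero, ← map_sub,
    ev_eq_zero_iff] at h1
  have h2 : r' * ι s = ι b := sub_eq_zero.mp h1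
  -- divisibility
  have hdvd : s ∣ b := by
    rcases ValuationRing.dvd_total s b with h | ⟨t, ht⟩
    · exact h
    · by_cases htu : IsUnit t
      · obtain ⟨u, rfl⟩ := htu
        exact ⟨((u⁻¹ : Oˣ) : O), by rw [ht, mul_assoc, Units.mul_inv, mul_one]⟩
      · exfalso
        have hb0 : b ≠ 0 := fun h0 => hs0 (by rw [ht, h0, zero_mul])
        have hιb : ι b ≠ 0 := fun h0 => hb0 (hιinj (by rw [h0, map_zero]))
        have h3 : ι b * (r' * ι t) = ι b * 1 :=
          calc ι b * (r' * ι t) = r' * (ι b * ι t) := by ring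
            _ = r' * ι s := by rw [ht, map_mul]
            _ = ι b := h2
            _ = ι b * 1 := (mul_one _).symm
        have h4 : r' * ι t = 1 := mul_left_cancel₀ hιb h3
        have h5 : IsUnit (ι t) := IsUnit.of_mul_eq_one _ (by rw [mul_comm]; exact h4)
        exact htu (hloc.map_nonunit t h5)
  obtain ⟨r, hr⟩ := hdvd
  have hιr : ι r = r' := by
    have hιs : ι s ≠ 0 := fun h0 => hs0 (hιinj (by rw [h0, map_zero]))
    apply mul_right_cancel₀ hιs
    rw [h2, hr, map_mul, mul_comm]
  -- values at the image points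
  have himg : ∀ q' : Spec (CommRingCat.of O'), ev O (j q') r =
      (g.residueFieldMap (j q')).hom (f (g (j q'))) := by
    intro q'
    apply (j.residueFieldMap q').hom.injective
    rw [ev_naturality, hιr, hr']
  -- surjectivity of `j`
  have hsurj : ∀ q : Spec (CommRingCat.of O), ∃ q' : Spec (CommRingCat.of O'), j q' = q := by
    intro q
    rcases prime_dvr q with h | h
    · refine ⟨q₀', PrimeSpectrum.ext ?_⟩
      rw [map_asIdeal, h]
      ext t
      rw [Ideal.mem_comap]
      show ι t ∈ (⊥ : Ideal O') ↔ t ∈ (⊥ : Ideal O)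
      rw [Ideal.mem_bot, Ideal.mem_bot]
      exact ⟨fun h0 => hιinj (by rw [h0, map_zero]), fun h0 => by rw [h0, map_zero]⟩
    · refine ⟨⟨maximalIdeal O', inferInstance⟩, PrimeSpectrum.ext ?_⟩
      rw [map_asIdeal, h]
      exact ((IsLocalRing.local_hom_TFAE ι).out 0 4).mp hloc
  refine ⟨(Scheme.ΓSpecIso (CommRingCat.of O)).inv.hom r, ?_⟩
  funext q
  rw [ofSection_apply]
  have : (Scheme.ΓSpecIso (CommRingCat.of O)).hom.hom
      ((Scheme.ΓSpecIso (CommRingCat.of O)).inv.hom r) = r :=
    congrArg (fun φ => φ.hom r) (Scheme.ΓSpecIso (CommRingCat.of O)).inv_hom_id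
  rw [this]
  obtain ⟨q', rfl⟩ := hsurj q
  exact himg q'

/-- varying along complete discrete valuation rings implies varying along all of them. -/
theorem variesAlongDVR_of_complete {X : Scheme.{u}} (f : PtFun X)
    (hf : f.VariesAlongCompleteDVR) : f.VariesAlongDVR := by
  intro O _ _ _ g
  obtain ⟨hdom, hdvr⟩ := Groth.Agent.Lib.helper2.CplDVR.isDVR_adicCompletion O
  exact isAlgebraic_of_extension f (algebraMap O (AdicCompletion (maximalIdeal O) O))
    (Groth.Agent.Lib.helper2.CplDVR.algebraMap_injective O) g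
    (hf (AdicCompletion (maximalIdeal O) O) _)

end Groth.Agent.Lib.helper2.PtFunDVR
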