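import Mathlib
import Groth.Agent.Lib.Helper13.KA5

set_option autoImplicit false
universe u

namespace Groth.Agent.Lib.helper2.PtFunDVR

open Polynomial Algebra IsLocalRing

variable {K : Type u} [Field K]

/-- A non-integral element of the fraction field of a Noetherian domain is missed by some
discrete valuation ring containing the domain. -/
theorem exists_dvr_notMem (R : Subring K) [IsNoetherianRing R] [IsFractionRing R K] (z : K)
    (hz : ¬ IsIntegral R z) :
    ∃ O : ValuationSubring K, IsDiscreteValuationRing O ∧ R ≤ O.toSubring ∧ z ∉ O := by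
  obtain rfl | hz0 := eq_or_ne z 0
  · exact (hz isIntegral_zero).elim
  let := invertibleOfNonzero hz0
  let B := R[z⁻¹]
  let xinv : B.toSubring := ⟨z⁻¹, subset_adjoin rfl⟩
  have hne : Ideal.span {xinv} ≠ ⊤ := fun eq ↦ hz <|
    have ⟨p, hp, hpx⟩ := exists_aeval_invOf_eq_zero_of_idealMap_adjoin_sup_span_eq_top _
      (⊥ : Ideal R) bot_ne_top (top_unique <| eq.ge.trans le_add_self)
    ⟨p, by simpa [Monic, sub_eq_zero] using hp, by simpa [aeval_def] using hpx⟩
  obtain ⟨P, hPmax, hP⟩ := Ideal.exists_le_maximal _ hne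
  have hRB : R ≤ B.toSubring := fun r hr ↦ B.algebraMap_mem ⟨r, hr⟩
  haveI : IsNoetherianRing B.toSubring := by
    have : Algebra.FiniteType R B := by
      have : (Algebra.adjoin R ({z⁻¹} : Set K)).FG := by
        have := Subalgebra.fg_adjoin_finset (R := R) ({z⁻¹} : Finset K)
        simpa using this
      exact (Subalgebra.fg_iff_finiteType _).mp this
    exact Algebra.FiniteType.isNoetherianRing R B
  haveI : IsFractionRing B.toSubring K := Groth.Agent.Lib.helper13.KA.isFractionRing_of_le hRB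
  haveI := hPmax.isPrime
  have hP0 : P ≠ ⊥ := by
    intro h0
    have h1 : xinv ∈ P := hP (Ideal.subset_span rfl)
    rw [h0, Ideal.mem_bot] at h1
    have : z⁻¹ = 0 := congrArg Subtype.val h1
    exact hz0 (inv_eq_zero.mp this)
  obtain ⟨O, hO, hle, hmem⟩ := Groth.Agent.Lib.helper13.KA.exists_dvr_of_prime B.toSubring P hP0
  refine ⟨O, hO, hRB.trans hle, fun hzO ↦ ?_⟩
  have h1 : (⟨(xinv : K), hle xinv.2⟩ : O) ∈ maximalIdeal O := (hmem xinv).mpr (hP (Ideal.subset_span rfl))
  have h2 : (⟨(xinv : K), hle xinv.2⟩ : O) * ⟨z, hzO⟩ = 1 := by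
    apply Subtype.ext
    show z⁻¹ * z = 1
    exact inv_mul_cancel₀ hz0
  exact (mem_maximalIdeal _).mp h1 (IsUnit.of_mul_eq_one _ h2)

end Groth.Agent.Lib.helper2.PtFunDVR
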