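import Mathlib
import Groth.Agent.Lib.Helper2.PtFunDVRa
import Groth.Agent.Lib.Helper2.PtFunDVRb

set_option autoImplicit false
universe u

namespace Groth.Agent.Lib.helper2.PtFunDVR

open AlgebraicGeometry CategoryTheory W4c1hilbchowinc IsLocalRing

variable {A : Type u} [CommRing A] (f : PtFun (Spec (CommRingCat.of A)))

/-- ring-level consequence of `VariesAlongDVR`. -/
theorem exists_of_varies (hf : f.VariesAlongDVR) {O : Type u} [CommRing O] [IsDomain O]
    [IsDiscreteValuationRing O] (ψ : A →+* O) :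
    ∃ r : O, ∀ q : Spec (CommRingCat.of O), ev O q r =
      ((Spec.map (CommRingCat.ofHom ψ)).residueFieldMap q).hom
        (f ((Spec.map (CommRingCat.ofHom ψ)) q)) := by
  obtain ⟨s, hs⟩ := hf O (Spec.map (CommRingCat.ofHom ψ))
  refine ⟨(Scheme.ΓSpecIso (CommRingCat.of O)).hom.hom s, fun q => ?_⟩
  rw [← ofSection_apply]
  exact congrFun hs q

theorem transport_mul {x y : Spec (CommRingCat.of A)} (h : x = y) (b s : A)
    (hs : s ∉ x.asIdeal) (hbs : f x * ev A x s = ev A x b) :
    s ∉ y.asIdeal ∧ f y * ev A y s = ev A y b := by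
  subst h; exact ⟨hs, hbs⟩

theorem transport_eq {x y : Spec (CommRingCat.of A)} (h : x = y) (a : A)
    (ha : ev A x a = f x) : ev A y a = f y := by
  subst h; exact ha

/-- the core computation: for a DVR `O` of `κ(x)` containing the image of `A`, the element
given by `VariesAlongDVR` is `f x`. -/
theorem core (hf : f.VariesAlongDVR) (x : Spec (CommRingCat.of A))
    (O : ValuationSubring ((Spec (CommRingCat.of A)).residueField x))
    [IsDiscreteValuationRing O] (hle : ∀ a : A, ev A x a ∈ O.toSubring) :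
    f x ∈ O ∧ ∀ a : A, ev A x a = f x → ∀ q : Spec (CommRingCat.of O),
      ev A ((Spec.map (CommRingCat.ofHom ((ev A x).codRestrict O.toSubring hle))) q) a =
        f ((Spec.map (CommRingCat.ofHom ((ev A x).codRestrict O.toSubring hle))) q) := by
  set ψ : A →+* O := (ev A x).codRestrict O.toSubring hle with hψ
  set g := Spec.map (CommRingCat.ofHom ψ) with hg
  obtain ⟨r, hr⟩ := exists_of_varies f hf ψ
  have hψval : ∀ a : A, ((ψ a : O) : (Spec (CommRingCat.of A)).residueField x) = ev A x a :=
    fun a => rfl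
  -- the generic point
  let q₀ : Spec (CommRingCat.of O) := ⟨⊥, Ideal.isPrime_bot⟩
  have h₀ : g q₀ = x := by
    apply PrimeSpectrum.ext
    rw [map_asIdeal]
    ext a
    rw [Ideal.mem_comap]
    show ψ a ∈ (⊥ : Ideal O) ↔ _
    rw [Ideal.mem_bot, ← ev_eq_zero_iff A x a, ← hψval a]
    exact ⟨fun h => by rw [h]; rfl, fun h => Subtype.ext h⟩
  have hrx : (r : (Spec (CommRingCat.of A)).residueField x) = f x := by
    obtain ⟨b, s, hs, hbs⟩ := exists_ev_mul A (g q₀) (f (g q₀))
    have h1 := congrArg (g.residueFieldMap q₀).hom hbs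
    rw [map_mul, ev_naturality, ev_naturality, ← hr q₀, ← map_mul, ← sub_eq_zero, ← map_sub,
      ev_eq_zero_iff] at h1
    have h2 : r * ψ s - ψ b = 0 := h1
    have h3 : (r : (Spec (CommRingCat.of A)).residueField x) * ev A x s = ev A x b := by
      have := congrArg (Subtype.val : O → _) (sub_eq_zero.mp h2)
      exact this
    obtain ⟨hs', hbs'⟩ := transport_mul f h₀ b s hs hbs
    have hne : ev A x s ≠ 0 := fun h0 => hs' ((ev_eq_zero_iff A x s).mp h0)
    exact mul_right_cancel₀ hne (h3.trans hbs'.symm)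
  refine ⟨hrx ▸ r.2, fun a ha q => ?_⟩
  have hra : r = ψ a := Subtype.ext (hrx.trans ha.symm)
  have h1 := hr q
  rw [hra, ← ev_naturality] at h1
  exact (g.residueFieldMap q).hom.injective h1

end Groth.Agent.Lib.helper2.PtFunDVR
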