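import Mathlib
import Groth.Agent.Lib.Helper2.PtFunDVRc

set_option autoImplicit false
universe u

namespace Groth.Agent.Lib.helper2.PtFunDVR

open AlgebraicGeometry CategoryTheory W4c1hilbchowinc IsLocalRing

variable {A : Type u} [CommRing A] (f : PtFun (Spec (CommRingCat.of A)))

theorem isFractionRing_range (x : Spec (CommRingCat.of A)) :
    IsFractionRing (ev A x).range ((Spec (CommRingCat.of A)).residueField x) := by
  refine IsFractionRing.of_field _ _ fun z => ?_
  obtain ⟨b, s, hs, hbs⟩ := exists_ev_mul A x z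
  refine ⟨⟨ev A x b, b, rfl⟩, ⟨ev A x s, s, rfl⟩, ?_⟩
  have hne : ev A x s ≠ 0 := fun h0 => hs ((ev_eq_zero_iff A x s).mp h0)
  show z = ev A x b / ev A x s
  rw [eq_div_iff hne, hbs]

/-- integrality over the range transfers to integrality along `ev`. -/
theorem isIntegralElem_of_isIntegral_range (x : Spec (CommRingCat.of A))
    (z : (Spec (CommRingCat.of A)).residueField x) (hz : IsIntegral (ev A x).range z) :
    (ev A x).IsIntegralElem z := by
  obtain ⟨P, hP, hPz⟩ := hz
  have hsurj : Function.Surjective (ev A x).rangeRestrict := (ev A x).rangeRestrict_surjective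
  have hl : P ∈ Polynomial.lifts (ev A x).rangeRestrict := by
    rw [Polynomial.mem_lifts]
    exact Polynomial.map_surjective _ hsurj P
  obtain ⟨Q, hQ, -, hQm⟩ := Polynomial.lifts_and_natDegree_eq_and_monic hl hP
  refine ⟨Q, hQm, ?_⟩
  rw [← hQ, Polynomial.eval₂_map] at hPz
  exact hPz

variable [IsNoetherianRing A]

/-- Step 1: the values of a pointwise function varying along DVRs are integral. -/
theorem isIntegralElem_of_varies (hf : f.VariesAlongDVR) (x : Spec (CommRingCat.of A)) :
    (ev A x).IsIntegralElem (f x) := by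
  by_contra hcon
  haveI : IsNoetherianRing (ev A x).range :=
    isNoetherianRing_of_surjective A _ (ev A x).rangeRestrict (ev A x).rangeRestrict_surjective
  haveI := isFractionRing_range x
  have hni : ¬ IsIntegral (ev A x).range (f x) :=
    fun h => hcon (isIntegralElem_of_isIntegral_range x _ h)
  obtain ⟨O, hO, hle, hnot⟩ := exists_dvr_notMem (ev A x).range (f x) hni
  exact hnot (core f hf x O (fun a => hle ⟨a, rfl⟩)).1

/-- Step 3: propagation from the minimal primes. -/
theorem eq_of_eq_on_minimalPrimes (hf : f.VariesAlongDVR) (a : A)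
    (ha : ∀ x : Spec (CommRingCat.of A), x.asIdeal ∈ minimalPrimes A → ev A x a = f x)
    (y : Spec (CommRingCat.of A)) : ev A y a = f y := by
  obtain ⟨p, hp, hpy⟩ := Ideal.exists_minimalPrimes_le (bot_le : (⊥ : Ideal A) ≤ y.asIdeal)
  by_cases hyp : y.asIdeal = p
  · exact ha y (hyp ▸ hp)
  let x : Spec (CommRingCat.of A) := ⟨p, hp.1.1⟩
  have hx : ev A x a = f x := ha x hp
  haveI : IsNoetherianRing (ev A x).range :=
    isNoetherianRing_of_surjective A _ (ev A x).rangeRestrict (ev A x).rangeRestrict_surjective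
  haveI := isFractionRing_range x
  have hsurj : Function.Surjective (ev A x).rangeRestrict := (ev A x).rangeRestrict_surjective
  have hker : RingHom.ker (ev A x).rangeRestrict = p := by
    ext t
    rw [RingHom.mem_ker]
    rw [← ev_eq_zero_iff A x t]
    exact ⟨fun h => congrArg Subtype.val h, fun h => Subtype.ext h⟩
  set P : Ideal (ev A x).range := y.asIdeal.map (ev A x).rangeRestrict with hPdef
  haveI hPprime : P.IsPrime :=
    Ideal.map_isPrime_of_surjective hsurj (by rw [hker]; exact hpy)
  have hcomap : P.comap (ev A x).rangeRestrict = y.asIdeal := by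
    rw [hPdef, Ideal.comap_map_of_surjective _ hsurj]
    have : Ideal.comap (ev A x).rangeRestrict ⊥ = p := hker
    rw [this]
    exact sup_eq_left.mpr hpy
  have hP0 : P ≠ ⊥ := by
    intro h0
    apply hyp
    apply le_antisymm _ hpy
    rw [← hcomap, h0]
    exact hker.le
  obtain ⟨O, hO, hle, hmem⟩ :=
    Groth.Agent.Lib.helper13.KA.exists_dvr_of_prime (ev A x).range P hP0
  have hle' : ∀ t : A, ev A x t ∈ O.toSubring := fun t => hle ⟨t, rfl⟩
  obtain ⟨-, hcore⟩ := core f hf x O hle'
  let q₁ : Spec (CommRingCat.of O) := ⟨maximalIdeal O, inferInstance⟩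
  have h₁ : (Spec.map (CommRingCat.ofHom ((ev A x).codRestrict O.toSubring hle'))) q₁ = y := by
    apply PrimeSpectrum.ext
    rw [map_asIdeal, ← hcomap]
    ext t
    rw [Ideal.mem_comap, Ideal.mem_comap]
    exact hmem ((ev A x).rangeRestrict t)
  exact transport_eq f h₁ a (hcore a hx q₁)

end Groth.Agent.Lib.helper2.PtFunDVR
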