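import Mathlib
import Groth.Agent.Lib.Helper2.PtFunDVRd
import Groth.Agent.Lib.Helper26.TotalFracClosure

set_option autoImplicit false
universe u

namespace Groth.Agent.Lib.helper2.PtFunDVR

open AlgebraicGeometry CategoryTheory W4c1hilbchowinc IsLocalRing
open Groth.Agent.Lib.helper26.TotalFrac

variable {A : Type u} [CommRing A]

/-- per minimal prime: an integral element of the total ring of fractions with prescribed
component at `p` and vanishing other components. -/
theorem exists_component [IsReduced A] [IsNoetherianRing A] (x : Spec (CommRingCat.of A))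
    (hp : x.asIdeal ∈ minimalPrimes A)
    (w : (Spec (CommRingCat.of A)).residueField x)
    (hw : (ev A x).IsIntegralElem w) :
    ∃ z : FractionRing A, IsIntegral A z ∧
      (∀ a : A, φ x.asIdeal hp z = algebraMap A (FractionRing (A ⧸ x.asIdeal)) a →
        ev A x a = w) ∧
      ∀ (q : Ideal A) (hq : q ∈ minimalPrimes A), q ≠ x.asIdeal → φ q hq z = 0 := by
  haveI hpr : x.asIdeal.IsPrime := hp.1.1
  let ρ : A ⧸ x.asIdeal →+* (Spec (CommRingCat.of A)).residueField x :=
    Ideal.Quotient.lift x.asIdeal (ev A x) (fun a ha => (ev_eq_zero_iff A x a).mpr ha)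
  have hρmk : ∀ a : A, ρ (Ideal.Quotient.mk x.asIdeal a) = ev A x a := fun a => rfl
  have hρinj : Function.Injective ρ := by
    rw [injective_iff_map_eq_zero]
    intro t ht
    obtain ⟨a, rfl⟩ := Ideal.Quotient.mk_surjective t
    rw [hρmk, ev_eq_zero_iff] at ht
    exact Ideal.Quotient.eq_zero_iff_mem.mpr ht
  let τ : FractionRing (A ⧸ x.asIdeal) →+* (Spec (CommRingCat.of A)).residueField x :=
    IsFractionRing.lift hρinj
  have hτ : ∀ t : A ⧸ x.asIdeal,
      τ (algebraMap (A ⧸ x.asIdeal) (FractionRing (A ⧸ x.asIdeal)) t) = ρ t :=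
    fun t => IsFractionRing.lift_algebraMap hρinj t
  have hτA : ∀ a : A, τ (algebraMap A (FractionRing (A ⧸ x.asIdeal)) a) = ev A x a :=
    fun a => hτ _
  have hτinj : Function.Injective τ := τ.injective
  obtain ⟨b, s, hs, hbs⟩ := exists_ev_mul A x w
  have hne : ev A x s ≠ 0 := fun h0 => hs ((ev_eq_zero_iff A x s).mp h0)
  obtain ⟨bp, hbp⟩ : ∃ bp : FractionRing (A ⧸ x.asIdeal), bp =
    algebraMap A (FractionRing (A ⧸ x.asIdeal)) b /
      algebraMap A (FractionRing (A ⧸ x.asIdeal)) s := ⟨_, rfl⟩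
  have hτbp : τ bp = w := by
    rw [hbp, map_div₀, hτA, hτA, div_eq_iff hne, hbs]
  have hint : IsIntegral (A ⧸ x.asIdeal) bp := by
    obtain ⟨Q, hQm, hQ⟩ := hw
    refine ⟨Q.map (Ideal.Quotient.mk x.asIdeal), hQm.map _, ?_⟩
    apply hτinj
    rw [map_zero, Polynomial.hom_eval₂, Polynomial.eval₂_map, hτbp]
    have : (τ.comp (algebraMap (A ⧸ x.asIdeal) (FractionRing (A ⧸ x.asIdeal)))).comp
        (Ideal.Quotient.mk x.asIdeal) = ev A x := by
      ext a
      exact hτ _
    rw [this]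
    exact hQ
  obtain ⟨z, hz, hz0⟩ := exists_π_eq hp ⟨bp, hint⟩
  refine ⟨z.1, z.2, fun a ha => ?_, hz0⟩
  have h1 : φ x.asIdeal hp z.1 = bp := congrArg Subtype.val hz
  rw [h1] at ha
  rw [← hτA, ← ha, hτbp]

/-- Step 2: assemble a global element from integral components at the minimal primes. -/
theorem exists_lift_minimal [IsReduced A] [IsNoetherianRing A] [IsIntegrallyClosed A]
    (w : ∀ x : Spec (CommRingCat.of A), (Spec (CommRingCat.of A)).residueField x)
    (hw : ∀ x, (ev A x).IsIntegralElem (w x)) :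
    ∃ a : A, ∀ x : Spec (CommRingCat.of A), x.asIdeal ∈ minimalPrimes A → ev A x a = w x := by
  classical
  have hfin : (minimalPrimes A).Finite := minimalPrimes.finite_of_isNoetherianRing A
  haveI : Fintype (minimalPrimes A) := hfin.fintype
  have key : ∀ P : minimalPrimes A, ∃ z : FractionRing A, IsIntegral A z ∧
      (∀ a : A, φ P.1 P.2 z = algebraMap A (FractionRing (A ⧸ P.1)) a →
        ev A (⟨P.1, P.2.1.1⟩ : Spec (CommRingCat.of A)) a = w ⟨P.1, P.2.1.1⟩) ∧
      ∀ (q : Ideal A) (hq : q ∈ minimalPrimes A), q ≠ P.1 → φ q hq z = 0 :=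
    fun P => exists_component (⟨P.1, P.2.1.1⟩ : Spec (CommRingCat.of A)) P.2
      (w ⟨P.1, P.2.1.1⟩) (hw _)
  choose z hzint hzp hz0 using key
  have hint : IsIntegral A (∑ P : minimalPrimes A, z P) :=
    IsIntegral.sum _ (fun P _ => hzint P)
  obtain ⟨a, ha⟩ := IsIntegrallyClosed.algebraMap_eq_of_integral hint
  refine ⟨a, fun x hx => ?_⟩
  have h1 : φ x.asIdeal hx (∑ P : minimalPrimes A, z P) = φ x.asIdeal hx (z ⟨x.asIdeal, hx⟩) := by
    rw [map_sum]
    refine Finset.sum_eq_single_of_mem (⟨x.asIdeal, hx⟩ : minimalPrimes A) (Finset.mem_univ _) ?_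
    intro P _ hP
    exact hz0 P x.asIdeal hx (fun h => hP (Subtype.ext h.symm))
  rw [← ha, φ_algebraMap] at h1
  exact hzp ⟨x.asIdeal, hx⟩ a h1.symm

end Groth.Agent.Lib.helper2.PtFunDVR
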