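import Mathlib
import Groth.Agent.Lib.Helper2.PtFunDVRe

set_option autoImplicit false
universe u

namespace Groth.Agent.Lib.helper2.PtFunDVR

open AlgebraicGeometry CategoryTheory W4c1hilbchowinc IsLocalRing

variable {A : Type u} [CommRing A]

/-- sections of a reduced affine scheme are determined by their values. -/
theorem ofSection_injective [IsReduced A] :
    Function.Injective (PtFun.ofSection (Spec (CommRingCat.of A))) := by
  intro a b hab
  rw [← sub_eq_zero]
  apply eq_zero_of_basicOpen_eq_bot
  rw [Scheme.basicOpen_eq_bot_iff_forall_evaluation_eq_zero]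
  intro p
  have := congrFun hab p.1
  show (Spec (CommRingCat.of A)).Γevaluation p.1 (a - b) = 0
  rw [map_sub, sub_eq_zero]
  exact this

/-- main theorem: on a reduced Noetherian ring integrally closed in its total ring of fractions,
pointwise functions varying along DVRs are sections. -/
theorem existsUnique_section [IsReduced A] [IsNoetherianRing A] [IsIntegrallyClosed A]
    (f : PtFun (Spec (CommRingCat.of A))) (hf : f.VariesAlongDVR) :
    ∃! a : Γ(Spec (CommRingCat.of A), ⊤), PtFun.ofSection (Spec (CommRingCat.of A)) a = f := by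
  obtain ⟨a, ha⟩ := exists_lift_minimal f (isIntegralElem_of_varies f hf)
  have hall := eq_of_eq_on_minimalPrimes f hf a ha
  refine ⟨(Scheme.ΓSpecIso (CommRingCat.of A)).inv.hom a, ?_, ?_⟩
  · funext y
    rw [ofSection_apply]
    have : (Scheme.ΓSpecIso (CommRingCat.of A)).hom.hom
        ((Scheme.ΓSpecIso (CommRingCat.of A)).inv.hom a) = a :=
      congrArg (fun φ => φ.hom a) (Scheme.ΓSpecIso (CommRingCat.of A)).inv_hom_id
    rw [this]
    exact hall y
  · intro b hb
    apply ofSection_injective
    rw [hb]
    funext y
    rw [ofSection_apply]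
    have : (Scheme.ΓSpecIso (CommRingCat.of A)).hom.hom
        ((Scheme.ΓSpecIso (CommRingCat.of A)).inv.hom a) = a :=
      congrArg (fun φ => φ.hom a) (Scheme.ΓSpecIso (CommRingCat.of A)).inv_hom_id
    rw [this]
    exact (hall y).symm

end Groth.Agent.Lib.helper2.PtFunDVR
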