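import Mathlib
import Groth.Agent.Lib.Helper2.DescSection

set_option autoImplicit false
universe u

namespace Groth.Agent.Lib.helper2.SNDesc

open Groth.Agent.Lib.helper2 Groth.Agent.Lib.helper2.SNRing Groth.Agent.Lib.helper2.DescSection

variable {A A' : Type u} [CommRing A] [CommRing A']

/-- Ring-level descent: an element of an integral extension of a seminormal ring whose values at
the primes over each prime `p` are given by one and the same element of `κ(p)` lies in the ring. -/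
theorem mem_range_of_pointwise (hA : HTop.IsSeminormalRing A) [IsReduced A'] (ψ : A →+* A')
    (hinj : Function.Injective ψ) (hint : ψ.IsIntegral) (a' : A')
    (H : ∀ p : PrimeSpectrum A, ∃ a d : A, d ∉ p.asIdeal ∧
      ∀ Q : PrimeSpectrum A', PrimeSpectrum.comap ψ Q = p → ψ d * a' - ψ a ∈ Q.asIdeal) :
    a' ∈ Set.range ψ := by
  letI : Algebra A A' := ψ.toAlgebra
  let E : Subalgebra A A' := Algebra.adjoin A {a'}
  have ha'E : a' ∈ E := Algebra.subset_adjoin rfl
  haveI : IsReduced E := isReduced_of_injective E.val Subtype.val_injective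
  set ψE : A →+* E := algebraMap A E with hψE
  have hψEval : ∀ r : A, ((ψE r : E) : A') = ψ r := fun r => rfl
  have hψEinj : Function.Injective ψE := by
    intro x y hxy
    apply hinj
    rw [← hψEval, ← hψEval, hxy]
  -- the key claim
  have key : ∀ (p : PrimeSpectrum A) (a d : A), (∀ Q : PrimeSpectrum A',
      PrimeSpectrum.comap ψ Q = p → ψ d * a' - ψ a ∈ Q.asIdeal) → ∀ e : A', e ∈ E →
      ∃ (n : ℕ) (c : A), ∀ Q : PrimeSpectrum A', PrimeSpectrum.comap ψ Q = p →
        ψ d ^ n * e - ψ c ∈ Q.asIdeal := by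
    intro p a d hQ e he
    induction he using Algebra.adjoin_induction with
    | mem x hx =>
      rw [Set.mem_singleton_iff] at hx
      subst hx
      exact ⟨1, a, fun Q hQp => by rw [pow_one]; exact hQ Q hQp⟩
    | algebraMap r =>
      refine ⟨0, r, fun Q _ => ?_⟩
      have : ψ d ^ 0 * (algebraMap A A' r) - ψ r = 0 := by
        rw [pow_zero, one_mul]; exact sub_self _
      rw [this]; exact Ideal.zero_mem _
    | add x y _ _ hx hy =>
      obtain ⟨n₁, c₁, h₁⟩ := hx
      obtain ⟨n₂, c₂, h₂⟩ := hy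
      refine ⟨n₁ + n₂, d ^ n₂ * c₁ + d ^ n₁ * c₂, fun Q hQp => ?_⟩
      have e1 : ψ d ^ (n₁ + n₂) * (x + y) - ψ (d ^ n₂ * c₁ + d ^ n₁ * c₂) =
          ψ d ^ n₂ * (ψ d ^ n₁ * x - ψ c₁) + ψ d ^ n₁ * (ψ d ^ n₂ * y - ψ c₂) := by
        rw [map_add, map_mul, map_mul, map_pow, map_pow, pow_add]; ring
      rw [e1]
      exact Ideal.add_mem _ (Ideal.mul_mem_left _ _ (h₁ Q hQp)) (Ideal.mul_mem_left _ _ (h₂ Q hQp))
    | mul x y _ _ hx hy =>
      obtain ⟨n₁, c₁, h₁⟩ := hx
      obtain ⟨n₂, c₂, h₂⟩ := hy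
      refine ⟨n₁ + n₂, c₁ * c₂, fun Q hQp => ?_⟩
      have e1 : ψ d ^ (n₁ + n₂) * (x * y) - ψ (c₁ * c₂) =
          (ψ d ^ n₁ * x) * (ψ d ^ n₂ * y - ψ c₂) + ψ c₂ * (ψ d ^ n₁ * x - ψ c₁) := by
        rw [map_mul, pow_add]; ring
      rw [e1]
      exact Ideal.add_mem _ (Ideal.mul_mem_left _ _ (h₂ Q hQp)) (Ideal.mul_mem_left _ _ (h₁ Q hQp))
  -- integrality
  have hintE : ψE.IsIntegral := by
    intro e
    have h1 : IsIntegral A (e : A') := hint e
    exact (isIntegral_algHom_iff E.val Subtype.val_injective).1 h1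
  have hintval : (E.val : E →+* A').IsIntegral := by
    intro x
    have h1 : IsIntegral A x := hint x
    exact h1.tower_top
  have hvalsurj : Function.Surjective (PrimeSpectrum.comap (E.val : E →+* A')) :=
    FiltColimUH.comap_surjective_of_integral_of_ker _ hintval (by
      intro x hx
      have : x = 0 := Subtype.val_injective (by rw [RingHom.mem_ker] at hx; exact hx)
      rw [this]; exact Ideal.zero_mem _)
  have hcomp : ∀ Q : PrimeSpectrum A', PrimeSpectrum.comap ψ Q =
      PrimeSpectrum.comap ψE (PrimeSpectrum.comap (E.val : E →+* A') Q) := fun Q => rfl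
  have hQ : QSN ψE := by
    refine qsn_of_pointwise ψE hintE ?_ ?_ ?_
    · intro x hx
      rw [(injective_iff_map_eq_zero ψE).1 hψEinj x hx]
      exact Ideal.zero_mem _
    · intro q₁ q₂ h12
      obtain ⟨Q₁, rfl⟩ := hvalsurj q₁
      obtain ⟨Q₂, rfl⟩ := hvalsurj q₂
      set p := PrimeSpectrum.comap ψ Q₁ with hp
      have hp₂ : PrimeSpectrum.comap ψ Q₂ = p := by rw [hp, hcomp, hcomp, h12]
      obtain ⟨a, d, hd, hH⟩ := H p
      ext e
      obtain ⟨n, c, hnc⟩ := key p a d hH e.1 e.2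
      have h1 := hnc Q₁ rfl
      have h2 := hnc Q₂ hp₂
      have hd₁ : ψ d ^ n ∉ Q₁.asIdeal := fun h => hd (Q₁.isPrime.mem_of_pow_mem n h)
      have hd₂ : ψ d ^ n ∉ Q₂.asIdeal := by
        intro h
        have : d ∈ (PrimeSpectrum.comap ψ Q₂).asIdeal := Q₂.isPrime.mem_of_pow_mem n h
        rw [hp₂] at this
        exact hd this
      have hc : ψ c ∈ Q₁.asIdeal ↔ ψ c ∈ Q₂.asIdeal := by
        have e1 : ψ c ∈ Q₁.asIdeal ↔ c ∈ p.asIdeal := Iff.rfl
        have e2 : ψ c ∈ Q₂.asIdeal ↔ c ∈ (PrimeSpectrum.comap ψ Q₂).asIdeal := Iff.rfl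
        rw [e1, e2, hp₂]
      show (e : A') ∈ Q₁.asIdeal ↔ (e : A') ∈ Q₂.asIdeal
      constructor
      · intro he
        have : ψ c ∈ Q₁.asIdeal := by
          have h3 := Ideal.sub_mem _ (Ideal.mul_mem_left _ (ψ d ^ n) he) h1
          simpa using h3
        have h4 : ψ d ^ n * (e : A') ∈ Q₂.asIdeal := by
          have := Ideal.add_mem _ h2 (hc.mp this)
          simpa using this
        exact (Q₂.isPrime.mem_or_mem h4).resolve_left hd₂
      · intro he
        have : ψ c ∈ Q₂.asIdeal := by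
          have h3 := Ideal.sub_mem _ (Ideal.mul_mem_left _ (ψ d ^ n) he) h2
          simpa using h3
        have h4 : ψ d ^ n * (e : A') ∈ Q₁.asIdeal := by
          have := Ideal.add_mem _ h1 (hc.mpr this)
          simpa using this
        exact (Q₁.isPrime.mem_or_mem h4).resolve_left hd₁
    · intro q e
      obtain ⟨Q, rfl⟩ := hvalsurj q
      obtain ⟨a, d, hd, hH⟩ := H (PrimeSpectrum.comap ψ Q)
      obtain ⟨n, c, hnc⟩ := key _ a d hH e.1 e.2
      refine ⟨c, d ^ n, ?_, ?_⟩
      · intro h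
        exact hd ((PrimeSpectrum.comap ψ Q).isPrime.mem_of_pow_mem n h)
      · show ((ψE (d ^ n) * e - ψE c : E) : A') ∈ Q.asIdeal
        have := hnc Q rfl
        rw [← map_pow] at this
        exact this
  obtain ⟨t, ht⟩ := (bijective_of_isSeminormalRing hA ψE hQ).2 ⟨a', ha'E⟩
  exact ⟨t, congrArg Subtype.val ht⟩

end Groth.Agent.Lib.helper2.SNDesc
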