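import Mathlib
import Groth.Agent.Lib.Helper2.PtFunDVRf
import Groth.Agent.Lib.Helper2.PtFunCpl
import Groth.Agent.Lib.Helper2.NrmTot
import Groth.Agent.Lib.Helper2.SNDesc

set_option autoImplicit false
universe u

namespace Groth.Agent.Lib.helper2.PtFunDVR

open AlgebraicGeometry CategoryTheory W4c1hilbchowinc IsLocalRing

/-- pulling back preserves varying along complete DVRs. -/
theorem variesAlongCompleteDVR_pullback {X Y : Scheme.{u}} (π : Y ⟶ X) (f : PtFun X)
    (hf : f.VariesAlongCompleteDVR) : (f.pullback π).VariesAlongCompleteDVR := by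
  intro R _ _ _ _ g
  obtain ⟨s, hs⟩ := hf R (g ≫ π)
  refine ⟨s, hs.trans ?_⟩
  funext q
  show ((g ≫ π).residueFieldMap q).hom (f ((g ≫ π) q)) = _
  rw [Scheme.residueFieldMap_comp]
  rfl

variable {A : Type u} [CommRing A]

/-- the seminormal case. -/
theorem existsUnique_section_of_isSeminormalRing [IsNoetherianRing A]
    (hA : HTop.IsSeminormalRing A)
    (hfin : Module.Finite A (integralClosure A (FractionRing A)))
    (f : PtFun (Spec (CommRingCat.of A))) (hf : f.VariesAlongCompleteDVR) :
    ∃! a : Γ(Spec (CommRingCat.of A), ⊤), PtFun.ofSection (Spec (CommRingCat.of A)) a = f := by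
  haveI : IsReduced A := Groth.Agent.Lib.helper2.AWNRing.isReduced_of_isSeminormalRing hA
  haveI : IsNoetherianRing (integralClosure A (FractionRing A)) := IsNoetherianRing.of_finite A _
  haveI : IsReduced (integralClosure A (FractionRing A)) := NrmTot.isReduced_nrm A
  haveI : IsIntegrallyClosed (integralClosure A (FractionRing A)) :=
    NrmTot.isIntegrallyClosed_nrm A
  set ψ : A →+* integralClosure A (FractionRing A) := algebraMap A _ with hψ
  have hψinj : Function.Injective ψ := NrmTot.algebraMap_nrm_injective A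
  have hψint : ψ.IsIntegral := by
    intro x
    exact (isIntegral_algHom_iff (integralClosure A (FractionRing A)).val
      Subtype.val_injective).1 x.2
  set π := Spec.map (CommRingCat.ofHom ψ) with hπ
  have hf' : (f.pullback π).VariesAlongDVR :=
    variesAlongDVR_of_complete _ (variesAlongCompleteDVR_pullback π f hf)
  obtain ⟨s', hs', -⟩ := existsUnique_section (f.pullback π) hf'
  obtain ⟨a', ha'def⟩ : ∃ a' : integralClosure A (FractionRing A),
      a' = (Scheme.ΓSpecIso (CommRingCat.of (integralClosure A (FractionRing A)))).hom.hom s' :=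
    ⟨_, rfl⟩
  have ha' : ∀ Q : Spec (CommRingCat.of (integralClosure A (FractionRing A))),
      ev _ Q a' = (π.residueFieldMap Q).hom (f (π Q)) := by
    intro Q
    rw [ha'def, ← ofSection_apply]
    exact congrFun hs' Q
  -- descent
  have hmem : a' ∈ Set.range ψ := by
    refine SNDesc.mem_range_of_pointwise hA ψ hψinj hψint a' ?_
    intro p
    obtain ⟨a, d, hd, hbd⟩ := exists_ev_mul A p (f p)
    refine ⟨a, d, hd, fun Q hQ => ?_⟩
    have hQ' : p = π Q := hQ.symm
    obtain ⟨-, h2⟩ := transport_mul f hQ' a d hd hbd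
    have h3 := congrArg (π.residueFieldMap Q).hom h2
    rw [map_mul, ev_naturality, ev_naturality, ← ha' Q, ← map_mul, ← sub_eq_zero, ← map_sub,
      ev_eq_zero_iff] at h3
    rw [mul_comm]
    exact h3
  obtain ⟨a₀, ha₀⟩ := hmem
  have hπsurj : Function.Surjective (PrimeSpectrum.comap ψ) :=
    FiltColimUH.comap_surjective_of_integral_of_ker ψ hψint (by
      intro x hx
      rw [(injective_iff_map_eq_zero ψ).1 hψinj x hx]
      exact Ideal.zero_mem _)
  have hall : ∀ p : Spec (CommRingCat.of A), ev A p a₀ = f p := by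
    intro p
    obtain ⟨Q, hQ⟩ := hπsurj p
    have hQ' : π Q = p := hQ
    refine transport_eq f hQ' a₀ ?_
    apply (π.residueFieldMap Q).hom.injective
    rw [ev_naturality, ha₀, ha' Q]
  refine ⟨(Scheme.ΓSpecIso (CommRingCat.of A)).inv.hom a₀, ?_, ?_⟩
  · funext y
    rw [ofSection_apply]
    have : (Scheme.ΓSpecIso (CommRingCat.of A)).hom.hom
        ((Scheme.ΓSpecIso (CommRingCat.of A)).inv.hom a₀) = a₀ :=
      congrArg (fun φ => φ.hom a₀) (Scheme.ΓSpecIso (CommRingCat.of A)).inv_hom_id
    rw [this]
    exact hall y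
  · intro b hb
    apply ofSection_injective
    rw [hb]
    funext y
    rw [ofSection_apply]
    have : (Scheme.ΓSpecIso (CommRingCat.of A)).hom.hom
        ((Scheme.ΓSpecIso (CommRingCat.of A)).inv.hom a₀) = a₀ :=
      congrArg (fun φ => φ.hom a₀) (Scheme.ΓSpecIso (CommRingCat.of A)).inv_hom_id
    rw [this]
    exact (hall y).symm

end Groth.Agent.Lib.helper2.PtFunDVR
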