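import Mathlib
import Groth.Agent.Lib.Helper19.Falt2
import Groth.Agent.Lib.Helper26.Sk1

/-!
# Projective dimension from heights of associated primes over a regular ring (helper2)
-/

set_option autoImplicit false
universe u

namespace Groth.Agent.Lib.helper2.PtsRes

open CategoryTheory IsLocalRing Groth.Agent.Lib.helper26.Depth Groth.Agent.Lib.helper19.Falt

/-- Over a regular ring all of whose primes have height `≤ d + 1`, a finite module whose associated
primes have height `≤ d` has projective dimension `≤ d`. -/
theorem hasProjectiveDimensionLE_of_ass_height {R : Type u} [CommRing R] [IsRegularRing R]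
    (M : Type u) [AddCommGroup M] [Module R M] [Module.Finite R M] (d : ℕ)
    (hdim : ∀ p : Ideal R, p.IsPrime → p.height ≤ d + 1)
    (hass : ∀ p ∈ associatedPrimes R M, p.height ≤ d) :
    HasProjectiveDimensionLE (ModuleCat.of R M) d := by
  rw [ModuleCat.hasProjectiveDimensionLE_iff_forall_primeSpectrum]
  intro p
  let e : ((ModuleCat.of R M).localizedModule p.asIdeal.primeCompl) ≃ₗ[Localization.AtPrime p.asIdeal]
      LocalizedModule p.asIdeal.primeCompl M :=
    Shrink.linearEquiv (Localization.AtPrime p.asIdeal) (LocalizedModule p.asIdeal.primeCompl M)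
  have h2 : HasProjectiveDimensionLT (ModuleCat.of (Localization.AtPrime p.asIdeal)
      (LocalizedModule p.asIdeal.primeCompl M)) (d + 1) := by
    rw [pdAt_lt_iff M p.asIdeal (d + 1)]
    right
    by_cases hp : p.asIdeal.height ≤ d
    · calc p.asIdeal.height ≤ (d : ℕ∞) := hp
        _ < ((d + 1 : ℕ) : ℕ∞) := by exact_mod_cast Nat.lt_succ_self d
        _ ≤ _ := le_self_add
    · have hnot : p.asIdeal ∉ associatedPrimes R M := fun h => hp (hass _ h)
      have h1 := one_le_depth_localization_of_not_mem_associatedPrimes M p.asIdeal hnot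
      calc p.asIdeal.height ≤ (d : ℕ∞) + 1 := hdim _ p.2
        _ < ((d + 1 : ℕ) : ℕ∞) + 1 := by
            have : ((d + 1 : ℕ) : ℕ∞) = (d : ℕ∞) + 1 := by push_cast; rfl
            rw [this]
            exact ENat.lt_add_one_iff (by simp) |>.mpr le_rfl
        _ ≤ _ := add_le_add_right h1 _
  exact hasProjectiveDimensionLT_of_iso e.toModuleIso.symm _

end Groth.Agent.Lib.helper2.PtsRes
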