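import Mathlib
import Groth.Agent.Lib.Helper10.Dub5
import Groth.Agent.Lib.Helper2.PtsRes1

/-!
# The coordinate ring of a finite set of points has projective dimension `≤ r` over
`k[x_0, …, x_r]` (helper2)
-/

set_option autoImplicit false
universe u

namespace Groth.Agent.Lib.helper2.PtsRes

open CategoryTheory MvPolynomial Groth.Agent.Lib.helper10.Dub

section

variable {k : Type u} [Field k] {σ : Type} [Fintype σ]

/-- the ideal of the line through the origin and `p` -/
noncomputable abbrev Ip (p : σ → k) : Ideal (MvPolynomial σ k) := RingHom.ker (psi p).toRingHom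

instance (p : σ → k) : (Ip p).IsPrime := RingHom.ker_isPrime _

theorem psi_X (p : σ → k) (i : σ) : psi p (X i) = Polynomial.C (p i) * Polynomial.X := by
  simp [psi]

theorem X_not_mem_Ip (p : σ → k) (i : σ) (hi : p i ≠ 0) : (X i : MvPolynomial σ k) ∉ Ip p := by
  intro h
  have h1 : psi p (X i) = 0 := h
  rw [psi_X] at h1
  have := congrArg (fun q => Polynomial.coeff q 1) h1
  simp at this
  exact hi this

/-- the irrelevant maximal ideal -/
noncomputable abbrev mm : Ideal (MvPolynomial σ k) :=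
  RingHom.ker (constantCoeff : MvPolynomial σ k →+* k)

instance : (mm (k := k) (σ := σ)).IsPrime := RingHom.ker_isPrime _

theorem Ip_lt_mm (p : σ → k) (hp : p ≠ 0) : Ip p < mm := by
  obtain ⟨i, hi⟩ : ∃ i, p i ≠ 0 := by
    by_contra h
    push Not at h
    exact hp (funext h)
  refine lt_of_le_of_ne ?_ ?_
  · intro f hf
    have h1 : psi p f = 0 := hf
    have h2 := congrArg (fun q => Polynomial.coeff q 0) h1
    simp only [coeff_psi, Polynomial.coeff_zero] at h2
    rw [homogeneousComponent_zero, eval_C] at h2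
    exact h2
  · intro heq
    apply X_not_mem_Ip p i hi
    rw [heq]
    show constantCoeff (X i : MvPolynomial σ k) = 0
    simp

theorem exists_le_Ip_of_mem_ass (Z : Finset (σ → k)) (q : Ideal (MvPolynomial σ k))
    (hq : q ∈ associatedPrimes (MvPolynomial σ k) (MvPolynomial σ k ⧸ IZ Z)) :
    ∃ p ∈ Z, q ≤ Ip p := by
  rw [AssociatedPrimes.mem_iff, isAssociatedPrime_iff] at hq
  obtain ⟨hprime, x, hx⟩ := hq
  obtain ⟨x, rfl⟩ := Ideal.Quotient.mk_surjective x
  have hxI : x ∉ IZ Z := by
    intro h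
    apply hprime.ne_top
    rw [hx, Ideal.eq_top_iff_one, Submodule.mem_colon_singleton, one_smul,
      Ideal.Quotient.eq_zero_iff_mem.mpr h]
    exact Submodule.zero_mem _
  have : ∃ p ∈ Z, x ∉ Ip p := by
    by_contra h
    push Not at h
    apply hxI
    unfold IZ
    simp only [Ideal.mem_iInf]
    exact h
  obtain ⟨p, hp, hxp⟩ := this
  refine ⟨p, hp, ?_⟩
  intro f hf
  rw [hx, Submodule.mem_colon_singleton] at hf
  have h1 : f * x ∈ IZ Z := by
    rw [← Ideal.Quotient.eq_zero_iff_mem, map_mul]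
    exact hf
  have h2 : f * x ∈ Ip p := by
    unfold IZ at h1
    simp only [Ideal.mem_iInf] at h1
    exact h1 p hp
  exact (Ideal.IsPrime.mem_or_mem inferInstance h2).resolve_right hxp

end

section

variable {k : Type u} [Field k] {r : ℕ}

theorem height_le_of_isPrime (q : Ideal (MvPolynomial (Fin (r + 1)) k)) (hq : q.IsPrime) :
    q.height ≤ (r : ℕ∞) + 1 := by
  have h1 := Ideal.height_le_ringKrullDim_of_ne_top hq.ne_top
  rw [MvPolynomial.ringKrullDim_of_isNoetherianRing, ringKrullDim_eq_zero_of_field, zero_add,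
    Nat.card_fin] at h1
  have h2 : ((q.height : ℕ∞) : WithBot ℕ∞) ≤ (((r + 1 : ℕ) : ℕ∞) : WithBot ℕ∞) := by
    exact_mod_cast h1
  have h3 := WithBot.coe_le_coe.mp h2
  simpa using h3

theorem height_le_of_mem_ass (Z : Finset (Fin (r + 1) → k)) (hZ : ∀ p ∈ Z, p ≠ 0)
    (q : Ideal (MvPolynomial (Fin (r + 1)) k))
    (hq : q ∈ associatedPrimes (MvPolynomial (Fin (r + 1)) k)
      (MvPolynomial (Fin (r + 1)) k ⧸ IZ Z)) :
    q.height ≤ (r : ℕ∞) := by
  obtain ⟨p, hp, hqp⟩ := exists_le_Ip_of_mem_ass Z q hq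
  haveI : q.IsPrime := hq.isPrime
  have hlt : q < mm := lt_of_le_of_lt hqp (Ip_lt_mm p (hZ p hp))
  have h1 := Ideal.height_add_one_le_of_lt_of_isPrime hlt
  have h2 := height_le_of_isPrime (mm (k := k) (σ := Fin (r + 1))) inferInstance
  have h3 : q.height + 1 ≤ (r : ℕ∞) + 1 := h1.trans h2
  exact (ENat.add_le_add_iff_right (by simp)).mp h3

theorem hasProjectiveDimensionLE_quot_IZ (Z : Finset (Fin (r + 1) → k)) (hZ : ∀ p ∈ Z, p ≠ 0) :
    HasProjectiveDimensionLE (ModuleCat.of (MvPolynomial (Fin (r + 1)) k)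
      (MvPolynomial (Fin (r + 1)) k ⧸ IZ Z)) r :=
  hasProjectiveDimensionLE_of_ass_height _ r (fun p hp => height_le_of_isPrime p hp)
    (fun q hq => height_le_of_mem_ass Z hZ q hq)

end

end Groth.Agent.Lib.helper2.PtsRes
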