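import Mathlib
import Groth.Agent.Lib.Helper2.PtsRes2
import Groth.Agent.Lib.Helper26.Seg24
import Groth.Agent.Lib.Helper7.GrSyzPts
import Groth.Agent.S15416
import Groth.Agent.S15430

/-!
# A minimal graded free resolution of length `≤ r` of the coordinate ring of a finite set of
points of `P^r` (helper2)
-/

set_option autoImplicit false
universe u

namespace Groth.Agent.Lib.helper2.PtsRes

open CategoryTheory MvPolynomial Groth.Agent.Lib.helper10.Dub Groth.Agent.Lib.helper26.Seg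
  Groth.Agent.Lib.helper7.GrSyzBasic

section

variable {k : Type u} [Field k] {r : ℕ}

local notation "S" => MvPolynomial (Fin (r + 1)) k
local notation "𝒜" => GrSyz.stdGr k (Fin (r + 1))

theorem mem_stdGr_of_isHomogeneous {f : S} {n : ℕ} (hf : f.IsHomogeneous n) : f ∈ 𝒜 (n : ℤ) := by
  rw [GrSyz.mem_stdGr_iff]
  intro d hd
  rw [weight_one_eq_degree]
  have := hf hd
  rw [Finsupp.weight_apply] at this
  rw [Finsupp.degree_apply]
  simp only [Pi.one_apply, smul_eq_mul, mul_one] at this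
  exact_mod_cast this

theorem IZ_isHomogeneous (Z : Finset (Fin (r + 1) → k)) : (IZ Z).IsHomogeneous 𝒜 := by
  have h : IZ Z = Ideal.span {g | g ∈ IZ Z ∧ ∃ n : ℕ, g.IsHomogeneous n} := by
    apply le_antisymm
    · intro f hf
      rw [← sum_homogeneousComponent f]
      refine Ideal.sum_mem _ fun n _ => Ideal.subset_span ⟨homI_IZ Z f hf n, n, ?_⟩
      exact homogeneousComponent_isHomogeneous n f
    · rw [Ideal.span_le]
      rintro g ⟨hg, -⟩
      exact hg
  rw [h]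
  apply Ideal.homogeneous_span
  rintro g ⟨-, n, hn⟩
  exact ⟨(n : ℤ), mem_stdGr_of_isHomogeneous hn⟩

/-- `IZ Z` as a homogeneous ideal for the standard `ℤ`-grading. -/
noncomputable def IZh (Z : Finset (Fin (r + 1) → k)) : HomogeneousIdeal 𝒜 :=
  ⟨IZ Z, IZ_isHomogeneous Z⟩

theorem IZh_toIdeal (Z : Finset (Fin (r + 1) → k)) : (IZh Z).toIdeal = IZ Z := rfl

instance gradedSMul (Z : Finset (Fin (r + 1) → k)) :
    SetLike.GradedSMul 𝒜 (qGr 𝒜 (IZh Z)) where
  smul_mem := by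
    intro i j a m ha hm
    obtain ⟨b, hb, rfl⟩ := exists_of_mem_qGr 𝒜 (IZh Z) hm
    have : a • Ideal.Quotient.mk (IZh Z).toIdeal b = Ideal.Quotient.mk (IZh Z).toIdeal (a * b) := by
      rw [map_mul]; rfl
    rw [this]
    exact mk_mem_qGr 𝒜 (IZh Z) (SetLike.GradedMul.mul_mem ha hb)

theorem exists_minimal_res (Z : Finset (Fin (r + 1) → k)) (hZ : ∀ p ∈ Z, p ≠ 0) :
    ∃ F : GrSyz.FreeRes 𝒜 (qGr 𝒜 (IZh Z)),
      F.IsMinimal (GrSyz.irrel 𝒜).toIdeal ∧ F.HasLengthLE r := by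
  obtain ⟨F, hF⟩ := Groth.Agent.S15416.result k r (S ⧸ (IZh Z).toIdeal) (qGr 𝒜 (IZh Z))
  refine ⟨F, hF, ?_⟩
  rw [Groth.Agent.S15430.result k r (S ⧸ (IZh Z).toIdeal) (qGr 𝒜 (IZh Z)) F hF r]
  exact hasProjectiveDimensionLE_quot_IZ Z hZ

end

end Groth.Agent.Lib.helper2.PtsRes
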