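import Mathlib
import Groth.Agent.Lib.Helper2.PtsRes3
import Groth.Agent.Lib.Helper2.HB1

/-!
# From a minimal resolution of a cyclic module `R ⧸ I` to a presentation of `I` (helper2)
-/

set_option autoImplicit false
universe u

namespace Groth.Agent.Lib.helper2.PtsRes

open Groth.Agent.Lib.helper7.GrSyzBasic

section Cyclic

variable {R : Type u} [CommRing R] {σ' : Type u} [SetLike σ' R] {𝒜 : ℤ → σ'}
  (I : Ideal R) {τ : Type u} [SetLike τ (R ⧸ I)] [AddSubgroupClass τ (R ⧸ I)]
  {ℳ : ℤ → τ} [DirectSum.Decomposition ℳ] [SetLike.GradedSMul 𝒜 ℳ]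

/-- A resolution of the cyclic module `R ⧸ I`, minimal with respect to a proper ideal, starts with
a free module of rank one, and its first differential gives a presentation of `I`. -/
theorem exists_pi_of_minimal (hI : I ≠ ⊤) (F : GrSyz.FreeRes 𝒜 ℳ) {𝔪 : Ideal R}
    (hF : F.IsMinimal 𝔪) (h1 : (1 : R) ∉ 𝔪) :
    ∃ π : (Fin (F.rk 1) → R) →ₗ[R] R,
      LinearMap.ker π = LinearMap.ker (F.dLin 0) ∧ LinearMap.range π = I := by
  classical
  have hmk : ∀ b : Fin (F.rk 0), ∃ f : R, Ideal.Quotient.mk I f = F.aug b :=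
    fun b => Ideal.Quotient.mk_surjective _
  choose f hf using hmk
  obtain ⟨v, hv⟩ := F.aug_surjective (Ideal.Quotient.mk I 1)
  have hsm : ∀ (a : R) (b : Fin (F.rk 0)), a • F.aug b = Ideal.Quotient.mk I (a * f b) := by
    intro a b
    rw [← hf b, map_mul]
    rfl
  have hker_mem : ∀ w : Fin (F.rk 0) → R, Fintype.linearCombination R F.aug w = 0 →
      ∀ b, w b ∈ 𝔪 := by
    intro w hw b
    have : w ∈ LinearMap.ker (Fintype.linearCombination R F.aug) := hw
    rw [F.exact_zero] at this
    obtain ⟨u, rfl⟩ := this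
    exact dLin_apply_mem F hF 0 u b
  -- key1
  have key1 : ∀ b, 1 - f b * v b ∈ 𝔪 := by
    intro b
    have hw : Fintype.linearCombination R F.aug (Pi.single b 1 - f b • v) = 0 := by
      rw [map_sub, Fintype.linearCombination_apply_single, one_smul, map_smul, hv, ← hf b,
        sub_eq_zero]
      show _ = Ideal.Quotient.mk I (f b) * Ideal.Quotient.mk I 1
      rw [map_one, mul_one]
    have := hker_mem _ hw b
    simpa using this
  have key2 : ∀ b c : Fin (F.rk 0), b ≠ c → f c ∈ 𝔪 := by
    intro b c hbc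
    have hw : Fintype.linearCombination R F.aug (f c • Pi.single b 1 - f b • Pi.single c 1) = 0 := by
      rw [map_sub, map_smul, map_smul, Fintype.linearCombination_apply_single,
        Fintype.linearCombination_apply_single, one_smul, one_smul, hsm, hsm, mul_comm,
        sub_self]
    have := hker_mem _ hw b
    simpa [Pi.single_eq_of_ne hbc] using this
  haveI hsub : Subsingleton (Fin (F.rk 0)) := by
    constructor
    intro b c
    by_contra hbc
    have h2 := key2 b c hbc
    have h3 := key1 c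
    apply h1
    have : (1 : R) = (1 - f c * v c) + f c * v c := by ring
    rw [this]
    exact 𝔪.add_mem h3 (𝔪.mul_mem_right _ h2)
  haveI hne : Nonempty (Fin (F.rk 0)) := by
    by_contra hemp
    rw [not_nonempty_iff] at hemp
    apply hI
    rw [Ideal.eq_top_iff_one, ← Ideal.Quotient.eq_zero_iff_mem, ← hv,
      Fintype.linearCombination_apply]
    exact Finset.sum_of_isEmpty _
  let b0 : Fin (F.rk 0) := Classical.arbitrary _
  have haug : ∀ w : Fin (F.rk 0) → R,
      Fintype.linearCombination R F.aug w = Ideal.Quotient.mk I (w b0 * f b0) := by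
    intro w
    rw [Fintype.linearCombination_apply, Fintype.sum_subsingleton _ b0, hsm]
  have hunit : 1 - v b0 * f b0 ∈ I := by
    rw [← Ideal.Quotient.eq_zero_iff_mem, map_sub, ← haug, hv, sub_self]
  refine ⟨(LinearMap.proj b0) ∘ₗ F.dLin 0, ?_, ?_⟩
  · ext x
    simp only [LinearMap.mem_ker, LinearMap.comp_apply, LinearMap.proj_apply]
    constructor
    · intro h
      funext b
      rw [Subsingleton.elim b b0, h]
      rfl
    · intro h
      rw [h]
      rfl
  · ext s
    constructor
    · rintro ⟨x, rfl⟩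
      simp only [LinearMap.comp_apply, LinearMap.proj_apply]
      set w := F.dLin 0 x with hw
      have hwker : Fintype.linearCombination R F.aug w = 0 := by
        have : w ∈ LinearMap.range (F.dLin 0) := ⟨x, rfl⟩
        rw [← F.exact_zero] at this
        exact this
      rw [haug, Ideal.Quotient.eq_zero_iff_mem] at hwker
      have : w b0 = w b0 * (1 - v b0 * f b0) + v b0 * (w b0 * f b0) := by ring
      rw [this]
      exact I.add_mem (I.mul_mem_left _ hunit) (I.mul_mem_left _ hwker)
    · intro hs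
      have hx : s • (Pi.single b0 1 : Fin (F.rk 0) → R) ∈
          LinearMap.ker (Fintype.linearCombination R F.aug) := by
        rw [LinearMap.mem_ker, haug, Ideal.Quotient.eq_zero_iff_mem]
        simp only [Pi.smul_apply, Pi.single_eq_same, smul_eq_mul, mul_one]
        exact I.mul_mem_right _ hs
      rw [F.exact_zero] at hx
      obtain ⟨u, hu⟩ := hx
      refine ⟨u, ?_⟩
      simp only [LinearMap.comp_apply, LinearMap.proj_apply]
      change (F.dLin 0 u) b0 = s
      have : F.dLin 0 u = s • (Pi.single b0 1 : Fin (F.rk 0) → R) := hu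
      rw [this]
      simp

end Cyclic

section Final

open MvPolynomial Groth.Agent.Lib.helper10.Dub Groth.Agent.Lib.helper26.Seg

variable {k : Type u} [Field k]

theorem exists_ne_zero_mem_Ip (p : Fin 3 → k) (hp : p ≠ 0) :
    ∃ g : MvPolynomial (Fin 3) k, g ≠ 0 ∧ g ∈ Ip p := by
  obtain ⟨i, hi⟩ : ∃ i, p i ≠ 0 := by
    by_contra h
    push Not at h
    exact hp (funext h)
  obtain ⟨j, hj⟩ := exists_ne i
  refine ⟨C (p i) * X j - C (p j) * X i, ?_, ?_⟩
  · intro h0
    have := congrArg (eval (Pi.single j (1 : k))) h0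
    simp [Pi.single_eq_of_ne hj.symm] at this
    exact hi this
  · show psi p (C (p i) * X j - C (p j) * X i) = 0
    rw [map_sub, map_mul, map_mul, psi_X, psi_X]
    simp only [psi, aeval_C, Polynomial.algebraMap_eq]
    ring

theorem IZ_ne_bot (Z : Finset (Fin 3 → k)) (hZ : ∀ p ∈ Z, p ≠ 0) : IZ Z ≠ ⊥ := by
  classical
  have hex : ∀ p : Fin 3 → k, ∃ g : MvPolynomial (Fin 3) k, p ∈ Z → (g ≠ 0 ∧ g ∈ Ip p) := by
    intro p
    by_cases hp : p ∈ Z
    · obtain ⟨g, hg⟩ := exists_ne_zero_mem_Ip p (hZ p hp)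
      exact ⟨g, fun _ => hg⟩
    · exact ⟨0, fun h => absurd h hp⟩
  choose g hg using hex
  intro hbot
  have hmem : ∏ p ∈ Z, g p ∈ IZ Z := by
    unfold IZ
    simp only [Ideal.mem_iInf]
    intro p hp
    rw [← Finset.mul_prod_erase Z g hp]
    exact Ideal.mul_mem_right _ _ (hg p hp).2
  rw [hbot, Ideal.mem_bot, Finset.prod_eq_zero_iff] at hmem
  obtain ⟨p, hp, h0⟩ := hmem
  exact (hg p hp).1 h0

/-- Hilbert–Burch shape of the resolution, after identifying the ranks. -/
theorem exists_of_ranks {R : Type u} [CommRing R] [IsNoetherianRing R] (I : Ideal R) (hI : I ≠ ⊥)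
    (n1 t : ℕ) (Ψ : Matrix (Fin n1) (Fin t) R) (π : (Fin n1 → R) →ₗ[R] R)
    (hΨ : LinearMap.ker Ψ.mulVecLin = ⊥) (hex : LinearMap.ker π = LinearMap.range Ψ.mulVecLin)
    (hr : LinearMap.range π = I) :
    ∃ (t : ℕ) (Ψ : Matrix (Fin (t + 1)) (Fin t) R) (π : (Fin (t + 1) → R) →ₗ[R] R),
      LinearMap.ker Ψ.mulVecLin = ⊥ ∧ LinearMap.ker π = LinearMap.range Ψ.mulVecLin ∧
        LinearMap.range π = I := by
  have h := (Groth.Agent.Lib.helper2.HB.hilbert_burch t n1 Ψ π hΨ hex (by rw [hr]; exact hI)).1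
  subst h
  exact ⟨t, Ψ, π, hΨ, hex, hr⟩

theorem exists_resolution_IZ (Z : Finset (Fin 3 → k)) (hZ : ∀ p ∈ Z, p ≠ 0) :
    ∃ (t : ℕ) (Ψ : Matrix (Fin (t + 1)) (Fin t) (MvPolynomial (Fin 3) k))
      (π : (Fin (t + 1) → MvPolynomial (Fin 3) k) →ₗ[MvPolynomial (Fin 3) k]
        MvPolynomial (Fin 3) k),
      LinearMap.ker Ψ.mulVecLin = ⊥ ∧ LinearMap.ker π = LinearMap.range Ψ.mulVecLin ∧
        LinearMap.range π = IZ Z := by
  by_cases hne : Z.Nonempty
  · obtain ⟨p0, hp0⟩ := hne
    have hItop : IZ Z ≠ ⊤ := by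
      intro h
      have h1 : (1 : MvPolynomial (Fin 3) k) ∈ IZ Z := by rw [h]; trivial
      rw [mem_IZ] at h1
      have := h1 p0 hp0 0
      simp at this
    obtain ⟨F, hF, hlen⟩ := exists_minimal_res (r := 2) Z hZ
    obtain ⟨π, hker, hrange⟩ := exists_pi_of_minimal (IZh Z).toIdeal hItop F hF
      (one_not_mem_irrel k (Fin 3))
    have hrk3 : F.rk 3 = 0 := hlen 3 (by norm_num)
    have hΨ : LinearMap.ker (F.d 1).mulVecLin = ⊥ := by
      have h := F.exact_succ 1
      rw [h, eq_bot_iff]
      rintro _ ⟨u, rfl⟩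
      have : u = 0 := by
        funext i
        exact (Fin.cast hrk3 i).elim0
      rw [this, map_zero]
      exact Submodule.zero_mem _
    exact exists_of_ranks (IZ Z) (IZ_ne_bot Z hZ) (F.rk 1) (F.rk 2) (F.d 1) π hΨ
      (hker.trans (F.exact_succ 0)) hrange
  · rw [Finset.not_nonempty_iff_eq_empty] at hne
    subst hne
    have htop : IZ (∅ : Finset (Fin 3 → k)) = ⊤ := by
      rw [Ideal.eq_top_iff_one, mem_IZ]
      intro p hp
      simp at hp
    refine ⟨0, 0, LinearMap.proj 0, ?_, ?_, ?_⟩
    · rw [eq_bot_iff]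
      intro u _
      have : u = 0 := funext fun i => i.elim0
      rw [this]
      exact Submodule.zero_mem _
    · ext x
      simp only [LinearMap.mem_ker, LinearMap.proj_apply, LinearMap.mem_range]
      constructor
      · intro h
        refine ⟨0, ?_⟩
        rw [map_zero]
        funext i
        have hi : i = 0 := Fin.ext (by have := i.2; omega)
        rw [hi, h]
        rfl
      · rintro ⟨u, rfl⟩
        have : u = 0 := funext fun i => i.elim0
        rw [this, map_zero]
        rfl
    · rw [htop, LinearMap.range_eq_top]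
      intro s
      exact ⟨fun _ => s, rfl⟩

end Final

end Groth.Agent.Lib.helper2.PtsRes
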