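import Groth.Prelude.Def_ModSite
import Groth.Prelude.Def_AlgSpPerf
import Mathlib.CategoryTheory.Limits.Final.Type
import Mathlib.Algebra.Category.ModuleCat.Sheaf.PullbackFree

universe u

open CategoryTheory CategoryTheory.Limits Opposite

namespace Groth.Agent.Lib.helper2.PullUnit

section Sections

variable {C D : Type u} [SmallCategory C] [SmallCategory D]
  (J : GrothendieckTopology C) (K : GrothendieckTopology D)
  (F : D ⥤ C) [F.IsContinuous K J]

/-- the concrete terminal sheaf of types -/
noncomputable abbrev T (J : GrothendieckTopology C) : Sheaf J (Type u) :=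
  Sheaf.terminal J Types.isTerminalPUnit

noncomputable def hT (J : GrothendieckTopology C) : IsTerminal (T J) :=
  Sheaf.isTerminalTerminal J Types.isTerminalPUnit

/-- sections of a sheaf of types as maps out of the terminal sheaf -/
noncomputable def secEquiv (P : Sheaf J (Type u)) : P.obj.sections ≃ (T J ⟶ P) :=
  (P.obj.sectionsEquivHom PUnit.{u+1}).trans
    ⟨fun a => ⟨a⟩, fun a => a.hom, fun _ => rfl, fun _ => rfl⟩

lemma secEquiv_symm_val (P : Sheaf J (Type u)) (a : T J ⟶ P) (U : Cᵒᵖ) :
    ((secEquiv J P).symm a).val U = a.hom.app U PUnit.unit := rfl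

lemma secEquiv_hom_app (P : Sheaf J (Type u)) (s : P.obj.sections) (U : Cᵒᵖ) (x : PUnit) :
    ((secEquiv J P) s).hom.app U x = s.val U := rfl

variable [PreservesFiniteLimits (F.sheafPullback (Type u) K J)]

include K in
theorem bijective_sectionsPrecomp (P : Sheaf J (Type u)) :
    Function.Bijective (F.op.sectionsPrecomp (P := P.obj)) := by
  let G := F.sheafPullback (Type u) K J
  let push := F.sheafPushforwardContinuous (Type u) K J
  let adj : G ⊣ push := F.sheafAdjunctionContinuous (Type u) K J
  have hGT : IsTerminal (G.obj (T K)) := IsTerminal.isTerminalObj G (T K) (hT K)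
  let e : G.obj (T K) ≅ T J := hGT.uniqueUpToIso (hT J)
  let E : P.obj.sections ≃ (F.op ⋙ P.obj).sections :=
    (secEquiv J P).trans <| (e.homFromEquiv (Z := P)).symm.trans <|
      (adj.homEquiv (T K) P).trans (secEquiv K (push.obj P)).symm
  have hE : ∀ s, E s = F.op.sectionsPrecomp s := by
    intro s
    apply Subtype.ext
    funext V
    change ((adj.homEquiv (T K) P) (e.hom ≫ (secEquiv J P) s)).hom.app V PUnit.unit = s.val (F.op.obj V)
    rw [Adjunction.homEquiv_unit]
    rfl
  have : F.op.sectionsPrecomp (P := P.obj) = E := funext fun s => (hE s).symm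
  rw [this]
  exact E.bijective

end Sections

section Modules

open SheafOfModules

variable {C D : Type u} [SmallCategory C] [SmallCategory D]
  {J : GrothendieckTopology C} {K : GrothendieckTopology D}
  {O_C : Sheaf J CommRingCat.{u}} {O_D : Sheaf K CommRingCat.{u}} (f : ModSite.RMor O_C O_D)

/-- the sheaf of types underlying a module -/
noncomputable def typeSheaf (M : ModSite.Mod O_C) : Sheaf J (Type u) :=
  (sheafCompose J (forget AddCommGrpCat.{u})).obj ⟨M.val.presheaf, M.isSheaf⟩

theorem bijective_pushforwardSections (M : ModSite.Mod O_C) :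
    Function.Bijective (SheafOfModules.pushforwardSections f.sharpR (M := M)) :=
  bijective_sectionsPrecomp J K f.fn (typeSheaf M)

instance isIso_pullbackObjUnitToUnit : IsIso (pullbackObjUnitToUnit f.sharpR) := by
  rw [isIso_iff_coyoneda_map_bijective]
  intro M
  rw [← ((pullbackPushforwardAdjunction.{u} f.sharpR).homEquiv _ _).bijective.of_comp_iff',
    ← (unitHomEquiv _).bijective.of_comp_iff']
  convert! (bijective_pushforwardSections f M).comp (unitHomEquiv _).bijective
  ext g : 1
  dsimp
  rw [pushforwardSections_unitHomEquiv, EmbeddingLike.apply_eq_iff_eq,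
    Adjunction.homEquiv_naturality_right,
    pullbackPushforwardAdjunction_homEquiv_pullbackObjUnitToUnit]

/-- The pullback of a free module along a morphism of ringed sites is free. -/
noncomputable def pullFreeIso (I : Type u) :
    f.pull.obj (SheafOfModules.free I) ≅ SheafOfModules.free I :=
  (asIso (sigmaComparison _ _)).symm ≪≫
    Sigma.mapIso (fun _ ↦ asIso (pullbackObjUnitToUnit f.sharpR))

theorem isFinFreeSummandMod_pull {E : ModSite.Mod O_D}
    (hE : DCoh.IsFinFreeSummandMod (ModSite.ringSh O_D) E) :
    DCoh.IsFinFreeSummandMod (ModSite.ringSh O_C) (f.pull.obj E) := by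
  obtain ⟨n, i, p, hip⟩ := hE
  refine ⟨n, f.pull.map i ≫ (pullFreeIso f _).hom, (pullFreeIso f _).inv ≫ f.pull.map p, ?_⟩
  rw [Category.assoc, Iso.hom_inv_id_assoc, ← Functor.map_comp, hip, CategoryTheory.Functor.map_id]

theorem isStrictlyPerfectMod_pull (E : CochainComplex (ModSite.Mod O_D) ℤ)
    (hE : DCoh.IsStrictlyPerfectMod (ModSite.ringSh O_D) E) :
    DCoh.IsStrictlyPerfectMod (ModSite.ringSh O_C)
      ((f.pull.mapHomologicalComplex (ComplexShape.up ℤ)).obj E) := by
  obtain ⟨⟨a, b, hab⟩, h2⟩ := hE
  refine ⟨⟨a, b, fun i hi => ?_⟩, fun i => isFinFreeSummandMod_pull f (h2 i)⟩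
  exact Functor.map_isZero f.pull (hab i hi)

end Modules

end Groth.Agent.Lib.helper2.PullUnit
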