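import Mathlib
import Groth.Prelude.Def_Wider
import Groth.Agent.Lib.Helper2.PuncAff1
import Groth.Agent.Lib.Helper2.DTExact3
import Groth.Agent.Lib.Helper19.LCZero

set_option autoImplicit false
universe u

open AlgebraicGeometry StructureSheaf PrimeSpectrum TopologicalSpace CategoryTheory Opposite
open Groth.Agent.Lib.helper2.PureClosed

namespace Groth.Agent.Lib.helper2.PuncAff

variable (A : Type u) [CommRing A]

section Sections

variable (I : Ideal A) (c : ℕ) (φ : ↥(I ^ (c + 1)) →ₗ[A] A)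

lemma exists_pow_notMem (x : LocCoh.puncturedOpen A I) :
    ∃ g : A, g ∈ I ^ (c + 1) ∧ g ∉ (x.1 : PrimeSpectrum A).asIdeal := by
  have hx : ¬ ((I : Set A) ⊆ ((x.1 : PrimeSpectrum A).asIdeal : Set A)) :=
    fun h => x.2 ((PrimeSpectrum.mem_zeroLocus _ _).mpr h)
  rw [Set.not_subset] at hx
  obtain ⟨a, haI, hax⟩ := hx
  exact ⟨a ^ (c + 1), Ideal.pow_mem_pow haI _, fun h => hax ((x.1 : PrimeSpectrum A).isPrime.mem_of_pow_mem _ h)⟩

/-- the denominators -/
noncomputable def den (x : LocCoh.puncturedOpen A I) : A := (exists_pow_notMem A I c x).choose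

lemma den_mem (x : LocCoh.puncturedOpen A I) : den A I c x ∈ I ^ (c + 1) :=
  (exists_pow_notMem A I c x).choose_spec.1

lemma den_notMem (x : LocCoh.puncturedOpen A I) :
    den A I c x ∉ (x.1 : PrimeSpectrum A).asIdeal :=
  (exists_pow_notMem A I c x).choose_spec.2

lemma cross (g g' : A) (hg : g ∈ I ^ (c + 1)) (hg' : g' ∈ I ^ (c + 1)) :
    g * φ ⟨g', hg'⟩ = g' * φ ⟨g, hg⟩ := by
  have h1 : g • (⟨g', hg'⟩ : ↥(I ^ (c + 1))) = g' • ⟨g, hg⟩ := by
    apply Subtype.ext
    simp [mul_comm]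
  have := congrArg φ h1
  rwa [map_smul, map_smul, smul_eq_mul, smul_eq_mul] at this

/-- the section `x ↦ φ(g)/g` of the structure sheaf over `D(I)` -/
noncomputable def secOf : Sec A A (LocCoh.puncturedOpen A I) :=
  ⟨fun x => LocalizedModule.mk (φ ⟨den A I c x, den_mem A I c x⟩)
      ⟨den A I c x, den_notMem A I c x⟩, by
    intro x
    refine ⟨LocCoh.puncturedOpen A I ⊓ PrimeSpectrum.basicOpen (den A I c x),
      ⟨x.2, den_notMem A I c x⟩, homOfLE inf_le_left,
      φ ⟨den A I c x, den_mem A I c x⟩, den A I c x, ?_⟩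
    intro y
    refine ⟨y.2.2, ?_⟩
    rw [LocalizedModule.mk_eq]
    refine ⟨1, ?_⟩
    simp only [one_smul]
    show den A I c x • φ ⟨den A I c ⟨y.1, y.2.1⟩, _⟩ =
      den A I c ⟨y.1, y.2.1⟩ • φ ⟨den A I c x, _⟩
    exact cross A I c φ _ _ _ _⟩

lemma secOf_val (x : LocCoh.puncturedOpen A I) :
    (secOf A I c φ).1 x = LocalizedModule.mk (φ ⟨den A I c x, den_mem A I c x⟩)
      ⟨den A I c x, den_notMem A I c x⟩ := rfl

end Sections

section Main

lemma mk_add_same {R M : Type*} [CommRing R] [AddCommGroup M] [Module R M] (S : Submonoid R)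
    (x y : M) (t : S) :
    LocalizedModule.mk x t + LocalizedModule.mk y t = LocalizedModule.mk (x + y) t := by
  rw [IsLocalizedModule.mk_eq_mk', IsLocalizedModule.mk_eq_mk', IsLocalizedModule.mk_eq_mk',
    IsLocalizedModule.mk'_add]

lemma sum_smul_mk {R M : Type*} [CommRing R] [AddCommGroup M] [Module R M] (S : Submonoid R)
    {ι : Type*} (s : Finset ι) (a : ι → R) (m : ι → M) (t : S) :
    ∑ j ∈ s, a j • LocalizedModule.mk (m j) t = LocalizedModule.mk (∑ j ∈ s, a j • m j) t := by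
  classical
  induction s using Finset.induction_on with
  | empty => simp
  | insert b s hb ih =>
    rw [Finset.sum_insert hb, Finset.sum_insert hb, ih, LocalizedModule.smul'_mk, mk_add_same]

variable (I : Ideal A)

lemma sum_smul_secOf (r : ℕ) (f : Fin r → A) (c : ℕ)
    (φ : Fin r → (↥(I ^ (c + 1)) →ₗ[A] A))
    (hφ : ∀ x : ↥(I ^ (c + 1)), (x : A) = ∑ j, f j * φ j x) :
    ∑ j, f j • secOf A I c (φ j) = (1 : Sec A A (LocCoh.puncturedOpen A I)) := by
  apply Subtype.ext
  funext x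
  have h1 : (∑ j, f j • secOf A I c (φ j)).1 x = ∑ j, f j • (secOf A I c (φ j)).1 x := by
    have : ∀ (s : Finset (Fin r)),
        (∑ j ∈ s, f j • secOf A I c (φ j)).1 x = ∑ j ∈ s, f j • (secOf A I c (φ j)).1 x := by
      intro s
      induction s using Finset.induction_on with
      | empty => rfl
      | insert a s ha ih =>
        rw [Finset.sum_insert ha, Finset.sum_insert ha, ← ih]
        rfl
    exact this Finset.univ
  rw [h1]
  have h3 : ∑ j, f j • (secOf A I c (φ j)).1 x =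
      ∑ j, f j • LocalizedModule.mk (φ j ⟨den A I c x, den_mem A I c x⟩)
        (⟨den A I c x, den_notMem A I c x⟩ :
          (@Ideal.primeCompl A _ (x.1 : PrimeSpectrum A).asIdeal (x.1 : PrimeSpectrum A).isPrime)) := rfl
  rw [h3, sum_smul_mk]
  have h2 := hφ ⟨den A I c x, den_mem A I c x⟩
  simp only [smul_eq_mul]
  rw [← h2]
  have h5 : (1 : Sec A A (LocCoh.puncturedOpen A I)).1 x =
      LocalizedModule.mk (1 : A) (1 : (@Ideal.primeCompl A _ (x.1 : PrimeSpectrum A).asIdeal
        (x.1 : PrimeSpectrum A).isPrime)) := by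
    show (1 : LocalizedModule (@Ideal.primeCompl A _ (x.1 : PrimeSpectrum A).asIdeal
        (x.1 : PrimeSpectrum A).isPrime) A) = _
    exact OreLocalization.one_def
  rw [h5, LocalizedModule.mk_eq]
  exact ⟨1, by simp [Submonoid.smul_def]⟩

theorem isAffineOpen_of_maps (r : ℕ) (f : Fin r → A) (hf : ∀ j, f j ∈ I) (c : ℕ)
    (φ : Fin r → (↥(I ^ (c + 1)) →ₗ[A] A))
    (hφ : ∀ x : ↥(I ^ (c + 1)), (x : A) = ∑ j, f j * φ j x) :
    IsAffineOpen (LocCoh.puncturedOpen A I) := by
  let X := Spec (CommRingCat.of A)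
  let U : X.Opens := LocCoh.puncturedOpen A I
  let ρ : A → Γ(X, U) := fun a =>
    X.presheaf.map (homOfLE (le_top : U ≤ ⊤)).op ((Scheme.ΓSpecIso (CommRingCat.of A)).inv a)
  have hρ : ∀ a : A, ρ a = algebraMap A (Sec A A (LocCoh.puncturedOpen A I)) a := fun a => rfl
  apply isAffineOpen_of_isAffineOpen_basicOpen U (Set.range (fun j => ρ (f j)))
  · rw [Ideal.eq_top_iff_one]
    let t : Fin r → Γ(X, U) := fun j => secOf A I c (φ j)
    have h1 : (1 : Γ(X, U)) = ∑ j, ρ (f j) * t j := by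
      have h2 := sum_smul_secOf A I r f c φ hφ
      have h3 : ∑ j, ρ (f j) * t j =
          ∑ j, f j • secOf A I c (φ j) := by
        apply Finset.sum_congr rfl
        intro j _
        rw [hρ, Algebra.smul_def]
        rfl
      rw [h3, h2]
      rfl
    rw [h1]
    exact Ideal.sum_mem _ (fun j _ => Ideal.mul_mem_right _ _ (Ideal.subset_span ⟨j, rfl⟩))
  · rintro _ ⟨j, rfl⟩
    show IsAffineOpen (X.basicOpen (ρ (f j)))
    have h1 : X.basicOpen (ρ (f j)) =
        X.basicOpen ((Scheme.ΓSpecIso (CommRingCat.of A)).inv (f j)) := by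
      show X.basicOpen (X.presheaf.map (homOfLE (le_top : U ≤ ⊤)).op
        ((Scheme.ΓSpecIso (CommRingCat.of A)).inv (f j))) = _
      rw [Scheme.basicOpen_res]
      apply inf_eq_right.2
      rw [basicOpen_eq_of_affine]
      intro p hp
      intro hpI
      exact hp (((PrimeSpectrum.mem_zeroLocus _ _).1 hpI) (hf j))
    rw [h1]
    exact (isAffineOpen_top X).basicOpen _

theorem nonempty_of_not_cdLE_zero [IsNoetherianRing A] (h0 : ¬ LocCoh.CdLE A I 0) :
    Nonempty (↑(LocCoh.puncturedOpen A I) : Scheme.{u}) := by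
  by_contra hne
  apply h0
  have hI : I ≤ nilradical A := by
    rw [nilradical_eq_sInf]
    apply le_sInf
    intro p hp
    by_contra hIp
    apply hne
    have hp' : p.IsPrime := hp
    refine ⟨⟨⟨p, hp'⟩, ?_⟩⟩
    intro hmem
    exact hIp ((PrimeSpectrum.mem_zeroLocus _ _).1 hmem)
  obtain ⟨n, hn⟩ := IsNoetherianRing.isNilpotent_nilradical A
  have hIn : I ^ n = ⊥ := by
    rw [eq_bot_iff, ← Ideal.zero_eq_bot, ← hn]
    exact Ideal.pow_right_mono hI n
  intro M _ _ i hi
  apply Groth.Agent.Lib.helper19.LCZero.H_subsingleton_of_torsion I M _ i hi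
  intro x
  refine ⟨n, fun a ha => ?_⟩
  rw [hIn] at ha
  rw [(Submodule.mem_bot A).1 ha, zero_smul]

theorem main [IsNoetherianRing A] (h1 : LocCoh.CdLE A I 1) (h0 : ¬ LocCoh.CdLE A I 0) :
    Nonempty (↑(LocCoh.puncturedOpen A I) : Scheme.{u}) ∧
      IsAffine (↑(LocCoh.puncturedOpen A I) : Scheme.{u}) := by
  refine ⟨nonempty_of_not_cdLE_zero A I h0, ?_⟩
  obtain ⟨r, f, hf⟩ := Submodule.fg_iff_exists_fin_generating_family.1
    (IsNoetherian.noetherian I)
  have hf' : Ideal.span (Set.range f) = I := hf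
  subst hf'
  obtain ⟨c, φ, hφ⟩ := Groth.Agent.Lib.helper2.DTExact.exists_maps_of_cd_le_one r f
    (fun M => h1 M 2 (by norm_num))
  exact isAffineOpen_of_maps A _ r f (fun j => Ideal.subset_span ⟨j, rfl⟩) c φ hφ

end Main

end Groth.Agent.Lib.helper2.PuncAff
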