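import Mathlib
import Groth.Agent.Lib.Helper2.Hartogs3
import Groth.Agent.Lib.Helper2.ZPt6

set_option autoImplicit false
universe u
open CategoryTheory CategoryTheory.Limits AlgebraicGeometry TopologicalSpace
open LocCoh ZClos

namespace Groth.Agent.Lib.helper2.PushUnique

variable {X : Scheme.{u}}

/-- `j_*(F|_U)` is `(X ∖ U)`-closed. -/
theorem isZClosed_resPush (U : X.Opens) (F : X.Modules) :
    IsZClosed ((U : Set X)ᶜ) ((resPush U).obj F) := by
  apply ZClosLib.isZClosed_of_isIso_toDiagram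
  intro T
  have hle : U ≤ T.U := by
    intro x hx hxT
    exact T.2 hxT hx
  exact isIso_unit_resPush hle F

theorem depth_resPush_ge_two [IsLocallyNoetherian X] (U : X.Opens) (F : X.Modules)
    (hF' : Coh.IsCoh ((resPush U).obj F)) (x : X) (hx : x ∉ U) :
    (2 : ℕ∞) ≤ LocCoh.depth (X.presheaf.stalk x) (((resPush U).obj F).presheaf.stalk x) := by
  have hZ : StableUnderSpecialization ((U : Set X)ᶜ) :=
    (U.2.isClosed_compl).stableUnderSpecialization
  exact ZPt.depth_ge_two_of_isZClosedAt ((resPush U).obj F) _ hZ hF' x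
    (ZPt.isZClosedAt_of_isZClosed _ _ (isZClosed_resPush U F) x) x specializes_rfl hx

theorem unique_iso [IsLocallyNoetherian X] (U : X.Opens) (F G : X.Modules) (hG : Coh.IsCoh G)
    (φ : F ⟶ G) (hφ : IsIso ((Scheme.Modules.restrictFunctor U.ι).map φ))
    (hdepth : ∀ x : X, x ∉ U →
      (2 : ℕ∞) ≤ LocCoh.depth (X.presheaf.stalk x) (G.presheaf.stalk x)) :
    (∃! ψ : G ⟶ (resPush U).obj F, φ ≫ ψ = (resPushUnit U).app F) ∧
      ∀ ψ : G ⟶ (resPush U).obj F, φ ≫ ψ = (resPushUnit U).app F → IsIso ψ := by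
  haveI hu : IsIso ((resPushUnit U).app G) := Hartogs.isIso_resPushUnit_of_depth G hG U hdepth
  set adj := Scheme.Modules.restrictAdjunction U.ι with hadj
  set ψ₀ : G ⟶ (resPush U).obj F :=
    (resPushUnit U).app G ≫ (Scheme.Modules.pushforward U.ι).map
      (inv ((Scheme.Modules.restrictFunctor U.ι).map φ)) with hψ₀
  have hψ₀iso : IsIso ψ₀ := by rw [hψ₀]; infer_instance
  have hfac : φ ≫ ψ₀ = (resPushUnit U).app F := by
    rw [hψ₀, ← Category.assoc]
    have := (resPushUnit U).naturality φ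
    simp only [Functor.id_map] at this
    rw [this, Category.assoc]
    show _ ≫ (Scheme.Modules.pushforward U.ι).map ((Scheme.Modules.restrictFunctor U.ι).map φ) ≫ _ = _
    rw [← Functor.map_comp, IsIso.hom_inv_id, CategoryTheory.Functor.map_id, Category.comp_id]
  have huniq : ∀ ψ : G ⟶ (resPush U).obj F, φ ≫ ψ = (resPushUnit U).app F → ψ = ψ₀ := by
    intro ψ hψ
    have h1 : (adj.homEquiv _ _).symm (φ ≫ ψ) = 𝟙 _ := by
      rw [hψ]
      apply (adj.homEquiv _ _).injective
      rw [Equiv.apply_symm_apply, Adjunction.homEquiv_unit, CategoryTheory.Functor.map_id]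
      exact (Category.comp_id _).symm
    rw [Adjunction.homEquiv_naturality_left_symm] at h1
    have h2 : (adj.homEquiv _ _).symm ψ = inv ((Scheme.Modules.restrictFunctor U.ι).map φ) := by
      rw [← cancel_epi ((Scheme.Modules.restrictFunctor U.ι).map φ), h1, IsIso.hom_inv_id]
    have h3 : ψ = adj.homEquiv _ _ (inv ((Scheme.Modules.restrictFunctor U.ι).map φ)) := by
      rw [← h2, Equiv.apply_symm_apply]
    rw [h3, Adjunction.homEquiv_unit]
  refine ⟨⟨ψ₀, hfac, huniq⟩, ?_⟩
  intro ψ hψ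
  rw [huniq ψ hψ]
  exact hψ₀iso

end Groth.Agent.Lib.helper2.PushUnique
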