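import Groth.Agent.Lib.Helper2.SigmaFin
import Groth.Prelude.Def_SGA1
import Mathlib

universe u w
open CategoryTheory AlgebraicGeometry Opposite Limits

namespace Groth.Agent.Lib.helper2.QuotLib

theorem univSubmersive_of_finite_surjective {X Y : Scheme.{u}} (f : X ⟶ Y) [IsFinite f]
    [Surjective f] : SGA1.UnivSubmersive f := by
  intro X' Y' i₁ i₂ f' h
  haveI : IsFinite f' := MorphismProperty.of_isPullback h.flip ‹IsFinite f›
  haveI : Surjective f' := MorphismProperty.of_isPullback h.flip ‹Surjective f›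
  exact f'.isClosedMap.isQuotientMap f'.continuous f'.surjective

theorem result_13739' {X S Y : Scheme.{u}} (q : X ⟶ S) [IsFinite q] {G : Type u} [Group G] [Finite G]
    (ρ : G →* Aut X)
    (htrans : ∀ (Ω : Type u) [Field Ω] [IsAlgClosed Ω] (τ₁ τ₂ : Spec (CommRingCat.of Ω) ⟶ X),
      τ₁ ≫ q = τ₂ ≫ q → ∃ g : G, τ₁ ≫ (ρ g).hom = τ₂)
    (r : Y ⟶ X) (qY : Y ⟶ S) (hqY : r ≫ q = qY) (υ : (∐ fun _ : G => Y) ⟶ pullback qY q)
    (hυ₁ : ∀ σ : G, Sigma.ι (fun _ : G => Y) σ ≫ υ ≫ pullback.fst qY q = 𝟙 Y)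
    (hυ₂ : ∀ σ : G, Sigma.ι (fun _ : G => Y) σ ≫ υ ≫ pullback.snd qY q = r ≫ (ρ σ).hom) :
    IsFinite υ ∧ Surjective υ := by
  subst hqY
  exact result_13739 q ρ htrans r υ hυ₁ hυ₂

theorem result_13740 {X S : Scheme.{u}} (q : X ⟶ S) [IsFinite q] [Surjective q] {G : Type u}
    [Group G] [Finite G] (ρ : G →* Aut X) (hρ : ∀ g : G, (ρ g).hom ≫ q = q)
    (htrans : ∀ (Ω : Type u) [Field Ω] [IsAlgClosed Ω] (τ₁ τ₂ : Spec (CommRingCat.of Ω) ⟶ X),
      τ₁ ≫ q = τ₂ ≫ q → ∃ g : G, τ₁ ≫ (ρ g).hom = τ₂)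
    (F : Scheme.{u}ᵒᵖ ⥤ Type w)
    (hF : ∀ ⦃T : Scheme.{u}⦄ (E : PreZeroHypercover.{u} T), Finite E.I₀ →
      (∀ i, LocallyOfFiniteType (E.f i)) → (∀ i, QuasiCompact (E.f i)) →
      (∀ i, LocallyQuasiFinite (E.f i)) → SGA1.UnivSubmersive (Sigma.desc E.f) →
      Presieve.IsSheafFor F E.presieve₀) :
    Function.Injective (F.map q.op) ∧
      Set.range (F.map q.op) = {f : F.obj (Opposite.op X) | ∀ g : G, F.map (ρ g).hom.op f = f} := by
  -- first cover
  let E₁ : PreZeroHypercover.{u} S := PreZeroHypercover.singleton q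
  have hE₁ : Presieve.IsSheafFor F E₁.presieve₀ := by
    apply hF E₁
    · exact inferInstanceAs (Finite PUnit)
    · intro i; exact inferInstanceAs (LocallyOfFiniteType q)
    · intro i; exact inferInstanceAs (QuasiCompact q)
    · intro i; exact inferInstanceAs (LocallyQuasiFinite q)
    · haveI : IsFinite (Sigma.desc E₁.f) := isFinite_sigmaDesc _ _ _ (fun i => inferInstanceAs (IsFinite q))
      haveI : Surjective (Sigma.desc E₁.f) := by
        apply Surjective.sigmaDesc_of_union_range_eq_univ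
        rw [Set.eq_univ_iff_forall]
        intro s
        obtain ⟨x, hx⟩ := ‹Surjective q›.surj s
        exact Set.mem_iUnion.2 ⟨PUnit.unit, x, hx⟩
      exact univSubmersive_of_finite_surjective _
  -- second cover
  let e : G → (X ⟶ pullback q q) := fun σ =>
    pullback.lift (𝟙 X) (ρ σ).hom (by rw [Category.id_comp, hρ σ])
  let E₂ : PreZeroHypercover.{u} (pullback q q) := ⟨G, fun _ => X, e⟩
  have hfin := result_13739' q ρ htrans (𝟙 X) q (Category.id_comp q) (Sigma.desc e)
    (fun σ => by simp only [Sigma.ι_desc_assoc, e, pullback.lift_fst])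
    (fun σ => by simp only [Sigma.ι_desc_assoc, e, pullback.lift_snd, Category.id_comp])
  have hefin : ∀ σ, IsFinite (e σ) := by
    intro σ
    haveI : IsFinite (e σ ≫ pullback.fst q q) := by
      simp only [e, pullback.lift_fst]
      infer_instance
    exact IsFinite.of_comp _ (pullback.fst q q)
  have hE₂ : Presieve.IsSheafFor F E₂.presieve₀ := by
    apply hF E₂
    · exact inferInstanceAs (Finite G)
    · intro i; haveI := hefin i; exact inferInstanceAs (LocallyOfFiniteType (e i))
    · intro i; haveI := hefin i; exact inferInstanceAs (QuasiCompact (e i))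
    · intro i; haveI := hefin i; exact inferInstanceAs (LocallyQuasiFinite (e i))
    · haveI := hfin.1
      haveI := hfin.2
      exact univSubmersive_of_finite_surjective _
  have hsep₂ := hE₂.isSeparatedFor
  have hsep₁ := hE₁.isSeparatedFor
  constructor
  · intro a b hab
    apply hsep₁.ext
    rintro Y f ⟨i⟩
    exact hab
  · ext f
    simp only [Set.mem_range, Set.mem_setOf_eq]
    constructor
    · rintro ⟨s, rfl⟩ g
      rw [← FunctorToTypes.map_comp_apply, ← op_comp, hρ g]
    · intro hf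
      have hcomp : F.map (pullback.fst q q).op f = F.map (pullback.snd q q).op f := by
        apply hsep₂.ext
        rintro Y m ⟨σ⟩
        change F.map (e σ).op _ = F.map (e σ).op _
        rw [← FunctorToTypes.map_comp_apply, ← FunctorToTypes.map_comp_apply, ← op_comp, ← op_comp]
        simp only [e, pullback.lift_fst, pullback.lift_snd]
        rw [hf σ]
        simp
      rw [Presieve.isSheafFor_arrows_iff_pullbacks] at hE₁
      obtain ⟨t, ht, -⟩ := hE₁ (fun _ => f) (fun i j => hcomp)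
      exact ⟨t, ht PUnit.unit⟩

end Groth.Agent.Lib.helper2.QuotLib
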