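import Groth.Agent.Lib.Helper2.QuotRes
import Groth.Agent.Lib.Helper2.FieldInsep

universe u
open CategoryTheory AlgebraicGeometry Opposite Limits

namespace Groth.Agent.Lib.helper2.QuotLib

/-- compatibility of the induced maps on residue fields for equivariant morphisms at a fixed
point -/
theorem residueFieldMap_equivariant {X Y : Scheme.{u}} (f : X ⟶ Y) (u : X ⟶ X) (v : Y ⟶ Y)
    (comm : u ≫ f = f ≫ v) (x : X) (e : u.base x = x) (e' : v.base (f.base x) = f.base x) :
    (Y.residueFieldCongr e').inv ≫ v.residueFieldMap (f.base x) ≫ f.residueFieldMap x =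
      f.residueFieldMap x ≫ (X.residueFieldCongr e).inv ≫ u.residueFieldMap x := by
  have h1 := Scheme.Hom.residueFieldMap_congr comm x
  rw [Scheme.residueFieldMap_comp, Scheme.residueFieldMap_comp] at h1
  have h2 := Scheme.Hom.residueFieldMap_congr' (f := f) e
  have h3 : f.residueFieldMap (u.base x) =
      (Y.residueFieldCongr (congrArg f.base e)).hom ≫ f.residueFieldMap x ≫
        (X.residueFieldCongr e).inv := by
    rw [← Category.assoc, ← h2, Category.assoc, Iso.hom_inv_id, Category.comp_id]
  rw [h3] at h1
  simp only [Category.assoc] at h1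
  have h4 := congrArg (fun t => (Y.residueFieldCongr (congrArg f.base e)).inv ≫ t) h1
  simp only [Iso.inv_hom_id_assoc] at h4
  rw [h4]
  simp only [Scheme.residueFieldCongr, eqToIso.hom, eqToIso.inv]
  erw [eqToHom_trans_assoc]
  rfl

end Groth.Agent.Lib.helper2.QuotLib

namespace Groth.Agent.Lib.helper2.QuotLib

theorem residueFieldMap_surjective_of_isPreimmersion {W X : Scheme.{u}} (j : W ⟶ X)
    [IsPreimmersion j] (w : W) : Function.Surjective (j.residueFieldMap w).hom := by
  intro z
  obtain ⟨t, rfl⟩ := W.residue_surjective w z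
  obtain ⟨s, rfl⟩ := j.stalkMap_surjective w t
  refine ⟨X.residue (j.base w) s, ?_⟩
  have := Scheme.residue_residueFieldMap j w
  exact congr($this s)

variable {X XG W WG : Scheme.{u}} {G : Type u} [Group G] [Finite G] {ρ : G →* Aut X}
  {p : X ⟶ XG}

theorem result_13082 (hP : SGA1.IsQuot ρ p) (j : W ⟶ X) [IsImmersion j] (ρW : G →* Aut W)
    (hρW : ∀ g, (ρW g).hom ≫ j = j ≫ (ρ g).hom) (pW : W ⟶ WG) (hPW : SGA1.IsQuot ρW pW)
    (φ : WG ⟶ XG) (hφ : pW ≫ φ = j ≫ p) :
    UniversallyInjective φ ∧ Set.range φ.base = p.base '' Set.range j.base := by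
  have hpt : ∀ w : W, φ.base (pW.base w) = p.base (j.base w) := fun w => congr($(hφ).base w)
  have hjinj : Function.Injective j.base := j.isEmbedding.injective
  have hstab : ∀ (g : G) (w : W), (ρ g).hom.base (j.base w) = j.base w → (ρW g).hom.base w = w := by
    intro g w e
    apply hjinj
    have := congr($(hρW g).base w)
    exact this.trans e
  constructor
  · have hiff : UniversallyInjective φ ↔ Function.Injective φ.base ∧
        ∀ x, (φ.residueFieldMap x).hom.IsPurelyInseparable := (tfae_universallyInjective φ).out 0 2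
    rw [hiff]
    constructor
    · intro w₁ w₂ h
      obtain ⟨v₁, rfl⟩ := surjective_of_isQuot hPW w₁
      obtain ⟨v₂, rfl⟩ := surjective_of_isQuot hPW w₂
      rw [hpt, hpt] at h
      obtain ⟨g, hg⟩ := (fibre_iff_of_isQuot hP _ _).1 h
      have h2 : (ρW g).hom.base v₁ = v₂ := by
        apply hjinj
        have := congr($(hρW g).base v₁)
        exact this.trans hg
      rw [← h2]
      exact (congr($(hPW.inv g).base v₁)).symm
    · intro wbar
      obtain ⟨w, rfl⟩ := surjective_of_isQuot hPW wbar
      have rm := residue_main hP (j.base w)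
      refine QuotRing.isPurelyInseparable_of_fixed (φ.residueFieldMap (pW.base w)).hom
        (pW.residueFieldMap w).hom (j.residueFieldMap w).hom (p.residueFieldMap (j.base w)).hom
        (XG.residueFieldCongr (hpt w)).commRingCatIsoToRingEquiv ?_ rm.1 ?_
        (residueFieldMap_surjective_of_isPreimmersion j w)
      · intro z
        have h1 := Scheme.Hom.residueFieldMap_congr hφ w
        rw [Scheme.residueFieldMap_comp, Scheme.residueFieldMap_comp] at h1
        exact congr($h1 z)
      · intro τ hτ f
        obtain ⟨l, hl⟩ := residueFieldMap_surjective_of_isPreimmersion j w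
          ((pW.residueFieldMap w).hom f)
        refine ⟨l, hl, ?_⟩
        obtain ⟨g, e, hg⟩ := rm.2 τ.toCommRingCatIso (by
          ext z
          exact hτ z)
        have ew := hstab g w e
        apply (j.residueFieldMap w).hom.injective
        have c1 := residueFieldMap_equivariant j (ρW g).hom (ρ g).hom (hρW g) w ew e
        have c2 := residueFieldMap_equivariant pW (ρW g).hom (𝟙 WG)
          ((hPW.inv g).trans (Category.comp_id _).symm) w ew rfl
        have h3 : τ l = ((X.residueFieldCongr e).inv ≫ (ρ g).hom.residueFieldMap (j.base w)).hom l :=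
          congr($hg l)
        rw [h3]
        have h4 := congr($c1 l)
        simp only [CommRingCat.comp_apply] at h4 ⊢
        rw [h4, hl]
        have h5 := congr($c2 f)
        simp only [CommRingCat.comp_apply] at h5
        rw [← h5]
        simp
        rfl
  · ext z
    constructor
    · rintro ⟨wbar, rfl⟩
      obtain ⟨w, rfl⟩ := surjective_of_isQuot hPW wbar
      exact ⟨j.base w, ⟨w, rfl⟩, (hpt w).symm⟩
    · rintro ⟨_, ⟨w, rfl⟩, rfl⟩
      exact ⟨pW.base w, hpt w⟩

end Groth.Agent.Lib.helper2.QuotLib
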