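import Groth.Agent.Lib.Helper2.QuotAff

universe u
open CategoryTheory AlgebraicGeometry Opposite Limits

namespace Groth.Agent.Lib.helper2.QuotLib

variable {X Y Z : Scheme.{u}} {G : Type u} [Group G] [Finite G] {ρ : G →* Aut X} {p : X ⟶ Y}

theorem isAffineHom_iff_of_isQuot (hp : SGA1.IsQuot ρ p) (q : Y ⟶ Z) :
    IsAffineHom (p ≫ q) ↔ IsAffineHom q := by
  haveI := hp.affine
  constructor
  · intro hf
    refine ⟨fun T hT => ?_⟩
    exact isAffineOpen_of_preimage hp (q ⁻¹ᵁ T) (hT.preimage (p ≫ q))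
  · intro hq
    infer_instance

theorem isSeparated_iff_of_isQuot (hp : SGA1.IsQuot ρ p) (q : Y ⟶ Z) :
    IsSeparated (p ≫ q) ↔ IsSeparated q := by
  haveI := hp.affine
  constructor
  · intro hf
    haveI : IsIntegralHom p := Groth.Agent.S13596.result ρ p hp
    let π := pullback.map (p ≫ q) (p ≫ q) q q p p (𝟙 Z) ((Category.comp_id _).trans rfl)
      ((Category.comp_id _).trans rfl)
    have hπ : IsIntegralHom π :=
      MorphismProperty.pullbackMap (P := @IsIntegralHom) (f := p ≫ q) (g := p ≫ q) (f' := q)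
        (g' := q) (i₁ := p) (i₂ := p) inferInstance inferInstance rfl rfl
    have hcomm : pullback.diagonal (p ≫ q) ≫ π = p ≫ pullback.diagonal q := by
      apply pullback.hom_ext
      · simp only [π, Category.assoc, pullback.lift_fst, pullback.diagonal_fst]
        rw [← Category.assoc, pullback.diagonal_fst, Category.id_comp, Category.comp_id]
      · simp only [π, Category.assoc, pullback.lift_snd, pullback.diagonal_snd]
        rw [← Category.assoc, pullback.diagonal_snd, Category.id_comp, Category.comp_id]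
    have hrange : Set.range (pullback.diagonal q).base =
        π.base '' Set.range (pullback.diagonal (p ≫ q)).base := by
      ext z
      constructor
      · rintro ⟨y, rfl⟩
        obtain ⟨x, rfl⟩ := surjective_of_isQuot hp y
        refine ⟨_, ⟨x, rfl⟩, ?_⟩
        exact congr($(hcomm).base x)
      · rintro ⟨_, ⟨x, rfl⟩, rfl⟩
        exact ⟨p.base x, congr($(hcomm).base x).symm⟩
    have hcl : IsClosed (Set.range (pullback.diagonal q).base) := by
      rw [hrange]
      exact π.isClosedMap _ (pullback.diagonal (p ≫ q)).isClosedEmbedding.isClosed_range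
    exact ⟨IsClosedImmersion.of_isPreimmersion _ hcl⟩
  · intro hq
    infer_instance

theorem isFinite_of_isQuot (hp : SGA1.IsQuot ρ p) (q : Y ⟶ Z) [LocallyOfFiniteType (p ≫ q)] :
    IsFinite p := by
  haveI : IsIntegralHom p := Groth.Agent.S13596.result ρ p hp
  haveI : LocallyOfFiniteType p := locallyOfFiniteType_of_comp p q
  exact (IsFinite.iff_isIntegralHom_and_locallyOfFiniteType p).2 ⟨inferInstance, inferInstance⟩

theorem quasiCompact_of_isQuot (hp : SGA1.IsQuot ρ p) (q : Y ⟶ Z) [QuasiCompact (p ≫ q)] :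
    QuasiCompact q := by
  rw [quasiCompact_iff_forall_isAffineOpen]
  intro T hT
  have h1 : IsCompact (((p ≫ q) ⁻¹ᵁ T : X.Opens) : Set X) :=
    (quasiCompact_iff_forall_isAffineOpen.1 inferInstance) T hT
  have h2 : ((q ⁻¹ᵁ T : Y.Opens) : Set Y) = p.base '' (((p ≫ q) ⁻¹ᵁ T : X.Opens) : Set X) := by
    ext y
    constructor
    · intro hy
      obtain ⟨x, rfl⟩ := surjective_of_isQuot hp y
      exact ⟨x, hy, rfl⟩
    · rintro ⟨x, hx, rfl⟩
      exact hx
  rw [h2]
  exact h1.image p.continuous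

end Groth.Agent.Lib.helper2.QuotLib

namespace Groth.Agent.Lib.helper2.QuotLib

variable {X Y Z : Scheme.{u}} {G : Type u} [Group G] [Finite G] {ρ : G →* Aut X} {p : X ⟶ Y}

theorem locallyOfFiniteType_of_isQuot (hp : SGA1.IsQuot ρ p) (q : Y ⟶ Z) [IsLocallyNoetherian Z]
    [LocallyOfFiniteType (p ≫ q)] : LocallyOfFiniteType q := by
  haveI := hp.affine
  rw [HasRingHomProperty.iff_appLE (P := @LocallyOfFiniteType)]
  intro T U e
  have hV : IsAffineOpen (p ⁻¹ᵁ U.1) := U.2.preimage p
  have e' : p ⁻¹ᵁ U.1 ≤ (p ≫ q) ⁻¹ᵁ T.1 := fun x hx => e hx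
  have h1 := HasRingHomProperty.appLE (P := @LocallyOfFiniteType) (p ≫ q) inferInstance T
    ⟨_, hV⟩ e'
  have h2 := Scheme.Hom.appLE_comp_appLE p q T.1 U.1 (p ⁻¹ᵁ U.1) e le_rfl
  rw [Scheme.Hom.appLE_eq_app] at h2
  haveI : IsNoetherianRing Γ(Z, T.1) := IsLocallyNoetherian.component_noetherian T
  have hd := data_of_isQuot hp U.1
  refine QuotRing.finiteType_of_comp_of_isIntegral (q.appLE T.1 U.1 e).hom (p.app U.1).hom
    hd.inj hd.isIntegral ?_
  have h3 : (p.app U.1).hom.comp (q.appLE T.1 U.1 e).hom =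
      ((p ≫ q).appLE T.1 (p ⁻¹ᵁ U.1) e').hom := by
    rw [← h2]; rfl
  rw [h3]
  exact h1

theorem result_2909 (hp : SGA1.IsQuot ρ p) (f : X ⟶ Z) (q : Y ⟶ Z) (hq : p ≫ q = f) :
    (IsAffineHom f ↔ IsAffineHom q) ∧ (IsSeparated f ↔ IsSeparated q) ∧
    (LocallyOfFiniteType f → IsFinite p) ∧
    (IsLocallyNoetherian Z → LocallyOfFiniteType f → QuasiCompact f →
      LocallyOfFiniteType q ∧ QuasiCompact q) := by
  subst hq
  refine ⟨isAffineHom_iff_of_isQuot hp q, isSeparated_iff_of_isQuot hp q, fun h => ?_,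
    fun h1 h2 h3 => ⟨?_, ?_⟩⟩
  · exact isFinite_of_isQuot hp q
  · exact locallyOfFiniteType_of_isQuot hp q
  · exact quasiCompact_of_isQuot hp q

end Groth.Agent.Lib.helper2.QuotLib
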