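import Mathlib

universe u
open CategoryTheory AlgebraicGeometry Opposite Limits

namespace Groth.Agent.Lib.helper2.QuotLib

/-- Rigidity: two `Y`-morphisms `T ⟶ X` to a separated unramified `Y`-scheme that agree on a
nonempty test scheme agree, provided `T` is connected. -/
theorem rigidity {T X Y S : Scheme.{u}} (p : X ⟶ Y) [IsSeparated p] [FormallyUnramified p]
    [LocallyOfFiniteType p] [PreconnectedSpace T] (a b : T ⟶ X) (hab : a ≫ p = b ≫ p)
    (ξ : S ⟶ T) [Nonempty S] (hξ : ξ ≫ a = ξ ≫ b) : a = b := by
  let ab : T ⟶ pullback p p := pullback.lift a b hab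
  let E := pullback (pullback.diagonal p) ab
  let i : E ⟶ T := pullback.snd (pullback.diagonal p) ab
  haveI : IsOpenImmersion i := inferInstance
  haveI : IsClosedImmersion i := inferInstance
  have hclopen : IsClopen (Set.range i.base) :=
    ⟨i.isClosedEmbedding.isClosed_range, i.isOpenEmbedding.isOpen_range⟩
  have hne : (Set.range i.base).Nonempty := by
    let ζ : S ⟶ E := pullback.lift (ξ ≫ a) ξ (by
      apply pullback.hom_ext
      · simp only [ab, Category.assoc, pullback.diagonal_fst, pullback.lift_fst, Category.comp_id]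
      · simp only [ab, Category.assoc, pullback.diagonal_snd, pullback.lift_snd, Category.comp_id,
          hξ])
    obtain ⟨s⟩ := ‹Nonempty S›
    refine ⟨ξ.base s, ζ.base s, ?_⟩
    have : ζ ≫ i = ξ := pullback.lift_snd _ _ _
    exact congr($(this).base s)
  have huniv := hclopen.eq_univ hne
  haveI : Epi i.base := by
    rw [TopCat.epi_iff_surjective]
    exact Set.range_eq_univ.1 huniv
  haveI : IsIso i := IsOpenImmersion.isIso i
  rw [← cancel_epi i]
  have h1 : i ≫ ab = pullback.fst (pullback.diagonal p) ab ≫ pullback.diagonal p :=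
    pullback.condition.symm
  have h2 := congr($h1 ≫ pullback.fst p p)
  have h3 := congr($h1 ≫ pullback.snd p p)
  simp only [ab, Category.assoc, pullback.lift_fst, pullback.lift_snd, pullback.diagonal_fst,
    pullback.diagonal_snd] at h2 h3
  rw [h2, h3]

end Groth.Agent.Lib.helper2.QuotLib
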