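import Groth.Agent.Lib.Helper2.QuotRes
import Groth.Agent.Lib.Helper2.Rigid

universe u
open CategoryTheory AlgebraicGeometry Opposite Limits

namespace Groth.Agent.Lib.helper2.QuotLib

/-- residue field map of an endomorphism at `x`, with target point normalized to `x'` -/
noncomputable def rf {X : Scheme.{u}} (f : X ⟶ X) (x x' : X) (e : f.base x = x') :
    X.residueField x' ⟶ X.residueField x :=
  (X.residueFieldCongr e).inv ≫ f.residueFieldMap x

theorem rf_comp {X : Scheme.{u}} (f f' : X ⟶ X) (x x' x'' : X) (e : f.base x = x')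
    (e' : f'.base x' = x'') :
    rf (f ≫ f') x x'' (by rw [← e', ← e]; rfl) = rf f' x' x'' e' ≫ rf f x x' e := by
  subst e
  subst e'
  simp only [rf, Scheme.residueFieldCongr_refl, Iso.refl_inv, Category.id_comp]
  exact Scheme.residueFieldMap_comp f f' x

theorem rf_fromSpec {X : Scheme.{u}} (f : X ⟶ X) (x x' : X) (e : f.base x = x') :
    X.fromSpecResidueField x ≫ f = Spec.map (rf f x x' e) ≫ X.fromSpecResidueField x' := by
  subst e
  simp only [rf, Scheme.residueFieldCongr_refl, Iso.refl_inv, Category.id_comp]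
  exact (Scheme.Hom.SpecMap_residueFieldMap_fromSpecResidueField f x).symm

theorem rf_congr {X : Scheme.{u}} (f f' : X ⟶ X) (h : f = f') (x x' : X) (e : f.base x = x')
    (e' : f'.base x = x') : rf f x x' e = rf f' x x' e' := by
  subst h; rfl

theorem rf_over {X Y : Scheme.{u}} (p : X ⟶ Y) (f : X ⟶ X) (hf : f ≫ p = p) (x x' : X)
    (e : f.base x = x') (ep : p.base x' = p.base x) :
    p.residueFieldMap x' ≫ rf f x x' e = (Y.residueFieldCongr ep).hom ≫ p.residueFieldMap x := by
  subst e
  simp only [rf, Scheme.residueFieldCongr_refl, Iso.refl_inv, Category.id_comp]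
  rw [← Scheme.residueFieldMap_comp]
  exact Scheme.Hom.residueFieldMap_congr hf x

instance rf_isIso {X : Scheme.{u}} (f : X ⟶ X) [IsIso f] (x x' : X) (e : f.base x = x') :
    IsIso (rf f x x' e) := by
  unfold rf
  infer_instance

end Groth.Agent.Lib.helper2.QuotLib

namespace Groth.Agent.Lib.helper2.QuotLib

variable {X Y : Scheme.{u}} {G : Type u} [Group G] [Finite G] {ρ : G →* Aut X} {p : X ⟶ Y}

theorem result_2910 (hp : SGA1.IsQuot ρ p) [IsFinite p] [ConnectedSpace X]
    (hfaith : Function.Injective ρ) [Etale p] :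
    (∀ (K : Type u) [Field K] [IsAlgClosed K] (ξ : Spec (CommRingCat.of K) ⟶ X) (g : G),
      ξ ≫ (ρ g).hom = ξ → g = 1) ∧
    ∀ u : Aut X, u.hom ≫ p = p → ∃! g : G, ρ g = u := by
  constructor
  · intro K _ _ ξ g hξ
    have h1 : (ρ g).hom = 𝟙 X := rigidity p (ρ g).hom (𝟙 X)
      ((hp.inv g).trans (Category.id_comp p).symm) ξ (hξ.trans (Category.comp_id ξ).symm)
    apply hfaith
    rw [map_one]
    ext1
    exact h1
  · intro u hu
    obtain ⟨x⟩ : Nonempty X := inferInstance
    have hpx : p.base x = p.base (u.hom.base x) := (congr($(hu).base x)).symm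
    obtain ⟨g, eg⟩ := (fibre_iff_of_isQuot hp x (u.hom.base x)).1 hpx
    let A := rf u.hom x (u.hom.base x) rfl
    let B := rf (ρ g).hom x (u.hom.base x) eg
    haveI : IsIso u.hom := Iso.isIso_hom u
    haveI : IsIso (ρ g).hom := Iso.isIso_hom (ρ g)
    haveI : IsIso A := rf_isIso u.hom x (u.hom.base x) rfl
    haveI : IsIso B := rf_isIso (ρ g).hom x (u.hom.base x) eg
    have hA := rf_over p u.hom hu x (u.hom.base x) rfl hpx.symm
    have hB := rf_over p (ρ g).hom (hp.inv g) x (u.hom.base x) eg hpx.symm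
    let θ : X.residueField x ≅ X.residueField x := (asIso B).symm ≪≫ asIso A
    have hθ : p.residueFieldMap x ≫ θ.hom = p.residueFieldMap x := by
      show p.residueFieldMap x ≫ inv B ≫ A = _
      have h1 : p.residueFieldMap x ≫ inv B =
          (Y.residueFieldCongr hpx.symm).inv ≫ p.residueFieldMap (u.hom.base x) := by
        rw [IsIso.comp_inv_eq, Category.assoc, hB, Iso.inv_hom_id_assoc]
      rw [← Category.assoc, h1, Category.assoc, hA, Iso.inv_hom_id_assoc]
    obtain ⟨h, eh, hh⟩ := (residue_main hp x).2 θ hθ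
    have hC : θ.hom = rf (ρ h).hom x x eh := hh
    have hAB : A = B ≫ rf (ρ h).hom x x eh := by
      rw [← hC]
      show A = B ≫ inv B ≫ A
      rw [IsIso.hom_inv_id_assoc]
    have hcomp := rf_comp (ρ h).hom (ρ g).hom x x (u.hom.base x) eh eg
    have key : u.hom = (ρ h).hom ≫ (ρ g).hom := by
      refine rigidity p u.hom ((ρ h).hom ≫ (ρ g).hom) ?_ (X.fromSpecResidueField x) ?_
      · rw [hu, Category.assoc, hp.inv g, hp.inv h]
      · rw [rf_fromSpec u.hom x (u.hom.base x) rfl,
          rf_fromSpec ((ρ h).hom ≫ (ρ g).hom) x (u.hom.base x) (by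
            show (ρ g).hom.base ((ρ h).hom.base x) = _
            rw [eh, eg]), hcomp, ← hAB]
    refine ⟨g * h, ?_, fun g' hg' => hfaith ?_⟩
    · ext1
      rw [rho_mul_hom]
      exact key.symm
    · rw [hg']
      ext1
      rw [rho_mul_hom]
      exact key

end Groth.Agent.Lib.helper2.QuotLib
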