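import Groth.Agent.Lib.Helper2.QuotCat
import Groth.Agent.S13606

universe u
open CategoryTheory AlgebraicGeometry Opposite Limits

namespace Groth.Agent.Lib.helper2.QuotLib

variable {X Y : Scheme.{u}} {G : Type u} [Group G] {ρ : G →* Aut X} {p : X ⟶ Y}

/-- the restriction of a morphism to a stable open -/
noncomputable def resHom {V : X.Opens} (hV : IsStable ρ V) (g : G) : V.toScheme ⟶ V.toScheme :=
  IsOpenImmersion.lift V.ι (V.ι ≫ (ρ g).hom) (by
    rintro _ ⟨x, rfl⟩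
    rw [Scheme.Opens.range_ι]
    exact hV g x.2)

@[reassoc]
theorem resHom_ι {V : X.Opens} (hV : IsStable ρ V) (g : G) :
    resHom hV g ≫ V.ι = V.ι ≫ (ρ g).hom :=
  IsOpenImmersion.lift_fac _ _ _

theorem resHom_mul {V : X.Opens} (hV : IsStable ρ V) (g h : G) :
    resHom hV (g * h) = resHom hV h ≫ resHom hV g := by
  rw [← cancel_mono V.ι]
  rw [Category.assoc, resHom_ι, resHom_ι, rho_mul_hom, resHom_ι_assoc]

theorem resHom_one {V : X.Opens} (hV : IsStable ρ V) : resHom hV (1 : G) = 𝟙 _ := by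
  rw [← cancel_mono V.ι]
  simp only [resHom_ι, rho_one_hom, Category.comp_id, Category.id_comp]

/-- the restricted action on a stable open -/
noncomputable def resAct {V : X.Opens} (hV : IsStable ρ V) : G →* Aut V.toScheme where
  toFun g :=
    { hom := resHom hV g
      inv := resHom hV g⁻¹
      hom_inv_id := by rw [← resHom_mul, inv_mul_cancel, resHom_one]
      inv_hom_id := by rw [← resHom_mul, mul_inv_cancel, resHom_one] }
  map_one' := by
    ext1
    exact resHom_one hV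
  map_mul' g h := by
    ext1
    exact resHom_mul hV g h

theorem resAct_ι {V : X.Opens} (hV : IsStable ρ V) (g : G) :
    (resAct hV g).hom ≫ V.ι = V.ι ≫ (ρ g).hom := resHom_ι hV g

theorem isQuot_restrict [Finite G] (hp : SGA1.IsQuot ρ p) (U : Y.Opens) :
    SGA1.IsQuot (resAct (isStable_preimage p hp.inv U)) (p ∣_ U) :=
  Groth.Agent.S13606.result ρ p hp U _ (resAct_ι _)

/-- A quotient of an affine scheme is affine. -/
theorem isAffine_of_isQuot [Finite G] (hp : SGA1.IsQuot ρ p) [IsAffine X] : IsAffine Y := by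
  -- `q : X ⟶ Spec Γ(Y, ⊤)` is also a quotient
  let q : X ⟶ Spec Γ(Y, ⊤) := p ≫ Y.toSpecΓ
  have invq : ∀ g : G, (ρ g).hom ≫ q = q := fun g => by
    show (ρ g).hom ≫ p ≫ Y.toSpecΓ = p ≫ Y.toSpecΓ
    rw [← Category.assoc, hp.inv g]
  have hq : SGA1.IsQuot ρ q := by
    refine isQuot_of_affine_cover q invq (fun _ : Unit => (⊤ : (Spec Γ(Y, ⊤)).Opens))
      (fun y => ⟨(), trivial⟩) (fun _ => isAffineOpen_top _) (fun _ => isAffineOpen_top _)
      (fun _ => ?_)
    have hiso : IsIso (Y.toSpecΓ.app ⊤) := by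
      have : Y.toSpecΓ.app ⊤ = (Scheme.ΓSpecIso Γ(Y, ⊤)).hom := Scheme.toSpecΓ_appTop Y
      rw [this]; exact Iso.isIso_hom _
    have hqapp : ∀ t, (q.app ⊤).hom t = (p.app ⊤).hom ((Y.toSpecΓ.app ⊤).hom t) := fun t => rfl
    constructor
    · intro t₁ t₂ h
      rw [hqapp, hqapp] at h
      exact (ConcreteCategory.bijective_of_isIso (Y.toSpecΓ.app ⊤)).1 (hp.injective ⊤ h)
    · intro s hs
      have h1 : s ∈ Set.range (p.app ⊤).hom := (hp.range_iff ⊤ s).2 hs
      obtain ⟨t, rfl⟩ := h1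
      obtain ⟨t', rfl⟩ := (ConcreteCategory.bijective_of_isIso (Y.toSpecΓ.app ⊤)).2 t
      exact ⟨t', rfl⟩
  obtain ⟨k, hk⟩ := exists_factor hq p hp.inv
  have h1 : k ≫ Y.toSpecΓ = 𝟙 _ := by
    apply (SurjInj.of_isQuot hq).eq_of_comp_eq
    rw [← Category.assoc, hk, Category.comp_id]
  have h2 : Y.toSpecΓ ≫ k = 𝟙 _ := by
    apply (SurjInj.of_isQuot hp).eq_of_comp_eq
    rw [← Category.assoc, Category.comp_id]
    exact hk
  exact ⟨⟨k, h2, h1⟩⟩

theorem isAffineOpen_of_preimage [Finite G] (hp : SGA1.IsQuot ρ p) (U : Y.Opens)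
    (hV : IsAffineOpen (p ⁻¹ᵁ U)) : IsAffineOpen U := by
  haveI : IsAffine (p ⁻¹ᵁ U).toScheme := hV
  exact isAffine_of_isQuot (isQuot_restrict hp U)

end Groth.Agent.Lib.helper2.QuotLib
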