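import Groth.Agent.Lib.Helper2.QuotEt1
import Mathlib

universe u
open CategoryTheory AlgebraicGeometry Opposite Limits

namespace Groth.Agent.Lib.helper2.QuotLib

section Idem
variable {X : Scheme.{u}}

theorem exists_idem_of_isClopen {V : X.Opens} (hV : IsAffineOpen V) (E : X.Opens)
    (hE : IsClosed (E : Set X)) :
    ∃ e : Γ(X, V), IsIdempotentElem e ∧ X.basicOpen e = V ⊓ E := by
  have hs : IsClopen (hV.fromSpec.base ⁻¹' (E : Set X)) :=
    ⟨hE.preimage hV.fromSpec.continuous, E.isOpen.preimage hV.fromSpec.continuous⟩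
  obtain ⟨e, he, hse⟩ := PrimeSpectrum.exists_idempotent_basicOpen_eq_of_isClopen hs
  refine ⟨e, he, ?_⟩
  have h1 := hV.fromSpec_preimage_basicOpen e
  apply le_antisymm
  · intro x hx
    have hxV : x ∈ V := X.basicOpen_le e hx
    refine ⟨hxV, ?_⟩
    have hxV' : x ∈ Set.range hV.fromSpec.base := by rw [hV.range_fromSpec]; exact hxV
    obtain ⟨y, rfl⟩ := hxV'
    have h2 : y ∈ hV.fromSpec ⁻¹ᵁ X.basicOpen e := hx
    rw [h1] at h2
    have h3 : y ∈ hV.fromSpec.base ⁻¹' (E : Set X) := by rw [hse]; exact h2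
    exact h3
  · rintro x ⟨hxV, hxE⟩
    have hxV' : x ∈ Set.range hV.fromSpec.base := by rw [hV.range_fromSpec]; exact hxV
    obtain ⟨y, rfl⟩ := hxV'
    have h3 : y ∈ hV.fromSpec.base ⁻¹' (E : Set X) := hxE
    rw [hse] at h3
    have h2 : y ∈ hV.fromSpec ⁻¹ᵁ X.basicOpen e := by rw [h1]; exact h3
    exact h2

/-- a section killed by restriction to `D(e)` is killed by the idempotent `e` -/
theorem idem_mul_eq_zero_of_res {V : X.Opens} (hV : IsAffineOpen V) (e : Γ(X, V))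
    (he : IsIdempotentElem e) (a : Γ(X, V))
    (ha : X.presheaf.map (homOfLE (X.basicOpen_le e)).op a = 0) : e * a = 0 := by
  haveI := hV.isLocalization_basicOpen e
  have h1 : algebraMap Γ(X, V) Γ(X, X.basicOpen e) a = algebraMap Γ(X, V) Γ(X, X.basicOpen e) 0 := by
    rw [map_zero]
    exact ha
  obtain ⟨⟨c, n, rfl⟩, hc⟩ := (IsLocalization.eq_iff_exists (Submonoid.powers e) _).1 h1
  simp only [mul_zero] at hc
  rcases n with _ | n
  · simp only [pow_zero, one_mul] at hc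
    rw [hc, mul_zero]
  · rw [he.pow_succ_eq] at hc
    exact hc

/-- if `W.ι ≫ h = W.ι` then `h` acts as restriction on sections over `W` -/
theorem appLE_eq_res_of_ι_comp (h : X ⟶ X) (W V : X.Opens) (hW : W.ι ≫ h = W.ι) (hWV : W ≤ V)
    (hWh : W ≤ h ⁻¹ᵁ V) : h.appLE V W hWh = X.presheaf.map (homOfLE hWV).op := by
  have h1 := Scheme.Hom.appLE_comp_appLE W.ι h V W ⊤ hWh (by simp)
  have h2 := Scheme.Hom.appLE_comp_appLE W.ι (𝟙 X) V W ⊤ hWV (by simp)
  have h3 := appLE_eq_of_eq' (W.ι ≫ h) (W.ι ≫ 𝟙 X) (by rw [hW, Category.comp_id]) V ⊤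
    (by rw [hW]; intro x _; exact hWV x.2) (by rw [Category.comp_id]; intro x _; exact hWV x.2)
  rw [← h1, ← h2] at h3
  have hiso : IsIso (W.ι.appLE W ⊤ (by simp)) := by
    rw [Scheme.Opens.ι_appLE]
    have hWtop : W.ι ''ᵁ ⊤ = W := by simp
    have h5 : IsIso (homOfLE (show W.ι ''ᵁ ⊤ ≤ W from hWtop.le)) :=
      ⟨⟨homOfLE hWtop.ge, Subsingleton.elim _ _, Subsingleton.elim _ _⟩⟩
    have h6 : IsIso (homOfLE (show W.ι ''ᵁ ⊤ ≤ W from hWtop.le)).op := inferInstance
    exact Functor.map_isIso X.presheaf _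
  rw [cancel_mono] at h3
  rw [h3]
  simp only [Scheme.Hom.appLE, Scheme.Hom.id_app, Category.id_comp]
  rfl

end Idem

end Groth.Agent.Lib.helper2.QuotLib
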