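import Groth.Agent.Lib.Helper2.QuotFree2
import Groth.Agent.Lib.Helper2.QfhInv
import Mathlib

universe u
open CategoryTheory AlgebraicGeometry Opposite Limits

namespace Groth.Agent.Lib.helper2.QuotLib

theorem basicOpen_appLE {X Z : Scheme.{u}} (f : X ⟶ Z) (W : Z.Opens) (V : X.Opens)
    (e : V ≤ f ⁻¹ᵁ W) (d : Γ(Z, W)) :
    X.basicOpen ((f.appLE W V e).hom d) = V ⊓ f ⁻¹ᵁ (Z.basicOpen d) := by
  simp only [Scheme.Hom.appLE, CommRingCat.hom_comp, RingHom.coe_comp, Function.comp_apply]
  rw [Scheme.basicOpen_res, Scheme.preimage_basicOpen]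

theorem flat_evalRingHom {ι : Type u} (R : ι → Type u) [∀ i, CommRing (R i)] (i : ι) :
    (Pi.evalRingHom R i).Flat := by
  have h : Flat (Spec.map (CommRingCat.ofHom (Pi.evalRingHom (R ·) i))) := inferInstance
  rw [HasRingHomProperty.Spec_iff (P := @Flat)] at h
  exact h

theorem finitePresentation_evalRingHom {ι : Type u} (R : ι → Type u) [∀ i, CommRing (R i)]
    (i : ι) : (Pi.evalRingHom R i).FinitePresentation := by
  have h : LocallyOfFinitePresentation (Spec.map (CommRingCat.ofHom (Pi.evalRingHom (R ·) i))) :=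
    inferInstance
  rw [HasRingHomProperty.Spec_iff (P := @LocallyOfFinitePresentation)] at h
  exact h

variable {X Y : Scheme.{u}} {G : Type u} [Group G] [Finite G] {ρ : G →* Aut X} {p : X ⟶ Y}

theorem pi_eq_comp (hp : SGA1.IsQuot ρ p) (U : Y.Opens) (g : G) :
    pi hp U g = (Pi.evalRingHom (fun _ : G => Γ(X, p ⁻¹ᵁ U)) g).comp (Pi.ringHom (pi hp U)) := by
  ext d
  rfl

theorem flat_pi (hp : SGA1.IsQuot ρ p) (hfree : GeomFree ρ) {U : Y.Opens}
    (hU : IsAffineOpen U) (g : G) : (pi hp U g).Flat := by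
  rw [pi_eq_comp]
  refine RingHom.Flat.stableUnderComposition _ _ ?_ (flat_evalRingHom _ g)
  exact RingHom.Flat.of_bijective (bijective_pi hp hfree hU)

theorem finitePresentation_pi (hp : SGA1.IsQuot ρ p) (hfree : GeomFree ρ) {U : Y.Opens}
    (hU : IsAffineOpen U) (g : G) : (pi hp U g).FinitePresentation := by
  rw [pi_eq_comp]
  refine RingHom.finitePresentation_stableUnderComposition _ _ ?_
    (finitePresentation_evalRingHom _ g)
  exact RingHom.FinitePresentation.of_bijective (bijective_pi hp hfree hU)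

theorem mono_gr (hp : SGA1.IsQuot ρ p) (g : G) : Mono (gr hp g) := by
  haveI : Mono (gr hp g ≫ pullback.fst p p) := by
    rw [gr_fst]
    infer_instance
  exact mono_of_mono (gr hp g) (pullback.fst p p)

theorem isOpenImmersion_gr (hp : SGA1.IsQuot ρ p) (hfree : GeomFree ρ) (g : G) :
    IsOpenImmersion (gr hp g) := by
  haveI := hp.affine
  haveI := mono_gr hp g
  haveI : Flat (gr hp g) := by
    rw [HasRingHomProperty.iff_exists_appLE (P := @Flat)
      (RingHom.Flat.stableUnderComposition.stableUnderCompositionWithLocalizationAway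
        RingHom.Flat.holdsForLocalizationAway).left]
    intro x
    obtain ⟨U, hU, hxU⟩ := exists_affine_nhd (p x)
    exact ⟨⟨WW p U, isAffineOpen_WW hU⟩, ⟨p ⁻¹ᵁ U, hU.preimage p⟩, hxU, le_gr_preimage hp g U,
      flat_pi hp hfree hU g⟩
  haveI : LocallyOfFinitePresentation (gr hp g) := by
    rw [HasRingHomProperty.iff_exists_appLE (P := @LocallyOfFinitePresentation)
      (RingHom.finitePresentation_stableUnderComposition.stableUnderCompositionWithLocalizationAway
        RingHom.finitePresentation_holdsForLocalizationAway).left]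
    intro x
    obtain ⟨U, hU, hxU⟩ := exists_affine_nhd (p x)
    exact ⟨⟨WW p U, isAffineOpen_WW hU⟩, ⟨p ⁻¹ᵁ U, hU.preimage p⟩, hxU, le_gr_preimage hp g U,
      finitePresentation_pi hp hfree hU g⟩
  exact IsOpenImmersion.of_flat_of_mono (gr hp g)

theorem disjoint_range_gr (hp : SGA1.IsQuot ρ p) (hfree : GeomFree ρ) (g h : G) (hgh : g ≠ h) :
    Disjoint (Set.range (gr hp g)) (Set.range (gr hp h)) := by
  classical
  rw [Set.disjoint_left]
  rintro z ⟨x, rfl⟩ ⟨x', hx'⟩
  have hxx : x' = x := by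
    have h1 := congrArg (pullback.fst p p) hx'
    rw [← Scheme.Hom.comp_apply, ← Scheme.Hom.comp_apply, gr_fst, gr_fst] at h1
    exact h1
  subst hxx
  obtain ⟨U, hU, hxU⟩ := exists_affine_nhd (p x')
  obtain ⟨d, hd⟩ := (bijective_pi hp hfree hU).2 (fun k => if k = g then 1 else 0)
  have hdg : pi hp U g d = 1 := by
    have := congr_fun hd g
    simpa using this
  have hdh : pi hp U h d = 0 := by
    have := congr_fun hd h
    simpa [Ne.symm hgh] using this
  have hxV : x' ∈ p ⁻¹ᵁ U := hxU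
  have h1 : x' ∈ X.basicOpen (pi hp U g d) := by
    rw [hdg, Scheme.basicOpen_of_isUnit _ isUnit_one]
    exact hxV
  have h2 : x' ∉ X.basicOpen (pi hp U h d) := by
    rw [hdh, Scheme.basicOpen_zero]
    exact fun h => h
  rw [pi, basicOpen_appLE] at h1 h2
  apply h2
  refine ⟨hxV, ?_⟩
  change gr hp h x' ∈ (pullback p p).basicOpen d
  rw [hx']
  exact h1.2

theorem isIso_sigmaDesc_gr (hp : SGA1.IsQuot ρ p) (hfree : GeomFree ρ) [IsFinite p] :
    IsIso (Sigma.desc (fun g : G => gr hp g)) := by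
  rw [isIso_iff_isOpenImmersion_and_surjective]
  constructor
  · haveI : ∀ g, IsOpenImmersion (gr hp g) := fun g => isOpenImmersion_gr hp hfree g
    apply isOpenImmersion_sigmaDesc
    intro g h hgh
    exact disjoint_range_gr hp hfree g h hgh
  · have htrans : ∀ (Ω : Type u) [Field Ω] [IsAlgClosed Ω] (τ₁ τ₂ : Spec (CommRingCat.of Ω) ⟶ X),
        τ₁ ≫ p = τ₂ ≫ p → ∃ g : G, τ₁ ≫ (ρ g).hom = τ₂ := by
      intro Ω _ _ τ₁ τ₂ h
      obtain ⟨g, hg⟩ := exists_comp_eq_of_comp_eq hp Ω τ₁ τ₂ h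
      exact ⟨g, hg.symm⟩
    exact (result_13739' p ρ htrans (𝟙 X) p (Category.id_comp p) (Sigma.desc (fun g : G => gr hp g))
      (fun σ => by simp only [Sigma.ι_desc_assoc, gr_fst])
      (fun σ => by simp only [Sigma.ι_desc_assoc, gr_snd, Category.id_comp])).2

theorem result_2920 (hp : SGA1.IsQuot ρ p) [IsFinite p] (hfree : GeomFree ρ) :
    IsIso (Sigma.desc (fun g : G => pullback.lift (𝟙 X) (ρ g).hom
      ((Category.id_comp p).trans (hp.inv g).symm)) : (∐ fun _ : G => X) ⟶ pullback p p) ∧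
      Flat p ∧ Surjective p :=
  ⟨isIso_sigmaDesc_gr hp hfree, flat_of_geomFree hp hfree, ⟨surjective_of_isQuot hp⟩⟩

end Groth.Agent.Lib.helper2.QuotLib
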