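import Mathlib

/-!
# Invariants of a finite group action on a ring: plain-hypothesis wrappers around Mathlib's
`Algebra.IsInvariant` API (helper2)
-/

namespace Groth.Agent.Lib.helper2.QuotRing

open Function

/-- A ring `A` with a (contravariantly written) action `σ` of a group `G` by ring endomorphisms
and a ring map `φ : B → A` identifying `B` with the ring of invariants. -/
structure Data {G : Type*} [Group G] {A B : Type*} [CommRing A] [CommRing B]
    (φ : B →+* A) (σ : G → A →+* A) : Prop where
  one : ∀ a, σ 1 a = a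
  mul : ∀ g h a, σ h (σ g a) = σ (g * h) a
  inj : Injective φ
  fixed : ∀ g b, σ g (φ b) = φ b
  range : ∀ a, (∀ g, σ g a = a) → a ∈ Set.range φ

namespace Data

variable {G : Type*} [Group G] {A B : Type*} [CommRing A] [CommRing B]
  {φ : B →+* A} {σ : G → A →+* A}

/-- the left action `g • a = σ g⁻¹ a` -/
@[reducible] def action (h : Data φ σ) : MulSemiringAction G A where
  smul g a := σ g⁻¹ a
  one_smul a := by show σ (1 : G)⁻¹ a = a; rw [inv_one, h.one]
  mul_smul g g' a := by
    show σ (g * g')⁻¹ a = σ g⁻¹ (σ g'⁻¹ a)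
    rw [h.mul, mul_inv_rev]
  smul_zero g := map_zero (σ g⁻¹)
  smul_add g := map_add (σ g⁻¹)
  smul_one g := map_one (σ g⁻¹)
  smul_mul g := map_mul (σ g⁻¹)

theorem smul_def (h : Data φ σ) (g : G) (a : A) :
    letI := h.action
    g • a = σ g⁻¹ a := rfl

theorem isInvariant (h : Data φ σ) :
    letI := h.action
    letI := φ.toAlgebra
    Algebra.IsInvariant B A G := by
  letI := h.action
  letI := φ.toAlgebra
  refine ⟨fun a ha => ?_⟩
  obtain ⟨b, hb⟩ := h.range a (fun g => by
    have := ha g⁻¹
    rwa [smul_def, inv_inv] at this)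
  exact ⟨b, hb⟩

theorem smulCommClass (h : Data φ σ) :
    letI := h.action
    letI := φ.toAlgebra
    SMulCommClass G B A := by
  letI := h.action
  letI := φ.toAlgebra
  refine ⟨fun g b a => ?_⟩
  show σ g⁻¹ (φ b * a) = φ b * σ g⁻¹ a
  rw [map_mul, h.fixed]

theorem isIntegral [Finite G] (h : Data φ σ) : φ.IsIntegral := by
  letI := h.action
  letI := φ.toAlgebra
  haveI := h.isInvariant
  have := Algebra.IsInvariant.isIntegral B A G
  exact fun a => this.isIntegral a

theorem exists_comap_eq [Finite G] (h : Data φ σ) (P P' : Ideal A) [P.IsPrime] [P'.IsPrime]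
    (e : P.comap φ = P'.comap φ) : ∃ g : G, P' = P.comap (σ g) := by
  letI := h.action
  letI := φ.toAlgebra
  haveI := h.isInvariant
  haveI := h.smulCommClass
  obtain ⟨g, hg⟩ := Algebra.IsInvariant.exists_smul_of_under_eq B A G P P' e
  refine ⟨g, ?_⟩
  rw [hg, Ideal.pointwise_smul_eq_comap]
  ext a
  simp only [Ideal.mem_comap]
  have : (RingEquiv.symm ((MulSemiringAction.toRingAut G A) g)) a = σ g a := by
    show g⁻¹ • a = σ g a
    rw [smul_def, inv_inv]
  rw [this]

theorem exists_prime_over [Finite G] (h : Data φ σ) (Q : Ideal B) [Q.IsPrime] :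
    ∃ P : Ideal A, P.IsPrime ∧ P.comap φ = Q := by
  have hint := h.isIntegral
  have hker : RingHom.ker φ ≤ Q := by
    rw [(RingHom.injective_iff_ker_eq_bot φ).1 h.inj]; exact bot_le
  letI := φ.toAlgebra
  haveI : Algebra.IsIntegral B A := ⟨hint⟩
  obtain ⟨P, -, hP, hPQ⟩ := Ideal.exists_ideal_over_prime_of_isIntegral (S := A) Q ⊥
    (by rw [← RingHom.ker_eq_comap_bot]; exact hker)
  exact ⟨P, hP, hPQ⟩

end Data

/-- Artin–Tate in ring-hom form -/
theorem finiteType_of_comp_of_isIntegral {R B A : Type*} [CommRing R] [CommRing B] [CommRing A]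
    [IsNoetherianRing R] (ψ : R →+* B) (φ : B →+* A) (hinj : Function.Injective φ)
    (hint : φ.IsIntegral) (hft : (φ.comp ψ).FiniteType) : ψ.FiniteType := by
  letI := ψ.toAlgebra
  letI := φ.toAlgebra
  letI := (φ.comp ψ).toAlgebra
  haveI : IsScalarTower R B A := IsScalarTower.of_algebraMap_eq (fun _ => rfl)
  haveI hRA : Algebra.FiniteType R A := hft
  haveI : Algebra.FiniteType B A := Algebra.FiniteType.of_restrictScalars_finiteType R B A
  haveI : Algebra.IsIntegral B A := ⟨hint⟩
  haveI : Module.Finite B A := Algebra.IsIntegral.finite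
  have := fg_of_fg_of_fg R B A hRA.out (Module.Finite.fg_top) hinj
  exact ⟨this⟩


end Groth.Agent.Lib.helper2.QuotRing
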