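import Groth.Agent.Lib.Helper2.QuotLib
import Groth.Agent.Lib.Helper2.QuotRing2
import Groth.Agent.S13596

universe u
open CategoryTheory AlgebraicGeometry Opposite

namespace Groth.Agent.Lib.helper2.QuotLib

variable {X Y : Scheme.{u}} {G : Type u} [Group G] {ρ : G →* Aut X} {p : X ⟶ Y}

theorem data_of_isQuot (hp : SGA1.IsQuot ρ p) (U : Y.Opens) :
    QuotRing.Data (p.app U).hom (fun g => sig (isStable_preimage p hp.inv U) g) where
  one := sig_one _
  mul := sig_mul _
  inj := hp.injective U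
  fixed g b := sig_app p hp.inv U g b
  range s hs := (hp.range_iff U s).2 hs

/-- the action of `g` on points of a stable affine open in terms of primes -/
theorem rho_fromSpec {V : X.Opens} (hV : IsAffineOpen V) (hs : IsStable ρ V) (g : G)
    (P : Spec Γ(X, V)) :
    (ρ g).hom.base (hV.fromSpec.base P) =
      hV.fromSpec.base ((Spec.map (CommRingCat.ofHom (sig hs g))).base P) := by
  have := IsAffineOpen.SpecMap_appLE_fromSpec (ρ g).hom hV hV (hs g)
  have h2 := congr($(this).base P)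
  exact h2.symm

theorem p_fromSpec {U : Y.Opens} (hU : IsAffineOpen U) (hV : IsAffineOpen (p ⁻¹ᵁ U))
    (P : Spec Γ(X, p ⁻¹ᵁ U)) :
    p.base (hV.fromSpec.base P) = hU.fromSpec.base ((Spec.map (p.app U)).base P) := by
  have := IsAffineOpen.SpecMap_appLE_fromSpec p hU hV le_rfl
  rw [Scheme.Hom.appLE_eq_app] at this
  have h2 := congr($(this).base P)
  exact h2.symm

theorem exists_affine_nhd (y : Y) : ∃ U : Y.Opens, IsAffineOpen U ∧ y ∈ U := by
  obtain ⟨_, ⟨U, hU, rfl⟩, hyU, -⟩ :=
    Y.isBasis_affineOpens.exists_subset_of_mem_open (Set.mem_univ y) isOpen_univ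
  exact ⟨U, hU, hyU⟩

theorem surjective_of_isQuot [Finite G] (hp : SGA1.IsQuot ρ p) : Function.Surjective p.base := by
  intro y
  haveI := hp.affine
  obtain ⟨U, hU, hyU⟩ := exists_affine_nhd y
  have hV : IsAffineOpen (p ⁻¹ᵁ U) := hU.preimage p
  have hd := data_of_isQuot hp U
  let Q := hU.primeIdealOf ⟨y, hyU⟩
  obtain ⟨P, hP, hPQ⟩ := hd.exists_prime_over Q.asIdeal
  let P0 : Spec Γ(X, p ⁻¹ᵁ U) := (⟨P, hP⟩ : PrimeSpectrum Γ(X, p ⁻¹ᵁ U))
  refine ⟨hV.fromSpec.base P0, ?_⟩
  refine (p_fromSpec hU hV P0).trans ?_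
  have : (Spec.map (p.app U)).base P0 = Q := by
    apply PrimeSpectrum.ext
    exact hPQ
  rw [this]
  exact hU.fromSpec_primeIdealOf ⟨y, hyU⟩

theorem fibre_iff_of_isQuot [Finite G] (hp : SGA1.IsQuot ρ p) (x x' : X) :
    p.base x = p.base x' ↔ ∃ g : G, (ρ g).hom.base x = x' := by
  constructor
  · intro h
    haveI := hp.affine
    obtain ⟨U, hU, hyU⟩ := exists_affine_nhd (p.base x)
    have hV : IsAffineOpen (p ⁻¹ᵁ U) := hU.preimage p
    have hd := data_of_isQuot hp U
    have hx : x ∈ p ⁻¹ᵁ U := hyU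
    have hx' : x' ∈ p ⁻¹ᵁ U := by
      show p.base x' ∈ U
      rw [← h]; exact hyU
    let P := hV.primeIdealOf ⟨x, hx⟩
    let P' := hV.primeIdealOf ⟨x', hx'⟩
    have hP : hV.fromSpec.base P = x := hV.fromSpec_primeIdealOf ⟨x, hx⟩
    have hP' : hV.fromSpec.base P' = x' := hV.fromSpec_primeIdealOf ⟨x', hx'⟩
    have e : P.asIdeal.comap (p.app U).hom = P'.asIdeal.comap (p.app U).hom := by
      have h1 := p_fromSpec hU hV P
      have h2 := p_fromSpec hU hV P'
      rw [hP] at h1
      rw [hP'] at h2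
      have h3 : hU.fromSpec.base ((Spec.map (p.app U)).base P) =
          hU.fromSpec.base ((Spec.map (p.app U)).base P') := by
        rw [← h1, ← h2, h]
      have h4 := hU.fromSpec.isOpenEmbedding.injective h3
      exact congrArg PrimeSpectrum.asIdeal h4
    obtain ⟨g, hg⟩ := hd.exists_comap_eq P.asIdeal P'.asIdeal e
    refine ⟨g, ?_⟩
    rw [← hP, ← hP', rho_fromSpec hV (isStable_preimage p hp.inv U) g P]
    congr 1
    apply PrimeSpectrum.ext
    exact hg.symm
  · rintro ⟨g, rfl⟩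
    have := hp.inv g
    exact congr($(this).base x).symm

theorem isQuotientMap_of_isQuot [Finite G] (hp : SGA1.IsQuot ρ p) :
    Topology.IsQuotientMap p.base := by
  haveI : IsIntegralHom p := Groth.Agent.S13596.result ρ p hp
  exact IsClosedMap.isQuotientMap p.isClosedMap p.continuous (surjective_of_isQuot hp)

end Groth.Agent.Lib.helper2.QuotLib
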