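import Groth.Agent.Lib.Helper2.QuotCosetAlg
import Groth.Agent.Lib.Helper2.QuotEt2
import Groth.Agent.Lib.Helper2.QuotFree3
import Groth.Agent.Lib.Helper2.QuotNormal
import Groth.Agent.Lib.Helper2.QuotPts
import Mathlib

universe u
open CategoryTheory AlgebraicGeometry Opposite Limits

namespace Groth.Agent.Lib.helper2.QuotLib

section ClopenRes

variable {X : Scheme.{u}} {V : X.Opens} (hV : IsAffineOpen V) (e : Γ(X, V))
  (he : IsIdempotentElem e) (W' : X.Opens) (hW'V : W' ≤ V) (heW : X.basicOpen e = W')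

include he in
theorem res_basicOpen_idem : X.presheaf.map (homOfLE (X.basicOpen_le e)).op e = 1 := by
  have hu : IsUnit (X.presheaf.map (homOfLE (X.basicOpen_le e)).op e) :=
    RingedSpace.isUnit_res_basicOpen _ e
  have hi : X.presheaf.map (homOfLE (X.basicOpen_le e)).op e *
      X.presheaf.map (homOfLE (X.basicOpen_le e)).op e =
      X.presheaf.map (homOfLE (X.basicOpen_le e)).op e := by
    rw [← map_mul, he.eq]
  exact hu.mul_left_cancel (by rw [hi, mul_one])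

include he heW in
theorem res_idem : X.presheaf.map (homOfLE hW'V).op e = 1 := by
  subst heW
  exact res_basicOpen_idem e he

include hV he heW in
theorem res_ker (a : Γ(X, V)) (ha : X.presheaf.map (homOfLE hW'V).op a = 0) : e * a = 0 := by
  subst heW
  exact idem_mul_eq_zero_of_res hV e he a ha

include hV he heW in
theorem res_surjective : Function.Surjective (X.presheaf.map (homOfLE hW'V).op).hom := by
  subst heW
  intro s
  haveI := hV.isLocalization_basicOpen e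
  obtain ⟨⟨a, ⟨_, n, rfl⟩⟩, hsa⟩ := IsLocalization.surj (Submonoid.powers e) s
  have halg : ∀ x : Γ(X, V), algebraMap Γ(X, V) Γ(X, X.basicOpen e) x =
      X.presheaf.map (homOfLE (X.basicOpen_le e)).op x := fun _ => rfl
  simp only at hsa
  rw [map_pow, halg, halg, res_basicOpen_idem e he, one_pow, mul_one] at hsa
  exact ⟨a, hsa.symm⟩

end ClopenRes

section OpenSub

variable {X : Scheme.{u}} {V : X.Opens} (hV : IsAffineOpen V) (Y : X.Opens) (e : Γ(X, V))
  (he : IsIdempotentElem e) (heY : X.basicOpen e = V ⊓ Y)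

theorem image_preimage_eq : Y.ι ''ᵁ (Y.ι ⁻¹ᵁ V) = V ⊓ Y := by
  ext x
  constructor
  · rintro ⟨y, hy, rfl⟩
    exact ⟨hy, y.2⟩
  · rintro ⟨hxV, hxY⟩
    exact ⟨⟨x, hxY⟩, hxV, rfl⟩

include he heY in
theorem ι_app_idem : (Y.ι.app V).hom e = 1 :=
  res_idem e he (Y.ι ''ᵁ (Y.ι ⁻¹ᵁ V)) (by rw [image_preimage_eq]; exact inf_le_left)
    (by rw [heY, image_preimage_eq])

include hV he heY in
theorem ι_app_ker (a : Γ(X, V)) (ha : (Y.ι.app V).hom a = 0) : e * a = 0 :=
  res_ker hV e he (Y.ι ''ᵁ (Y.ι ⁻¹ᵁ V)) (by rw [image_preimage_eq]; exact inf_le_left)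
    (by rw [heY, image_preimage_eq]) a ha

include hV he heY in
theorem ι_app_surjective : Function.Surjective (Y.ι.app V).hom :=
  res_surjective hV e he (Y.ι ''ᵁ (Y.ι ⁻¹ᵁ V)) (by rw [image_preimage_eq]; exact inf_le_left)
    (by rw [heY, image_preimage_eq])

end OpenSub

theorem idem_eq_of_basicOpen_eq {X : Scheme.{u}} {V : X.Opens} (hV : IsAffineOpen V)
    (e e' : Γ(X, V)) (he : IsIdempotentElem e) (he' : IsIdempotentElem e')
    (h : X.basicOpen e = X.basicOpen e') : e = e' := by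
  apply PrimeSpectrum.basicOpen_injOn_isIdempotentElem he he'
  have h1 := hV.fromSpec_preimage_basicOpen e
  have h2 := hV.fromSpec_preimage_basicOpen e'
  rw [h] at h1
  exact h1.symm.trans h2

section Coset

variable {G : Type u} [Group G] {X XG : Scheme.{u}} (ρ : G →* Aut X)
  (H : Subgroup G) (Y : X.Opens)
  (hcov : ∀ x : X, ∃ g : G, x ∈ (ρ g).hom.base '' (Y : Set X))
  (hdisj : ∀ g : G, g ∉ H → Disjoint ((ρ g).hom.base '' (Y : Set X)) (Y : Set X))
  (ρY : H →* Aut (Y : Scheme.{u})) (hρY : ∀ h : H, (ρY h).hom ≫ Y.ι = Y.ι ≫ (ρ (h : G)).hom)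

include hρY in
theorem Y_stable (h : H) : Y ≤ (ρ (h : G)).hom ⁻¹ᵁ Y := by
  intro x hx
  have h1 := congr($(hρY h).base ⟨x, hx⟩)
  show (ρ (h : G)).hom.base x ∈ Y
  have h2 : (ρ (h : G)).hom.base x = ((ρY h).hom ≫ Y.ι).base ⟨x, hx⟩ := by
    rw [h1]; rfl
  rw [h2]
  exact ((ρY h).hom.base ⟨x, hx⟩).2

include hρY in
theorem Y_preimage_eq (h : H) : (ρ (h : G)).hom ⁻¹ᵁ Y = Y := by
  refine le_antisymm ?_ (Y_stable ρ H Y ρY hρY h)
  intro x hx
  have h1 := Y_stable ρ H Y ρY hρY h⁻¹ hx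
  have h2 : (ρ ((h⁻¹ : H) : G)).hom.base ((ρ (h : G)).hom.base x) = x := by
    rw [← Scheme.Hom.comp_apply]
    have : (ρ (h : G)).hom ≫ (ρ ((h⁻¹ : H) : G)).hom = 𝟙 X := by
      rw [Subgroup.coe_inv]; exact rho_hom_comp_inv ρ _
    rw [this]; rfl
  have h3 : (ρ ((h⁻¹ : H) : G)).hom.base ((ρ (h : G)).hom.base x) ∈ Y := h1
  rwa [h2] at h3

include hcov hdisj hρY in
theorem isClosed_Y : IsClosed (Y : Set X) := by
  have h1 : (Y : Set X)ᶜ = ⋃ g ∈ {g : G | g ∉ H}, (ρ g).hom.base '' (Y : Set X) := by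
    ext x
    simp only [Set.mem_compl_iff, Set.mem_iUnion, Set.mem_setOf_eq, exists_prop]
    constructor
    · intro hx
      obtain ⟨g, y, hy, rfl⟩ := hcov x
      refine ⟨g, fun hg => hx ?_, y, hy, rfl⟩
      exact Y_stable ρ H Y ρY hρY ⟨g, hg⟩ hy
    · rintro ⟨g, hg, hxg⟩ hxY
      exact (Set.disjoint_left.mp (hdisj g hg)) hxg hxY
  rw [← isOpen_compl_iff, h1]
  exact isOpen_biUnion (fun g _ => (ρ g).hom.isOpenEmbedding.isOpenMap _ Y.isOpen)

variable {V : X.Opens} (hVst : IsStable ρ V) (hV : IsAffineOpen V) (e : Γ(X, V))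
  (he : IsIdempotentElem e) (heY : X.basicOpen e = V ⊓ Y)

include heY in
theorem basicOpen_sig (g : G) : X.basicOpen (sig hVst g e) = V ⊓ (ρ g).hom ⁻¹ᵁ Y := by
  rw [sig, basicOpen_appLE, heY]
  ext x
  constructor
  · rintro ⟨hx, -, hx2⟩
    exact ⟨hx, hx2⟩
  · rintro ⟨hx, hx2⟩
    exact ⟨hx, hVst g hx, hx2⟩

include hρY hV he heY in
theorem sig_idem_of_mem (h : G) (hh : h ∈ H) : sig hVst h e = e := by
  apply idem_eq_of_basicOpen_eq hV _ _ (he.map (sig hVst h)) he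
  rw [basicOpen_sig ρ Y hVst e heY, heY]
  have := Y_preimage_eq ρ H Y ρY hρY ⟨h, hh⟩
  rw [this]

include hdisj hV he heY in
theorem mul_sig_idem_of_not_mem (g : G) (hg : g ∉ H) : e * sig hVst g e = 0 := by
  apply idem_eq_of_basicOpen_eq hV _ _ (he.mul (he.map (sig hVst g))) (IsIdempotentElem.zero)
  rw [Scheme.basicOpen_mul, basicOpen_sig ρ Y hVst e heY, heY, Scheme.basicOpen_zero]
  ext x
  simp only [TopologicalSpace.Opens.coe_inf, Set.mem_inter_iff, SetLike.mem_coe,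
    TopologicalSpace.Opens.coe_bot, Set.mem_empty_iff_false, iff_false, not_and]
  rintro ⟨-, hxY⟩ - hx2
  exact (Set.disjoint_left.mp (hdisj g hg)) ⟨x, hxY, rfl⟩ hx2

include hcov hV heY in
theorem eq_zero_of_sig_mul (x : Γ(X, V)) (hx : ∀ g, sig hVst g e * x = 0) : x = 0 := by
  have hspan : Ideal.span (Set.range (fun g => sig hVst g e)) = ⊤ := by
    rw [← hV.self_le_iSup_basicOpen_iff]
    intro y hy
    obtain ⟨g, z, hz, rfl⟩ := hcov y
    have h1 : (ρ g⁻¹).hom.base ((ρ g).hom.base z) = z := by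
      rw [← Scheme.Hom.comp_apply, rho_hom_comp_inv]; rfl
    have h2 : (ρ g).hom.base z ∈ X.basicOpen (sig hVst g⁻¹ e) := by
      rw [basicOpen_sig ρ Y hVst e heY]
      refine ⟨hy, ?_⟩
      show (ρ g⁻¹).hom.base ((ρ g).hom.base z) ∈ Y
      rw [h1]; exact hz
    exact TopologicalSpace.Opens.mem_iSup.mpr ⟨⟨_, ⟨g⁻¹, rfl⟩⟩, h2⟩
  have hle : Ideal.span (Set.range (fun g => sig hVst g e)) ≤ (Ideal.span {x}).annihilator := by
    rw [Ideal.span_le]
    rintro _ ⟨g, rfl⟩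
    rw [SetLike.mem_coe, Submodule.mem_annihilator_span_singleton]
    exact hx g
  rw [hspan] at hle
  have := hle (Submodule.mem_top (x := (1 : Γ(X, V))))
  rw [Submodule.mem_annihilator_span_singleton] at this
  simpa using this


end Coset

section Main

variable {G : Type u} [Group G] [Finite G] {X XG : Scheme.{u}} (ρ : G →* Aut X) (p : X ⟶ XG)
  (hP : SGA1.IsQuot ρ p) (H : Subgroup G) (Y : X.Opens)
  (hcov : ∀ x : X, ∃ g : G, x ∈ (ρ g).hom.base '' (Y : Set X))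
  (hdisj : ∀ g : G, g ∉ H → Disjoint ((ρ g).hom.base '' (Y : Set X)) (Y : Set X))
  (ρY : H →* Aut (Y : Scheme.{u})) (hρY : ∀ h : H, (ρY h).hom ≫ Y.ι = Y.ι ≫ (ρ (h : G)).hom)

include hP hcov hdisj hρY in
theorem isQuot_coset : SGA1.IsQuot ρY (Y.ι ≫ p) := by
  haveI := hP.affine
  have invY : ∀ h : H, (ρY h).hom ≫ (Y.ι ≫ p) = Y.ι ≫ p := by
    intro h; rw [← Category.assoc, hρY, Category.assoc, hP.inv]
  have hYc := isClosed_Y ρ H Y hcov hdisj ρY hρY
  refine isQuot_of_affine_cover (Y.ι ≫ p) invY (fun U : XG.affineOpens => U.1) (fun y => ?_)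
    (fun U => U.2) (fun U => ?_) (fun U => ?_)
  · obtain ⟨U, hU, hy⟩ := exists_affine_nhd y
    exact ⟨⟨U, hU⟩, hy⟩
  · have hV : IsAffineOpen (p ⁻¹ᵁ U.1) := U.2.preimage p
    obtain ⟨e, he, heY⟩ := exists_idem_of_isClopen hV Y hYc
    have h1 : IsAffineOpen (Y.ι ''ᵁ (Y.ι ⁻¹ᵁ (p ⁻¹ᵁ U.1))) := by
      rw [image_preimage_eq, ← heY]; exact hV.basicOpen e
    exact (Y.ι.isAffineOpen_iff_of_isOpenImmersion).mp h1
  · have hV : IsAffineOpen (p ⁻¹ᵁ U.1) := U.2.preimage p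
    obtain ⟨e, he, heY⟩ := exists_idem_of_isClopen hV Y hYc
    have hVst : IsStable ρ (p ⁻¹ᵁ U.1) := isStable_preimage p hP.inv U.1
    have happ : ((Y.ι ≫ p).app U.1).hom = (Y.ι.app (p ⁻¹ᵁ U.1)).hom.comp (p.app U.1).hom := by
      rw [Scheme.Hom.comp_app]; rfl
    constructor
    · rw [happ]
      exact QuotCosetAlg.comp_injective (sig hVst) (p.app U.1).hom (Y.ι.app (p ⁻¹ᵁ U.1)).hom e
        (hP.injective U.1) (fun g b => sig_app p hP.inv U.1 g b) (ι_app_ker hV Y e he heY)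
        (eq_zero_of_sig_mul ρ Y hcov hVst hV e heY)
    · intro s hs
      rw [happ]
      refine QuotCosetAlg.mem_range_comp (sig hVst) (fun g h a => sig_mul hVst g h a) H
        (fun h => sig (isStable_preimage (Y.ι ≫ p) invY U.1) h)
        (p.app U.1).hom (Y.ι.app (p ⁻¹ᵁ U.1)).hom e
        (fun a ha => (hP.range_iff U.1 a).2 ha)
        (ι_app_surjective hV Y e he heY) (ι_app_idem Y e he heY) (ι_app_ker hV Y e he heY)
        ?_ (sig_idem_of_mem ρ H Y ρY hρY hVst hV e he heY)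
        (mul_sig_idem_of_not_mem ρ H Y hdisj hVst hV e he heY) s hs
      intro h a
      have h1 := appLE_equivariant Y.ι (ρY h).hom (ρ (h : G)).hom (hρY h).symm (p ⁻¹ᵁ U.1)
        (hVst h) (isStable_preimage (Y.ι ≫ p) invY U.1 h)
      exact congr($h1 a)

end Main

end Groth.Agent.Lib.helper2.QuotLib
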