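import Groth.Agent.Lib.Helper2.CHRI2
import Mathlib

universe u

namespace Groth.Agent.Lib.helper2.QuotCosetAlg

open Groth.Agent.Lib.helper2.CHR

variable {A AY B : Type u} [CommRing A] [CommRing AY] [CommRing B] {G : Type u} [Group G] [Finite G]
  (σ : G → A →+* A) (hone : σ 1 = RingHom.id A) (hmul : ∀ g h a, σ h (σ g a) = σ (g * h) a)
  (H : Subgroup G) (τ : H → AY →+* AY) (α : B →+* A) (res : A →+* AY) (e : A)
  (hαinj : Function.Injective α)
  (hαfix : ∀ g b, σ g (α b) = α b)
  (hαrange : ∀ a, (∀ g, σ g a = a) → a ∈ Set.range α)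
  (hsurj : Function.Surjective res) (hres_e : res e = 1)
  (hker : ∀ a, res a = 0 → e * a = 0)
  (hequiv : ∀ (h : H) a, res (σ (h : G) a) = τ h (res a))
  (heH : ∀ h ∈ H, σ h e = e) (heG : ∀ g, g ∉ H → e * σ g e = 0)
  (hcover : ∀ x, (∀ g, σ g e * x = 0) → x = 0)

include hαinj hαfix hker hcover in
theorem comp_injective : Function.Injective (res.comp α) := by
  rw [injective_iff_map_eq_zero]
  intro t ht
  apply hαinj
  rw [map_zero]
  apply hcover
  intro g
  have h1 : e * α t = 0 := hker _ ht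
  have h2 := congrArg (σ g) h1
  rwa [map_mul, map_zero, hαfix] at h2

include hmul hαrange hsurj hres_e hker hequiv heH heG in
theorem mem_range_comp (s : AY) (hs : ∀ h : H, τ h s = s) : s ∈ Set.range (res.comp α) := by
  classical
  letI := Fintype.ofFinite G
  letI := Fintype.ofFinite (G ⧸ H)
  obtain ⟨a₀, rfl⟩ := hsurj s
  set b := e * a₀ with hb
  have hbH : ∀ i ∈ H, σ i b = b := by
    intro i hi
    have h1 : res (σ i b - b) = 0 := by
      rw [map_sub, hequiv ⟨i, hi⟩, hb, map_mul, hres_e, one_mul, hs, sub_self]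
    have h2 := hker _ h1
    have h3 : σ i b - b = e * (σ i a₀ - a₀) := by
      rw [hb, map_mul, heH i hi]; ring
    have hee : e * e = e := by
      have := hker (1 - e) (by rw [map_sub, map_one, hres_e, sub_self])
      linear_combination -this
    rw [h3, ← mul_assoc, hee, ← h3] at h2
    exact sub_eq_zero.mp h2
  obtain ⟨t, ht⟩ := hαrange (ptr σ H b) (fun g => ptr_inv hmul H b hbH g)
  refine ⟨t, ?_⟩
  rw [RingHom.comp_apply, ht, ptr, map_sum]
  rw [← Finset.add_sum_erase _ _ (Finset.mem_univ (QuotientGroup.mk 1 : G ⧸ H))]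
  have h1 : σ ((QuotientGroup.mk 1 : G ⧸ H).out)⁻¹ b = b := by
    apply hbH
    apply H.inv_mem
    have := QuotientGroup.mk_out_eq_mul H 1
    obtain ⟨i, hi⟩ := this
    rw [hi, one_mul]; exact i.2
  rw [h1]
  have h2 : ∀ c ∈ Finset.univ.erase (QuotientGroup.mk 1 : G ⧸ H), res (σ (c.out)⁻¹ b) = 0 := by
    intro c hc
    have hcH : (c.out)⁻¹ ∉ H := by
      intro hmem
      apply (Finset.mem_erase.mp hc).1
      rw [← QuotientGroup.out_eq' c]
      exact QuotientGroup.eq.mpr (by simpa using H.inv_mem hmem)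
    have h3 : e * σ (c.out)⁻¹ b = 0 := by
      rw [hb, map_mul, ← mul_assoc, heG _ hcH, zero_mul]
    calc res (σ (c.out)⁻¹ b) = res e * res (σ (c.out)⁻¹ b) := by rw [hres_e, one_mul]
      _ = res (e * σ (c.out)⁻¹ b) := (map_mul _ _ _).symm
      _ = 0 := by rw [h3, map_zero]
  rw [Finset.sum_eq_zero h2, add_zero, hb, map_mul, hres_e, one_mul]

end Groth.Agent.Lib.helper2.QuotCosetAlg
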