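import Groth.Agent.Lib.Helper2.CHRI4
import Groth.Agent.Lib.Helper2.QuotFree1
import Mathlib

universe u
open CategoryTheory AlgebraicGeometry Opposite Limits

namespace Groth.Agent.Lib.helper2.QuotLib

variable {X Y : Scheme.{u}} {G : Type u} [Group G] {ρ : G →* Aut X} (f : X ⟶ Y)
  (hρ : ∀ g, (ρ g).hom ≫ f = f)

/-- the graph of `g` in `X ×_Y X` -/
noncomputable def grph (g : G) : X ⟶ pullback f f :=
  pullback.lift (ρ g).hom (𝟙 X) (by rw [hρ g, Category.id_comp])

variable [IsOpenImmersion (pullback.diagonal f)]

/-- the locus where `g` acts trivially -/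
noncomputable def inert (g : G) : X.Opens := (grph f hρ g) ⁻¹ᵁ (pullback.diagonal f).opensRange

theorem inert_ι_comp (g : G) : (inert f hρ g).ι ≫ (ρ g).hom = (inert f hρ g).ι := by
  have hr : Set.range ((inert f hρ g).ι ≫ grph f hρ g).base ⊆
      Set.range (pullback.diagonal f).base := by
    rintro _ ⟨x, rfl⟩
    exact x.2
  have h1 := IsOpenImmersion.lift_fac (pullback.diagonal f) ((inert f hρ g).ι ≫ grph f hρ g) hr
  have h2 := congr($h1 ≫ pullback.fst f f)
  have h3 := congr($h1 ≫ pullback.snd f f)
  simp only [Category.assoc, pullback.diagonal_fst, pullback.diagonal_snd, Category.comp_id, grph,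
    pullback.lift_fst, pullback.lift_snd] at h2 h3
  rw [← h2, h3]

theorem isClosed_inert [IsSeparated f] (g : G) : IsClosed ((inert f hρ g : X.Opens) : Set X) := by
  have : IsClosed (Set.range (pullback.diagonal f).base) :=
    (pullback.diagonal f).isClosedEmbedding.isClosed_range
  exact this.preimage (grph f hρ g).continuous

theorem range_subset_inert {T : Scheme.{u}} (ξ : T ⟶ X) (g : G) (h : ξ ≫ (ρ g).hom = ξ) :
    Set.range ξ.base ⊆ (inert f hρ g : Set X) := by
  rintro _ ⟨t, rfl⟩
  have h1 : ξ ≫ grph f hρ g = ξ ≫ pullback.diagonal f := by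
    apply pullback.hom_ext
    · simp only [Category.assoc, grph, pullback.lift_fst, pullback.diagonal_fst, Category.comp_id, h]
    · simp only [Category.assoc, grph, pullback.lift_snd, pullback.diagonal_snd]
  show (grph f hρ g).base (ξ.base t) ∈ Set.range (pullback.diagonal f).base
  refine ⟨ξ.base t, ?_⟩
  exact congr($(h1).base t).symm

end Groth.Agent.Lib.helper2.QuotLib
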