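import Groth.Agent.Lib.Helper2.QuotEt2
import Mathlib

universe u
open CategoryTheory AlgebraicGeometry Opposite Limits

namespace Groth.Agent.Lib.helper2.QuotLib

variable {X Y : Scheme.{u}} {G : Type u} [Group G] {ρ : G →* Aut X} (f : X ⟶ Y)
  (hρ : ∀ g, (ρ g).hom ≫ f = f) [IsOpenImmersion (pullback.diagonal f)] [IsSeparated f]

include f hρ in
theorem exists_isInertial_sig {V : X.Opens} (hV : IsStable ρ V) (hVaff : IsAffineOpen V) :
    ∃ e : G → Γ(X, V), CHR.IsInertial (sig hV) e := by
  choose e he1 he2 using fun g =>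
    exists_idem_of_isClopen hVaff (inert f hρ g) (isClosed_inert f hρ g)
  refine ⟨e, he1, ?_, ?_⟩
  · intro g a
    have : e g * (sig hV g a - a) = 0 := by
      apply idem_mul_eq_zero_of_res hVaff _ (he1 g)
      rw [map_sub, sub_eq_zero]
      have hWE : X.basicOpen (e g) ≤ inert f hρ g := by rw [he2 g]; exact inf_le_right
      have hWι : (X.basicOpen (e g)).ι ≫ (ρ g).hom = (X.basicOpen (e g)).ι := by
        rw [← X.homOfLE_ι hWE, Category.assoc, inert_ι_comp]
      have hWV : X.basicOpen (e g) ≤ V := X.basicOpen_le _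
      have h1 := appLE_eq_res_of_ι_comp (ρ g).hom (X.basicOpen (e g)) V hWι hWV (hWV.trans (hV g))
      have h2 := Scheme.Hom.appLE_map (ρ g).hom (hV g) (homOfLE hWV).op
      rw [h1] at h2
      exact congr($h2 a)
    rw [mul_sub, sub_eq_zero] at this
    exact this
  · intro g m hm hem
    by_contra hcon
    push_neg at hcon
    let k := Γ(X, V) ⧸ m
    letI : Field k := Ideal.Quotient.field m
    let κ : Γ(X, V) →+* k := Ideal.Quotient.mk m
    have hκ : κ.comp (sig hV g) = κ := by
      ext c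
      have h0 : Ideal.Quotient.mk m (sig hV g c - c) = 0 := Ideal.Quotient.eq_zero_iff_mem.2 (hcon c)
      rw [map_sub, sub_eq_zero] at h0
      simp only [κ, RingHom.coe_comp, Function.comp_apply, h0]
    let ξ : Spec (CommRingCat.of k) ⟶ X := Spec.map (CommRingCat.ofHom κ) ≫ hVaff.fromSpec
    have hξ : ξ ≫ (ρ g).hom = ξ := by
      have h1 := IsAffineOpen.SpecMap_appLE_fromSpec (ρ g).hom hVaff hVaff (hV g)
      simp only [ξ, Category.assoc]
      rw [← h1, ← Category.assoc, ← Spec.map_comp]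
      congr 2
      ext c
      exact congr($hκ c)
    have hr := range_subset_inert f hρ ξ g hξ
    let pt : Spec (CommRingCat.of k) := (⊥ : PrimeSpectrum k)
    let y : Spec Γ(X, V) := (Spec.map (CommRingCat.ofHom κ)).base pt
    have hy1 : hVaff.fromSpec.base y ∈ inert f hρ g := hr ⟨pt, rfl⟩
    have hy2 : hVaff.fromSpec.base y ∈ V := by
      rw [← SetLike.mem_coe, ← hVaff.range_fromSpec]
      exact ⟨y, rfl⟩
    have hy3 : hVaff.fromSpec.base y ∈ X.basicOpen (e g) := by
      rw [he2 g]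
      exact ⟨hy2, hy1⟩
    have hy4 : y ∈ hVaff.fromSpec ⁻¹ᵁ X.basicOpen (e g) := hy3
    rw [hVaff.fromSpec_preimage_basicOpen] at hy4
    apply hy4
    show κ (e g) ∈ pt.asIdeal
    have : κ (e g) = 0 := Ideal.Quotient.eq_zero_iff_mem.2 hem
    rw [this]
    exact zero_mem _

variable [Finite G] {X' : Scheme.{u}} {p : X ⟶ X'}

include f hρ in
theorem flat_app_of_inert (hp : SGA1.IsQuot ρ p) {U : X'.Opens} (hU : IsAffineOpen U) :
    (p.app U).hom.Flat ∧ (p.app U).hom.Finite := by
  classical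
  letI := Fintype.ofFinite G
  haveI := hp.affine
  obtain ⟨e, he⟩ := exists_isInertial_sig f hρ (isStable_preimage p hp.inv U) (hU.preimage p)
  have := CHR.finite_projective_inertial (σ := sig (isStable_preimage p hp.inv U))
    (α := (p.app U).hom) (sig_one' _) (fun g h a => sig_mul _ g h a) (hp.injective U)
    (fun g b => sig_app p hp.inv U g b) (fun a ha => (hp.range_iff U a).2 ha) he
  have h1 := this.1
  have h2 := this.2
  letI := (p.app U).hom.toAlgebra
  have h3 : Module.Flat Γ(X', U) Γ(X, p ⁻¹ᵁ U) := @Module.Flat.of_projective _ _ _ _ _ h2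
  exact ⟨h3, h1⟩

include f hρ in
theorem flat_of_inert (hp : SGA1.IsQuot ρ p) : Flat p := by
  haveI := hp.affine
  rw [HasRingHomProperty.iff_exists_appLE (P := @Flat)
    (RingHom.Flat.stableUnderComposition.stableUnderCompositionWithLocalizationAway
      RingHom.Flat.holdsForLocalizationAway).left]
  intro x
  obtain ⟨_, ⟨U, hU, rfl⟩, hxU, -⟩ :=
    X'.isBasis_affineOpens.exists_subset_of_mem_open (Set.mem_univ (p x)) isOpen_univ
  refine ⟨⟨U, hU⟩, ⟨p ⁻¹ᵁ U, hU.preimage p⟩, hxU, le_rfl, ?_⟩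
  rw [← Scheme.Hom.app_eq_appLE]
  exact (flat_app_of_inert f hρ hp hU).1

end Groth.Agent.Lib.helper2.QuotLib
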