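import Groth.Agent.Lib.Helper2.QuotEt3
import Groth.Agent.Lib.Helper2.EtDesc
import Groth.Agent.Lib.Helper2.Quot2909
import Mathlib

universe u
open CategoryTheory AlgebraicGeometry Opposite Limits

namespace Groth.Agent.Lib.helper2.QuotLib

variable {X X' Y : Scheme.{u}} {G : Type u} [Group G] [Finite G] {ρ : G →* Aut X}
  {p : X ⟶ X'}

theorem app_props_of_inert (f : X ⟶ Y) (hρ : ∀ g, (ρ g).hom ≫ f = f)
    [IsOpenImmersion (pullback.diagonal f)] [IsSeparated f]
    (hp : SGA1.IsQuot ρ p) {U : X'.Opens} (hU : IsAffineOpen U) :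
    (p.app U).hom.Flat ∧ (p.app U).hom.Finite ∧ (p.app U).hom.FinitePresentation := by
  classical
  letI := Fintype.ofFinite G
  haveI := hp.affine
  obtain ⟨e, he⟩ := exists_isInertial_sig f hρ (isStable_preimage p hp.inv U) (hU.preimage p)
  have := CHR.finite_projective_inertial (σ := sig (isStable_preimage p hp.inv U))
    (α := (p.app U).hom) (sig_one' _) (fun g h a => sig_mul _ g h a) (hp.injective U)
    (fun g b => sig_app p hp.inv U g b) (fun a ha => (hp.range_iff U a).2 ha) he
  have h1 := this.1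
  have h2 := this.2
  letI := (p.app U).hom.toAlgebra
  have h3 : Module.Flat Γ(X', U) Γ(X, p ⁻¹ᵁ U) := @Module.Flat.of_projective _ _ _ _ _ h2
  have h4 : Module.FinitePresentation Γ(X', U) Γ(X, p ⁻¹ᵁ U) :=
    @Module.finitePresentation_of_projective _ _ _ _ _ h2 h1
  have h5 : Algebra.FinitePresentation Γ(X', U) Γ(X, p ⁻¹ᵁ U) :=
    Algebra.FinitePresentation.of_finitePresentation _ _
  exact ⟨h3, h1, h5⟩

theorem etale_of_inert (f : X ⟶ Y) (hρ : ∀ g, (ρ g).hom ≫ f = f) [Etale f] [IsSeparated f]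
    (hp : SGA1.IsQuot ρ p) (q : X' ⟶ Y) (hq : p ≫ q = f) : Etale p := by
  haveI := hp.affine
  haveI : Flat p := flat_of_inert f hρ hp
  haveI : FormallyUnramified p := by
    haveI : FormallyUnramified (p ≫ q) := by rw [hq]; infer_instance
    exact FormallyUnramified.of_comp p q
  haveI : LocallyOfFinitePresentation p := by
    rw [HasRingHomProperty.iff_exists_appLE (P := @LocallyOfFinitePresentation)
      (RingHom.finitePresentation_stableUnderComposition.stableUnderCompositionWithLocalizationAway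
        RingHom.finitePresentation_holdsForLocalizationAway).left]
    intro x
    obtain ⟨_, ⟨U, hU, rfl⟩, hxU, -⟩ :=
      X'.isBasis_affineOpens.exists_subset_of_mem_open (Set.mem_univ (p x)) isOpen_univ
    refine ⟨⟨U, hU⟩, ⟨p ⁻¹ᵁ U, hU.preimage p⟩, hxU, le_rfl, ?_⟩
    rw [← Scheme.Hom.app_eq_appLE]
    exact (app_props_of_inert f hρ hp hU).2.2
  exact Etale.of_formallyUnramified_of_flat p

end Groth.Agent.Lib.helper2.QuotLib
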