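import Groth.Agent.Lib.Helper2.QuotEt4
import Mathlib

universe u
open CategoryTheory AlgebraicGeometry Opposite Limits

namespace Groth.Agent.Lib.helper2.QuotLib

variable {X X' Y : Scheme.{u}} {G : Type u} [Group G] [Finite G] {ρ : G →* Aut X}
  {p : X ⟶ X'}

theorem etale_quot_of_inert [IsLocallyNoetherian Y] (q : X' ⟶ Y) (hρ : ∀ g, (ρ g).hom ≫ p ≫ q = p ≫ q)
    [Etale (p ≫ q)] [IsSeparated (p ≫ q)] [QuasiCompact (p ≫ q)]
    (hp : SGA1.IsQuot ρ p) : Etale q := by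
  haveI := hp.affine
  haveI hpet : Etale p := etale_of_inert (p ≫ q) hρ hp q rfl
  have h2909 := result_2909 hp (p ≫ q) q rfl
  haveI : LocallyOfFiniteType q := (h2909.2.2.2 inferInstance inferInstance inferInstance).1
  refine ⟨fun {U} hU {V} hV e => ?_⟩
  have hle : p ⁻¹ᵁ V ≤ (p ≫ q) ⁻¹ᵁ U := by
    rw [Scheme.Hom.comp_preimage]
    exact fun x hx => e hx
  have hcomp : q.appLE U V e ≫ p.app V = (p ≫ q).appLE U (p ⁻¹ᵁ V) hle := by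
    rw [Scheme.Hom.app_eq_appLE, Scheme.Hom.appLE_comp_appLE]
  letI a1 : Algebra Γ(Y, U) Γ(X', V) := (q.appLE U V e).hom.toAlgebra
  letI a2 : Algebra Γ(X', V) Γ(X, p ⁻¹ᵁ V) := (p.app V).hom.toAlgebra
  letI a3 : Algebra Γ(Y, U) Γ(X, p ⁻¹ᵁ V) := ((p ≫ q).appLE U (p ⁻¹ᵁ V) hle).hom.toAlgebra
  haveI : IsScalarTower Γ(Y, U) Γ(X', V) Γ(X, p ⁻¹ᵁ V) :=
    IsScalarTower.of_algebraMap_eq' (by
      change ((p ≫ q).appLE U (p ⁻¹ᵁ V) hle).hom = (p.app V).hom.comp (q.appLE U V e).hom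
      rw [← hcomp]
      rfl)
  haveI : Algebra.Etale Γ(Y, U) Γ(X, p ⁻¹ᵁ V) :=
    (p ≫ q).etale_appLE hU (hV.preimage p) hle
  haveI : Algebra.Etale Γ(X', V) Γ(X, p ⁻¹ᵁ V) := by
    have := p.etale_appLE hV (hV.preimage p) le_rfl
    rw [← Scheme.Hom.app_eq_appLE] at this
    exact this
  have hprops := app_props_of_inert (p ≫ q) hρ hp hV
  haveI : Module.Flat Γ(X', V) Γ(X, p ⁻¹ᵁ V) := hprops.1
  haveI : Module.Finite Γ(X', V) Γ(X, p ⁻¹ᵁ V) := hprops.2.1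
  haveI : Module.FaithfullyFlat Γ(X', V) Γ(X, p ⁻¹ᵁ V) :=
    EtDesc.faithfullyFlat_of_finite_of_injective _ _ (hp.injective V)
  haveI : IsNoetherianRing Γ(Y, U) := IsLocallyNoetherian.component_noetherian ⟨U, hU⟩
  haveI : Algebra.FiniteType Γ(Y, U) Γ(X', V) := q.finiteType_appLE hU hV e
  haveI : Algebra.FinitePresentation Γ(Y, U) Γ(X', V) :=
    Algebra.FinitePresentation.of_finiteType.1 inferInstance
  exact EtDesc.etale_of_comp_of_faithfullyFlat Γ(Y, U) Γ(X', V) Γ(X, p ⁻¹ᵁ V)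

theorem isFinite_quot_of_inert [IsLocallyNoetherian Y] (q : X' ⟶ Y) [IsFinite (p ≫ q)]
    (hp : SGA1.IsQuot ρ p) : IsFinite q := by
  have h2909 := result_2909 hp (p ≫ q) q rfl
  haveI : IsAffineHom q := h2909.1.1 inferInstance
  refine ⟨fun U hU => ?_⟩
  have hfin := (p ≫ q).finite_app U hU
  letI a1 : Algebra Γ(Y, U) Γ(X', q ⁻¹ᵁ U) := (q.app U).hom.toAlgebra
  letI a3 : Algebra Γ(Y, U) Γ(X, (p ≫ q) ⁻¹ᵁ U) := ((p ≫ q).app U).hom.toAlgebra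
  haveI : IsNoetherianRing Γ(Y, U) := IsLocallyNoetherian.component_noetherian ⟨U, hU⟩
  haveI : Module.Finite Γ(Y, U) Γ(X, (p ≫ q) ⁻¹ᵁ U) := hfin
  haveI : IsNoetherian Γ(Y, U) Γ(X, (p ≫ q) ⁻¹ᵁ U) := isNoetherian_of_isNoetherianRing_of_finite _ _
  let ℓ : Γ(X', q ⁻¹ᵁ U) →ₗ[Γ(Y, U)] Γ(X, (p ≫ q) ⁻¹ᵁ U) :=
    { toFun := fun s => (p.app (q ⁻¹ᵁ U)).hom s
      map_add' := fun s t => map_add _ s t
      map_smul' := fun r s => by
        simp only [Algebra.smul_def, map_mul, RingHom.id_apply]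
        rfl }
  exact Module.Finite.of_injective ℓ (hp.injective (q ⁻¹ᵁ U))

end Groth.Agent.Lib.helper2.QuotLib
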