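import Groth.Agent.Lib.Helper2.QuotFree1
import Mathlib

universe u
open CategoryTheory AlgebraicGeometry Opposite Limits

namespace Groth.Agent.Lib.helper2.QuotLib

variable {X Y : Scheme.{u}} {G : Type u} [Group G] {ρ : G →* Aut X} {p : X ⟶ Y}

/-- the `g`-th graph component `X ⟶ X ×_Y X` -/
noncomputable def gr (hp : SGA1.IsQuot ρ p) (g : G) : X ⟶ pullback p p :=
  pullback.lift (𝟙 X) (ρ g).hom ((Category.id_comp p).trans (hp.inv g).symm)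

@[simp] theorem gr_fst (hp : SGA1.IsQuot ρ p) (g : G) : gr hp g ≫ pullback.fst p p = 𝟙 X :=
  pullback.lift_fst _ _ _

@[simp] theorem gr_snd (hp : SGA1.IsQuot ρ p) (g : G) :
    gr hp g ≫ pullback.snd p p = (ρ g).hom :=
  pullback.lift_snd _ _ _

/-- the standard open of `X ×_Y X` over `U` -/
noncomputable def WW (p : X ⟶ Y) (U : Y.Opens) : (pullback p p).Opens :=
  pullback.fst p p ⁻¹ᵁ p ⁻¹ᵁ U ⊓ pullback.snd p p ⁻¹ᵁ p ⁻¹ᵁ U

theorem isAffineOpen_WW [IsAffineHom p] {U : Y.Opens} (hU : IsAffineOpen U) :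
    IsAffineOpen (WW p U) := by
  have hV : IsAffineOpen (p ⁻¹ᵁ U) := hU.preimage p
  haveI : IsAffine U := hU
  haveI : IsAffine (p ⁻¹ᵁ U) := hV
  exact .of_isIso (Scheme.Hom.isPullback_resLE (IsPullback.of_hasPullback p p)
    (US := U) (UT := p ⁻¹ᵁ U) (UX := p ⁻¹ᵁ U) le_rfl le_rfl
    (UY := WW p U) rfl).isoPullback.hom

theorem isPushout_WW [IsAffineHom p] {U : Y.Opens} (hU : IsAffineOpen U) :
    IsPushout (CommRingCat.ofHom (p.app U).hom) (CommRingCat.ofHom (p.app U).hom)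
      (CommRingCat.ofHom ((pullback.fst p p).appLE (p ⁻¹ᵁ U) (WW p U) inf_le_left).hom)
      (CommRingCat.ofHom ((pullback.snd p p).appLE (p ⁻¹ᵁ U) (WW p U) inf_le_right).hom) := by
  have hV : IsAffineOpen (p ⁻¹ᵁ U) := hU.preimage p
  have h1 := isIso_pushoutSection_of_isAffineOpen (IsPullback.of_hasPullback p p)
    (US := U) (UT := p ⁻¹ᵁ U) (UX := p ⁻¹ᵁ U) le_rfl le_rfl (UY := WW p U) rfl hU hV hV
  have h2 := (isIso_pushoutSection_iff (IsPullback.of_hasPullback p p)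
    (US := U) (UT := p ⁻¹ᵁ U) (UX := p ⁻¹ᵁ U) le_rfl le_rfl (UY := WW p U) rfl).mp h1
  rw [Scheme.Hom.app_eq_appLE]
  simpa only [CommRingCat.ofHom_hom] using h2

theorem le_gr_preimage (hp : SGA1.IsQuot ρ p) (g : G) (U : Y.Opens) :
    p ⁻¹ᵁ U ≤ gr hp g ⁻¹ᵁ WW p U := by
  intro x hx
  refine ⟨?_, ?_⟩
  · change (gr hp g ≫ pullback.fst p p) x ∈ p ⁻¹ᵁ U
    rw [gr_fst]
    exact hx
  · change (gr hp g ≫ pullback.snd p p) x ∈ p ⁻¹ᵁ U
    rw [gr_snd]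
    exact isStable_preimage p hp.inv U g hx

/-- the `g`-th projection `Γ(X ×_Y X, W) → Γ(X, p⁻¹U)` -/
noncomputable def pi (hp : SGA1.IsQuot ρ p) (U : Y.Opens) (g : G) :
    Γ(pullback p p, WW p U) →+* Γ(X, p ⁻¹ᵁ U) :=
  ((gr hp g).appLE (WW p U) (p ⁻¹ᵁ U) (le_gr_preimage hp g U)).hom

theorem pi_fst (hp : SGA1.IsQuot ρ p) (U : Y.Opens) (g : G) (a : Γ(X, p ⁻¹ᵁ U)) :
    pi hp U g (((pullback.fst p p).appLE (p ⁻¹ᵁ U) (WW p U) inf_le_left).hom a) = a := by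
  have h1 := Scheme.Hom.appLE_comp_appLE (gr hp g) (pullback.fst p p) (p ⁻¹ᵁ U) (WW p U)
    (p ⁻¹ᵁ U) inf_le_left (le_gr_preimage hp g U)
  have h2 := appLE_eq_of_eq' (gr hp g ≫ pullback.fst p p) (𝟙 X) (gr_fst hp g) (p ⁻¹ᵁ U)
    (p ⁻¹ᵁ U) (by rw [gr_fst]; exact le_rfl) le_rfl
  have h3 : (pullback.fst p p).appLE (p ⁻¹ᵁ U) (WW p U) inf_le_left ≫
      (gr hp g).appLE (WW p U) (p ⁻¹ᵁ U) (le_gr_preimage hp g U) = 𝟙 _ := by
    rw [h1, h2]
    exact id_appLE' _ _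
  exact congr($h3 a)

theorem pi_snd (hp : SGA1.IsQuot ρ p) (U : Y.Opens) (g : G) (a : Γ(X, p ⁻¹ᵁ U)) :
    pi hp U g (((pullback.snd p p).appLE (p ⁻¹ᵁ U) (WW p U) inf_le_right).hom a) =
      sig (isStable_preimage p hp.inv U) g a := by
  have h1 := Scheme.Hom.appLE_comp_appLE (gr hp g) (pullback.snd p p) (p ⁻¹ᵁ U) (WW p U)
    (p ⁻¹ᵁ U) inf_le_right (le_gr_preimage hp g U)
  have h2 := appLE_eq_of_eq' (gr hp g ≫ pullback.snd p p) (ρ g).hom (gr_snd hp g) (p ⁻¹ᵁ U)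
    (p ⁻¹ᵁ U) (by rw [gr_snd]; exact isStable_preimage p hp.inv U g)
    (isStable_preimage p hp.inv U g)
  have h3 : (pullback.snd p p).appLE (p ⁻¹ᵁ U) (WW p U) inf_le_right ≫
      (gr hp g).appLE (WW p U) (p ⁻¹ᵁ U) (le_gr_preimage hp g U) =
      (ρ g).hom.appLE (p ⁻¹ᵁ U) (p ⁻¹ᵁ U) (isStable_preimage p hp.inv U g) := by
    rw [h1, h2]
  exact congr($h3 a)

variable [Finite G]

theorem bijective_pi (hp : SGA1.IsQuot ρ p) (hfree : GeomFree ρ) {U : Y.Opens}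
    (hU : IsAffineOpen U) :
    Function.Bijective (fun (d : Γ(pullback p p, WW p U)) (g : G) => pi hp U g d) := by
  classical
  letI := Fintype.ofFinite G
  haveI := hp.affine
  obtain ⟨I, _, x, y, h1, h0⟩ := exists_dualBasis_sig hp hfree hU
  exact CHR.bijective_pi (σ := sig (isStable_preimage p hp.inv U)) (α := (p.app U).hom)
    (sig_one' _) (fun g h a => sig_mul _ g h a)
    (fun a ha => (hp.range_iff U a).2 ha) h1 h0 (isPushout_WW hU)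
    (fun g a => pi_fst hp U g a) (fun g a => pi_snd hp U g a)

end Groth.Agent.Lib.helper2.QuotLib
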