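import Groth.Agent.Lib.Helper2.QuotFree3
import Groth.Agent.Lib.Helper2.CHR3
import Mathlib

universe u
open CategoryTheory AlgebraicGeometry Opposite Limits

namespace Groth.Agent.Lib.helper2.QuotLib

variable {X Y : Scheme.{u}} {G : Type u} [Group G] [Finite G] {ρ : G →* Aut X} {p : X ⟶ Y}
  (hp : SGA1.IsQuot ρ p) (hfree : GeomFree ρ) (s : Y ⟶ X) (hs : s ≫ p = 𝟙 Y)

/-- the `g`-th translate of the section -/
noncomputable def cs (g : G) : Y ⟶ X := s ≫ (ρ g).hom

include hp hs in
theorem cs_p (g : G) : cs (ρ := ρ) s g ≫ p = 𝟙 Y := by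
  rw [cs, Category.assoc, hp.inv g, hs]

include hp hs in
theorem le_cs_preimage (g : G) (U : Y.Opens) : U ≤ cs (ρ := ρ) s g ⁻¹ᵁ p ⁻¹ᵁ U := by
  rw [← Scheme.Hom.comp_preimage, cs_p hp s hs g]
  exact le_rfl

include hp hs in
theorem le_s_preimage (U : Y.Opens) : U ≤ s ⁻¹ᵁ p ⁻¹ᵁ U := by
  rw [← Scheme.Hom.comp_preimage, hs]
  exact le_rfl

/-- the retraction on sections -/
noncomputable def sret (U : Y.Opens) : Γ(X, p ⁻¹ᵁ U) →+* Γ(Y, U) :=
  (s.appLE (p ⁻¹ᵁ U) U (le_s_preimage hp s hs U)).hom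

noncomputable def beta (U : Y.Opens) (g : G) : Γ(X, p ⁻¹ᵁ U) →+* Γ(Y, U) :=
  ((cs (ρ := ρ) s g).appLE (p ⁻¹ᵁ U) U (le_cs_preimage hp s hs g U)).hom

theorem sret_app (U : Y.Opens) (b : Γ(Y, U)) : sret hp s hs U ((p.app U).hom b) = b := by
  have h1 := Scheme.Hom.appLE_comp_appLE s p U (p ⁻¹ᵁ U) U le_rfl (le_s_preimage hp s hs U)
  have h2 := appLE_eq_of_eq' (s ≫ p) (𝟙 Y) hs U U (by rw [hs]; exact le_rfl) le_rfl
  have h3 : p.app U ≫ s.appLE (p ⁻¹ᵁ U) U (le_s_preimage hp s hs U) = 𝟙 _ := by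
    rw [Scheme.Hom.app_eq_appLE, h1, h2]
    exact id_appLE' _ _
  exact congr($h3 b)

theorem beta_eq (U : Y.Opens) (g : G) (a : Γ(X, p ⁻¹ᵁ U)) :
    beta hp s hs U g a = sret hp s hs U (sig (isStable_preimage p hp.inv U) g a) := by
  have h1 := Scheme.Hom.appLE_comp_appLE s (ρ g).hom (p ⁻¹ᵁ U) (p ⁻¹ᵁ U) U
    (isStable_preimage p hp.inv U g) (le_s_preimage hp s hs U)
  have h3 : (ρ g).hom.appLE (p ⁻¹ᵁ U) (p ⁻¹ᵁ U) (isStable_preimage p hp.inv U g) ≫
      s.appLE (p ⁻¹ᵁ U) U (le_s_preimage hp s hs U) =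
      (cs (ρ := ρ) s g).appLE (p ⁻¹ᵁ U) U (le_cs_preimage hp s hs g U) := by
    rw [h1]
    rfl
  exact (congr($h3 a)).symm

include hfree in
theorem bijective_beta {U : Y.Opens} (hU : IsAffineOpen U) :
    Function.Bijective (fun (a : Γ(X, p ⁻¹ᵁ U)) (g : G) => beta hp s hs U g a) := by
  classical
  letI := Fintype.ofFinite G
  obtain ⟨I, _, x, y, h1, h0⟩ := exists_dualBasis_sig hp hfree hU
  have := CHR.bijective_beta (σ := sig (isStable_preimage p hp.inv U)) (α := (p.app U).hom)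
    (sig_one' _) (fun g h a => sig_mul _ g h a) (fun g b => sig_app p hp.inv U g b)
    (fun a ha => (hp.range_iff U a).2 ha) h1 h0 (s' := sret hp s hs U)
    (fun b => sret_app hp s hs U b)
  convert this using 3
  exact beta_eq hp s hs U _ _

theorem beta_eq_comp (U : Y.Opens) (g : G) :
    beta hp s hs U g = (Pi.evalRingHom (fun _ : G => Γ(Y, U)) g).comp
      (Pi.ringHom (beta hp s hs U)) := by
  ext d
  rfl

include hp hs hfree in
theorem isOpenImmersion_cs (g : G) : IsOpenImmersion (cs (ρ := ρ) s g) := by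
  haveI := hp.affine
  haveI : Mono (cs (ρ := ρ) s g) := by
    haveI : Mono (cs (ρ := ρ) s g ≫ p) := by
      rw [cs_p hp s hs g]
      infer_instance
    exact mono_of_mono (cs (ρ := ρ) s g) p
  haveI : Flat (cs (ρ := ρ) s g) := by
    rw [HasRingHomProperty.iff_exists_appLE (P := @Flat)
      (RingHom.Flat.stableUnderComposition.stableUnderCompositionWithLocalizationAway
        RingHom.Flat.holdsForLocalizationAway).left]
    intro y
    obtain ⟨U, hU, hyU⟩ := exists_affine_nhd y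
    refine ⟨⟨p ⁻¹ᵁ U, hU.preimage p⟩, ⟨U, hU⟩, hyU, le_cs_preimage hp s hs g U, ?_⟩
    change (beta hp s hs U g).Flat
    rw [beta_eq_comp]
    exact RingHom.Flat.stableUnderComposition _ _
      (RingHom.Flat.of_bijective (bijective_beta hp hfree s hs hU)) (flat_evalRingHom _ g)
  haveI : LocallyOfFinitePresentation (cs (ρ := ρ) s g) := by
    rw [HasRingHomProperty.iff_exists_appLE (P := @LocallyOfFinitePresentation)
      (RingHom.finitePresentation_stableUnderComposition.stableUnderCompositionWithLocalizationAway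
        RingHom.finitePresentation_holdsForLocalizationAway).left]
    intro y
    obtain ⟨U, hU, hyU⟩ := exists_affine_nhd y
    refine ⟨⟨p ⁻¹ᵁ U, hU.preimage p⟩, ⟨U, hU⟩, hyU, le_cs_preimage hp s hs g U, ?_⟩
    change (beta hp s hs U g).FinitePresentation
    rw [beta_eq_comp]
    exact RingHom.finitePresentation_stableUnderComposition _ _
      (RingHom.FinitePresentation.of_bijective (bijective_beta hp hfree s hs hU))
      (finitePresentation_evalRingHom _ g)
  exact IsOpenImmersion.of_flat_of_mono _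

include hp hs hfree in
theorem disjoint_range_cs (g h : G) (hgh : g ≠ h) :
    Disjoint (Set.range (cs (ρ := ρ) s g)) (Set.range (cs (ρ := ρ) s h)) := by
  classical
  rw [Set.disjoint_left]
  rintro z ⟨y, rfl⟩ ⟨y', hy'⟩
  have hyy : y' = y := by
    have h1 := congrArg p hy'
    rw [← Scheme.Hom.comp_apply, ← Scheme.Hom.comp_apply, cs_p hp s hs, cs_p hp s hs] at h1
    exact h1
  subst hyy
  obtain ⟨U, hU, hyU⟩ := exists_affine_nhd y'
  obtain ⟨d, hd⟩ := (bijective_beta hp hfree s hs hU).2 (fun k => if k = g then 1 else 0)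
  have hdg : beta hp s hs U g d = 1 := by
    have := congr_fun hd g
    simpa using this
  have hdh : beta hp s hs U h d = 0 := by
    have := congr_fun hd h
    simpa [Ne.symm hgh] using this
  have h1 : y' ∈ Y.basicOpen (beta hp s hs U g d) := by
    rw [hdg, Scheme.basicOpen_of_isUnit _ isUnit_one]
    exact hyU
  have h2 : y' ∉ Y.basicOpen (beta hp s hs U h d) := by
    rw [hdh, Scheme.basicOpen_zero]
    exact fun h => h
  rw [beta, basicOpen_appLE] at h1 h2
  apply h2
  refine ⟨hyU, ?_⟩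
  change cs (ρ := ρ) s h y' ∈ X.basicOpen d
  rw [hy']
  exact h1.2

include hp hs hfree in
theorem result_2919 : IsIso (Sigma.desc (fun g : G => s ≫ (ρ g).hom) : (∐ fun _ : G => Y) ⟶ X) := by
  rw [isIso_iff_isOpenImmersion_and_surjective]
  constructor
  · haveI : ∀ g : G, IsOpenImmersion (s ≫ (ρ g).hom) := fun g => isOpenImmersion_cs hp hfree s hs g
    apply isOpenImmersion_sigmaDesc
    intro g h hgh
    exact disjoint_range_cs hp hfree s hs g h hgh
  · apply Surjective.sigmaDesc_of_union_range_eq_univ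
    rw [Set.eq_univ_iff_forall]
    intro x
    have h1 : p.base (s.base (p.base x)) = p.base x := by
      have := congr($hs (p.base x))
      simpa [Scheme.Hom.comp_apply] using this
    obtain ⟨g, hg⟩ := (fibre_iff_of_isQuot hp _ _).1 h1
    exact Set.mem_iUnion.2 ⟨g, p.base x, by rw [Scheme.Hom.comp_apply]; exact hg⟩

end Groth.Agent.Lib.helper2.QuotLib
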