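import Groth.Agent.Lib.Helper2.QuotGeom
import Mathlib

universe u
open CategoryTheory AlgebraicGeometry Opposite Limits

namespace Groth.Agent.Lib.helper2.QuotLib

variable {X S : Scheme.{u}} {G : Type u} [Group G] {ρ : G →* Aut X} {q : X ⟶ S}

theorem exists_comp_eq_of_same_point' 
    (h2 : ∀ x : X, @Normal (S.residueField (q x)) (X.residueField x) _ _ (q.residueFieldMap x).hom.toAlgebra)
    (h3 : ∀ (x : X) (σ : X.residueField x ≅ X.residueField x), q.residueFieldMap x ≫ σ.hom = q.residueFieldMap x → ∃ g : G, X.fromSpecResidueField x ≫ (ρ g).hom = Spec.map σ.hom ≫ X.fromSpecResidueField x)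
    (K : Type u) [Field K] (x : X)
    (a₁ a₂ : X.residueField x ⟶ CommRingCat.of K)
    (h : (Spec.map a₁ ≫ X.fromSpecResidueField x) ≫ q =
      (Spec.map a₂ ≫ X.fromSpecResidueField x) ≫ q) :
    ∃ g : G, Spec.map a₂ ≫ X.fromSpecResidueField x =
      (Spec.map a₁ ≫ X.fromSpecResidueField x) ≫ (ρ g).hom := by
  have h1 : q.residueFieldMap x ≫ a₁ = q.residueFieldMap x ≫ a₂ := by
    rw [kpt_comp, kpt_comp, cancel_mono] at h
    exact Spec.map_injective h
  letI := (q.residueFieldMap x).hom.toAlgebra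
  haveI := h2 x
  obtain ⟨τ, hτ'⟩ := exists_algEquiv_of_normal (k := S.residueField (q x))
    (L := X.residueField x) (K := K) a₁.hom a₂.hom (by
      ext z
      exact congr($h1 z))
  obtain ⟨g, hg⟩ := h3 x τ.toRingEquiv.toCommRingCatIso (by
    ext z
    exact τ.commutes z)
  refine ⟨g, ?_⟩
  have h2 : a₂ = τ.toRingEquiv.toCommRingCatIso.hom ≫ a₁ := by
    ext z
    exact (hτ' z).symm
  rw [Category.assoc, hg, h2, Spec.map_comp, Category.assoc]

theorem exists_comp_eq_of_comp_eq' (hρ : ∀ g : G, (ρ g).hom ≫ q = q)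
    (h1 : ∀ x y : X, q x = q y → ∃ g : G, (ρ g).hom x = y)
    (h2 : ∀ x : X, @Normal (S.residueField (q x)) (X.residueField x) _ _ (q.residueFieldMap x).hom.toAlgebra)
    (h3 : ∀ (x : X) (σ : X.residueField x ≅ X.residueField x), q.residueFieldMap x ≫ σ.hom = q.residueFieldMap x → ∃ g : G, X.fromSpecResidueField x ≫ (ρ g).hom = Spec.map σ.hom ≫ X.fromSpecResidueField x)
    (K : Type u) [Field K]
    (ζ₁ ζ₂ : Spec (CommRingCat.of K) ⟶ X) (h : ζ₁ ≫ q = ζ₂ ≫ q) :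
    ∃ g : G, ζ₁ ≫ (ρ g).hom = ζ₂ := by
  obtain ⟨⟨x₁, a₁⟩, rfl⟩ := (Scheme.SpecToEquivOfField K X).symm.surjective ζ₁
  obtain ⟨⟨x₂, a₂⟩, rfl⟩ := (Scheme.SpecToEquivOfField K X).symm.surjective ζ₂
  simp only [Scheme.SpecToEquivOfField_symm_apply] at h ⊢
  have hpt : q x₁ = q x₂ := by
    obtain ⟨z⟩ : Nonempty ↥(Spec (CommRingCat.of K)) := ⟨IsLocalRing.closedPoint K⟩
    have := congr($h z)
    simp only [Scheme.Hom.comp_apply, Scheme.fromSpecResidueField_apply] at this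
    exact this
  obtain ⟨g₀, hg₀⟩ := h1 x₁ x₂ hpt
  have h3' : (Spec.map a₁ ≫ X.fromSpecResidueField x₁) ≫ (ρ g₀).hom =
      Spec.map ((X.residueFieldCongr hg₀).inv ≫ (ρ g₀).hom.residueFieldMap x₁ ≫ a₁) ≫
        X.fromSpecResidueField x₂ := by
    rw [kpt_comp, kpt_congr hg₀]
  obtain ⟨g, hg⟩ := exists_comp_eq_of_same_point' h2 h3 K x₂ _ a₂ (by
    rw [← h3', Category.assoc, hρ g₀, h])
  refine ⟨g * g₀, ?_⟩
  rw [hg, ← h3', Category.assoc, rho_mul_hom]
  simp only [Category.assoc]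

end Groth.Agent.Lib.helper2.QuotLib
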