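import Groth.Agent.Lib.Helper2.QuotGeom2
import Mathlib

universe u
open CategoryTheory AlgebraicGeometry Opposite Limits

namespace Groth.Agent.Lib.helper2.QuotLib

variable {X S : Scheme.{u}} {G : Type u} [Group G] {ρ : G →* Aut X} {q : X ⟶ S}

/-- geometric transitivity implies transitivity on topological fibres -/
theorem fibre_trans_of_geomTrans
    (htrans : ∀ (Ω : Type u) [Field Ω] [IsAlgClosed Ω] (τ₁ τ₂ : Spec (CommRingCat.of Ω) ⟶ X),
      τ₁ ≫ q = τ₂ ≫ q → ∃ g : G, τ₁ ≫ (ρ g).hom = τ₂)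
    (x x' : X) (h : q x = q x') : ∃ g : G, (ρ g).hom x = x' := by
  obtain ⟨z, hz1, hz2⟩ := Scheme.Pullback.exists_preimage_pullback x x' h
  let Ω := AlgebraicClosure ((pullback q q).residueField z)
  let τ : Spec (CommRingCat.of Ω) ⟶ pullback q q :=
    Spec.map (CommRingCat.ofHom (algebraMap ((pullback q q).residueField z) Ω)) ≫
      (pullback q q).fromSpecResidueField z
  obtain ⟨g, hg⟩ := htrans Ω (τ ≫ pullback.fst q q) (τ ≫ pullback.snd q q) (by
    simp only [Category.assoc, pullback.condition])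
  refine ⟨g, ?_⟩
  obtain ⟨w⟩ : Nonempty ↥(Spec (CommRingCat.of Ω)) := ⟨IsLocalRing.closedPoint Ω⟩
  have hw : τ w = z := by
    simp only [τ, Scheme.Hom.comp_apply]
    exact Scheme.fromSpecResidueField_apply _ _
  have := congr($hg w)
  simp only [Scheme.Hom.comp_apply, hw, hz1, hz2] at this
  exact this

theorem irreducibleComponents_trans [IrreducibleSpace ↥S] [IsFinite q] [Surjective q] [Finite G]
    (hρ : ∀ g : G, (ρ g).hom ≫ q = q)
    (htrans : ∀ (Ω : Type u) [Field Ω] [IsAlgClosed Ω] (τ₁ τ₂ : Spec (CommRingCat.of Ω) ⟶ X),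
      τ₁ ≫ q = τ₂ ≫ q → ∃ g : G, τ₁ ≫ (ρ g).hom = τ₂) :
    (∀ T ∈ irreducibleComponents ↥X, Set.image (fun x => q x) T = Set.univ) ∧
    ∀ T₁ ∈ irreducibleComponents ↥X, ∀ T₂ ∈ irreducibleComponents ↥X,
      ∃ g : G, Set.image (fun x => (ρ g).hom x) T₁ = T₂ := by
  -- a component dominating S
  obtain ⟨x₀, hx₀⟩ := ‹Surjective q›.surj (genericPoint S)
  set T₀ := irreducibleComponent x₀ with hT₀
  have hT₀irr : IsIrreducible T₀ := isIrreducible_irreducibleComponent
  have hT₀cl : IsClosed T₀ := isClosed_irreducibleComponent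
  have hqT₀ : Set.image (fun x => q x) T₀ = Set.univ := by
    have hcl : IsClosed (Set.image (fun x => q x) T₀) := q.isClosedMap _ hT₀cl
    rw [Set.eq_univ_iff_forall]
    intro s
    have : genericPoint S ∈ Set.image (fun x => q x) T₀ := ⟨x₀, mem_irreducibleComponent, hx₀⟩
    have h2 := hcl.closure_subset_iff.2 (Set.singleton_subset_iff.2 this)
    rw [genericPoint_spec S] at h2
    exact h2 (Set.mem_univ s)
  have himg : ∀ g : G, IsIrreducible (Set.image (fun x => (ρ g).hom x) T₀) := fun g =>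
    hT₀irr.image _ ((ρ g).hom.continuous.continuousOn)
  have himgcl : ∀ g : G, IsClosed (Set.image (fun x => (ρ g).hom x) T₀) := fun g =>
    (Scheme.homeoOfIso (ρ g)).isClosedMap _ hT₀cl
  have hqg : ∀ (g : G) (x : X), q ((ρ g).hom x) = q x := fun g x => by
    rw [← Scheme.Hom.comp_apply, hρ g]
  have hcov : ∀ x : X, ∃ g : G, x ∈ Set.image (fun x => (ρ g).hom x) T₀ := by
    intro x
    have : q x ∈ Set.image (fun x => q x) T₀ := hqT₀ ▸ Set.mem_univ _
    obtain ⟨x', hx', hx'q⟩ := this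
    obtain ⟨g, hg⟩ := fibre_trans_of_geomTrans htrans x' x hx'q
    exact ⟨g, x', hx', hg⟩
  have key : ∀ T ∈ irreducibleComponents ↥X, ∃ g : G, Set.image (fun x => (ρ g).hom x) T₀ = T := by
    intro T hT
    have hTirr : IsIrreducible T := hT.1
    classical
    haveI := Fintype.ofFinite G
    obtain ⟨Z, hZ, hTZ⟩ := isIrreducible_iff_sUnion_isClosed.1 hTirr
      (Finset.univ.image (fun g : G => Set.image (fun x => (ρ g).hom x) T₀))
      (by
        intro z hz
        obtain ⟨g, -, rfl⟩ := Finset.mem_image.1 hz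
        exact himgcl g)
      (by
        intro x _
        obtain ⟨g, hg⟩ := hcov x
        exact Set.mem_sUnion.2 ⟨_, Finset.mem_coe.2 (Finset.mem_image.2 ⟨g, Finset.mem_univ _, rfl⟩), hg⟩)
    obtain ⟨g, -, rfl⟩ := Finset.mem_image.1 hZ
    exact ⟨g, (hT.2 (himg g) hTZ).antisymm hTZ |>.symm ▸ rfl⟩
  refine ⟨fun T hT => ?_, fun T₁ hT₁ T₂ hT₂ => ?_⟩
  · obtain ⟨g, rfl⟩ := key T hT
    rw [Set.eq_univ_iff_forall]
    intro s
    have : s ∈ Set.image (fun x => q x) T₀ := hqT₀ ▸ Set.mem_univ _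
    obtain ⟨x', hx', rfl⟩ := this
    exact ⟨(ρ g).hom x', ⟨x', hx', rfl⟩, hqg g x'⟩
  · obtain ⟨g₁, rfl⟩ := key T₁ hT₁
    obtain ⟨g₂, rfl⟩ := key T₂ hT₂
    refine ⟨g₂ * g₁⁻¹, ?_⟩
    rw [Set.image_image]
    have : ∀ x : X, (ρ (g₂ * g₁⁻¹)).hom ((ρ g₁).hom x) = (ρ g₂).hom x := by
      intro x
      rw [← Scheme.Hom.comp_apply, ← rho_mul_hom]
      simp
    simp only [this]

end Groth.Agent.Lib.helper2.QuotLib
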