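import Groth.Agent.Lib.Helper2.QuotBC
import Groth.Agent.Lib.Helper2.QuotNormal
import Mathlib

universe u
open CategoryTheory AlgebraicGeometry Opposite Limits

namespace Groth.Agent.Lib.helper2.QuotLib

theorem isQuot_two_step {G H : Type u} [Group G] [Group H] {Z Z₁ Z₂ : Scheme.{u}}
    (θ : G × H →* Aut Z) (π₁ : Z ⟶ Z₁) (h₁ : SGA1.IsQuot (θ.comp (MonoidHom.inl G H)) π₁)
    (σ' : H →* Aut Z₁) (hσ' : ∀ h : H, π₁ ≫ (σ' h).hom = (θ (1, h)).hom ≫ π₁)
    (π₂ : Z₁ ⟶ Z₂) (h₂ : SGA1.IsQuot σ' π₂) : SGA1.IsQuot θ (π₁ ≫ π₂) := by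
  haveI := h₁.affine
  haveI := h₂.affine
  have inv : ∀ gh : G × H, (θ gh).hom ≫ π₁ ≫ π₂ = π₁ ≫ π₂ := by
    rintro ⟨g, h⟩
    have h3 : ((g, h) : G × H) = (g, 1) * (1, h) := by simp
    rw [h3, rho_mul_hom, Category.assoc]
    have h4 : (θ (g, 1)).hom ≫ π₁ = π₁ := h₁.inv g
    rw [← Category.assoc (θ (g, 1)).hom, h4, ← Category.assoc, ← hσ', Category.assoc, h₂.inv]
  refine isQuot_of_secCond (π₁ ≫ π₂) inv inferInstance (fun U => ?_)
  have happ : ((π₁ ≫ π₂).app U).hom = (π₁.app (π₂ ⁻¹ᵁ U)).hom.comp (π₂.app U).hom := by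
    rw [Scheme.Hom.comp_app]; rfl
  constructor
  · rw [happ]
    exact (h₁.injective _).comp (h₂.injective U)
  · intro s hs
    rw [happ]
    obtain ⟨t, rfl⟩ := (h₁.range_iff (π₂ ⁻¹ᵁ U) s).2 (fun g => hs (g, 1))
    have ht : ∀ h : H, sig (isStable_preimage π₂ h₂.inv U) h t = t := by
      intro h
      apply h₁.injective
      have h5 := appLE_equivariant π₁ (θ (1, h)).hom (σ' h).hom (hσ' h) (π₂ ⁻¹ᵁ U)
        (isStable_preimage π₂ h₂.inv U h) (isStable_preimage (π₁ ≫ π₂) inv U (1, h))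
      have h6 := congr($h5 t)
      exact h6.trans (hs (1, h))
    obtain ⟨r, rfl⟩ := (h₂.range_iff U t).2 ht
    exact ⟨r, rfl⟩

section Prod

variable {S X Y XG YH : Scheme.{u}} {G H : Type u} [Group G] [Group H]
  (gX : XG ⟶ S) (fY : Y ⟶ S) (σ : H →* Aut Y) (hσ : ∀ h, (σ h).hom ≫ fY = fY)

include hσ in
theorem inv_comp (h : H) : (σ h).inv ≫ fY = fY := by
  rw [Iso.inv_comp_eq, hσ]

/-- the morphism `XG ×_S Y → XG ×_S Y` induced by an `S`-endomorphism of `Y` -/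
noncomputable def sndMap (a : Y ⟶ Y) (ha : a ≫ fY = fY) : pullback gX fY ⟶ pullback gX fY :=
  pullback.lift (pullback.fst gX fY) (pullback.snd gX fY ≫ a)
    (by rw [Category.assoc, ha, pullback.condition])

@[reassoc (attr := simp)] theorem sndMap_fst (a : Y ⟶ Y) (ha : a ≫ fY = fY) :
    sndMap gX fY a ha ≫ pullback.fst gX fY = pullback.fst gX fY := pullback.lift_fst _ _ _

@[reassoc (attr := simp)] theorem sndMap_snd (a : Y ⟶ Y) (ha : a ≫ fY = fY) :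
    sndMap gX fY a ha ≫ pullback.snd gX fY = pullback.snd gX fY ≫ a := pullback.lift_snd _ _ _

/-- the action of `H` on `XG ×_S Y` through the second factor -/
noncomputable def sndAct : H →* Aut (pullback gX fY) :=
  MonoidHom.mk' (fun h =>
    { hom := sndMap gX fY (σ h).hom (hσ h)
      inv := sndMap gX fY (σ h).inv (inv_comp fY σ hσ h)
      hom_inv_id := by apply pullback.hom_ext <;> simp
      inv_hom_id := by apply pullback.hom_ext <;> simp })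
    (fun a b => by
      apply Iso.ext
      apply pullback.hom_ext
      · simp [Aut.Aut_mul_def]
      · simp [Aut.Aut_mul_def])

theorem sndAct_fst (h : H) : (sndAct gX fY σ hσ h).hom ≫ pullback.fst gX fY = pullback.fst gX fY := by
  simp [sndAct]

theorem sndAct_snd (h : H) :
    (sndAct gX fY σ hσ h).hom ≫ pullback.snd gX fY = pullback.snd gX fY ≫ (σ h).hom := by
  simp [sndAct]

end Prod

section ProdMain

variable {S X Y XG YH : Scheme.{u}} {G H : Type u} [Group G] [Finite G] [Group H] [Finite H]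
  (gX : XG ⟶ S) (gY : YH ⟶ S) [Flat gX] (ρ : G →* Aut X) (σ : H →* Aut Y)
  (p : X ⟶ XG) (q : Y ⟶ YH) [Flat (q ≫ gY)]
  (hρ : ∀ g, (ρ g).hom ≫ p ≫ gX = p ≫ gX) (hσ : ∀ h, (σ h).hom ≫ q ≫ gY = q ≫ gY)
  (hP : SGA1.IsQuot ρ p) (hQ : SGA1.IsQuot σ q)
  (θ : G × H →* Aut (pullback (p ≫ gX) (q ≫ gY)))
  (hθ1 : ∀ gh : G × H, (θ gh).hom ≫ pullback.fst (p ≫ gX) (q ≫ gY) =
    pullback.fst (p ≫ gX) (q ≫ gY) ≫ (ρ gh.1).hom)
  (hθ2 : ∀ gh : G × H, (θ gh).hom ≫ pullback.snd (p ≫ gX) (q ≫ gY) =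
    pullback.snd (p ≫ gX) (q ≫ gY) ≫ (σ gh.2).hom)
  (π : pullback (p ≫ gX) (q ≫ gY) ⟶ pullback gX gY)
  (hπ1 : π ≫ pullback.fst gX gY = pullback.fst (p ≫ gX) (q ≫ gY) ≫ p)
  (hπ2 : π ≫ pullback.snd gX gY = pullback.snd (p ≫ gX) (q ≫ gY) ≫ q)

include hP hQ hθ1 hθ2 hπ1 hπ2 hσ in
theorem isQuot_prod : SGA1.IsQuot θ π := by
  -- intermediate maps
  let π₁ : pullback (p ≫ gX) (q ≫ gY) ⟶ pullback gX (q ≫ gY) :=
    pullback.lift (pullback.fst _ _ ≫ p) (pullback.snd _ _)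
      (by rw [Category.assoc, pullback.condition])
  let π₂ : pullback gX (q ≫ gY) ⟶ pullback gX gY :=
    pullback.lift (pullback.fst _ _) (pullback.snd _ _ ≫ q)
      (by rw [Category.assoc, pullback.condition])
  have hπ₁1 : π₁ ≫ pullback.fst gX (q ≫ gY) = pullback.fst _ _ ≫ p := pullback.lift_fst _ _ _
  have hπ₁2 : π₁ ≫ pullback.snd gX (q ≫ gY) = pullback.snd _ _ := pullback.lift_snd _ _ _
  have hπ₂1 : π₂ ≫ pullback.fst gX gY = pullback.fst _ _ := pullback.lift_fst _ _ _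
  have hπ₂2 : π₂ ≫ pullback.snd gX gY = pullback.snd _ _ ≫ q := pullback.lift_snd _ _ _
  have hπ : π = π₁ ≫ π₂ := by
    apply pullback.hom_ext
    · rw [hπ1, Category.assoc, hπ₂1, hπ₁1]
    · rw [hπ2, Category.assoc, hπ₂2, ← Category.assoc, hπ₁2]
  rw [hπ]
  have hρ1 : (ρ 1).hom = 𝟙 X := rho_one_hom ρ
  have hσ1 : (σ 1).hom = 𝟙 Y := rho_one_hom σ
  -- step A
  have hA : SGA1.IsQuot (θ.comp (MonoidHom.inl G H)) π₁ := by
    have hpb : IsPullback (pullback.fst (p ≫ gX) (q ≫ gY)) π₁ p (pullback.fst gX (q ≫ gY)) := by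
      refine IsPullback.of_bot ?_ hπ₁1.symm (IsPullback.of_hasPullback gX (q ≫ gY))
      rw [hπ₁2]
      exact IsPullback.of_hasPullback (p ≫ gX) (q ≫ gY)
    refine isQuot_baseChange_of_flat (ρ := ρ) (p := p) (qY := pullback.fst gX (q ≫ gY))
      (pX := pullback.fst (p ≫ gX) (q ≫ gY)) hP hpb (fun g => hθ1 (g, 1)) (fun g => ?_)
    apply pullback.hom_ext
    · show (θ (g, 1)).hom ≫ π₁ ≫ pullback.fst _ _ = π₁ ≫ pullback.fst _ _
      rw [hπ₁1, ← Category.assoc, hθ1, Category.assoc]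
      show _ ≫ (ρ g).hom ≫ p = _
      rw [hP.inv]
    · show (θ (g, 1)).hom ≫ π₁ ≫ pullback.snd _ _ = π₁ ≫ pullback.snd _ _
      rw [hπ₁2, hθ2]
      show _ ≫ (σ 1).hom = _
      rw [hσ1, Category.comp_id]
  -- step B
  have hB : SGA1.IsQuot (sndAct gX (q ≫ gY) σ hσ) π₂ := by
    have hpb : IsPullback (pullback.snd gX (q ≫ gY)) π₂ q (pullback.snd gX gY) := by
      refine IsPullback.of_bot ?_ hπ₂2.symm (IsPullback.of_hasPullback gX gY).flip
      rw [hπ₂1]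
      exact (IsPullback.of_hasPullback gX (q ≫ gY)).flip
    refine isQuot_baseChange_of_flat (ρ := σ) (p := q) (qY := pullback.snd gX gY)
      (pX := pullback.snd gX (q ≫ gY)) hQ hpb (fun h => sndAct_snd gX (q ≫ gY) σ hσ h)
      (fun h => ?_)
    apply pullback.hom_ext
    · rw [Category.assoc, hπ₂1, sndAct_fst]
    · rw [Category.assoc, hπ₂2, ← Category.assoc, sndAct_snd, Category.assoc, hQ.inv]
  refine isQuot_two_step θ π₁ hA (sndAct gX (q ≫ gY) σ hσ) (fun h => ?_) π₂ hB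
  apply pullback.hom_ext
  · rw [Category.assoc, sndAct_fst, Category.assoc, hπ₁1, ← Category.assoc, hθ1, Category.assoc]
    show _ = _ ≫ (ρ 1).hom ≫ p
    rw [hρ1, Category.id_comp]
  · rw [Category.assoc, sndAct_snd, ← Category.assoc, hπ₁2, Category.assoc, hπ₁2, hθ2]

end ProdMain

end Groth.Agent.Lib.helper2.QuotLib
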