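import Groth.Agent.Lib.Helper2.QuotRing2

/-!
# Residue field extensions for rings of invariants (plain-hypothesis form)
-/

namespace Groth.Agent.Lib.helper2.QuotRing

open Function
open scoped Pointwise

variable {G : Type*} [Group G] [Finite G] {A B : Type*} [CommRing A] [CommRing B]
  {φ : B →+* A} {σ : G → A →+* A}

theorem Data.residue_main (hd : Data φ σ) {K L : Type*} [Field K] [Field L]
    (evA : A →+* L) (evB : B →+* K) (κ : K →+* L)
    (hnat : ∀ b, κ (evB b) = evA (φ b))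
    (hA : ∀ z : L, ∃ a s, z = evA a / evA s)
    (hB : ∀ z : K, ∃ b s, z = evB b / evB s) :
    (letI := κ.toAlgebra; Normal K L) ∧
    ∀ τ : L ≃+* L, (∀ k, τ (κ k) = κ k) →
      ∃ g : G, (RingHom.ker evA).comap (σ g) = RingHom.ker evA ∧ ∀ a, τ (evA a) = evA (σ g a) := by
  letI := hd.action
  letI := φ.toAlgebra
  haveI := hd.isInvariant
  haveI := hd.smulCommClass
  let Q : Ideal A := RingHom.ker evA
  let P : Ideal B := RingHom.ker evB
  haveI hQ : Q.IsPrime := RingHom.ker_isPrime evA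
  haveI hP : P.IsPrime := RingHom.ker_isPrime evB
  have hPQ : P = Q.comap φ := by
    ext b
    simp only [P, Q, RingHom.mem_ker, Ideal.mem_comap]
    rw [← hnat]
    exact (map_eq_zero κ).symm
  haveI : Q.LiesOver P := ⟨hPQ⟩
  letI algBK : Algebra (B ⧸ P) K := (Ideal.Quotient.lift P evB (fun b hb => hb)).toAlgebra
  letI algAL : Algebra (A ⧸ Q) L := (Ideal.Quotient.lift Q evA (fun a ha => ha)).toAlgebra
  letI algKL : Algebra K L := κ.toAlgebra
  letI algBL : Algebra (B ⧸ P) L := ((algebraMap K L).comp (algebraMap (B ⧸ P) K)).toAlgebra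
  haveI : IsScalarTower (B ⧸ P) K L := IsScalarTower.of_algebraMap_eq (fun _ => rfl)
  haveI : IsScalarTower (B ⧸ P) (A ⧸ Q) L := by
    refine IsScalarTower.of_algebraMap_eq (fun z => ?_)
    obtain ⟨b, rfl⟩ := Ideal.Quotient.mk_surjective z
    show κ (evB b) = _
    rw [hnat]
    rfl
  have injB : Injective (algebraMap (B ⧸ P) K) := by
    rw [injective_iff_map_eq_zero]
    intro z hz
    obtain ⟨b, rfl⟩ := Ideal.Quotient.mk_surjective z
    exact Ideal.Quotient.eq_zero_iff_mem.2 hz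
  have injA : Injective (algebraMap (A ⧸ Q) L) := by
    rw [injective_iff_map_eq_zero]
    intro z hz
    obtain ⟨a, rfl⟩ := Ideal.Quotient.mk_surjective z
    exact Ideal.Quotient.eq_zero_iff_mem.2 hz
  haveI : FaithfulSMul (B ⧸ P) K := (faithfulSMul_iff_algebraMap_injective _ _).2 injB
  haveI : FaithfulSMul (A ⧸ Q) L := (faithfulSMul_iff_algebraMap_injective _ _).2 injA
  haveI : IsFractionRing (B ⧸ P) K := IsFractionRing.of_field _ _ (fun z => by
    obtain ⟨b, s, h⟩ := hB z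
    exact ⟨Ideal.Quotient.mk P b, Ideal.Quotient.mk P s, h⟩)
  haveI : IsFractionRing (A ⧸ Q) L := IsFractionRing.of_field _ _ (fun z => by
    obtain ⟨a, s, h⟩ := hA z
    exact ⟨Ideal.Quotient.mk Q a, Ideal.Quotient.mk Q s, h⟩)
  refine ⟨Ideal.IsFractionRing.normal G P Q K L, fun τ hτ => ?_⟩
  let τ' : Gal(L/K) := AlgEquiv.ofRingEquiv (f := τ) hτ
  obtain ⟨g, hg⟩ := IsFractionRing.stabilizerHom_surjective G P Q K L τ'
  refine ⟨g.1⁻¹, ?_, fun a => ?_⟩
  · have h1 : g.1⁻¹ • Q = Q := (g⁻¹).2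
    rw [Ideal.pointwise_smul_eq_comap] at h1
    show Q.comap (σ g.1⁻¹) = Q
    conv_rhs => rw [← h1]
    ext a
    simp only [Ideal.mem_comap]
    have : (RingEquiv.symm ((MulSemiringAction.toRingAut G A) g.1⁻¹)) a = σ g.1⁻¹ a := by
      show (g.1⁻¹)⁻¹ • a = σ g.1⁻¹ a
      rw [smul_def, inv_inv]
    rw [this]
  · have h2 := IsFractionRing.stabilizerHom_apply_apply_mk G P Q K L g a
    rw [hg] at h2
    exact h2

end Groth.Agent.Lib.helper2.QuotRing
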