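import Groth.Agent.Lib.Helper2.QuotPts
import Groth.Agent.Lib.Helper2.ResRing

universe u
open CategoryTheory AlgebraicGeometry Opposite Limits

namespace Groth.Agent.Lib.helper2.QuotLib

variable {X Y : Scheme.{u}}

theorem primeIdealOf_asIdeal_eq_ker {V : X.Opens} (hV : IsAffineOpen V) (x : X) (hx : x ∈ V) :
    (hV.primeIdealOf ⟨x, hx⟩).asIdeal = RingHom.ker (X.evaluation V x hx).hom := by
  rw [hV.primeIdealOf_eq_map_closedPoint]
  ext a
  rw [RingHom.mem_ker]
  show (X.presheaf.germ V x hx).hom a ∈ IsLocalRing.maximalIdeal _ ↔ _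
  rw [← IsLocalRing.residue_eq_zero_iff]
  rfl

theorem exists_evaluation_div {V : X.Opens} (hV : IsAffineOpen V) (x : X) (hx : x ∈ V)
    (z : X.residueField x) :
    ∃ a s : Γ(X, V), z = (X.evaluation V x hx).hom a / (X.evaluation V x hx).hom s := by
  obtain ⟨t, rfl⟩ := X.residue_surjective x z
  letI : Algebra Γ(X, V) (X.presheaf.stalk x) :=
    TopCat.Presheaf.algebra_section_stalk X.presheaf ⟨x, hx⟩
  haveI : IsLocalization.AtPrime (X.presheaf.stalk x) (hV.primeIdealOf ⟨x, hx⟩).asIdeal :=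
    hV.isLocalization_stalk ⟨x, hx⟩
  obtain ⟨⟨a, s⟩, h⟩ := IsLocalization.surj (hV.primeIdealOf ⟨x, hx⟩).asIdeal.primeCompl t
  refine ⟨a, s.1, ?_⟩
  have hs : (X.evaluation V x hx).hom s.1 ≠ 0 := by
    have h1 : s.1 ∉ RingHom.ker (X.evaluation V x hx).hom := by
      rw [← primeIdealOf_asIdeal_eq_ker hV x hx]
      exact s.2
    exact h1
  rw [eq_div_iff hs]
  have h2 := congrArg (X.residue x).hom h
  simp only [map_mul] at h2
  exact h2

theorem residueFieldCongr_inv_evaluation {V : X.Opens} (x x' : X) (e : x' = x) (hx : x ∈ V)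
    (hx' : x' ∈ V) (a : Γ(X, V)) :
    (X.residueFieldCongr e).inv ((X.evaluation V x hx).hom a) = (X.evaluation V x' hx').hom a := by
  subst e
  simp

theorem evaluation_res {V V' : X.Opens} (hle : V' ≤ V) (x : X) (hx : x ∈ V') (a : Γ(X, V)) :
    (X.evaluation V' x hx).hom (X.presheaf.map (homOfLE hle).op a) =
      (X.evaluation V x (hle hx)).hom a := by
  simp only [Scheme.evaluation, CommRingCat.hom_comp, RingHom.coe_comp, Function.comp_apply]
  congr 1
  exact TopCat.Presheaf.germ_res_apply X.presheaf (homOfLE hle) x hx a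

variable {G : Type u} [Group G] {ρ : G →* Aut X}

theorem evaluation_sig {V : X.Opens} (hs : IsStable ρ V) (g : G) (x : X) (hx : x ∈ V)
    (e : (ρ g).hom.base x = x) (a : Γ(X, V)) :
    (ρ g).hom.residueFieldMap x ((X.residueFieldCongr e).inv ((X.evaluation V x hx).hom a)) =
      (X.evaluation V x hx).hom (sig hs g a) := by
  have hx' : (ρ g).hom.base x ∈ V := by rw [e]; exact hx
  rw [residueFieldCongr_inv_evaluation x _ e hx hx' a]
  have h1 := Scheme.evaluation_naturality_apply (ρ g).hom (V := V) x hx' a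
  refine h1.trans ?_
  have h2 : sig hs g a = X.presheaf.map (homOfLE (hs g)).op ((ρ g).hom.app V a) := rfl
  rw [h2, evaluation_res]

theorem stab_of_comap_ker {V : X.Opens} (hV : IsAffineOpen V) (hs : IsStable ρ V) (g : G) (x : X)
    (hx : x ∈ V)
    (h : (RingHom.ker (X.evaluation V x hx).hom).comap (sig hs g) =
      RingHom.ker (X.evaluation V x hx).hom) :
    (ρ g).hom.base x = x := by
  have h1 := rho_fromSpec hV hs g (hV.primeIdealOf ⟨x, hx⟩)
  rw [hV.fromSpec_primeIdealOf ⟨x, hx⟩] at h1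
  rw [h1]
  have h2 : (Spec.map (CommRingCat.ofHom (sig hs g))).base (hV.primeIdealOf ⟨x, hx⟩) =
      hV.primeIdealOf ⟨x, hx⟩ := by
    apply PrimeSpectrum.ext
    show (hV.primeIdealOf ⟨x, hx⟩).asIdeal.comap (sig hs g) = _
    rw [primeIdealOf_asIdeal_eq_ker hV x hx]
    exact h
  rw [h2]
  exact hV.fromSpec_primeIdealOf ⟨x, hx⟩

end Groth.Agent.Lib.helper2.QuotLib

namespace Groth.Agent.Lib.helper2.QuotLib

variable {X Y : Scheme.{u}} {G : Type u} [Group G] [Finite G] {ρ : G →* Aut X} {p : X ⟶ Y}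

theorem residue_main (hp : SGA1.IsQuot ρ p) (x : X) :
    (letI := (p.residueFieldMap x).hom.toAlgebra
     Normal (Y.residueField (p.base x)) (X.residueField x)) ∧
    ∀ τ : X.residueField x ≅ X.residueField x,
      p.residueFieldMap x ≫ τ.hom = p.residueFieldMap x →
      ∃ (g : G) (e : (ρ g).hom.base x = x),
        τ.hom = (X.residueFieldCongr e).inv ≫ (ρ g).hom.residueFieldMap x := by
  haveI := hp.affine
  obtain ⟨U, hU, hyU⟩ := exists_affine_nhd (p.base x)
  have hV : IsAffineOpen (p ⁻¹ᵁ U) := hU.preimage p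
  have hx : x ∈ p ⁻¹ᵁ U := hyU
  have hs := isStable_preimage p hp.inv U
  have hd := data_of_isQuot hp U
  have key := hd.residue_main (K := Y.residueField (p.base x)) (L := X.residueField x)
    (X.evaluation (p ⁻¹ᵁ U) x hx).hom (Y.evaluation U (p.base x) hyU).hom
    (p.residueFieldMap x).hom
    (fun b => Scheme.evaluation_naturality_apply p x hyU b)
    (exists_evaluation_div hV x hx) (exists_evaluation_div hU (p.base x) hyU)
  refine ⟨key.1, fun τ hτ => ?_⟩
  obtain ⟨g, hg1, hg2⟩ := key.2 τ.commRingCatIsoToRingEquiv (fun k => by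
    exact congr($hτ k))
  have e : (ρ g).hom.base x = x := stab_of_comap_ker hV hs g x hx hg1
  refine ⟨g, e, ?_⟩
  ext z
  obtain ⟨a, s, rfl⟩ := exists_evaluation_div hV x hx z
  have h1 : ∀ a : Γ(X, p ⁻¹ᵁ U), τ.hom.hom ((X.evaluation (p ⁻¹ᵁ U) x hx).hom a) =
      ((X.residueFieldCongr e).inv ≫ (ρ g).hom.residueFieldMap x).hom
        ((X.evaluation (p ⁻¹ᵁ U) x hx).hom a) := by
    intro a
    refine (hg2 a).trans ?_
    exact (evaluation_sig hs g x hx e a).symm
  rw [map_div₀, map_div₀, h1, h1]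

end Groth.Agent.Lib.helper2.QuotLib
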