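import Groth.Agent.Lib.Helper2.QuotGeom
import Groth.Agent.Lib.Helper2.Quot13082
import Groth.Agent.S13596
import Groth.Prelude.Def_Flat
import Mathlib

universe u
open CategoryTheory AlgebraicGeometry Opposite Limits

namespace Groth.Agent.Lib.helper2.QuotLib

/-- universally closed + universally injective + surjective ⟹ universal homeomorphism. -/
theorem isUnivHomeo_of_universallyClosed {X Y : Scheme.{u}} (f : X ⟶ Y) [UniversallyClosed f]
    [UniversallyInjective f] [Surjective f] : FlatMor.IsUnivHomeo f := by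
  intro X' Y' i₁ i₂ f' h
  have h1 : UniversallyClosed f' := MorphismProperty.of_isPullback h.flip ‹_›
  have h2 : UniversallyInjective f' := MorphismProperty.of_isPullback h.flip ‹_›
  have h3 : Surjective f' := MorphismProperty.of_isPullback h.flip ‹_›
  exact isHomeomorph_iff_continuous_isClosedMap_bijective.2
    ⟨f'.continuous, f'.isClosedMap, f'.injective, f'.surjective⟩

/-- the canonical map to the scheme-theoretic image of a quasi-compact morphism is
scheme-theoretically dominant -/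
theorem ker_toImage_eq_bot {X Y : Scheme.{u}} (c : X ⟶ Y) [QuasiCompact c] :
    c.toImage.ker = ⊥ := by
  rw [eq_bot_iff]
  have haff : ∀ U : Y.affineOpens, IsAffineOpen (c.imageι ⁻¹ᵁ U.1) := fun U =>
    U.2.preimage c.imageι
  refine Scheme.IdealSheafData.le_of_iSup_eq_top
    (fun U : Y.affineOpens => (⟨c.imageι ⁻¹ᵁ U.1, haff U⟩ : c.image.affineOpens)) ?_ ?_
  · rw [eq_top_iff]
    intro z _
    obtain ⟨_, ⟨U, hU, rfl⟩, hz, -⟩ := Y.isBasis_affineOpens.exists_subset_of_mem_open
      (Set.mem_univ (c.imageι z)) isOpen_univ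
    exact TopologicalSpace.Opens.mem_iSup.2 ⟨⟨U, hU⟩, hz⟩
  · intro U
    refine (Scheme.Hom.ideal_ker_le _ _).trans ?_
    rw [Scheme.IdealSheafData.ideal_bot, Pi.bot_apply, le_bot_iff,
      ← RingHom.injective_iff_ker_eq_bot]
    exact c.toImage_app_injective U

theorem universallyInjective_of_comp {X Y Z : Scheme.{u}} (f : X ⟶ Y) (g : Y ⟶ Z)
    [h : UniversallyInjective (f ≫ g)] : UniversallyInjective f := by
  refine ((tfae_universallyInjective f).out 0 1).2 (fun K hK g₁ g₂ h12 => ?_)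
  have h' := ((tfae_universallyInjective (f ≫ g)).out 0 1).1 h
  refine @h' K hK g₁ g₂ ?_
  dsimp only at h12 ⊢
  rw [← Category.assoc, ← Category.assoc, h12]

variable {X Y Z W : Scheme.{u}} {G : Type u} [Group G] [Finite G]

theorem result_13177_aux (ρ : G →* Aut X) (q : X ⟶ Y) (hquot : SGA1.IsQuot ρ q)
    (i : Z ⟶ X) [IsClosedImmersion i] (ρZ : G →* Aut Z)
    (hρZ : ∀ σ : G, (ρZ σ).hom ≫ i = i ≫ (ρ σ).hom)
    (r : Z ⟶ W) (hr : SGA1.IsQuot ρZ r) (c : Z ⟶ Y) (hc : c = i ≫ q)
    (m : W ⟶ c.ker.subscheme) (hm : r ≫ m ≫ c.ker.subschemeι = c) :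
    FlatMor.IsUnivHomeo m ∧ IsSchemeTheoreticallyDominant m := by
  haveI : IsIntegralHom q := Groth.Agent.S13596.result ρ q hquot
  haveI : IsIntegralHom r := Groth.Agent.S13596.result ρZ r hr
  haveI : Surjective r := ⟨surjective_of_isQuot hr⟩
  haveI : IsIntegralHom c := by rw [hc]; infer_instance
  obtain ⟨hinj, hrange⟩ := result_13082 hquot i ρZ hρZ r hr (m ≫ c.ker.subschemeι)
    (hm.trans hc)
  haveI : UniversallyInjective m := universallyInjective_of_comp m c.ker.subschemeι
  haveI : UniversallyClosed (r ≫ m ≫ c.ker.subschemeι) := by rw [hm]; infer_instance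
  haveI : UniversallyClosed (m ≫ c.ker.subschemeι) := UniversallyClosed.of_comp_surjective r _
  haveI : UniversallyClosed m := UniversallyClosed.of_comp_of_isSeparated m c.ker.subschemeι
  have hrm : r ≫ m = c.toImage := by
    rw [← cancel_mono c.imageι, Scheme.Hom.toImage_imageι, Category.assoc]
    exact hm
  haveI : Surjective m := by
    constructor
    intro z
    have hz : c.ker.subschemeι z ∈ closure (Set.range c) := by
      rw [← Scheme.Hom.support_ker]
      exact (c.ker.range_subschemeι ▸ Set.mem_range_self z)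
    have hcl : IsClosed (Set.range c) := c.isClosedMap.isClosed_range
    rw [hcl.closure_eq] at hz
    obtain ⟨z0, hz0⟩ := hz
    refine ⟨r z0, ?_⟩
    apply c.ker.subschemeι.injective
    rw [← hz0, ← Scheme.Hom.comp_apply, ← Scheme.Hom.comp_apply, hm]
  refine ⟨isUnivHomeo_of_universallyClosed m, ⟨?_⟩⟩
  rw [eq_bot_iff, ← ker_toImage_eq_bot c, ← hrm, Scheme.Hom.ker_comp]
  exact (Scheme.IdealSheafData.map_bot m).symm.le.trans (Scheme.IdealSheafData.map_mono m bot_le)

theorem result_13177 (ρ : G →* Aut X) (q : X ⟶ Y) (hquot : SGA1.IsQuot ρ q)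
    (i : Z ⟶ X) [IsClosedImmersion i] (ρZ : G →* Aut Z)
    (hρZ : ∀ σ : G, (ρZ σ).hom ≫ i = i ≫ (ρ σ).hom)
    (r : Z ⟶ W) (hr : SGA1.IsQuot ρZ r)
    (m : W ⟶ (i ≫ q).ker.subscheme) (hm : r ≫ m ≫ (i ≫ q).ker.subschemeι = i ≫ q) :
    FlatMor.IsUnivHomeo m ∧ IsSchemeTheoreticallyDominant m :=
  result_13177_aux ρ q hquot i ρZ hρZ r hr (i ≫ q) rfl m hm


theorem result_13176 {X Y S S' Y' : Scheme.{u}} {G : Type u} [Group G] [Finite G]
    (ρ : G →* Aut X) (f : X ⟶ S)
    (q : X ⟶ Y) (h : Y ⟶ S) (hq : q ≫ h = f) (hquot : SGA1.IsQuot ρ q)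
    (g : S' ⟶ S)
    (ρ' : G →* Aut (pullback f g))
    (hρ' : ∀ σ : G, (ρ' σ).hom ≫ pullback.fst f g = pullback.fst f g ≫ (ρ σ).hom ∧
      (ρ' σ).hom ≫ pullback.snd f g = pullback.snd f g)
    (r : pullback f g ⟶ Y') (hr : SGA1.IsQuot ρ' r)
    (m : Y' ⟶ pullback h g)
    (hm : r ≫ m = pullback.map f g h g q (𝟙 S') (𝟙 S)
      ((Category.comp_id f).trans hq.symm) ((Category.comp_id g).trans (Category.id_comp g).symm)) :
    FlatMor.IsUnivHomeo m := by
  set q' := pullback.map f g h g q (𝟙 S') (𝟙 S)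
      ((Category.comp_id f).trans hq.symm) ((Category.comp_id g).trans (Category.id_comp g).symm)
    with hq'
  have hq'1 : q' ≫ pullback.fst h g = pullback.fst f g ≫ q := pullback.lift_fst _ _ _
  have hq'2 : q' ≫ pullback.snd h g = pullback.snd f g :=
    (pullback.lift_snd _ _ _).trans (Category.comp_id _)
  haveI : IsIntegralHom q := Groth.Agent.S13596.result ρ q hquot
  haveI : Surjective q := ⟨surjective_of_isQuot hquot⟩
  haveI : Surjective r := ⟨surjective_of_isQuot hr⟩
  have hpb : IsPullback q' (pullback.fst f g) (pullback.fst h g) q := by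
    refine IsPullback.of_right ?_ hq'1 (IsPullback.of_hasPullback h g).flip
    rw [hq'2, hq]
    exact (IsPullback.of_hasPullback f g).flip
  haveI : IsIntegralHom q' := MorphismProperty.of_isPullback hpb.flip ‹_›
  haveI : Surjective q' := MorphismProperty.of_isPullback hpb.flip ‹_›
  haveI : UniversallyClosed (r ≫ m) := by rw [hm]; infer_instance
  haveI : Surjective (r ≫ m) := by rw [hm]; infer_instance
  haveI : UniversallyClosed m := UniversallyClosed.of_comp_surjective r m
  haveI : Surjective m := Surjective.of_comp r m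
  haveI : UniversallyInjective m := by
    refine ((tfae_universallyInjective m).out 0 3).2 ?_
    refine ⟨fun w => ?_⟩
    obtain ⟨ω, hω⟩ : ∃ ω, ω = (pullback m m).fromSpecResidueField w := ⟨_, rfl⟩
    obtain ⟨η₁, hη₁⟩ : ∃ η₁, η₁ = ω ≫ pullback.fst m m := ⟨_, rfl⟩
    obtain ⟨η₂, hη₂⟩ : ∃ η₂, η₂ = ω ≫ pullback.snd m m := ⟨_, rfl⟩
    have hη : η₁ ≫ m = η₂ ≫ m := by
      rw [hη₁, hη₂, Category.assoc, Category.assoc, pullback.condition]
    -- a point of the iterated fibre product
    obtain ⟨z1, -⟩ := (pullback.fst η₁ r).surjective (IsLocalRing.closedPoint _)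
    obtain ⟨z, -⟩ := (pullback.fst (pullback.fst η₁ r ≫ η₂) r).surjective z1
    obtain ⟨K', _, ξ₁, ξ₂, π, e1, e2⟩ : ∃ (K' : Type u) (_ : Field K')
        (ξ₁ ξ₂ : Spec (CommRingCat.of K') ⟶ pullback f g)
        (π : Spec (CommRingCat.of K') ⟶ Spec ((pullback m m).residueField w)),
        ξ₁ ≫ r = π ≫ η₁ ∧ ξ₂ ≫ r = π ≫ η₂ := by
      refine ⟨(pullback (pullback.fst η₁ r ≫ η₂) r).residueField z, inferInstance,
        (pullback (pullback.fst η₁ r ≫ η₂) r).fromSpecResidueField z ≫
          pullback.fst _ r ≫ pullback.snd η₁ r,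
        (pullback (pullback.fst η₁ r ≫ η₂) r).fromSpecResidueField z ≫ pullback.snd _ r,
        (pullback (pullback.fst η₁ r ≫ η₂) r).fromSpecResidueField z ≫
          pullback.fst _ r ≫ pullback.fst η₁ r, ?_, ?_⟩
      · simp only [Category.assoc, pullback.condition]
      · simp only [Category.assoc]
        rw [← pullback.condition]
    have e3 : ξ₁ ≫ q' = ξ₂ ≫ q' := by
      calc ξ₁ ≫ q' = (ξ₁ ≫ r) ≫ m := by rw [Category.assoc, hm]
        _ = π ≫ η₁ ≫ m := by rw [e1, Category.assoc]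
        _ = π ≫ η₂ ≫ m := by rw [hη]
        _ = (ξ₂ ≫ r) ≫ m := by rw [e2, Category.assoc]
        _ = ξ₂ ≫ q' := by rw [Category.assoc, hm]
    obtain ⟨γ, hγ⟩ := exists_comp_eq_of_comp_eq hquot K'
      (ξ₁ ≫ pullback.fst f g) (ξ₂ ≫ pullback.fst f g) (by
        rw [Category.assoc, Category.assoc, ← hq'1, ← Category.assoc, ← Category.assoc, e3])
    have e4 : ξ₂ = ξ₁ ≫ (ρ' γ).hom := by
      apply pullback.hom_ext
      · rw [hγ, Category.assoc, Category.assoc, (hρ' γ).1]
      · rw [Category.assoc, (hρ' γ).2, ← hq'2, ← Category.assoc, ← Category.assoc, e3]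
    have e5 : π ≫ η₂ = π ≫ η₁ := by
      rw [← e2, ← e1, e4, Category.assoc, hr.inv γ]
    have e6 : π ≫ ω = (π ≫ η₁) ≫ pullback.diagonal m := by
      apply pullback.hom_ext
      · rw [Category.assoc, Category.assoc, pullback.diagonal_fst, Category.comp_id, hη₁]
      · rw [Category.assoc, Category.assoc, pullback.diagonal_snd, Category.comp_id, ← e5, hη₂]
    obtain ⟨z'⟩ : Nonempty ↥(Spec (CommRingCat.of K')) := ⟨IsLocalRing.closedPoint K'⟩
    refine ⟨(π ≫ η₁) z', ?_⟩
    rw [← Scheme.Hom.comp_apply, ← e6, Scheme.Hom.comp_apply, hω,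
      Scheme.fromSpecResidueField_apply]
  exact isUnivHomeo_of_universallyClosed m

end Groth.Agent.Lib.helper2.QuotLib
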