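import Mathlib
import Groth.Prelude.Def_CAlgX
import Groth.Agent.Lib.Helper2.SB5

/-!
# Serre splitting / Bass cancellation, part 6 (helper2): Serre's splitting theorem
-/

set_option autoImplicit false
universe u

namespace Groth.Agent.Lib.helper2.SB

open Module

variable {R : Type u} [CommRing R]

section split

variable {P : Type u} [AddCommGroup P] [Module R P]

/-- splitting off a unimodular element -/
noncomputable def splitEquiv (ψ : P →ₗ[R] R) (q : P) (hq : ψ q = 1) :
    P ≃ₗ[R] (LinearMap.ker ψ × R) :=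
  LinearEquiv.ofLinearMap
    ((LinearMap.codRestrict (LinearMap.ker ψ)
      (LinearMap.id - (LinearMap.toSpanSingleton R P q) ∘ₗ ψ)
      (fun y => by
        rw [LinearMap.mem_ker]
        simp [hq])).prod ψ)
    ((LinearMap.ker ψ).subtype.coprod (LinearMap.toSpanSingleton R P q))
    (by
      apply LinearMap.ext
      rintro ⟨⟨z, hz⟩, b⟩
      rw [LinearMap.mem_ker] at hz
      apply Prod.ext
      · apply Subtype.ext
        simp [hz, hq]
      · simp [hz, hq])
    (by
      apply LinearMap.ext
      intro y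
      simp)

theorem projective_ker_of_unimodular [Module.Projective R P] (ψ : P →ₗ[R] R) (q : P)
    (hq : ψ q = 1) : Module.Projective R (LinearMap.ker ψ) := by
  refine Module.Projective.of_split (LinearMap.ker ψ).subtype
    ((LinearMap.fst R _ _) ∘ₗ (splitEquiv ψ q hq).toLinearMap) ?_
  apply LinearMap.ext
  rintro ⟨z, hz⟩
  rw [LinearMap.mem_ker] at hz
  apply Subtype.ext
  simp [splitEquiv, hz]

end split

theorem nontrivial_of_ringKrullDim_eq (d : ℕ) (hdim : ringKrullDim R = d) : Nontrivial R := by
  by_contra hne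
  rw [not_nontrivial_iff_subsingleton] at hne
  rw [ringKrullDim_eq_bot_of_subsingleton] at hdim
  exact WithBot.bot_ne_coe hdim

/-- Serre's splitting theorem, abstract form. -/
theorem serre_splitting_aux [IsNoetherianRing R] (d : ℕ) (hdim : ringKrullDim R = d) :
    ∀ (k : ℕ) (P : Type u) [AddCommGroup P] [Module R P] [Module.Finite R P]
      [Module.Projective R P],
      (∀ p : PrimeSpectrum R, Module.rankAtStalk (R := R) P p = d + k) →
      ∃ (P₀ : Type u) (_ : AddCommGroup P₀) (_ : Module R P₀),
        Nonempty (P ≃ₗ[R] P₀ × (Fin k → R)) := by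
  haveI := nontrivial_of_ringKrullDim_eq d hdim
  intro k
  induction k with
  | zero =>
    intro P _ _ _ _ _
    exact ⟨P, inferInstance, inferInstance, ⟨(LinearEquiv.prodUnique).symm⟩⟩
  | succ k ih =>
    intro P _ _ _ _ hrk
    obtain ⟨q, ψ, hq⟩ := exists_unimodular_add (P := P) d hdim
      (fun p => by rw [hrk p]; omega) 0 1 0 1 (by simp)
    set q' : P := 0 + (1 : R) • q with hq'
    haveI := projective_ker_of_unimodular ψ q' hq
    have e1 := splitEquiv ψ q' hq
    have hrk' : ∀ p : PrimeSpectrum R,
        Module.rankAtStalk (R := R) (LinearMap.ker ψ) p = d + k := by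
      intro p
      have h1 := Module.rankAtStalk_eq_of_equiv (R := R) e1
      rw [Module.rankAtStalk_prod, Module.rankAtStalk_self] at h1
      have h2 := congrFun h1 p
      rw [hrk p] at h2
      simp only [Pi.add_apply, Pi.one_apply] at h2
      omega
    obtain ⟨P₀, _, _, ⟨e2⟩⟩ := ih (LinearMap.ker ψ) hrk'
    refine ⟨P₀, inferInstance, inferInstance, ⟨?_⟩⟩
    exact e1.trans ((e2.prodCongr (LinearEquiv.refl R R)).trans
      ((LinearEquiv.prodAssoc R P₀ (Fin k → R) R).trans
        ((LinearEquiv.refl R P₀).prodCongr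
          ((LinearEquiv.prodComm R (Fin k → R) R).trans
            (Fin.consLinearEquiv R (fun _ : Fin (k + 1) => R))))))

theorem exists_isCompl_of_equiv_prod {P P₀ F : Type*} [AddCommGroup P] [Module R P]
    [AddCommGroup P₀] [Module R P₀] [AddCommGroup F] [Module R F] (e : P ≃ₗ[R] P₀ × F) :
    ∃ (A B : Submodule R P), IsCompl A B ∧ Nonempty (B ≃ₗ[R] F) := by
  refine ⟨(LinearMap.range (LinearMap.inl R P₀ F)).map e.symm.toLinearMap,
    (LinearMap.range (LinearMap.inr R P₀ F)).map e.symm.toLinearMap, ?_, ⟨?_⟩⟩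
  · exact (Submodule.orderIsoMapComap e.symm).isCompl LinearMap.isCompl_range_inl_inr
  · exact (e.symm.submoduleMap (LinearMap.range (LinearMap.inr R P₀ F))).symm.trans
      (LinearEquiv.ofInjective (LinearMap.inr R P₀ F) LinearMap.inr_injective).symm

/-- **Serre's splitting theorem.** -/
theorem serre_splitting [IsNoetherianRing R] (d n : ℕ) (hdim : ringKrullDim R = d)
    (P : Type u) [AddCommGroup P] [Module R P] [Module.Finite R P] [Module.Projective R P]
    (hrk : ∀ p : PrimeSpectrum R, Module.rankAtStalk (R := R) P p = n) (hnd : d < n) :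
    ∃ (P₀ Q : Submodule R P), IsCompl P₀ Q ∧ Nonempty (Q ≃ₗ[R] (Fin (n - d) → R)) := by
  obtain ⟨P₀, _, _, ⟨e⟩⟩ := serre_splitting_aux d hdim (n - d) P
    (fun p => by rw [hrk p]; omega)
  exact exists_isCompl_of_equiv_prod e

end Groth.Agent.Lib.helper2.SB
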