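import Mathlib
import Groth.Prelude.Def_CAlgX
import Groth.Agent.Lib.Helper2.SB6

/-!
# Serre splitting / Bass cancellation, part 7 (helper2): Bass cancellation
-/

set_option autoImplicit false
universe u

namespace Groth.Agent.Lib.helper2.SB

open Module

variable {R : Type u} [CommRing R]

section cancel

variable {P P' : Type u} [AddCommGroup P] [Module R P] [AddCommGroup P'] [Module R P']

/-- an isomorphism `P × R ≃ P' × R` fixing `(0,1)` induces `P ≃ P'` -/
noncomputable def cancelOfFix (τ : (P × R) ≃ₗ[R] (P' × R)) (h : τ (0, 1) = (0, 1)) :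
    P ≃ₗ[R] P' :=
  LinearEquiv.ofLinearMap
    ((LinearMap.fst R P' R) ∘ₗ τ.toLinearMap ∘ₗ (LinearMap.inl R P R))
    ((LinearMap.fst R P R) ∘ₗ τ.symm.toLinearMap ∘ₗ (LinearMap.inl R P' R))
    (by
      apply LinearMap.ext
      intro y'
      have h' : τ.symm (0, 1) = (0, 1) := by rw [← h, LinearEquiv.symm_apply_apply]
      simp only [LinearMap.coe_comp, LinearEquiv.coe_coe, Function.comp_apply,
        LinearMap.inl_apply, LinearMap.fst_apply, LinearMap.id_coe, id_eq]
      set w := τ.symm (y', 0) with hw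
      have h1 : (w.1, (0 : R)) = w - w.2 • ((0 : P), (1 : R)) := by
        apply Prod.ext <;> simp
      rw [h1, map_sub, map_smul, h, hw, LinearEquiv.apply_symm_apply]
      simp)
    (by
      apply LinearMap.ext
      intro y
      have h' : τ.symm (0, 1) = (0, 1) := by rw [← h, LinearEquiv.symm_apply_apply]
      simp only [LinearMap.coe_comp, LinearEquiv.coe_coe, Function.comp_apply,
        LinearMap.inl_apply, LinearMap.fst_apply, LinearMap.id_coe, id_eq]
      set w := τ (y, 0) with hw
      have h1 : (w.1, (0 : R)) = w - w.2 • ((0 : P'), (1 : R)) := by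
        apply Prod.ext <;> simp
      rw [h1, map_sub, map_smul, h', hw, LinearEquiv.symm_apply_apply]
      simp)

/-- shear `(y, b) ↦ (y + b • q, b)` -/
noncomputable def shearL (q : P) : (P × R) ≃ₗ[R] (P × R) :=
  (LinearEquiv.prodComm R P R).trans
    (((LinearEquiv.refl R R).skewProd (LinearEquiv.refl R P)
      (LinearMap.toSpanSingleton R P q)).trans (LinearEquiv.prodComm R R P))

theorem shearL_apply (q : P) (y : P) (b : R) : shearL q (y, b) = (y + b • q, b) := by
  simp [shearL]

/-- shear `(y, b) ↦ (y, b + f y)` -/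
noncomputable def shearR (f : P →ₗ[R] R) : (P × R) ≃ₗ[R] (P × R) :=
  (LinearEquiv.refl R P).skewProd (LinearEquiv.refl R R) f

theorem shearR_apply (f : P →ₗ[R] R) (y : P) (b : R) : shearR f (y, b) = (y, b + f y) := by
  simp [shearR]

/-- **One-step cancellation** -/
theorem cancel_one [IsNoetherianRing R] [Module.Finite R P] [Module.Projective R P]
    (D : ℕ) (hD : ringKrullDim R = D)
    (hrk : ∀ p : PrimeSpectrum R, D + 1 ≤ Module.rankAtStalk P p)
    (e : (P × R) ≃ₗ[R] (P' × R)) : Nonempty (P ≃ₗ[R] P') := by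
  set x : P := (e.symm (0, 1)).1 with hx
  set a : R := (e.symm (0, 1)).2 with ha
  set φ : P →ₗ[R] R := (LinearMap.snd R P' R) ∘ₗ e.toLinearMap ∘ₗ (LinearMap.inl R P R) with hφ
  set r : R := (e (0, 1)).2 with hr
  have hxa : e (x, a) = (0, 1) := by
    rw [hx, ha]; simp
  have h1 : r * a + φ x = 1 := by
    have h2 : ((x, a) : P × R) = a • ((0 : P), (1 : R)) + (x, (0 : R)) := by
      apply Prod.ext <;> simp
    have h3 := congrArg Prod.snd hxa
    rw [h2, map_add, map_smul] at h3
    simp only [Prod.snd_add, Prod.smul_snd, smul_eq_mul] at h3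
    rw [mul_comm]
    exact h3
  obtain ⟨q, ψ, hq⟩ := exists_unimodular_add D hD hrk x a φ r h1
  generalize hx' : x + a • q = x' at hq
  set σ : (P × R) ≃ₗ[R] (P × R) :=
    (shearL q).trans ((shearR ((1 - a) • ψ)).trans (shearL (-x'))) with hσ
  have hσxa : σ (x, a) = (0, 1) := by
    rw [hσ]
    simp only [LinearEquiv.trans_apply, shearL_apply, shearR_apply, hx', LinearMap.smul_apply, hq]
    apply Prod.ext
    · simp
    · simp
  have hτ : (σ.symm.trans e) (0, 1) = (0, 1) := by
    rw [LinearEquiv.trans_apply, ← hσxa, LinearEquiv.symm_apply_apply, hxa]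
  exact ⟨cancelOfFix (σ.symm.trans e) hτ⟩

end cancel

theorem rankAtStalk_prod_pi [Nontrivial R] (P : Type u) [AddCommGroup P] [Module R P]
    [Module.Finite R P] [Module.Projective R P] (m : ℕ) (p : PrimeSpectrum R) :
    Module.rankAtStalk (R := R) (P × (Fin m → R)) p = Module.rankAtStalk P p + m := by
  rw [Module.rankAtStalk_prod, Pi.add_apply, Module.rankAtStalk_eq_finrank_of_free (M := Fin m → R)]
  simp

/-- **Bass cancellation** -/
theorem bass_cancellation [IsNoetherianRing R] (d n : ℕ) (hdim : ringKrullDim R = d)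
    (P P' : Type u) [AddCommGroup P] [Module R P] [Module.Finite R P] [Module.Projective R P]
    [AddCommGroup P'] [Module R P'] [Module.Finite R P'] [Module.Projective R P']
    (hrk : ∀ p : PrimeSpectrum R, Module.rankAtStalk (R := R) P p = n) (hnd : d < n)
    (m : ℕ) (e : (P × (Fin m → R)) ≃ₗ[R] (P' × (Fin m → R))) :
    Nonempty (P ≃ₗ[R] P') := by
  haveI := nontrivial_of_ringKrullDim_eq d hdim
  induction m with
  | zero =>
    exact ⟨(LinearEquiv.prodUnique (R := R) (M := P) (M₂ := Fin 0 → R)).symm.trans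
      (e.trans LinearEquiv.prodUnique)⟩
  | succ m ih =>
    apply ih
    -- (P × R^m) × R ≃ P × R^(m+1)
    have f : ∀ (A : Type u) [AddCommGroup A] [Module R A],
        ((A × (Fin m → R)) × R) ≃ₗ[R] (A × (Fin (m + 1) → R)) := fun A _ _ =>
      (LinearEquiv.prodAssoc R A (Fin m → R) R).trans
        ((LinearEquiv.refl R A).prodCongr
          ((LinearEquiv.prodComm R (Fin m → R) R).trans
            (Fin.consLinearEquiv R (fun _ : Fin (m + 1) => R))))
    have e' : ((P × (Fin m → R)) × R) ≃ₗ[R] ((P' × (Fin m → R)) × R) :=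
      (f P).trans (e.trans (f P').symm)
    exact (cancel_one d hdim (fun p => by rw [rankAtStalk_prod_pi, hrk p]; omega) e').some

end Groth.Agent.Lib.helper2.SB
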