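import Mathlib
import Groth.Prelude.Def_CAlgX
import Groth.Agent.Lib.Helper2.SB7

/-!
# Serre splitting / Bass cancellation, part 8 (helper2): stably isomorphic ⇒ isomorphic powers
-/

set_option autoImplicit false
universe u

namespace Groth.Agent.Lib.helper2.SB

open Module

variable {R : Type u} [CommRing R]

/-- stable isomorphism passes to powers (same free summand) -/
theorem stable_pow {P Q F : Type u} [AddCommGroup P] [Module R P] [AddCommGroup Q] [Module R Q]
    [AddCommGroup F] [Module R F] (e : (P × F) ≃ₗ[R] (Q × F)) (N : ℕ) :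
    Nonempty (((Fin N → P) × F) ≃ₗ[R] ((Fin N → Q) × F)) := by
  induction N with
  | zero =>
    exact ⟨(LinearEquiv.uniqueProd (R := R) (M := F) (M₂ := Fin 0 → P)).trans
      (LinearEquiv.uniqueProd (R := R) (M := F) (M₂ := Fin 0 → Q)).symm⟩
  | succ N ih =>
    obtain ⟨ih⟩ := ih
    set A := Fin N → P
    set B := Fin N → Q
    have g : ((P × A) × F) ≃ₗ[R] ((Q × B) × F) :=
      (((LinearEquiv.prodComm R P A).prodCongr (LinearEquiv.refl R F)).trans
        (LinearEquiv.prodAssoc R A P F)).trans
      (((LinearEquiv.refl R A).prodCongr e).trans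
      ((LinearEquiv.prodAssoc R A Q F).symm.trans
      (((LinearEquiv.prodComm R A Q).prodCongr (LinearEquiv.refl R F)).trans
      ((LinearEquiv.prodAssoc R Q A F).trans
      (((LinearEquiv.refl R Q).prodCongr ih).trans
      (LinearEquiv.prodAssoc R Q B F).symm)))))
    exact ⟨(((Fin.consLinearEquiv R (fun _ : Fin (N + 1) => P)).symm.prodCongr
      (LinearEquiv.refl R F)).trans g).trans
      ((Fin.consLinearEquiv R (fun _ : Fin (N + 1) => Q)).prodCongr (LinearEquiv.refl R F))⟩

theorem projective_pow (P : Type u) [AddCommGroup P] [Module R P] [Module.Projective R P]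
    (N : ℕ) : Module.Projective R (Fin N → P) := by
  induction N with
  | zero => infer_instance
  | succ N ih =>
    haveI := ih
    exact Module.Projective.of_equiv (Fin.consLinearEquiv R (fun _ : Fin (N + 1) => P))

theorem rankAtStalk_pow (P : Type u) [AddCommGroup P] [Module R P]
    [Module.Finite R P] [Module.Projective R P] (N : ℕ) (p : PrimeSpectrum R) :
    Module.rankAtStalk (R := R) (Fin N → P) p = N * Module.rankAtStalk P p := by
  haveI : Module.Flat R P := inferInstance
  rw [Module.rankAtStalk_pi, finsum_eq_sum_of_fintype]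
  simp

/-- stably isomorphic projectives of constant rank have isomorphic powers -/
theorem exists_pow_equiv [IsNoetherianRing R] (d n : ℕ) (hdim : ringKrullDim R = d)
    (P Q : Type u) [AddCommGroup P] [Module R P] [Module.Finite R P] [Module.Projective R P]
    [AddCommGroup Q] [Module R Q] [Module.Finite R Q] [Module.Projective R Q]
    (hrk : ∀ p : PrimeSpectrum R, Module.rankAtStalk (R := R) P p = n)
    (hrk' : ∀ p : PrimeSpectrum R, Module.rankAtStalk (R := R) Q p = n)
    (m : ℕ) (e : (P × (Fin m → R)) ≃ₗ[R] (Q × (Fin m → R))) :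
    ∃ N : ℕ, 1 ≤ N ∧ Nonempty ((Fin N → P) ≃ₗ[R] (Fin N → Q)) := by
  rcases Nat.eq_zero_or_pos n with hn | hn
  · subst hn
    haveI : Subsingleton P := Module.rankAtStalk_eq_zero_iff_subsingleton.mp (funext hrk)
    haveI : Subsingleton Q := Module.rankAtStalk_eq_zero_iff_subsingleton.mp (funext hrk')
    refine ⟨1, le_rfl, ⟨?_⟩⟩
    exact { toFun := fun _ => 0
            map_add' := fun _ _ => Subsingleton.elim _ _
            map_smul' := fun _ _ => Subsingleton.elim _ _
            invFun := fun _ => 0
            left_inv := fun _ => Subsingleton.elim _ _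
            right_inv := fun _ => Subsingleton.elim _ _ }
  · refine ⟨d + 1, by omega, ?_⟩
    obtain ⟨e'⟩ := stable_pow e (d + 1)
    haveI := projective_pow (R := R) P (d + 1)
    haveI := projective_pow (R := R) Q (d + 1)
    refine bass_cancellation d ((d + 1) * n) hdim (Fin (d + 1) → P) (Fin (d + 1) → Q)
      (fun p => by rw [rankAtStalk_pow, hrk p]) ?_ m e'
    nlinarith

end Groth.Agent.Lib.helper2.SB
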