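import Mathlib
import Groth.Prelude.Def_CAlgX
import Groth.Agent.Lib.Helper2.SBG2

/-!
# Basic elements modulo relations: identification with the fibre `κ(p) ⊗ M` (helper2)
-/

set_option autoImplicit false
universe u

namespace Groth.Agent.Lib.helper2.SBG

open Module TensorProduct Groth.Agent.Lib.helper2.SB

variable {R : Type u} [CommRing R] {N L : ℕ}
variable {M : Type u} [AddCommGroup M] [Module R M]

theorem piScalarRight_one_tmul (p : PrimeSpectrum R) (v : Fin N → R) :
    TensorProduct.piScalarRight R (kap p) (kap p) (Fin N) ((1 : kap p) ⊗ₜ[R] v) = red p v := by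
  ext j
  simp only [piScalarRight_apply, piScalarRightHom_tmul, red_apply]
  rw [Algebra.smul_def, mul_one]

theorem piScalarRight_tmul (p : PrimeSpectrum R) (c : kap p) (v : Fin N → R) :
    TensorProduct.piScalarRight R (kap p) (kap p) (Fin N) (c ⊗ₜ[R] v) = c • red p v := by
  ext j
  simp only [piScalarRight_apply, piScalarRightHom_tmul, red_apply, Pi.smul_apply, smul_eq_mul]
  rw [Algebra.smul_def, mul_comm]

/-- the map `κ(p)^N → κ(p) ⊗ M` induced by `π : R^N → M` -/
noncomputable def fibPres (π : (Fin N → R) →ₗ[R] M) (p : PrimeSpectrum R) :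
    (Fin N → kap p) →ₗ[kap p] kap p ⊗[R] M :=
  (π.baseChange (kap p)) ∘ₗ (TensorProduct.piScalarRight R (kap p) (kap p) (Fin N)).symm.toLinearMap

theorem fibPres_red (π : (Fin N → R) →ₗ[R] M) (p : PrimeSpectrum R) (v : Fin N → R) :
    fibPres π p (red p v) = (1 : kap p) ⊗ₜ[R] π v := by
  rw [fibPres, LinearMap.comp_apply, ← piScalarRight_one_tmul, LinearEquiv.coe_coe,
    LinearEquiv.symm_apply_apply, LinearMap.baseChange_tmul]

theorem fibPres_surjective (π : (Fin N → R) →ₗ[R] M) (hπ : Function.Surjective π)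
    (p : PrimeSpectrum R) : Function.Surjective (fibPres π p) := by
  have h1 : Function.Surjective (π.baseChange (kap p)) := by
    rw [LinearMap.baseChange_eq_ltensor]
    exact LinearMap.lTensor_surjective _ hπ
  exact h1.comp (TensorProduct.piScalarRight R (kap p) (kap p) (Fin N)).symm.surjective

theorem red_mem_Kp_of_mem_span (k : Fin L → (Fin N → R)) (p : PrimeSpectrum R)
    (z : Fin N → R) (hz : z ∈ Submodule.span R (Set.range k)) : red p z ∈ Kp k p := by
  induction hz using Submodule.span_induction with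
  | mem x hx =>
    obtain ⟨j, rfl⟩ := hx
    exact Submodule.subset_span ⟨j, rfl⟩
  | zero => rw [map_zero]; exact Submodule.zero_mem _
  | add x y _ _ hx hy => rw [map_add]; exact Submodule.add_mem _ hx hy
  | smul r x _ hx => rw [red_smul]; exact Submodule.smul_mem _ _ hx

theorem ker_fibPres (π : (Fin N → R) →ₗ[R] M) (hπ : Function.Surjective π)
    (k : Fin L → (Fin N → R)) (hker : LinearMap.ker π = Submodule.span R (Set.range k))
    (p : PrimeSpectrum R) : LinearMap.ker (fibPres π p) = Kp k p := by
  apply le_antisymm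
  · intro w hw
    rw [LinearMap.mem_ker, fibPres, LinearMap.comp_apply] at hw
    set t := (TensorProduct.piScalarRight R (kap p) (kap p) (Fin N)).symm w with ht
    have hw' : (π.lTensor (kap p)) t = 0 := by
      have := hw
      rw [LinearEquiv.coe_coe] at this
      rw [← LinearMap.baseChange_eq_ltensor]
      exact this
    have hex := lTensor_exact (kap p) (LinearMap.exact_subtype_ker_map π) hπ
    obtain ⟨t', ht'⟩ := (hex t).mp hw'
    have hwt : w = TensorProduct.piScalarRight R (kap p) (kap p) (Fin N) t := by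
      rw [ht, LinearEquiv.apply_symm_apply]
    rw [hwt, ← ht']
    clear ht' hwt hw' hw ht
    induction t' using TensorProduct.induction_on with
    | zero => simp
    | add a b ha hb =>
      rw [map_add, map_add]
      exact Submodule.add_mem _ ha hb
    | tmul c z =>
      rw [LinearMap.lTensor_tmul, piScalarRight_tmul]
      apply Submodule.smul_mem
      apply red_mem_Kp_of_mem_span
      rw [← hker]
      exact z.2
  · unfold Kp
    rw [Submodule.span_le]
    rintro _ ⟨j, rfl⟩
    rw [SetLike.mem_coe, LinearMap.mem_ker, fibPres_red]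
    have : π (k j) = 0 := by
      rw [← LinearMap.mem_ker, hker]
      exact Submodule.subset_span ⟨j, rfl⟩
    rw [this, tmul_zero]

/-- `κ(p)^N / relations ≃ κ(p) ⊗ M` -/
noncomputable def fibEquiv (π : (Fin N → R) →ₗ[R] M) (hπ : Function.Surjective π)
    (k : Fin L → (Fin N → R)) (hker : LinearMap.ker π = Submodule.span R (Set.range k))
    (p : PrimeSpectrum R) : Wq k p ≃ₗ[kap p] kap p ⊗[R] M :=
  (Submodule.quotEquivOfEq _ _ (ker_fibPres π hπ k hker p).symm).trans
    ((fibPres π p).quotKerEquivOfSurjective (fibPres_surjective π hπ p))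

theorem fibEquiv_rhoQ (π : (Fin N → R) →ₗ[R] M) (hπ : Function.Surjective π)
    (k : Fin L → (Fin N → R)) (hker : LinearMap.ker π = Submodule.span R (Set.range k))
    (p : PrimeSpectrum R) (v : Fin N → R) :
    fibEquiv π hπ k hker p (rhoQ k p v) = (1 : kap p) ⊗ₜ[R] π v := by
  rw [fibEquiv, LinearEquiv.trans_apply, rhoQ_apply, Submodule.mkQ_apply,
    Submodule.quotEquivOfEq_mk, LinearMap.quotKerEquivOfSurjective_apply_mk, fibPres_red]

theorem rhoQ_ne_zero_iff (π : (Fin N → R) →ₗ[R] M) (hπ : Function.Surjective π)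
    (k : Fin L → (Fin N → R)) (hker : LinearMap.ker π = Submodule.span R (Set.range k))
    (p : PrimeSpectrum R) (v : Fin N → R) :
    rhoQ k p v ≠ 0 ↔ (1 : kap p) ⊗ₜ[R] π v ≠ 0 := by
  rw [← fibEquiv_rhoQ π hπ k hker p v, Ne, Ne, LinearEquiv.map_eq_zero_iff]

theorem finrank_Wq (π : (Fin N → R) →ₗ[R] M) (hπ : Function.Surjective π)
    (k : Fin L → (Fin N → R)) (hker : LinearMap.ker π = Submodule.span R (Set.range k))
    (p : PrimeSpectrum R) : finrank (kap p) (Wq k p) = finrank (kap p) (kap p ⊗[R] M) :=
  (fibEquiv π hπ k hker p).finrank_eq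

end Groth.Agent.Lib.helper2.SBG
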