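import Mathlib
import Groth.Prelude.Def_CAlgX
import Groth.Agent.Lib.Helper2.SB6
import Groth.Agent.Lib.Helper2.SBG3

/-!
# Basic elements: local consequences (helper2)

If `M_p` is free of rank `r` and `m ∈ M` is basic at `p` (`1 ⊗ m ≠ 0` in `κ(p) ⊗ M`) then
`(M / R m)_p` is free of rank `r - 1` and `m` has no torsion at `p`.
-/

set_option autoImplicit false
universe u

namespace Groth.Agent.Lib.helper2.SBG

open Module TensorProduct Groth.Agent.Lib.helper2.SB

section local_algebra

variable {A : Type u} [CommRing A] [IsLocalRing A] {F : Type u} [AddCommGroup F] [Module A F]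

theorem quot_span_equiv (r : ℕ) (e : F ≃ₗ[A] (Fin r → A)) (x : F) (l' : F →ₗ[A] A)
    (hx : l' x = 1) : Nonempty ((F ⧸ Submodule.span A {x}) ≃ₗ[A] (Fin (r - 1) → A)) := by
  haveI : Module.Finite A F := Module.Finite.equiv e.symm
  haveI : Module.Free A F := Module.Free.of_equiv e.symm
  haveI : Module.Projective A (LinearMap.ker l') := projective_ker_of_unimodular l' x hx
  set se := splitEquiv l' x hx with hse
  haveI : Module.Finite A (LinearMap.ker l') :=
    Module.Finite.of_surjective ((LinearMap.fst A _ _) ∘ₗ se.toLinearMap)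
      ((LinearMap.fst_surjective (R := A) (M := LinearMap.ker l') (M₂ := A)).comp se.surjective)
  haveI : Module.Free A (LinearMap.ker l') := Module.free_of_flat_of_isLocalRing
  have hfr : finrank A (LinearMap.ker l') = r - 1 := by
    have h1 : finrank A F = r := by rw [e.finrank_eq]; simp
    have h2 := se.finrank_eq
    rw [Module.finrank_prod, Module.finrank_self, h1] at h2
    omega
  have b := Module.finBasisOfFinrankEq A (LinearMap.ker l') hfr
  set g : F →ₗ[A] LinearMap.ker l' := (LinearMap.fst A _ _) ∘ₗ se.toLinearMap with hg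
  have hgs : Function.Surjective g :=
    (LinearMap.fst_surjective (R := A) (M := LinearMap.ker l') (M₂ := A)).comp se.surjective
  have hgker : LinearMap.ker g = Submodule.span A {x} := by
    have hgy : ∀ y : F, ((g y : LinearMap.ker l') : F) = y - l' y • x := by
      intro y
      simp [hg, hse, splitEquiv]
    apply le_antisymm
    · intro y hy
      rw [LinearMap.mem_ker] at hy
      have h1 := hgy y
      rw [hy] at h1
      have h2 : y = l' y • x := by
        have : (0 : F) = y - l' y • x := h1
        exact sub_eq_zero.mp this.symm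
      rw [h2]
      exact Submodule.smul_mem _ _ (Submodule.subset_span rfl)
    · rw [Submodule.span_le, Set.singleton_subset_iff, SetLike.mem_coe, LinearMap.mem_ker]
      apply Subtype.ext
      rw [hgy, hx, one_smul, sub_self]
      rfl
  exact ⟨(Submodule.quotEquivOfEq _ _ hgker.symm).trans
    ((g.quotKerEquivOfSurjective hgs).trans b.equivFun)⟩

end local_algebra

variable {R : Type u} [CommRing R] {M : Type u} [AddCommGroup M] [Module R M]
variable (p : PrimeSpectrum R)

/-- `κ(p) ⊗_R M ≃ κ(p) ⊗_{R_p} M_p` -/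
noncomputable def fibLocEquiv :
    kap p ⊗[R] M ≃ₗ[kap p] kap p ⊗[Localization.AtPrime p.asIdeal]
      LocalizedModule p.asIdeal.primeCompl M :=
  (AlgebraTensorModule.cancelBaseChange R (Localization.AtPrime p.asIdeal) (kap p) (kap p) M).symm
    ≪≫ₗ (AlgebraTensorModule.congr (LinearEquiv.refl (kap p) (kap p))
      (LocalizedModule.equivTensorProduct p.asIdeal.primeCompl M).symm)

theorem fibLocEquiv_tmul (m : M) :
    fibLocEquiv p ((1 : kap p) ⊗ₜ[R] m) =
      (1 : kap p) ⊗ₜ[Localization.AtPrime p.asIdeal] (LocalizedModule.mk m 1) := by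
  simp [fibLocEquiv]

/-- the coordinates isomorphism on the fibre -/
noncomputable def fibCoord (r : ℕ)
    (e : LocalizedModule p.asIdeal.primeCompl M ≃ₗ[Localization.AtPrime p.asIdeal]
      (Fin r → Localization.AtPrime p.asIdeal)) :
    kap p ⊗[R] M ≃ₗ[kap p] (Fin r → kap p) :=
  (fibLocEquiv p) ≪≫ₗ (AlgebraTensorModule.congr (LinearEquiv.refl (kap p) (kap p)) e) ≪≫ₗ
    (TensorProduct.piScalarRight (Localization.AtPrime p.asIdeal) (kap p) (kap p) (Fin r))

theorem fibCoord_tmul (r : ℕ)
    (e : LocalizedModule p.asIdeal.primeCompl M ≃ₗ[Localization.AtPrime p.asIdeal]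
      (Fin r → Localization.AtPrime p.asIdeal)) (m : M) (i : Fin r) :
    fibCoord p r e ((1 : kap p) ⊗ₜ[R] m) i =
      algebraMap (Localization.AtPrime p.asIdeal) (kap p) (e (LocalizedModule.mk m 1) i) := by
  rw [fibCoord, LinearEquiv.trans_apply, LinearEquiv.trans_apply, fibLocEquiv_tmul,
    AlgebraTensorModule.congr_tmul, piScalarRight_apply, piScalarRightHom_tmul]
  simp only [LinearEquiv.refl_apply]
  rw [Algebra.smul_def, mul_one]

theorem finrank_fib_of_equiv (r : ℕ)
    (e : LocalizedModule p.asIdeal.primeCompl M ≃ₗ[Localization.AtPrime p.asIdeal]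
      (Fin r → Localization.AtPrime p.asIdeal)) :
    finrank (kap p) (kap p ⊗[R] M) = r := by
  rw [(fibCoord p r e).finrank_eq]
  simp

theorem exists_functional_of_tmul_ne_zero (r : ℕ)
    (e : LocalizedModule p.asIdeal.primeCompl M ≃ₗ[Localization.AtPrime p.asIdeal]
      (Fin r → Localization.AtPrime p.asIdeal)) (m : M) (h : (1 : kap p) ⊗ₜ[R] m ≠ 0) :
    ∃ l' : LocalizedModule p.asIdeal.primeCompl M →ₗ[Localization.AtPrime p.asIdeal]
      Localization.AtPrime p.asIdeal, l' (LocalizedModule.mk m 1) = 1 := by
  set x : LocalizedModule p.asIdeal.primeCompl M := LocalizedModule.mk m 1 with hx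
  have h1 : ∃ i, IsUnit (e x i) := by
    by_contra hcon
    push Not at hcon
    apply h
    apply (fibCoord p r e).injective
    rw [map_zero]
    ext i
    rw [fibCoord_tmul, Pi.zero_apply]
    have h2 : e x i ∈ IsLocalRing.maximalIdeal (Localization.AtPrime p.asIdeal) :=
      (IsLocalRing.mem_maximalIdeal _).mpr (hcon i)
    rw [IsLocalRing.ResidueField.algebraMap_eq]
    exact (IsLocalRing.residue_eq_zero_iff _).mpr h2
  obtain ⟨i, hi⟩ := h1
  refine ⟨(hi.unit⁻¹ : (Localization.AtPrime p.asIdeal)ˣ).val •
    ((LinearMap.proj i) ∘ₗ e.toLinearMap), ?_⟩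
  simp

theorem span_localized_singleton (m : M) :
    (Submodule.span R {m}).localized p.asIdeal.primeCompl =
      Submodule.span (Localization.AtPrime p.asIdeal)
        {(LocalizedModule.mk m 1 : LocalizedModule p.asIdeal.primeCompl M)} := by
  rw [Submodule.localized, Submodule.localized'_eq_span]
  have h1 : ((LocalizedModule.mkLinearMap p.asIdeal.primeCompl M) '' ↑(Submodule.span R {m})) =
      ((Submodule.span R {(LocalizedModule.mk m 1 : LocalizedModule p.asIdeal.primeCompl M)} :
        Submodule R _) : Set _) := by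
    rw [← Submodule.map_coe, Submodule.map_span, Set.image_singleton]
    rfl
  rw [h1, Submodule.span_span_of_tower]

/-- the local consequence of basicness -/
theorem loc_quot_equiv (r : ℕ)
    (e : LocalizedModule p.asIdeal.primeCompl M ≃ₗ[Localization.AtPrime p.asIdeal]
      (Fin r → Localization.AtPrime p.asIdeal)) (m : M) (h : (1 : kap p) ⊗ₜ[R] m ≠ 0) :
    Nonempty (LocalizedModule p.asIdeal.primeCompl (M ⧸ Submodule.span R {m})
        ≃ₗ[Localization.AtPrime p.asIdeal] (Fin (r - 1) → Localization.AtPrime p.asIdeal)) ∧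
      (∀ s : R, s • m = 0 → algebraMap R (Localization.AtPrime p.asIdeal) s = 0) := by
  obtain ⟨l', hl'⟩ := exists_functional_of_tmul_ne_zero p r e m h
  constructor
  · obtain ⟨e1⟩ := quot_span_equiv r e _ l' hl'
    have e2 := localizedQuotientEquiv p.asIdeal.primeCompl (Submodule.span R {m})
    exact ⟨e2.symm.trans ((Submodule.quotEquivOfEq _ _ (span_localized_singleton p m)).trans e1)⟩
  · intro s hs
    have h1 : s • (LocalizedModule.mk m 1 : LocalizedModule p.asIdeal.primeCompl M) = 0 := by
      rw [LocalizedModule.smul'_mk, hs, LocalizedModule.zero_mk]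
    have h2 := congrArg l' h1
    rw [LinearMap.map_smul_of_tower, hl', map_zero, Algebra.smul_def, mul_one] at h2
    exact h2

end Groth.Agent.Lib.helper2.SBG
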