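import Mathlib
import Groth.Prelude.Def_CAlgX
import Groth.Agent.Lib.Helper2.SBG4

/-!
# Basic elements at primes of height ≤ k: free submodules with locally free quotient (helper2)
-/

set_option autoImplicit false
universe u

namespace Groth.Agent.Lib.helper2.SBG

open Module TensorProduct Groth.Agent.Lib.helper2.SB

variable {A : Type u} [CommRing A] [IsNoetherianRing A]

/-- localization of a linear equivalence -/
noncomputable def locEquiv (p : PrimeSpectrum A) {M₁ M₂ : Type u} [AddCommGroup M₁] [Module A M₁]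
    [AddCommGroup M₂] [Module A M₂] (e : M₁ ≃ₗ[A] M₂) :
    LocalizedModule p.asIdeal.primeCompl M₁ ≃ₗ[Localization.AtPrime p.asIdeal]
      LocalizedModule p.asIdeal.primeCompl M₂ :=
  IsLocalizedModule.mapEquiv p.asIdeal.primeCompl
    (LocalizedModule.mkLinearMap p.asIdeal.primeCompl M₁)
    (LocalizedModule.mkLinearMap p.asIdeal.primeCompl M₂) _ e

theorem exists_basic_element (M : Type u) [AddCommGroup M] [Module A M] [Module.Finite A M]
    (k r : ℕ) (hkr : k + 1 ≤ r)
    (hM : ∀ p : PrimeSpectrum A, p.asIdeal.height ≤ k →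
      Nonempty (LocalizedModule p.asIdeal.primeCompl M ≃ₗ[Localization.AtPrime p.asIdeal]
        (Fin r → Localization.AtPrime p.asIdeal))) :
    ∃ m : M, ∀ p : PrimeSpectrum A, p.asIdeal.height ≤ k → (1 : kap p) ⊗ₜ[A] m ≠ 0 := by
  classical
  obtain ⟨n, f, hf⟩ := Module.Finite.exists_fin' A M
  set π : (Fin (n + 1) → A) →ₗ[A] M := f ∘ₗ (LinearMap.funLeft A A Fin.succ) with hπdef
  have hπ : Function.Surjective π :=
    hf.comp (LinearMap.funLeft_surjective_of_injective A A Fin.succ (Fin.succ_injective n))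
  obtain ⟨L, kf, hkf⟩ := (Submodule.fg_iff_exists_fin_generating_family).mp
    (IsNoetherian.noetherian (LinearMap.ker π))
  have hker : LinearMap.ker π = Submodule.span A (Set.range kf) := hkf.symm
  set X : Set (PrimeSpectrum A) := {p | p.asIdeal.height ≤ k} with hX
  set d : PrimeSpectrum A → ℕ := fun p => k - p.asIdeal.height.toNat with hd
  have htoNat : ∀ p ∈ X, (p.asIdeal.height.toNat : ℕ∞) = p.asIdeal.height := by
    intro p _
    exact ENat.natCast_toNat (Ideal.height_ne_top_of_isPrime (I := p.asIdeal))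
  have hle : ∀ p ∈ X, p.asIdeal.height.toNat ≤ k := by
    intro p hp
    have h1 : p.asIdeal.height ≤ (k : ℕ∞) := hp
    exact ENat.toNat_le_of_le_natCast h1
  have H1 : ∀ p ∈ X, ∀ q ∈ X, p.asIdeal < q.asIdeal → d q < d p := by
    intro p hp q hq hpq
    have h1 : p.asIdeal.height < q.asIdeal.height := Ideal.height_strict_mono_of_isPrime hpq
    rw [← htoNat p hp, ← htoNat q hq] at h1
    have h2 : p.asIdeal.height.toNat < q.asIdeal.height.toNat := by exact_mod_cast h1
    have h3 := hle q hq
    simp only [hd]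
    omega
  have hlower : ∀ p ∈ X, ∀ q : PrimeSpectrum A, q.asIdeal ≤ p.asIdeal → q ∈ X := by
    intro p hp q hqp
    exact (Ideal.height_mono hqp).trans hp
  have H2 := finite_minimal_rkG_le kf X hlower
  set m : Fin (n + 1) → (Fin (n + 1) → A) := fun i => Pi.single i (1 : A) with hm
  have hrk : ∀ p ∈ X, min (n + 1) (d p + 1) ≤ rkG (rhoQ kf) p m := by
    intro p hp
    obtain ⟨e⟩ := hM p hp
    rw [hm, rkG_rhoQ_single, finrank_Wq π hπ kf hker p, finrank_fib_of_equiv p r e]
    refine (min_le_right _ _).trans ?_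
    simp only [hd]
    omega
  have hbasic : ∀ p ∈ X, (1 : A) ∈ p.asIdeal → rhoQ kf p (m 0) ≠ 0 := by
    intro p _ h1
    exact absurd ((Ideal.eq_top_iff_one _).mpr h1) p.isPrime.ne_top
  obtain ⟨c, hc⟩ := exists_basic_combination (rhoQ kf) X d H1 H2 n m 1 hrk hbasic
  refine ⟨π (m 0 + (1 : A) • ∑ i, c i • m i.succ), fun p hp => ?_⟩
  exact (rhoQ_ne_zero_iff π hπ kf hker p _).mp (hc p hp)

theorem exists_step (M : Type u) [AddCommGroup M] [Module A M] [Module.Finite A M]
    (k r : ℕ) (hkr : k + 1 ≤ r)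
    (hAss : ∀ p ∈ associatedPrimes A A, p.height ≤ k)
    (hM : ∀ p : PrimeSpectrum A, p.asIdeal.height ≤ k →
      Nonempty (LocalizedModule p.asIdeal.primeCompl M ≃ₗ[Localization.AtPrime p.asIdeal]
        (Fin r → Localization.AtPrime p.asIdeal))) :
    ∃ m : M, (∀ s : A, s • m = 0 → s = 0) ∧ ∀ p : PrimeSpectrum A, p.asIdeal.height ≤ k →
      Nonempty (LocalizedModule p.asIdeal.primeCompl (M ⧸ Submodule.span A {m})
        ≃ₗ[Localization.AtPrime p.asIdeal] (Fin (r - 1) → Localization.AtPrime p.asIdeal)) := by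
  obtain ⟨m, hm⟩ := exists_basic_element M k r hkr hM
  refine ⟨m, ?_, fun p hp => ?_⟩
  · intro s hs
    by_contra hne
    obtain ⟨P, hP, hle⟩ := exists_le_isAssociatedPrime_of_isNoetherianRing (R := A) (M := A) s hne
    have hPprime : P.IsPrime := hP.isPrime
    have hPk : P.height ≤ k := hAss P hP
    obtain ⟨e⟩ := hM ⟨P, hPprime⟩ hPk
    have h0 := (loc_quot_equiv ⟨P, hPprime⟩ r e m (hm ⟨P, hPprime⟩ hPk)).2 s hs
    rw [IsLocalization.map_eq_zero_iff P.primeCompl] at h0
    obtain ⟨t, ht⟩ := h0
    have : (t : A) ∈ (⊥ : Submodule A A).colon {s} := by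
      rw [Submodule.mem_colon_singleton, Submodule.mem_bot, smul_eq_mul]
      exact ht
    exact t.2 (hle this)
  · obtain ⟨e⟩ := hM p hp
    exact (loc_quot_equiv p r e m (hm p hp)).1

theorem exists_free_map (k : ℕ) (hAss : ∀ p ∈ associatedPrimes A A, p.height ≤ k) :
    ∀ (j : ℕ) (M : Type u) [AddCommGroup M] [Module A M] [Module.Finite A M],
      (∀ p : PrimeSpectrum A, p.asIdeal.height ≤ k →
        Nonempty (LocalizedModule p.asIdeal.primeCompl M ≃ₗ[Localization.AtPrime p.asIdeal]
          (Fin (k + j) → Localization.AtPrime p.asIdeal))) →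
      ∃ f : (Fin j → A) →ₗ[A] M, Function.Injective f ∧
        ∀ p : PrimeSpectrum A, p.asIdeal.height ≤ k →
          Nonempty (LocalizedModule p.asIdeal.primeCompl (M ⧸ LinearMap.range f)
            ≃ₗ[Localization.AtPrime p.asIdeal] (Fin k → Localization.AtPrime p.asIdeal)) := by
  intro j
  induction j with
  | zero =>
    intro M _ _ _ hM
    refine ⟨0, fun a b _ => Subsingleton.elim a b, fun p hp => ?_⟩
    obtain ⟨e⟩ := hM p hp
    have h0 : LinearMap.range (0 : (Fin 0 → A) →ₗ[A] M) = ⊥ := LinearMap.range_zero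
    exact ⟨(locEquiv p ((Submodule.quotEquivOfEqBot _ h0))).trans e⟩
  | succ j ih =>
    intro M _ _ _ hM
    obtain ⟨m, hm0, hm⟩ := exists_step M k (k + (j + 1)) (by omega) hAss hM
    have hm' : ∀ p : PrimeSpectrum A, p.asIdeal.height ≤ k →
        Nonempty (LocalizedModule p.asIdeal.primeCompl (M ⧸ Submodule.span A {m})
          ≃ₗ[Localization.AtPrime p.asIdeal] (Fin (k + j) → Localization.AtPrime p.asIdeal)) :=
      fun p hp => hm p hp
    obtain ⟨f', hf'inj, hf'⟩ := ih (M ⧸ Submodule.span A {m}) hm'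
    obtain ⟨f'', hf''⟩ := Module.projective_lifting_property (Submodule.span A {m}).mkQ f'
      (Submodule.mkQ_surjective _)
    set f : (Fin (j + 1) → A) →ₗ[A] M :=
      ((LinearMap.toSpanSingleton A M m).coprod f'') ∘ₗ
        (Fin.consLinearEquiv A (fun _ : Fin (j + 1) => A)).symm.toLinearMap with hf
    have hfapp : ∀ c : Fin (j + 1) → A, f c = c 0 • m + f'' (fun i => c i.succ) := by
      intro c
      simp [hf, Fin.consLinearEquiv, Fin.consEquiv]
      rfl
    have hmk : ∀ c : Fin (j + 1) → A,
        (Submodule.span A {m}).mkQ (f c) = f' (fun i => c i.succ) := by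
      intro c
      rw [hfapp, map_add, ← hf'', LinearMap.comp_apply]
      have : (Submodule.span A {m}).mkQ (c 0 • m) = 0 := by
        rw [Submodule.mkQ_apply, Submodule.Quotient.mk_eq_zero]
        exact Submodule.smul_mem _ _ (Submodule.subset_span rfl)
      rw [this, zero_add]
    have hfinj : Function.Injective f := by
      rw [← LinearMap.ker_eq_bot, LinearMap.ker_eq_bot']
      intro c hc
      have h1 : f' (fun i => c i.succ) = 0 := by rw [← hmk, hc, map_zero]
      have h2 : (fun i : Fin j => c i.succ) = 0 := by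
        apply hf'inj
        rw [h1, map_zero]
      have h3 : c 0 • m = 0 := by
        have := hfapp c
        rw [hc, h2, map_zero, add_zero] at this
        exact this.symm
      have h4 := hm0 _ h3
      ext i
      induction i using Fin.cases with
      | zero => exact h4
      | succ i => exact congrFun h2 i
    have hle : Submodule.span A {m} ≤ LinearMap.range f := by
      rw [Submodule.span_le, Set.singleton_subset_iff]
      refine ⟨Pi.single 0 1, ?_⟩
      rw [hfapp]
      have : (fun i : Fin j => (Pi.single 0 1 : Fin (j + 1) → A) i.succ) = 0 := by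
        ext i
        simp [Fin.succ_ne_zero]
      rw [this, map_zero]
      simp
    have hmap : (LinearMap.range f).map (Submodule.span A {m}).mkQ = LinearMap.range f' := by
      ext y
      constructor
      · rintro ⟨_, ⟨c, rfl⟩, rfl⟩
        exact ⟨_, (hmk c).symm⟩
      · rintro ⟨c', rfl⟩
        refine ⟨f (Fin.cons 0 c'), ⟨_, rfl⟩, ?_⟩
        rw [hmk]
        simp
    refine ⟨f, hfinj, fun p hp => ?_⟩
    obtain ⟨e⟩ := hf' p hp
    have e1 := Submodule.quotientQuotientEquivQuotient (Submodule.span A {m})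
      (LinearMap.range f) hle
    have e2 := Submodule.quotEquivOfEq _ _ hmap
    exact ⟨(locEquiv p (e1.symm.trans e2)).trans e⟩

/-- **Free submodules with quotient free at primes of height `≤ k`.** -/
theorem exists_free_submodule_quotient_free (M : Type u) [AddCommGroup M] [Module A M]
    [Module.Finite A M] (k r : ℕ) (hkr : k ≤ r)
    (hAss : ∀ p ∈ associatedPrimes A A, p.height ≤ k)
    (hM : ∀ p : PrimeSpectrum A, p.asIdeal.height ≤ k →
      Nonempty (LocalizedModule p.asIdeal.primeCompl M ≃ₗ[Localization.AtPrime p.asIdeal]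
        (Fin r → Localization.AtPrime p.asIdeal))) :
    ∃ N : Submodule A M, Nonempty (N ≃ₗ[A] (Fin (r - k) → A)) ∧
      ∀ p : PrimeSpectrum A, p.asIdeal.height ≤ k →
        Nonempty (LocalizedModule p.asIdeal.primeCompl (M ⧸ N) ≃ₗ[Localization.AtPrime p.asIdeal]
          (Fin k → Localization.AtPrime p.asIdeal)) := by
  have hr : k + (r - k) = r := by omega
  obtain ⟨f, hfinj, hf⟩ := exists_free_map k hAss (r - k) M (by rw [hr]; exact hM)
  exact ⟨LinearMap.range f, ⟨(LinearEquiv.ofInjective f hfinj).symm⟩, hf⟩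

end Groth.Agent.Lib.helper2.SBG
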