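import Mathlib.LinearAlgebra.Matrix.SpecialLinearGroup
import Mathlib.LinearAlgebra.Matrix.NonsingularInverse
import Mathlib.RingTheory.RootsOfUnity.PrimitiveRoots
import Mathlib.Tactic.Ring
import Mathlib.Tactic.FieldSimp
import Mathlib.Tactic.LinearCombination
import Mathlib.Tactic.FinCases

/-!
# The element `[[c, c² - 1], [1, c]]` of `SL(2, K)` and roots of unity (helper2)

If `ξ` is a root of unity in an extension `L` of `K` with `ξ + ξ⁻¹ = 2c`, `ξ² ≠ 1`, then the matrix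
`σ c = [[c, c² - 1], [1, c]]` is conjugate over `L` to `diag(ξ, ξ⁻¹)`.
-/

set_option autoImplicit false

namespace Groth.Agent.Lib.helper2.SL2Root

open Matrix

variable {K : Type*} {L : Type*} [Field K] [Field L] [Algebra K L]

/-- The matrix `[[c, c² - 1], [1, c]]`. -/
def σ (c : K) : Matrix.SpecialLinearGroup (Fin 2) K :=
  ⟨!![c, c ^ 2 - 1; 1, c], by rw [Matrix.det_fin_two_of]; ring⟩

lemma σ_coe (c : K) : (σ c : Matrix (Fin 2) (Fin 2) K) = !![c, c ^ 2 - 1; 1, c] := rfl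

/-- The image of `σ c` in matrices over `L`. -/
def N (γ : L) : Matrix (Fin 2) (Fin 2) L := !![γ, γ ^ 2 - 1; 1, γ]

/-- The matrix of eigenvectors. -/
def P (ξ γ : L) : Matrix (Fin 2) (Fin 2) L := !![ξ - γ, ξ⁻¹ - γ; 1, 1]

lemma N_mul_P {ξ γ : L} (hξ : ξ ≠ 0) (hγ : 2 * γ = ξ + ξ⁻¹) :
    N γ * P ξ γ = P ξ γ * Matrix.diagonal ![ξ, ξ⁻¹] := by
  have h1 : ξ * ξ⁻¹ = 1 := mul_inv_cancel₀ hξ
  ext i j
  fin_cases i <;> fin_cases j
  · simp [N, P, Matrix.mul_apply, Fin.sum_univ_two]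
    linear_combination ξ * hγ + h1
  · simp [N, P, Matrix.mul_apply, Fin.sum_univ_two]
    linear_combination ξ⁻¹ * hγ + h1
  · simp [N, P, Matrix.mul_apply, Fin.sum_univ_two]
  · simp [N, P, Matrix.mul_apply, Fin.sum_univ_two]

lemma N_pow_mul_P {ξ γ : L} (hξ : ξ ≠ 0) (hγ : 2 * γ = ξ + ξ⁻¹) (k : ℕ) :
    N γ ^ k * P ξ γ = P ξ γ * Matrix.diagonal ![ξ ^ k, ξ⁻¹ ^ k] := by
  induction k with
  | zero =>
    have : Matrix.diagonal ![(1 : L), 1] = 1 := by
      ext i j; fin_cases i <;> fin_cases j <;> simp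
    simp [this]
  | succ k ih =>
    rw [pow_succ, Matrix.mul_assoc, N_mul_P hξ hγ, ← Matrix.mul_assoc, ih, Matrix.mul_assoc,
      Matrix.diagonal_mul_diagonal]
    congr 2
    funext i
    fin_cases i <;> simp [pow_succ]

lemma det_P (ξ γ : L) : (P ξ γ).det = ξ - ξ⁻¹ := by
  rw [P, Matrix.det_fin_two_of]; ring

lemma isUnit_P {ξ γ : L} (h : ξ - ξ⁻¹ ≠ 0) : IsUnit (P ξ γ) := by
  rw [Matrix.isUnit_iff_isUnit_det, det_P]
  exact isUnit_iff_ne_zero.2 h

/-- `N ^ k` is the scalar matrix `s` as soon as `ξ ^ k = s = ξ⁻¹ ^ k`. -/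
lemma N_pow_eq_scalar {ξ γ : L} (hξ : ξ ≠ 0) (hγ : 2 * γ = ξ + ξ⁻¹) (h : ξ - ξ⁻¹ ≠ 0) (k : ℕ)
    (s : L) (h1 : ξ ^ k = s) (h2 : ξ⁻¹ ^ k = s) : N γ ^ k = Matrix.scalar (Fin 2) s := by
  have hP := isUnit_P (γ := γ) h
  have := N_pow_mul_P hξ hγ k
  rw [h1, h2] at this
  have hd : Matrix.diagonal ![s, s] = Matrix.scalar (Fin 2) s := by
    ext i j; fin_cases i <;> fin_cases j <;> simp
  rw [hd, ← (Matrix.scalar_commute s (fun r' => mul_comm s r') (P ξ γ)).eq] at this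
  exact hP.mul_left_injective this

/-- If `N ^ k = 1` then `ξ ^ k = 1`. -/
lemma pow_eq_one_of_N_pow {ξ γ : L} (hξ : ξ ≠ 0) (hγ : 2 * γ = ξ + ξ⁻¹) (k : ℕ)
    (h : N γ ^ k = 1) : ξ ^ k = 1 := by
  have := N_pow_mul_P hξ hγ k
  rw [h, one_mul] at this
  have h10 := congrFun (congrFun this 1) 0
  simp [P, Matrix.mul_apply, Fin.sum_univ_two] at h10
  exact h10.symm

lemma map_σ (c : K) :
    ((σ c : Matrix (Fin 2) (Fin 2) K)).map (algebraMap K L) = N (algebraMap K L c) := by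
  ext i j
  fin_cases i <;> fin_cases j <;> simp [σ_coe, N]

lemma σ_pow_eq_iff (c : K) (k : ℕ) (B : Matrix.SpecialLinearGroup (Fin 2) K) :
    σ c ^ k = B ↔ N (algebraMap K L c) ^ k
      = (B : Matrix (Fin 2) (Fin 2) K).map (algebraMap K L) := by
  rw [← map_σ]
  constructor
  · intro h
    rw [← h, Matrix.SpecialLinearGroup.coe_pow]
    exact (map_pow ((algebraMap K L).mapMatrix (m := Fin 2)) _ _).symm
  · intro h
    apply Subtype.ext
    rw [Matrix.SpecialLinearGroup.coe_pow]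
    have hinj : Function.Injective ((algebraMap K L).mapMatrix (m := Fin 2)) :=
      Matrix.map_injective (algebraMap K L).injective
    apply hinj
    rw [map_pow]
    exact h

end Groth.Agent.Lib.helper2.SL2Root
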