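import Mathlib
import Groth.Prelude.Def_CAlgX
import Groth.Agent.Lib.Helper2.SP5

/-!
# Serre's splitting theorem for finitely presented modules over a ring with Noetherian maximal
spectrum (helper2)
-/

set_option autoImplicit false
universe u

namespace Groth.Agent.Lib.helper2.SP

open Module TopologicalSpace Function

variable {R : Type u} [CommRing R] {M : Type u} [AddCommGroup M] [Module R M]

theorem finite_Vx [Module.Finite R M] (x : MaximalSpectrum R) :
    Module.Finite (R ⧸ x.asIdeal) ((M ⧸ (x.asIdeal • ⊤ : Submodule R M)) ⧸ Bq R M x) := by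
  classical
  obtain ⟨n, g, hg⟩ := Module.Finite.exists_fin (R := R) (M := M)
  refine Module.finite_def.mpr ⟨Finset.univ.image (fun i => img R M x (g i)), ?_⟩
  rw [eq_top_iff]
  rintro y -
  obtain ⟨m, rfl⟩ := img_surjective x y
  have hm : m ∈ Submodule.span R (Set.range g) := by rw [hg]; trivial
  obtain ⟨c, rfl⟩ := (Submodule.mem_span_range_iff_exists_fun R).mp hm
  rw [img_sum]
  apply Submodule.sum_mem
  intro i _
  apply Submodule.smul_mem
  apply Submodule.subset_span
  simp

/-- a free direct summand of rank `r` of `M_x` gives `r` sections with a nonvanishing minor -/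
theorem exists_det_notMem_of_local_summand [Module.FinitePresentation R M]
    (x : MaximalSpectrum R) (r : ℕ)
    (f : (Fin r → Localization.AtPrime x.asIdeal) →ₗ[Localization.AtPrime x.asIdeal]
      LocalizedModule x.asIdeal.primeCompl M)
    (g : LocalizedModule x.asIdeal.primeCompl M →ₗ[Localization.AtPrime x.asIdeal]
      (Fin r → Localization.AtPrime x.asIdeal))
    (hgf : g ∘ₗ f = LinearMap.id) :
    ∃ (t : Fin r → M) (φ : Fin r → (M →ₗ[R] R)),
      (Matrix.of fun a b => φ b (t a)).det ∉ x.asIdeal := by
  classical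
  haveI := x.isMaximal
  set S := x.asIdeal.primeCompl with hS
  -- lift the elements
  have hy : ∀ a : Fin r, ∃ (t : M) (w : S), f (Pi.single a 1) = LocalizedModule.mk t w := by
    intro a
    induction f (Pi.single a 1) using LocalizedModule.induction_on with
    | h t w => exact ⟨t, w, rfl⟩
  choose t w htw using hy
  -- lift the functionals
  have hφ : ∀ b : Fin r, ∃ (φ : M →ₗ[R] R) (u : S),
      (Algebra.linearMap R (Localization.AtPrime x.asIdeal)) ∘ₗ φ =
        u • (((LinearMap.proj b) ∘ₗ g).restrictScalars R ∘ₗ LocalizedModule.mkLinearMap S M) :=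
    fun b => Module.FinitePresentation.exists_lift_of_isLocalizedModule S
      (Algebra.linearMap R (Localization.AtPrime x.asIdeal)) _
  choose φ u hφu using hφ
  refine ⟨t, φ, ?_⟩
  -- compute the image of the matrix
  have hentry : ∀ a b : Fin r, algebraMap R (Localization.AtPrime x.asIdeal) (φ b (t a)) =
      if a = b then algebraMap R (Localization.AtPrime x.asIdeal) ((u b : R) * (w a : R)) else 0 := by
    intro a b
    have h1 := LinearMap.congr_fun (hφu b) (t a)
    simp only [LinearMap.coe_comp, Function.comp_apply, Algebra.linearMap_apply,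
      LinearMap.smul_apply, LinearMap.coe_restrictScalars, LinearMap.proj_apply,
      LocalizedModule.mkLinearMap_apply] at h1
    have h2 : (LocalizedModule.mk (t a) 1 : LocalizedModule S M) =
        (w a : R) • f (Pi.single a 1) := by
      rw [htw a, LocalizedModule.smul'_mk, ← Submonoid.smul_def, LocalizedModule.mk_cancel]
    have h3 : g ((w a : R) • f (Pi.single a 1)) = (w a : R) • (Pi.single a 1 : Fin r → _) := by
      rw [LinearMap.map_smul_of_tower]
      have := LinearMap.congr_fun hgf (Pi.single a 1)
      simp only [LinearMap.coe_comp, Function.comp_apply, LinearMap.id_coe, id_eq] at this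
      rw [this]
    rw [h1, h2, h3]
    by_cases hab : a = b
    · subst hab
      simp only [Pi.smul_apply, Pi.single_eq_same, if_true]
      rw [Submonoid.smul_def, Algebra.smul_def, Algebra.smul_def, mul_one, ← map_mul]
    · simp only [Pi.smul_apply, Pi.single_eq_of_ne' hab, smul_zero, if_neg hab]
  -- the matrix is diagonal with unit entries
  intro hmem
  have hdiag : (algebraMap R (Localization.AtPrime x.asIdeal)).mapMatrix
      (Matrix.of fun a b => φ b (t a)) =
      Matrix.diagonal fun a => algebraMap R (Localization.AtPrime x.asIdeal)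
        ((u a : R) * (w a : R)) := by
    ext a b
    simp only [RingHom.mapMatrix_apply, Matrix.map_apply, Matrix.of_apply, Matrix.diagonal_apply]
    rw [hentry a b]
    by_cases hab : a = b
    · subst hab; simp
    · simp [hab]
  have h1 : algebraMap R (Localization.AtPrime x.asIdeal)
      (Matrix.of fun a b => φ b (t a)).det =
      ∏ a, algebraMap R (Localization.AtPrime x.asIdeal) ((u a : R) * (w a : R)) := by
    rw [RingHom.map_det, hdiag, Matrix.det_diagonal]
  have h3 : IsUnit (algebraMap R (Localization.AtPrime x.asIdeal)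
      (Matrix.of fun a b => φ b (t a)).det) := by
    rw [h1, ← map_prod]
    apply IsLocalization.map_units (Localization.AtPrime x.asIdeal)
      (⟨∏ a, ((u a : R) * (w a : R)), ?_⟩ : x.asIdeal.primeCompl)
    exact Submonoid.prod_mem _ fun a _ => Submonoid.mul_mem _ (u a).2 (w a).2
  rw [IsLocalization.AtPrime.isUnit_to_map_iff (Localization.AtPrime x.asIdeal) x.asIdeal] at h3
  exact h3 hmem

/-- **Serre's splitting theorem**, finitely presented modules, Noetherian maximal spectrum. -/
theorem serre_splitting_maxSpec [NoetherianSpace (MaximalSpectrum R)] (d : ℕ)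
    (hdim : topologicalKrullDim (MaximalSpectrum R) ≤ d)
    [Module.FinitePresentation R M]
    (hM : ∀ (m : Ideal R) [m.IsMaximal],
      ∃ (f : (Fin (d + 1) → Localization.AtPrime m) →ₗ[Localization.AtPrime m]
          LocalizedModule m.primeCompl M)
        (g : LocalizedModule m.primeCompl M →ₗ[Localization.AtPrime m]
          (Fin (d + 1) → Localization.AtPrime m)),
        g ∘ₗ f = LinearMap.id) :
    ∃ (s : M) (φ : M →ₗ[R] R), φ s = 1 := by
  classical
  have hdimV : ∀ x : MaximalSpectrum R, 0 + (d + 1) ≤
      finrank (R ⧸ x.asIdeal) ((M ⧸ (x.asIdeal • ⊤ : Submodule R M)) ⧸ Bq R M x) := by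
    intro x
    haveI := x.isMaximal
    obtain ⟨f, g, hgf⟩ := hM x.asIdeal
    obtain ⟨t, φ, hdet⟩ := exists_det_notMem_of_local_summand x (d + 1) f g hgf
    have hli := (linearIndependent_img_iff x t).mpr ⟨φ, hdet⟩
    haveI := finite_Vx (M := M) x
    letI : Field (R ⧸ x.asIdeal) := Ideal.Quotient.field x.asIdeal
    have := hli.fintype_card_le_finrank
    simpa using this
  obtain ⟨t, F', hF'closed, -, hb, hc⟩ := serre_proposition (R := R) (M := M) 0 Fin.elim0 ∅
    isClosed_empty 0 Fin.elim0 (fun a => Fin.elim0 a) (fun i => Fin.elim0 i)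
    (fun i => Fin.elim0 i) (d + 1) hdimV
    (fun x hx => absurd (linearIndependent_empty_type) hx)
  -- F' is empty
  have hF'empty : F' = ∅ := by
    by_contra hne
    obtain ⟨x, hx⟩ := Set.nonempty_iff_ne_empty.mpr hne
    set Zc : IrreducibleCloseds (MaximalSpectrum R) :=
      ⟨{x}, isIrreducible_singleton, isClosed_singleton⟩ with hZc
    have h1 := hc Zc (by simpa [hZc] using hx)
    have h2 : (Order.coheight Zc : WithBot ℕ∞) ≤ topologicalKrullDim (MaximalSpectrum R) :=
      Order.coheight_le_krullDim Zc
    have h3 : ((d + 1 : ℕ) : WithBot ℕ∞) ≤ (d : WithBot ℕ∞) := by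
      refine le_trans ?_ (h2.trans hdim)
      exact_mod_cast h1
    have h4 : (d + 1 : ℕ) ≤ d := by exact_mod_cast h3
    omega
  -- the section is unimodular at every closed point
  have hpt : ∀ x : MaximalSpectrum R, ∃ φ : M →ₗ[R] R, φ t ∉ x.asIdeal := by
    intro x
    have hli : LinearIndependent (R ⧸ x.asIdeal)
        (Fin.snoc (fun i : Fin 0 => img R M x (Fin.elim0 i)) (img R M x t)) := by
      by_contra hcon
      have := hb x hcon
      rw [hF'empty] at this
      simp at this
    have hfun : (Fin.snoc (fun i : Fin 0 => img R M x (Fin.elim0 i)) (img R M x t) :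
        Fin 1 → (M ⧸ (x.asIdeal • ⊤ : Submodule R M)) ⧸ Bq R M x) =
        fun _ => img R M x t := by
      ext a
      have ha : a = Fin.last 0 := by
        apply Fin.ext
        have := a.isLt
        simp only [Fin.val_last]
        omega
      rw [ha, Fin.snoc_last]
    rw [hfun] at hli
    obtain ⟨φ, hφ⟩ := (linearIndependent_img_iff x (fun _ : Fin 1 => t)).mp hli
    refine ⟨φ 0, ?_⟩
    have : (Matrix.of fun (a b : Fin 1) => φ b t).det = φ 0 t := by
      simp
    rwa [this] at hφ
  -- the order ideal is the unit ideal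
  set I : Ideal R := LinearMap.range (LinearMap.applyₗ t : (M →ₗ[R] R) →ₗ[R] R) with hI
  have hItop : I = ⊤ := by
    by_contra hne
    obtain ⟨m, hm, hle⟩ := Ideal.exists_le_maximal I hne
    obtain ⟨φ, hφ⟩ := hpt ⟨m, hm⟩
    exact hφ (hle ⟨φ, rfl⟩)
  have h1 : (1 : R) ∈ I := by rw [hItop]; trivial
  obtain ⟨φ, hφ⟩ := h1
  exact ⟨t, φ, hφ⟩

end Groth.Agent.Lib.helper2.SP
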