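import Mathlib

/-!
# Lengths over a base ring of finite length modules over a semi-local algebra (helper2)

* `length_eq_sum_localizedModule`: for an `A`-algebra `C` whose maximal ideals are `𝔪 i`
  (`i` in a finite type) and a `C`-module `M` of finite length,
  `ℓ_A(M) = ∑ i, ℓ_A(M_{𝔪 i})`.
* `length_eq_sum_semilocal`: the same with arbitrary models `N i` of the localizations, which are
  modules over local rings `O i = C_{𝔪 i}`, in the form
  `ℓ_A(M) = ∑ i, ℓ_{O i}(N i) · [κ(O i) : κ(A)]`.
-/

set_option autoImplicit false
universe u v w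

namespace Groth.Agent.Lib.helper2.SemiLocal

section simple

variable {C : Type u} [CommRing C] {T : Type v} [AddCommGroup T] [Module C T]

theorem smul_bijective_of_notMem_annihilator [IsSimpleModule C T] (s : C)
    (hs : s ∉ Module.annihilator C T) : Function.Bijective (fun t : T => s • t) := by
  have h := LinearMap.bijective_or_eq_zero (LinearMap.lsmul C T s)
  rcases h with h | h
  · exact h
  · exfalso
    apply hs
    rw [Module.mem_annihilator]
    intro t
    have := LinearMap.congr_fun h t
    simpa using this

theorem isLocalizedModule_id_of_simple [IsSimpleModule C T] (𝔫 : Ideal C) [𝔫.IsPrime]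
    (h𝔫 : 𝔫 = Module.annihilator C T) :
    IsLocalizedModule 𝔫.primeCompl (LinearMap.id : T →ₗ[C] T) where
  map_units := by
    intro s
    rw [Module.End.isUnit_iff]
    have hs : (s : C) ∉ Module.annihilator C T := by
      rw [← h𝔫]
      exact s.2
    exact smul_bijective_of_notMem_annihilator (s : C) hs
  surj := fun y => ⟨(y, 1), by simp⟩
  exists_of_eq := fun {x₁ x₂} h => ⟨1, by simpa using h⟩

theorem subsingleton_localizedModule_of_simple [IsSimpleModule C T] (𝔪 : Ideal C) [𝔪.IsMaximal]
    (h𝔪 : 𝔪 ≠ Module.annihilator C T) :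
    Subsingleton (LocalizedModule 𝔪.primeCompl T) := by
  haveI hmax : (Module.annihilator C T).IsMaximal := IsSimpleModule.annihilator_isMaximal
  obtain ⟨s, hs1, hs2⟩ : ∃ s, s ∈ Module.annihilator C T ∧ s ∉ 𝔪 := by
    by_contra hcon
    push_neg at hcon
    have hle : Module.annihilator C T ≤ 𝔪 := fun s hs => hcon s hs
    exact h𝔪 (hmax.eq_of_le (Ideal.IsMaximal.ne_top inferInstance) hle).symm
  rw [LocalizedModule.subsingleton_iff]
  intro m
  exact ⟨s, hs2, Module.mem_annihilator.mp hs1 m⟩

end simple

section main

variable (A : Type u) (C : Type v) [CommRing A] [CommRing C] [Algebra A C]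
  {ι : Type*} [Fintype ι] (𝔪 : ι → Ideal C) [∀ i, (𝔪 i).IsMaximal]

theorem length_simple_eq_sum (h𝔪inj : Function.Injective 𝔪)
    (h𝔪surj : ∀ I : Ideal C, I.IsMaximal → ∃ i, 𝔪 i = I)
    (T : Type w) [AddCommGroup T] [Module C T] [Module A T] [IsScalarTower A C T]
    [IsSimpleModule C T] :
    Module.length A T = ∑ i, Module.length A (LocalizedModule (𝔪 i).primeCompl T) := by
  classical
  haveI hmax : (Module.annihilator C T).IsMaximal := IsSimpleModule.annihilator_isMaximal
  obtain ⟨i₀, hi₀⟩ := h𝔪surj _ hmax
  rw [Finset.sum_eq_single i₀]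
  · haveI := isLocalizedModule_id_of_simple (T := T) (𝔪 i₀) hi₀
    exact ((IsLocalizedModule.iso (𝔪 i₀).primeCompl
      (LinearMap.id : T →ₗ[C] T)).restrictScalars A).length_eq.symm
  · intro i _ hi
    haveI := subsingleton_localizedModule_of_simple (T := T) (𝔪 i)
      (fun h => hi (h𝔪inj (h.trans hi₀.symm)))
    exact Module.length_eq_zero
  · intro h
    exact absurd (Finset.mem_univ _) h

theorem length_eq_sum_localizedModule (h𝔪inj : Function.Injective 𝔪)
    (h𝔪surj : ∀ I : Ideal C, I.IsMaximal → ∃ i, 𝔪 i = I)
    (M : Type w) [AddCommGroup M] [Module C M] (hM : IsFiniteLength C M)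
    [Module A M] [IsScalarTower A C M] :
    Module.length A M = ∑ i, Module.length A (LocalizedModule (𝔪 i).primeCompl M) := by
  classical
  revert ‹Module A M›
  induction hM with
  | of_subsingleton =>
    intro _ _
    rw [Module.length_eq_zero]
    symm
    apply Finset.sum_eq_zero
    intro i _
    exact Module.length_eq_zero
  | @of_simple_quotient M _ _ N _ hN ih =>
    intro _ _
    have e0 := Module.length_eq_add_of_exact (N.subtype.restrictScalars A)
      (N.mkQ.restrictScalars A) N.injective_subtype N.mkQ_surjective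
      (by
        intro x
        simp only [LinearMap.coe_restrictScalars, Submodule.mkQ_apply,
          Submodule.Quotient.mk_eq_zero, Set.mem_range, Submodule.subtype_apply]
        exact ⟨fun h => ⟨⟨x, h⟩, rfl⟩, fun ⟨y, hy⟩ => hy ▸ y.2⟩)
    have ei : ∀ i, Module.length A (LocalizedModule (𝔪 i).primeCompl M) =
        Module.length A (LocalizedModule (𝔪 i).primeCompl N) +
          Module.length A (LocalizedModule (𝔪 i).primeCompl (M ⧸ N)) := by
      intro i
      let S := (𝔪 i).primeCompl
      let f1 := IsLocalizedModule.map S (LocalizedModule.mkLinearMap S N)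
        (LocalizedModule.mkLinearMap S M) N.subtype
      let f2 := IsLocalizedModule.map S (LocalizedModule.mkLinearMap S M)
        (LocalizedModule.mkLinearMap S (M ⧸ N)) N.mkQ
      have hex : Function.Exact f1 f2 :=
        IsLocalizedModule.map_exact S _ _ _ N.subtype N.mkQ (by
          intro x
          simp only [Submodule.mkQ_apply,
            Submodule.Quotient.mk_eq_zero, Set.mem_range, Submodule.subtype_apply]
          exact ⟨fun h => ⟨⟨x, h⟩, rfl⟩, fun ⟨y, hy⟩ => hy ▸ y.2⟩)
      exact Module.length_eq_add_of_exact (f1.restrictScalars A) (f2.restrictScalars A)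
        (IsLocalizedModule.map_injective S _ _ _ N.injective_subtype)
        (IsLocalizedModule.map_surjective S _ _ _ N.mkQ_surjective) hex
    rw [e0, ih, length_simple_eq_sum A C 𝔪 h𝔪inj h𝔪surj (M ⧸ N), ← Finset.sum_add_distrib]
    exact Finset.sum_congr rfl fun i _ => (ei i).symm

end main

end Groth.Agent.Lib.helper2.SemiLocal
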