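import Groth.Prelude.Def_ModSite
import Groth.Prelude.Def_AlgSpPerf
import Groth.Agent.Lib.Helper21.ModSh
import Groth.Agent.Lib.Helper21.ModFree

universe u

open CategoryTheory CategoryTheory.Limits Opposite

namespace Groth.Agent.Lib.helper2.SiteLift

open Groth.Agent.Lib.Helper21

variable {C : Type u} [SmallCategory C] {J : GrothendieckTopology C} (O : Sheaf J CommRingCat.{u})

/-- an epimorphism of modules on a ringed site is locally surjective on sections -/
theorem exists_local_lift {G F : ModSite.Mod O} (p : G ⟶ F) [Epi p] (V : C)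
    (s : F.val.obj (op V)) :
    ∃ R ∈ J V, ∀ ⦃W : C⦄ (g : W ⟶ V), R g →
      ∃ t : G.val.obj (op W), p.val.app (op W) t = F.val.map g.op s := by
  have h1 := ModSh.toSheaf_preservesColimits (ModSite.ringSh O)
  have h2 : Epi ((SheafOfModules.toSheaf.{u} (ModSite.ringSh O)).map p) :=
    (SheafOfModules.toSheaf.{u} (ModSite.ringSh O)).map_epi p
  have h3 : Sheaf.IsLocallySurjective ((SheafOfModules.toSheaf.{u} (ModSite.ringSh O)).map p) :=
    (Sheaf.isLocallySurjective_iff_epi' _ _).2 h2
  refine ⟨_, Presheaf.imageSieve_mem J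
    ((SheafOfModules.toSheaf.{u} (ModSite.ringSh O)).map p).hom (U := op V) s, ?_⟩
  intro W g hg
  obtain ⟨t, ht⟩ := hg
  exact ⟨t, ht⟩

/-- finite intersections of covering sieves are covering -/
theorem finset_inf_covering {V : C} {ι : Type*} (s : Finset ι) (R : ι → Sieve V)
    (hR : ∀ i, R i ∈ J V) : s.inf R ∈ J V := by
  classical
  induction s using Finset.induction_on with
  | empty => simp
  | insert a s ha ih =>
    rw [Finset.inf_insert]
    exact J.intersection_covering (hR a) ih

theorem finset_inf_le_apply {V : C} {ι : Type*} (s : Finset ι) (R : ι → Sieve V)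
    {i : ι} (hi : i ∈ s) {W : C} {g : W ⟶ V} (hg : (s.inf R) g) : R i g :=
  (Finset.inf_le hi : s.inf R ≤ R i) _ hg

/-- restriction of the unit module is the unit module of the slice -/
noncomputable def restrUnitIso (W : C) :
    (ModSite.restr O W).obj (SheafOfModules.unit (ModSite.ringSh O)) ≅
      SheafOfModules.unit ((ModSite.ringSh O).over W) := Iso.refl _

instance additive_restr (W : C) : (ModSite.restr O W).Additive where

open SheafOfModules in
/-- maps out of a finite free module lift locally along epimorphisms -/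
theorem exists_lift_free (n : ℕ) {G F : ModSite.Mod O} (p : G ⟶ F) [Epi p]
    (ψ : SheafOfModules.free (R := ModSite.ringSh O) (ULift.{u} (Fin n)) ⟶ F) (V : C) :
    ∃ R ∈ J V, ∀ ⦃W : C⦄ (g : W ⟶ V), R g →
      ∃ l : (ModSite.restr O W).obj (SheafOfModules.free (ULift.{u} (Fin n))) ⟶
          (ModSite.restr O W).obj G,
        l ≫ (ModSite.restr O W).map p = (ModSite.restr O W).map ψ := by
  classical
  let I := ULift.{u} (Fin n)
  let s : I → F.sections := fun j => F.unitHomEquiv (ιFree j ≫ ψ)
  have hl := fun j => exists_local_lift O p V ((s j).val (op V))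
  choose R hR ht using hl
  refine ⟨Finset.univ.inf R, finset_inf_covering _ R hR, ?_⟩
  intro W g hg
  have hgj : ∀ j, R j g := fun j => finset_inf_le_apply _ R (Finset.mem_univ j) hg
  choose t htj using fun j => ht j g (hgj j)
  -- the colimit cocone
  have hc := isColimitCofanMkObjOfIsColimit (ModSite.restr O W) _ _
    (isColimitFreeCofan (R := ModSite.ringSh O) I)
  let a' : ∀ j : I, SheafOfModules.unit ((ModSite.ringSh O).over W) ⟶
      (ModSite.restr O W).obj G := fun j =>
    ((ModSite.restr O W).obj G).unitHomEquiv.symm ((ModFree.sectionsEquiv O W G).symm (t j))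
  let a : ∀ j : I, (ModSite.restr O W).obj (SheafOfModules.unit (ModSite.ringSh O)) ⟶
      (ModSite.restr O W).obj G := fun j => a' j
  refine ⟨Cofan.IsColimit.desc hc a, ?_⟩
  refine Cofan.IsColimit.hom_ext hc _ _ (fun j => ?_)
  rw [Cofan.IsColimit.fac_assoc]
  dsimp only [Cofan.mk_pt, Cofan.mk_ι_app]
  change a j ≫ (ModSite.restr O W).map p =
    (ModSite.restr O W).map (ιFree j) ≫ (ModSite.restr O W).map ψ
  rw [← Functor.map_comp]
  let b : SheafOfModules.unit ((ModSite.ringSh O).over W) ⟶ (ModSite.restr O W).obj F :=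
    (ModSite.restr O W).map (ιFree j ≫ ψ)
  change a' j ≫ (ModSite.restr O W).map p = b
  apply ((ModSite.restr O W).obj F).unitHomEquiv.injective
  apply (ModFree.sectionsEquiv O W F).injective
  have h1 : a' j ≫ (ModSite.restr O W).map p =
      ((ModSite.restr O W).obj F).unitHomEquiv.symm
        (sectionsMap ((ModSite.restr O W).map p) ((ModFree.sectionsEquiv O W G).symm (t j))) :=
    unitHomEquiv_symm_comp _ _
  rw [h1, Equiv.apply_symm_apply]
  have h2 := (s j).property g.op
  change p.val.app (op W) (G.val.map (𝟙 W).op (t j)) =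
    (ιFree j ≫ ψ).val.app (op W) (1 : (ModSite.ringSh O).obj.obj (op W))
  rw [ModFree.map_id_apply, htj j]
  exact h2

/-- maps out of a direct summand of a finite free module lift locally along epimorphisms -/
theorem exists_lift_summand (E F G : ModSite.Mod O)
    (hE : DCoh.IsFinFreeSummandMod (ModSite.ringSh O) E)
    (p : G ⟶ F) [Epi p] (φ : E ⟶ F) (V : C) :
    ∃ R ∈ J V, ∀ ⦃W : C⦄ (g : W ⟶ V), R g →
      ∃ l : (ModSite.restr O W).obj E ⟶ (ModSite.restr O W).obj G,
        l ≫ (ModSite.restr O W).map p = (ModSite.restr O W).map φ := by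
  obtain ⟨n, i, π, hiπ⟩ := hE
  obtain ⟨R, hR, h⟩ := exists_lift_free O n p (π ≫ φ) V
  refine ⟨R, hR, fun W g hg => ?_⟩
  obtain ⟨l, hl⟩ := h g hg
  refine ⟨(ModSite.restr O W).map i ≫ l, ?_⟩
  rw [Category.assoc, hl, ← Functor.map_comp, ← Category.assoc, hiπ, Category.id_comp]

end Groth.Agent.Lib.helper2.SiteLift
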