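import Groth.Agent.Lib.Helper16.SpFun9
import Groth.Agent.Lib.Helper16.CIPull2
import Groth.Agent.Lib.Helper16.DivSum8
import Groth.Agent.Lib.Helper16.ShiftPull

/-!
# helper2: fibre rings in commutative squares whose vertical maps are surjective on stalks;
the base change of a morphism to a fibre
-/

set_option autoImplicit false
universe u
open CategoryTheory CategoryTheory.Limits AlgebraicGeometry TopologicalSpace Opposite IsLocalRing

namespace Groth.Agent.Lib.helper2.SpPull

open Groth.Agent.Lib.helper17.FibreStalk Groth.Agent.Lib.helper16.CIPull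

/-- In a commutative square `g ≫ j = j' ≫ f` whose vertical maps `j'`, `j` are surjective on the
stalks at `z`, `g z`, with `ker (O_{X',j' z} → O_{W',z}) ⊆ 𝔪_{f (j' z)} O_{X',j' z}`, the fibre rings
of `g` at `z` and of `f` at `j' z` have the same length. -/
theorem length_fibRing_square {W' W X' X : Scheme.{u}} (g : W' ⟶ W) (j' : W' ⟶ X') (j : W ⟶ X)
    (f : X' ⟶ X) (hsq : g ≫ j = j' ≫ f) (z : W')
    (hs' : Function.Surjective (j'.stalkMap z).hom)
    (hs : Function.Surjective (j.stalkMap (g z)).hom)
    (hker : RingHom.ker (j'.stalkMap z).hom ≤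
      (maximalIdeal (X.presheaf.stalk (f (j' z)))).map (f.stalkMap (j' z)).hom) :
    Module.length (W'.presheaf.stalk z) (FibRing g z) =
      Module.length (X'.presheaf.stalk (j' z)) (FibRing f (j' z)) := by
  set ψ := (j'.stalkMap z).hom with hψ
  set M := (maximalIdeal (X.presheaf.stalk (f (j' z)))).map (f.stalkMap (j' z)).hom with hM
  have h1 := Scheme.Hom.stalkMap_congr_hom (g ≫ j) (j' ≫ f) hsq z
  rw [Scheme.Hom.stalkMap_comp, Scheme.Hom.stalkMap_comp] at h1
  have hmap : M.map ψ = (maximalIdeal (W.presheaf.stalk (g z))).map (g.stalkMap z).hom := by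
    have e1 : (maximalIdeal (X.presheaf.stalk ((g ≫ j) z))).map
        (X.presheaf.stalkCongr (.of_eq (hsq ▸ rfl) : Inseparable ((g ≫ j) z) ((j' ≫ f) z))).hom.hom =
        maximalIdeal (X.presheaf.stalk ((j' ≫ f) z)) :=
      map_maximalIdeal_of_surjective _
        (ConcreteCategory.bijective_of_isIso (X.presheaf.stalkCongr _).hom).2
    have e2 : (maximalIdeal (X.presheaf.stalk (j (g z)))).map (j.stalkMap (g z)).hom =
        maximalIdeal (W.presheaf.stalk (g z)) := map_maximalIdeal_of_surjective _ hs
    rw [← e2, Ideal.map_map, Ideal.map_map]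
    have e3 : maximalIdeal (X.presheaf.stalk (f (j' z))) =
        maximalIdeal (X.presheaf.stalk ((j' ≫ f) z)) := rfl
    rw [e3, ← e1]
    erw [Ideal.map_map]
    have e4 : (g.stalkMap z).hom.comp (j.stalkMap (g z)).hom =
        (ψ.comp (f.stalkMap (j' z)).hom).comp
          (X.presheaf.stalkCongr
            (.of_eq (hsq ▸ rfl) : Inseparable ((g ≫ j) z) ((j' ≫ f) z))).hom.hom := by
      exact congrArg (fun φ => φ.hom) h1
    rw [← e4]
    rfl
  have := length_quot_map_of_ker_le ψ hs' M hker
  rw [hmap] at this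
  exact this

section fibre

variable {X' X S : Scheme.{u}} (b : X ⟶ S) (f : X' ⟶ X) (y : S)

/-- the base change of `f` to the fibres over `y`. -/
noncomputable abbrev fibMap : (f ≫ b).fiber y ⟶ b.fiber y :=
  pullback.map (f ≫ b) (S.fromSpecResidueField y) b (S.fromSpecResidueField y) f (𝟙 _) (𝟙 _)
    (Category.comp_id _) ((Category.comp_id _).trans (Category.id_comp _).symm)

theorem fibMap_fiberι : fibMap b f y ≫ b.fiberι y = (f ≫ b).fiberι y ≫ f :=
  pullback.lift_fst _ _ _

theorem fiberι_fibMap (z : (f ≫ b).fiber y) :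
    b.fiberι y (fibMap b f y z) = f ((f ≫ b).fiberι y z) := by
  have := congrArg (fun φ => φ.base z) (fibMap_fiberι b f y)
  exact this

/-- the fibre rings of the base change of `f` to a fibre. -/
theorem length_fibRing_fibMap (z : (f ≫ b).fiber y) :
    Module.length (((f ≫ b).fiber y).presheaf.stalk z) (FibRing (fibMap b f y) z) =
      Module.length (X'.presheaf.stalk ((f ≫ b).fiberι y z))
        (FibRing f ((f ≫ b).fiberι y z)) := by
  refine length_fibRing_square (fibMap b f y) ((f ≫ b).fiberι y) (b.fiberι y) f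
    (fibMap_fiberι b f y) z (((f ≫ b).fiberι y).stalkMap_surjective z)
    ((b.fiberι y).stalkMap_surjective _) ?_
  rw [ker_fiberι_stalkMap, Scheme.Hom.stalkMap_comp]
  change Ideal.map ((f.stalkMap ((f ≫ b).fiberι y z)).hom.comp
    (b.stalkMap (f ((f ≫ b).fiberι y z))).hom) _ ≤ _
  rw [← Ideal.map_map]
  refine Ideal.map_mono ?_
  exact ((IsLocalRing.local_hom_TFAE (b.stalkMap (f ((f ≫ b).fiberι y z))).hom).out 0 2
    rfl rfl).mp inferInstance

end fibre

end Groth.Agent.Lib.helper2.SpPull
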