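import Groth.Agent.Lib.Helper2.SpPull1
import Groth.Agent.Lib.Helper2.PushPt1
import Groth.Agent.Lib.Helper2.DevSch7

/-!
# helper2: finiteness lemmas for cycles on fibres; specialization as a sum of principal divisors
of a uniformizer
-/

set_option autoImplicit false
universe u
open CategoryTheory CategoryTheory.Limits AlgebraicGeometry TopologicalSpace Opposite IsLocalRing

namespace Groth.Agent.Lib.helper2.SpPull

open Groth.Agent.Lib.helper17.FibreStalk Groth.Agent.Lib.helper16.CIPull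
  Groth.Agent.Lib.helper16.OrdGen Groth.Agent.Lib.helper16.GenFib
  Groth.Agent.Lib.helper16.DivSum Groth.Agent.Lib.helper16.SpFun
  Groth.Agent.Lib.helper17.NodalNormal Groth.Agent.Lib.helper3.QFinTop
  Groth.Agent.Lib.helper2.DevSch

/-- finitely many points of the support of a cycle on a fibre specialize to a given point of the
total space. -/
theorem finite_support_specializes {X S : Scheme.{u}} (b : X ⟶ S) (y : S)
    (α : AlgebraicCycle (b.fiber y) ℤ) (x : X) :
    {ζ : b.fiber y | α ζ ≠ 0 ∧ b.fiberι y ζ ⤳ x}.Finite := by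
  obtain ⟨_, ⟨U, hU : IsAffineOpen U, rfl⟩, hxU, -⟩ :=
    X.isBasis_affineOpens.exists_subset_of_mem_open (Set.mem_univ x) isOpen_univ
  haveI : QuasiCompact (b.fiberι y) :=
    inferInstanceAs (QuasiCompact (pullback.fst b (S.fromSpecResidueField y)))
  have hK : IsCompact ((b.fiberι y) ⁻¹' (U : Set X)) :=
    QuasiCompact.isCompact_preimage (f := b.fiberι y) _ U.isOpen hU.isCompact
  have hfin := LocallyFiniteSupport.finite_inter_support_of_isCompact
    (Function.locallyFinsupp.locallyFiniteSupport α) hK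
  refine hfin.subset ?_
  rintro ζ ⟨h1, h2⟩
  exact ⟨h2.mem_open U.isOpen hxU, h1⟩

/-- finitely many generic points of the fibre of `f` over `y` specialize to a given point. -/
theorem finite_genFib_specializes {X' X : Scheme.{u}} (f : X' ⟶ X) [IsLocallyNoetherian X']
    (x' : X') (y : X) (hy : y ⤳ f x') :
    {ξ' : X' | ξ' ⤳ x' ∧ f ξ' = y ∧ IsGenFib f ξ'}.Finite := by
  set I : Ideal (X'.presheaf.stalk x') := (pOf hy).map (f.stalkMap x').hom with hI
  have hfin : {P : PrimeSpectrum (X'.presheaf.stalk x') | P.asIdeal ∈ I.minimalPrimes}.Finite := by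
    refine Set.Finite.preimage ?_ (Ideal.finite_minimalPrimes_of_isNoetherianRing _ I)
    intro P _ Q _ h
    exact PrimeSpectrum.ext h
  refine (hfin.image (X'.fromSpecStalk x')).subset ?_
  rintro ξ' ⟨h', e, hgen⟩
  refine ⟨pr h', ?_, gen_pr h'⟩
  have hf' : f ξ' ⤳ f x' := f.base.hom.map_specializes h'
  have hle : I ≤ pOf h' := by
    rw [hI, Ideal.map_le_iff_le_comap, comap_pOf f h' hf', pOf_congr e hf' hy]
  refine ⟨⟨inferInstance, hle⟩, ?_⟩
  rintro Q ⟨hQ, hIQ⟩ hQle
  haveI := hQ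
  set ξ'' := X'.fromSpecStalk x' ⟨Q, hQ⟩ with hξ''
  have hsp'' : ξ'' ⤳ x' := specializes_fromSpecStalk x' ⟨Q, hQ⟩
  have hpQ : pOf hsp'' = Q := pOf_fromSpecStalk x' ⟨Q, hQ⟩ hsp''
  have h1 : ξ'' ⤳ ξ' := by
    rw [specializes_iff_pOf_le hsp'' h', hpQ]
    exact hQle
  have h2 : y ⤳ f ξ'' := by
    have := gen_specializes_map_gen f x' (pr hy) ⟨Q, hQ⟩ hIQ
    rwa [gen_pr hy] at this
  have h3 : f ξ'' ⤳ y := e ▸ f.base.hom.map_specializes h1
  have h4 : f ξ'' = f ξ' := (h3.antisymm h2).eq.trans e.symm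
  have h5 : ξ'' = ξ' := hgen ξ'' h4 h1
  rw [← hpQ]
  exact (pOf_congr h5 hsp'' h').ge

section dvr

variable {R : Type u} [CommRing R] {X : Scheme.{u}} (a : X ⟶ Spec (CommRingCat.of R))

/-- the image of `r : R` in the residue field of `ξ`. -/
noncomputable def resTau (ξ : X) (r : R) : X.residueField ξ := (X.residue ξ).hom (tau a ξ r)

theorem specMap_tau_eq {x ξ : X} (h : ξ ⤳ x) (r : R) :
    Cyc.specMap x ξ h (tau a x r) = resTau a ξ r := by
  unfold Cyc.specMap resTau
  rw [← stalkSpecializes_tau a h r]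
  rfl

theorem resTau_ne_zero (ξ : X) (r : R) (hr : r ∉ (show PrimeSpectrum R from a ξ).asIdeal) :
    resTau a ξ r ≠ 0 := by
  intro h0
  apply hr
  rw [asIdeal_apply a ξ, Ideal.mem_comap]
  exact (IsLocalRing.residue_eq_zero_iff _).1 h0

theorem residueFieldMap_resTau {X' : Scheme.{u}} (f : X' ⟶ X) (ξ' : X') (y : X) (e : f ξ' = y)
    (r : R) :
    f.residueFieldMap ξ' ((X.residueFieldCongr e.symm).hom (resTau a y r)) =
      resTau (f ≫ a) ξ' r := by
  subst e
  rw [show (X.residueFieldCongr (Eq.refl (f ξ')).symm) = Iso.refl _ from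
    Scheme.residueFieldCongr_refl]
  simp only [Iso.refl_hom, CommRingCat.hom_id, RingHom.id_apply]
  unfold resTau
  rw [← stalkMap_tau a f ξ' r]
  exact congrArg (fun φ => φ.hom (tau a (f ξ') r)) (Scheme.residue_residueFieldMap f ξ')

end dvr

end Groth.Agent.Lib.helper2.SpPull
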