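import Groth.Agent.Lib.Helper2.SpPull2

/-!
# helper2: specialization of cycles over a discrete valuation ring as a sum of principal divisors
of a uniformizer
-/

set_option autoImplicit false
universe u
open CategoryTheory CategoryTheory.Limits AlgebraicGeometry TopologicalSpace Opposite IsLocalRing

namespace Groth.Agent.Lib.helper2.SpPull

open Groth.Agent.Lib.helper17.FibreStalk Groth.Agent.Lib.helper16.CIPull
  Groth.Agent.Lib.helper16.OrdGen Groth.Agent.Lib.helper16.GenFib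
  Groth.Agent.Lib.helper16.DivSum Groth.Agent.Lib.helper16.SpFun
  Groth.Agent.Lib.helper17.NodalNormal Groth.Agent.Lib.helper3.QFinTop
  Groth.Agent.Lib.helper2.DevSch

variable (R : Type u) [CommRing R] [IsDomain R] [IsDiscreteValuationRing R]
  {X : Scheme.{u}} (a : X ⟶ Spec (CommRingCat.of R)) [LocallyOfFiniteType a]
  (δη : ↥(a.fiber (genericPoint ↥(Spec (CommRingCat.of R)))) → ℤ)
  (δs : ↥(a.fiber (IsLocalRing.closedPoint R)) → ℤ)
  (hδη : Cyc.DeltaCompat (a.fiberToSpecResidueField (genericPoint ↥(Spec (CommRingCat.of R))))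
    δη (fun _ => 0))
  (hδs : Cyc.DeltaCompat (a.fiberToSpecResidueField (IsLocalRing.closedPoint R)) δs (fun _ => 0))

include hδη in
theorem deltaX_fiberι_generic (ζ : ↥(a.fiber (genericPoint ↥(Spec (CommRingCat.of R))))) :
    deltaX R a (a.fiberι _ ζ) = δη ζ := by
  rw [deltaX_fiberι R a _ δη hδη ζ, deltaS_genericPoint, zero_add]

include hδs in
theorem deltaX_fiberι_closed (x : ↥(a.fiber (IsLocalRing.closedPoint R))) :
    deltaX R a (a.fiberι _ x) = δs x - 1 := by
  rw [deltaX_fiberι R a _ δs hδs x, deltaS_closedPoint]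
  ring

theorem resTau_generic_ne_zero (ζ : ↥(a.fiber (genericPoint ↥(Spec (CommRingCat.of R)))))
    (ϖ : R) (hϖ : ϖ ≠ 0) : resTau a (a.fiberι _ ζ) ϖ ≠ 0 := by
  apply resTau_ne_zero
  rw [fiberι_mem, asIdeal_genericPoint R]
  exact hϖ

include hδη hδs in
open Classical in
/-- **Specialization as a sum of principal divisors of a uniformizer.** -/
theorem spFun_eq_finsum_divFun (r : ℤ)
    (α : ↥(a.fiber (genericPoint ↥(Spec (CommRingCat.of R)))) → ℤ)
    (hα : ∀ ζ, δη ζ ≠ r → α ζ = 0) (ϖ : R) (hϖ : Irreducible ϖ)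
    (x : ↥(a.fiber (IsLocalRing.closedPoint R))) :
    Cyc.spFun a (genericPoint ↥(Spec (CommRingCat.of R))) (IsLocalRing.closedPoint R) δη δs r α x =
      ∑ᶠ ζ : ↥(a.fiber (genericPoint ↥(Spec (CommRingCat.of R)))),
        α ζ * Cyc.divFun (deltaX R a) (a.fiberι _ ζ) (resTau a (a.fiberι _ ζ) ϖ)
          (a.fiberι _ x) := by
  haveI : IsLocallyNoetherian X := LocallyOfFiniteType.isLocallyNoetherian a
  have hm : maximalIdeal R = Ideal.span {ϖ} := hϖ.maximalIdeal_eq
  set xb := a.fiberι (closedPoint R) x with hxb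
  have haxb : (show PrimeSpectrum R from a xb).asIdeal = Ideal.span {ϖ} := by
    rw [hxb, fiberι_mem a (closedPoint R) x]; exact hm
  have hDx : deltaX R a xb = δs x - 1 := deltaX_fiberι_closed R a δs hδs x
  unfold Cyc.spFun
  by_cases hk : δs x = r
  · rw [if_pos hk]
    set g : ↥(a.fiber (genericPoint ↥(Spec (CommRingCat.of R)))) → ℤ := fun ζ =>
      α ζ * Cyc.divFun (deltaX R a) (a.fiberι _ ζ) (resTau a (a.fiberι _ ζ) ϖ) xb with hg
    have hsupp : ∀ ζ, g ζ ≠ 0 → δη ζ = r ∧ a.fiberι _ ζ ⤳ xb := by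
      intro ζ hζ
      have h1 : α ζ ≠ 0 := left_ne_zero_of_mul hζ
      have h2 : Cyc.divFun (deltaX R a) (a.fiberι _ ζ) (resTau a (a.fiberι _ ζ) ϖ) xb ≠ 0 :=
        right_ne_zero_of_mul hζ
      refine ⟨by_contra fun hc => h1 (hα ζ hc), ?_⟩
      by_contra hc
      apply h2
      unfold Cyc.divFun
      rw [dif_neg (fun h => hc h.1)]
    have hval : Function.Injective (Subtype.val : {ζ : ↥(a.fiber (genericPoint
        ↥(Spec (CommRingCat.of R)))) // δη ζ = r ∧ a.fiberι _ ζ ⤳ xb} → _) :=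
      Subtype.val_injective
    symm
    rw [← finsum_mem_univ, finsum_mem_inter_support_eq' _ Set.univ (Set.range (Subtype.val :
      {ζ : ↥(a.fiber (genericPoint ↥(Spec (CommRingCat.of R)))) //
        δη ζ = r ∧ a.fiberι _ ζ ⤳ xb} → _)) (by
      intro ζ hζ
      simp only [Set.mem_univ, true_iff]
      exact ⟨⟨ζ, hsupp ζ hζ⟩, rfl⟩), finsum_mem_range hval]
    refine finsum_congr fun ζ => ?_
    have hDζ : deltaX R a (a.fiberι _ ζ.1) = δη ζ.1 := deltaX_fiberι_generic R a δη hδη ζ.1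
    have himm : deltaX R a xb + 1 = deltaX R a (a.fiberι _ ζ.1) := by
      rw [hDx, hDζ, ζ.2.1, hk]; ring
    have hd : Ring.KrullDimLE 1 (Cyc.LocQuot xb (a.fiberι _ ζ.1) ζ.2.2) :=
      krullDimLE_locQuot_of_immediate (deltaX R a) (isDimFun_deltaX R a) ζ.2.2 himm
    have hnot : tau a xb ϖ ∉ pOf ζ.2.2 := by
      rw [tau_mem_pOf_iff, fiberι_mem, asIdeal_genericPoint R]
      exact hϖ.ne_zero
    show α ζ.1 * Cyc.divFun (deltaX R a) (a.fiberι _ ζ.1) (resTau a (a.fiberι _ ζ.1) ϖ) xb = _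
    unfold Cyc.divFun
    rw [dif_pos ⟨ζ.2.2, himm⟩, ← specMap_tau_eq a ζ.2.2 ϖ, ordAt_specMap ζ.2.2 hd _ hnot,
      spFun_mult_eq_ord a ζ.2.2 ϖ haxb]
  · rw [if_neg hk]
    symm
    apply finsum_eq_zero_of_forall_eq_zero
    intro ζ
    by_cases hζ : δη ζ = r
    · unfold Cyc.divFun
      rw [dif_neg, mul_zero]
      rintro ⟨-, h2⟩
      rw [hDx, deltaX_fiberι_generic R a δη hδη ζ, hζ] at h2
      omega
    · rw [hα ζ hζ, zero_mul]

end Groth.Agent.Lib.helper2.SpPull
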