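import Groth.Agent.Lib.Helper2.SpPull3
import Groth.Agent.Lib.Helper2.BivarPush

/-!
# helper2: specialization of cycles commutes with flat pullback (S1915)
-/

set_option autoImplicit false
universe u
open CategoryTheory CategoryTheory.Limits AlgebraicGeometry TopologicalSpace Opposite IsLocalRing

namespace Groth.Agent.Lib.helper2.SpPull

open Groth.Agent.Lib.helper17.FibreStalk Groth.Agent.Lib.helper16.CIPull
  Groth.Agent.Lib.helper16.OrdGen Groth.Agent.Lib.helper16.GenFib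
  Groth.Agent.Lib.helper16.DivSum Groth.Agent.Lib.helper16.SpFun
  Groth.Agent.Lib.helper16.ShiftPull
  Groth.Agent.Lib.helper17.NodalNormal Groth.Agent.Lib.helper3.QFinTop
  Groth.Agent.Lib.helper2.DevSch Groth.Agent.Lib.helper2.BivarPush

set_option maxHeartbeats 1600000 in
open Classical in
theorem spFun_pullFun (R : Type u) [CommRing R] [IsDomain R] [IsDiscreteValuationRing R]
    (X' X : Scheme.{u}) (b : X ⟶ Spec (CommRingCat.of R)) [LocallyOfFiniteType b] (f : X' ⟶ X)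
    [Flat f] [LocallyOfFiniteType f] (e : ℕ) (he : Cyc.HasRelDim f e)
    (δX'η : ↥((f ≫ b).fiber (genericPoint ↥(Spec (CommRingCat.of R)))) → ℤ)
    (δX's : ↥((f ≫ b).fiber (IsLocalRing.closedPoint R)) → ℤ)
    (δXη : ↥(b.fiber (genericPoint ↥(Spec (CommRingCat.of R)))) → ℤ)
    (δXs : ↥(b.fiber (IsLocalRing.closedPoint R)) → ℤ)
    (h1 : Cyc.DeltaCompat ((f ≫ b).fiberToSpecResidueField
      (genericPoint ↥(Spec (CommRingCat.of R)))) δX'η (fun _ => 0))
    (h2 : Cyc.DeltaCompat ((f ≫ b).fiberToSpecResidueField (IsLocalRing.closedPoint R)) δX's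
      (fun _ => 0))
    (h3 : Cyc.DeltaCompat (b.fiberToSpecResidueField (genericPoint ↥(Spec (CommRingCat.of R))))
      δXη (fun _ => 0))
    (h4 : Cyc.DeltaCompat (b.fiberToSpecResidueField (IsLocalRing.closedPoint R)) δXs
      (fun _ => 0))
    (r : ℤ) (α : AlgebraicCycle (b.fiber (genericPoint ↥(Spec (CommRingCat.of R)))) ℤ)
    (hα : α ∈ Cyc.Zk (b.fiber (genericPoint ↥(Spec (CommRingCat.of R)))) δXη r) :
    Cyc.spFun (f ≫ b) (genericPoint ↥(Spec (CommRingCat.of R))) (IsLocalRing.closedPoint R)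
        δX'η δX's (r + e)
        (Cyc.pullFun (fibMap b f (genericPoint ↥(Spec (CommRingCat.of R)))) δX'η δXη e ⇑α) =
      Cyc.pullFun (fibMap b f (IsLocalRing.closedPoint R)) δX's δXs e
        (Cyc.spFun b (genericPoint ↥(Spec (CommRingCat.of R))) (IsLocalRing.closedPoint R)
          δXη δXs r ⇑α) := by
  haveI : IsLocallyNoetherian X := LocallyOfFiniteType.isLocallyNoetherian b
  haveI : IsLocallyNoetherian X' := LocallyOfFiniteType.isLocallyNoetherian (f ≫ b)
  obtain ⟨ϖ, hϖ⟩ := IsDiscreteValuationRing.exists_irreducible R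
  have hD : Cyc.IsDimFun X (deltaX R b) := isDimFun_deltaX R b
  have hD' : Cyc.IsDimFun X' (deltaX R (f ≫ b)) := isDimFun_deltaX R (f ≫ b)
  have hcompat : Cyc.DeltaCompat f (deltaX R (f ≫ b)) (deltaX R b) :=
    deltaCompat_cancel f b _ _ (deltaS R) (deltaCompat_deltaX R (f ≫ b)) (deltaCompat_deltaX R b)
  have hshift : HasShift f (deltaX R (f ≫ b)) (deltaX R b) e :=
    hasShift_of_hasRelDim f _ _ e he hcompat
  have hα0 : ∀ ζ, δXη ζ ≠ r → α ζ = 0 := hα
  have hβ0 : ∀ ζ', δX'η ζ' ≠ r + e →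
      Cyc.pullFun (fibMap b f (genericPoint ↥(Spec (CommRingCat.of R)))) δX'η δXη e ⇑α ζ' = 0 := by
    intro ζ' hζ'
    unfold Cyc.pullFun
    split_ifs with hc
    · rw [hα0 _ (by omega), zero_mul]
    · rfl
  funext x'
  rw [spFun_eq_finsum_divFun R (f ≫ b) δX'η δX's h1 h2 (r + e) _ hβ0 ϖ hϖ x']
  set xb' := (f ≫ b).fiberι (closedPoint R) x' with hxb'
  -- the right hand side
  have hR : Cyc.pullFun (fibMap b f (IsLocalRing.closedPoint R)) δX's δXs e
      (Cyc.spFun b (genericPoint ↥(Spec (CommRingCat.of R))) (IsLocalRing.closedPoint R)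
        δXη δXs r ⇑α) x' =
      ∑ᶠ ζ, α ζ * Cyc.pullFun f (deltaX R (f ≫ b)) (deltaX R b) e
        (Cyc.divFun (deltaX R b) (b.fiberι _ ζ) (resTau b (b.fiberι _ ζ) ϖ)) xb' := by
    have hpt : b.fiberι _ (fibMap b f (closedPoint R) x') = f xb' := fiberι_fibMap b f _ x'
    have hlen := length_fibRing_fibMap b f (closedPoint R) x'
    have hDx' : deltaX R (f ≫ b) xb' = δX's x' - 1 := deltaX_fiberι_closed R (f ≫ b) δX's h2 x'
    have hDx : deltaX R b (f xb') = δXs (fibMap b f (closedPoint R) x') - 1 := by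
      rw [← hpt]; exact deltaX_fiberι_closed R b δXs h4 _
    show (if δX's x' = δXs (fibMap b f (closedPoint R) x') + e then
      Cyc.spFun b (genericPoint ↥(Spec (CommRingCat.of R))) (closedPoint R) δXη δXs r ⇑α
        (fibMap b f (closedPoint R) x') *
        ((Module.length _ (FibRing (fibMap b f (closedPoint R)) x')).toNat : ℤ) else 0) = _
    rw [spFun_eq_finsum_divFun R b δXη δXs h3 h4 r ⇑α hα0 ϖ hϖ, hpt, hlen]
    by_cases hc : δX's x' = δXs (fibMap b f (closedPoint R) x') + e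
    · rw [if_pos hc, finsum_mul]
      refine finsum_congr fun ζ => ?_
      show _ = α ζ * (if deltaX R (f ≫ b) xb' = deltaX R b (f xb') + e then _ * _ else 0)
      rw [if_pos (by omega), mul_assoc]
    · rw [if_neg hc]
      symm
      apply finsum_eq_zero_of_forall_eq_zero
      intro ζ
      show α ζ * (if deltaX R (f ≫ b) xb' = deltaX R b (f xb') + e then _ else 0) = 0
      rw [if_neg (by omega), mul_zero]
  rw [hR]
  -- the common value as a sum over pairs
  set c : X' → ℤ := fun ξ' =>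
    Cyc.divFun (deltaX R (f ≫ b)) ξ' (resTau (f ≫ b) ξ' ϖ) xb' with hc
  set L : X' → ℤ := fun ξ' =>
    ((Module.length (X'.presheaf.stalk ξ') (FibRing f ξ')).toNat : ℤ) with hL
  set G : ↥(b.fiber (genericPoint ↥(Spec (CommRingCat.of R)))) × X' → ℤ := fun p =>
    if f p.2 = b.fiberι _ p.1 ∧ IsGenFib f p.2 then α p.1 * (L p.2 * c p.2) else 0 with hG
  have hGsupp : ∀ p, G p ≠ 0 → α p.1 ≠ 0 ∧ f p.2 = b.fiberι _ p.1 ∧ IsGenFib f p.2 ∧
      p.2 ⤳ xb' := by
    intro p hp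
    have hcond : f p.2 = b.fiberι _ p.1 ∧ IsGenFib f p.2 := by
      by_contra hcon
      apply hp
      exact if_neg hcon
    have hval : α p.1 * (L p.2 * c p.2) ≠ 0 := by
      intro h0
      apply hp
      exact (if_pos hcond).trans h0
    refine ⟨left_ne_zero_of_mul hval, hcond.1, hcond.2, ?_⟩
    have hcne : c p.2 ≠ 0 := right_ne_zero_of_mul (right_ne_zero_of_mul hval)
    by_contra hsp
    apply hcne
    show Cyc.divFun _ _ _ _ = 0
    unfold Cyc.divFun
    rw [dif_neg (fun h => hsp h.1)]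
  have hGfin : Function.HasFiniteSupport G := by
    have hT := finite_support_specializes b (genericPoint ↥(Spec (CommRingCat.of R))) α (f xb')
    have hS : ∀ ζ : ↥(b.fiber (genericPoint ↥(Spec (CommRingCat.of R)))),
        {ξ' : X' | ξ' ⤳ xb' ∧ f ξ' = b.fiberι _ ζ ∧ IsGenFib f ξ'}.Finite := by
      intro ζ
      by_cases hy : b.fiberι _ ζ ⤳ f xb'
      · exact finite_genFib_specializes f xb' _ hy
      · refine Set.Finite.subset Set.finite_empty ?_
        rintro ξ' ⟨h1', h2', -⟩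
        exact hy (h2' ▸ f.base.hom.map_specializes h1')
    refine (hT.prod (hT.biUnion (fun ζ _ => hS ζ))).subset ?_
    intro p hp
    obtain ⟨hp1, hp2, hp3, hp4⟩ := hGsupp p hp
    have hpT : p.1 ∈ {ζ : ↥(b.fiber (genericPoint ↥(Spec (CommRingCat.of R)))) |
        α ζ ≠ 0 ∧ b.fiberι _ ζ ⤳ f xb'} :=
      ⟨hp1, hp2 ▸ f.base.hom.map_specializes hp4⟩
    refine ⟨hpT, ?_⟩
    simp only [Set.mem_iUnion]
    exact ⟨p.1, hpT, hp4, hp2, hp3⟩
  -- the right hand side as a double sum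
  have hR2 : ∀ ζ : ↥(b.fiber (genericPoint ↥(Spec (CommRingCat.of R)))),
      α ζ * Cyc.pullFun f (deltaX R (f ≫ b)) (deltaX R b) e
        (Cyc.divFun (deltaX R b) (b.fiberι _ ζ) (resTau b (b.fiberι _ ζ) ϖ)) xb' =
      ∑ᶠ ξ' : X', G (ζ, ξ') := by
    intro ζ
    rw [pullFun_divFun_shift f hD hD' hshift (b.fiberι _ ζ) (resTau b _ ϖ)
      (resTau_generic_ne_zero R b ζ ϖ hϖ.ne_zero) xb', mul_finsum]
    have hterm : ∀ ξ' : {ξ' : X' // f ξ' = b.fiberι _ ζ ∧ IsGenFib f ξ'},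
        α ζ * (((Module.length (X'.presheaf.stalk ξ'.1) (FibRing f ξ'.1)).toNat : ℤ) *
          Cyc.divFun (deltaX R (f ≫ b)) ξ'.1 (f.residueFieldMap ξ'.1
            ((X.residueFieldCongr ξ'.2.1.symm).hom (resTau b (b.fiberι _ ζ) ϖ))) xb') =
        (fun ξ' : X' => α ζ * (L ξ' * c ξ')) ξ'.1 := by
      intro ξ'
      show _ = α ζ * (L ξ'.1 * Cyc.divFun (deltaX R (f ≫ b)) ξ'.1 (resTau (f ≫ b) ξ'.1 ϖ) xb')
      rw [residueFieldMap_resTau b f ξ'.1 _ ξ'.2.1 ϖ]
    rw [finsum_congr hterm,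
      finsum_subtype_eq_finsum_cond (f := fun ξ' : X' => α ζ * (L ξ' * c ξ'))
        (fun ξ' : X' => f ξ' = b.fiberι _ ζ ∧ IsGenFib f ξ')]
    refine finsum_congr fun ξ' => ?_
    rw [finsum_eq_if]
  rw [finsum_congr hR2, ← finsum_curry G hGfin]
  -- the left hand side
  set J : ↥((f ≫ b).fiber (genericPoint ↥(Spec (CommRingCat.of R)))) →
      ↥(b.fiber (genericPoint ↥(Spec (CommRingCat.of R)))) × X' :=
    fun ζ' => (fibMap b f _ ζ', (f ≫ b).fiberι _ ζ') with hJ
  have hJinj : Function.Injective J := by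
    intro ζ₁ ζ₂ h
    exact fiberι_injective (f ≫ b) _ (congrArg Prod.snd h)
  have hL : ∀ ζ' : ↥((f ≫ b).fiber (genericPoint ↥(Spec (CommRingCat.of R)))),
      Cyc.pullFun (fibMap b f (genericPoint ↥(Spec (CommRingCat.of R)))) δX'η δXη e ⇑α ζ' *
        Cyc.divFun (deltaX R (f ≫ b)) ((f ≫ b).fiberι _ ζ')
          (resTau (f ≫ b) ((f ≫ b).fiberι _ ζ') ϖ) xb' = G (J ζ') := by
    intro ζ'
    have hpt : b.fiberι _ (fibMap b f _ ζ') = f ((f ≫ b).fiberι _ ζ') := fiberι_fibMap b f _ ζ'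
    have hlen := length_fibRing_fibMap b f _ ζ'
    have hDζ' : deltaX R (f ≫ b) ((f ≫ b).fiberι _ ζ') = δX'η ζ' :=
      deltaX_fiberι_generic R (f ≫ b) δX'η h1 ζ'
    have hDζ : deltaX R b (f ((f ≫ b).fiberι _ ζ')) = δXη (fibMap b f _ ζ') := by
      rw [← hpt]; exact deltaX_fiberι_generic R b δXη h3 _
    show (if δX'η ζ' = δXη (fibMap b f _ ζ') + e then α (fibMap b f _ ζ') *
        ((Module.length _ (FibRing (fibMap b f _) ζ')).toNat : ℤ) else 0) * c ((f ≫ b).fiberι _ ζ') =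
      if f ((f ≫ b).fiberι _ ζ') = b.fiberι _ (fibMap b f _ ζ') ∧
        IsGenFib f ((f ≫ b).fiberι _ ζ') then
        α (fibMap b f _ ζ') * (L ((f ≫ b).fiberι _ ζ') * c ((f ≫ b).fiberι _ ζ')) else 0
    rw [hlen]
    by_cases hcnd : δX'η ζ' = δXη (fibMap b f _ ζ') + e
    · have hgen : IsGenFib f ((f ≫ b).fiberι _ ζ') :=
        isGenFib_of_delta_eq f _ _ e hD' hshift _ (by rw [hDζ', hDζ]; exact hcnd)
      rw [if_pos hcnd, if_pos ⟨hpt.symm, hgen⟩, mul_assoc]
    · rw [if_neg hcnd, zero_mul, if_neg]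
      rintro ⟨-, hgen⟩
      apply hcnd
      have := hshift _ hgen
      rw [hDζ', hDζ] at this
      exact this
  rw [finsum_congr hL, ← finsum_mem_range hJinj, ← finsum_mem_univ (f := G)]
  symm
  refine finsum_mem_inter_support_eq' _ _ _ (fun p hp => ?_)
  simp only [Set.mem_univ, true_iff]
  obtain ⟨-, hp2, -, -⟩ := hGsupp p hp
  have hη : (f ≫ b) p.2 = genericPoint ↥(Spec (CommRingCat.of R)) := by
    show b (f p.2) = _
    rw [hp2, fiberι_mem]
  obtain ⟨ζ', hζ'⟩ := exists_fiber_point (f ≫ b) _ p.2 hη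
  refine ⟨ζ', ?_⟩
  apply Prod.ext
  · apply fiberι_injective b _
    show b.fiberι _ (fibMap b f _ ζ') = _
    rw [fiberι_fibMap, hζ', hp2]
  · exact hζ'

end Groth.Agent.Lib.helper2.SpPull
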