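import Groth.Agent.Lib.Helper2.PushPt2
import Groth.Agent.Lib.Helper16.SecOrd2

/-!
# helper2: proper pushforward of the principal divisor of a function pulled back from the base
-/

set_option autoImplicit false
set_option linter.unusedSectionVars false
universe u
open CategoryTheory CategoryTheory.Limits AlgebraicGeometry TopologicalSpace Opposite IsLocalRing

namespace Groth.Agent.Lib.helper2.SpPush

open Groth.Agent.Lib.helper16.CycClosed Groth.Agent.Lib.helper2.PushPt

section finsum

variable {A B M : Type*} [AddCommMonoid M]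

theorem finsum_comm_of_finite (F : A → B → M)
    (hF : (Function.support (fun p : A × B => F p.1 p.2)).Finite) :
    ∑ᶠ a, ∑ᶠ b, F a b = ∑ᶠ b, ∑ᶠ a, F a b := by
  have h1 := finsum_curry (fun p : A × B => F p.1 p.2) hF
  have hF' : (Function.support (fun p : B × A => F p.2 p.1)).Finite := by
    refine (hF.image Prod.swap).subset ?_
    intro p hp
    exact ⟨(p.2, p.1), hp, rfl⟩
  have h2 := finsum_curry (fun p : B × A => F p.2 p.1) hF'
  rw [← h1, ← h2]
  exact (finsum_comp_equiv (Equiv.prodComm B A) (f := fun p : A × B => F p.1 p.2)).symm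

open Classical in
theorem finsum_fiberwise (φ : A → B) (F : A → M) (hF : (Function.support F).Finite) :
    ∑ᶠ b, ∑ᶠ a ∈ φ ⁻¹' {b}, F a = ∑ᶠ a, F a := by
  have e1 : ∀ b, ∑ᶠ a ∈ φ ⁻¹' {b}, F a = ∑ᶠ a, if φ a = b then F a else 0 := by
    intro b
    refine finsum_congr fun a => ?_
    rw [finsum_eq_if]
    rfl
  rw [finsum_congr e1, finsum_comm_of_finite (fun b a => if φ a = b then F a else 0)]
  · refine finsum_congr fun a => ?_
    rw [finsum_eq_single _ (φ a)]
    · rw [if_pos rfl]
    · intro b hb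
      rw [if_neg (Ne.symm hb)]
  · refine (hF.image (fun a => (φ a, a))).subset ?_
    rintro ⟨b, a⟩ hp
    have hp' : (if φ a = b then F a else 0) ≠ 0 := hp
    have hb : φ a = b := by
      by_contra hne
      exact hp' (if_neg hne)
    rw [if_pos hb] at hp'
    exact ⟨a, hp', Prod.ext hb rfl⟩

end finsum

variable {X Y : Scheme.{u}}

theorem divFun_pow (δ : X → ℤ) (ξ : X) (g : X.residueField ξ) (hg : g ≠ 0) (n : ℕ) (x : X) :
    Cyc.divFun δ ξ (g ^ n) x = n * Cyc.divFun δ ξ g x := by
  unfold Cyc.divFun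
  split_ifs with h
  · unfold Cyc.ordAt
    exact Groth.Agent.Lib.helper16.SecOrd.ordFrac_pow' _ _ hg n
  · rw [mul_zero]

open Classical in
theorem push_divFun_residueFieldMap_aux (δX : X → ℤ) (δY : Y → ℤ) (hX : Cyc.IsSetup X δX)
    (hY : Cyc.IsSetup Y δY) (p : X ⟶ Y) [IsProper p] (hδ : Cyc.DeltaCompat p δX δY)
    {W W' : Scheme.{u}} [IsIntegral W] [IsIntegral W'] (j : W ⟶ X) (j' : W' ⟶ Y)
    [IsClosedImmersion j] [IsClosedImmersion j'] (q : W ⟶ W') [IsProper q]
    (hfac : q ≫ j' = j ≫ p) (hdom : q (genericPoint W) = genericPoint W')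
    (ξ : X) (hξ : j (genericPoint W) = ξ) (hn : δX ξ = δY (p ξ))
    (g₀ : Y.residueField (p ξ)) (hg₀ : g₀ ≠ 0) (y : Y) :
    ∑ᶠ x ∈ p ⁻¹' {y}, Cyc.divFun δX ξ (p.residueFieldMap ξ g₀) x *
        ((AlgebraicCycle.mapCoeff p δX δY x : ℕ) : ℤ) =
      (p.residueDegree ξ : ℤ) * Cyc.divFun δY (p ξ) g₀ y := by
  subst hξ
  haveI := hX.1
  haveI := hY.1
  have hpt : j' (q (genericPoint W)) = p (j (genericPoint W)) := square_apply j j' q p hfac (genericPoint W)
  have hW : Cyc.IsSetup W (fun w => δX (j w)) := isSetup_closedImmersion j δX hX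
  have hW' : Cyc.IsSetup W' (fun w => δY (j' w)) := isSetup_closedImmersion j' δY hY
  haveI := hW.1
  haveI := hW'.1
  have hδq := deltaCompat_square j j' q p hfac δX δY hδ
  set f := p.residueFieldMap (j (genericPoint W)) g₀ with hf
  have hf0 : f ≠ 0 := (map_ne_zero_iff _ (p.residueFieldMap (j (genericPoint W))).hom.injective).2 hg₀
  set fW := j.residueFieldMap (genericPoint W) f with hfW
  have hfW0 : fW ≠ 0 := (map_ne_zero_iff _ (j.residueFieldMap (genericPoint W)).hom.injective).2 hf0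
  set h₀ : W'.residueField (q (genericPoint W)) :=
    j'.residueFieldMap (q (genericPoint W)) ((Y.residueFieldCongr hpt.symm).hom g₀) with hh₀
  have hh₀0 : h₀ ≠ 0 :=
    (map_ne_zero_iff _ (j'.residueFieldMap (q (genericPoint W))).hom.injective).2
      ((map_ne_zero_iff _ (Y.residueFieldCongr hpt.symm).hom.hom.injective).2 hg₀)
  have key1 : fW = q.residueFieldMap (genericPoint W) h₀ := by
    have e1 := Scheme.Hom.residueFieldMap_congr hfac.symm (genericPoint W)
    rw [Scheme.residueFieldMap_comp, Scheme.residueFieldMap_comp] at e1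
    exact congrArg (fun φ => φ.hom g₀) e1
  -- the cycle on `W`
  obtain ⟨αW, hαW, -, -⟩ := exists_cycle_of_family (X := W) (fun w => δX (j w)) hW.2.2
    (δX (j (genericPoint W)) - 1) (J := PUnit.{u+1}) (fun _ => (genericPoint W)) (fun _ => fW)
    (fun _ => by ring) (fun _ => hfW0)
    (fun x => ⟨Set.univ, isOpen_univ, trivial, Set.toFinite _⟩)
  have hαW' : ⇑αW = Cyc.divFun (fun w => δX (j w)) (genericPoint W) fW := by
    funext w
    rw [hαW w, finsum_unique]
  have hF : ∀ x, x ∉ Set.range j →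
      Cyc.divFun δX (j (genericPoint W)) f x * ((AlgebraicCycle.mapCoeff p δX δY x : ℕ) : ℤ) = 0 := by
    intro x hx
    rw [divFun_eq_zero_of_notMem_range j δX (genericPoint W) f x hx, zero_mul]
  have hdeg : q.residueDegree (genericPoint W) = p.residueDegree (j (genericPoint W)) := by
    have h3 : (q ≫ j').residueDegree (genericPoint W) = (j ≫ p).residueDegree (genericPoint W) := by rw [hfac]
    rw [GenFib.residueDegree_comp, GenFib.residueDegree_comp,
      GenFib.residueDegree_eq_one_of_surjectiveOnStalks j',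
      GenFib.residueDegree_eq_one_of_surjectiveOnStalks j, one_mul, mul_one] at h3
    exact h3
  have hnorm : Cyc.normGen q (genericPoint W) fW = h₀ ^ (q.residueDegree (genericPoint W)) := by
    unfold Cyc.normGen Scheme.Hom.residueDegree
    letI := (q.residueFieldMap (genericPoint W)).hom.toAlgebra
    rw [key1]
    exact Algebra.norm_algebraMap h₀
  have key := NormPush.map_divFun_eq_divFun_norm (fun w => δX (j w)) (fun w' => δY (j' w'))
    hW hW' q hδq hdom (by
      show δX (j (genericPoint W)) = δY (j' (genericPoint W'))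
      rw [← hdom, hpt]; exact hn) fW hfW0 αW hαW'
  have hcongr := divFun_congr δY hpt.symm g₀
  by_cases hy : y ∈ Set.range j'
  · obtain ⟨w', rfl⟩ := hy
    rw [finsum_mem_preimage_square j j' q p hfac _ hF w']
    have hmap : ∑ᶠ w ∈ q ⁻¹' {w'}, Cyc.divFun δX (j (genericPoint W)) f (j w) *
        ((AlgebraicCycle.mapCoeff p δX δY (j w) : ℕ) : ℤ) =
        AlgebraicCycle.map q (fun w => δX (j w)) (fun w' => δY (j' w')) αW w' := by
      show _ = ∑ᶠ w ∈ q ⁻¹' {w'}, αW w * ((AlgebraicCycle.mapCoeff q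
        (fun w => δX (j w)) (fun w' => δY (j' w')) w : ℕ) : ℤ)
      apply finsum_mem_congr rfl
      intro w _
      rw [mapCoeff_square j j' q p hfac δX δY w, hαW', divFun_closedImmersion j δX w (genericPoint W) f]
    rw [hmap, key, hnorm, divFun_pow _ _ _ hh₀0, hdeg, hcongr,
      divFun_closedImmersion j' δY w' (q (genericPoint W))]
  · rw [finsum_mem_preimage_square_of_notMem j j' q p hfac _ hF y hy, hcongr,
      divFun_eq_zero_of_notMem_range j' δY (q (genericPoint W)) _ y hy, mul_zero]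

open Classical in
/-- **Proper pushforward of the divisor of a function pulled back from the base**: if
`δX ξ = δY (p ξ)` then `p_*(div_ξ (p^♯ g₀)) = [κ(ξ) : κ(p ξ)] · div_{p ξ} g₀`. -/
theorem push_divFun_residueFieldMap (δX : X → ℤ) (δY : Y → ℤ) (hX : Cyc.IsSetup X δX)
    (hY : Cyc.IsSetup Y δY) (p : X ⟶ Y) [IsProper p] (hδ : Cyc.DeltaCompat p δX δY)
    (ξ : X) (hn : δX ξ = δY (p ξ)) (g₀ : Y.residueField (p ξ)) (hg₀ : g₀ ≠ 0) (y : Y) :
    ∑ᶠ x ∈ p ⁻¹' {y}, Cyc.divFun δX ξ (p.residueFieldMap ξ g₀) x *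
        ((AlgebraicCycle.mapCoeff p δX δY x : ℕ) : ℤ) =
      (p.residueDegree ξ : ℤ) * Cyc.divFun δY (p ξ) g₀ y :=
  push_divFun_residueFieldMap_aux δX δY hX hY p hδ (jc ξ) (jc (p ξ)) (qc p ξ) (qc_jc p ξ)
    (qc_genericPoint p ξ) ξ (jc_genericPoint ξ) hn g₀ hg₀ y

end Groth.Agent.Lib.helper2.SpPush
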