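import Groth.Agent.Lib.Helper2.SpPush1
import Groth.Agent.Lib.Helper2.SpPull3
import Groth.Agent.Lib.Helper2.SetupLft
import Groth.Agent.Lib.Helper2.BivarPush

/-!
# helper2: the base change of a morphism to a fibre: residue degrees, pushforward coefficients,
reindexing of fibres, finiteness
-/

set_option autoImplicit false
universe u
open CategoryTheory CategoryTheory.Limits AlgebraicGeometry TopologicalSpace Opposite IsLocalRing

namespace Groth.Agent.Lib.helper2.SpPush

open Groth.Agent.Lib.helper16.CycClosed Groth.Agent.Lib.helper2.PushPt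
  Groth.Agent.Lib.helper2.SpPull Groth.Agent.Lib.helper16.SpFun
  Groth.Agent.Lib.helper3.QFinTop

section general

variable {X Y S : Scheme.{u}} (b : Y ⟶ S) (f : X ⟶ Y) (y : S)

theorem residueDegree_fibMap (z : (f ≫ b).fiber y) :
    (fibMap b f y).residueDegree z = f.residueDegree ((f ≫ b).fiberι y z) := by
  have h3 : (fibMap b f y ≫ b.fiberι y).residueDegree z =
      ((f ≫ b).fiberι y ≫ f).residueDegree z := by rw [fibMap_fiberι]
  rw [GenFib.residueDegree_comp, GenFib.residueDegree_comp,
    GenFib.residueDegree_eq_one_of_surjectiveOnStalks (b.fiberι y),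
    GenFib.residueDegree_eq_one_of_surjectiveOnStalks ((f ≫ b).fiberι y), one_mul, mul_one] at h3
  exact h3

/-- sums over the fibres of the base change of `f` to a fibre. -/
theorem finsum_mem_preimage_fibMap {M : Type*} [AddCommMonoid M] (F : X → M) (y' : b.fiber y) :
    ∑ᶠ z ∈ (fibMap b f y) ⁻¹' {y'}, F ((f ≫ b).fiberι y z) =
      ∑ᶠ x ∈ f ⁻¹' {b.fiberι y y'}, F x := by
  have hset : (f ≫ b).fiberι y '' ((fibMap b f y) ⁻¹' {y'}) = f ⁻¹' {b.fiberι y y'} := by
    ext x
    simp only [Set.mem_image, Set.mem_preimage, Set.mem_singleton_iff]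
    constructor
    · rintro ⟨z, hz, rfl⟩
      rw [← fiberι_fibMap, hz]
    · intro hx
      have hx' : (f ≫ b) x = y := by
        show b (f x) = y
        rw [hx, fiberι_mem]
      have hmem : x ∈ Set.range ((f ≫ b).fiberι y) := by
        rw [(f ≫ b).range_fiberι y]
        exact hx'
      obtain ⟨z, rfl⟩ := hmem
      refine ⟨z, ?_, rfl⟩
      apply fiberι_injective b y
      rw [fiberι_fibMap, hx]
  rw [← hset, finsum_mem_image (fiberι_injective (f ≫ b) y).injOn]

/-- finitely many points of the support of a cycle on a fibre have image under a quasi-compact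
morphism specializing to a given point. -/
theorem finite_support_map_specializes {Z : Scheme.{u}} (a : X ⟶ S) (g : X ⟶ Z) [QuasiCompact g]
    (α : AlgebraicCycle (a.fiber y) ℤ) (z : Z) :
    {ζ : a.fiber y | α ζ ≠ 0 ∧ g (a.fiberι y ζ) ⤳ z}.Finite := by
  obtain ⟨_, ⟨U, hU : IsAffineOpen U, rfl⟩, hzU, -⟩ :=
    Z.isBasis_affineOpens.exists_subset_of_mem_open (Set.mem_univ z) isOpen_univ
  haveI : QuasiCompact (a.fiberι y) :=
    inferInstanceAs (QuasiCompact (pullback.fst a (S.fromSpecResidueField y)))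
  have hK1 : IsCompact (g ⁻¹' (U : Set Z)) :=
    QuasiCompact.isCompact_preimage (f := g) _ U.isOpen hU.isCompact
  have hK : IsCompact ((a.fiberι y) ⁻¹' (g ⁻¹' (U : Set Z))) :=
    QuasiCompact.isCompact_preimage (f := a.fiberι y) _ (U.isOpen.preimage g.continuous) hK1
  have hfin := LocallyFiniteSupport.finite_inter_support_of_isCompact
    (Function.locallyFinsupp.locallyFiniteSupport α) hK
  refine hfin.subset ?_
  rintro ζ ⟨h1, h2⟩
  exact ⟨h2.mem_open U.isOpen hzU, h1⟩

theorem isCompact_preimage_singleton [QuasiCompact f] (y' : Y) : IsCompact (f ⁻¹' {y'}) := by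
  rw [← f.range_fiberι y']
  exact isCompact_range (f.fiberι y').continuous

/-- the principal divisor of a point has finite support in a fibre of a quasi-compact morphism. -/
theorem finite_divFun_preimage [QuasiCompact f] [IsLocallyNoetherian X] (δ : X → ℤ)
    (hδ : Cyc.IsDimFun X δ) (ξ : X) (g : X.residueField ξ) (hg : g ≠ 0) (y' : Y) :
    {x : X | f x = y' ∧ Cyc.divFun δ ξ g x ≠ 0}.Finite := by
  obtain ⟨D, hD, -, -⟩ := exists_cycle_of_family (X := X) δ hδ (δ ξ - 1) (J := PUnit.{u+1})
    (fun _ => ξ) (fun _ => g) (fun _ => by ring) (fun _ => hg)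
    (fun x => ⟨Set.univ, isOpen_univ, trivial, Set.toFinite _⟩)
  have hfin := LocallyFiniteSupport.finite_inter_support_of_isCompact
    (Function.locallyFinsupp.locallyFiniteSupport D) (isCompact_preimage_singleton f y')
  refine hfin.subset ?_
  rintro x ⟨h1, h2⟩
  refine ⟨h1, ?_⟩
  show D x ≠ 0
  rw [hD x, finsum_unique]
  exact h2

end general

section dvr

variable (R : Type u) [CommRing R] [IsDomain R] [IsDiscreteValuationRing R]
  {X Y : Scheme.{u}} (b : Y ⟶ Spec (CommRingCat.of R)) [LocallyOfFiniteType b]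
  (f : X ⟶ Y) [LocallyOfFiniteType f]

open Classical in
theorem mapCoeff_fibMap (y : Spec (CommRingCat.of R)) (δX : ↥((f ≫ b).fiber y) → ℤ)
    (δY : ↥(b.fiber y) → ℤ)
    (hX : Cyc.DeltaCompat ((f ≫ b).fiberToSpecResidueField y) δX (fun _ => 0))
    (hY : Cyc.DeltaCompat (b.fiberToSpecResidueField y) δY (fun _ => 0))
    (z : ↥((f ≫ b).fiber y)) :
    AlgebraicCycle.mapCoeff (fibMap b f y) δX δY z =
      AlgebraicCycle.mapCoeff f (deltaX R (f ≫ b)) (deltaX R b) ((f ≫ b).fiberι y z) := by
  unfold AlgebraicCycle.mapCoeff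
  have h1 := deltaX_fiberι R (f ≫ b) y δX hX z
  have h2 := deltaX_fiberι R b y δY hY (fibMap b f y z)
  rw [fiberι_fibMap] at h2
  rw [residueDegree_fibMap]
  show (if δX z = δY (fibMap b f y z) then _ else 0) =
    if deltaX R (f ≫ b) ((f ≫ b).fiberι y z) = deltaX R b (f ((f ≫ b).fiberι y z)) then _ else 0
  by_cases hc : δX z = δY (fibMap b f y z)
  · rw [if_pos hc, if_pos (by rw [h1, h2, hc])]
  · rw [if_neg hc, if_neg (by rw [h1, h2]; intro h; exact hc (by linarith))]

theorem resTau_comp (ξ : X) (r : R) :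
    f.residueFieldMap ξ (resTau b (f ξ) r) = resTau (f ≫ b) ξ r := by
  have := residueFieldMap_resTau b f ξ (f ξ) rfl r
  rw [show (Y.residueFieldCongr (Eq.refl (f ξ)).symm) = Iso.refl _ from
    Scheme.residueFieldCongr_refl] at this
  exact this

end dvr

end Groth.Agent.Lib.helper2.SpPush
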