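import Groth.Agent.Lib.Helper2.SpPush2

/-!
# helper2: specialization of cycles commutes with proper pushforward (S1912)
-/

set_option autoImplicit false
universe u
open CategoryTheory CategoryTheory.Limits AlgebraicGeometry TopologicalSpace Opposite IsLocalRing

namespace Groth.Agent.Lib.helper2.SpPush

open Groth.Agent.Lib.helper16.CycClosed Groth.Agent.Lib.helper2.PushPt
  Groth.Agent.Lib.helper2.SpPull Groth.Agent.Lib.helper16.SpFun
  Groth.Agent.Lib.helper3.QFinTop Groth.Agent.Lib.helper2.BivarPush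
  Groth.Agent.Lib.helper2.SetupLft

set_option maxHeartbeats 1600000 in
open Classical in
theorem spFun_map (R : Type u) [CommRing R] [IsDomain R] [IsDiscreteValuationRing R]
    (X Y : Scheme.{u}) (b : Y ⟶ Spec (CommRingCat.of R)) [LocallyOfFiniteType b] (f : X ⟶ Y)
    [IsProper f]
    (δXη : ↥((f ≫ b).fiber (genericPoint ↥(Spec (CommRingCat.of R)))) → ℤ)
    (δXs : ↥((f ≫ b).fiber (IsLocalRing.closedPoint R)) → ℤ)
    (δYη : ↥(b.fiber (genericPoint ↥(Spec (CommRingCat.of R)))) → ℤ)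
    (δYs : ↥(b.fiber (IsLocalRing.closedPoint R)) → ℤ)
    (hXη : Cyc.DeltaCompat ((f ≫ b).fiberToSpecResidueField
      (genericPoint ↥(Spec (CommRingCat.of R)))) δXη (fun _ => 0))
    (hXs : Cyc.DeltaCompat ((f ≫ b).fiberToSpecResidueField (IsLocalRing.closedPoint R)) δXs
      (fun _ => 0))
    (hYη : Cyc.DeltaCompat (b.fiberToSpecResidueField (genericPoint ↥(Spec (CommRingCat.of R))))
      δYη (fun _ => 0))
    (hYs : Cyc.DeltaCompat (b.fiberToSpecResidueField (IsLocalRing.closedPoint R)) δYs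
      (fun _ => 0))
    [QuasiCompact (fibMap b f (genericPoint ↥(Spec (CommRingCat.of R))))]
    [QuasiCompact (fibMap b f (IsLocalRing.closedPoint R))]
    (r : ℤ) (α : AlgebraicCycle ((f ≫ b).fiber (genericPoint ↥(Spec (CommRingCat.of R)))) ℤ)
    (hα : α ∈ Cyc.Zk ((f ≫ b).fiber (genericPoint ↥(Spec (CommRingCat.of R)))) δXη r)
    (β : AlgebraicCycle ((f ≫ b).fiber (IsLocalRing.closedPoint R)) ℤ)
    (hβ : ⇑β = Cyc.spFun (f ≫ b) (genericPoint ↥(Spec (CommRingCat.of R)))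
      (IsLocalRing.closedPoint R) δXη δXs r ⇑α) :
    Cyc.spFun b (genericPoint ↥(Spec (CommRingCat.of R))) (IsLocalRing.closedPoint R) δYη δYs r
        ⇑(AlgebraicCycle.map (fibMap b f (genericPoint ↥(Spec (CommRingCat.of R)))) δXη δYη α) =
      ⇑(AlgebraicCycle.map (fibMap b f (IsLocalRing.closedPoint R)) δXs δYs β) := by
  haveI : LocallyOfFiniteType (f ≫ b) := inferInstance
  haveI : IsLocallyNoetherian Y := LocallyOfFiniteType.isLocallyNoetherian b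
  haveI : IsLocallyNoetherian X := LocallyOfFiniteType.isLocallyNoetherian (f ≫ b)
  obtain ⟨ϖ, hϖ⟩ := IsDiscreteValuationRing.exists_irreducible R
  have hSX : Cyc.IsSetup X (deltaX R (f ≫ b)) :=
    isSetup_of_lft (f ≫ b) (deltaS R) _ (isSetup_spec_dvr R) (deltaCompat_deltaX R (f ≫ b))
  have hSY : Cyc.IsSetup Y (deltaX R b) :=
    isSetup_of_lft b (deltaS R) _ (isSetup_spec_dvr R) (deltaCompat_deltaX R b)
  have hcompat : Cyc.DeltaCompat f (deltaX R (f ≫ b)) (deltaX R b) :=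
    deltaCompat_cancel f b _ _ (deltaS R) (deltaCompat_deltaX R (f ≫ b)) (deltaCompat_deltaX R b)
  have hα0 : ∀ ζ, δXη ζ ≠ r → α ζ = 0 := hα
  funext y
  set yb := b.fiberι (closedPoint R) y with hyb
  -- abbreviations
  set dv : Y → ℤ := fun ξY => Cyc.divFun (deltaX R b) ξY (resTau b ξY ϖ) yb with hdv
  set mcX : X → ℤ := fun ξ =>
    ((AlgebraicCycle.mapCoeff f (deltaX R (f ≫ b)) (deltaX R b) ξ : ℕ) : ℤ) with hmcX
  set F : ↥((f ≫ b).fiber (genericPoint ↥(Spec (CommRingCat.of R)))) → ℤ := fun ζ =>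
    α ζ * mcX ((f ≫ b).fiberι _ ζ) * dv (f ((f ≫ b).fiberι _ ζ)) with hF
  have hT := finite_support_map_specializes (genericPoint ↥(Spec (CommRingCat.of R)))
    (f ≫ b) f α yb
  have hdvne : ∀ ξY, dv ξY ≠ 0 → ξY ⤳ yb := by
    intro ξY h
    by_contra hsp
    apply h
    show Cyc.divFun _ _ _ _ = 0
    unfold Cyc.divFun
    rw [dif_neg (fun h => hsp h.1)]
  have hFfin : (Function.support F).Finite := by
    refine hT.subset ?_
    intro ζ hζ
    have h1 : α ζ * mcX ((f ≫ b).fiberι _ ζ) ≠ 0 := left_ne_zero_of_mul hζ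
    exact ⟨left_ne_zero_of_mul h1, hdvne _ (right_ne_zero_of_mul hζ)⟩
  -- the coefficients of the pushforward on the generic fibre
  have hmapη : ∀ ζY, (AlgebraicCycle.map (fibMap b f (genericPoint ↥(Spec (CommRingCat.of R))))
      δXη δYη α) ζY = ∑ᶠ ζ ∈ (fibMap b f (genericPoint ↥(Spec (CommRingCat.of R)))) ⁻¹' {ζY},
        α ζ * mcX ((f ≫ b).fiberι _ ζ) := by
    intro ζY
    show ∑ᶠ ζ ∈ (fibMap b f (genericPoint ↥(Spec (CommRingCat.of R)))) ⁻¹' {ζY},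
      α ζ * ((AlgebraicCycle.mapCoeff (fibMap b f _) δXη δYη ζ : ℕ) : ℤ) = _
    refine finsum_mem_congr rfl fun ζ _ => ?_
    rw [mapCoeff_fibMap R b f _ δXη δYη hXη hYη ζ]
  have hmapZ : ∀ ζY, δYη ζY ≠ r →
      (AlgebraicCycle.map (fibMap b f (genericPoint ↥(Spec (CommRingCat.of R)))) δXη δYη α) ζY
        = 0 := by
    intro ζY hζY
    show ∑ᶠ ζ ∈ (fibMap b f (genericPoint ↥(Spec (CommRingCat.of R)))) ⁻¹' {ζY},
      α ζ * ((AlgebraicCycle.mapCoeff (fibMap b f _) δXη δYη ζ : ℕ) : ℤ) = 0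
    refine finsum_mem_eq_zero_of_forall_eq_zero fun ζ hζ => ?_
    by_cases hr : δXη ζ = r
    · unfold AlgebraicCycle.mapCoeff
      rw [if_neg, Nat.cast_zero, mul_zero]
      rw [hr, show fibMap b f _ ζ = ζY from hζ]
      exact fun h => hζY h.symm
    · rw [hα0 ζ hr, zero_mul]
  rw [spFun_eq_finsum_divFun R b δYη δYs hYη hYs r _ hmapZ ϖ hϖ y]
  -- the left hand side
  have hL : ∑ᶠ ζY : ↥(b.fiber (genericPoint ↥(Spec (CommRingCat.of R)))),
      (AlgebraicCycle.map (fibMap b f (genericPoint ↥(Spec (CommRingCat.of R)))) δXη δYη α) ζY *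
        Cyc.divFun (deltaX R b) (b.fiberι _ ζY) (resTau b (b.fiberι _ ζY) ϖ) yb =
      ∑ᶠ ζ, F ζ := by
    rw [← finsum_fiberwise (fibMap b f (genericPoint ↥(Spec (CommRingCat.of R)))) F hFfin]
    refine finsum_congr fun ζY => ?_
    rw [hmapη ζY, finsum_mem_mul]
    refine finsum_mem_congr rfl fun ζ hζ => ?_
    have h1 : b.fiberι _ ζY = f ((f ≫ b).fiberι _ ζ) := by
      rw [← fiberι_fibMap, show fibMap b f _ ζ = ζY from hζ]
    show _ = α ζ * mcX ((f ≫ b).fiberι _ ζ) * dv (f ((f ≫ b).fiberι _ ζ))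
    rw [← h1]
  rw [hL]
  -- the right hand side
  set dvX : ↥((f ≫ b).fiber (genericPoint ↥(Spec (CommRingCat.of R)))) → X → ℤ := fun ζ xb =>
    Cyc.divFun (deltaX R (f ≫ b)) ((f ≫ b).fiberι _ ζ) (resTau (f ≫ b) ((f ≫ b).fiberι _ ζ) ϖ) xb
    with hdvX
  have hβx : ∀ x, β x = ∑ᶠ ζ, α ζ * dvX ζ ((f ≫ b).fiberι _ x) := by
    intro x
    rw [hβ]
    exact spFun_eq_finsum_divFun R (f ≫ b) δXη δXs hXη hXs r _ hα0 ϖ hϖ x
  have hR1 : (AlgebraicCycle.map (fibMap b f (IsLocalRing.closedPoint R)) δXs δYs β) y =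
      ∑ᶠ xb ∈ f ⁻¹' {yb}, (∑ᶠ ζ, α ζ * dvX ζ xb) * mcX xb := by
    show ∑ᶠ x ∈ (fibMap b f (closedPoint R)) ⁻¹' {y},
      β x * ((AlgebraicCycle.mapCoeff (fibMap b f _) δXs δYs x : ℕ) : ℤ) = _
    rw [← finsum_mem_preimage_fibMap b f (closedPoint R)
      (fun xb => (∑ᶠ ζ, α ζ * dvX ζ xb) * mcX xb) y]
    refine finsum_mem_congr rfl fun x _ => ?_
    rw [mapCoeff_fibMap R b f _ δXs δYs hXs hYs x, hβx x]
  rw [hR1]
  set H : X → ↥((f ≫ b).fiber (genericPoint ↥(Spec (CommRingCat.of R)))) → ℤ := fun xb ζ =>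
    if f xb = yb then α ζ * dvX ζ xb * mcX xb else 0 with hH
  have hdvXne : ∀ ζ xb, dvX ζ xb ≠ 0 → (f ≫ b).fiberι _ ζ ⤳ xb := by
    intro ζ xb h
    by_contra hsp
    apply h
    show Cyc.divFun _ _ _ _ = 0
    unfold Cyc.divFun
    rw [dif_neg (fun h => hsp h.1)]
  have hR2 : ∑ᶠ xb ∈ f ⁻¹' {yb}, (∑ᶠ ζ, α ζ * dvX ζ xb) * mcX xb = ∑ᶠ xb, ∑ᶠ ζ, H xb ζ := by
    refine finsum_congr fun xb => ?_
    rw [finsum_eq_if]
    by_cases hxb : f xb = yb
    · rw [if_pos (show xb ∈ f ⁻¹' {yb} from hxb), finsum_mul]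
      refine finsum_congr fun ζ => ?_
      show _ = if f xb = yb then _ else 0
      rw [if_pos hxb]
    · rw [if_neg (show ¬ xb ∈ f ⁻¹' {yb} from hxb)]
      symm
      refine finsum_eq_zero_of_forall_eq_zero fun ζ => ?_
      show (if f xb = yb then _ else 0) = 0
      rw [if_neg hxb]
  have hHfin : (Function.support (fun p : X × ↥((f ≫ b).fiber
      (genericPoint ↥(Spec (CommRingCat.of R)))) => H p.1 p.2)).Finite := by
    have hS : ∀ ζ : ↥((f ≫ b).fiber (genericPoint ↥(Spec (CommRingCat.of R)))),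
        {xb : X | f xb = yb ∧ dvX ζ xb ≠ 0}.Finite := fun ζ =>
      finite_divFun_preimage f (deltaX R (f ≫ b)) hSX.2.2 _ _
        (resTau_generic_ne_zero R (f ≫ b) ζ ϖ hϖ.ne_zero) yb
    refine ((hT.biUnion (fun ζ _ => hS ζ)).prod hT).subset ?_
    intro p hp
    have hp' : (if f p.1 = yb then α p.2 * dvX p.2 p.1 * mcX p.1 else 0) ≠ 0 := hp
    have hfp : f p.1 = yb := by
      by_contra hne
      exact hp' (if_neg hne)
    rw [if_pos hfp] at hp'
    have h1 : α p.2 * dvX p.2 p.1 ≠ 0 := left_ne_zero_of_mul hp'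
    have h2 : dvX p.2 p.1 ≠ 0 := right_ne_zero_of_mul h1
    have hpT : p.2 ∈ {ζ : ↥((f ≫ b).fiber (genericPoint ↥(Spec (CommRingCat.of R)))) |
        α ζ ≠ 0 ∧ f ((f ≫ b).fiberι _ ζ) ⤳ yb} :=
      ⟨left_ne_zero_of_mul h1, hfp ▸ f.base.hom.map_specializes (hdvXne _ _ h2)⟩
    refine ⟨?_, hpT⟩
    simp only [Set.mem_iUnion]
    exact ⟨p.2, hpT, hfp, h2⟩
  rw [hR2, finsum_comm_of_finite H hHfin]
  refine finsum_congr fun ζ => ?_
  -- the inner sum: the pushforward of the divisor of the uniformizer on the closure of `ζ`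
  have hin : ∑ᶠ xb, H xb ζ = α ζ * ∑ᶠ xb ∈ f ⁻¹' {yb}, dvX ζ xb * mcX xb := by
    rw [mul_finsum_mem]
    refine finsum_congr fun xb => ?_
    rw [finsum_eq_if]
    show (if f xb = yb then _ else 0) = if xb ∈ f ⁻¹' {yb} then _ else 0
    by_cases hxb : f xb = yb
    · rw [if_pos hxb, if_pos (show xb ∈ f ⁻¹' {yb} from hxb), mul_assoc]
    · rw [if_neg hxb, if_neg (show ¬ xb ∈ f ⁻¹' {yb} from hxb)]
  rw [hin]
  set ξ := (f ≫ b).fiberι (genericPoint ↥(Spec (CommRingCat.of R))) ζ with hξ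
  have hg₀ : resTau b (f ξ) ϖ ≠ 0 := by
    apply resTau_ne_zero
    have h1 : b (f ξ) = genericPoint ↥(Spec (CommRingCat.of R)) := fiberι_mem (f ≫ b) _ ζ
    rw [h1, asIdeal_genericPoint R]
    exact hϖ.ne_zero
  have hres : resTau (f ≫ b) ξ ϖ = f.residueFieldMap ξ (resTau b (f ξ) ϖ) :=
    (resTau_comp R b f ξ ϖ).symm
  symm
  show α ζ * ∑ᶠ xb ∈ f ⁻¹' {yb},
      Cyc.divFun (deltaX R (f ≫ b)) ξ (resTau (f ≫ b) ξ ϖ) xb * mcX xb = α ζ * mcX ξ * dv (f ξ)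
  rw [mul_assoc]
  congr 1
  by_cases hn : deltaX R (f ≫ b) ξ = deltaX R b (f ξ)
  · rw [hres, push_divFun_residueFieldMap _ _ hSX hSY f hcompat ξ hn _ hg₀ yb]
    show _ = ((AlgebraicCycle.mapCoeff f (deltaX R (f ≫ b)) (deltaX R b) ξ : ℕ) : ℤ) * _
    unfold AlgebraicCycle.mapCoeff
    rw [if_pos hn]
  · obtain ⟨g, -, hg⟩ := push_divFun _ _ hSX hSY f hcompat ξ (resTau (f ≫ b) ξ ϖ)
      (by rw [hres]; exact (map_ne_zero_iff _ (f.residueFieldMap ξ).hom.injective).2 hg₀)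
    rw [hg yb, if_neg hn]
    show _ = ((AlgebraicCycle.mapCoeff f (deltaX R (f ≫ b)) (deltaX R b) ξ : ℕ) : ℤ) * _
    unfold AlgebraicCycle.mapCoeff
    rw [if_neg hn, Nat.cast_zero, zero_mul]

end Groth.Agent.Lib.helper2.SpPush
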