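import Mathlib

/-!
# The cokernel of `ad x` for the subregular nilpotent of `gl_{n+1}` (helper2)

Matrix-level computations: for `X = ∑_{i+1<n} E_{i,i+1}` in `gl_{n+1}(R)`, the image of
`N ↦ X N - N X` on trace zero matrices is cut out by `n + 2` explicit functionals.
-/

set_option autoImplicit false
universe u

namespace Groth.Agent.Lib.helper2.SubReg

open Matrix

variable {R : Type u} [CommRing R] {n : ℕ}

/-- entries with natural indices -/
def ent (A : Matrix (Fin (n + 1)) (Fin (n + 1)) R) (i j : ℕ) : R :=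
  if h : i < n + 1 ∧ j < n + 1 then A ⟨i, h.1⟩ ⟨j, h.2⟩ else 0

theorem ent_fin (A : Matrix (Fin (n + 1)) (Fin (n + 1)) R) (i j : Fin (n + 1)) :
    ent A i j = A i j := by
  unfold ent
  rw [dif_pos ⟨i.2, j.2⟩]

theorem ent_of_lt (A : Matrix (Fin (n + 1)) (Fin (n + 1)) R) {i j : ℕ} (hi : i < n + 1)
    (hj : j < n + 1) : ent A i j = A ⟨i, hi⟩ ⟨j, hj⟩ := by
  unfold ent
  rw [dif_pos ⟨hi, hj⟩]

theorem ent_add (A B : Matrix (Fin (n + 1)) (Fin (n + 1)) R) (i j : ℕ) :
    ent (A + B) i j = ent A i j + ent B i j := by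
  unfold ent
  split_ifs <;> simp

theorem ent_smul (c : R) (A : Matrix (Fin (n + 1)) (Fin (n + 1)) R) (i j : ℕ) :
    ent (c • A) i j = c * ent A i j := by
  unfold ent
  split_ifs <;> simp

/-- entries of the upper left `n × n` block, zero outside -/
def blk (A : Matrix (Fin (n + 1)) (Fin (n + 1)) R) (i j : ℕ) : R :=
  if i < n ∧ j < n then ent A i j else 0

theorem blk_add (A B : Matrix (Fin (n + 1)) (Fin (n + 1)) R) (i j : ℕ) :
    blk (A + B) i j = blk A i j + blk B i j := by
  unfold blk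
  split_ifs <;> simp [ent_add]

theorem blk_smul (c : R) (A : Matrix (Fin (n + 1)) (Fin (n + 1)) R) (i j : ℕ) :
    blk (c • A) i j = c * blk A i j := by
  unfold blk
  split_ifs <;> simp [ent_smul]

/-- partial sums along the diagonals of the block -/
def dsum (A : Matrix (Fin (n + 1)) (Fin (n + 1)) R) (i j : ℕ) : R :=
  ∑ t ∈ Finset.range n, blk A (i + t) (j + t)

theorem dsum_add (A B : Matrix (Fin (n + 1)) (Fin (n + 1)) R) (i j : ℕ) :
    dsum (A + B) i j = dsum A i j + dsum B i j := by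
  unfold dsum
  rw [← Finset.sum_add_distrib]
  exact Finset.sum_congr rfl fun t _ => blk_add A B _ _

theorem dsum_smul (c : R) (A : Matrix (Fin (n + 1)) (Fin (n + 1)) R) (i j : ℕ) :
    dsum (c • A) i j = c * dsum A i j := by
  unfold dsum
  rw [Finset.mul_sum]
  exact Finset.sum_congr rfl fun t _ => blk_smul c A _ _

theorem dsum_succ (A : Matrix (Fin (n + 1)) (Fin (n + 1)) R) (i j : ℕ) :
    dsum A i j = blk A i j + dsum A (i + 1) (j + 1) := by
  unfold dsum
  have h1 := Finset.sum_range_succ (fun t => blk A (i + t) (j + t)) n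
  have h2 := Finset.sum_range_succ' (fun t => blk A (i + t) (j + t)) n
  have h3 : blk A (i + n) (j + n) = 0 := by
    unfold blk
    rw [if_neg (by omega)]
  simp only [h3, add_zero] at h1 h2
  rw [← h1, h2, add_comm]
  congr 1
  refine Finset.sum_congr rfl fun t _ => ?_
  rw [show i + (t + 1) = i + 1 + t by omega, show j + (t + 1) = j + 1 + t by omega]

theorem dsum_eq_zero_of_le (A : Matrix (Fin (n + 1)) (Fin (n + 1)) R) (i j : ℕ)
    (h : n ≤ i ∨ n ≤ j) : dsum A i j = 0 := by
  unfold dsum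
  refine Finset.sum_eq_zero fun t _ => ?_
  unfold blk
  rw [if_neg (by omega)]


section comm

variable (X : Matrix (Fin (n + 1)) (Fin (n + 1)) R)
  (hx : ∀ i j : Fin (n + 1), X i j = if j.val = i.val + 1 ∧ j.val < n then 1 else 0)

include hx

theorem mul_left_apply (N : Matrix (Fin (n + 1)) (Fin (n + 1)) R) (i j : Fin (n + 1)) :
    (X * N) i j = if i.val + 1 < n then ent N (i.val + 1) j.val else 0 := by
  rw [Matrix.mul_apply]
  split_ifs with h
  · have hk : i.val + 1 < n + 1 := by omega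
    rw [Finset.sum_eq_single (⟨i.val + 1, hk⟩ : Fin (n + 1))]
    · rw [hx, if_pos ⟨rfl, h⟩, one_mul, ent_of_lt N hk j.2]
    · intro k _ hk'
      rw [hx, if_neg, zero_mul]
      rintro ⟨h1, -⟩
      exact hk' (Fin.ext h1)
    · intro h'; exact absurd (Finset.mem_univ _) h'
  · refine Finset.sum_eq_zero fun k _ => ?_
    rw [hx, if_neg, zero_mul]
    rintro ⟨h1, h2⟩
    omega

theorem mul_right_apply (N : Matrix (Fin (n + 1)) (Fin (n + 1)) R) (i j : Fin (n + 1)) :
    (N * X) i j = if 1 ≤ j.val ∧ j.val < n then ent N i.val (j.val - 1) else 0 := by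
  rw [Matrix.mul_apply]
  split_ifs with h
  · have hk : j.val - 1 < n + 1 := by omega
    rw [Finset.sum_eq_single (⟨j.val - 1, hk⟩ : Fin (n + 1))]
    · rw [hx, if_pos ⟨by simp only []; omega, h.2⟩, mul_one, ent_of_lt N i.2 hk]
    · intro k _ hk'
      rw [hx, if_neg, mul_zero]
      rintro ⟨h1, -⟩
      apply hk'
      apply Fin.ext
      simp only []
      omega
    · intro h'; exact absurd (Finset.mem_univ _) h'
  · refine Finset.sum_eq_zero fun k _ => ?_
    rw [hx, if_neg, mul_zero]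
    rintro ⟨h1, h2⟩
    omega

theorem comm_apply (N : Matrix (Fin (n + 1)) (Fin (n + 1)) R) (i j : Fin (n + 1)) :
    (X * N - N * X) i j = (if i.val + 1 < n then ent N (i.val + 1) j.val else 0) -
      (if 1 ≤ j.val ∧ j.val < n then ent N i.val (j.val - 1) else 0) := by
  rw [Matrix.sub_apply, mul_left_apply X hx, mul_right_apply X hx]

theorem ent_comm (N : Matrix (Fin (n + 1)) (Fin (n + 1)) R) (i j : ℕ) (hi : i < n + 1)
    (hj : j < n + 1) :
    ent (X * N - N * X) i j = (if i + 1 < n then ent N (i + 1) j else 0) -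
      (if 1 ≤ j ∧ j < n then ent N i (j - 1) else 0) := by
  rw [ent_of_lt _ hi hj, comm_apply X hx]

/-- first column of the block -/
theorem blk_comm_zero (hn : 1 ≤ n) (N : Matrix (Fin (n + 1)) (Fin (n + 1)) R) (i : ℕ) :
    blk (X * N - N * X) i 0 = blk N (i + 1) 0 := by
  unfold blk
  by_cases hi : i < n
  · rw [if_pos ⟨hi, by omega⟩, ent_comm X hx N i 0 (by omega) (by omega)]
    rw [if_neg (by omega : ¬ (1 ≤ 0 ∧ 0 < n)), sub_zero]
    by_cases h1 : i + 1 < n
    · rw [if_pos h1, if_pos ⟨h1, by omega⟩]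
    · rw [if_neg h1, if_neg (by omega)]
  · rw [if_neg (by omega), if_neg (by omega)]

/-- other columns of the block -/
theorem blk_comm_succ (N : Matrix (Fin (n + 1)) (Fin (n + 1)) R) (i j : ℕ) (hj : j + 1 < n) :
    blk (X * N - N * X) i (j + 1) = blk N (i + 1) (j + 1) - blk N i j := by
  unfold blk
  by_cases hi : i < n
  · rw [if_pos ⟨hi, hj⟩, ent_comm X hx N i (j + 1) (by omega) (by omega)]
    rw [if_pos (by omega : 1 ≤ j + 1 ∧ j + 1 < n), Nat.add_sub_cancel,
      if_pos (⟨hi, by omega⟩ : i < n ∧ j < n)]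
    by_cases h1 : i + 1 < n
    · rw [if_pos h1, if_pos ⟨h1, hj⟩]
    · rw [if_neg h1, if_neg (by omega)]
  · rw [if_neg (by omega), if_neg (by omega), if_neg (by omega), sub_zero]

theorem dsum_comm (hn : 1 ≤ n) (N : Matrix (Fin (n + 1)) (Fin (n + 1)) R) (d : ℕ) :
    dsum (X * N - N * X) d 0 = 0 := by
  obtain ⟨m, rfl⟩ : ∃ m, n = m + 1 := ⟨n - 1, by omega⟩
  unfold dsum
  rw [Finset.sum_range_succ']
  simp only [Nat.add_zero, Nat.zero_add]
  rw [blk_comm_zero X hx hn N d]
  have h1 : ∀ t ∈ Finset.range m, blk (X * N - N * X) (d + (t + 1)) (t + 1) =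
      blk N (d + 1 + (t + 1)) (t + 1) - blk N (d + 1 + t) t := by
    intro t ht
    rw [Finset.mem_range] at ht
    rw [blk_comm_succ X hx N (d + (t + 1)) t (by omega)]
    rw [show d + (t + 1) + 1 = d + 1 + (t + 1) by omega, show d + (t + 1) = d + 1 + t by omega]
  rw [Finset.sum_congr rfl h1, Finset.sum_range_sub (fun t => blk N (d + 1 + t) t)]
  simp only [Nat.add_zero]
  have h2 : blk N (d + 1 + m) m = 0 := by
    unfold blk
    rw [if_neg (by omega)]
  rw [h2]
  ring

end comm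

section functionals

/-- the `n + 2` functionals -/
def Phi (A : Matrix (Fin (n + 1)) (Fin (n + 1)) R) : Fin (n + 2) → R :=
  Fin.cons (ent A (n - 1) n) (Fin.cons (ent A n 0) (fun d : Fin n => dsum A d.val 0))

theorem Phi_zero' (A : Matrix (Fin (n + 1)) (Fin (n + 1)) R) : Phi A 0 = ent A (n - 1) n := rfl

theorem Phi_one' (A : Matrix (Fin (n + 1)) (Fin (n + 1)) R) : Phi A 1 = ent A n 0 := rfl

theorem Phi_succ_succ (A : Matrix (Fin (n + 1)) (Fin (n + 1)) R) (d : Fin n) :
    Phi A d.succ.succ = dsum A d.val 0 := rfl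

theorem Phi_eq_iff (A : Matrix (Fin (n + 1)) (Fin (n + 1)) R) (v : Fin (n + 2) → R) :
    Phi A = v ↔ ent A (n - 1) n = v 0 ∧ ent A n 0 = v 1 ∧
      ∀ d : Fin n, dsum A d.val 0 = v d.succ.succ := by
  constructor
  · rintro rfl
    exact ⟨rfl, rfl, fun d => rfl⟩
  · rintro ⟨h0, h1, h2⟩
    funext k
    refine Fin.cases ?_ (fun k' => ?_) k
    · exact h0
    · refine Fin.cases ?_ (fun d => ?_) k'
      · exact h1
      · exact h2 d

theorem Phi_add (A B : Matrix (Fin (n + 1)) (Fin (n + 1)) R) : Phi (A + B) = Phi A + Phi B := by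
  rw [Phi_eq_iff]
  refine ⟨?_, ?_, fun d => ?_⟩
  · rw [Pi.add_apply, Phi_zero', Phi_zero', ent_add]
  · rw [Pi.add_apply, Phi_one', Phi_one', ent_add]
  · rw [Pi.add_apply, Phi_succ_succ, Phi_succ_succ, dsum_add]

theorem Phi_smul (c : R) (A : Matrix (Fin (n + 1)) (Fin (n + 1)) R) :
    Phi (c • A) = c • Phi A := by
  rw [Phi_eq_iff]
  refine ⟨?_, ?_, fun d => ?_⟩
  · rw [Pi.smul_apply, Phi_zero', ent_smul, smul_eq_mul]
  · rw [Pi.smul_apply, Phi_one', ent_smul, smul_eq_mul]
  · rw [Pi.smul_apply, Phi_succ_succ, dsum_smul, smul_eq_mul]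

theorem Phi_comm (X : Matrix (Fin (n + 1)) (Fin (n + 1)) R)
    (hx : ∀ i j : Fin (n + 1), X i j = if j.val = i.val + 1 ∧ j.val < n then 1 else 0)
    (hn : 1 ≤ n) (N : Matrix (Fin (n + 1)) (Fin (n + 1)) R) : Phi (X * N - N * X) = 0 := by
  rw [Phi_eq_iff]
  refine ⟨?_, ?_, fun d => ?_⟩
  · rw [ent_comm X hx N (n - 1) n (by omega) (by omega), if_neg (by omega), if_neg (by omega),
      sub_zero]
    rfl
  · rw [ent_comm X hx N n 0 (by omega) (by omega), if_neg (by omega), if_neg (by omega),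
      sub_zero]
    rfl
  · rw [dsum_comm X hx hn N d.val]
    rfl

/-- the trace in terms of `dsum` -/
theorem trace_eq (A : Matrix (Fin (n + 1)) (Fin (n + 1)) R) :
    A.trace = dsum A 0 0 + ent A n n := by
  unfold Matrix.trace dsum
  rw [Fin.sum_univ_castSucc, Finset.sum_range]
  congr 1
  · refine Finset.sum_congr rfl fun i _ => ?_
    unfold blk
    rw [Nat.zero_add, if_pos ⟨i.2, i.2⟩, ent_of_lt A (by omega : i.val < n + 1)
      (by omega : i.val < n + 1)]
    rfl
  · rw [ent_of_lt A (by omega : n < n + 1) (by omega : n < n + 1)]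
    rfl

end functionals

end Groth.Agent.Lib.helper2.SubReg
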