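import Mathlib
import Groth.Agent.Lib.Helper2.SubReg1

/-!
# The cokernel of `ad x` for the subregular nilpotent, part 2 (helper2): surjectivity and kernel
-/

set_option autoImplicit false
universe u

namespace Groth.Agent.Lib.helper2.SubReg

open Matrix

variable {R : Type u} [CommRing R] {n : ℕ}

section surj

/-- the index `2` -/
def two {n : ℕ} (hn : 1 ≤ n) : Fin (n + 2) := ⟨2, by omega⟩

/-- a trace zero matrix with prescribed values of the functionals -/
def wit (hn : 1 ≤ n) (v : Fin (n + 2) → R) : Matrix (Fin (n + 1)) (Fin (n + 1)) R :=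
  Matrix.of fun i j =>
    if h : j.val = 0 ∧ i.val < n then v ⟨i.val + 2, Nat.add_lt_add_right h.2 2⟩
    else if j.val = 0 ∧ i.val = n then v 1
    else if i.val = n - 1 ∧ j.val = n then v 0
    else if i.val = n ∧ j.val = n then - v (two hn)
    else 0

theorem ent_wit (hn : 1 ≤ n) (v : Fin (n + 2) → R) (i j : ℕ) (hi : i < n + 1) (hj : j < n + 1) :
    ent (wit hn v) i j =
      if h : j = 0 ∧ i < n then v ⟨i + 2, Nat.add_lt_add_right h.2 2⟩
      else if j = 0 ∧ i = n then v 1
      else if i = n - 1 ∧ j = n then v 0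
      else if i = n ∧ j = n then - v (two hn)
      else 0 := by
  rw [ent_of_lt _ hi hj]
  rfl

theorem trace_wit (hn : 1 ≤ n) (v : Fin (n + 2) → R) : (wit hn v).trace = 0 := by
  rw [trace_eq]
  have h1 : dsum (wit hn v) 0 0 = v (two hn) := by
    unfold dsum
    rw [Finset.sum_eq_single 0]
    · unfold blk
      rw [if_pos (by omega), ent_wit hn v _ _ (by omega) (by omega), dif_pos (by omega)]
      rfl
    · intro t ht ht0
      rw [Finset.mem_range] at ht
      unfold blk
      rw [if_pos (by omega), ent_wit hn v _ _ (by omega) (by omega), dif_neg (by omega),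
        if_neg (by omega), if_neg (by omega), if_neg (by omega)]
    · intro h
      exact absurd (Finset.mem_range.mpr (by omega)) h
  rw [h1, ent_wit hn v n n (by omega) (by omega), dif_neg (by omega), if_neg (by omega),
    if_neg (by omega), if_pos ⟨rfl, rfl⟩, add_neg_cancel]

theorem Phi_wit (hn : 1 ≤ n) (v : Fin (n + 2) → R) : Phi (wit hn v) = v := by
  rw [Phi_eq_iff]
  refine ⟨?_, ?_, fun d => ?_⟩
  · rw [ent_wit hn v _ _ (by omega) (by omega), dif_neg (by omega), if_neg (by omega),
      if_pos ⟨rfl, rfl⟩]
  · rw [ent_wit hn v _ _ (by omega) (by omega), dif_neg (by omega), if_pos ⟨rfl, rfl⟩]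
  · unfold dsum
    rw [Finset.sum_eq_single 0]
    · unfold blk
      rw [if_pos ⟨by have := d.2; omega, by omega⟩, ent_wit hn v _ _ (by have := d.2; omega) (by omega),
        dif_pos ⟨by omega, by have := d.2; omega⟩]
      rfl
    · intro t ht ht0
      rw [Finset.mem_range] at ht
      unfold blk
      split_ifs with h
      · rw [ent_wit hn v _ _ (by omega) (by omega), dif_neg (by omega),
          if_neg (by omega), if_neg (by omega), if_neg (by omega)]
      · rfl
    · intro h
      exact absurd (Finset.mem_range.mpr (by omega)) h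

end surj


section ker

/-- the preimage -/
def pre (M : Matrix (Fin (n + 1)) (Fin (n + 1)) R) : Matrix (Fin (n + 1)) (Fin (n + 1)) R :=
  Matrix.of fun i j =>
    if i.val < n ∧ j.val < n then - dsum M i.val (j.val + 1)
    else if j.val = n ∧ 1 ≤ i.val ∧ i.val < n then ent M (i.val - 1) n
    else if i.val = n ∧ j.val + 1 < n then - ent M n (j.val + 1)
    else 0

theorem ent_pre (M : Matrix (Fin (n + 1)) (Fin (n + 1)) R) (i j : ℕ) (hi : i < n + 1)
    (hj : j < n + 1) :
    ent (pre M) i j =
      if i < n ∧ j < n then - dsum M i (j + 1)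
      else if j = n ∧ 1 ≤ i ∧ i < n then ent M (i - 1) n
      else if i = n ∧ j + 1 < n then - ent M n (j + 1)
      else 0 := by
  rw [ent_of_lt _ hi hj]
  rfl

theorem blk_pre (M : Matrix (Fin (n + 1)) (Fin (n + 1)) R) (i j : ℕ) :
    blk (pre M) i j = - dsum M i (j + 1) := by
  unfold blk
  split_ifs with h
  · rw [ent_pre M i j (by omega) (by omega), if_pos h]
  · rw [dsum_eq_zero_of_le M i (j + 1) (by omega), neg_zero]

variable (X : Matrix (Fin (n + 1)) (Fin (n + 1)) R)
  (hx : ∀ i j : Fin (n + 1), X i j = if j.val = i.val + 1 ∧ j.val < n then 1 else 0)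

include hx in
theorem comm_pre (hn : 1 ≤ n) (M : Matrix (Fin (n + 1)) (Fin (n + 1)) R) (htr : M.trace = 0)
    (hM : Phi M = 0) : X * pre M - pre M * X = M := by
  rw [Phi_eq_iff] at hM
  obtain ⟨h0, h1, h2⟩ := hM
  simp only [Pi.zero_apply] at h0 h1 h2
  have hnn : ent M n n = 0 := by
    have := trace_eq M
    rw [htr, h2 ⟨0, by omega⟩, zero_add] at this
    exact this.symm
  ext i j
  rw [← ent_fin (X * pre M - pre M * X) i j, ← ent_fin M i j]
  obtain ⟨i, hi⟩ := i
  obtain ⟨j, hj⟩ := j
  simp only []
  by_cases hin : i < n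
  · by_cases hjn : j < n
    · -- the block
      have e1 : ent (X * pre M - pre M * X) i j = blk (X * pre M - pre M * X) i j := by
        unfold blk; rw [if_pos ⟨hin, hjn⟩]
      have e2 : ent M i j = blk M i j := by
        unfold blk; rw [if_pos ⟨hin, hjn⟩]
      rw [e1, e2]
      rcases Nat.eq_zero_or_pos j with rfl | hjpos
      · rw [blk_comm_zero X hx hn, blk_pre]
        have h3 := dsum_succ M i 0
        rw [h2 ⟨i, hin⟩] at h3
        rw [zero_add] at h3
        rw [eq_comm, ← sub_eq_zero, sub_neg_eq_add]
        exact h3.symm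
      · obtain ⟨j', rfl⟩ : ∃ j', j = j' + 1 := ⟨j - 1, by omega⟩
        rw [blk_comm_succ X hx _ i j' hjn, blk_pre, blk_pre]
        have h3 := dsum_succ M i (j' + 1)
        rw [h3]
        ring
    · -- last column
      have hj' : j = n := by omega
      subst hj'
      rw [ent_comm X hx _ i j hi hj, if_neg (by omega : ¬ (1 ≤ j ∧ j < j)), sub_zero]
      by_cases h1' : i + 1 < j
      · rw [if_pos h1', ent_pre M _ _ (by omega) (by omega), if_neg (by omega),
          if_pos ⟨rfl, by omega, h1'⟩, Nat.add_sub_cancel]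
      · rw [if_neg h1']
        have : i = j - 1 := by omega
        subst this
        exact h0.symm
  · have hi' : i = n := by omega
    subst hi'
    rw [ent_comm X hx _ i j hi hj, if_neg (by omega : ¬ (i + 1 < i)), zero_sub]
    by_cases hjn : 1 ≤ j ∧ j < i
    · rw [if_pos hjn, ent_pre M _ _ (by omega) (by omega), if_neg (by omega), if_neg (by omega),
        if_pos ⟨rfl, by omega⟩, neg_neg, Nat.sub_add_cancel hjn.1]
    · rw [if_neg hjn, neg_zero]
      rcases Nat.eq_zero_or_pos j with rfl | hjpos
      · exact h1.symm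
      · have : j = i := by omega
        subst this
        exact hnn.symm

end ker

end Groth.Agent.Lib.helper2.SubReg
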