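import Mathlib

/-!
# Symmetric tensors and purely inseparable field extensions (helper2)

For a finite purely inseparable extension `L/K` of degree dividing `d`, the product of a symmetric
tensor of degree `d` pushed to `L` lies in `K`.
-/

set_option autoImplicit false

open Finset MulAction
open scoped TensorProduct

universe u v

namespace Groth.Agent.Lib.helper2.SymTenField

theorem smul_mem_fixedPoints_iff {G : Type u} [Group G] {Ω : Type v} [MulAction G Ω] (g : G) (b : Ω) :
    g • b ∈ fixedPoints G Ω ↔ b ∈ fixedPoints G Ω := by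
  constructor
  · intro h
    rw [mem_fixedPoints] at h ⊢
    intro g'
    have h1 := h (g * g' * g⁻¹)
    rw [mul_smul, inv_smul_smul, mul_smul] at h1
    exact smul_left_cancel g h1
  · intro h
    rw [mem_fixedPoints] at h ⊢
    intro g'
    rw [h g, h g']

/-- sum over a set with a p-group action of an invariant function, in characteristic p. -/
theorem sum_eq_sum_fixedPoints {p : ℕ} [Fact p.Prime] {G : Type u} [Group G] [Finite G]
    (hG : IsPGroup p G) {Ω : Type v} [Fintype Ω] [MulAction G Ω] {R : Type*} [CommRing R] [CharP R p]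
    (F : Ω → R) (hF : ∀ (g : G) (ω : Ω), F (g • ω) = F ω) [DecidablePred (· ∈ fixedPoints G Ω)] :
    ∑ ω, F ω = ∑ ω ∈ Finset.univ.filter (· ∈ fixedPoints G Ω), F ω := by
  classical
  rw [← Finset.sum_filter_add_sum_filter_not Finset.univ (· ∈ fixedPoints G Ω)]
  suffices h : ∑ ω ∈ Finset.univ.filter (fun ω => ω ∉ fixedPoints G Ω), F ω = 0 by
    rw [h, add_zero]
  -- group by orbits
  rw [← Finset.sum_fiberwise (s := Finset.univ.filter (fun ω => ω ∉ fixedPoints G Ω))
    (g := fun ω => (Quotient.mk'' ω : Quotient (orbitRel G Ω)))]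
  refine Finset.sum_eq_zero ?_
  intro o _
  induction o using Quotient.inductionOn' with
  | h b =>
  have hmem : ∀ ω, ω ∈ (Finset.univ.filter (fun ω => ω ∉ fixedPoints G Ω)).filter
        (fun ω => (Quotient.mk'' ω : Quotient (orbitRel G Ω)) = Quotient.mk'' b) ↔
      (b ∉ fixedPoints G Ω ∧ ω ∈ orbit G b) := by
    intro ω
    simp only [Finset.mem_filter, Finset.mem_univ, true_and]
    constructor
    · rintro ⟨h1, h2⟩
      have h3 : ω ∈ orbit G b := Quotient.exact' h2
      obtain ⟨g, hg⟩ := h3
      have hg' : g • b = ω := hg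
      rw [← hg', smul_mem_fixedPoints_iff] at h1
      exact ⟨h1, g, hg⟩
    · rintro ⟨h1, h2⟩
      obtain ⟨g, hg⟩ := h2
      have hg' : g • b = ω := hg
      refine ⟨?_, Quotient.sound' ⟨g, hg⟩⟩
      rw [← hg', smul_mem_fixedPoints_iff]
      exact h1
  by_cases hb : b ∈ fixedPoints G Ω
  · refine Finset.sum_eq_zero ?_
    intro ω hω
    exact absurd hb ((hmem ω).1 hω).1
  · have hconst : ∀ ω ∈ (Finset.univ.filter (fun ω => ω ∉ fixedPoints G Ω)).filter
        (fun ω => (Quotient.mk'' ω : Quotient (orbitRel G Ω)) = Quotient.mk'' b), F ω = F b := by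
      intro ω hω
      obtain ⟨g, hg⟩ := ((hmem ω).1 hω).2
      have hg' : g • b = ω := hg
      rw [← hg', hF]
    rw [Finset.sum_congr rfl hconst, Finset.sum_const]
    have hcard : ((Finset.univ.filter (fun ω => ω ∉ fixedPoints G Ω)).filter
        (fun ω => (Quotient.mk'' ω : Quotient (orbitRel G Ω)) = Quotient.mk'' b)).card =
        Nat.card (orbit G b) := by
      rw [Nat.card_eq_fintype_card, ← Set.toFinset_card]
      congr 1
      ext ω
      rw [hmem ω, Set.mem_toFinset]
      exact ⟨fun h => h.2, fun h => ⟨hb, h⟩⟩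
    rw [hcard]
    obtain ⟨k, hk⟩ := hG.card_orbit b
    have hk0 : k ≠ 0 := by
      rintro rfl
      apply hb
      rw [mem_fixedPoints_iff_card_orbit_eq_one, ← Nat.card_eq_fintype_card, hk, pow_zero]
    rw [hk, ← Nat.cast_smul_eq_nsmul R, Nat.cast_pow, CharP.cast_eq_zero R p, zero_pow hk0, zero_smul]

/-- Lemma B'. -/
theorem sum_mem_range_of_invariant {K L : Type u} [Field K] [Field L] [Algebra K L]
    (p : ℕ) [Fact p.Prime] [CharP L p] (q m : ℕ) (e : ℕ) (hq : q = p ^ e)
    (hpow : ∀ a : L, a ^ q ∈ (algebraMap K L).range)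
    {ι : Type*} {J : Type*} [Fintype ι] [DecidableEq ι] [Fintype J] [DecidableEq J] (hcard : Fintype.card ι = m * q)
    (b : J → L) (w : (ι → J) → K)
    (hw : ∀ (σ : Equiv.Perm ι) (f : ι → J), w (f ∘ σ) = w f) :
    ∑ f : ι → J, algebraMap K L (w f) * ∏ i, b (f i) ∈ (algebraMap K L).range := by
  classical
  have hq0 : q ≠ 0 := by rw [hq]; exact pow_ne_zero _ (Fact.out : p.Prime).ne_zero
  haveI : NeZero q := ⟨hq0⟩
  have ε : ι ≃ Fin m × Fin q := Fintype.equivOfCardEq (by simp [hcard])
  letI act : MulAction (Multiplicative (Fin q)) ι :=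
    { smul := fun g i => ε.symm ((ε i).1, (ε i).2 + Multiplicative.toAdd g)
      one_smul := by
        intro i
        show ε.symm ((ε i).1, (ε i).2 + Multiplicative.toAdd (1 : Multiplicative (Fin q))) = i
        simp
      mul_smul := by
        intro g h i
        show ε.symm ((ε i).1, (ε i).2 + Multiplicative.toAdd (g * h)) =
          ε.symm ((ε (ε.symm ((ε i).1, (ε i).2 + Multiplicative.toAdd h))).1,
            (ε (ε.symm ((ε i).1, (ε i).2 + Multiplicative.toAdd h))).2 + Multiplicative.toAdd g)
        simp only [Equiv.apply_symm_apply, toAdd_mul]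
        rw [add_comm (Multiplicative.toAdd g), add_assoc] }
  letI act2 : MulAction (Multiplicative (Fin q)) (ι → J) := arrowAction
  have hsmul : ∀ (g : Multiplicative (Fin q)) (i : ι),
      g • i = ε.symm ((ε i).1, (ε i).2 + Multiplicative.toAdd g) := fun _ _ => rfl
  have hG : IsPGroup p (Multiplicative (Fin q)) := by
    apply IsPGroup.of_card (n := e)
    rw [Nat.card_eq_fintype_card, Fintype.card_multiplicative, Fintype.card_fin, hq]
  set F : (ι → J) → L := fun f => algebraMap K L (w f) * ∏ i, b (f i) with hFdef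
  have hF : ∀ (g : Multiplicative (Fin q)) (f : ι → J), F (g • f) = F f := by
    intro g f
    have h1 : g • f = f ∘ (MulAction.toPerm g⁻¹ : Equiv.Perm ι) := by
      funext i
      rfl
    simp only [hFdef]
    rw [h1, hw]
    congr 1
    exact Equiv.prod_comp (MulAction.toPerm g⁻¹ : Equiv.Perm ι) (fun i => b (f i))
  rw [sum_eq_sum_fixedPoints hG F hF]
  refine Subring.sum_mem _ ?_
  intro f hf
  simp only [Finset.mem_filter, Finset.mem_univ, true_and] at hf
  rw [mem_fixedPoints] at hf
  refine Subring.mul_mem _ ⟨_, rfl⟩ ?_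
  -- product is a q-th power
  have hfix : ∀ (a : Fin m) (c : Fin q), f (ε.symm (a, c)) = f (ε.symm (a, 0)) := by
    intro a c
    have h1 := congrFun (hf (Multiplicative.ofAdd c)) (ε.symm (a, c))
    -- (g • f) i = f (g⁻¹ • i)
    have h2 : ((Multiplicative.ofAdd c) • f) (ε.symm (a, c)) =
        f ((Multiplicative.ofAdd c)⁻¹ • ε.symm (a, c)) := rfl
    rw [h2, hsmul] at h1
    simp only [Equiv.apply_symm_apply, toAdd_inv, toAdd_ofAdd, add_neg_cancel] at h1
    exact h1.symm
  have hprod : ∏ i, b (f i) = ∏ a : Fin m, (b (f (ε.symm (a, 0)))) ^ q := by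
    rw [← Equiv.prod_comp ε.symm (fun i => b (f i)), Fintype.prod_prod_type]
    refine Finset.prod_congr rfl ?_
    intro a _
    rw [Finset.prod_congr rfl (fun c _ => by rw [hfix a c]), Finset.prod_const, Finset.card_univ,
      Fintype.card_fin]
  rw [hprod]
  exact Subring.prod_mem _ (fun a _ => hpow _)

section C

variable {A B K L : Type u} [CommRing A] [CommRing B] [Field K] [Field L] [Algebra A B]
  [Algebra A K] [Algebra A L] [Algebra K L] [IsScalarTower A K L]
  {ι : Type} [Fintype ι] [DecidableEq ι] {J : Type u} [Fintype J] [DecidableEq J]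

/-- the coefficient multilinear map. -/
noncomputable def coefMulti (ψ : B →ₐ[A] L) (bs : Module.Basis J K L) (f : ι → J) :
    MultilinearMap A (fun _ : ι => B) K :=
  (MultilinearMap.mkPiAlgebra A ι K).compLinearMap
    (fun i => ((bs.coord (f i)).restrictScalars A).comp ψ.toLinearMap)

theorem coefMulti_apply (ψ : B →ₐ[A] L) (bs : Module.Basis J K L) (f : ι → J) (v : ι → B) :
    coefMulti ψ bs f v = ∏ i, bs.repr (ψ (v i)) (f i) := by
  simp [coefMulti]

theorem lift_eq_sum (ψ : B →ₐ[A] L) (bs : Module.Basis J K L) (x : ⨂[A] _ : ι, B) :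
    PiTensorProduct.lift ((MultilinearMap.mkPiAlgebra A ι L).compLinearMap
      (fun _ => ψ.toLinearMap)) x =
    ∑ f : ι → J, algebraMap K L (PiTensorProduct.lift (coefMulti ψ bs f) x) * ∏ i, bs (f i) := by
  induction x using PiTensorProduct.induction_on with
  | smul_tprod r v =>
    simp only [map_smul, PiTensorProduct.lift.tprod, coefMulti_apply]
    have h1 : ((MultilinearMap.mkPiAlgebra A ι L).compLinearMap (fun _ => ψ.toLinearMap)) v =
        ∏ i, ψ (v i) := by simp
    rw [h1]
    have h2 : ∀ i, ψ (v i) = ∑ j, algebraMap K L (bs.repr (ψ (v i)) j) * bs j := by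
      intro i
      conv_lhs => rw [← bs.sum_repr (ψ (v i))]
      refine Finset.sum_congr rfl (fun j _ => ?_)
      rw [Algebra.smul_def]
    rw [Finset.prod_congr rfl (fun i _ => h2 i), Finset.prod_univ_sum, Fintype.piFinset_univ,
      Finset.smul_sum]
    refine Finset.sum_congr rfl (fun f _ => ?_)
    rw [Finset.prod_mul_distrib, ← map_prod]
    simp only [Algebra.smul_def, IsScalarTower.algebraMap_apply A K L, map_mul]
    ring
  | add x y hx hy =>
    simp only [map_add, add_mul, Finset.sum_add_distrib, hx, hy]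

theorem lift_coefMulti_comp_perm (ψ : B →ₐ[A] L) (bs : Module.Basis J K L) (f : ι → J)
    (σ : Equiv.Perm ι) (x : ⨂[A] _ : ι, B) :
    PiTensorProduct.lift (coefMulti ψ bs (f ∘ σ)) x =
      PiTensorProduct.lift (coefMulti ψ bs f) (PiTensorProduct.reindex A (fun _ : ι => B) σ x) := by
  induction x using PiTensorProduct.induction_on with
  | smul_tprod r v =>
    simp only [map_smul, PiTensorProduct.lift.tprod, coefMulti_apply, PiTensorProduct.reindex_tprod]
    congr 1
    rw [← Equiv.prod_comp σ (fun i => bs.repr (ψ (v (σ.symm i))) (f i))]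
    refine Finset.prod_congr rfl (fun i _ => ?_)
    rw [Equiv.symm_apply_apply]
    rfl
  | add x y hx hy =>
    simp only [map_add, hx, hy]

end C

theorem pow_finrank_mem_range {K L : Type u} [Field K] [Field L] [Algebra K L]
    [IsPurelyInseparable K L] [FiniteDimensional K L] (a : L) :
    a ^ Module.finrank K L ∈ (algebraMap K L).range := by
  have h1 : (minpoly K a).natDegree ∣ Module.finrank K L :=
    minpoly.degree_dvd (Algebra.IsIntegral.isIntegral a)
  rw [IsPurelyInseparable.minpoly_natDegree_eq K a] at h1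
  obtain ⟨t, ht⟩ := h1
  rw [ht, pow_mul, ← IsPurelyInseparable.algebraMap_elemReduct_eq K a, ← map_pow]
  exact ⟨_, rfl⟩

theorem lift_mem_range_of_symmetric {A B K L : Type u} [CommRing A] [CommRing B] [Field K] [Field L]
    [Algebra A B] [Algebra A K] [Algebra A L] [Algebra K L] [IsScalarTower A K L]
    [IsPurelyInseparable K L] [FiniteDimensional K L]
    (d : ℕ) (hdvd : Module.finrank K L ∣ d) (ψ : B →ₐ[A] L) (x : ⨂[A] _ : Fin d, B)
    (hx : ∀ σ : Equiv.Perm (Fin d), PiTensorProduct.reindex A (fun _ : Fin d => B) σ x = x) :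
    PiTensorProduct.lift ((MultilinearMap.mkPiAlgebra A (Fin d) L).compLinearMap
      (fun _ => ψ.toLinearMap)) x ∈ (algebraMap K L).range := by
  classical
  obtain ⟨e, he⟩ := IsPurelyInseparable.finrank_eq_pow (F := K) L (ringExpChar K)
  obtain ⟨m, hm⟩ := hdvd
  have hpow := pow_finrank_mem_range (K := K) (L := L)
  by_cases h1 : Module.finrank K L = 1
  · have h2 := hpow (PiTensorProduct.lift ((MultilinearMap.mkPiAlgebra A (Fin d) L).compLinearMap
      (fun _ => ψ.toLinearMap)) x)
    rwa [h1, pow_one] at h2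
  · -- p is prime
    have hp1 : ringExpChar K ≠ 1 := by
      intro h
      rw [h, one_pow] at he
      exact h1 he
    haveI : ExpChar K (ringExpChar K) := inferInstance
    have hprime : (ringExpChar K).Prime := by
      rcases expChar_is_prime_or_one K (ringExpChar K) with h | h
      · exact h
      · exact absurd h hp1
    haveI : Fact (ringExpChar K).Prime := ⟨hprime⟩
    haveI : CharP K (ringExpChar K) := by
      generalize hP : ringExpChar K = P at hp1 hprime
      have hE : ExpChar K P := hP ▸ (inferInstance : ExpChar K (ringExpChar K))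
      cases hE with
      | zero => exact absurd rfl hp1
      | prime hq => assumption
    haveI : CharP L (ringExpChar K) := charP_of_injective_algebraMap (algebraMap K L).injective _
    let bs := Module.Free.chooseBasis K L
    rw [lift_eq_sum ψ bs x]
    refine sum_mem_range_of_invariant (ringExpChar K) (Module.finrank K L) m e he hpow
      (by rw [Fintype.card_fin, hm, mul_comm]) (fun j => bs j)
      (fun f => PiTensorProduct.lift (coefMulti ψ bs f) x) ?_
    intro σ f
    rw [lift_coefMulti_comp_perm, hx σ]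

end Groth.Agent.Lib.helper2.SymTenField
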