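import Mathlib
import Groth.Prelude.Def_CohB1

set_option autoImplicit false
universe u

namespace Groth.Agent.Lib.helper2.ThickEq

open AlgebraicGeometry CategoryTheory CategoryTheory.Limits

/-- Two morphisms from the spectrum of a local ring `R` which agree on every `Spec (R / J^(n+1))`,
where `J` is a proper ideal with `⨅ J^n = ⊥`, are equal. -/
theorem eq_of_local {R : Type u} [CommRing R] [IsLocalRing R] (J : Ideal R) (hJ : J ≠ ⊤)
    (hK : ⨅ n, J ^ n = ⊥) {Y : Scheme.{u}} (α β : Spec (CommRingCat.of R) ⟶ Y)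
    (h : ∀ n : ℕ, Spec.map (CommRingCat.ofHom (Ideal.Quotient.mk (J ^ (n + 1)))) ≫ α =
      Spec.map (CommRingCat.ofHom (Ideal.Quotient.mk (J ^ (n + 1)))) ≫ β) : α = β := by
  -- the closed point
  have hJm : J ≤ IsLocalRing.maximalIdeal R := IsLocalRing.le_maximalIdeal hJ
  have hc : α (IsLocalRing.closedPoint R) = β (IsLocalRing.closedPoint R) := by
    have hmem : IsLocalRing.closedPoint R ∈ PrimeSpectrum.zeroLocus ((J ^ (0 + 1) : Ideal R) : Set R) := by
      rw [PrimeSpectrum.mem_zeroLocus]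
      simpa using (show J ≤ (IsLocalRing.closedPoint R).asIdeal from hJm)
    have hr := _root_.range_comap_of_surjective _ (Ideal.Quotient.mk (J ^ (0 + 1)))
      Ideal.Quotient.mk_surjective
    rw [Ideal.mk_ker] at hr
    rw [← hr] at hmem
    obtain ⟨z, hz⟩ := hmem
    obtain ⟨z' : ↥(Spec (CommRingCat.of (R ⧸ J ^ (0 + 1)))), rfl⟩ : ∃ z' : ↥(Spec (CommRingCat.of (R ⧸ J ^ (0 + 1)))), z' = z := ⟨z, rfl⟩
    have hz' : Spec.map (CommRingCat.ofHom (Ideal.Quotient.mk (J ^ (0 + 1)))) z' =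
        IsLocalRing.closedPoint R := hz
    have := congr($(h 0) z')
    rw [Scheme.Hom.comp_apply, Scheme.Hom.comp_apply, hz'] at this
    exact this
  obtain ⟨_, ⟨V : Y.Opens, hV0, rfl⟩, hxV, -⟩ :=
    Y.isBasis_affineOpens.exists_subset_of_mem_open
      (Set.mem_univ (α (IsLocalRing.closedPoint R))) isOpen_univ
  have hV : IsAffineOpen V := hV0
  have hα : α ⁻¹ᵁ V = ⊤ := by
    have := (IsLocalRing.closedPoint_mem_iff (R := R) (U := α ⁻¹ᵁ V)).1 hxV
    exact this
  have hβ : β ⁻¹ᵁ V = ⊤ := by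
    have := (IsLocalRing.closedPoint_mem_iff (R := R) (U := β ⁻¹ᵁ V)).1 (by
      show β (IsLocalRing.closedPoint R) ∈ V
      rw [← hc]; exact hxV)
    exact this
  have hrα : Set.range α ⊆ Set.range hV.fromSpec := by
    rw [hV.range_fromSpec]
    rintro _ ⟨z, rfl⟩
    have : z ∈ α ⁻¹ᵁ V := by rw [hα]; trivial
    exact this
  have hrβ : Set.range β ⊆ Set.range hV.fromSpec := by
    rw [hV.range_fromSpec]
    rintro _ ⟨z, rfl⟩
    have : z ∈ β ⁻¹ᵁ V := by rw [hβ]; trivial
    exact this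
  set α' := IsOpenImmersion.lift hV.fromSpec α hrα with hα'
  set β' := IsOpenImmersion.lift hV.fromSpec β hrβ with hβ'
  have e1 : α' ≫ hV.fromSpec = α := IsOpenImmersion.lift_fac _ _ _
  have e2 : β' ≫ hV.fromSpec = β := IsOpenImmersion.lift_fac _ _ _
  rw [← e1, ← e2]
  congr 1
  rw [← Spec.map_preimage α', ← Spec.map_preimage β']
  congr 1
  ext t
  have key : ∀ n : ℕ, (Spec.preimage α').hom t - (Spec.preimage β').hom t ∈ J ^ (n + 1) := by
    intro n
    have h1 := h n
    rw [← e1, ← e2, ← Category.assoc, ← Category.assoc, cancel_mono,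
      ← Spec.map_preimage α', ← Spec.map_preimage β', ← Spec.map_comp, ← Spec.map_comp] at h1
    have h2 := Spec.map_injective h1
    have h3 := congr($(h2).hom t)
    simp only [CommRingCat.hom_comp, CommRingCat.hom_ofHom, RingHom.comp_apply] at h3
    rw [← Ideal.Quotient.eq]
    exact h3
  have : (Spec.preimage α').hom t - (Spec.preimage β').hom t ∈ (⨅ n, J ^ n : Ideal R) := by
    rw [Ideal.mem_iInf]
    intro n
    cases n with
    | zero => simp
    | succ n => exact key n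
  rw [hK] at this
  exact sub_eq_zero.1 this


/-- For `x` over `V(I)`, the two morphisms agree on `Spec O_{X,x}`. -/
theorem fromSpecStalk_comp_eq {A : Type u} [CommRing A]
    (I : Ideal A) {X Y : Scheme.{u}} [IsLocallyNoetherian X] (f : X ⟶ Spec (CommRingCat.of A))
    (φ ψ : X ⟶ Y)
    (e : ∀ n : ℕ, CohB1.thickι f I n ≫ φ = CohB1.thickι f I n ≫ ψ) (x : X)
    (hx : I ≤ (f x).asIdeal) : X.fromSpecStalk x ≫ φ = X.fromSpecStalk x ≫ ψ := by
  set ρ : CommRingCat.of A ⟶ X.presheaf.stalk x := Spec.preimage (X.fromSpecStalk x ≫ f) with hρ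
  have hρ' : Spec.map ρ = X.fromSpecStalk x ≫ f := Spec.map_preimage _
  set J : Ideal (X.presheaf.stalk x) := I.map ρ.hom with hJdef
  have hJm : J ≤ IsLocalRing.maximalIdeal (X.presheaf.stalk x) := by
    rw [hJdef, Ideal.map_le_iff_le_comap]
    have h1 : Spec.map ρ (IsLocalRing.closedPoint (X.presheaf.stalk x)) = f x := by
      rw [hρ']
      exact (Scheme.Hom.comp_apply _ _ _).trans (congrArg f Scheme.fromSpecStalk_closedPoint)
    have h2 : (Spec.map ρ (IsLocalRing.closedPoint (X.presheaf.stalk x))).asIdeal =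
        Ideal.comap ρ.hom (IsLocalRing.maximalIdeal (X.presheaf.stalk x)) := rfl
    rw [← h2, h1]
    exact hx
  have hJ : J ≠ ⊤ := fun h => (IsLocalRing.maximalIdeal.isMaximal _).ne_top (top_le_iff.1 (h ▸ hJm))
  have hK : ⨅ n, J ^ n = ⊥ := Ideal.iInf_pow_eq_bot_of_isLocalRing J hJ
  refine eq_of_local J hJ hK _ _ fun n => ?_
  have hle : I ^ (n + 1) ≤ Ideal.comap ρ.hom (J ^ (n + 1)) := by
    rw [← Ideal.map_le_iff_le_comap, Ideal.map_pow]
  have comm : (Spec.map (CommRingCat.ofHom (Ideal.Quotient.mk (J ^ (n + 1)))) ≫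
      X.fromSpecStalk x) ≫ f =
      Spec.map (CommRingCat.ofHom (Ideal.quotientMap (J ^ (n + 1)) ρ.hom hle)) ≫
        CohB1.specQuot I n := by
    rw [Category.assoc, ← hρ', CohB1.specQuot, ← Spec.map_comp, ← Spec.map_comp]
    congr 1
  set l : Spec (CommRingCat.of ((X.presheaf.stalk x) ⧸ J ^ (n + 1))) ⟶ CohB1.thick f I n :=
    pullback.lift _ _ comm with hl
  have hl1 : l ≫ CohB1.thickι f I n =
      Spec.map (CommRingCat.ofHom (Ideal.Quotient.mk (J ^ (n + 1)))) ≫ X.fromSpecStalk x :=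
    pullback.lift_fst _ _ _
  rw [← Category.assoc, ← Category.assoc, ← hl1, Category.assoc, Category.assoc, e n]

theorem main (A : Type u) [CommRing A] [IsNoetherianRing A]
    (I : Ideal A) [IsAdicComplete I A] {X Y : Scheme.{u}} (f : X ⟶ Spec (CommRingCat.of A))
    [IsProper f] (φ ψ : X ⟶ Y)
    (e : ∀ n : ℕ, CohB1.thickι f I n ≫ φ = CohB1.thickι f I n ≫ ψ) : φ = ψ := by
  haveI : IsLocallyNoetherian X := LocallyOfFiniteType.isLocallyNoetherian f
  haveI : CompactSpace X := QuasiCompact.compactSpace_of_compactSpace f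
  have hloc : ∀ x : {x : X // I ≤ (f x).asIdeal}, ∃ U : X.Opens, x.1 ∈ U ∧ U.ι ≫ φ = U.ι ≫ ψ :=
    fun x => spread_out_unique_of_isGermInjective' φ ψ
      (fromSpecStalk_comp_eq I f φ ψ e x.1 x.2)
  choose U hxU hU using hloc
  have hcov : TopologicalSpace.IsOpenCover U := by
    apply TopologicalSpace.IsOpenCover.mk
    by_contra hne
    have hcl : IsClosed ((⨆ i, U i : X.Opens) : Set X)ᶜ := (⨆ i, U i : X.Opens).2.isClosed_compl
    have hnon : (((⨆ i, U i : X.Opens) : Set X)ᶜ).Nonempty := by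
      rw [Set.nonempty_compl]
      intro h
      exact hne (TopologicalSpace.Opens.ext (by simpa using h))
    obtain ⟨x, hxS, hxc⟩ := hcl.exists_closed_singleton hnon
    have hfx : IsClosed ({f x} : Set _) := by
      have := f.isClosedMap _ hxc
      simpa using this
    have hmax : (f x).asIdeal.IsMaximal := (PrimeSpectrum.isClosed_singleton_iff_isMaximal _).1 hfx
    have hI : I ≤ (f x).asIdeal :=
      (IsAdicComplete.le_jacobson_bot I).trans (sInf_le ⟨bot_le, hmax⟩)
    apply hxS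
    exact TopologicalSpace.Opens.mem_iSup.2 ⟨⟨x, hI⟩, hxU ⟨x, hI⟩⟩
  exact Scheme.Cover.hom_ext (X.openCoverOfIsOpenCover U hcov) _ _ fun i => hU i

end Groth.Agent.Lib.helper2.ThickEq
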