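import Mathlib.AlgebraicGeometry.Noetherian
import Mathlib.AlgebraicGeometry.Properties
import Mathlib.Topology.Sober
import Mathlib.Topology.NoetherianSpace

/-!
# Closure of a locally closed subset of a specialization-stable set (helper2)
-/

universe u
open CategoryTheory AlgebraicGeometry TopologicalSpace Topology

namespace Groth.Agent.Lib.helper2.TopB

variable {X : Scheme.{u}}

/-- In a Noetherian quasi-sober space, every closed set is the union of the closures
of finitely many of its points. -/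
theorem exists_finite_generic {Y : Type*} [TopologicalSpace Y] [NoetherianSpace Y] [QuasiSober Y]
    {A : Set Y} (hA : IsClosed A) :
    ∃ G : Set Y, G.Finite ∧ G ⊆ A ∧ A = ⋃ η ∈ G, closure {η} := by
  obtain ⟨S, hSf, hSc, hSi, hSU⟩ := NoetherianSpace.exists_finite_set_isClosed_irreducible hA
  choose g hg using fun (t : S) => QuasiSober.sober (hSi t.1 t.2) (hSc t.1 t.2)
  haveI : Finite S := hSf
  refine ⟨Set.range g, Set.finite_range g, ?_, ?_⟩
  · rintro _ ⟨t, rfl⟩
    rw [hSU]
    exact Set.mem_sUnion.mpr ⟨t.1, t.2, (hg t).mem⟩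
  · rw [hSU]
    ext z
    simp only [Set.mem_sUnion, Set.mem_iUnion, Set.mem_range, exists_prop]
    constructor
    · rintro ⟨t, ht, hz⟩
      refine ⟨g ⟨t, ht⟩, ⟨⟨t, ht⟩, rfl⟩, ?_⟩
      rw [(hg ⟨t, ht⟩).def]; exact hz
    · rintro ⟨_, ⟨t, rfl⟩, hz⟩
      rw [(hg t).def] at hz
      exact ⟨t.1, t.2, hz⟩

theorem closure_subset_of_stable [IsLocallyNoetherian X] (Z : Set X)
    (hZ : StableUnderSpecialization Z) (W : Set X) (hW : IsOpen W) (C : Set X) (hC : IsClosed C)
    (h : C ∩ W ⊆ Z) : closure (C ∩ W) ⊆ Z := by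
  intro y hy
  -- affine neighbourhood
  obtain ⟨W', hW', hyW', -⟩ := Opens.isBasis_iff_nbhd.mp (X.isBasis_affineOpens)
    (show y ∈ (⊤ : X.Opens) from trivial)
  haveI : IsNoetherianRing Γ(X, W') := IsLocallyNoetherian.component_noetherian ⟨W', hW'⟩
  have hN : NoetherianSpace W' := noetherianSpace_of_isAffineOpen W' hW'
  let s : Set X := W ∩ (W' : Set X)
  have hs : IsOpen s := hW.inter W'.2
  haveI : NoetherianSpace s :=
    @NoetherianSpace.of_subset _ _ (W' : Set X) s hN Set.inter_subset_right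
  haveI : QuasiSober s := hs.isOpenEmbedding_subtypeVal.quasiSober
  let A : Set s := Subtype.val ⁻¹' C
  have hA : IsClosed A := hC.preimage continuous_subtype_val
  obtain ⟨G, hGf, hGA, hAG⟩ := exists_finite_generic hA
  have hval : Subtype.val '' A = (W' : Set X) ∩ (C ∩ W) := by
    ext z
    constructor
    · rintro ⟨z', hz', rfl⟩
      exact ⟨z'.2.2, hz', z'.2.1⟩
    · rintro ⟨h1, h2, h3⟩
      exact ⟨⟨z, h3, h1⟩, h2, rfl⟩
  have hy' : y ∈ closure (Subtype.val '' A) := by
    rw [hval]
    exact W'.2.inter_closure ⟨hyW', hy⟩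
  rw [hAG, Set.image_iUnion₂, hGf.closure_biUnion] at hy'
  obtain ⟨η, hηG, hyη⟩ := Set.mem_iUnion₂.mp hy'
  have h1 : closure (Subtype.val '' closure {η}) ⊆ closure {(η : X)} := by
    apply closure_minimal _ isClosed_closure
    refine (image_closure_subset_closure_image continuous_subtype_val).trans ?_
    rw [Set.image_singleton]
  have h2 : (η : X) ⤳ y := specializes_iff_mem_closure.mpr (h1 hyη)
  exact hZ h2 (h ⟨hGA hηG, η.2.1⟩)

end Groth.Agent.Lib.helper2.TopB
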