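import Groth.Agent.Lib.Helper7.TorBC
import Mathlib.RingTheory.Flat.Equalizer

/-!
# helper2: flat base change for Tor of modules, as a linear isomorphism
`B ⊗_A Tor^A_n(M, N) ≃ Tor^B_n(B ⊗_A M, B ⊗_A N)` for `B` flat over `A`
-/

universe u

open CategoryTheory TensorProduct

namespace Groth.Agent.Lib.helper2.TorFlat

open Groth.Agent.Lib.helper7

variable (A B : Type u) [CommRing A] [CommRing B] [Algebra A B]
variable (M : Type u) [AddCommGroup M] [Module A M]

/-- naturality of `distribBaseChange` in the second variable. -/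
lemma distrib_naturality {K F : Type u} [AddCommGroup K] [Module A K] [AddCommGroup F]
    [Module A F] (j : K →ₗ[A] F) (x : B ⊗[A] (M ⊗[A] K)) :
    AlgebraTensorModule.distribBaseChange A B M F
        (AlgebraTensorModule.lTensor B B (LinearMap.lTensor M j) x) =
      LinearMap.lTensor (B ⊗[A] M) (LinearMap.baseChange B j)
        (AlgebraTensorModule.distribBaseChange A B M K x) := by
  induction x using TensorProduct.induction_on with
  | zero => simp
  | add x y hx hy => rw [map_add, map_add, hx, hy, map_add, map_add]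
  | tmul b y =>
    induction y using TensorProduct.induction_on with
    | zero => simp
    | add x y hx hy =>
      rw [TensorProduct.tmul_add, map_add, map_add, hx, hy, map_add, map_add]
    | tmul m k =>
      simp [AlgebraTensorModule.distribBaseChange_tmul]

variable [Module.Flat A B]

/-- `B ⊗ ker(M ⊗ j) ≃ ker((B ⊗ M) ⊗_B (B ⊗ j))`. -/
noncomputable def kerEquiv {K F : Type u} [AddCommGroup K] [Module A K] [AddCommGroup F]
    [Module A F] (j : K →ₗ[A] F) :
    B ⊗[A] LinearMap.ker (LinearMap.lTensor M j) ≃ₗ[B]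
      LinearMap.ker (LinearMap.lTensor (B ⊗[A] M) (LinearMap.baseChange B j)) :=
  (LinearMap.tensorKerEquiv B B (LinearMap.lTensor M j)).trans
    (LinearEquiv.ofSubmodules (AlgebraTensorModule.distribBaseChange A B M K) _ _ (by
      ext y
      rw [Submodule.mem_map, LinearMap.mem_ker]
      constructor
      · rintro ⟨x, hx, rfl⟩
        rw [LinearMap.mem_ker] at hx
        have := distrib_naturality A B M j x
        rw [hx, map_zero] at this
        exact this.symm
      · intro hy
        refine ⟨(AlgebraTensorModule.distribBaseChange A B M K).symm y, ?_, by simp⟩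
        rw [LinearMap.mem_ker]
        apply (AlgebraTensorModule.distribBaseChange A B M F).injective
        have := distrib_naturality A B M j
          ((AlgebraTensorModule.distribBaseChange A B M K).symm y)
        rw [this, map_zero]
        simpa using hy))


/-- **Flat base change for Tor**, as a `B`-linear isomorphism. -/
theorem nonempty_baseChange_tor (n : ℕ) : ∀ (N : Type u) [AddCommGroup N] [Module A N],
    Nonempty (B ⊗[A] ((TorAPI.T n (ModuleCat.of A M)).obj (ModuleCat.of A N)) ≃ₗ[B]
      ((TorAPI.T n (ModuleCat.of B (B ⊗[A] M))).obj (ModuleCat.of B (B ⊗[A] N)))) := by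
  induction n using Nat.strong_induction_on with
  | _ n ih =>
  intro N _ _
  obtain ⟨F, _, _, π, hπ, hfree⟩ : ∃ (F : Type u) (_ : AddCommGroup F) (_ : Module A F)
      (π : F →ₗ[A] N), Function.Surjective π ∧ Module.Free A F :=
    ⟨N →₀ A, inferInstance, inferInstance, Finsupp.linearCombination A (id : N → N),
      Finsupp.linearCombination_id_surjective A N, inferInstance⟩
  obtain ⟨K, _, _, j, hj, hex⟩ : ∃ (K : Type u) (_ : AddCommGroup K) (_ : Module A K)
      (j : K →ₗ[A] F), Function.Injective j ∧ Function.Exact j π :=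
    ⟨LinearMap.ker π, inferInstance, inferInstance, (LinearMap.ker π).subtype,
      Submodule.injective_subtype _, LinearMap.exact_subtype_ker_map π⟩
  have hS := ModSES.mkSES_shortExact j π hex hj hπ
  have hex' : Function.Exact (LinearMap.baseChange B j) (LinearMap.baseChange B π) :=
    lTensor_exact B hex hπ
  have hS' := ModSES.mkSES_shortExact (LinearMap.baseChange B j) (LinearMap.baseChange B π) hex'
    (Module.Flat.lTensor_preserves_injective_linearMap j hj) (LinearMap.lTensor_surjective B hπ)
  haveI : Projective (ModSES.mkSES j π hex).X₂ :=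
    (IsProjective.iff_projective (ModuleCat.of A F)).1 (inferInstanceAs (Module.Projective A F))
  haveI : Projective (ModSES.mkSES (LinearMap.baseChange B j) (LinearMap.baseChange B π) hex').X₂ :=
    (IsProjective.iff_projective (ModuleCat.of B (B ⊗[A] F))).1
      (inferInstanceAs (Module.Projective B (B ⊗[A] F)))
  match n, ih with
  | 0, _ =>
    have e₁ : (TorAPI.T 0 (ModuleCat.of A M)).obj (ModuleCat.of A N) ≃ₗ[A] M ⊗[A] N :=
      ((TorAPI.tor0Iso (ModuleCat.of A M)).app (ModuleCat.of A N)).toLinearEquiv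
    have e₂ : (TorAPI.T 0 (ModuleCat.of B (B ⊗[A] M))).obj (ModuleCat.of B (B ⊗[A] N)) ≃ₗ[B]
        (B ⊗[A] M) ⊗[B] (B ⊗[A] N) :=
      ((TorAPI.tor0Iso (ModuleCat.of B (B ⊗[A] M))).app
        (ModuleCat.of B (B ⊗[A] N))).toLinearEquiv
    exact ⟨(LinearEquiv.baseChange A B _ _ e₁).trans
      ((AlgebraTensorModule.distribBaseChange A B M N).trans e₂.symm)⟩
  | 1, _ =>
    obtain ⟨d, hd, hdr⟩ := TorAPI.exists_linearMap_tor_one (ModuleCat.of A M) hS
      (TorAPI.isZero_T_projective _ _ 0)
    obtain ⟨d', hd', hdr'⟩ := TorAPI.exists_linearMap_tor_one (ModuleCat.of B (B ⊗[A] M)) hS'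
      (TorAPI.isZero_T_projective _ _ 0)
    have hdr2 : LinearMap.range d = LinearMap.ker (LinearMap.lTensor M j) := hdr
    have hdr2' : LinearMap.range d' =
        LinearMap.ker (LinearMap.lTensor (B ⊗[A] M) (LinearMap.baseChange B j)) := hdr'
    have e₁ : (TorAPI.T 1 (ModuleCat.of A M)).obj (ModuleCat.of A N) ≃ₗ[A]
        LinearMap.ker (LinearMap.lTensor M j) :=
      (LinearEquiv.ofInjective d hd).trans (LinearEquiv.ofEq _ _ hdr2)
    have e₂ : (TorAPI.T 1 (ModuleCat.of B (B ⊗[A] M))).obj (ModuleCat.of B (B ⊗[A] N)) ≃ₗ[B]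
        LinearMap.ker (LinearMap.lTensor (B ⊗[A] M) (LinearMap.baseChange B j)) :=
      (LinearEquiv.ofInjective d' hd').trans (LinearEquiv.ofEq _ _ hdr2')
    exact ⟨(LinearEquiv.baseChange A B _ _ e₁).trans ((kerEquiv A B M j).trans e₂.symm)⟩
  | (k + 2), ih =>
    obtain ⟨a⟩ := TorAPI.exists_iso_of_isZero (ModuleCat.of A M) hS (k + 1)
      (TorAPI.isZero_T_projective _ _ (k + 1)) (TorAPI.isZero_T_projective _ _ k)
    obtain ⟨a'⟩ := TorAPI.exists_iso_of_isZero (ModuleCat.of B (B ⊗[A] M)) hS' (k + 1)
      (TorAPI.isZero_T_projective _ _ (k + 1)) (TorAPI.isZero_T_projective _ _ k)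
    obtain ⟨h⟩ := ih (k + 1) (by omega) K
    exact ⟨(LinearEquiv.baseChange A B _ _ a.toLinearEquiv).trans (h.trans a'.toLinearEquiv.symm)⟩

end Groth.Agent.Lib.helper2.TorFlat
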