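import Mathlib
import Groth.Prelude.Def_ega3
import Groth.Agent.Lib.Helper2.TpHom

set_option autoImplicit false
universe u
open CategoryTheory CategoryTheory.Limits MonoidalCategory TensorProduct

namespace Groth.Agent.Lib.helper2.TpLib

noncomputable section

section Dedekind
variable {A : Type u} [CommRing A]

lemma torsionFree_iff_ker {W X : Type u} [AddCommGroup W] [AddCommGroup X]
    [Module A W] [Module A X] (l : W →ₗ[A] X) [Module.IsTorsionFree A X] :
    Module.IsTorsionFree A W ↔ Module.IsTorsionFree A (LinearMap.ker l) := by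
  constructor
  · intro h
    exact Function.Injective.moduleIsTorsionFree (LinearMap.ker l).subtype Subtype.val_injective
      (fun r m => rfl)
  · intro h
    refine ⟨fun r hr => ?_⟩
    show Function.Injective (LinearMap.lsmul A W r)
    rw [injective_iff_map_eq_zero]
    intro w hw
    have hw' : r • w = 0 := hw
    have h1 : r • l w = 0 := by rw [← map_smul, hw', map_zero]
    have h2 : l w = 0 := (Module.IsTorsionFree.isSMulRegular hr : IsSMulRegular X r) (by simpa using h1)
    have h3 : r • (⟨w, h2⟩ : LinearMap.ker l) = 0 := Subtype.ext hw'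
    have h4 : (⟨w, h2⟩ : LinearMap.ker l) = 0 :=
      (Module.IsTorsionFree.isSMulRegular hr : IsSMulRegular (LinearMap.ker l) r) (by simpa using h3)
    exact congrArg Subtype.val h4


variable [IsDedekindDomain A] (P : ChainComplex (ModuleCat.{u} A) ℤ)

lemma dedekind_flat_iff_torsionFree (M : Type u) [AddCommGroup M] [Module A M] :
    Module.Flat A M ↔ Module.IsTorsionFree A M :=
  ⟨fun _ => inferInstance, fun _ => inferInstance⟩

lemma dedekind_preservesMono_iff (hP : ∀ i, Module.Flat A (P.X i)) (p : ℤ) :
    (CohIII.TFun P p).PreservesMonomorphisms ↔ Module.Flat A (P.homology p) := by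
  rw [preservesMono_iff_flat_W P hP p, dedekind_flat_iff_torsionFree]
  haveI := hP ((ComplexShape.down ℤ).next p)
  rw [torsionFree_iff_ker (fromW P p), ← dedekind_flat_iff_torsionFree]
  exact (Module.Flat.equiv_iff (homologyEquivKer P p)).symm

/-- S4489 -/
lemma dedekind_main (hP : ∀ i, Module.Flat A (P.X i)) (p q : ℤ) (hpq : q + 1 = p) :
    ((CohIII.TFun P p).PreservesMonomorphisms ↔ Module.Flat A (P.homology p)) ∧
      (((CohIII.TFun P p).PreservesMonomorphisms ∧ (CohIII.TFun P p).PreservesEpimorphisms) ↔
        (Module.Flat A (P.homology p) ∧ Module.Flat A (P.homology q))) := by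
  refine ⟨dedekind_preservesMono_iff P hP p, ?_⟩
  rw [← preservesMono_iff_preservesEpi P hP p q hpq, dedekind_preservesMono_iff P hP p,
    dedekind_preservesMono_iff P hP q]

end Dedekind

end

end Groth.Agent.Lib.helper2.TpLib
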