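import Mathlib
import Groth.Prelude.Def_ega3
import Groth.Agent.Lib.Helper2.TpBC
import Groth.Agent.Lib.Helper2.TpUpTo
import Groth.Agent.Lib.Helper2.TpReduced

set_option autoImplicit false
universe u
open CategoryTheory CategoryTheory.Limits MonoidalCategory TensorProduct

namespace Groth.Agent.Lib.helper2.TpLib

noncomputable section

section S4485
variable {A : Type u} [CommRing A] (P : ChainComplex (ModuleCat.{u} A) ℤ)

/-- S4485 -/
lemma locConst_dRank_of_exact_fp (hP : ∀ i, Module.Flat A (P.X i)) (p : ℤ)
    (hex : (CohIII.TFun P p).PreservesMonomorphisms ∧ (CohIII.TFun P p).PreservesEpimorphisms)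
    (hfp : Module.FinitePresentation A (CohIII.T P p (ModuleCat.of A A))) :
    IsLocallyConstant (CohIII.dRank P p) := by
  have hW' : Module.Flat A (W P (p - 1)) :=
    (preservesMono_iff_flat_W P hP (p - 1)).mp
      ((preservesMono_iff_preservesEpi P hP p (p - 1) (by ring)).mpr hex.2)
  have hW : Module.Flat A (W P p) := (preservesMono_iff_flat_W P hP p).mp hex.1
  haveI : Module.Flat A ((CohIII.TFun P p).obj (ModuleCat.of A A)) :=
    (flat_W_iff_flat_TA P hP p hW').mp hW
  haveI : Module.FinitePresentation A ((CohIII.TFun P p).obj (ModuleCat.of A A)) := hfp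
  have h := Module.isLocallyConstant_rankAtStalk (R := A)
    (M := (CohIII.TFun P p).obj (ModuleCat.of A A))
  have e : CohIII.dRank P p =
      Module.rankAtStalk (R := A) ((CohIII.TFun P p).obj (ModuleCat.of A A)) := by
    funext x
    rw [dRank_eq_finrank_TA P hP p hW' x]
    exact (Module.rankAtStalk_eq x).symm
  rw [e]
  exact h

end S4485

section S4488
variable {A : Type u} [CommRing A] [IsLocalRing A] (P : ChainComplex (ModuleCat.{u} A) ℤ)

lemma dRank_const_of_flat_fp (hP : ∀ i, Module.Flat A (P.X i)) (q : ℤ)
    (hW' : Module.Flat A (W P (q - 1))) (hW : Module.Flat A (W P q))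
    (hfp : Module.FinitePresentation A (CohIII.T P q (ModuleCat.of A A))) (x : PrimeSpectrum A) :
    CohIII.dRank P q x = CohIII.dRank P q (IsLocalRing.closedPoint A) := by
  haveI : Module.Flat A ((CohIII.TFun P q).obj (ModuleCat.of A A)) :=
    (flat_W_iff_flat_TA P hP q hW').mp hW
  haveI : Module.FinitePresentation A ((CohIII.TFun P q).obj (ModuleCat.of A A)) := hfp
  have h := Module.isLocallyConstant_rankAtStalk (R := A)
    (M := (CohIII.TFun P q).obj (ModuleCat.of A A))
  have e : ∀ y, CohIII.dRank P q y =
      Module.rankAtStalk (R := A) ((CohIII.TFun P q).obj (ModuleCat.of A A)) y := by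
    intro y
    rw [dRank_eq_finrank_TA P hP q hW' y]
    exact (Module.rankAtStalk_eq y).symm
  rw [e, e]
  exact forall_of_eventually_closedPoint (h.eventually_eq (IsLocalRing.closedPoint A)) x

/-- S4488 -/
lemma upTo_local_main (hP : ∀ i, Module.Flat A (P.X i)) (i₀ : ℤ)
    (hb : ∀ i < i₀, IsZero (P.X i))
    (hfp : ∀ n : ℤ, Module.FinitePresentation A (CohIII.T P n (ModuleCat.of A A))) (p : ℤ) :
    ((∀ q ≤ p, (CohIII.TFun P q).PreservesMonomorphisms ∧ (CohIII.TFun P q).PreservesEpimorphisms) →
        ∀ (x : PrimeSpectrum A), ∀ q ≤ p, CohIII.dRank P q x = CohIII.dRank P q (IsLocalRing.closedPoint A)) ∧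
      (IsReduced A →
        (∀ x : PrimeSpectrum A, x.asIdeal ∈ minimalPrimes A →
          ∀ q ≤ p, CohIII.dRank P q x = CohIII.dRank P q (IsLocalRing.closedPoint A)) →
        ∀ q ≤ p, (CohIII.TFun P q).PreservesMonomorphisms ∧ (CohIII.TFun P q).PreservesEpimorphisms) := by
  constructor
  · intro h x q hq
    have hW : Module.Flat A (W P q) := (preservesMono_iff_flat_W P hP q).mp (h q hq).1
    have hW' : Module.Flat A (W P (q - 1)) :=
      (preservesMono_iff_flat_W P hP (q - 1)).mp (h (q - 1) (by omega)).1
    exact dRank_const_of_flat_fp P hP q hW' hW (hfp q) x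
  · intro hred h
    have hlow : ∀ q < i₀, Module.Flat A (W P q) := by
      intro q hq
      haveI : Subsingleton (P.X q) := ModuleCat.subsingleton_of_isZero (hb q hq)
      haveI : Subsingleton (W P q) := inferInstance
      infer_instance
    have hW : ∀ n : ℕ, ∀ q : ℤ, q ≤ p → q < i₀ + n → Module.Flat A (W P q) := by
      intro n
      induction n with
      | zero =>
        intro q _ hq
        exact hlow q (by simpa using hq)
      | succ n ih =>
        intro q hqp hq
        have hW' : Module.Flat A (W P (q - 1)) := ih (q - 1) (by omega) (by push_cast at hq; omega)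
        haveI : Module.FinitePresentation A ((CohIII.TFun P q).obj (ModuleCat.of A A)) := hfp q
        haveI : Module.Free A ((CohIII.TFun P q).obj (ModuleCat.of A A)) := by
          apply Groth.Agent.Lib.helper2.RedLocal.free_of_finrank_minimalPrimes
          intro x hx
          rw [← fr_closedPoint]
          have e1 := dRank_eq_finrank_TA P hP q hW' x
          have e2 := dRank_eq_finrank_TA P hP q hW' (IsLocalRing.closedPoint A)
          have e3 := h x hx q hqp
          unfold fr
          rw [← e1, ← e2, e3]
        exact (flat_W_iff_flat_TA P hP q hW').mpr inferInstance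
    have hW' : ∀ q ≤ p, Module.Flat A (W P q) := by
      intro q hq
      exact hW (q - i₀ + 1).toNat q hq (by omega)
    intro q hq
    refine ⟨(preservesMono_iff_flat_W P hP q).mpr (hW' q hq), ?_⟩
    rw [← preservesMono_iff_preservesEpi P hP q (q - 1) (by ring)]
    exact (preservesMono_iff_flat_W P hP (q - 1)).mpr (hW' (q - 1) (by omega))

end S4488

end

end Groth.Agent.Lib.helper2.TpLib
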