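import Mathlib
import Groth.Prelude.Def_ega3
import Groth.Agent.Lib.Helper2.TpArtin

set_option autoImplicit false
universe u
open CategoryTheory CategoryTheory.Limits MonoidalCategory TensorProduct

namespace Groth.Agent.Lib.helper2.TpLib

noncomputable section

section FiniteT
variable {A : Type u} [CommRing A] (P : ChainComplex (ModuleCat.{u} A) ℤ)

lemma subsingleton_T_of_isZero (q : ℤ) (h : IsZero (P.X q)) (M : ModuleCat.{u} A) :
    Subsingleton ((CohIII.TFun P q).obj M) := by
  have h1 : IsZero ((CohIII.tensorObj P M).X q) := (tensorRight M).map_isZero h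
  have h2 : (CohIII.tensorObj P M).ExactAt q := HomologicalComplex.ExactAt.of_isZero h1
  have h3 : IsZero ((CohIII.tensorObj P M).homology q) :=
    (HomologicalComplex.exactAt_iff_isZero_homology _ _).mp h2
  exact ModuleCat.subsingleton_of_isZero h3

lemma finite_T_free (n : ℤ) (hfg : Module.Finite A (CohIII.T P n (ModuleCat.of A A))) (r : ℕ) :
    Module.Finite A ((CohIII.TFun P n).obj (ModuleCat.of A (Fin r → A))) := by
  let f : Fin r → ModuleCat.{u} A := fun _ => ModuleCat.of A A
  let e1 : (CohIII.TFun P n).obj (ModuleCat.of A (Fin r → A)) ≅ (CohIII.TFun P n).obj (⨁ f) :=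
    (CohIII.TFun P n).mapIso (ModuleCat.biproductIsoPi f).symm
  let e2 : (CohIII.TFun P n).obj (⨁ f) ≅ ⨁ fun j => (CohIII.TFun P n).obj (f j) :=
    (CohIII.TFun P n).mapBiproduct f
  let e3 := ModuleCat.biproductIsoPi fun j => (CohIII.TFun P n).obj (f j)
  haveI : Module.Finite A (∀ j, (CohIII.TFun P n).obj (f j)) :=
    Module.Finite.pi (h := fun _ => hfg)
  exact Module.Finite.equiv (e1 ≪≫ e2 ≪≫ e3).toLinearEquiv.symm

lemma finite_of_exact {X₁ X₂ X₃ : Type u} [AddCommGroup X₁] [AddCommGroup X₂] [AddCommGroup X₃]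
    [Module A X₁] [Module A X₂] [Module A X₃] [IsNoetherianRing A]
    (f : X₁ →ₗ[A] X₂) (g : X₂ →ₗ[A] X₃) (hex : Function.Exact f g)
    (h1 : Module.Finite A X₁) (h3 : Module.Finite A X₃) : Module.Finite A X₂ := by
  constructor
  apply Submodule.fg_of_fg_map_of_fg_inf_ker g
  · exact IsNoetherian.noetherian _
  · rw [top_inf_eq, LinearMap.exact_iff.mp hex, LinearMap.range_eq_map]
    exact (Module.Finite.fg_top).map f

variable [IsNoetherianRing A]

lemma finite_T_aux (hP : ∀ i, Module.Flat A (P.X i)) (i₀ : ℤ)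
    (hb : ∀ i < i₀, IsZero (P.X i))
    (hfg : ∀ n : ℤ, Module.Finite A (CohIII.T P n (ModuleCat.of A A))) :
    ∀ (k : ℕ) (n : ℤ), n < i₀ + k → ∀ M : ModuleCat.{u} A, Module.Finite A M →
      Module.Finite A ((CohIII.TFun P n).obj M) := by
  intro k
  induction k with
  | zero =>
    intro n hn M _
    haveI := subsingleton_T_of_isZero P n (hb n (by simpa using hn)) M
    infer_instance
  | succ k ih =>
    intro n hn M hM
    obtain ⟨r, g, hg⟩ := Module.Finite.exists_fin' A M
    let S : ShortComplex (ModuleCat.{u} A) :=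
      ShortComplex.mk (ModuleCat.ofHom (LinearMap.ker g).subtype) (ModuleCat.ofHom g) (by
        ext x
        exact x.2)
    have hS : S.ShortExact := by
      apply ModuleCat.shortComplex_shortExact
      · exact LinearMap.exact_subtype_ker_map g
      · exact Subtype.val_injective
      · exact hg
    have hT := shortExact_tensor P hP S hS
    have hrel : (ComplexShape.down ℤ).Rel n (n - 1) := by simp
    have e3 := hT.homology_exact₃ n (n - 1) hrel
    have hex := (ShortComplex.ShortExact.moduleCat_exact_iff_function_exact _).mp e3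
    have h1 : Module.Finite A ((CohIII.TFun P n).obj (ModuleCat.of A (Fin r → A))) :=
      finite_T_free P n (hfg n) r
    have h3 : Module.Finite A ((CohIII.TFun P (n - 1)).obj (ModuleCat.of A (LinearMap.ker g))) :=
      ih (n - 1) (by push_cast at hn; omega) _ (by
        show Module.Finite A (LinearMap.ker g)
        infer_instance)
    exact finite_of_exact _ _ hex h1 h3

/-- `T_n(M)` is finite for every finite `M`. -/
lemma finite_T (hP : ∀ i, Module.Flat A (P.X i)) (i₀ : ℤ)
    (hb : ∀ i < i₀, IsZero (P.X i))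
    (hfg : ∀ n : ℤ, Module.Finite A (CohIII.T P n (ModuleCat.of A A)))
    (n : ℤ) (M : ModuleCat.{u} A) (hM : Module.Finite A M) :
    Module.Finite A ((CohIII.TFun P n).obj M) := by
  refine finite_T_aux P hP i₀ hb hfg (n - i₀ + 1).toNat n ?_ M hM
  have := Int.self_le_toNat (n - i₀ + 1)
  omega

end FiniteT

end

end Groth.Agent.Lib.helper2.TpLib
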