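import Mathlib
import Groth.Prelude.Def_ega3
import Groth.Agent.Lib.Helper2.TpGeneric
import Groth.Agent.Lib.Helper2.TpFP
import Groth.Agent.Lib.Helper2.TpFinite
import Groth.Agent.Lib.Helper2.TpResExt
import Groth.Agent.S2440

set_option autoImplicit false
universe u
open CategoryTheory CategoryTheory.Limits MonoidalCategory TensorProduct

namespace Groth.Agent.Lib.helper2.TpLib

noncomputable section

section Away
variable {A : Type u} [CommRing A] (P : ChainComplex (ModuleCat.{u} A) ℤ)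

lemma exact_away_of_subset_freeLocus (hP : ∀ i, Module.Flat A (P.X i)) (i₀ : ℤ)
    (hb : ∀ i < i₀, IsZero (P.X i))
    (hfp : ∀ n : ℤ, Module.FinitePresentation A (CohIII.T P n (ModuleCat.of A A))) (N : ℤ) (f : A)
    (hf : ∀ q ∈ Finset.Icc i₀ N, (PrimeSpectrum.basicOpen f : Set (PrimeSpectrum A)) ⊆
      Module.freeLocus A ((CohIII.TFun P q).obj (ModuleCat.of A A))) :
    ∀ p ≤ N,
      (CohIII.TFun (CohIII.bcCx (algebraMap A (Localization.Away f)) P) p).PreservesMonomorphisms ∧
        (CohIII.TFun (CohIII.bcCx (algebraMap A (Localization.Away f)) P) p).PreservesEpimorphisms := by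
  have hPB := flat_bcCx (B := Localization.Away f) P hP
  have hbB : ∀ i < i₀, IsZero ((CohIII.bcCx (algebraMap A (Localization.Away f)) P).X i) := by
    intro i hi
    exact (ModuleCat.extendScalars (algebraMap A (Localization.Away f))).map_isZero (hb i hi)
  rw [upTo_main (CohIII.bcCx (algebraMap A (Localization.Away f)) P) hPB i₀ hbB N]
  intro q hq
  have hflat : Module.Flat (Localization.Away f)
      (Localization.Away f ⊗[A] ((CohIII.TFun P q).obj (ModuleCat.of A A))) := by
    by_cases hq0 : q < i₀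
    · haveI := subsingleton_TA_of_isZero P q (hb q hq0)
      infer_instance
    · haveI : Module.FinitePresentation A ((CohIII.TFun P q).obj (ModuleCat.of A A)) := hfp q
      exact flat_tensor_away_of_subset_freeLocus _ f
        (hf q (Finset.mem_Icc.mpr ⟨not_lt.mp hq0, hq⟩))
  exact Module.Flat.of_linearEquiv (TABcCxFlatEquiv (Localization.Away f) P q)

lemma locConst_away (hP : ∀ i, Module.Flat A (P.X i)) (i₀ : ℤ)
    (hb : ∀ i < i₀, IsZero (P.X i))
    (hfp : ∀ n : ℤ, Module.FinitePresentation A (CohIII.T P n (ModuleCat.of A A))) (N : ℤ) (f : A)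
    (hf : ∀ q ∈ Finset.Icc i₀ N, (PrimeSpectrum.basicOpen f : Set (PrimeSpectrum A)) ⊆
      Module.freeLocus A ((CohIII.TFun P q).obj (ModuleCat.of A A))) (p : ℤ) (hp : p ≤ N) :
    IsLocallyConstant (CohIII.dRank (CohIII.bcCx (algebraMap A (Localization.Away f)) P) p) := by
  have hPB := flat_bcCx (B := Localization.Away f) P hP
  apply locConst_dRank_of_exact_fp _ hPB p (exact_away_of_subset_freeLocus P hP i₀ hb hfp N f hf p hp)
  haveI : Module.FinitePresentation A ((CohIII.TFun P p).obj (ModuleCat.of A A)) := hfp p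
  exact Module.FinitePresentation.of_equiv (TABcCxFlatEquiv (Localization.Away f) P p).symm

lemma exists_open_const (hP : ∀ i, Module.Flat A (P.X i)) (i₀ : ℤ)
    (hb : ∀ i < i₀, IsZero (P.X i))
    (hfp : ∀ n : ℤ, Module.FinitePresentation A (CohIII.T P n (ModuleCat.of A A))) (N : ℤ) (f : A)
    (hf : ∀ q ∈ Finset.Icc i₀ N, (PrimeSpectrum.basicOpen f : Set (PrimeSpectrum A)) ⊆
      Module.freeLocus A ((CohIII.TFun P q).obj (ModuleCat.of A A))) (p : ℤ) (hp : p ≤ N)
    (x : PrimeSpectrum A) (hx : x ∈ PrimeSpectrum.basicOpen f) :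
    ∃ V : Set (PrimeSpectrum A), IsOpen V ∧ x ∈ V ∧ ∀ y ∈ V, CohIII.dRank P p y = CohIII.dRank P p x := by
  have hlc := locConst_away P hP i₀ hb hfp N f hf p hp
  have hemb := PrimeSpectrum.localization_away_isOpenEmbedding (Localization.Away f) f
  have hrange := PrimeSpectrum.localization_away_comap_range (Localization.Away f) f
  have hx' : x ∈ Set.range (PrimeSpectrum.comap (algebraMap A (Localization.Away f))) := by
    rw [hrange]; exact hx
  obtain ⟨x'', rfl⟩ := hx'
  refine ⟨PrimeSpectrum.comap (algebraMap A (Localization.Away f)) ''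
    {y'' | CohIII.dRank (CohIII.bcCx (algebraMap A (Localization.Away f)) P) p y'' =
      CohIII.dRank (CohIII.bcCx (algebraMap A (Localization.Away f)) P) p x''}, ?_, ?_, ?_⟩
  · exact hemb.isOpenMap _ (hlc.isOpen_fiber _)
  · exact ⟨x'', rfl, rfl⟩
  · rintro _ ⟨y'', hy, rfl⟩
    rw [← Groth.Agent.S2440.main P p y'', ← Groth.Agent.S2440.main P p x'']
    exact hy

end Away

section Reduced

lemma minimalPrime_mem_freeLocus {R : Type u} [CommRing R] [IsReduced R] (M : Type u)
    [AddCommGroup M] [Module R M] [Module.FinitePresentation R M] (q : PrimeSpectrum R)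
    (hq : q.asIdeal ∈ minimalPrimes R) : q ∈ Module.freeLocus R M := by
  rw [Module.mem_freeLocus]
  apply free_of_maximalIdeal_eq_bot
  have h := IsLocalization.AtPrime.radical_map_of_mem_minimalPrimes
    (A := Localization.AtPrime q.asIdeal) q.asIdeal ⊥ hq
  rw [Ideal.map_bot] at h
  haveI : IsReduced (Localization.AtPrime q.asIdeal) := inferInstance
  rw [← Localization.AtPrime.map_eq_maximalIdeal, ← h]
  exact (nilradical_eq_zero _)

lemma dense_of_minimalPrimes_subset {R : Type u} [CommRing R] (U : Set (PrimeSpectrum R))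
    (h : ∀ q : PrimeSpectrum R, q.asIdeal ∈ minimalPrimes R → q ∈ U) :
    Dense U := by
  rw [dense_iff_inter_open]
  rintro V hV ⟨x, hx⟩
  obtain ⟨q, hq, hqx⟩ := Ideal.exists_minimalPrimes_le (bot_le : (⊥ : Ideal R) ≤ x.asIdeal)
  haveI : q.IsPrime := hq.1.1
  have hspec : (⟨q, hq.1.1⟩ : PrimeSpectrum R) ⤳ x :=
    (PrimeSpectrum.le_iff_specializes _ _).mp hqx
  exact ⟨⟨q, hq.1.1⟩, hspec.mem_open hV hx, h _ hq⟩

variable {A : Type u} [CommRing A] (P : ChainComplex (ModuleCat.{u} A) ℤ)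

lemma reduced_core [IsNoetherianRing A] [IsReduced A] (hP : ∀ i, Module.Flat A (P.X i)) (i₀ : ℤ)
    (hb : ∀ i < i₀, IsZero (P.X i))
    (hfg : ∀ n : ℤ, Module.Finite A (CohIII.T P n (ModuleCat.of A A))) (N : ℤ) :
    ∃ U : Set (PrimeSpectrum A), IsOpen U ∧
      (∀ q : PrimeSpectrum A, q.asIdeal ∈ minimalPrimes A → q ∈ U) ∧
      ∀ p ≤ N, ∀ x ∈ U, ∃ V : Set (PrimeSpectrum A), IsOpen V ∧ x ∈ V ∧
        ∀ y ∈ V, CohIII.dRank P p y = CohIII.dRank P p x := by
  have hfp : ∀ n : ℤ, Module.FinitePresentation A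
      ((CohIII.TFun P n).obj (ModuleCat.of A A)) := fun n =>
    haveI : Module.Finite A ((CohIII.TFun P n).obj (ModuleCat.of A A)) := hfg n
    Module.finitePresentation_of_finite A _
  refine ⟨⋂ q ∈ Finset.Icc i₀ N, Module.freeLocus A ((CohIII.TFun P q).obj (ModuleCat.of A A)),
    ?_, ?_, ?_⟩
  · apply isOpen_biInter_finset
    intro q _
    haveI := hfp q
    exact Module.isOpen_freeLocus
  · intro q hq
    simp only [Set.mem_iInter]
    intro n _
    haveI := hfp n
    exact minimalPrime_mem_freeLocus _ q hq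
  · intro p hp x hx
    have hopen : IsOpen (⋂ q ∈ Finset.Icc i₀ N,
        Module.freeLocus A ((CohIII.TFun P q).obj (ModuleCat.of A A))) := by
      apply isOpen_biInter_finset
      intro q _
      haveI := hfp q
      exact Module.isOpen_freeLocus
    obtain ⟨_, ⟨f, rfl⟩, hxf, hfU⟩ :=
      PrimeSpectrum.isTopologicalBasis_basic_opens.exists_subset_of_mem_open hx hopen
    refine exists_open_const P hP i₀ hb hfp N f ?_ p hp x hxf
    intro q hq
    refine subset_trans hfU ?_
    intro y hy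
    simp only [Set.mem_iInter] at hy
    exact hy q hq

end Reduced

section Noeth
variable {A : Type u} [CommRing A] [IsNoetherianRing A] (P : ChainComplex (ModuleCat.{u} A) ℤ)

lemma noeth_core (hP : ∀ i, Module.Flat A (P.X i)) (i₀ : ℤ)
    (hb : ∀ i < i₀, IsZero (P.X i))
    (hfg : ∀ n : ℤ, Module.Finite A (CohIII.T P n (ModuleCat.of A A))) (N : ℤ) :
    ∃ U : Set (PrimeSpectrum A), IsOpen U ∧ Dense U ∧
      ∀ p ≤ N, ∀ x ∈ U, ∃ V : Set (PrimeSpectrum A), IsOpen V ∧ x ∈ V ∧
        ∀ y ∈ V, CohIII.dRank P p y = CohIII.dRank P p x := by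
  haveI : IsReduced (A ⧸ nilradical A) :=
    (Ideal.isRadical_iff_quotient_reduced _).mp (Ideal.radical_isRadical _)
  have hhomeo : IsHomeomorph (PrimeSpectrum.comap (algebraMap A (A ⧸ nilradical A))) := by
    apply PrimeSpectrum.isHomeomorph_comap
    · intro x
      refine ⟨1, one_pos, ?_⟩
      rw [pow_one]
      exact Ideal.Quotient.mk_surjective x
    · rw [Ideal.Quotient.algebraMap_eq, Ideal.mk_ker]
  have hP' := flat_bcCx (B := A ⧸ nilradical A) P hP
  have hb' : ∀ i < i₀,
      IsZero ((CohIII.bcCx (algebraMap A (A ⧸ nilradical A)) P).X i) := by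
    intro i hi
    exact (ModuleCat.extendScalars (algebraMap A (A ⧸ nilradical A))).map_isZero (hb i hi)
  have hfg' : ∀ n : ℤ, Module.Finite (A ⧸ nilradical A)
      (CohIII.T (CohIII.bcCx (algebraMap A (A ⧸ nilradical A)) P) n
        (ModuleCat.of (A ⧸ nilradical A) (A ⧸ nilradical A))) := fun n =>
    finite_TA_bcCx (A ⧸ nilradical A) P n
      (finite_T P hP i₀ hb hfg n (ModuleCat.of A (A ⧸ nilradical A))
        (inferInstanceAs (Module.Finite A (A ⧸ nilradical A))))
  obtain ⟨U', hU'o, hU'm, hU'⟩ :=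
    reduced_core (CohIII.bcCx (algebraMap A (A ⧸ nilradical A)) P) hP' i₀ hb' hfg' N
  refine ⟨PrimeSpectrum.comap (algebraMap A (A ⧸ nilradical A)) '' U',
    hhomeo.isOpenMap _ hU'o, ?_, ?_⟩
  · have hd := dense_of_minimalPrimes_subset U' hU'm
    exact hhomeo.surjective.denseRange.dense_image hhomeo.continuous hd
  · rintro p hp _ ⟨x', hx', rfl⟩
    obtain ⟨V', hV'o, hxV', hV'⟩ := hU' p hp x' hx'
    refine ⟨PrimeSpectrum.comap (algebraMap A (A ⧸ nilradical A)) '' V',
      hhomeo.isOpenMap _ hV'o, ⟨x', hxV', rfl⟩, ?_⟩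
    rintro _ ⟨y', hy', rfl⟩
    rw [← Groth.Agent.S2440.main P p y', ← Groth.Agent.S2440.main P p x']
    exact hV' y' hy'

/-- S4487 -/
lemma noeth_main (hP : ∀ i, Module.Flat A (P.X i)) (i₀ : ℤ)
    (hb : ∀ i < i₀, IsZero (P.X i))
    (hfg : ∀ n : ℤ, Module.Finite A (CohIII.T P n (ModuleCat.of A A))) (N : ℤ) :
    ∃ U : Set (PrimeSpectrum A), IsOpen U ∧ Dense U ∧
      ∀ p ≤ N, IsLocallyConstant (fun x : U => CohIII.dRank P p x) := by
  obtain ⟨U, hUo, hUd, hU⟩ := noeth_core P hP i₀ hb hfg N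
  refine ⟨U, hUo, hUd, fun p hp => ?_⟩
  rw [IsLocallyConstant.iff_exists_open]
  intro x
  obtain ⟨V, hVo, hxV, hV⟩ := hU p hp x.1 x.2
  exact ⟨Subtype.val ⁻¹' V, hVo.preimage continuous_subtype_val, hxV, fun y hy => hV y.1 hy⟩

end Noeth

end

end Groth.Agent.Lib.helper2.TpLib
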