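import Mathlib
import Groth.Agent.Lib.Helper2.AusBuch2

/-!
# Localizations of UFDs are UFDs; Picard groups of localizations of regular local rings (helper2)
-/

set_option autoImplicit false
universe u

namespace Groth.Agent.Lib.helper2.UfdLoc

/-- a localization of a UFD (which is a domain) is a UFD -/
theorem ufd_of_isLocalization {A : Type*} [CommRing A] [IsDomain A] [UniqueFactorizationMonoid A]
    (S : Submonoid A) (B : Type*) [CommRing B] [Algebra A B] [IsLocalization S B] [IsDomain B] :
    UniqueFactorizationMonoid B := by
  rw [UniqueFactorizationMonoid.iff_exists_prime_mem_of_isPrime]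
  intro Q hQ0 hQ
  have hS0 : (0 : A) ∉ S := by
    intro h0
    have : IsUnit (algebraMap A B 0) := IsLocalization.map_units B (⟨0, h0⟩ : S)
    rw [map_zero] at this
    exact not_isUnit_zero this
  have hinj : Function.Injective (algebraMap A B) :=
    IsLocalization.injective B (le_nonZeroDivisors_of_noZeroDivisors hS0)
  let q : Ideal A := Q.comap (algebraMap A B)
  haveI : q.IsPrime := Ideal.IsPrime.comap _
  have hq0 : q ≠ ⊥ := by
    intro h
    apply hQ0
    rw [← IsLocalization.map_under S B Q]
    show Ideal.map (algebraMap A B) q = ⊥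
    rw [h, Ideal.map_bot]
  obtain ⟨π, hπq, hπ⟩ := Ideal.IsPrime.exists_mem_prime_of_ne_bot ‹q.IsPrime› hq0
  have hdisj : Disjoint (S : Set A) (q : Set A) :=
    ((IsLocalization.isPrime_iff_isPrime_disjoint S B Q).1 hQ).2
  have hπprime : (Ideal.span {π}).IsPrime := (Ideal.span_singleton_prime hπ.ne_zero).2 hπ
  have hdisj' : Disjoint (S : Set A) (Ideal.span {π} : Set A) :=
    Set.disjoint_of_subset_right ((Ideal.span_singleton_le_iff_mem _).2 hπq) hdisj
  have h1 : ((Ideal.span {π}).map (algebraMap A B)).IsPrime :=
    IsLocalization.isPrime_of_isPrime_disjoint S B _ hπprime hdisj'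
  rw [Ideal.map_span, Set.image_singleton] at h1
  have hne : algebraMap A B π ≠ 0 := fun h => hπ.ne_zero (hinj (by rw [h, map_zero]))
  exact ⟨algebraMap A B π, hπq, (Ideal.span_singleton_prime hne).1 h1⟩

/-- `Pic (R_f) = 0` for a regular local ring `R` -/
theorem subsingleton_pic_away (R : Type u) [CommRing R] [IsRegularLocalRing R] (f : R) :
    Subsingleton (CommRing.Pic (Localization.Away f)) := by
  obtain ⟨hdom, hufd⟩ := Groth.Agent.Lib.helper2.AusBuch.ufd_of_isRegularLocalRing R
  by_cases hf : f = 0
  · subst hf
    haveI : Subsingleton (Localization.Away (0 : R)) :=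
      IsLocalization.subsingleton (M := Submonoid.powers (0 : R)) ⟨1, pow_one 0⟩
    infer_instance
  · haveI : IsDomain (Localization.Away f) :=
      IsLocalization.isDomain_localization (powers_le_nonZeroDivisors_of_noZeroDivisors hf)
    haveI := ufd_of_isLocalization (Submonoid.powers f) (Localization.Away f)
    infer_instance

end Groth.Agent.Lib.helper2.UfdLoc
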