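import Mathlib
import Groth.Agent.Lib.Helper2.CDivLib10

/-!
# helper2: Weil divisors on the spectrum of a Noetherian UFD are principal (S13460)
-/

set_option autoImplicit false
universe u

open AlgebraicGeometry TopologicalSpace CategoryTheory WithZero

namespace Groth.Agent.Lib.helper2.WDivUfd

variable {X : Scheme.{u}} [IsIntegral X] [IsLocallyNoetherian X] [IsAffine X]

/-- the prime ideal of global sections attached to a point -/
noncomputable abbrev P (x : X) : Ideal Γ(X, ⊤) :=
  ((isAffineOpen_top X).primeIdealOf ⟨x, trivial⟩).asIdeal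

instance : IsNoetherianRing Γ(X, ⊤) :=
  IsLocallyNoetherian.component_noetherian (⟨⊤, isAffineOpen_top X⟩ : X.affineOpens)

instance : Nonempty (⊤ : X.Opens) := ⟨⟨genericPoint X, trivial⟩⟩

theorem P_injective {x y : X} (h : P x = P y) : x = y := by
  have h1 := (isAffineOpen_top X).fromSpec_primeIdealOf ⟨x, trivial⟩
  have h2 := (isAffineOpen_top X).fromSpec_primeIdealOf ⟨y, trivial⟩
  have h3 : (isAffineOpen_top X).primeIdealOf ⟨x, trivial⟩ =
      (isAffineOpen_top X).primeIdealOf ⟨y, trivial⟩ := PrimeSpectrum.ext h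
  rw [h3] at h1
  exact h1.symm.trans h2

theorem height_P (x : X) (hx : Order.coheight x = 1) : (P x).height = 1 := by
  letI := TopCat.Presheaf.algebra_section_stalk X.presheaf (⟨x, trivial⟩ : (⊤ : X.Opens))
  haveI : IsLocalization.AtPrime (X.presheaf.stalk x) (P x) :=
    (isAffineOpen_top X).isLocalization_stalk ⟨x, trivial⟩
  have h1 := IsLocalization.AtPrime.ringKrullDim_eq_height (P x) (X.presheaf.stalk x)
  rw [ringKrullDim_stalk_eq_coheight, hx] at h1
  exact_mod_cast h1.symm

theorem eq_of_le {x y : X} (hx : Order.coheight x = 1) (hy : Order.coheight y = 1)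
    (h : P x ≤ P y) : x = y := by
  apply P_injective
  by_contra hne
  have hlt : P x < P y := lt_of_le_of_ne h hne
  have h1 := Ideal.height_strict_mono_of_isPrime_of_isPrime hlt
  rw [height_P x hx, height_P y hy] at h1
  exact lt_irrefl _ h1

variable [UniqueFactorizationMonoid Γ(X, ⊤)]

theorem isNormalScheme : Pi1.IsNormalScheme X := by
  intro x
  letI := TopCat.Presheaf.algebra_section_stalk X.presheaf (⟨x, trivial⟩ : (⊤ : X.Opens))
  haveI : IsLocalization.AtPrime (X.presheaf.stalk x) (P x) :=
    (isAffineOpen_top X).isLocalization_stalk ⟨x, trivial⟩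
  refine ⟨inferInstance, ?_⟩
  exact isIntegrallyClosed_of_isLocalization (R := Γ(X, ⊤)) (X.presheaf.stalk x) (P x).primeCompl
    (Ideal.primeCompl_le_nonZeroDivisors _)

theorem exists_generator (x : X) (hx : Order.coheight x = 1) :
    ∃ π : Γ(X, ⊤), Prime π ∧ P x = Ideal.span {π} := by
  have hne : P x ≠ ⊥ := by
    intro h
    have := height_P x hx
    rw [h, Ideal.height_bot] at this
    exact zero_ne_one this
  obtain ⟨π, hπP, hπ⟩ := Ideal.IsPrime.exists_mem_prime_of_ne_bot inferInstance hne
  refine ⟨π, hπ, ?_⟩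
  have hle : Ideal.span {π} ≤ P x := (Ideal.span_singleton_le_iff_mem _).mpr hπP
  by_contra hne2
  have hlt : Ideal.span {π} < P x := lt_of_le_of_ne hle (Ne.symm hne2)
  haveI : (Ideal.span {π}).IsPrime := (Ideal.span_singleton_prime hπ.ne_zero).mpr hπ
  have hbot : (⊥ : Ideal Γ(X, ⊤)) < Ideal.span {π} :=
    bot_lt_iff_ne_bot.mpr (by rw [Ne, Ideal.span_singleton_eq_bot]; exact hπ.ne_zero)
  have h1 := Ideal.height_strict_mono_of_isPrime_of_isPrime hlt
  have h2 := Ideal.height_strict_mono_of_isPrime_of_isPrime hbot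
  rw [height_P x hx] at h1
  rw [Ideal.height_bot] at h2
  have : (Ideal.span {π}).height = 0 := by
    have := Order.lt_one_iff.mp h1
    exact this
  rw [this] at h2
  exact lt_irrefl _ h2

open Classical in
theorem ordHom_generator (x : X) (hx : Order.coheight x = 1) (π : Γ(X, ⊤)) (hπ : Prime π)
    (hP : P x = Ideal.span {π}) (y : X) (hy : Order.coheight y = 1) :
    X.ordHom y hy (X.germToFunctionField ⊤ π) = if x = y then exp (1 : ℤ) else 1 := by
  classical
  letI := TopCat.Presheaf.algebra_section_stalk X.presheaf (⟨y, trivial⟩ : (⊤ : X.Opens))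
  haveI hloc : IsLocalization.AtPrime (X.presheaf.stalk y) (P y) :=
    (isAffineOpen_top X).isLocalization_stalk ⟨y, trivial⟩
  haveI : Ring.KrullDimLE 1 (X.presheaf.stalk y) := krullDimLE_of_coheight_le hy.le
  rw [← Scheme.algebraMap_germ_eq_germToFunctionField (X := X) (U := ⊤) (x := y) trivial π]
  have halg : algebraMap Γ(X, ⊤) (X.presheaf.stalk y) π = X.presheaf.germ ⊤ y trivial π := rfl
  split_ifs with hxy
  · subst hxy
    haveI := Groth.Agent.Lib.helper2.CDivLib.isDVR_of_coheight_one isNormalScheme x hx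
    have hirr : Irreducible (X.presheaf.germ ⊤ x trivial π) := by
      rw [IsDiscreteValuationRing.irreducible_iff_uniformizer, ← halg,
        ← IsLocalization.AtPrime.map_eq_maximalIdeal (P x) (X.presheaf.stalk x), hP,
        Ideal.map_span, Set.image_singleton]
    exact Ring.ordFrac_irreducible (R := X.presheaf.stalk x) (K := X.functionField) hirr
  · have hπy : π ∉ P y := by
      intro hmem
      apply hxy
      apply eq_of_le hx hy
      rw [hP]
      exact (Ideal.span_singleton_le_iff_mem _).mpr hmem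
    have hunit : IsUnit (X.presheaf.germ ⊤ y trivial π) := by
      rw [← halg]
      exact IsLocalization.map_units (X.presheaf.stalk y) (⟨π, hπy⟩ : (P y).primeCompl)
    exact Ring.ordFrac_of_isUnit (R := X.presheaf.stalk y) (K := X.functionField) hunit

theorem exists_principal (D : X → ℤ) (hD : ∀ x, Order.coheight x ≠ 1 → D x = 0)
    (hfin : {x | D x ≠ 0}.Finite) :
    ∃ f : X.functionField, f ≠ 0 ∧ ∀ x : X, Order.coheight x = 1 → Scheme.ord f x = D x := by
  classical
  have key : ∀ x : X, ∃ g : X.functionField, g ≠ 0 ∧ (Order.coheight x = 1 →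
      ∀ (y : X) (hy : Order.coheight y = 1), X.ordHom y hy g = if x = y then exp (1 : ℤ) else 1) := by
    intro x
    by_cases hx : Order.coheight x = 1
    · obtain ⟨π, hπ, hP⟩ := exists_generator x hx
      refine ⟨X.germToFunctionField ⊤ π, ?_, fun _ y hy => ordHom_generator x hx π hπ hP y hy⟩
      rw [Ne, map_eq_zero_iff _ (Scheme.germToFunctionField_injective X ⊤)]
      exact hπ.ne_zero
    · exact ⟨1, one_ne_zero, fun h => absurd h hx⟩
  choose g hg0 hg using key
  refine ⟨∏ x ∈ hfin.toFinset, g x ^ D x, ?_, ?_⟩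
  · rw [Finset.prod_ne_zero_iff]
    intro x _
    exact zpow_ne_zero _ (hg0 x)
  · intro y hy
    have hf0 : (∏ x ∈ hfin.toFinset, g x ^ D x) ≠ 0 := by
      rw [Finset.prod_ne_zero_iff]
      intro x _
      exact zpow_ne_zero _ (hg0 x)
    rw [Scheme.ord_eq_iff hy hf0, map_prod]
    have h1 : ∀ x ∈ hfin.toFinset, X.ordHom y hy (g x ^ D x) = if x = y then exp (D y) else 1 := by
      intro x hxS
      have hx1 : Order.coheight x = 1 := by
        by_contra h
        exact (hfin.mem_toFinset.mp hxS) (hD x h)
      rw [map_zpow₀, hg x hx1 y hy]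
      split_ifs with hxy
      · subst hxy
        rw [← exp_zsmul, smul_eq_mul, mul_one]
      · exact one_zpow _
    rw [Finset.prod_congr rfl h1, Finset.prod_ite_eq']
    split_ifs with hyS
    · rfl
    · have : D y = 0 := by
        by_contra h
        exact hyS (hfin.mem_toFinset.mpr h)
      rw [this]
      rfl

end Groth.Agent.Lib.helper2.WDivUfd
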