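import Mathlib

/-!
# Witt vectors: `V`-adic congruences and Teichmüller multipliers (helper2)
-/

set_option autoImplicit false
universe u

namespace Groth.Agent.Lib.helper2.WittCyc

open WittVector Function

variable {p : ℕ} [hp : Fact p.Prime]

local notation "𝕎" => WittVector p

section basics

variable {R : Type u} [CommRing R]

/-- the ideal of Witt vectors whose first `m` coefficients vanish -/
noncomputable def VI (m : ℕ) : Ideal (𝕎 R) := RingHom.ker (WittVector.truncate (p := p) (R := R) m)

theorem mem_VI {m : ℕ} {x : 𝕎 R} : x ∈ VI (p := p) m ↔ ∀ i < m, x.coeff i = 0 :=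
  WittVector.mem_ker_truncate m x

theorem eq_zero_of_forall_mem_VI (x : 𝕎 R) (h : ∀ m, x ∈ VI (p := p) m) : x = 0 := by
  ext n
  rw [WittVector.zero_coeff]
  exact (mem_VI.mp (h (n + 1))) n (Nat.lt_succ_self n)

theorem iterate_verschiebung_mem_VI (x : 𝕎 R) {j m : ℕ} (h : m ≤ j) :
    (verschiebung^[j] x) ∈ VI (p := p) m := by
  rw [mem_VI]
  intro i hi
  exact iterate_verschiebung_coeff_eq_zero x (lt_of_lt_of_le hi h)

theorem coeff_iterate_verschiebung_teichmuller (a : R) (j i : ℕ) :
    (verschiebung^[j] (teichmuller p a)).coeff i = if i = j then a else 0 := by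
  rcases lt_or_ge i j with h | h
  · rw [iterate_verschiebung_coeff_eq_zero _ h, if_neg h.ne]
  · obtain ⟨k, rfl⟩ := Nat.exists_eq_add_of_le' h
    rw [iterate_verschiebung_coeff]
    rcases Nat.eq_zero_or_pos k with rfl | hk
    · simp [teichmuller_coeff_zero]
    · rw [teichmuller_coeff_pos p a k hk, if_neg]
      omega

theorem coeff_sum_iterate_verschiebung_teichmuller (a : ℕ → R) (m i : ℕ) :
    (∑ j ∈ Finset.range m, verschiebung^[j] (teichmuller p (a j))).coeff i =
      if i < m then a i else 0 := by
  rw [sum_coeff_eq_coeff_sum]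
  · simp only [coeff_iterate_verschiebung_teichmuller]
    rw [Finset.sum_ite_eq]
    simp
  · intro n
    refine ⟨fun ⟨b, _, hb⟩ ⟨c, _, hc⟩ => ?_⟩
    rw [coeff_iterate_verschiebung_teichmuller] at hb hc
    have h1 : n = b := by by_contra h; exact hb (if_neg h)
    have h2 : n = c := by by_contra h; exact hc (if_neg h)
    exact Subtype.ext (h1.symm.trans h2)

theorem sub_sum_mem_VI (x : 𝕎 R) (m : ℕ) :
    x - ∑ j ∈ Finset.range m, verschiebung^[j] (teichmuller p (x.coeff j)) ∈ VI (p := p) m := by
  rw [VI, RingHom.mem_ker, map_sub, sub_eq_zero]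
  ext i
  rw [WittVector.coeff_truncate, WittVector.coeff_truncate,
    coeff_sum_iterate_verschiebung_teichmuller, if_pos i.2]

theorem map_mem_VI {S : Type u} [CommRing S] (f : R →+* S) {m : ℕ} {x : 𝕎 R}
    (hx : x ∈ VI (p := p) m) : WittVector.map f x ∈ VI (p := p) m := by
  rw [mem_VI] at hx ⊢
  intro i hi
  rw [map_coeff, hx i hi, map_zero]

end basics

section charp

variable {R : Type u} [CommRing R] [CharP R p]

theorem frobenius_teichmuller (a : R) :
    frobenius (teichmuller p a) = teichmuller p (a ^ p) := by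
  rw [frobenius_eq_map_frobenius, map_teichmuller, frobenius_def]

theorem iterate_frobenius_teichmuller (a : R) (j : ℕ) :
    frobenius^[j] (teichmuller p a) = teichmuller p (a ^ p ^ j) := by
  induction j with
  | zero => simp
  | succ j ih => rw [iterate_succ_apply', ih, frobenius_teichmuller, ← pow_mul, pow_succ]

theorem teichmuller_mul_iterate_verschiebung (c : R) (x : 𝕎 R) (j : ℕ) :
    teichmuller p c * verschiebung^[j] x =
      verschiebung^[j] (teichmuller p (c ^ p ^ j) * x) := by
  rw [mul_comm, iterate_verschiebung_mul_left, iterate_frobenius_teichmuller, mul_comm]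

theorem iterate_verschiebung_mul_teichmuller_pow (x : 𝕎 R) (z : R) (j : ℕ) :
    verschiebung^[j] (x * teichmuller p (z ^ p ^ j)) = verschiebung^[j] x * teichmuller p z := by
  rw [iterate_verschiebung_mul_left, iterate_frobenius_teichmuller]

end charp

end Groth.Agent.Lib.helper2.WittCyc
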