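import Mathlib
import Groth.Agent.Lib.Helper2.WittCyc1

/-!
# Witt vectors over weakly `ℓ`-cyclic extensions (helper2), part 2: arithmetic and the multiplier
-/

set_option autoImplicit false
universe u

namespace Groth.Agent.Lib.helper2.WittCyc

open WittVector Function

theorem exists_inv_mod (p ℓ j : ℕ) (hp : p.Prime) (hℓ : 0 < ℓ) (hpℓ : ¬ p ∣ ℓ) :
    ∃ s t : ℕ, 1 ≤ s ∧ s ≤ ℓ ∧ s * p ^ j = 1 + t * ℓ ∧ t ≤ p ^ j := by
  have hpos : 1 ≤ p ^ j := Nat.one_le_pow _ _ hp.pos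
  rcases Nat.lt_or_ge 1 ℓ with h1 | h1
  · have hcop : Nat.Coprime (p ^ j) ℓ :=
      Nat.Coprime.pow_left j ((Nat.Prime.coprime_iff_not_dvd hp).mpr hpℓ)
    obtain ⟨s, hslt, hs1⟩ := Nat.exists_mul_mod_eq_one_of_coprime hcop h1
    have hs0 : s ≠ 0 := by
      intro h0
      rw [h0, Nat.mul_zero, Nat.zero_mod] at hs1
      exact absurd hs1 (by norm_num)
    have hdiv := Nat.div_add_mod (p ^ j * s) ℓ
    rw [hs1] at hdiv
    refine ⟨s, p ^ j * s / ℓ, Nat.one_le_iff_ne_zero.mpr hs0, hslt.le, ?_, ?_⟩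
    · rw [mul_comm s]
      conv_lhs => rw [← hdiv]
      ring
    · have h2 : p ^ j * s / ℓ * ℓ ≤ p ^ j * s := Nat.div_mul_le_self _ _
      have h3 : p ^ j * s < p ^ j * ℓ := Nat.mul_lt_mul_of_pos_left hslt (by omega)
      by_contra hcon
      push Not at hcon
      have h4 : p ^ j * ℓ < p ^ j * s / ℓ * ℓ := Nat.mul_lt_mul_of_pos_right hcon hℓ
      omega
  · have : ℓ = 1 := by omega
    subst this
    exact ⟨1, p ^ j - 1, le_rfl, le_rfl, by omega, by omega⟩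

section multiplier

variable {A B : Type u} [CommRing A] [CommRing B] (f : A →+* B)

theorem pow_mul_eq (z : B) (α : A) (ℓ s t n : ℕ) (hz : z ^ ℓ = f α) (hst : s * n = 1 + t * ℓ)
    (ht : t ≤ n) : f α ^ n * z = f (α ^ (n - t)) * (z ^ s) ^ n := by
  rw [← pow_mul, hst, pow_add, pow_one, mul_comm t ℓ, pow_mul, hz, map_pow]
  have : f α ^ n = f α ^ (n - t) * f α ^ t := by rw [← pow_add, Nat.sub_add_cancel ht]
  rw [this]; ring

end multiplier

end Groth.Agent.Lib.helper2.WittCyc
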