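import Mathlib
import Groth.Agent.Lib.Helper2.WittCyc2

/-!
# Witt vectors over weakly `ℓ`-cyclic extensions (helper2), part 3: the main decomposition

`f : A → B` rings of characteristic `p`, `B = ∑ A y_k` with `y_k ^ ℓ = f (α_k)`, `p ∤ ℓ`,
`c = ∏ α_k`.  Then `[f c] · W(B) ⊆ ∑_{k, s ≤ ℓ} W(A) · [y_k ^ s]`.
-/

set_option autoImplicit false
universe u

namespace Groth.Agent.Lib.helper2.WittCyc

open WittVector Function

variable {p : ℕ} [hp : Fact p.Prime]

local notation "𝕎" => WittVector p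

section main

variable {A B : Type u} [CommRing A] [CommRing B] [CharP A p] [CharP B p] (f : A →+* B)
variable {ι : Type*} [Fintype ι] [DecidableEq ι] (y : ι → B) (α : ι → A) (ℓ : ℕ)

/-- iterated Verschiebung as an additive map -/
noncomputable def Vp (R : Type u) [CommRing R] (j : ℕ) : 𝕎 R →+ 𝕎 R where
  toFun := (verschiebung : 𝕎 R → 𝕎 R)^[j]
  map_zero' := iterate_map_zero (verschiebung : 𝕎 R →+ 𝕎 R) j
  map_add' := iterate_map_add (verschiebung : 𝕎 R →+ 𝕎 R) j

theorem Vp_apply (R : Type u) [CommRing R] (j : ℕ) (x : 𝕎 R) :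
    Vp (p := p) R j x = (verschiebung : 𝕎 R → 𝕎 R)^[j] x := rfl

theorem Vp_succ (R : Type u) [CommRing R] (j : ℕ) (x : 𝕎 R) :
    Vp (p := p) R (j + 1) x = Vp R j (verschiebung x) := by
  rw [Vp_apply, Vp_apply, iterate_succ_apply]

theorem map_Vp (j : ℕ) (x : 𝕎 A) :
    WittVector.map f (Vp (p := p) A j x) = Vp B j (WittVector.map f x) := by
  induction j generalizing x with
  | zero => rfl
  | succ j ih => rw [Vp_succ, Vp_succ, ih, map_verschiebung]

/-- one step of the approximation: subtract Teichmüller representatives and shift -/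
theorem exists_step (hspan : ∀ b : B, ∃ β : ι → A, b = ∑ k, f (β k) * y k) (r : 𝕎 B) :
    ∃ (β : ι → A) (r' : 𝕎 B),
      r = ∑ k, teichmuller p (f (β k) * y k) + verschiebung r' := by
  obtain ⟨β, hβ⟩ := hspan (r.coeff 0)
  set w := r - ∑ k, teichmuller p (f (β k) * y k) with hw
  have hw0 : ∀ i < 1, w.coeff i = 0 := by
    intro i hi
    obtain rfl : i = 0 := by omega
    have h1 : w.coeff 0 = constantCoeff w := rfl
    rw [h1, hw, map_sub, map_sum]
    simp only [constantCoeff_apply, teichmuller_coeff_zero]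
    rw [← hβ, sub_self]
  have h2 := eq_iterate_verschiebung hw0
  refine ⟨β, w.shift 1, ?_⟩
  rw [iterate_one] at h2
  rw [← h2, hw]
  abel

/-- the basic term identity -/
theorem term_eq (c' z : B) (b u : A) (s j : ℕ) (h : c' ^ p ^ j * z = f u * (z ^ s) ^ p ^ j) :
    teichmuller p c' * Vp B j (teichmuller p (f b * z)) =
      WittVector.map f (Vp A j (teichmuller p (b * u))) * teichmuller p (z ^ s) := by
  rw [Vp_apply, teichmuller_mul_iterate_verschiebung, ← map_mul (teichmuller p)]
  have h1 : c' ^ p ^ j * (f b * z) = f (b * u) * (z ^ s) ^ p ^ j := by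
    rw [map_mul, mul_assoc, ← h]; ring
  rw [h1, map_mul (teichmuller p), iterate_verschiebung_mul_teichmuller_pow, map_Vp, map_teichmuller,
    Vp_apply]

theorem exists_decomposition (hℓ : 0 < ℓ) (hpℓ : ¬ p ∣ ℓ) (hy : ∀ k, y k ^ ℓ = f (α k))
    (hspan : ∀ b : B, ∃ β : ι → A, b = ∑ k, f (β k) * y k) (η : 𝕎 B) :
    ∃ X : ι → Fin (ℓ + 1) → 𝕎 A,
      teichmuller p (f (∏ k, α k)) * η =
        ∑ k, ∑ s : Fin (ℓ + 1), WittVector.map f (X k s) * teichmuller p (y k ^ (s : ℕ)) := by
  classical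
  set c := ∏ k, α k with hc
  choose sf tf hs1 hs2 hst ht using fun j => exists_inv_mod p ℓ j hp.out hℓ hpℓ
  choose βs rs hstep using exists_step (p := p) f y hspan
  set r : ℕ → 𝕎 B := fun j => Nat.rec η (fun _ r => rs r) j with hr
  have hr0 : r 0 = η := rfl
  set β : ℕ → ι → A := fun j => βs (r j) with hβ
  have hrj : ∀ j, r j = ∑ k, teichmuller p (f (β j k) * y k) + verschiebung (r (j + 1)) :=
    fun j => hstep (r j)
  set u : ℕ → ι → A :=
    fun j k => (∏ k' ∈ Finset.univ.erase k, α k') ^ p ^ j * α k ^ (p ^ j - tf j) with hu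
  have hcu : ∀ j k, f c ^ p ^ j * y k = f (u j k) * (y k ^ sf j) ^ p ^ j := by
    intro j k
    have h1 := pow_mul_eq f (y k) (α k) ℓ (sf j) (tf j) (p ^ j) (hy k) (hst j) (ht j)
    have h2 : c = (∏ k' ∈ Finset.univ.erase k, α k') * α k := by
      rw [hc, Finset.prod_erase_mul _ _ (Finset.mem_univ k)]
    rw [h2, map_mul, mul_pow, mul_assoc, h1]
    simp only [hu, map_mul, map_pow]
    ring
  set a : ℕ → ι → A := fun j k => β j k * u j k with ha
  set E : ℕ → 𝕎 B := fun j => teichmuller p (f c) * Vp B j (r j) with hE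
  set T : ℕ → 𝕎 B := fun j =>
    ∑ k, WittVector.map f (Vp A j (teichmuller p (a j k))) * teichmuller p (y k ^ sf j) with hT
  have hET : ∀ j, E j = T j + E (j + 1) := by
    intro j
    have h1 : E j = teichmuller p (f c) * Vp B j
        (∑ k, teichmuller p (f (β j k) * y k) + verschiebung (r (j + 1))) := by
      simp only [hE]; rw [← hrj j]
    rw [h1, map_add, map_sum, mul_add, Finset.mul_sum, ← Vp_succ]
    congr 1
    refine Finset.sum_congr rfl fun k _ => ?_
    exact term_eq f (f c) (y k) (β j k) (u j k) (sf j) j (hcu j k)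
  have hsum : ∀ m, teichmuller p (f c) * η = ∑ j ∈ Finset.range m, T j + E m := by
    intro m
    induction m with
    | zero => simp [hE, Vp_apply, hr0]
    | succ m ih => rw [ih, hET m, Finset.sum_range_succ, add_assoc]
  have hEm : ∀ m, E m ∈ VI (p := p) m := fun m =>
    Ideal.mul_mem_left _ _ (iterate_verschiebung_mem_VI _ le_rfl)
  -- the coefficients
  set X : ι → Fin (ℓ + 1) → 𝕎 A :=
    fun k s => WittVector.mk p (fun j => if (s : ℕ) = sf j then a j k else 0) with hX
  refine ⟨X, ?_⟩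
  rw [← sub_eq_zero]
  apply eq_zero_of_forall_mem_VI
  intro m
  -- approximate `X` modulo `V^m`
  set P : ι → Fin (ℓ + 1) → 𝕎 A := fun k s =>
    ∑ j ∈ Finset.range m, Vp A j (teichmuller p ((X k s).coeff j)) with hP
  have hXP : ∀ k s, X k s - P k s ∈ VI (p := p) m := fun k s => sub_sum_mem_VI (X k s) m
  have hPsum : ∑ k, ∑ s : Fin (ℓ + 1), WittVector.map f (P k s) * teichmuller p (y k ^ (s : ℕ)) =
      ∑ j ∈ Finset.range m, T j := by
    have hk : ∀ k, ∑ s : Fin (ℓ + 1), WittVector.map f (P k s) * teichmuller p (y k ^ (s : ℕ)) =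
        ∑ j ∈ Finset.range m,
          WittVector.map f (Vp A j (teichmuller p (a j k))) * teichmuller p (y k ^ sf j) := by
      intro k
      simp only [hP, map_sum, Finset.sum_mul]
      rw [Finset.sum_comm]
      refine Finset.sum_congr rfl fun j _ => ?_
      rw [Finset.sum_eq_single (⟨sf j, Nat.lt_succ_of_le (hs2 j)⟩ : Fin (ℓ + 1))]
      · simp [hX]
      · intro s _ hs
        have : (s : ℕ) ≠ sf j := fun h => hs (Fin.ext h)
        simp [hX, this]
      · intro h; exact absurd (Finset.mem_univ _) h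
    rw [Finset.sum_congr rfl fun k _ => hk k, Finset.sum_comm]
  have hdiff : teichmuller p (f c) * η -
      ∑ k, ∑ s : Fin (ℓ + 1), WittVector.map f (X k s) * teichmuller p (y k ^ (s : ℕ)) =
      E m - ∑ k, ∑ s : Fin (ℓ + 1),
        WittVector.map f (X k s - P k s) * teichmuller p (y k ^ (s : ℕ)) := by
    rw [hsum m, ← hPsum]
    simp only [map_sub, sub_mul, Finset.sum_sub_distrib]
    abel
  rw [hdiff]
  refine Ideal.sub_mem _ (hEm m) ?_
  refine Ideal.sum_mem _ fun k _ => Ideal.sum_mem _ fun s _ => ?_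
  exact Ideal.mul_mem_right _ _ (map_mem_VI f (hXP k s))

end main

end Groth.Agent.Lib.helper2.WittCyc
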