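import Mathlib
import Groth.Agent.Lib.Helper2.WittCyc3

/-!
# Witt vectors over weakly `ℓ`-cyclic extensions (helper2), part 4: the ideal generated by `V^n W(A)`
-/

set_option autoImplicit false
universe u

namespace Groth.Agent.Lib.helper2.WittCyc

open WittVector Function

variable {p : ℕ} [hp : Fact p.Prime]

local notation "𝕎" => WittVector p

section main

variable {A B : Type u} [CommRing A] [CommRing B] [CharP A p] [CharP B p] (f : A →+* B)
variable {ι : Type*} [Fintype ι] [DecidableEq ι] (y : ι → B) (α : ι → A) (ℓ : ℕ)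

theorem teichmuller_mul_mem_span (hℓ : 0 < ℓ) (hpℓ : ¬ p ∣ ℓ) (hy : ∀ k, y k ^ ℓ = f (α k))
    (hspan : ∀ b : B, ∃ β : ι → A, b = ∑ k, f (β k) * y k) (n : ℕ) (η : 𝕎 B) :
    teichmuller p (f ((∏ k, α k) * (∏ k, α k) ^ (ℓ * p ^ n))) *
        ((verschiebung : 𝕎 B → 𝕎 B)^[n] η) ∈
      Ideal.span (Set.range fun x : 𝕎 A =>
        WittVector.map f ((verschiebung : 𝕎 A → 𝕎 A)^[n] x)) := by
  classical
  set c := ∏ k, α k with hc
  set d := c ^ (ℓ * p ^ n) with hd
  set I := Ideal.span (Set.range fun x : 𝕎 A =>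
    WittVector.map f ((verschiebung : 𝕎 A → 𝕎 A)^[n] x)) with hI
  obtain ⟨s', t', hs'1, hs'2, hst', ht'⟩ := exists_inv_mod p ℓ n hp.out hℓ hpℓ
  have key : ∀ (k : ι) (s : Fin (ℓ + 1)), ∃ e : A,
      teichmuller p (f d) * teichmuller p (y k ^ (s : ℕ)) =
        WittVector.map f (teichmuller p e) *
          teichmuller p (((y k ^ (s : ℕ)) ^ s') ^ p ^ n) := by
    intro k s
    have hsl : (s : ℕ) ≤ ℓ := Nat.lt_succ_iff.mp s.2
    have hz : (y k ^ (s : ℕ)) ^ ℓ = f (α k ^ (s : ℕ)) := by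
      rw [← pow_mul, mul_comm, pow_mul, hy k, map_pow]
    have h1 := pow_mul_eq f (y k ^ (s : ℕ)) (α k ^ (s : ℕ)) ℓ s' t' (p ^ n) hz hst' ht'
    have h2 : d = ((∏ k' ∈ Finset.univ.erase k, α k') ^ (ℓ * p ^ n) *
        α k ^ ((ℓ - (s : ℕ)) * p ^ n)) * (α k ^ (s : ℕ)) ^ p ^ n := by
      rw [hd, hc, ← Finset.prod_erase_mul _ _ (Finset.mem_univ k), mul_pow, mul_assoc,
        ← pow_mul, ← pow_add, ← add_mul, Nat.sub_add_cancel hsl]
    refine ⟨((∏ k' ∈ Finset.univ.erase k, α k') ^ (ℓ * p ^ n) *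
        α k ^ ((ℓ - (s : ℕ)) * p ^ n)) * (α k ^ (s : ℕ)) ^ (p ^ n - t'), ?_⟩
    rw [← map_mul (teichmuller p), map_teichmuller, ← map_mul (teichmuller p)]
    congr 1
    rw [h2, map_mul, mul_assoc, map_pow, h1]
    simp only [map_mul, map_pow]
    ring
  choose e he using key
  obtain ⟨X, hX⟩ := exists_decomposition (p := p) f y α ℓ hℓ hpℓ hy hspan η
  set a := c * d with ha
  have hpn : 1 ≤ p ^ n := Nat.one_le_pow _ _ hp.out.pos
  -- rewrite `[f a^(p^n)] η`
  have h1 : teichmuller p (f a ^ p ^ n) * η =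
      ∑ k, ∑ s : Fin (ℓ + 1),
        WittVector.map f (teichmuller p (a ^ (p ^ n - 1)) * X k s * teichmuller p (e k s)) *
          teichmuller p (((y k ^ (s : ℕ)) ^ s') ^ p ^ n) := by
    have h2 : f a ^ p ^ n = f (a ^ (p ^ n - 1)) * f d * f c := by
      rw [← map_pow, ← map_mul, ← map_mul, ha]
      congr 1
      have : (c * d) ^ p ^ n = (c * d) ^ (p ^ n - 1) * (c * d) := by
        rw [← pow_succ, Nat.sub_add_cancel hpn]
      rw [this]; ring
    rw [h2, map_mul (teichmuller p), map_mul (teichmuller p), mul_assoc, hX, Finset.mul_sum]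
    refine Finset.sum_congr rfl fun k _ => ?_
    rw [Finset.mul_sum]
    refine Finset.sum_congr rfl fun s _ => ?_
    have h3 := he k s
    rw [map_mul (WittVector.map f), map_mul (WittVector.map f), map_teichmuller]
    calc teichmuller p (f (a ^ (p ^ n - 1))) * teichmuller p (f d) *
          (WittVector.map f (X k s) * teichmuller p (y k ^ (s : ℕ)))
        = teichmuller p (f (a ^ (p ^ n - 1))) * WittVector.map f (X k s) *
          (teichmuller p (f d) * teichmuller p (y k ^ (s : ℕ))) := by ring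
      _ = _ := by rw [h3]; ring
  rw [teichmuller_mul_iterate_verschiebung, h1, ← Vp_apply, map_sum]
  refine Ideal.sum_mem _ fun k _ => ?_
  rw [map_sum]
  refine Ideal.sum_mem _ fun s _ => ?_
  rw [Vp_apply, iterate_verschiebung_mul_teichmuller_pow, ← Vp_apply, ← map_Vp]
  refine Ideal.mul_mem_right _ _ (Ideal.subset_span
    ⟨teichmuller p (a ^ (p ^ n - 1)) * X k s * teichmuller p (e k s), ?_⟩)
  simp only [Vp_apply]

end main

section final

variable (A B : Type u) [CommRing A] [CommRing B] [IsDomain A] [IsDomain B] [Algebra A B]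
  [CharP A p] [CharP B p]

theorem exists_teichmuller_mul_mem (ℓ n : ℕ) (hℓ : 0 < ℓ) (hpℓ : ¬ p ∣ ℓ)
    (y : Finset B) (hspan : Submodule.span A (y : Set B) = ⊤)
    (hpow : ∀ b ∈ y, b ^ ℓ ∈ Set.range (algebraMap A B)) :
    ∃ a : A, a ≠ 0 ∧ ∀ η : 𝕎 B,
      teichmuller p (algebraMap A B a) * ((verschiebung : 𝕎 B → 𝕎 B)^[n] η) ∈
        Ideal.span (Set.range fun x : 𝕎 A =>
          WittVector.map (algebraMap A B) ((verschiebung : 𝕎 A → 𝕎 A)^[n] x)) := by
  classical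
  set Y := y.filter (fun b => b ≠ 0) with hY
  have hYmem : ∀ k : Y, (k : B) ∈ y ∧ (k : B) ≠ 0 := fun k => Finset.mem_filter.mp k.2
  choose α hα using fun k : Y => hpow (k : B) (hYmem k).1
  have hα0 : ∀ k, α k ≠ 0 := by
    intro k h0
    have h1 := hα k
    rw [h0, map_zero] at h1
    exact (hYmem k).2 (pow_eq_zero_iff hℓ.ne' |>.mp h1.symm)
  have hspan' : ∀ b : B, ∃ β : Y → A, b = ∑ k, algebraMap A B (β k) * (k : B) := by
    intro b
    have hb : b ∈ Submodule.span A (y : Set B) := by rw [hspan]; trivial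
    obtain ⟨φ, -, hφ⟩ := Submodule.mem_span_finset.mp hb
    refine ⟨fun k => φ (k : B), ?_⟩
    rw [← hφ, Finset.sum_coe_sort Y (fun i => algebraMap A B (φ i) * i), hY, Finset.sum_filter]
    refine Finset.sum_congr rfl fun i _ => ?_
    by_cases hi : i = 0
    · simp [hi]
    · rw [if_pos hi, Algebra.smul_def]
  refine ⟨(∏ k, α k) * (∏ k, α k) ^ (ℓ * p ^ n), ?_, ?_⟩
  · have hc : (∏ k, α k) ≠ 0 := Finset.prod_ne_zero_iff.mpr fun k _ => hα0 k
    exact mul_ne_zero hc (pow_ne_zero _ hc)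
  · intro η
    exact teichmuller_mul_mem_span (p := p) (algebraMap A B) (fun k : Y => (k : B)) α ℓ hℓ hpℓ
      (fun k => (hα k).symm) hspan' n η

/-- the vanishing statement (S18588) -/
theorem map_iterate_verschiebung_eq_zero (ℓ n : ℕ) (hℓ : 0 < ℓ) (hpℓ : ¬ p ∣ ℓ)
    (y : Finset B) (hspan : Submodule.span A (y : Set B) = ⊤)
    (hpow : ∀ b ∈ y, b ^ ℓ ∈ Set.range (algebraMap A B))
    (M : Type*) [AddCommGroup M] [Module (𝕎 A) M]
    (hMn : ∀ (x : 𝕎 A) (m : M), ((verschiebung : 𝕎 A → 𝕎 A)^[n] x) • m = 0)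
    (htf : ∀ a : A, a ≠ 0 → ∀ m : M, teichmuller p a • m = 0 → m = 0)
    (ψ : 𝕎 B →+ M)
    (hψ : ∀ (x : 𝕎 A) (w : 𝕎 B), ψ (WittVector.map (algebraMap A B) x * w) = x • ψ w)
    (η : 𝕎 B) : ψ ((verschiebung : 𝕎 B → 𝕎 B)^[n] η) = 0 := by
  obtain ⟨a, ha, hmem⟩ := exists_teichmuller_mul_mem (p := p) A B ℓ n hℓ hpℓ y hspan hpow
  apply htf a ha
  have h1 : teichmuller p a • ψ ((verschiebung : 𝕎 B → 𝕎 B)^[n] η) =
      ψ (teichmuller p (algebraMap A B a) * (verschiebung : 𝕎 B → 𝕎 B)^[n] η) := by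
    rw [← hψ, map_teichmuller]
  rw [h1]
  -- `ψ` kills the ideal
  have hkill : ∀ w ∈ Ideal.span (Set.range fun x : 𝕎 A =>
      WittVector.map (algebraMap A B) ((verschiebung : 𝕎 A → 𝕎 A)^[n] x)),
      ∀ r : 𝕎 B, ψ (r * w) = 0 := by
    intro w hw
    refine Submodule.span_induction (p := fun w _ => ∀ r : 𝕎 B, ψ (r * w) = 0) ?_ ?_ ?_ ?_ hw
    · rintro _ ⟨x, rfl⟩ r
      rw [mul_comm, hψ, hMn]
    · intro r
      rw [mul_zero, map_zero]
    · intro u v _ _ hu hv r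
      rw [mul_add, map_add, hu, hv, add_zero]
    · intro r' u _ hu r
      rw [smul_eq_mul, ← mul_assoc]
      exact hu _
  have := hkill _ (hmem η) 1
  rwa [one_mul] at this

end final

end Groth.Agent.Lib.helper2.WittCyc
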