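import Mathlib
import Groth.Prelude.Def_W4bk4bump814p2PDiff

/-!
# The additivity defect of `x ↦ x^(p^i - 1) dx` (helper2)

Witt addition polynomials `S_j ∈ ℤ[X₀, X₁]` with `X₀^(p^n) + X₁^(p^n) = ∑_{j ≤ n} p^j S_j^(p^(n-j))`,
and the resulting identity `δ_n(x) + δ_n(y) = ∑_{j ≤ n} δ_{n-j}(S_j(x, y))` in Kähler differentials.
-/

set_option autoImplicit false
universe u v

namespace Groth.Agent.Lib.helper2.WittD

open MvPolynomial W4bk4bump814p2

variable (p : ℕ) [hp : Fact p.Prime]

/-- evaluation killing the higher Witt components -/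
noncomputable def ev : MvPolynomial (Fin 2 × ℕ) ℤ →ₐ[ℤ] MvPolynomial (Fin 2) ℤ :=
  aeval (fun bk : Fin 2 × ℕ => if bk.2 = 0 then (X bk.1 : MvPolynomial (Fin 2) ℤ) else 0)

/-- the Witt addition polynomials evaluated on Teichmüller representatives -/
noncomputable def S (j : ℕ) : MvPolynomial (Fin 2) ℤ :=
  ev (wittStructureInt p (X 0 + X 1) j)

theorem ev_rename_wittPolynomial (b : Fin 2) (n : ℕ) :
    ev (rename (Prod.mk b) (wittPolynomial p ℤ n)) = (X b : MvPolynomial (Fin 2) ℤ) ^ p ^ n := by
  rw [ev, aeval_rename, wittPolynomial_eq_sum_C_mul_X_pow, map_sum]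
  rw [Finset.sum_eq_single 0]
  · simp
  · intro i _ hi
    have hpos : p ^ (n - i) ≠ 0 := (pow_pos hp.out.pos _).ne'
    simp [hi, zero_pow hpos]
  · intro h
    exact absurd (Finset.mem_range.mpr (Nat.succ_pos n)) h

theorem witt_identity (n : ℕ) :
    (X 0 : MvPolynomial (Fin 2) ℤ) ^ p ^ n + X 1 ^ p ^ n =
      ∑ j ∈ Finset.range (n + 1), (p : MvPolynomial (Fin 2) ℤ) ^ j * S p j ^ p ^ (n - j) := by
  have h := congrArg ev (wittStructureInt_prop p (X 0 + X 1 : MvPolynomial (Fin 2) ℤ) n)
  rw [map_add, bind₁_X_right, bind₁_X_right, map_add, ev_rename_wittPolynomial,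
    ev_rename_wittPolynomial] at h
  rw [← h, wittPolynomial_eq_sum_C_mul_X_pow, map_sum, map_sum]
  refine Finset.sum_congr rfl fun j _ => ?_
  simp only [map_mul, map_pow, bind₁_X_right, S]
  congr 1
  simp

section universal

/-- `ℤ[X₀, X₁]` -/
local notation "WW" => MvPolynomial (Fin 2) ℤ

theorem nsmul_cancel (n : ℕ) (hn : n ≠ 0) (ω η : Ω[WW⁄ℤ]) (h : n • ω = n • η) : ω = η := by
  let b := KaehlerDifferential.mvPolynomialBasis ℤ (Fin 2)
  apply b.repr.injective
  have h2 := congrArg b.repr h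
  rw [map_nsmul, map_nsmul] at h2
  exact smul_right_injective _ hn h2

theorem D_pow_pow (A : Type v) (K : Type u) [CommRing K] [CommRing A] [Algebra K A] (x : A) (n : ℕ) :
    KaehlerDifferential.D K A (x ^ p ^ n) = (p ^ n) • delta K A p n x := by
  rw [Derivation.leibniz_pow]
  rfl

theorem delta_identity_univ (n : ℕ) :
    delta ℤ WW p n (X 0) + delta ℤ WW p n (X 1) =
      ∑ j ∈ Finset.range (n + 1), delta ℤ WW p (n - j) (S p j) := by
  apply nsmul_cancel (p ^ n) (pow_pos hp.out.pos _).ne'
  have h := congrArg (KaehlerDifferential.D ℤ WW) (witt_identity p n)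
  rw [map_add, D_pow_pow, D_pow_pow, map_sum] at h
  rw [smul_add, h, Finset.smul_sum]
  refine Finset.sum_congr rfl fun j hj => ?_
  have hjn : j ≤ n := Nat.lt_succ_iff.mp (Finset.mem_range.mp hj)
  have hC : (p : WW) ^ j = algebraMap ℤ WW ((p : ℤ) ^ j) := by simp
  rw [hC, Derivation.leibniz, Derivation.map_algebraMap, smul_zero, add_zero, D_pow_pow,
    algebraMap_smul]
  have : (p : ℤ) ^ j * ((p ^ (n - j) : ℕ) : ℤ) = ((p ^ n : ℕ) : ℤ) := by
    push_cast
    rw [← pow_add, Nat.add_sub_cancel' hjn]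
  rw [← Nat.cast_smul_eq_nsmul ℤ (p ^ (n - j)), ← Nat.cast_smul_eq_nsmul ℤ (p ^ n), smul_smul,
    this]

end universal

section transfer

variable (K : Type u) (A : Type v) [CommRing K] [CommRing A] [Algebra K A]

/-- the Witt addition polynomials evaluated at a pair of elements -/
noncomputable def SS (x y : A) (j : ℕ) : A := aeval ![x, y] (S p j)

theorem delta_identity (x y : A) (n : ℕ) :
    delta K A p n x + delta K A p n y =
      ∑ j ∈ Finset.range (n + 1), delta K A p (n - j) (SS p A x y j) := by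
  let f : MvPolynomial (Fin 2) ℤ →ₐ[ℤ] A := aeval ![x, y]
  letI : Algebra (MvPolynomial (Fin 2) ℤ) A := f.toRingHom.toAlgebra
  haveI : IsScalarTower ℤ (MvPolynomial (Fin 2) ℤ) A := IsScalarTower.of_algebraMap_eq fun r => by
    simp [RingHom.algebraMap_toAlgebra]
  have hmap : ∀ (i : ℕ) (w : MvPolynomial (Fin 2) ℤ),
      KaehlerDifferential.map ℤ K (MvPolynomial (Fin 2) ℤ) A (delta ℤ (MvPolynomial (Fin 2) ℤ) p i w) =
        delta K A p i (f w) := by
    intro i w
    unfold delta
    rw [map_smul, KaehlerDifferential.map_D, algebra_compatible_smul A, map_pow]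
    rfl
  have h := congrArg (KaehlerDifferential.map ℤ K (MvPolynomial (Fin 2) ℤ) A) (delta_identity_univ p n)
  rw [map_add, map_sum, hmap, hmap] at h
  simp only [hmap] at h
  have hx : f (X 0) = x := by simp [f]
  have hy : f (X 1) = y := by simp [f]
  rw [hx, hy] at h
  exact h

end transfer

section sigma

variable (K : Type u) (A : Type v) [Field K] [CharP K p] [CommRing A] [Algebra K A]

theorem S_zero : S p 0 = X 0 + X 1 := by
  have h := witt_identity p 0
  simpa using h.symm

theorem SS_zero (x y : A) : SS p A x y 0 = x + y := by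
  simp [SS, S_zero]

theorem delta_zero (i : ℕ) : delta K A p i 0 = 0 := by
  simp [delta]

include K in
theorem natCast_p_eq_zero : (p : A) = 0 := by
  have h2 := congrArg (algebraMap K A) (CharP.cast_eq_zero K p)
  rwa [map_natCast, map_zero] at h2

include K in
theorem neg_one_pow_eq_one (i : ℕ) : (-1 : A) ^ (p ^ i - 1) = 1 := by
  rcases hp.out.eq_two_or_odd' with h2 | hodd
  · have h0 : (2 : A) = 0 := by
      have := natCast_p_eq_zero p K A
      rw [h2] at this
      exact_mod_cast this
    have h1 : (-1 : A) = 1 := by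
      rw [neg_eq_iff_add_eq_zero]
      rw [one_add_one_eq_two, h0]
    rw [h1, one_pow]
  · obtain ⟨k, hk⟩ := hodd.pow (n := i)
    have : p ^ i - 1 = 2 * k := by omega
    rw [this, pow_mul]
    simp

theorem delta_neg (i : ℕ) (x : A) : delta K A p i (-x) = - delta K A p i x := by
  unfold delta
  rw [neg_pow, neg_one_pow_eq_one p K A, one_mul, map_neg, smul_neg]

/-- the subgroup generated by the `δ_j(x)`, `j < i` -/
noncomputable def G (i : ℕ) : AddSubgroup (Ω[A⁄K]) :=
  AddSubgroup.closure (⋃ j ∈ Finset.range i, Set.range (delta K A p j))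

theorem delta_mem_G {i j : ℕ} (hj : j < i) (x : A) : delta K A p j x ∈ G p K A i := by
  apply AddSubgroup.subset_closure
  simp only [Set.mem_iUnion, Finset.mem_range, Set.mem_range, exists_prop]
  exact ⟨j, hj, x, rfl⟩

theorem G_mono {i i' : ℕ} (h : i ≤ i') : G p K A i ≤ G p K A i' := by
  apply AddSubgroup.closure_mono
  intro ω hω
  simp only [Set.mem_iUnion, Finset.mem_range, Set.mem_range, exists_prop] at hω ⊢
  obtain ⟨j, hj, x, rfl⟩ := hω
  exact ⟨j, lt_of_lt_of_le hj h, x, rfl⟩

theorem defect_mem_G (i : ℕ) (x y : A) :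
    delta K A p i (x + y) - delta K A p i x - delta K A p i y ∈ G p K A i := by
  have h := delta_identity p K A x y i
  rw [Finset.sum_range_succ', SS_zero, Nat.sub_zero] at h
  have h2 : delta K A p i (x + y) - delta K A p i x - delta K A p i y =
      - ∑ j ∈ Finset.range i, delta K A p (i - (j + 1)) (SS p A x y (j + 1)) := by
    rw [sub_sub, h]
    abel
  rw [h2]
  apply AddSubgroup.neg_mem
  apply AddSubgroup.sum_mem
  intro j hj
  have hj' := Finset.mem_range.mp hj
  exact delta_mem_G p K A (by omega) _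

theorem sigma_eq_G (i : ℕ) : sigma K A p i = (G p K A i : Set (Ω[A⁄K])) := by
  induction i with
  | zero => simp [G]
  | succ i ih =>
    ext ω
    rw [mem_sigma_succ, ih]
    constructor
    · rintro ⟨x, hx⟩
      have : ω = (ω - delta K A p i x) + delta K A p i x := by abel
      rw [this]
      exact AddSubgroup.add_mem _ (G_mono p K A (Nat.le_succ i) hx)
        (delta_mem_G p K A (Nat.lt_succ_self i) x)
    · intro hω
      simp only [SetLike.mem_coe] at hω ⊢
      refine AddSubgroup.closure_induction (p := fun ω _ => ∃ x : A,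
        ω - delta K A p i x ∈ G p K A i) ?_ ?_ ?_ ?_ hω
      · intro ω hω
        simp only [Set.mem_iUnion, Finset.mem_range, Set.mem_range, exists_prop] at hω
        obtain ⟨j, hj, z, rfl⟩ := hω
        rcases Nat.lt_succ_iff_lt_or_eq.mp hj with hlt | rfl
        · exact ⟨0, by rw [delta_zero, sub_zero]; exact delta_mem_G p K A hlt z⟩
        · exact ⟨z, by rw [sub_self]; exact AddSubgroup.zero_mem _⟩
      · exact ⟨0, by rw [delta_zero, sub_zero]; exact AddSubgroup.zero_mem _⟩
      · rintro ω₁ ω₂ - - ⟨x₁, h₁⟩ ⟨x₂, h₂⟩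
        refine ⟨x₁ + x₂, ?_⟩
        have : ω₁ + ω₂ - delta K A p i (x₁ + x₂) =
            (ω₁ - delta K A p i x₁) + (ω₂ - delta K A p i x₂) -
              (delta K A p i (x₁ + x₂) - delta K A p i x₁ - delta K A p i x₂) := by abel
        rw [this]
        exact AddSubgroup.sub_mem _ (AddSubgroup.add_mem _ h₁ h₂) (defect_mem_G p K A i x₁ x₂)
      · rintro ω - ⟨x, hx⟩
        refine ⟨-x, ?_⟩
        rw [delta_neg]
        have : -ω - -delta K A p i x = -(ω - delta K A p i x) := by abel
        rw [this]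
        exact AddSubgroup.neg_mem _ hx

theorem delta_smul (i : ℕ) (a : K) (x : A) :
    delta K A p i (a • x) = (a ^ p ^ i) • delta K A p i x := by
  unfold delta
  have hpos : 1 ≤ p ^ i := Nat.one_le_pow _ _ hp.out.pos
  rw [smul_pow, Derivation.map_smul, smul_assoc, smul_comm (x ^ (p ^ i - 1)) a, smul_smul,
    ← pow_succ, Nat.sub_add_cancel hpos]

theorem smul_mem_G [PerfectField K] (i : ℕ) (c : K) (ω : Ω[A⁄K]) (hω : ω ∈ G p K A i) :
    c • ω ∈ G p K A i := by
  refine AddSubgroup.closure_induction (p := fun ω _ => c • ω ∈ G p K A i) ?_ ?_ ?_ ?_ hω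
  · intro ω hω
    simp only [Set.mem_iUnion, Finset.mem_range, Set.mem_range, exists_prop] at hω
    obtain ⟨j, hj, z, rfl⟩ := hω
    haveI : PerfectRing K p := PerfectField.toPerfectRing p
    obtain ⟨a, ha⟩ := (bijective_iterateFrobenius K p j).surjective c
    rw [iterateFrobenius_def] at ha
    rw [← ha, ← delta_smul]
    exact delta_mem_G p K A hj _
  · rw [smul_zero]; exact AddSubgroup.zero_mem _
  · rintro ω₁ ω₂ - - h₁ h₂
    rw [smul_add]; exact AddSubgroup.add_mem _ h₁ h₂
  · rintro ω - h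
    rw [smul_neg]; exact AddSubgroup.neg_mem _ h

/-- `Σ^i` as a `K`-submodule -/
noncomputable def sigmaSubmodule [PerfectField K] (i : ℕ) : Submodule K (Ω[A⁄K]) where
  carrier := G p K A i
  add_mem' := AddSubgroup.add_mem _
  zero_mem' := AddSubgroup.zero_mem _
  smul_mem' c _ h := smul_mem_G p K A i c _ h

theorem coe_sigmaSubmodule [PerfectField K] (i : ℕ) :
    (sigmaSubmodule p K A i : Set (Ω[A⁄K])) = sigma K A p i := by
  rw [sigma_eq_G]; rfl

end sigma

end Groth.Agent.Lib.helper2.WittD
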