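import Groth.Prelude.Def_ZClos
import Groth.Agent.Lib.Helper2.AdjIdem
import Mathlib

universe u
open CategoryTheory CategoryTheory.Limits AlgebraicGeometry TopologicalSpace Opposite

namespace Groth.Agent.Lib.helper2.ZClosLib

open ZClos

variable {X : Scheme.{u}}

/-- the colimit injection into `H⁰` -/
noncomputable def inj (Z : Set X) (F : X.Modules) (T : Cl Z) :
    ((diagram Z).obj F).obj T ⟶ (H0 Z).obj F :=
  colimit.ι ((diagram Z).obj F) T

theorem rho_eq (Z : Set X) (F : X.Modules) (T : Cl Z) :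
    rhoApp Z F = toDiagram Z F T ≫ inj Z F T := rhoApp_eq Z F T

theorem inj_map (Z : Set X) (F : X.Modules) {T T' : Cl Z} (f : T ⟶ T') :
    ((diagram Z).obj F).map f ≫ inj Z F T' = inj Z F T :=
  colimit.w ((diagram Z).obj F) f

/-- descent from `H⁰` -/
noncomputable def desc (Z : Set X) (F : X.Modules) (c : Cocone ((diagram Z).obj F)) :
    (H0 Z).obj F ⟶ c.pt :=
  colimit.desc ((diagram Z).obj F) c

theorem inj_desc (Z : Set X) (F : X.Modules) (c : Cocone ((diagram Z).obj F)) (T : Cl Z) :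
    inj Z F T ≫ desc Z F c = c.ι.app T :=
  colimit.ι_desc c T

theorem hom_ext (Z : Set X) (F : X.Modules) {G : X.Modules} (a b : (H0 Z).obj F ⟶ G)
    (h : ∀ T, inj Z F T ≫ a = inj Z F T ≫ b) : a = b :=
  colimit.hom_ext h

theorem isIso_toDiagram_of_isZClosed (Z : Set X) (F : X.Modules) (h : IsZClosed Z F)
    (T : Cl Z) : IsIso (toDiagram Z F T) := by
  have h' : IsIso (rhoApp Z F) := h
  have e := rho_eq Z F T
  have hr : toDiagram Z F T ≫ (inj Z F T ≫ inv (rhoApp Z F)) = 𝟙 F := by
    rw [← Category.assoc, ← e, IsIso.hom_inv_id]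
  exact AdjIdem.isIso_unit_of_retraction (Scheme.Modules.restrictAdjunction T.U.ι) F _ hr

theorem isZClosed_of_isIso_toDiagram (Z : Set X) (F : X.Modules)
    (h : ∀ T : Cl Z, IsIso (toDiagram Z F T)) : IsZClosed Z F := by
  let c : Cocone ((diagram Z).obj F) :=
    { pt := F
      ι :=
        { app := fun T => inv (toDiagram Z F T)
          naturality := fun T T' f => by
            dsimp
            rw [Category.comp_id, IsIso.comp_inv_eq, IsIso.eq_inv_comp, toDiagram_map] } }
  refine ⟨desc Z F c, ?_, ?_⟩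
  · rw [rho_eq Z F ⊥, Category.assoc, inj_desc]
    exact IsIso.hom_inv_id _
  · apply hom_ext
    intro T
    rw [← Category.assoc, inj_desc, Category.comp_id]
    show inv (toDiagram Z F T) ≫ rhoApp Z F = _
    rw [rho_eq Z F T, IsIso.inv_hom_id_assoc]

theorem isZClosed_iff (Z : Set X) (F : X.Modules) :
    IsZClosed Z F ↔ ∀ T : Cl Z, IsIso (toDiagram Z F T) :=
  ⟨isIso_toDiagram_of_isZClosed Z F, isZClosed_of_isIso_toDiagram Z F⟩

end Groth.Agent.Lib.helper2.ZClosLib
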