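import Groth.Agent.Lib.Helper2.ZClosLib

universe u
open CategoryTheory CategoryTheory.Limits AlgebraicGeometry TopologicalSpace Opposite

namespace Groth.Agent.Lib.helper2.ZClosLib

open ZClos

variable {X : Scheme.{u}}

theorem existsUnique_factor (Z : Set X) (F F' : X.Modules) (hF' : IsZClosed Z F') (u : F ⟶ F') :
    ∃! v : (H0 Z).obj F ⟶ F', rhoApp Z F ≫ v = u := by
  have h' : IsIso (rhoApp Z F') := hF'
  refine ⟨(H0 Z).map u ≫ inv (rhoApp Z F'), ?_, fun v hv => ?_⟩
  · have := (rho Z).naturality u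
    dsimp at this ⊢
    rw [← Category.assoc, ← this, Category.assoc, IsIso.hom_inv_id, Category.comp_id]
  · have key : ∀ (v₁ v₂ : (H0 Z).obj F ⟶ F'), rhoApp Z F ≫ v₁ = u → rhoApp Z F ≫ v₂ = u →
        v₁ = v₂ := by
      intro v₁ v₂ h₁ h₂
      apply hom_ext
      intro T
      haveI : IsIso ((Scheme.Modules.restrictAdjunction T.U.ι).unit.app F') :=
        isIso_toDiagram_of_isZClosed Z F' hF' T
      apply AdjIdem.hom_ext_of_unit (Scheme.Modules.restrictAdjunction T.U.ι) F F'
      show toDiagram Z F T ≫ inj Z F T ≫ v₁ = toDiagram Z F T ≫ inj Z F T ≫ v₂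
      rw [← Category.assoc, ← Category.assoc, ← rho_eq, h₁, h₂]
    apply key _ _ hv
    have := (rho Z).naturality u
    dsimp at this ⊢
    rw [← Category.assoc, ← this, Category.assoc, IsIso.hom_inv_id, Category.comp_id]

end Groth.Agent.Lib.helper2.ZClosLib
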