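import Groth.Agent.Lib.Helper2.ZClosLib2
import Groth.Agent.S0484
import Mathlib.CategoryTheory.Abelian.GrothendieckAxioms.Colim

universe u
open CategoryTheory CategoryTheory.Limits AlgebraicGeometry TopologicalSpace Opposite

namespace Groth.Agent.Lib.helper2.ZClosLib

open ZClos

variable {X : Scheme.{u}}

theorem isGrothendieckAbelian (X : Scheme.{u}) : IsGrothendieckAbelian.{u} X.Modules :=
  Groth.Agent.S0484.result (Opens.grothendieckTopology X) X.ringCatSheaf

/-- the constant-to-diagram natural transformation -/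
noncomputable def tau (Z : Set X) (F : X.Modules) :
    (Functor.const (Cl Z)).obj F ⟶ (diagram Z).obj F where
  app T := toDiagram Z F T
  naturality T T' f := by
    dsimp
    rw [Category.id_comp]
    exact (toDiagram_map Z F f).symm

theorem isZPure_of_mono_toDiagram (Z : Set X) (F : X.Modules)
    (h : ∀ T : Cl Z, Mono (toDiagram Z F T)) : IsZPure Z F := by
  haveI : IsGrothendieckAbelian.{u} X.Modules := isGrothendieckAbelian X
  haveI : ∀ T, Mono ((tau Z F).app T) := h
  haveI := NatTrans.mono_of_mono_app (tau Z F)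
  haveI := IsFiltered.isConnected (Cl Z)
  exact colim.map_mono' (tau Z F) (isColimitConstCocone _ _) (colimit.isColimit _) (rhoApp Z F)
    (fun T => by
      change 𝟙 F ≫ rhoApp Z F = toDiagram Z F T ≫ _
      rw [Category.id_comp]
      exact rhoApp_eq Z F T)

theorem isZPure_iff (Z : Set X) (F : X.Modules) :
    IsZPure Z F ↔ ∀ T : Cl Z, Mono (toDiagram Z F T) := by
  refine ⟨fun h T => ?_, isZPure_of_mono_toDiagram Z F⟩
  have h' : Mono (toDiagram Z F T ≫ colimit.ι ((diagram Z).obj F) T) := by
    rw [← rhoApp_eq Z F T]; exact h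
  exact @mono_of_mono _ _ _ _ _ (toDiagram Z F T) (colimit.ι ((diagram Z).obj F) T) h'

end Groth.Agent.Lib.helper2.ZClosLib
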