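import Groth.Agent.Lib.Helper2.ZClosLib3

universe u
open CategoryTheory CategoryTheory.Limits AlgebraicGeometry TopologicalSpace Opposite

namespace Groth.Agent.Lib.helper2.ZClosLib

open ZClos

variable {X : Scheme.{u}}

/-- enlarge the index -/
def Cl.incl {Z Z' : Set X} (h : Z' ⊆ Z) (T : Cl Z') : Cl Z := ⟨T.1, T.2.trans h⟩

theorem toDiagram_incl {Z Z' : Set X} (h : Z' ⊆ Z) (F : X.Modules) (T : Cl Z') :
    toDiagram Z F (Cl.incl h T) = toDiagram Z' F T := rfl

theorem mono_result (Z Z' : Set X) (h : Z' ⊆ Z) (F : X.Modules) :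
    (IsZPure Z F → IsZPure Z' F) ∧ (IsZClosed Z F → IsZClosed Z' F) := by
  constructor
  · intro hF
    rw [isZPure_iff] at hF ⊢
    intro T
    exact hF (Cl.incl h T)
  · intro hF
    rw [isZClosed_iff] at hF ⊢
    intro T
    exact hF (Cl.incl h T)

end Groth.Agent.Lib.helper2.ZClosLib
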