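import Groth.Agent.Lib.Helper2.ZClosLib4
import Mathlib.CategoryTheory.Limits.Preserves.FunctorCategory

universe u
open CategoryTheory CategoryTheory.Limits AlgebraicGeometry TopologicalSpace Opposite

namespace Groth.Agent.Lib.helper2.ZClosLib

open ZClos

variable {X Y : Scheme.{u}}

instance reflectsLimits_toPresheaf (X : Scheme.{u}) :
    ReflectsLimitsOfSize.{u, u} (Scheme.Modules.toPresheaf X) :=
  reflectsLimits_of_reflectsIsomorphisms

/-- restriction commutes with the forgetful functors -/
noncomputable def restrictFunctorToPresheafIso (f : X ⟶ Y) [IsOpenImmersion f] :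
    Scheme.Modules.restrictFunctor f ⋙ Scheme.Modules.toPresheaf X ≅
      Scheme.Modules.toPresheaf Y ⋙ (Functor.whiskeringLeft _ _ _).obj f.opensFunctor.op :=
  Iso.refl _

instance preservesLimits_restrictFunctor (f : X ⟶ Y) [IsOpenImmersion f] :
    PreservesLimitsOfSize.{u, u} (Scheme.Modules.restrictFunctor f) := by
  haveI h1 : PreservesLimitsOfSize.{u, u} (Scheme.Modules.toPresheaf Y) := inferInstance
  haveI h2 : PreservesLimitsOfSize.{u, u}
      ((Functor.whiskeringLeft (Opens ↥X)ᵒᵖ (Opens ↥Y)ᵒᵖ Ab.{u}).obj f.opensFunctor.op) :=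
    whiskeringLeft_preservesLimits _
  haveI h3 : PreservesLimitsOfSize.{u, u} (Scheme.Modules.toPresheaf Y ⋙
      (Functor.whiskeringLeft (Opens ↥X)ᵒᵖ (Opens ↥Y)ᵒᵖ Ab.{u}).obj f.opensFunctor.op) :=
    @comp_preservesLimits _ _ _ _ _ _ _ _ h1 h2
  haveI : PreservesLimitsOfSize.{u, u}
      (Scheme.Modules.restrictFunctor f ⋙ Scheme.Modules.toPresheaf X) :=
    preservesLimits_of_natIso (restrictFunctorToPresheafIso f).symm
  exact preservesLimits_of_reflects_of_preserves _ (Scheme.Modules.toPresheaf X)

end Groth.Agent.Lib.helper2.ZClosLib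

namespace Groth.Agent.Lib.helper2.ZClosLib

open ZClos

variable {X : Scheme.{u}}

instance preservesLimits_resPush (U : X.Opens) : PreservesLimitsOfSize.{u, u} (resPush U) := by
  haveI : PreservesLimitsOfSize.{u, u} (Scheme.Modules.pushforward U.ι) :=
    (Scheme.Modules.restrictAdjunction U.ι).rightAdjoint_preservesLimits
  exact comp_preservesLimits _ _

theorem preservesFiniteLimits_H0 (Z : Set X) : PreservesFiniteLimits (H0 Z) := by
  haveI : IsGrothendieckAbelian.{u} X.Modules := isGrothendieckAbelian X
  haveI : PreservesFiniteLimits (diagram Z) := preservesFiniteLimits_of_evaluation _ fun T => by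
    change PreservesFiniteLimits (resPush T.U)
    infer_instance
  haveI : PreservesFiniteLimits (colim : (Cl Z ⥤ X.Modules) ⥤ X.Modules) := inferInstance
  exact comp_preservesFiniteLimits _ _

end Groth.Agent.Lib.helper2.ZClosLib
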