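import Groth.Agent.Lib.Helper2.ZClosLib8
import Groth.Agent.Lib.Helper2.TopB

universe u
open CategoryTheory CategoryTheory.Limits AlgebraicGeometry TopologicalSpace Opposite

namespace Groth.Agent.Lib.helper2.ZClosLib

open ZClos

variable {X : Scheme.{u}}

theorem section_ext_germ (M : X.Modules) (U : X.Opens) (s t : Γ(M, U))
    (h : ∀ (x : X) (hx : x ∈ U), M.presheaf.germ U x hx s = M.presheaf.germ U x hx t) : s = t :=
  TopCat.Presheaf.section_ext (ModSec.sheaf M) U s t h

/-- the support of a section is closed in its domain -/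
theorem exists_closed_support (M : X.Modules) (U : X.Opens) (s : Γ(M, U)) :
    ∃ C : Set X, IsClosed C ∧ ∀ (x : X) (hx : x ∈ U), x ∈ C ↔ M.presheaf.germ U x hx s ≠ 0 := by
  refine ⟨{x | ∃ hx : x ∈ U, M.presheaf.germ U x hx s = 0}ᶜ, ?_, ?_⟩
  · rw [isClosed_compl_iff, isOpen_iff_forall_mem_open]
    rintro x ⟨hx, h0⟩
    have h1 : M.presheaf.germ U x hx s = M.presheaf.germ U x hx 0 := by rw [h0, map_zero]
    obtain ⟨W, hxW, i₁, i₂, h2⟩ := M.presheaf.germ_eq x hx hx s 0 h1
    refine ⟨W, ?_, W.2, hxW⟩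
    intro z hz
    refine ⟨i₁.le hz, ?_⟩
    rw [← M.presheaf.germ_res_apply i₁ z hz s, h2, map_zero, map_zero]
  · intro x hx
    simp only [Set.mem_compl_iff, Set.mem_ofPred_eq, not_exists]
    exact ⟨fun h => h hx, fun h _ => h⟩

theorem sections_subsingleton_of_isZero (M : X.Modules) (hM : IsZero M) (U : X.Opens)
    (s : Γ(M, U)) : s = 0 := by
  have h : (𝟙 M : M ⟶ M) = 0 := hM.eq_of_src _ _
  have := congrArg (fun φ : M ⟶ M => φ.app U s) h
  exact this

theorem isZero_of_sections_affine (M : X.Modules)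
    (h : ∀ (V : X.affineOpens) (s : Γ(M, V.1)), s = 0) : IsZero M := by
  rw [IsZero.iff_id_eq_zero]
  ext U x
  change x = 0
  apply ModSec.section_ext
  intro W i
  rw [h W (M.presheaf.map i.op x), map_zero]

theorem isZero_H0_iff [IsLocallyNoetherian X] (Z : Set X) (hZ : StableUnderSpecialization Z)
    (F : X.Modules) :
    IsZero ((H0 Z).obj F) ↔ ∀ x : X, x ∉ Z → Subsingleton (F.presheaf.stalk x) := by
  constructor
  · intro h0 x hx
    have hiso := isIso_stalk_rhoApp Z F x hx
    have hinj : Function.Injective ((stalkF X x).map (rhoApp Z F)) :=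
      ((ConcreteCategory.isIso_iff_bijective _).mp hiso).1
    refine ⟨fun a b => ?_⟩
    apply hinj
    obtain ⟨U, hxU, s, rfl⟩ := F.presheaf.exists_germ_eq a
    obtain ⟨U', hxU', s', rfl⟩ := F.presheaf.exists_germ_eq b
    rw [SecColim.stalk_map_germ (rhoApp Z F) U x hxU s,
      SecColim.stalk_map_germ (rhoApp Z F) U' x hxU' s',
      sections_subsingleton_of_isZero _ h0 U ((rhoApp Z F).app U s),
      sections_subsingleton_of_isZero _ h0 U' ((rhoApp Z F).app U' s')]
    exact (map_zero (((H0 Z).obj F).presheaf.germ U x hxU).hom).trans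
      (map_zero (((H0 Z).obj F).presheaf.germ U' x hxU').hom).symm
  · intro h
    apply isZero_of_sections_affine
    intro V a
    let D := (diagram Z).obj F
    let c := colimit.cocone D
    have hc : IsColimit c := colimit.isColimit D
    obtain ⟨T, s, rfl⟩ := SecColim.global_rep D c hc V.1 (isCompact_of_le_affine V) a
    -- view `s` as a section of `F` over `im T.U V`
    let s' : Γ(F, im T.U V.1) := s
    obtain ⟨C, hC, hCs⟩ := exists_closed_support F (im T.U V.1) s'
    have hCZ : C ∩ (im T.U V.1 : Set X) ⊆ Z := by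
      rintro x ⟨hxC, hxV⟩
      by_contra hxZ
      haveI := h x hxZ
      exact (hCs x hxV).mp hxC (Subsingleton.elim _ _)
    have hcl := TopB.closure_subset_of_stable Z hZ _ (im T.U V.1).2 C hC hCZ
    let T₁ : Cl Z := ⟨⟨closure (C ∩ (im T.U V.1 : Set X)), isClosed_closure⟩, hcl⟩
    let T' : Cl Z := T ⊔ T₁
    let f : T ⟶ T' := homOfLE le_sup_left
    have h0 : (D.map f).app V.1 s = 0 := by
      change (resPushMapApp (Cl.U_anti f.le) F).app V.1 s = 0
      rw [resPushMapApp_app]
      refine section_ext_germ F (im T'.U V.1) _ _ ?_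
      intro x hx
      refine Eq.trans ?_ (map_zero (F.presheaf.germ _ x hx).hom).symm
      have hx' : x ∈ im T.U V.1 := resPush_le (Cl.U_anti f.le) V.1 hx
      refine (TopCat.Presheaf.germ_res_apply F.presheaf (trIncl (Cl.U_anti f.le) V.1) x hx s').trans ?_
      by_contra hne
      have hxC : x ∈ C := (hCs x hx').mpr hne
      have hxT' : x ∈ T'.U := by
        have : x ∈ T'.U ⊓ V.1 := (ι_image_preimage T'.U V.1) ▸ hx
        exact this.1
      exact hxT' (Or.inr (subset_closure ⟨hxC, hx'⟩))
    rw [← SecColim.cocone_w_apply D c f V.1 s, h0, map_zero]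
    rfl

end Groth.Agent.Lib.helper2.ZClosLib
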