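import Groth.Agent.Lib.Helper2.ZClosLib10
import Groth.Agent.Lib.Helper7.QCohPushQC

universe u
open CategoryTheory CategoryTheory.Limits AlgebraicGeometry TopologicalSpace Opposite

namespace Groth.Agent.Lib.helper2.ZClosLib

open ZClos Groth.Agent.Lib.helper7

variable {X : Scheme.{u}}

/-- scalar action on `j_* j^* F` -/
theorem resPush_smul (U : X.Opens) (F : X.Modules) (V : X.Opens) (r : Γ(X, V))
    (m : Γ((resPush U).obj F, V)) :
    r • m = ((X.presheaf.map (homOfLE (im_le U V)).op r • (show Γ(F, im U V) from m) :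
      Γ(F, im U V))) := by
  have h := U.ι.app_appIso_inv V
  have h2 : (U.ι.appIso (U.ι ⁻¹ᵁ V)).inv ((U.ι.app V) r) =
      X.presheaf.map (homOfLE (im_le U V)).op r := congr($h r)
  rw [← h2]
  rfl

theorem basicOpen_res_le (U V : X.Opens) (g : Γ(X, V)) :
    X.basicOpen (X.presheaf.map (homOfLE (im_le U V)).op g) ≤ im U (X.basicOpen g) := by
  rw [Scheme.basicOpen_res]
  intro x hx
  exact (mem_im_iff _ _ _).mpr ⟨((mem_im_iff _ _ _).mp hx.1).1, hx.2⟩

theorem im_basicOpen_le (U V : X.Opens) (g : Γ(X, V)) :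
    im U (X.basicOpen g) ≤ X.basicOpen (X.presheaf.map (homOfLE (im_le U V)).op g) := by
  rw [Scheme.basicOpen_res]
  intro x hx
  obtain ⟨h1, h2⟩ := (mem_im_iff _ _ _).mp hx
  exact ⟨(mem_im_iff _ _ _).mpr ⟨h1, X.basicOpen_le g h2⟩, h2⟩

theorem im_mono_right (U : X.Opens) {V W : X.Opens} (h : W ≤ V) : im U W ≤ im U V := by
  intro x hx
  obtain ⟨h1, h2⟩ := (mem_im_iff _ _ _).mp hx
  exact (mem_im_iff _ _ _).mpr ⟨h1, h h2⟩

/-- restriction maps of `j_* j^* F` -/
theorem resPush_res (U : X.Opens) (F : X.Modules) {V W : X.Opens} (h : W ≤ V)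
    (m : Γ((resPush U).obj F, V)) :
    ((resPush U).obj F).presheaf.map (homOfLE h).op m =
      F.presheaf.map (homOfLE (im_mono_right U h)).op (show Γ(F, im U V) from m) := rfl

theorem isQuasicoherent_H0 [IsLocallyNoetherian X] (Z : Set X) (F : X.Modules)
    [F.IsQuasicoherent] : ((H0 Z).obj F).IsQuasicoherent := by
  let D := (diagram Z).obj F
  let c := colimit.cocone D
  have hc : IsColimit c := colimit.isColimit D
  refine QCohLoc.isQuasicoherent_of_loc c.pt ?_ ?_
  · intro V hV g a ha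
    have hVc := isCompact_of_le_affine (X := X) ⟨V, hV⟩
    obtain ⟨T, s, rfl⟩ := SecColim.global_rep D c hc V hVc a
    rw [SecColim.ι_res_apply] at ha
    obtain ⟨T₁, f₁, h₁⟩ := SecColim.global_zero D c hc (X.basicOpen g)
      (hVc _ (X.basicOpen_le g)) T _ ha
    rw [← ModSec.map_app_apply] at h₁
    let s₁ : Γ(F, im T₁.U V) := (D.map f₁).app V s
    let g₁ : Γ(X, im T₁.U V) := X.presheaf.map (homOfLE (im_le T₁.U V)).op g
    have h₁' : F.presheaf.map (homOfLE (im_mono_right T₁.U (X.basicOpen_le g))).op s₁ = 0 := h₁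
    have h2 : F.presheaf.map (homOfLE (X.basicOpen_le g₁)).op s₁ = 0 := by
      have := congrArg (F.presheaf.map (homOfLE (basicOpen_res_le T₁.U V g)).op) h₁'
      rw [map_zero, ModSec.res_comp _ _ _ (homOfLE (X.basicOpen_le g₁))] at this
      exact this
    obtain ⟨n, hn⟩ := exists_pow_smul_eq_zero_of_isCompact F (hVc _ (im_le _ _)) g₁ s₁ h2
    refine ⟨n, ?_⟩
    have h3 : (g ^ n) • ((D.map f₁).app V s) = 0 := by
      refine (resPush_smul T₁.U F V (g ^ n) ((D.map f₁).app V s)).trans ?_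
      rw [map_pow]
      exact hn
    rw [← SecColim.cocone_w_apply D c f₁ V s, ← Scheme.Modules.Hom.app_smul, h3, map_zero]
  · intro V hV g t
    have hVc := isCompact_of_le_affine (X := X) ⟨V, hV⟩
    obtain ⟨T, s, rfl⟩ := SecColim.global_rep D c hc (X.basicOpen g)
      (fun W hW => hVc W (hW.trans (X.basicOpen_le g))) t
    let V₁ : X.Opens := im T.U V
    let g₁ : Γ(X, V₁) := X.presheaf.map (homOfLE (im_le T.U V)).op g
    let s' : Γ(F, im T.U (X.basicOpen g)) := s
    let s₀ : Γ(F, X.basicOpen g₁) := F.presheaf.map (homOfLE (basicOpen_res_le T.U V g)).op s'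
    have hqs : IsQuasiSeparated (V₁ : Set X) :=
      hV.isQuasiSeparated.of_subset (im_le T.U V)
    obtain ⟨n, σ, hσ⟩ := exists_pow_smul_eq_map_of_isCompact_of_isQuasiSeparated F
      (hVc _ (im_le _ _)) hqs g₁ s₀
    let a : Γ(D.obj T, V) := σ
    refine ⟨n, (c.ι.app T).app V a, ?_⟩
    rw [SecColim.ι_res_apply, ← Scheme.Modules.Hom.app_smul]
    congr 1
    -- equality in Γ(D_T, D(g)) = Γ(F, im T.U D(g))
    refine (resPush_res T.U F (X.basicOpen_le g) a).trans ?_
    refine Eq.trans ?_ (resPush_smul T.U F (X.basicOpen g) _ s).symm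
    -- restrict hσ along im T.U D(g) ≤ basicOpen g₁
    have h4 := congrArg (F.presheaf.map (homOfLE (im_basicOpen_le T.U V g)).op) hσ
    rw [ModSec.res_comp _ _ _ (homOfLE (im_mono_right T.U (X.basicOpen_le g))),
      Scheme.Modules.map_smul] at h4
    refine h4.trans ?_
    congr 1
    · rw [map_pow, map_pow]
      congr 1
      change X.presheaf.map _ (X.presheaf.map _ (X.presheaf.map _ g)) =
        X.presheaf.map _ (X.presheaf.map _ g)
      rw [← ConcreteCategory.comp_apply, ← ConcreteCategory.comp_apply,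
        ← ConcreteCategory.comp_apply, ← Functor.map_comp, ← Functor.map_comp, ← Functor.map_comp]
      rfl
    · change F.presheaf.map _ (F.presheaf.map _ s') = s'
      rw [ModSec.res_comp _ _ _ (𝟙 _), ModSec.res_id]

end Groth.Agent.Lib.helper2.ZClosLib
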