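import Mathlib
import Groth.Agent.Lib.Helper2.ZPt9

/-!
# `(S₂)` for the `Z^(2)`-closure (helper2)
-/

set_option autoImplicit false
universe u
open CategoryTheory CategoryTheory.Limits AlgebraicGeometry TopologicalSpace Opposite
open Groth.Agent.Lib.helper16.CohFinite Groth.Agent.Lib.helper16.CohStalk
open Groth.Agent.Lib.helper26.Depth RingTheory.Sequence

namespace Groth.Agent.Lib.helper2.ZPt

open ZClos ZClosLib Hartogs

variable {X : Scheme.{u}}

theorem stableUnderSpecialization_dimGe (n : ℕ) : StableUnderSpecialization (dimGe X n) := by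
  intro x y hxy hx
  change (n : WithBot ℕ∞) ≤ ringKrullDim (X.presheaf.stalk y)
  have hx' : (n : WithBot ℕ∞) ≤ ringKrullDim (X.presheaf.stalk x) := hx
  rw [ringKrullDim_stalk_eq_coheight] at hx' ⊢
  refine hx'.trans ?_
  exact_mod_cast Order.coheight_anti (Scheme.le_iff_specializes.mpr hxy)

theorem withBot_enat_le_zero_of (a : WithBot ℕ∞) (h2 : ¬ (2 : WithBot ℕ∞) ≤ a) (h1 : a ≠ 1) :
    a ≤ 0 := by
  induction a using WithBot.recBotCoe with
  | bot => exact bot_le
  | coe n =>
    induction n using ENat.recTopCoe with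
    | top => exact absurd le_top h2
    | coe k =>
      have h2' : ¬ 2 ≤ k := fun h => h2 (by
        have h3 : ((2 : ℕ) : ℕ∞) ≤ (k : ℕ∞) := by exact_mod_cast h
        exact WithBot.coe_le_coe.mpr h3)
      have h1' : k ≠ 1 := fun h => h1 (by exact_mod_cast congrArg (fun k : ℕ => ((k : ℕ∞) : WithBot ℕ∞)) h)
      have : k = 0 := by omega
      subst this
      exact le_rfl

/-- S5860 -/
theorem hasS2_H0_dimGeTwo [IsLocallyNoetherian X] (F : X.Modules) (hF : Coh.IsCoh F)
    (hass : ∀ x ∈ AssSch.Ass F, ringKrullDim (X.presheaf.stalk x) ≠ 1)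
    (hH : Coh.IsCoh ((H0 (dimGe X 2)).obj F)) (x : X) :
    min (2 : WithBot ℕ∞) (Module.supportDim (X.presheaf.stalk x)
        (((H0 (dimGe X 2)).obj F).presheaf.stalk x)) ≤
      ((LocCoh.depth (X.presheaf.stalk x) (((H0 (dimGe X 2)).obj F).presheaf.stalk x) : ℕ∞) :
        WithBot ℕ∞) := by
  let Z := dimGe X 2
  have hZ : StableUnderSpecialization Z := stableUnderSpecialization_dimGe 2
  let F' := (H0 Z).obj F
  by_cases hx : x ∈ Z
  · have h2 := depth_H0_ge_two Z hZ F hH x hx
    refine (min_le_left _ _).trans ?_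
    have h3 : ((2 : ℕ∞) : WithBot ℕ∞) ≤
        ((LocCoh.depth (X.presheaf.stalk x) (F'.presheaf.stalk x) : ℕ∞) : WithBot ℕ∞) :=
      WithBot.coe_le_coe.mpr h2
    exact h3
  · have hx2 : ¬ (2 : WithBot ℕ∞) ≤ ringKrullDim (X.presheaf.stalk x) := hx
    have hle : Module.supportDim (X.presheaf.stalk x) (F'.presheaf.stalk x) ≤
        ringKrullDim (X.presheaf.stalk x) := Module.supportDim_le_ringKrullDim _ _
    by_cases h1 : ringKrullDim (X.presheaf.stalk x) = 1
    · -- depth ≥ 1
      have hnot : x ∉ AssSch.Ass F := fun h => hass x h h1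
      have hbij := isZClosedAt_of_notMem Z F x hx
      let e : F.presheaf.stalk x ≃ₗ[X.presheaf.stalk x] F'.presheaf.stalk x :=
        LinearEquiv.ofBijective (stalkLin (rhoApp Z F) x) hbij
      haveI : Module.Finite (X.presheaf.stalk x) (F'.presheaf.stalk x) :=
        finite_stalk_of_isCoh F' hH x
      have hd : (1 : ℕ∞) ≤ LocCoh.depth (X.presheaf.stalk x) (F'.presheaf.stalk x) := by
        apply one_le_depth_of_not_isAssociatedPrime
        intro h
        exact hnot (IsAssociatedPrime.map_of_injective (f := e.symm.toLinearMap) h e.symm.injective)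
      refine (min_le_right _ _).trans (hle.trans ?_)
      rw [h1]
      have h3 : ((1 : ℕ∞) : WithBot ℕ∞) ≤
          ((LocCoh.depth (X.presheaf.stalk x) (F'.presheaf.stalk x) : ℕ∞) : WithBot ℕ∞) :=
        WithBot.coe_le_coe.mpr hd
      exact h3
    · have h0 := withBot_enat_le_zero_of _ hx2 h1
      refine (min_le_right _ _).trans (hle.trans (h0.trans ?_))
      have h3 : ((0 : ℕ∞) : WithBot ℕ∞) ≤
          ((LocCoh.depth (X.presheaf.stalk x) (F'.presheaf.stalk x) : ℕ∞) : WithBot ℕ∞) :=
        WithBot.coe_le_coe.mpr bot_le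
      exact h3

end Groth.Agent.Lib.helper2.ZPt
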