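import Mathlib
import Groth.Agent.Lib.Helper2.ZPt6
import Groth.Agent.Lib.Helper2.StalkBij

/-!
# The open locus where a coherent module with coherent `Z`-closure is `Z`-closed (helper2)
-/

set_option autoImplicit false
universe u
open CategoryTheory CategoryTheory.Limits AlgebraicGeometry TopologicalSpace Opposite
open Groth.Agent.Lib.helper16.CohFinite

namespace Groth.Agent.Lib.helper2.ZPt

open ZClos ZClosLib Hartogs

variable {X : Scheme.{u}} [IsLocallyNoetherian X]

/-- ZL -/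
theorem isZClosed_restrict_of_forall (Z : Set X) (hZ : StableUnderSpecialization Z)
    (F : X.Modules) (hF : Coh.IsCoh F) (V : X.Opens) (h : ∀ x ∈ V, IsZClosedAt Z F x) :
    IsZClosed (V.ι.base ⁻¹' Z) ((Scheme.Modules.restrictFunctor V.ι).obj F) := by
  haveI : F.IsQuasicoherent := hF.1
  rw [isZClosed_iff]
  intro T'
  apply ModSec.isIso_of_bijective_affine
  intro W'
  obtain ⟨T, hT⟩ := exists_Cl_of_restrict Z hZ V T' W'.1
  have hW : IsAffineOpen (V.ι ''ᵁ W'.1) := W'.2.image_of_isOpenImmersion V.ι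
  have hWV : V.ι ''ᵁ W'.1 ≤ V := by
    rintro _ ⟨y, -, rfl⟩; exact y.2
  haveI : IsNoetherianRing Γ(X, V.ι ''ᵁ W'.1) := IsLocallyNoetherian.component_noetherian ⟨_, hW⟩
  have hfin : Module.Finite Γ(X, V.ι ''ᵁ W'.1) Γ(F, V.ι ''ᵁ W'.1) := finite_sections_of_isCoh F hF hW
  have this := bijective_res_of_depth F hW hfin (im T.U (V.ι ''ᵁ W'.1)) (im_le _ _)
    (fun y hyW hyT => by
      have hyZ : y ∈ Z := by
        apply T.2
        by_contra hyT'
        exact hyT ((mem_im_iff _ _ _).mpr ⟨hyT', hyW⟩)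
      exact depth_ge_two_of_isZClosedAt F Z hZ hF y (h y (hWV hyW)) y specializes_rfl hyZ)
  rw [toDiagram_app]
  change Function.Bijective (F.presheaf.map
    ((V.ι.opensFunctor.map (homOfLE (im_le T'.U W'.1)))).op)
  exact (res_bij_iff_of_eq F hT _ _).mp this

omit [IsLocallyNoetherian X] in
theorem bijective_res_of_isZClosed_restrict (Z : Set X) (F : X.Modules) (V : X.Opens)
    (h : IsZClosed (V.ι.base ⁻¹' Z) ((Scheme.Modules.restrictFunctor V.ι).obj F))
    (T : Cl Z) (W₀ : X.Opens) (hW₀ : W₀ ≤ V) :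
    Function.Bijective (F.presheaf.map (homOfLE (im_le T.U W₀)).op) := by
  obtain ⟨T', W', e1, e2⟩ := exists_Cl_restrict Z V T W₀ hW₀
  have := (ModSec.isIso_iff_bijective_app _).mp ((isZClosed_iff _ _).mp h T') W'
  rw [toDiagram_app] at this
  change Function.Bijective (F.presheaf.map
    ((V.ι.opensFunctor.map (homOfLE (im_le T'.U W')))).op) at this
  exact (res_bij_iff_of_eq₂ F e1 e2 _ _).mp this

/-- LZ -/
theorem isZClosedAt_of_isZClosed_restrict (Z : Set X) (F : X.Modules) (V : X.Opens)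
    (h : IsZClosed (V.ι.base ⁻¹' Z) ((Scheme.Modules.restrictFunctor V.ι).obj F))
    (x : X) (hx : x ∈ V) : IsZClosedAt Z F x := by
  have key := bijective_res_of_isZClosed_restrict Z F V h
  have hpure : IsZPureAt Z F x := by
    apply isZPureAt_of_forall
    intro V' hxV' m T hm
    let W₀ : X.Opens := V'.1 ⊓ V
    have hxW₀ : x ∈ W₀ := ⟨hxV', hx⟩
    have h0 : F.presheaf.map (homOfLE (inf_le_left : W₀ ≤ V'.1)).op m = 0 := by
      apply (key T W₀ inf_le_right).1
      rw [map_zero, ModSec.res_comp _ _ _ (homOfLE ((im_le T.U W₀).trans inf_le_left))]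
      have := congrArg (F.presheaf.map (homOfLE (im_mono (le_refl T.U)
        (inf_le_left : W₀ ≤ V'.1))).op) hm
      rw [map_zero, ModSec.res_comp _ _ _ (homOfLE ((im_le T.U W₀).trans inf_le_left))] at this
      exact this
    refine (TopCat.Presheaf.germ_res_apply F.presheaf (homOfLE (inf_le_left : W₀ ≤ V'.1)) x hxW₀
      m).symm.trans ?_
    rw [h0]
    exact map_zero _
  apply isZClosedAt_of_forall Z F x hpure
  intro V' hxV' T t
  let W₀ : X.Opens := V'.1 ⊓ V
  have hxW₀ : x ∈ W₀ := ⟨hxV', hx⟩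
  obtain ⟨m', hm'⟩ := (key T W₀ inf_le_right).2
    (F.presheaf.map (homOfLE (im_mono (le_refl T.U) (inf_le_left : W₀ ≤ V'.1))).op t)
  exact ⟨W₀, inf_le_left, hxW₀, T, le_rfl, m', hm'⟩

/-- S5859 -/
theorem exists_open_isZClosedAt (Z : Set X) (hZ : StableUnderSpecialization Z) (F : X.Modules)
    (hF : Coh.IsCoh F) (hH : Coh.IsCoh ((H0 Z).obj F)) :
    ∃ U : X.Opens, (U : Set X) = {x | ∀ x' : X, x' ⤳ x → x' ∈ Z →
        (2 : ℕ∞) ≤ LocCoh.depth (X.presheaf.stalk x') (F.presheaf.stalk x')} ∧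
      (U : Set X)ᶜ ⊆ Z ∧
      IsZClosed (U.ι.base ⁻¹' Z) ((Scheme.Modules.restrictFunctor U.ι).obj F) ∧
      ∀ V : X.Opens, IsZClosed (V.ι.base ⁻¹' Z) ((Scheme.Modules.restrictFunctor V.ι).obj F) →
        V ≤ U := by
  have hopen : IsOpen {x : X | IsZClosedAt Z F x} :=
    StalkBij.isOpen_setOf_bijective_stalk hF hH (rhoApp Z F)
  let U : X.Opens := ⟨{x : X | IsZClosedAt Z F x}, hopen⟩
  refine ⟨U, ?_, ?_, ?_, ?_⟩
  · ext x
    constructor
    · intro hx x' hx' hx'Z
      exact depth_ge_two_of_isZClosedAt F Z hZ hF x hx x' hx' hx'Z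
    · intro hx
      exact isZClosedAt_of_depth Z F hF x hx
  · intro x hx
    by_contra hxZ
    exact hx (isZClosedAt_of_notMem Z F x hxZ)
  · exact isZClosed_restrict_of_forall Z hZ F hF U (fun x hx => hx)
  · intro V hV x hx
    exact isZClosedAt_of_isZClosed_restrict Z F V hV x hx

end Groth.Agent.Lib.helper2.ZPt
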