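import Mathlib
import Groth.Agent.Lib.Helper2.ZPt10
import Groth.Agent.Lib.Helper2.ZPt7

/-!
# The `(S₂)` locus of a coherent module with coherent `Z^(2)`-closure (helper2)
-/

set_option autoImplicit false
universe u
open CategoryTheory CategoryTheory.Limits AlgebraicGeometry TopologicalSpace Opposite
open Groth.Agent.Lib.helper16.CohFinite Groth.Agent.Lib.helper16.CohStalk
open Groth.Agent.Lib.helper16.QCohAss
open Groth.Agent.Lib.helper26.Depth RingTheory.Sequence

namespace Groth.Agent.Lib.helper2.ZPt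

open ZClos ZClosLib Hartogs

/-- low-dimensional case of `(S₂)` -/
theorem s2_of_dim_lt_two {R : Type u} [CommRing R] [IsNoetherianRing R] [IsLocalRing R]
    (M : Type u) [AddCommGroup M] [Module R M] [Module.Finite R M]
    (h2 : ¬ (2 : WithBot ℕ∞) ≤ ringKrullDim R)
    (h1 : ringKrullDim R = 1 → ¬ IsAssociatedPrime (IsLocalRing.maximalIdeal R) M) :
    min (2 : WithBot ℕ∞) (Module.supportDim R M) ≤ ((LocCoh.depth R M : ℕ∞) : WithBot ℕ∞) := by
  have hle : Module.supportDim R M ≤ ringKrullDim R := Module.supportDim_le_ringKrullDim _ _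
  by_cases h : ringKrullDim R = 1
  · have hd := one_le_depth_of_not_isAssociatedPrime M (h1 h)
    refine (min_le_right _ _).trans (hle.trans ?_)
    rw [h]
    have h3 : ((1 : ℕ∞) : WithBot ℕ∞) ≤ ((LocCoh.depth R M : ℕ∞) : WithBot ℕ∞) :=
      WithBot.coe_le_coe.mpr hd
    exact h3
  · have h0 := withBot_enat_le_zero_of _ h2 h
    refine (min_le_right _ _).trans (hle.trans (h0.trans ?_))
    have h3 : ((0 : ℕ∞) : WithBot ℕ∞) ≤ ((LocCoh.depth R M : ℕ∞) : WithBot ℕ∞) :=
      WithBot.coe_le_coe.mpr bot_le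
    exact h3

variable {X : Scheme.{u}}

/-- a coherent module all of whose stalks are nonzero has full support in each local ring -/
theorem support_stalk_eq_univ [IsLocallyNoetherian X] (F : X.Modules) (hF : Coh.IsCoh F)
    (hsupp : ∀ x : X, Nontrivial (F.presheaf.stalk x)) (z : X) :
    Module.support (X.presheaf.stalk z) (F.presheaf.stalk z) = Set.univ := by
  haveI : F.IsQuasicoherent := hF.1
  haveI : Module.Finite (X.presheaf.stalk z) (F.presheaf.stalk z) := finite_stalk_of_isCoh F hF z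
  obtain ⟨V, hV, hzV, -⟩ := exists_isAffineOpen_mem_and_subset (x := z) (U := ⊤) trivial
  haveI : IsNoetherianRing Γ(X, V) := IsLocallyNoetherian.component_noetherian ⟨V, hV⟩
  haveI hfin : Module.Finite Γ(X, V) Γ(F, V) := finite_sections_of_isCoh F hF hV
  letI := TopCat.Presheaf.algebra_section_stalk X.presheaf (⟨z, hzV⟩ : V)
  haveI : IsLocalization.AtPrime (X.presheaf.stalk z) (hV.primeIdealOf ⟨z, hzV⟩).asIdeal :=
    hV.isLocalization_stalk ⟨z, hzV⟩
  have halg : ∀ a : Γ(X, V), algebraMap Γ(X, V) (X.presheaf.stalk z) a =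
      (X.presheaf.germ V z hzV).hom a := fun _ => rfl
  ext 𝔓
  simp only [Set.mem_univ, iff_true]
  rw [Module.mem_support_iff_of_finite]
  intro s hs
  by_contra hs𝔓
  -- reduce to s = germ a
  obtain ⟨⟨a, c⟩, hac⟩ := IsLocalization.surj (hV.primeIdealOf ⟨z, hzV⟩).asIdeal.primeCompl s
  have hcu : IsUnit (algebraMap Γ(X, V) (X.presheaf.stalk z) c.1) :=
    IsLocalization.map_units _ c
  have ha𝔓 : algebraMap Γ(X, V) (X.presheaf.stalk z) a ∉ 𝔓.asIdeal := by
    rw [← hac]
    intro hmem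
    rcases 𝔓.isPrime.mem_or_mem hmem with h | h
    · exact hs𝔓 h
    · exact 𝔓.isPrime.ne_top (Ideal.eq_top_of_isUnit_mem _ h hcu)
  have haann : ∀ m : F.presheaf.stalk z, (X.presheaf.germ V z hzV).hom a • m = 0 := by
    intro m
    rw [← halg, ← hac, mul_comm, mul_smul, Module.mem_annihilator.mp hs, smul_zero]
  -- the prime 𝔯
  let 𝔯 : PrimeSpectrum Γ(X, V) :=
    ⟨𝔓.asIdeal.comap (algebraMap Γ(X, V) (X.presheaf.stalk z)), inferInstance⟩
  have ha𝔯 : a ∉ 𝔯.asIdeal := ha𝔓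
  have h𝔯𝔭 : 𝔯.asIdeal ≤ (hV.primeIdealOf ⟨z, hzV⟩).asIdeal := by
    intro b hb
    by_contra hb𝔭
    have hu : IsUnit (algebraMap Γ(X, V) (X.presheaf.stalk z) b) :=
      IsLocalization.map_units _ (⟨b, hb𝔭⟩ : (hV.primeIdealOf ⟨z, hzV⟩).asIdeal.primeCompl)
    exact 𝔓.isPrime.ne_top (Ideal.eq_top_of_isUnit_mem _ hb hu)
  -- kill a • N
  obtain ⟨g, hg, hgK⟩ := StalkBij.exists_notMem_forall_smul_eq_zero
    (hV.primeIdealOf ⟨z, hzV⟩).asIdeal
    (Submodule.map (LinearMap.lsmul Γ(X, V) Γ(F, V) a) ⊤)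
    (Submodule.FG.map _ Module.Finite.fg_top) (by
      rintro _ ⟨n, -, rfl⟩
      apply ker_germ F hV z hzV
      change F.presheaf.germ V z hzV (a • n) = 0
      refine (germ_smul' F V z hzV a n).trans (haann _))
  have hgan : ∀ n : Γ(F, V), (g * a) • n = 0 := fun n => by
    rw [mul_smul]
    exact hgK _ ⟨n, Submodule.mem_top, rfl⟩
  have hga𝔯 : g * a ∉ 𝔯.asIdeal := by
    intro hmem
    rcases 𝔯.isPrime.mem_or_mem hmem with h | h
    · exact hg (h𝔯𝔭 h)
    · exact ha𝔯 h
  -- the point z'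
  let z' : X := ptOf hV 𝔯
  have hz'V : z' ∈ V := ptOf_mem hV 𝔯
  have hprime : hV.primeIdealOf ⟨z', hz'V⟩ = 𝔯 := Hartogs.primeIdealOf_fromSpec hV 𝔯
  obtain ⟨y, hy⟩ := exists_ne (0 : F.presheaf.stalk z')
  obtain ⟨c, n, hc, hcn⟩ := surj_germ F hV z' hz'V y
  have hunit : ∀ b : Γ(X, V), b ∉ 𝔯.asIdeal → IsUnit ((X.presheaf.germ V z' hz'V).hom b) :=
    fun b hb => isUnit_germ_of_mem_basicOpen z' hz'V b
      ((Groth.Agent.Lib.helper28.mem_basicOpen_iff hV z' hz'V b).2 (by rw [hprime]; exact hb))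
  have h1 : F.presheaf.germ V z' hz'V n = 0 := by
    have h2 := congrArg (F.presheaf.germ V z' hz'V) (hgan n)
    rw [map_zero] at h2
    have h3 : (X.presheaf.germ V z' hz'V).hom (g * a) • F.presheaf.germ V z' hz'V n = 0 :=
      (germ_smul' F V z' hz'V (g * a) n).symm.trans h2
    exact (hunit _ hga𝔯).smul_eq_zero.mp h3
  rw [h1] at hcn
  have hc' : c ∉ 𝔯.asIdeal := by rw [← hprime]; exact hc
  exact hy ((hunit c hc').smul_eq_zero.mp hcn)

theorem supportDim_stalk_eq [IsLocallyNoetherian X] (F : X.Modules) (hF : Coh.IsCoh F)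
    (hsupp : ∀ x : X, Nontrivial (F.presheaf.stalk x)) (z : X) :
    Module.supportDim (X.presheaf.stalk z) (F.presheaf.stalk z) =
      ringKrullDim (X.presheaf.stalk z) := by
  rw [Module.supportDim, support_stalk_eq_univ F hF hsupp z]
  exact Order.krullDim_eq_of_orderIso OrderIso.Set.univ

/-- pointwise `(S₂)` in terms of depth on `Z^(2)` -/
theorem s2_iff [IsLocallyNoetherian X] (F : X.Modules) (hF : Coh.IsCoh F)
    (hsupp : ∀ x : X, Nontrivial (F.presheaf.stalk x))
    (hass : ∀ x ∈ AssSch.Ass F, ringKrullDim (X.presheaf.stalk x) ≠ 1) (z : X) :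
    min (2 : WithBot ℕ∞) (Module.supportDim (X.presheaf.stalk z) (F.presheaf.stalk z)) ≤
        ((LocCoh.depth (X.presheaf.stalk z) (F.presheaf.stalk z) : ℕ∞) : WithBot ℕ∞) ↔
      (z ∈ dimGe X 2 → (2 : ℕ∞) ≤ LocCoh.depth (X.presheaf.stalk z) (F.presheaf.stalk z)) := by
  haveI : Module.Finite (X.presheaf.stalk z) (F.presheaf.stalk z) := finite_stalk_of_isCoh F hF z
  constructor
  · intro h hz
    have hz' : (2 : WithBot ℕ∞) ≤ ringKrullDim (X.presheaf.stalk z) := hz
    rw [supportDim_stalk_eq F hF hsupp z, min_eq_left hz'] at h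
    exact WithBot.coe_le_coe.mp h
  · intro h
    by_cases hz : z ∈ dimGe X 2
    · refine (min_le_left _ _).trans ?_
      have h3 : ((2 : ℕ∞) : WithBot ℕ∞) ≤
          ((LocCoh.depth (X.presheaf.stalk z) (F.presheaf.stalk z) : ℕ∞) : WithBot ℕ∞) :=
        WithBot.coe_le_coe.mpr (h hz)
      exact h3
    · exact s2_of_dim_lt_two _ hz (fun h1 hassz => hass z hassz h1)

/-- S5861 -/
theorem isOpen_S2_locus [IsLocallyNoetherian X] (F : X.Modules) (hF : Coh.IsCoh F)
    (hsupp : ∀ x : X, Nontrivial (F.presheaf.stalk x))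
    (hass : ∀ x ∈ AssSch.Ass F, ringKrullDim (X.presheaf.stalk x) ≠ 1)
    (hH : Coh.IsCoh ((H0 (dimGe X 2)).obj F)) :
    IsOpen {x : X | ∀ x' : X, x' ⤳ x →
        min (2 : WithBot ℕ∞) (Module.supportDim (X.presheaf.stalk x') (F.presheaf.stalk x')) ≤
          ((LocCoh.depth (X.presheaf.stalk x') (F.presheaf.stalk x') : ℕ∞) : WithBot ℕ∞)} ∧
      ∀ x : X, (¬ ∀ x' : X, x' ⤳ x →
        min (2 : WithBot ℕ∞) (Module.supportDim (X.presheaf.stalk x') (F.presheaf.stalk x')) ≤
          ((LocCoh.depth (X.presheaf.stalk x') (F.presheaf.stalk x') : ℕ∞) : WithBot ℕ∞)) →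
        (2 : WithBot ℕ∞) ≤ ringKrullDim (X.presheaf.stalk x) := by
  let Z := dimGe X 2
  have hZ : StableUnderSpecialization Z := stableUnderSpecialization_dimGe 2
  have key : ∀ x : X, (∀ x' : X, x' ⤳ x →
        min (2 : WithBot ℕ∞) (Module.supportDim (X.presheaf.stalk x') (F.presheaf.stalk x')) ≤
          ((LocCoh.depth (X.presheaf.stalk x') (F.presheaf.stalk x') : ℕ∞) : WithBot ℕ∞)) ↔
      IsZClosedAt Z F x := by
    intro x
    constructor
    · intro h
      apply isZClosedAt_of_depth Z F hF x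
      intro x' hx' hx'Z
      exact (s2_iff F hF hsupp hass x').mp (h x' hx') hx'Z
    · intro h x' hx'
      exact (s2_iff F hF hsupp hass x').mpr
        (fun hx'Z => depth_ge_two_of_isZClosedAt F Z hZ hF x h x' hx' hx'Z)
  constructor
  · have hopen : IsOpen {x : X | IsZClosedAt Z F x} :=
      StalkBij.isOpen_setOf_bijective_stalk hF hH (rhoApp Z F)
    convert hopen using 1
    ext x
    exact key x
  · intro x hx
    by_contra hxZ
    exact hx ((key x).mpr (isZClosedAt_of_notMem Z F x hxZ))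

end Groth.Agent.Lib.helper2.ZPt
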